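import Cfsg.Agent.Lib.Helper28.S1681.Defs

set_option autoImplicit false
set_option maxRecDepth 100000
set_option linter.all false

namespace Cfsg.Agent.Helper28.S1681

open Cfsg.Agent.Helper28
open Cfsg.Spor.Suz (Gen)

noncomputable section

abbrev kb := Pt.mk
abbrev xb0 := D1.c0
abbrev xb1 := D1.c1
abbrev xb2 := D1.c2
abbrev xb3 := D1.c3
abbrev xb4 := D1.c4
abbrev xb5 := D1.c5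
abbrev xb6 := D1.c6
abbrev xb7 := D1.c7
abbrev xb8 := D1.c8
abbrev xb9 := D1.c9
abbrev xb10 := D1.c10
abbrev xb11 := D1.c11
abbrev xb12 := D1.c12
abbrev xb13 := D1.c13
abbrev xb14 := D1.c14
abbrev xb15 := D1.c15
abbrev xb16 := D1.c16
abbrev xb17 := D1.c17
abbrev xb18 := D1.c18
abbrev xb19 := D1.c19
abbrev xb20 := D1.c20
abbrev xb21 := D1.c21
abbrev yb0 := D2.c0
abbrev yb1 := D2.c1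
abbrev yb2 := D2.c2
abbrev yb3 := D2.c3
abbrev yb4 := D2.c4
abbrev yb5 := D2.c5
abbrev yb6 := D2.c6
abbrev yb7 := D2.c7
abbrev yb8 := D2.c8
abbrev yb9 := D2.c9
abbrev yb10 := D2.c10
abbrev yb11 := D2.c11
abbrev yb12 := D2.c12
abbrev yb13 := D2.c13
abbrev yb14 := D2.c14
abbrev yb15 := D2.c15
abbrev yb16 := D2.c16
abbrev yb17 := D2.c17
abbrev yb18 := D2.c18
abbrev yb19 := D2.c19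
abbrev yb20 := D2.c20
abbrev yb21 := D2.c21
abbrev yb22 := D2.c22
abbrev yb23 := D2.c23
abbrev yb24 := D2.c24
abbrev yb25 := D2.c25
abbrev zb0 := D3.c0
abbrev zb1 := D3.c1
abbrev zb2 := D3.c2
abbrev zb3 := D3.c3
abbrev zb4 := D3.c4
abbrev zb5 := D3.c5
abbrev zb6 := D3.c6
abbrev zb7 := D3.c7
abbrev zb8 := D3.c8
abbrev zb9 := D3.c9
abbrev zb10 := D3.c10
abbrev zb11 := D3.c11
abbrev zb12 := D3.c12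
abbrev zb13 := D3.c13
abbrev zb14 := D3.c14
abbrev zb15 := D3.c15
abbrev zb16 := D3.c16
abbrev zb17 := D3.c17
abbrev zb18 := D3.c18
abbrev zb19 := D3.c19
abbrev zb20 := D3.c20
abbrev zb21 := D3.c21
abbrev zb22 := D3.c22
abbrev zb23 := D3.c23
abbrev zb24 := D3.c24
abbrev zb25 := D3.c25
abbrev zb26 := D3.c26
abbrev zb27 := D3.c27
abbrev zb28 := D3.c28
abbrev zb29 := D3.c29
abbrev zb30 := D3.c30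
abbrev zb31 := D3.c31
abbrev zb32 := D3.c32
abbrev zb33 := D3.c33
abbrev zb34 := D3.c34
abbrev zb35 := D3.c35
abbrev zb36 := D3.c36
abbrev zb37 := D3.c37
abbrev zb38 := D3.c38
abbrev zb39 := D3.c39
def f_b_0 : D2 → D3 → Pt := @D2.rec (fun _ => D3 → Pt) (@D3.rec (fun _ => Pt) (kb xb0 yb0 zb0) (kb xb0 yb0 zb1) (kb xb0 yb0 zb2) (kb xb0 yb0 zb4) (kb xb0 yb0 zb3) (kb xb0 yb0 zb7) (kb xb0 yb0 zb11) (kb xb0 yb0 zb5) (kb xb0 yb0 zb8) (kb xb0 yb0 zb9) (kb xb0 yb0 zb16) (kb xb0 yb0 zb6) (kb xb0 yb0 zb22) (kb xb0 yb0 zb29) (kb xb0 yb0 zb30) (kb xb0 yb0 zb15) (kb xb0 yb0 zb10) (kb xb0 yb0 zb17) (kb xb0 yb0 zb18) (kb xb0 yb0 zb39) (kb xb0 yb1 zb0) (kb xb0 yb0 zb21) (kb xb0 yb0 zb12) (kb xb0 yb1 zb8) (kb xb0 yb1 zb10) (kb xb0 yb1 zb12) (kb xb0 yb1 zb5) (kb xb0 yb1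 zb19) (kb xb0 yb1 zb20) (kb xb0 yb0 zb13) (kb xb0 yb0 zb14) (kb xb0 yb0 zb31) (kb xb0 yb0 zb32) (kb xb0 yb1 zb33) (kb xb0 yb1 zb35) (kb xb0 yb0 zb35) (kb xb0 yb0 zb36) (kb xb0 yb1 zb39) (kb xb0 yb2 zb0) (kb xb0 yb0 zb19)) (@D3.rec (fun _ => Pt) (kb xb0 yb0 zb20) (kb xb0 yb1 zb1) (kb xb0 yb2 zb11) (kb xb0 yb2 zb12) (kb xb0 yb2 zb13) (kb xb0 yb0 zb26) (kb xb0 yb2 zb20) (kb xb0 yb2 zb22) (kb xb0 yb0 zb23) (kb xb0 yb2 zb25) (kb xb0 yb0 zb24) (kb xb0 yb2 zb27) (kb xb0 yb0 zb25) (kb xb0 yb2 zb29) (kb xb0 yb2 zb30) (kb xb0 yb2 zb39) (kb xb0 yb3 zb0) (kb xb0 yb3 zb1) (kb xb0 yb3 zb2) (kb xb0 yb0 zb27) (kb xb0 yb0 zb28) (kb xb0 yb3 zb9) (kb xb0 yb1 zb22) (kb xb0 yb2 zb6) (kb xb0 yb3 zb12) (kb xb0 yb1 zb25) (kb xb0 yb2 zb3) (kb xb0 yb1 zb27) (kb xb0 yb3 zb18)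 (kb xb0 yb3 zb20) (kb xb0 yb1 zb30) (kb xb0 yb3 zb25) (kb xb0 yb3 zb27) (kb xb0 yb0 zb33) (kb xb0 yb3 zb30) (kb xb0 yb0 zb34) (kb xb0 yb3 zb32) (kb xb0 yb3 zb33) (kb xb0 yb3 zb34) (kb xb0 yb0 zb37)) (@D3.rec (fun _ => Pt) (kb xb0 yb0 zb38) (kb xb0 yb3 zb11) (kb xb0 yb2 zb2) (kb xb0 yb1 zb26) (kb xb0 yb3 zb14) (kb xb0 yb2 zb5) (kb xb0 yb1 zb23) (kb xb0 yb4 zb7) (kb xb0 yb2 zb8) (kb xb0 yb4 zb14) (kb xb0 yb4 zb15) (kb xb0 yb1 zb2) (kb xb0 yb1 zb3) (kb xb0 yb1 zb4) (kb xb0 yb4 zb17) (kb xb0 yb4 zb18) (kb xb0 yb4 zb27) (kb xb0 yb4 zb29) (kb xb0 yb4 zb31) (kb xb0 yb4 zb33) (kb xb0 yb1 zb6) (kb xb0 yb4 zb37) (kb xb0 yb1 zb7) (kb xb0 yb5 zb0) (kb xb0 yb2 zb26) (kb xb0 yb1 zb9) (kb xb0 yb2 zb24) (kb xb0 yb1 zb11) (kb xb0 yb5 zb1) (kb xb0 yb1 zb13) (kb xb0 yb1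 zb14) (kb xb0 yb5 zb12) (kb xb0 yb5 zb14) (kb xb0 yb5 zb6) (kb xb0 yb5 zb19) (kb xb0 yb5 zb20) (kb xb0 yb5 zb9) (kb xb0 yb5 zb24) (kb xb0 yb5 zb25) (kb xb0 yb1 zb15)) (@D3.rec (fun _ => Pt) (kb xb0 yb1 zb16) (kb xb0 yb1 zb17) (kb xb0 yb1 zb18) (kb xb0 yb5 zb38) (kb xb0 yb5 zb27) (kb xb0 yb4 zb0) (kb xb0 yb6 zb3) (kb xb0 yb5 zb30) (kb xb0 yb3 zb37) (kb xb0 yb1 zb21) (kb xb0 yb3 zb10) (kb xb0 yb2 zb1) (kb xb0 yb1 zb24) (kb xb0 yb3 zb13) (kb xb0 yb2 zb4) (kb xb0 yb3 zb15) (kb xb0 yb6 zb15) (kb xb0 yb6 zb17) (kb xb0 yb1 zb28) (kb xb0 yb6 zb20) (kb xb0 yb1 zb29) (kb xb0 yb6 zb22) (kb xb0 yb6 zb23) (kb xb0 yb6 zb26) (kb xb0 yb6 zb28) (kb xb0 yb1 zb31) (kb xb0 yb6 zb31) (kb xb0 yb1 zb32) (kb xb0 yb6 zb33) (kb xb0 yb6 zb34) (kb xb0 yb1 zb34) (kb xb0 yb6 zb37)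 (kb xb0 yb1 zb36) (kb xb0 yb1 zb37) (kb xb0 yb1 zb38) (kb xb0 yb6 zb2) (kb xb0 yb6 zb36) (kb xb0 yb3 zb8) (kb xb0 yb6 zb7) (kb xb0 yb6 zb39)) (@D3.rec (fun _ => Pt) (kb xb0 yb3 zb5) (kb xb0 yb4 zb6) (kb xb0 yb4 zb5) (kb xb0 yb4 zb4) (kb xb0 yb4 zb3) (kb xb0 yb4 zb2) (kb xb0 yb4 zb1) (kb xb0 yb2 zb7) (kb xb0 yb7 zb14) (kb xb0 yb7 zb15) (kb xb0 yb4 zb10) (kb xb0 yb4 zb11) (kb xb0 yb7 zb22) (kb xb0 yb7 zb23) (kb xb0 yb2 zb9) (kb xb0 yb2 zb10) (kb xb0 yb4 zb16) (kb xb0 yb2 zb14) (kb xb0 yb2 zb15) (kb xb0 yb7 zb34) (kb xb0 yb7 zb36) (kb xb0 yb7 zb28) (kb xb0 yb8 zb1) (kb xb0 yb8 zb3) (kb xb0 yb7 zb31) (kb xb0 yb8 zb8) (kb xb0 yb8 zb10) (kb xb0 yb2 zb16) (kb xb0 yb8 zb15) (kb xb0 yb2 zb17) (kb xb0 yb8 zb19) (kb xb0 yb2 zb18) (kb xb0 yb8 zb22) (kb xb0 yb2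 zb19) (kb xb0 yb8 zb25) (kb xb0 yb8 zb13) (kb xb0 yb4 zb39) (kb xb0 yb2 zb21) (kb xb0 yb8 zb17) (kb xb0 yb4 zb36)) (@D3.rec (fun _ => Pt) (kb xb0 yb2 zb23) (kb xb0 yb2 zb28) (kb xb0 yb8 zb32) (kb xb0 yb8 zb33) (kb xb0 yb5 zb4) (kb xb0 yb5 zb5) (kb xb0 yb2 zb33) (kb xb0 yb9 zb3) (kb xb0 yb9 zb5) (kb xb0 yb2 zb36) (kb xb0 yb9 zb10) (kb xb0 yb9 zb12) (kb xb0 yb2 zb31) (kb xb0 yb9 zb15) (kb xb0 yb2 zb32) (kb xb0 yb9 zb17) (kb xb0 yb9 zb0) (kb xb0 yb9 zb21) (kb xb0 yb9 zb22) (kb xb0 yb2 zb34) (kb xb0 yb2 zb35) (kb xb0 yb9 zb29) (kb xb0 yb9 zb32) (kb xb0 yb9 zb33) (kb xb0 yb2 zb37) (kb xb0 yb2 zb38) (kb xb0 yb5 zb26) (kb xb0 yb3 zb4) (kb xb0 yb5 zb31) (kb xb0 yb5 zb29) (kb xb0 yb3 zb7) (kb xb0 yb5 zb28) (kb xb0 yb10 zb8) (kb xb0 yb9 zb35) (kb xb0 yb7 zb5)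 (kb xb0 yb10 zb13) (kb xb0 yb9 zb38) (kb xb0 yb7 zb2) (kb xb0 yb3 zb3) (kb xb0 yb5 zb39)) (@D3.rec (fun _ => Pt) (kb xb0 yb10 zb2) (kb xb0 yb10 zb21) (kb xb0 yb3 zb35) (kb xb0 yb3 zb6) (kb xb0 yb6 zb4) (kb xb0 yb10 zb6) (kb xb0 yb10 zb26) (kb xb0 yb3 zb38) (kb xb0 yb10 zb28) (kb xb0 yb6 zb9) (kb xb0 yb10 zb31) (kb xb0 yb6 zb11) (kb xb0 yb10 zb34) (kb xb0 yb10 zb38) (kb xb0 yb11 zb0) (kb xb0 yb3 zb16) (kb xb0 yb11 zb3) (kb xb0 yb3 zb17) (kb xb0 yb11 zb5) (kb xb0 yb9 zb24) (kb xb0 yb3 zb19) (kb xb0 yb9 zb27) (kb xb0 yb3 zb21) (kb xb0 yb3 zb22) (kb xb0 yb11 zb11) (kb xb0 yb11 zb13) (kb xb0 yb3 zb23) (kb xb0 yb11 zb17) (kb xb0 yb3 zb24) (kb xb0 yb11 zb20) (kb xb0 yb11 zb21) (kb xb0 yb3 zb26) (kb xb0 yb11 zb24) (kb xb0 yb3 zb28) (kb xb0 yb3 zb29) (kb xb0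 yb11 zb28) (kb xb0 yb3 zb36) (kb xb0 yb3 zb31) (kb xb0 yb11 zb32) (kb xb0 yb3 zb39)) (@D3.rec (fun _ => Pt) (kb xb0 yb10 zb12) (kb xb0 yb11 zb23) (kb xb0 yb5 zb37) (kb xb0 yb10 zb17) (kb xb0 yb11 zb26) (kb xb0 yb5 zb34) (kb xb0 yb11 zb30) (kb xb0 yb7 zb10) (kb xb0 yb12 zb4) (kb xb0 yb11 zb34) (kb xb0 yb7 zb7) (kb xb0 yb12 zb6) (kb xb0 yb12 zb7) (kb xb0 yb12 zb8) (kb xb0 yb4 zb8) (kb xb0 yb4 zb9) (kb xb0 yb12 zb10) (kb xb0 yb7 zb17) (kb xb0 yb7 zb18) (kb xb0 yb12 zb11) (kb xb0 yb7 zb20) (kb xb0 yb7 zb21) (kb xb0 yb4 zb12) (kb xb0 yb4 zb13) (kb xb0 yb7 zb24) (kb xb0 yb7 zb25) (kb xb0 yb12 zb24) (kb xb0 yb12 zb25) (kb xb0 yb4 zb21) (kb xb0 yb12 zb29) (kb xb0 yb12 zb31) (kb xb0 yb4 zb24) (kb xb0 yb12 zb36) (kb xb0 yb12 zb38) (kb xb0 yb4 zb19) (kb xb0 yb13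 zb3) (kb xb0 yb4 zb20) (kb xb0 yb13 zb7) (kb xb0 yb12 zb26) (kb xb0 yb13 zb11)) (@D3.rec (fun _ => Pt) (kb xb0 yb13 zb13) (kb xb0 yb4 zb22) (kb xb0 yb13 zb18) (kb xb0 yb4 zb23) (kb xb0 yb13 zb22) (kb xb0 yb13 zb23) (kb xb0 yb13 zb26) (kb xb0 yb13 zb28) (kb xb0 yb4 zb25) (kb xb0 yb13 zb33) (kb xb0 yb4 zb26) (kb xb0 yb13 zb37) (kb xb0 yb13 zb38) (kb xb0 yb4 zb35) (kb xb0 yb14 zb2) (kb xb0 yb4 zb28) (kb xb0 yb14 zb6) (kb xb0 yb4 zb38) (kb xb0 yb14 zb10) (kb xb0 yb4 zb30) (kb xb0 yb13 zb31) (kb xb0 yb8 zb24) (kb xb0 yb4 zb32) (kb xb0 yb13 zb35) (kb xb0 yb8 zb21) (kb xb0 yb4 zb34) (kb xb0 yb14 zb0) (kb xb0 yb14 zb22) (kb xb0 yb14 zb5) (kb xb0 yb14 zb8) (kb xb0 yb14 zb26) (kb xb0 yb14 zb13) (kb xb0 yb5 zb2) (kb xb0 yb5 zb3) (kb xb0 yb14 zb29) (kb xb0 yb8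 zb35) (kb xb0 yb8 zb36) (kb xb0 yb14 zb30) (kb xb0 yb8 zb38) (kb xb0 yb8 zb39)) (@D3.rec (fun _ => Pt) (kb xb0 yb5 zb16) (kb xb0 yb15 zb0) (kb xb0 yb15 zb2) (kb xb0 yb5 zb7) (kb xb0 yb15 zb4) (kb xb0 yb5 zb8) (kb xb0 yb15 zb5) (kb xb0 yb15 zb6) (kb xb0 yb15 zb10) (kb xb0 yb15 zb12) (kb xb0 yb5 zb10) (kb xb0 yb15 zb15) (kb xb0 yb5 zb11) (kb xb0 yb15 zb17) (kb xb0 yb13 zb1) (kb xb0 yb5 zb13) (kb xb0 yb13 zb5) (kb xb0 yb5 zb15) (kb xb0 yb15 zb24) (kb xb0 yb15 zb28) (kb xb0 yb15 zb29) (kb xb0 yb5 zb17) (kb xb0 yb5 zb18) (kb xb0 yb9 zb23) (kb xb0 yb6 zb19) (kb xb0 yb9 zb28) (kb xb0 yb9 zb26) (kb xb0 yb6 zb21) (kb xb0 yb9 zb25) (kb xb0 yb5 zb21) (kb xb0 yb16 zb1) (kb xb0 yb16 zb2) (kb xb0 yb5 zb22) (kb xb0 yb5 zb23) (kb xb0 yb9 zb34) (kb xb0 yb5 zb33) (kb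 xb0 yb9 zb39) (kb xb0 yb9 zb37) (kb xb0 yb5 zb36) (kb xb0 yb9 zb36)) (@D3.rec (fun _ => Pt) (kb xb0 yb16 zb17) (kb xb0 yb15 zb22) (kb xb0 yb6 zb0) (kb xb0 yb16 zb22) (kb xb0 yb16 zb23) (kb xb0 yb15 zb19) (kb xb0 yb6 zb5) (kb xb0 yb16 zb28) (kb xb0 yb5 zb32) (kb xb0 yb10 zb9) (kb xb0 yb16 zb11) (kb xb0 yb16 zb33) (kb xb0 yb7 zb0) (kb xb0 yb5 zb35) (kb xb0 yb10 zb14) (kb xb0 yb16 zb15) (kb xb0 yb16 zb39) (kb xb0 yb7 zb3) (kb xb0 yb10 zb18) (kb xb0 yb16 zb20) (kb xb0 yb17 zb3) (kb xb0 yb6 zb1) (kb xb0 yb17 zb7) (kb xb0 yb10 zb23) (kb xb0 yb16 zb26) (kb xb0 yb17 zb10) (kb xb0 yb6 zb6) (kb xb0 yb17 zb14) (kb xb0 yb6 zb8) (kb xb0 yb17 zb15) (kb xb0 yb17 zb16) (kb xb0 yb6 zb10) (kb xb0 yb17 zb20) (kb xb0 yb17 zb21) (kb xb0 yb6 zb12) (kb xb0 yb17 zb26) (kb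 xb0 yb17 zb31) (kb xb0 yb17 zb33) (kb xb0 yb6 zb13) (kb xb0 yb17 zb37)) (@D3.rec (fun _ => Pt) (kb xb0 yb6 zb14) (kb xb0 yb18 zb0) (kb xb0 yb15 zb31) (kb xb0 yb6 zb16) (kb xb0 yb15 zb34) (kb xb0 yb6 zb18) (kb xb0 yb18 zb3) (kb xb0 yb18 zb4) (kb xb0 yb18 zb5) (kb xb0 yb18 zb8) (kb xb0 yb18 zb10) (kb xb0 yb6 zb24) (kb xb0 yb18 zb15) (kb xb0 yb6 zb25) (kb xb0 yb18 zb19) (kb xb0 yb18 zb13) (kb xb0 yb18 zb22) (kb xb0 yb6 zb27) (kb xb0 yb18 zb17) (kb xb0 yb18 zb27) (kb xb0 yb6 zb29) (kb xb0 yb6 zb30) (kb xb0 yb18 zb31) (kb xb0 yb7 zb1) (kb xb0 yb6 zb32) (kb xb0 yb18 zb35) (kb xb0 yb7 zb4) (kb xb0 yb11 zb27) (kb xb0 yb6 zb35) (kb xb0 yb19 zb1) (kb xb0 yb7 zb6) (kb xb0 yb11 zb31) (kb xb0 yb6 zb38) (kb xb0 yb19 zb7) (kb xb0 yb7 zb9) (kb xb0 yb19 zb3) (kb xb0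 yb12 zb0) (kb xb0 yb18 zb33) (kb xb0 yb19 zb14) (kb xb0 yb19 zb9)) (@D3.rec (fun _ => Pt) (kb xb0 yb11 zb36) (kb xb0 yb18 zb37) (kb xb0 yb19 zb19) (kb xb0 yb19 zb20) (kb xb0 yb7 zb8) (kb xb0 yb19 zb23) (kb xb0 yb7 zb11) (kb xb0 yb7 zb12) (kb xb0 yb7 zb13) (kb xb0 yb12 zb9) (kb xb0 yb7 zb16) (kb xb0 yb7 zb19) (kb xb0 yb19 zb28) (kb xb0 yb12 zb13) (kb xb0 yb12 zb14) (kb xb0 yb19 zb33) (kb xb0 yb12 zb16) (kb xb0 yb12 zb17) (kb xb0 yb12 zb18) (kb xb0 yb19 zb39) (kb xb0 yb20 zb0) (kb xb0 yb12 zb21) (kb xb0 yb20 zb4) (kb xb0 yb20 zb5) (kb xb0 yb7 zb26) (kb xb0 yb7 zb27) (kb xb0 yb7 zb38) (kb xb0 yb20 zb9) (kb xb0 yb20 zb11) (kb xb0 yb7 zb29) (kb xb0 yb20 zb14) (kb xb0 yb7 zb30) (kb xb0 yb20 zb16) (kb xb0 yb20 zb17) (kb xb0 yb20 zb21) (kb xb0 yb20 zb23) (kb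 xb0 yb7 zb32) (kb xb0 yb20 zb28) (kb xb0 yb7 zb33) (kb xb0 yb20 zb32)) (@D3.rec (fun _ => Pt) (kb xb0 yb13 zb0) (kb xb0 yb9 zb14) (kb xb0 yb13 zb6) (kb xb0 yb7 zb35) (kb xb0 yb13 zb4) (kb xb0 yb9 zb16) (kb xb0 yb13 zb2) (kb xb0 yb7 zb37) (kb xb0 yb21 zb1) (kb xb0 yb21 zb5) (kb xb0 yb21 zb7) (kb xb0 yb7 zb39) (kb xb0 yb21 zb12) (kb xb0 yb8 zb0) (kb xb0 yb21 zb16) (kb xb0 yb21 zb17) (kb xb0 yb13 zb16) (kb xb0 yb21 zb19) (kb xb0 yb8 zb2) (kb xb0 yb21 zb22) (kb xb0 yb13 zb20) (kb xb0 yb21 zb24) (kb xb0 yb8 zb4) (kb xb0 yb8 zb5) (kb xb0 yb21 zb30) (kb xb0 yb21 zb32) (kb xb0 yb8 zb6) (kb xb0 yb21 zb37) (kb xb0 yb8 zb7) (kb xb0 yb22 zb1) (kb xb0 yb22 zb2) (kb xb0 yb8 zb20) (kb xb0 yb22 zb6) (kb xb0 yb8 zb9) (kb xb0 yb22 zb10) (kb xb0 yb8 zb23) (kb xb0 yb22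 zb14) (kb xb0 yb8 zb11) (kb xb0 yb8 zb12) (kb xb0 yb13 zb39)) (@D3.rec (fun _ => Pt) (kb xb0 yb8 zb26) (kb xb0 yb22 zb21) (kb xb0 yb8 zb14) (kb xb0 yb14 zb12) (kb xb0 yb14 zb11) (kb xb0 yb8 zb28) (kb xb0 yb8 zb16) (kb xb0 yb14 zb7) (kb xb0 yb8 zb29) (kb xb0 yb22 zb30) (kb xb0 yb8 zb18) (kb xb0 yb14 zb4) (kb xb0 yb14 zb3) (kb xb0 yb8 zb31) (kb xb0 yb22 zb4) (kb xb0 yb22 zb39) (kb xb0 yb22 zb9) (kb xb0 yb22 zb12) (kb xb0 yb23 zb4) (kb xb0 yb22 zb17) (kb xb0 yb22 zb19) (kb xb0 yb23 zb7) (kb xb0 yb8 zb27) (kb xb0 yb22 zb26) (kb xb0 yb22 zb28) (kb xb0 yb23 zb12) (kb xb0 yb8 zb30) (kb xb0 yb22 zb35) (kb xb0 yb14 zb28) (kb xb0 yb8 zb34) (kb xb0 yb8 zb37) (kb xb0 yb23 zb18) (kb xb0 yb14 zb32) (kb xb0 yb14 zb33) (kb xb0 yb23 zb23) (kb xb0 yb14 zb35) (kb xb0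 yb14 zb36) (kb xb0 yb23 zb27) (kb xb0 yb23 zb31) (kb xb0 yb23 zb33)) (@D3.rec (fun _ => Pt) (kb xb0 yb9 zb1) (kb xb0 yb23 zb35) (kb xb0 yb9 zb2) (kb xb0 yb23 zb36) (kb xb0 yb9 zb4) (kb xb0 yb9 zb6) (kb xb0 yb9 zb7) (kb xb0 yb24 zb2) (kb xb0 yb24 zb9) (kb xb0 yb24 zb11) (kb xb0 yb9 zb8) (kb xb0 yb24 zb14) (kb xb0 yb9 zb9) (kb xb0 yb24 zb16) (kb xb0 yb20 zb26) (kb xb0 yb9 zb11) (kb xb0 yb20 zb30) (kb xb0 yb9 zb13) (kb xb0 yb20 zb34) (kb xb0 yb10 zb5) (kb xb0 yb20 zb36) (kb xb0 yb20 zb38) (kb xb0 yb10 zb1) (kb xb0 yb21 zb0) (kb xb0 yb9 zb18) (kb xb0 yb24 zb26) (kb xb0 yb24 zb31) (kb xb0 yb24 zb32) (kb xb0 yb9 zb19) (kb xb0 yb9 zb20) (kb xb0 yb15 zb30) (kb xb0 yb11 zb2) (kb xb0 yb15 zb35) (kb xb0 yb15 zb33) (kb xb0 yb11 zb4) (kb xb0 yb15 zb32) (kb xb0 yb23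 zb39) (kb xb0 yb23 zb37) (kb xb0 yb25 zb3) (kb xb0 yb25 zb6)) (@D3.rec (fun _ => Pt) (kb xb0 yb25 zb8) (kb xb0 yb9 zb30) (kb xb0 yb9 zb31) (kb xb0 yb16 zb3) (kb xb0 yb25 zb11) (kb xb0 yb16 zb8) (kb xb0 yb16 zb6) (kb xb0 yb25 zb14) (kb xb0 yb16 zb5) (kb xb0 yb25 zb24) (kb xb0 yb24 zb21) (kb xb0 yb10 zb10) (kb xb0 yb25 zb30) (kb xb0 yb25 zb31) (kb xb0 yb24 zb18) (kb xb0 yb10 zb15) (kb xb0 yb25 zb37) (kb xb0 yb10 zb0) (kb xb0 yb17 zb17) (kb xb0 yb17 zb4) (kb xb0 yb10 zb19) (kb xb1 yb0 zb0) (kb xb0 yb10 zb3) (kb xb0 yb10 zb4) (kb xb0 yb17 zb22) (kb xb0 yb17 zb11) (kb xb0 yb10 zb24) (kb xb1 yb0 zb4) (kb xb0 yb10 zb7) (kb xb0 yb16 zb29) (kb xb1 yb0 zb8) (kb xb0 yb25 zb28) (kb xb1 yb0 zb12) (kb xb0 yb10 zb11) (kb xb1 yb0 zb16) (kb xb0 yb16 zb35) (kb xb1 yb0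 zb19) (kb xb0 yb25 zb35) (kb xb1 yb0 zb23) (kb xb0 yb10 zb16)) (@D3.rec (fun _ => Pt) (kb xb1 yb0 zb27) (kb xb0 yb17 zb1) (kb xb1 yb0 zb28) (kb xb0 yb10 zb20) (kb xb0 yb16 zb19) (kb xb1 yb0 zb32) (kb xb0 yb19 zb2) (kb xb0 yb10 zb22) (kb xb0 yb17 zb8) (kb xb1 yb0 zb33) (kb xb0 yb10 zb25) (kb xb0 yb16 zb25) (kb xb1 yb0 zb35) (kb xb0 yb19 zb8) (kb xb0 yb10 zb27) (kb xb0 yb10 zb29) (kb xb0 yb10 zb30) (kb xb0 yb16 zb18) (kb xb1 yb0 zb36) (kb xb1 yb0 zb37) (kb xb0 yb10 zb32) (kb xb0 yb10 zb33) (kb xb0 yb16 zb24) (kb xb1 yb1 zb1) (kb xb1 yb1 zb2) (kb xb1 yb1 zb6) (kb xb0 yb10 zb35) (kb xb1 yb1 zb13) (kb xb1 yb1 zb15) (kb xb1 yb1 zb17) (kb xb1 yb1 zb19) (kb xb0 yb10 zb36) (kb xb1 yb1 zb24) (kb xb0 yb10 zb37) (kb xb1 yb1 zb28) (kb xb1 yb1 zb22) (kb xb0 yb25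 zb0) (kb xb0 yb10 zb39) (kb xb1 yb1 zb26) (kb xb0 yb25 zb2)) (@D3.rec (fun _ => Pt) (kb xb0 yb11 zb1) (kb xb1 yb1 zb37) (kb xb1 yb1 zb38) (kb xb0 yb11 zb6) (kb xb0 yb11 zb7) (kb xb0 yb11 zb8) (kb xb1 yb2 zb7) (kb xb1 yb2 zb8) (kb xb0 yb11 zb9) (kb xb1 yb2 zb12) (kb xb0 yb11 zb10) (kb xb1 yb2 zb16) (kb xb1 yb2 zb17) (kb xb0 yb11 zb15) (kb xb1 yb2 zb22) (kb xb0 yb11 zb12) (kb xb1 yb2 zb27) (kb xb0 yb11 zb18) (kb xb1 yb2 zb32) (kb xb0 yb11 zb14) (kb xb1 yb2 zb20) (kb xb1 yb2 zb39) (kb xb0 yb11 zb16) (kb xb1 yb3 zb1) (kb xb1 yb2 zb25) (kb xb1 yb2 zb30) (kb xb1 yb3 zb6) (kb xb0 yb11 zb19) (kb xb1 yb3 zb8) (kb xb1 yb2 zb35) (kb xb0 yb18 zb30) (kb xb0 yb11 zb22) (kb xb1 yb3 zb14) (kb xb0 yb11 zb37) (kb xb0 yb18 zb34) (kb xb0 yb11 zb25) (kb xb1 yb3 zb21) (kb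 xb0 yb12 zb1) (kb xb0 yb18 zb38) (kb xb0 yb19 zb5)) (@D3.rec (fun _ => Pt) (kb xb1 yb3 zb27) (kb xb0 yb11 zb29) (kb xb0 yb17 zb6) (kb xb0 yb11 zb35) (kb xb0 yb19 zb4) (kb xb0 yb18 zb39) (kb xb1 yb3 zb34) (kb xb0 yb11 zb33) (kb xb0 yb17 zb13) (kb xb0 yb11 zb39) (kb xb1 yb3 zb17) (kb xb1 yb4 zb1) (kb xb1 yb4 zb2) (kb xb1 yb4 zb4) (kb xb0 yb11 zb38) (kb xb1 yb3 zb24) (kb xb1 yb4 zb9) (kb xb1 yb4 zb10) (kb xb1 yb4 zb12) (kb xb0 yb12 zb2) (kb xb0 yb12 zb3) (kb xb1 yb4 zb15) (kb xb1 yb3 zb29) (kb xb0 yb12 zb5) (kb xb1 yb4 zb16) (kb xb1 yb3 zb36) (kb xb0 yb19 zb26) (kb xb0 yb19 zb27) (kb xb0 yb12 zb12) (kb xb1 yb4 zb18) (kb xb1 yb4 zb20) (kb xb0 yb19 zb31) (kb xb0 yb19 zb32) (kb xb0 yb12 zb15) (kb xb1 yb4 zb27) (kb xb1 yb4 zb28) (kb xb0 yb19 zb36) (kb xb1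 yb4 zb32) (kb xb1 yb4 zb33) (kb xb0 yb12 zb19)) (@D3.rec (fun _ => Pt) (kb xb0 yb12 zb20) (kb xb1 yb4 zb34) (kb xb1 yb4 zb37) (kb xb1 yb4 zb38) (kb xb0 yb12 zb22) (kb xb0 yb12 zb23) (kb xb1 yb4 zb39) (kb xb1 yb5 zb3) (kb xb1 yb5 zb5) (kb xb0 yb12 zb27) (kb xb1 yb5 zb8) (kb xb0 yb12 zb28) (kb xb1 yb5 zb10) (kb xb0 yb20 zb15) (kb xb0 yb12 zb30) (kb xb0 yb20 zb13) (kb xb0 yb12 zb32) (kb xb0 yb12 zb33) (kb xb1 yb5 zb12) (kb xb1 yb5 zb18) (kb xb1 yb5 zb20) (kb xb0 yb12 zb34) (kb xb1 yb5 zb25) (kb xb0 yb12 zb35) (kb xb1 yb5 zb29) (kb xb0 yb20 zb25) (kb xb0 yb15 zb14) (kb xb0 yb20 zb31) (kb xb0 yb12 zb37) (kb xb0 yb20 zb29) (kb xb0 yb15 zb16) (kb xb0 yb20 zb27) (kb xb0 yb12 zb39) (kb xb1 yb5 zb38) (kb xb0 yb15 zb18) (kb xb1 yb3 zb30) (kb xb0 yb15 zb20) (kb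 xb1 yb6 zb2) (kb xb0 yb15 zb21) (kb xb1 yb3 zb37)) (@D3.rec (fun _ => Pt) (kb xb0 yb15 zb23) (kb xb0 yb13 zb8) (kb xb1 yb6 zb7) (kb xb1 yb6 zb12) (kb xb1 yb6 zb14) (kb xb0 yb13 zb9) (kb xb1 yb6 zb19) (kb xb0 yb13 zb10) (kb xb1 yb6 zb23) (kb xb1 yb6 zb24) (kb xb0 yb21 zb10) (kb xb1 yb6 zb27) (kb xb0 yb13 zb12) (kb xb1 yb6 zb30) (kb xb0 yb21 zb14) (kb xb1 yb6 zb33) (kb xb0 yb13 zb14) (kb xb0 yb13 zb15) (kb xb0 yb21 zb25) (kb xb0 yb13 zb17) (kb xb0 yb21 zb23) (kb xb0 yb21 zb21) (kb xb0 yb13 zb19) (kb xb0 yb21 zb20) (kb xb0 yb13 zb21) (kb xb0 yb21 zb18) (kb xb0 yb21 zb26) (kb xb1 yb7 zb2) (kb xb1 yb7 zb5) (kb xb1 yb7 zb7) (kb xb0 yb13 zb24) (kb xb1 yb7 zb12) (kb xb0 yb13 zb25) (kb xb1 yb7 zb16) (kb xb1 yb7 zb17) (kb xb1 yb7 zb10) (kb xb1 yb7 zb21) (kb xb0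 yb13 zb27) (kb xb1 yb7 zb25) (kb xb1 yb7 zb14)) (@D3.rec (fun _ => Pt) (kb xb1 yb7 zb29) (kb xb0 yb13 zb29) (kb xb0 yb13 zb30) (kb xb0 yb22 zb3) (kb xb0 yb14 zb14) (kb xb1 yb7 zb37) (kb xb0 yb13 zb32) (kb xb0 yb22 zb16) (kb xb0 yb22 zb15) (kb xb0 yb14 zb16) (kb xb0 yb13 zb34) (kb xb0 yb22 zb11) (kb xb0 yb14 zb17) (kb xb1 yb8 zb7) (kb xb0 yb13 zb36) (kb xb0 yb22 zb8) (kb xb0 yb22 zb7) (kb xb0 yb14 zb19) (kb xb0 yb22 zb18) (kb xb0 yb14 zb20) (kb xb1 yb8 zb15) (kb xb0 yb14 zb1) (kb xb1 yb8 zb16) (kb xb0 yb22 zb32) (kb xb0 yb23 zb14) (kb xb1 yb6 zb1) (kb xb0 yb14 zb23) (kb xb0 yb22 zb27) (kb xb0 yb14 zb24) (kb xb1 yb8 zb21) (kb xb0 yb14 zb9) (kb xb1 yb8 zb22) (kb xb0 yb22 zb23) (kb xb0 yb23 zb9) (kb xb1 yb6 zb5) (kb xb0 yb14 zb27) (kb xb1 yb8 zb25) (kb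 xb1 yb7 zb35) (kb xb1 yb8 zb29) (kb xb0 yb14 zb15)) (@D3.rec (fun _ => Pt) (kb xb1 yb8 zb2) (kb xb1 yb8 zb34) (kb xb1 yb8 zb5) (kb xb1 yb8 zb38) (kb xb0 yb14 zb18) (kb xb1 yb8 zb12) (kb xb1 yb9 zb3) (kb xb0 yb14 zb21) (kb xb1 yb3 zb33) (kb xb0 yb22 zb33) (kb xb1 yb8 zb18) (kb xb1 yb9 zb4) (kb xb0 yb14 zb25) (kb xb1 yb3 zb26) (kb xb0 yb22 zb24) (kb xb1 yb8 zb24) (kb xb0 yb23 zb16) (kb xb0 yb23 zb17) (kb xb0 yb14 zb31) (kb xb1 yb9 zb6) (kb xb1 yb9 zb8) (kb xb0 yb23 zb21) (kb xb0 yb23 zb22) (kb xb0 yb14 zb34) (kb xb1 yb9 zb13) (kb xb1 yb9 zb19) (kb xb1 yb9 zb20) (kb xb0 yb14 zb37) (kb xb1 yb9 zb21) (kb xb1 yb9 zb27) (kb xb1 yb9 zb29) (kb xb0 yb14 zb38) (kb xb1 yb9 zb32) (kb xb0 yb14 zb39) (kb xb1 yb9 zb34) (kb xb0 yb15 zb1) (kb xb0 yb15 zb3) (kb xb0 yb15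 zb37) (kb xb0 yb23 zb38) (kb xb0 yb15 zb36)) (@D3.rec (fun _ => Pt) (kb xb0 yb24 zb0) (kb xb1 yb9 zb24) (kb xb0 yb15 zb7) (kb xb1 yb10 zb6) (kb xb1 yb10 zb8) (kb xb1 yb10 zb10) (kb xb1 yb10 zb1) (kb xb1 yb10 zb15) (kb xb1 yb10 zb17) (kb xb0 yb15 zb8) (kb xb1 yb10 zb22) (kb xb0 yb15 zb9) (kb xb1 yb10 zb26) (kb xb1 yb10 zb20) (kb xb0 yb15 zb11) (kb xb1 yb10 zb24) (kb xb0 yb15 zb13) (kb xb1 yb5 zb31) (kb xb0 yb16 zb14) (kb xb1 yb5 zb33) (kb xb1 yb5 zb35) (kb xb0 yb16 zb10) (kb xb1 yb5 zb37) (kb xb1 yb6 zb0) (kb xb1 yb6 zb4) (kb xb1 yb10 zb39) (kb xb0 yb15 zb25) (kb xb1 yb11 zb6) (kb xb1 yb11 zb8) (kb xb1 yb11 zb10) (kb xb1 yb11 zb11) (kb xb0 yb15 zb26) (kb xb0 yb15 zb27) (kb xb0 yb24 zb33) (kb xb1 yb11 zb13) (kb xb0 yb24 zb38) (kb xb0 yb24 zb36) (kb xb1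 yb11 zb16) (kb xb0 yb24 zb35) (kb xb1 yb9 zb37)) (@D3.rec (fun _ => Pt) (kb xb0 yb17 zb36) (kb xb1 yb9 zb35) (kb xb0 yb17 zb39) (kb xb0 yb15 zb38) (kb xb1 yb11 zb32) (kb xb1 yb11 zb33) (kb xb0 yb15 zb39) (kb xb1 yb11 zb37) (kb xb0 yb16 zb0) (kb xb1 yb12 zb1) (kb xb1 yb12 zb2) (kb xb0 yb16 zb4) (kb xb1 yb2 zb36) (kb xb1 yb12 zb8) (kb xb0 yb16 zb7) (kb xb1 yb2 zb26) (kb xb1 yb12 zb14) (kb xb1 yb10 zb31) (kb xb1 yb12 zb5) (kb xb1 yb12 zb20) (kb xb1 yb12 zb21) (kb xb1 yb10 zb28) (kb xb1 yb12 zb11) (kb xb1 yb12 zb27) (kb xb0 yb16 zb9) (kb xb1 yb12 zb28) (kb xb1 yb0 zb29) (kb xb1 yb12 zb32) (kb xb0 yb16 zb31) (kb xb1 yb12 zb37) (kb xb0 yb16 zb12) (kb xb0 yb16 zb13) (kb xb1 yb12 zb39) (kb xb1 yb0 zb34) (kb xb1 yb13 zb3) (kb xb0 yb16 zb37) (kb xb1 yb13 zb8)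 (kb xb0 yb16 zb16) (kb xb1 yb0 zb38) (kb xb1 yb13 zb10))
def f_b_1 : D2 → D3 → Pt := @D2.rec (fun _ => D3 → Pt) (@D3.rec (fun _ => Pt) (kb xb0 yb16 zb21) (kb xb1 yb3 zb35) (kb xb1 yb1 zb3) (kb xb1 yb13 zb11) (kb xb0 yb16 zb27) (kb xb1 yb3 zb28) (kb xb1 yb13 zb12) (kb xb1 yb0 zb7) (kb xb0 yb16 zb30) (kb xb1 yb13 zb15) (kb xb1 yb13 zb20) (kb xb1 yb13 zb22) (kb xb0 yb16 zb32) (kb xb1 yb13 zb27) (kb xb1 yb13 zb28) (kb xb1 yb3 zb31) (kb xb0 yb16 zb34) (kb xb1 yb13 zb29) (kb xb1 yb0 zb18) (kb xb0 yb16 zb36) (kb xb1 yb13 zb32) (kb xb1 yb13 zb37) (kb xb1 yb13 zb39) (kb xb0 yb16 zb38) (kb xb1 yb14 zb4) (kb xb1 yb14 zb5) (kb xb1 yb3 zb38) (kb xb0 yb17 zb0) (kb xb0 yb17 zb2) (kb xb0 yb25 zb26) (kb xb1 yb8 zb17) (kb xb1 yb8 zb23) (kb xb0 yb17 zb5) (kb xb0 yb17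 zb9) (kb xb0 yb25 zb33) (kb xb0 yb17 zb12) (kb xb0 yb17 zb18) (kb xb0 yb17 zb19) (kb xb0 yb25 zb38) (kb xb1 yb14 zb8)) (@D3.rec (fun _ => Pt) (kb xb1 yb14 zb12) (kb xb0 yb17 zb23) (kb xb0 yb17 zb24) (kb xb1 yb0 zb2) (kb xb1 yb14 zb13) (kb xb1 yb14 zb17) (kb xb0 yb17 zb25) (kb xb1 yb14 zb20) (kb xb1 yb14 zb26) (kb xb1 yb14 zb27) (kb xb1 yb1 zb10) (kb xb1 yb14 zb31) (kb xb1 yb14 zb33) (kb xb0 yb17 zb27) (kb xb1 yb14 zb38) (kb xb0 yb17 zb28) (kb xb1 yb15 zb2) (kb xb0 yb17 zb29) (kb xb1 yb15 zb6) (kb xb0 yb17 zb30) (kb xb1 yb15 zb10) (kb xb1 yb15 zb11) (kb xb0 yb17 zb35) (kb xb1 yb15 zb16) (kb xb0 yb17 zb32) (kb xb1 yb15 zb21) (kb xb0 yb17 zb38) (kb xb1 yb15 zb26) (kb xb0 yb17 zb34) (kb xb1 yb15 zb14) (kb xb1 yb15 zb33) (kb xb1 yb15 zb34) (kb xb1 yb15 zb19)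 (kb xb1 yb15 zb24) (kb xb1 yb15 zb39) (kb xb1 yb16 zb0) (kb xb1 yb15 zb29) (kb xb0 yb18 zb1) (kb xb0 yb18 zb2) (kb xb1 yb2 zb1)) (@D3.rec (fun _ => Pt) (kb xb1 yb10 zb0) (kb xb1 yb1 zb39) (kb xb1 yb9 zb39) (kb xb1 yb11 zb28) (kb xb1 yb2 zb4) (kb xb1 yb16 zb15) (kb xb1 yb16 zb17) (kb xb0 yb18 zb6) (kb xb0 yb18 zb7) (kb xb1 yb16 zb25) (kb xb1 yb2 zb10) (kb xb1 yb16 zb29) (kb xb0 yb18 zb9) (kb xb1 yb16 zb33) (kb xb1 yb2 zb14) (kb xb1 yb16 zb37) (kb xb0 yb18 zb11) (kb xb0 yb18 zb12) (kb xb1 yb17 zb5) (kb xb1 yb17 zb8) (kb xb0 yb18 zb20) (kb xb1 yb17 zb12) (kb xb0 yb18 zb14) (kb xb1 yb17 zb17) (kb xb1 yb17 zb18) (kb xb0 yb18 zb24) (kb xb0 yb25 zb15) (kb xb0 yb18 zb16) (kb xb1 yb17 zb28) (kb xb1 yb17 zb31) (kb xb0 yb18 zb25) (kb xb1 yb17 zb35) (kb xb0 yb18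 zb18) (kb xb1 yb18 zb0) (kb xb1 yb18 zb1) (kb xb0 yb18 zb29) (kb xb0 yb25 zb12) (kb xb1 yb17 zb10) (kb xb1 yb18 zb8) (kb xb0 yb18 zb21)) (@D3.rec (fun _ => Pt) (kb xb1 yb18 zb10) (kb xb0 yb18 zb23) (kb xb1 yb18 zb15) (kb xb1 yb17 zb21) (kb xb1 yb17 zb33) (kb xb1 yb18 zb20) (kb xb0 yb18 zb26) (kb xb1 yb18 zb22) (kb xb0 yb18 zb28) (kb xb1 yb18 zb27) (kb xb1 yb18 zb4) (kb xb1 yb3 zb11) (kb xb1 yb3 zb19) (kb xb1 yb18 zb34) (kb xb0 yb18 zb32) (kb xb1 yb18 zb37) (kb xb1 yb19 zb1) (kb xb0 yb19 zb10) (kb xb1 yb3 zb18) (kb xb1 yb3 zb12) (kb xb1 yb19 zb7) (kb xb0 yb18 zb36) (kb xb1 yb19 zb10) (kb xb1 yb19 zb14) (kb xb0 yb19 zb15) (kb xb1 yb3 zb25) (kb xb0 yb23 zb13) (kb xb0 yb19 zb0) (kb xb1 yb0 zb5) (kb xb0 yb19 zb22) (kb xb0 yb20 zb35) (kb xb1 yb0 zb15) (kb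 xb1 yb3 zb32) (kb xb0 yb23 zb8) (kb xb0 yb19 zb6) (kb xb1 yb0 zb1) (kb xb0 yb19 zb25) (kb xb0 yb20 zb39) (kb xb1 yb0 zb26) (kb xb1 yb19 zb19)) (@D3.rec (fun _ => Pt) (kb xb1 yb19 zb21) (kb xb0 yb19 zb11) (kb xb0 yb19 zb12) (kb xb1 yb19 zb25) (kb xb0 yb19 zb13) (kb xb1 yb19 zb29) (kb xb1 yb18 zb36) (kb xb1 yb19 zb30) (kb xb1 yb19 zb32) (kb xb0 yb19 zb16) (kb xb0 yb19 zb17) (kb xb1 yb19 zb36) (kb xb0 yb19 zb18) (kb xb1 yb20 zb0) (kb xb1 yb19 zb9) (kb xb0 yb19 zb21) (kb xb0 yb19 zb24) (kb xb1 yb20 zb1) (kb xb0 yb19 zb29) (kb xb1 yb20 zb3) (kb xb0 yb19 zb30) (kb xb1 yb20 zb7) (kb xb1 yb20 zb12) (kb xb1 yb20 zb13) (kb xb1 yb20 zb14) (kb xb1 yb20 zb17) (kb xb1 yb20 zb19) (kb xb0 yb19 zb34) (kb xb0 yb19 zb35) (kb xb1 yb20 zb25) (kb xb1 yb20 zb28) (kb xb1 yb20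 zb29) (kb xb0 yb19 zb37) (kb xb0 yb19 zb38) (kb xb0 yb20 zb1) (kb xb1 yb20 zb33) (kb xb1 yb20 zb34) (kb xb0 yb20 zb2) (kb xb0 yb20 zb3) (kb xb0 yb20 zb6)) (@D3.rec (fun _ => Pt) (kb xb1 yb20 zb38) (kb xb1 yb21 zb3) (kb xb1 yb21 zb5) (kb xb0 yb20 zb7) (kb xb1 yb21 zb9) (kb xb0 yb20 zb8) (kb xb1 yb21 zb12) (kb xb1 yb5 zb9) (kb xb0 yb20 zb10) (kb xb1 yb5 zb7) (kb xb0 yb20 zb12) (kb xb1 yb21 zb13) (kb xb0 yb20 zb18) (kb xb1 yb21 zb21) (kb xb1 yb21 zb23) (kb xb1 yb21 zb18) (kb xb1 yb21 zb27) (kb xb1 yb21 zb29) (kb xb0 yb20 zb19) (kb xb1 yb21 zb34) (kb xb0 yb20 zb20) (kb xb1 yb21 zb38) (kb xb1 yb5 zb22) (kb xb1 yb21 zb32) (kb xb1 yb5 zb28) (kb xb0 yb20 zb22) (kb xb1 yb5 zb26) (kb xb1 yb21 zb36) (kb xb1 yb5 zb24) (kb xb0 yb20 zb24) (kb xb1 yb22 zb7) (kb xb0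 yb24 zb17) (kb xb1 yb18 zb38) (kb xb0 yb24 zb19) (kb xb1 yb22 zb13) (kb xb0 yb24 zb20) (kb xb1 yb19 zb11) (kb xb0 yb24 zb22) (kb xb0 yb20 zb33) (kb xb1 yb22 zb19)) (@D3.rec (fun _ => Pt) (kb xb0 yb24 zb23) (kb xb0 yb22 zb25) (kb xb0 yb20 zb37) (kb xb1 yb22 zb22) (kb xb0 yb24 zb24) (kb xb0 yb22 zb34) (kb xb1 yb22 zb25) (kb xb0 yb21 zb2) (kb xb1 yb22 zb32) (kb xb1 yb22 zb34) (kb xb1 yb22 zb36) (kb xb1 yb22 zb38) (kb xb0 yb21 zb3) (kb xb1 yb23 zb3) (kb xb0 yb21 zb4) (kb xb1 yb23 zb7) (kb xb1 yb23 zb8) (kb xb1 yb23 zb1) (kb xb1 yb23 zb12) (kb xb0 yb21 zb6) (kb xb1 yb23 zb16) (kb xb1 yb23 zb5) (kb xb1 yb23 zb20) (kb xb0 yb21 zb8) (kb xb0 yb21 zb9) (kb xb1 yb6 zb25) (kb xb1 yb6 zb34) (kb xb0 yb21 zb11) (kb xb1 yb6 zb32) (kb xb1 yb6 zb29) (kb xb0 yb21 zb13)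 (kb xb1 yb6 zb31) (kb xb1 yb6 zb28) (kb xb0 yb21 zb15) (kb xb1 yb6 zb26) (kb xb1 yb6 zb35) (kb xb1 yb6 zb39) (kb xb1 yb7 zb1) (kb xb1 yb7 zb0) (kb xb1 yb6 zb36)) (@D3.rec (fun _ => Pt) (kb xb1 yb6 zb38) (kb xb1 yb6 zb37) (kb xb0 yb21 zb27) (kb xb1 yb23 zb39) (kb xb1 yb24 zb0) (kb xb0 yb21 zb28) (kb xb1 yb24 zb4) (kb xb0 yb21 zb29) (kb xb1 yb24 zb8) (kb xb1 yb24 zb9) (kb xb0 yb21 zb35) (kb xb1 yb24 zb14) (kb xb0 yb21 zb31) (kb xb1 yb24 zb19) (kb xb0 yb21 zb39) (kb xb1 yb24 zb24) (kb xb0 yb21 zb33) (kb xb0 yb21 zb34) (kb xb1 yb24 zb30) (kb xb1 yb24 zb12) (kb xb1 yb24 zb35) (kb xb0 yb21 zb36) (kb xb1 yb7 zb31) (kb xb1 yb7 zb30) (kb xb1 yb24 zb17) (kb xb0 yb21 zb38) (kb xb1 yb25 zb2) (kb xb1 yb24 zb22) (kb xb1 yb25 zb7) (kb xb0 yb22 zb0) (kb xb1 yb7 zb23)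 (kb xb1 yb7 zb22) (kb xb1 yb24 zb27) (kb xb1 yb7 zb33) (kb xb1 yb25 zb15) (kb xb0 yb22 zb37) (kb xb1 yb25 zb20) (kb xb0 yb22 zb5) (kb xb1 yb25 zb24) (kb xb1 yb8 zb9)) (@D3.rec (fun _ => Pt) (kb xb1 yb9 zb0) (kb xb1 yb22 zb21) (kb xb0 yb23 zb0) (kb xb1 yb8 zb3) (kb xb1 yb25 zb31) (kb xb0 yb23 zb2) (kb xb1 yb25 zb36) (kb xb0 yb22 zb13) (kb xb2 yb0 zb0) (kb xb1 yb7 zb39) (kb xb1 yb8 zb31) (kb xb1 yb22 zb24) (kb xb0 yb23 zb5) (kb xb1 yb8 zb13) (kb xb1 yb25 zb23) (kb xb0 yb22 zb20) (kb xb0 yb22 zb22) (kb xb1 yb0 zb30) (kb xb0 yb23 zb10) (kb xb1 yb8 zb19) (kb xb1 yb25 zb39) (kb xb0 yb22 zb29) (kb xb0 yb22 zb31) (kb xb1 yb0 zb31) (kb xb0 yb23 zb15) (kb xb0 yb22 zb36) (kb xb2 yb0 zb6) (kb xb2 yb0 zb11) (kb xb2 yb0 zb12) (kb xb0 yb22 zb38) (kb xb1 yb19 zb6)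 (kb xb1 yb8 zb10) (kb xb2 yb0 zb16) (kb xb1 yb25 zb28) (kb xb0 yb23 zb1) (kb xb2 yb0 zb19) (kb xb2 yb0 zb24) (kb xb2 yb0 zb25) (kb xb0 yb23 zb3) (kb xb1 yb18 zb33)) (@D3.rec (fun _ => Pt) (kb xb1 yb8 zb0) (kb xb2 yb0 zb29) (kb xb2 yb0 zb4) (kb xb0 yb23 zb6) (kb xb0 yb23 zb11) (kb xb2 yb0 zb31) (kb xb0 yb23 zb19) (kb xb2 yb0 zb33) (kb xb0 yb23 zb20) (kb xb2 yb0 zb37) (kb xb2 yb1 zb3) (kb xb2 yb1 zb4) (kb xb2 yb1 zb5) (kb xb0 yb23 zb24) (kb xb2 yb1 zb13) (kb xb2 yb1 zb15) (kb xb2 yb1 zb10) (kb xb2 yb1 zb19) (kb xb2 yb1 zb20) (kb xb0 yb23 zb25) (kb xb0 yb23 zb26) (kb xb0 yb23 zb28) (kb xb2 yb1 zb27) (kb xb2 yb1 zb29) (kb xb0 yb24 zb1) (kb xb2 yb1 zb33) (kb xb2 yb1 zb35) (kb xb0 yb23 zb29) (kb xb2 yb2 zb0) (kb xb0 yb23 zb30) (kb xb2 yb2 zb4) (kb xb2 yb1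 zb38) (kb xb0 yb23 zb32) (kb xb2 yb2 zb2) (kb xb0 yb23 zb34) (kb xb0 yb25 zb1) (kb xb1 yb9 zb36) (kb xb0 yb24 zb39) (kb xb1 yb9 zb38) (kb xb1 yb2 zb2)) (@D3.rec (fun _ => Pt) (kb xb1 yb2 zb0) (kb xb0 yb24 zb6) (kb xb2 yb2 zb17) (kb xb2 yb2 zb18) (kb xb2 yb2 zb19) (kb xb2 yb2 zb21) (kb xb0 yb24 zb3) (kb xb2 yb2 zb26) (kb xb0 yb24 zb4) (kb xb2 yb2 zb30) (kb xb0 yb24 zb5) (kb xb2 yb2 zb33) (kb xb2 yb2 zb34) (kb xb2 yb2 zb35) (kb xb2 yb2 zb37) (kb xb0 yb24 zb7) (kb xb2 yb3 zb2) (kb xb0 yb24 zb8) (kb xb2 yb3 zb6) (kb xb2 yb3 zb7) (kb xb0 yb24 zb13) (kb xb2 yb3 zb12) (kb xb0 yb24 zb10) (kb xb2 yb3 zb17) (kb xb0 yb24 zb15) (kb xb2 yb3 zb22) (kb xb0 yb24 zb12) (kb xb2 yb3 zb10) (kb xb0 yb25 zb21) (kb xb2 yb3 zb15) (kb xb2 yb3 zb20) (kb xb0 yb25 zb17) (kb xb2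 yb3 zb25) (kb xb2 yb3 zb35) (kb xb1 yb22 zb10) (kb xb1 yb22 zb12) (kb xb2 yb3 zb39) (kb xb1 yb22 zb16) (kb xb1 yb22 zb18) (kb xb0 yb24 zb25)) (@D3.rec (fun _ => Pt) (kb xb2 yb4 zb4) (kb xb2 yb4 zb10) (kb xb2 yb4 zb11) (kb xb1 yb11 zb3) (kb xb2 yb4 zb14) (kb xb2 yb4 zb16) (kb xb0 yb24 zb27) (kb xb2 yb4 zb21) (kb xb0 yb24 zb28) (kb xb2 yb4 zb25) (kb xb0 yb24 zb29) (kb xb0 yb24 zb30) (kb xb2 yb4 zb32) (kb xb0 yb24 zb34) (kb xb1 yb15 zb30) (kb xb2 yb4 zb38) (kb xb0 yb24 zb37) (kb xb1 yb15 zb20) (kb xb2 yb5 zb4) (kb xb2 yb2 zb9) (kb xb2 yb4 zb35) (kb xb2 yb5 zb9) (kb xb2 yb5 zb10) (kb xb2 yb2 zb6) (kb xb2 yb5 zb1) (kb xb2 yb5 zb15) (kb xb2 yb5 zb16) (kb xb2 yb5 zb18) (kb xb1 yb2 zb3) (kb xb2 yb1 zb0) (kb xb2 yb5 zb24) (kb xb2 yb5 zb26) (kb xb0 yb25 zb4)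 (kb xb0 yb25 zb5) (kb xb2 yb5 zb34) (kb xb2 yb2 zb24) (kb xb2 yb5 zb38) (kb xb0 yb25 zb7) (kb xb2 yb6 zb2) (kb xb2 yb2 zb28)) (@D3.rec (fun _ => Pt) (kb xb2 yb6 zb6) (kb xb0 yb25 zb9) (kb xb0 yb25 zb10) (kb xb2 yb6 zb13) (kb xb2 yb6 zb16) (kb xb0 yb25 zb18) (kb xb2 yb6 zb20) (kb xb2 yb6 zb22) (kb xb0 yb25 zb13) (kb xb2 yb6 zb26) (kb xb2 yb6 zb29) (kb xb0 yb25 zb22) (kb xb2 yb6 zb33) (kb xb2 yb6 zb35) (kb xb0 yb25 zb16) (kb xb2 yb6 zb37) (kb xb2 yb7 zb2) (kb xb2 yb7 zb3) (kb xb2 yb6 zb18) (kb xb2 yb7 zb7) (kb xb0 yb25 zb19) (kb xb0 yb25 zb20) (kb xb2 yb7 zb11) (kb xb2 yb7 zb16) (kb xb2 yb7 zb17) (kb xb2 yb6 zb31) (kb xb2 yb7 zb21) (kb xb0 yb25 zb23) (kb xb0 yb25 zb25) (kb xb2 yb7 zb25) (kb xb1 yb14 zb10) (kb xb1 yb13 zb23) (kb xb0 yb25 zb27) (kb xb2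 yb7 zb29) (kb xb2 yb7 zb30) (kb xb2 yb7 zb37) (kb xb2 yb7 zb38) (kb xb0 yb25 zb29) (kb xb1 yb19 zb18) (kb xb0 yb25 zb32)) (@D3.rec (fun _ => Pt) (kb xb2 yb8 zb2) (kb xb1 yb14 zb15) (kb xb1 yb14 zb0) (kb xb0 yb25 zb34) (kb xb2 yb8 zb6) (kb xb2 yb8 zb7) (kb xb2 yb8 zb14) (kb xb2 yb8 zb15) (kb xb0 yb25 zb36) (kb xb1 yb19 zb17) (kb xb0 yb25 zb39) (kb xb1 yb0 zb3) (kb xb1 yb0 zb6) (kb xb2 yb8 zb19) (kb xb2 yb8 zb23) (kb xb1 yb0 zb9) (kb xb2 yb0 zb7) (kb xb2 yb8 zb31) (kb xb2 yb8 zb27) (kb xb2 yb8 zb35) (kb xb1 yb0 zb10) (kb xb2 yb9 zb0) (kb xb1 yb0 zb11) (kb xb1 yb12 zb31) (kb xb2 yb9 zb3) (kb xb2 yb8 zb38) (kb xb1 yb19 zb0) (kb xb1 yb0 zb13) (kb xb1 yb0 zb14) (kb xb1 yb0 zb17) (kb xb2 yb9 zb9) (kb xb2 yb9 zb13) (kb xb1 yb0 zb20) (kb xb2 yb9 zb20) (kb xb2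 yb0 zb21) (kb xb2 yb9 zb17) (kb xb2 yb9 zb25) (kb xb1 yb0 zb21) (kb xb2 yb9 zb30) (kb xb1 yb0 zb22)) (@D3.rec (fun _ => Pt) (kb xb1 yb13 zb2) (kb xb2 yb9 zb33) (kb xb2 yb9 zb28) (kb xb1 yb19 zb13) (kb xb1 yb0 zb24) (kb xb1 yb0 zb25) (kb xb1 yb25 zb22) (kb xb1 yb25 zb38) (kb xb1 yb0 zb39) (kb xb2 yb9 zb39) (kb xb1 yb12 zb30) (kb xb2 yb10 zb2) (kb xb1 yb1 zb0) (kb xb1 yb1 zb4) (kb xb2 yb10 zb7) (kb xb1 yb13 zb1) (kb xb2 yb10 zb10) (kb xb1 yb1 zb5) (kb xb2 yb4 zb3) (kb xb1 yb14 zb19) (kb xb1 yb1 zb7) (kb xb2 yb10 zb22) (kb xb2 yb10 zb24) (kb xb2 yb10 zb26) (kb xb2 yb10 zb30) (kb xb2 yb10 zb31) (kb xb1 yb1 zb8) (kb xb1 yb1 zb9) (kb xb1 yb14 zb28) (kb xb2 yb11 zb0) (kb xb2 yb11 zb2) (kb xb1 yb1 zb11) (kb xb2 yb11 zb7) (kb xb1 yb1 zb12) (kb xb2 yb11 zb11)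 (kb xb2 yb11 zb12) (kb xb1 yb14 zb36) (kb xb2 yb11 zb16) (kb xb1 yb1 zb14) (kb xb2 yb11 zb20)) (@D3.rec (fun _ => Pt) (kb xb1 yb15 zb0) (kb xb2 yb11 zb24) (kb xb1 yb1 zb16) (kb xb2 yb11 zb28) (kb xb1 yb15 zb4) (kb xb2 yb11 zb33) (kb xb1 yb1 zb18) (kb xb2 yb11 zb38) (kb xb1 yb15 zb8) (kb xb2 yb12 zb3) (kb xb1 yb1 zb20) (kb xb1 yb1 zb21) (kb xb2 yb12 zb12) (kb xb2 yb12 zb15) (kb xb1 yb1 zb29) (kb xb2 yb12 zb19) (kb xb1 yb1 zb23) (kb xb2 yb12 zb24) (kb xb2 yb12 zb25) (kb xb1 yb1 zb32) (kb xb1 yb11 zb17) (kb xb1 yb1 zb25) (kb xb2 yb12 zb35) (kb xb2 yb12 zb38) (kb xb1 yb1 zb33) (kb xb2 yb13 zb2) (kb xb1 yb1 zb27) (kb xb2 yb13 zb7) (kb xb2 yb13 zb8) (kb xb1 yb1 zb36) (kb xb1 yb11 zb14) (kb xb2 yb13 zb14) (kb xb2 yb12 zb17) (kb xb1 yb1 zb30) (kb xb1 yb1 zb31)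 (kb xb2 yb13 zb20) (kb xb2 yb12 zb28) (kb xb2 yb13 zb24) (kb xb2 yb13 zb0) (kb xb1 yb1 zb34)) (@D3.rec (fun _ => Pt) (kb xb1 yb1 zb35) (kb xb2 yb13 zb30) (kb xb2 yb13 zb11) (kb xb1 yb16 zb5) (kb xb2 yb2 zb13) (kb xb1 yb16 zb3) (kb xb2 yb2 zb11) (kb xb2 yb13 zb38) (kb xb2 yb13 zb39) (kb xb2 yb0 zb32) (kb xb2 yb14 zb3) (kb xb2 yb14 zb4) (kb xb1 yb16 zb12) (kb xb2 yb14 zb9) (kb xb2 yb14 zb11) (kb xb1 yb2 zb5) (kb xb2 yb14 zb16) (kb xb1 yb2 zb6) (kb xb2 yb14 zb20) (kb xb2 yb14 zb21) (kb xb1 yb16 zb20) (kb xb1 yb17 zb0) (kb xb2 yb14 zb27) (kb xb1 yb16 zb23) (kb xb1 yb16 zb32) (kb xb1 yb2 zb9) (kb xb2 yb14 zb37) (kb xb1 yb16 zb27) (kb xb2 yb15 zb2) (kb xb1 yb2 zb11) (kb xb2 yb15 zb6) (kb xb1 yb16 zb31) (kb xb1 yb16 zb24) (kb xb1 yb2 zb13) (kb xb2 yb15 zb16)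 (kb xb1 yb16 zb35) (kb xb2 yb15 zb21) (kb xb1 yb2 zb15) (kb xb2 yb15 zb25) (kb xb1 yb16 zb39)) (@D3.rec (fun _ => Pt) (kb xb1 yb16 zb21) (kb xb2 yb6 zb10) (kb xb2 yb15 zb33) (kb xb2 yb14 zb35) (kb xb2 yb15 zb38) (kb xb1 yb2 zb18) (kb xb2 yb16 zb1) (kb xb2 yb16 zb7) (kb xb1 yb2 zb19) (kb xb1 yb17 zb9) (kb xb1 yb2 zb37) (kb xb2 yb16 zb15) (kb xb1 yb2 zb21) (kb xb2 yb16 zb20) (kb xb2 yb16 zb21) (kb xb2 yb16 zb18) (kb xb2 yb16 zb25) (kb xb1 yb2 zb23) (kb xb1 yb2 zb24) (kb xb2 yb16 zb33) (kb xb2 yb16 zb36) (kb xb1 yb3 zb3) (kb xb2 yb7 zb9) (kb xb2 yb17 zb1) (kb xb2 yb6 zb23) (kb xb2 yb17 zb4) (kb xb2 yb17 zb8) (kb xb2 yb15 zb15) (kb xb1 yb2 zb28) (kb xb2 yb17 zb12) (kb xb2 yb17 zb18) (kb xb1 yb2 zb29) (kb xb1 yb17 zb32) (kb xb1 yb3 zb4) (kb xb2 yb17 zb26)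 (kb xb1 yb2 zb31) (kb xb2 yb17 zb31) (kb xb2 yb17 zb32) (kb xb2 yb17 zb29) (kb xb2 yb17 zb36)) (@D3.rec (fun _ => Pt) (kb xb1 yb2 zb33) (kb xb1 yb2 zb34) (kb xb2 yb18 zb4) (kb xb2 yb18 zb7) (kb xb1 yb3 zb10) (kb xb2 yb7 zb23) (kb xb2 yb18 zb12) (kb xb2 yb18 zb13) (kb xb1 yb2 zb38) (kb xb2 yb18 zb16) (kb xb1 yb3 zb0) (kb xb1 yb18 zb11) (kb xb2 yb18 zb19) (kb xb1 yb18 zb25) (kb xb2 yb18 zb24) (kb xb1 yb3 zb2) (kb xb2 yb18 zb27) (kb xb2 yb18 zb31) (kb xb2 yb16 zb38) (kb xb2 yb18 zb33) (kb xb1 yb3 zb5) (kb xb2 yb18 zb36) (kb xb1 yb3 zb7) (kb xb1 yb18 zb23) (kb xb2 yb18 zb39) (kb xb1 yb18 zb13) (kb xb2 yb19 zb4) (kb xb1 yb3 zb9) (kb xb2 yb19 zb7) (kb xb2 yb19 zb11) (kb xb2 yb18 zb9) (kb xb2 yb19 zb13) (kb xb1 yb18 zb32) (kb xb1 yb8 zb39) (kb xb1 yb3 zb13)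 (kb xb2 yb19 zb16) (kb xb1 yb4 zb6) (kb xb1 yb3 zb15) (kb xb1 yb5 zb32) (kb xb2 yb19 zb22)) (@D3.rec (fun _ => Pt) (kb xb1 yb13 zb26) (kb xb1 yb3 zb16) (kb xb2 yb19 zb25) (kb xb2 yb19 zb26) (kb xb2 yb19 zb31) (kb xb1 yb19 zb5) (kb xb1 yb8 zb30) (kb xb1 yb3 zb20) (kb xb2 yb19 zb34) (kb xb1 yb4 zb14) (kb xb1 yb3 zb22) (kb xb1 yb5 zb36) (kb xb2 yb20 zb0) (kb xb1 yb14 zb3) (kb xb1 yb3 zb23) (kb xb2 yb20 zb3) (kb xb2 yb20 zb4) (kb xb1 yb13 zb9) (kb xb1 yb12 zb38) (kb xb1 yb3 zb39) (kb xb2 yb20 zb11) (kb xb1 yb4 zb0) (kb xb2 yb20 zb13) (kb xb2 yb20 zb16) (kb xb1 yb19 zb24) (kb xb1 yb4 zb3) (kb xb2 yb20 zb21) (kb xb2 yb20 zb19) (kb xb2 yb19 zb19) (kb xb1 yb4 zb5) (kb xb1 yb4 zb7) (kb xb2 yb20 zb25) (kb xb1 yb4 zb8) (kb xb2 yb20 zb27) (kb xb1 yb19 zb34) (kb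 xb2 yb20 zb29) (kb xb1 yb4 zb11) (kb xb2 yb20 zb33) (kb xb2 yb20 zb31) (kb xb2 yb19 zb37)) (@D3.rec (fun _ => Pt) (kb xb1 yb4 zb13) (kb xb1 yb4 zb17) (kb xb2 yb21 zb0) (kb xb1 yb4 zb19) (kb xb1 yb20 zb4) (kb xb1 yb20 zb5) (kb xb2 yb21 zb9) (kb xb1 yb4 zb21) (kb xb2 yb21 zb16) (kb xb2 yb21 zb18) (kb xb2 yb21 zb20) (kb xb2 yb21 zb21) (kb xb1 yb4 zb22) (kb xb1 yb4 zb23) (kb xb1 yb4 zb24) (kb xb2 yb21 zb30) (kb xb2 yb21 zb31) (kb xb1 yb4 zb25) (kb xb2 yb21 zb34) (kb xb1 yb4 zb26) (kb xb2 yb21 zb37) (kb xb2 yb21 zb38) (kb xb1 yb24 zb28) (kb xb2 yb22 zb1) (kb xb1 yb24 zb18) (kb xb1 yb4 zb29) (kb xb2 yb22 zb6) (kb xb2 yb22 zb7) (kb xb1 yb4 zb30) (kb xb1 yb4 zb31) (kb xb2 yb22 zb10) (kb xb2 yb22 zb13) (kb xb2 yb22 zb15) (kb xb1 yb4 zb35) (kb xb1 yb4 zb36) (kb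 xb2 yb22 zb18) (kb xb2 yb22 zb21) (kb xb2 yb22 zb25) (kb xb1 yb5 zb0) (kb xb2 yb22 zb31)) (@D3.rec (fun _ => Pt) (kb xb2 yb22 zb33) (kb xb2 yb22 zb35) (kb xb2 yb22 zb37) (kb xb1 yb5 zb1) (kb xb2 yb23 zb2) (kb xb1 yb5 zb2) (kb xb2 yb23 zb6) (kb xb2 yb23 zb0) (kb xb1 yb21 zb11) (kb xb1 yb5 zb4) (kb xb2 yb23 zb4) (kb xb1 yb21 zb8) (kb xb1 yb5 zb6) (kb xb1 yb5 zb11) (kb xb2 yb23 zb13) (kb xb2 yb23 zb20) (kb xb2 yb23 zb21) (kb xb2 yb1 zb9) (kb xb1 yb5 zb15) (kb xb2 yb23 zb28) (kb xb2 yb23 zb30) (kb xb1 yb5 zb13) (kb xb2 yb23 zb35) (kb xb1 yb5 zb14) (kb xb2 yb23 zb39) (kb xb2 yb24 zb0) (kb xb2 yb24 zb2) (kb xb1 yb5 zb16) (kb xb2 yb24 zb7) (kb xb1 yb5 zb17) (kb xb2 yb24 zb11) (kb xb2 yb24 zb12) (kb xb1 yb5 zb23) (kb xb2 yb24 zb17) (kb xb1 yb5 zb19) (kb xb2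 yb24 zb22) (kb xb1 yb5 zb27) (kb xb2 yb24 zb27) (kb xb1 yb5 zb21) (kb xb2 yb24 zb32)) (@D3.rec (fun _ => Pt) (kb xb2 yb24 zb15) (kb xb2 yb24 zb37) (kb xb2 yb24 zb20) (kb xb2 yb24 zb39) (kb xb2 yb24 zb25) (kb xb2 yb25 zb4) (kb xb2 yb24 zb30) (kb xb1 yb5 zb30) (kb xb2 yb25 zb6) (kb xb2 yb25 zb10) (kb xb1 yb10 zb34) (kb xb2 yb19 zb21) (kb xb1 yb10 zb35) (kb xb1 yb5 zb34) (kb xb2 yb25 zb16) (kb xb2 yb25 zb20) (kb xb1 yb10 zb37) (kb xb2 yb19 zb39) (kb xb1 yb10 zb38) (kb xb1 yb5 zb39) (kb xb2 yb25 zb7) (kb xb1 yb8 zb1) (kb xb1 yb6 zb3) (kb xb2 yb25 zb17) (kb xb1 yb8 zb11) (kb xb1 yb6 zb6) (kb xb2 yb25 zb27) (kb xb2 yb25 zb32) (kb xb2 yb25 zb33) (kb xb2 yb21 zb13) (kb xb2 yb25 zb36) (kb xb2 yb25 zb38) (kb xb1 yb6 zb8) (kb xb3 yb0 zb3) (kb xb1 yb6 zb9) (kb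 xb3 yb0 zb7) (kb xb1 yb6 zb10) (kb xb3 yb0 zb11) (kb xb1 yb6 zb11) (kb xb3 yb0 zb15)) (@D3.rec (fun _ => Pt) (kb xb3 yb0 zb16) (kb xb1 yb6 zb17) (kb xb3 yb0 zb21) (kb xb1 yb6 zb13) (kb xb3 yb0 zb26) (kb xb1 yb6 zb21) (kb xb3 yb0 zb31) (kb xb1 yb6 zb15) (kb xb1 yb6 zb16) (kb xb3 yb0 zb37) (kb xb3 yb0 zb19) (kb xb3 yb1 zb1) (kb xb1 yb6 zb18) (kb xb1 yb23 zb22) (kb xb1 yb23 zb21) (kb xb3 yb0 zb24) (kb xb1 yb6 zb20) (kb xb3 yb1 zb8) (kb xb3 yb0 zb29) (kb xb3 yb1 zb12) (kb xb1 yb6 zb22) (kb xb1 yb23 zb14) (kb xb1 yb23 zb13) (kb xb3 yb0 zb34) (kb xb3 yb1 zb18) (kb xb1 yb23 zb30) (kb xb1 yb23 zb32) (kb xb1 yb23 zb31) (kb xb1 yb23 zb28) (kb xb3 yb1 zb24) (kb xb1 yb23 zb25) (kb xb1 yb23 zb27) (kb xb1 yb23 zb26) (kb xb1 yb23 zb33) (kb xb3 yb1 zb30) (kb xb3 yb1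 zb31) (kb xb2 yb21 zb26) (kb xb3 yb1 zb34) (kb xb3 yb1 zb36) (kb xb1 yb7 zb3)) (@D3.rec (fun _ => Pt) (kb xb1 yb7 zb4) (kb xb3 yb2 zb4) (kb xb2 yb23 zb33) (kb xb3 yb2 zb8) (kb xb1 yb7 zb6) (kb xb3 yb2 zb12) (kb xb2 yb23 zb37) (kb xb3 yb2 zb16) (kb xb1 yb7 zb8) (kb xb1 yb7 zb9) (kb xb3 yb2 zb24) (kb xb3 yb2 zb27) (kb xb1 yb7 zb19) (kb xb3 yb2 zb30) (kb xb1 yb7 zb11) (kb xb3 yb2 zb35) (kb xb3 yb2 zb36) (kb xb1 yb7 zb24) (kb xb1 yb20 zb24) (kb xb1 yb7 zb13) (kb xb3 yb3 zb6) (kb xb3 yb3 zb9) (kb xb1 yb7 zb27) (kb xb3 yb3 zb12) (kb xb1 yb7 zb15) (kb xb3 yb3 zb17) (kb xb3 yb3 zb18) (kb xb1 yb7 zb32) (kb xb1 yb20 zb22) (kb xb3 yb3 zb24) (kb xb1 yb7 zb18) (kb xb3 yb3 zb27) (kb xb3 yb3 zb31) (kb xb3 yb2 zb28) (kb xb3 yb3 zb35) (kb xb1 yb7 zb20) (kb xb3 yb4 zb0)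 (kb xb1 yb25 zb9) (kb xb3 yb3 zb38) (kb xb3 yb4 zb3)) (@D3.rec (fun _ => Pt) (kb xb3 yb2 zb39) (kb xb3 yb4 zb7) (kb xb1 yb7 zb26) (kb xb3 yb4 zb10) (kb xb3 yb4 zb14) (kb xb3 yb3 zb10) (kb xb3 yb4 zb18) (kb xb1 yb7 zb28) (kb xb3 yb4 zb23) (kb xb1 yb24 zb37) (kb xb3 yb4 zb21) (kb xb3 yb4 zb26) (kb xb3 yb3 zb21) (kb xb3 yb4 zb30) (kb xb1 yb25 zb14) (kb xb1 yb7 zb34) (kb xb3 yb4 zb33) (kb xb3 yb4 zb34) (kb xb3 yb5 zb1) (kb xb3 yb5 zb3) (kb xb1 yb7 zb36) (kb xb3 yb5 zb4) (kb xb1 yb14 zb6) (kb xb1 yb8 zb14) (kb xb1 yb7 zb38) (kb xb2 yb0 zb28) (kb xb2 yb25 zb15) (kb xb3 yb5 zb9) (kb xb1 yb8 zb33) (kb xb3 yb5 zb12) (kb xb1 yb25 zb30) (kb xb1 yb8 zb4) (kb xb3 yb5 zb15) (kb xb3 yb5 zb16) (kb xb3 yb5 zb23) (kb xb3 yb5 zb25) (kb xb1 yb8 zb6) (kb xb3 yb5 zb26) (kb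 xb1 yb14 zb7) (kb xb1 yb8 zb20))
def f_b_2 : D2 → D3 → Pt := @D2.rec (fun _ => D3 → Pt) (@D3.rec (fun _ => Pt) (kb xb1 yb8 zb8) (kb xb2 yb0 zb15) (kb xb2 yb25 zb25) (kb xb3 yb5 zb31) (kb xb1 yb9 zb2) (kb xb3 yb5 zb34) (kb xb1 yb8 zb26) (kb xb1 yb13 zb16) (kb xb3 yb6 zb2) (kb xb3 yb5 zb38) (kb xb3 yb6 zb5) (kb xb1 yb8 zb27) (kb xb1 yb8 zb28) (kb xb2 yb19 zb33) (kb xb3 yb6 zb7) (kb xb2 yb0 zb1) (kb xb1 yb8 zb32) (kb xb3 yb6 zb14) (kb xb3 yb6 zb18) (kb xb1 yb8 zb35) (kb xb3 yb6 zb25) (kb xb1 yb13 zb34) (kb xb3 yb6 zb22) (kb xb3 yb6 zb29) (kb xb1 yb8 zb36) (kb xb1 yb8 zb37) (kb xb2 yb19 zb15) (kb xb3 yb6 zb31) (kb xb1 yb25 zb25) (kb xb1 yb9 zb1) (kb xb3 yb6 zb38) (kb xb1 yb9 zb5) (kb xb1 yb16 zb9) (kb xb1 yb9 zb7) (kb xb2 yb0 zb34) (kb xb2 yb0 zb35) (kb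 xb3 yb7 zb13) (kb xb1 yb9 zb9) (kb xb3 yb7 zb18) (kb xb3 yb7 zb20)) (@D3.rec (fun _ => Pt) (kb xb1 yb11 zb29) (kb xb3 yb7 zb24) (kb xb3 yb7 zb25) (kb xb1 yb9 zb10) (kb xb1 yb9 zb11) (kb xb1 yb9 zb12) (kb xb3 yb7 zb30) (kb xb3 yb7 zb36) (kb xb3 yb7 zb37) (kb xb1 yb21 zb17) (kb xb1 yb9 zb16) (kb xb3 yb8 zb4) (kb xb3 yb8 zb6) (kb xb1 yb9 zb14) (kb xb3 yb8 zb10) (kb xb1 yb9 zb15) (kb xb3 yb8 zb13) (kb xb3 yb8 zb14) (kb xb3 yb8 zb15) (kb xb1 yb9 zb17) (kb xb1 yb9 zb18) (kb xb3 yb8 zb22) (kb xb2 yb3 zb26) (kb xb3 yb8 zb25) (kb xb2 yb3 zb16) (kb xb3 yb8 zb28) (kb xb3 yb8 zb29) (kb xb1 yb9 zb22) (kb xb3 yb8 zb33) (kb xb1 yb9 zb23) (kb xb3 yb8 zb37) (kb xb3 yb8 zb38) (kb xb3 yb9 zb0) (kb xb1 yb9 zb25) (kb xb3 yb9 zb5) (kb xb1 yb9 zb26) (kb xb3 yb9 zb9) (kb xb3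 yb9 zb10) (kb xb1 yb9 zb31) (kb xb3 yb9 zb15)) (@D3.rec (fun _ => Pt) (kb xb1 yb9 zb28) (kb xb3 yb9 zb20) (kb xb1 yb9 zb33) (kb xb3 yb9 zb25) (kb xb1 yb9 zb30) (kb xb3 yb9 zb13) (kb xb1 yb11 zb23) (kb xb3 yb9 zb18) (kb xb3 yb9 zb23) (kb xb1 yb11 zb19) (kb xb3 yb9 zb28) (kb xb1 yb16 zb6) (kb xb2 yb2 zb12) (kb xb1 yb16 zb4) (kb xb2 yb2 zb14) (kb xb3 yb10 zb0) (kb xb3 yb10 zb1) (kb xb1 yb10 zb2) (kb xb1 yb10 zb3) (kb xb1 yb10 zb4) (kb xb3 yb10 zb11) (kb xb1 yb10 zb5) (kb xb3 yb10 zb15) (kb xb3 yb10 zb16) (kb xb1 yb11 zb35) (kb xb3 yb10 zb20) (kb xb1 yb10 zb7) (kb xb3 yb10 zb24) (kb xb1 yb11 zb39) (kb xb3 yb10 zb28) (kb xb1 yb10 zb9) (kb xb3 yb10 zb32) (kb xb3 yb10 zb33) (kb xb1 yb10 zb11) (kb xb1 yb10 zb12) (kb xb1 yb10 zb13) (kb xb3 yb11 zb3) (kb xb1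 yb10 zb14) (kb xb3 yb11 zb7) (kb xb3 yb11 zb8)) (@D3.rec (fun _ => Pt) (kb xb3 yb10 zb35) (kb xb3 yb11 zb13) (kb xb1 yb10 zb16) (kb xb3 yb11 zb18) (kb xb3 yb10 zb38) (kb xb3 yb11 zb23) (kb xb1 yb10 zb18) (kb xb1 yb10 zb19) (kb xb3 yb11 zb32) (kb xb3 yb11 zb35) (kb xb1 yb10 zb27) (kb xb2 yb18 zb29) (kb xb1 yb10 zb21) (kb xb3 yb12 zb3) (kb xb3 yb12 zb4) (kb xb1 yb10 zb29) (kb xb2 yb1 zb24) (kb xb1 yb10 zb23) (kb xb3 yb12 zb14) (kb xb3 yb12 zb17) (kb xb1 yb10 zb30) (kb xb2 yb19 zb8) (kb xb1 yb10 zb25) (kb xb3 yb12 zb25) (kb xb3 yb12 zb26) (kb xb1 yb10 zb32) (kb xb2 yb1 zb22) (kb xb3 yb12 zb32) (kb xb3 yb11 zb37) (kb xb3 yb12 zb34) (kb xb3 yb12 zb7) (kb xb3 yb12 zb38) (kb xb3 yb12 zb19) (kb xb3 yb13 zb0) (kb xb3 yb12 zb29) (kb xb1 yb10 zb33) (kb xb3 yb13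 zb5) (kb xb3 yb13 zb6) (kb xb3 yb13 zb11) (kb xb1 yb10 zb36)) (@D3.rec (fun _ => Pt) (kb xb3 yb13 zb14) (kb xb3 yb13 zb15) (kb xb3 yb13 zb20) (kb xb1 yb14 zb18) (kb xb1 yb11 zb0) (kb xb3 yb13 zb26) (kb xb3 yb13 zb28) (kb xb3 yb13 zb30) (kb xb3 yb13 zb33) (kb xb3 yb13 zb34) (kb xb1 yb11 zb1) (kb xb1 yb11 zb2) (kb xb3 yb14 zb1) (kb xb3 yb14 zb3) (kb xb1 yb11 zb4) (kb xb3 yb14 zb8) (kb xb1 yb11 zb5) (kb xb3 yb14 zb12) (kb xb3 yb14 zb13) (kb xb3 yb8 zb31) (kb xb3 yb14 zb17) (kb xb1 yb11 zb7) (kb xb3 yb14 zb21) (kb xb3 yb8 zb35) (kb xb3 yb14 zb25) (kb xb1 yb11 zb9) (kb xb3 yb14 zb29) (kb xb2 yb4 zb27) (kb xb2 yb12 zb7) (kb xb3 yb14 zb35) (kb xb2 yb4 zb30) (kb xb2 yb11 zb37) (kb xb1 yb11 zb12) (kb xb3 yb15 zb4) (kb xb3 yb15 zb7) (kb xb1 yb11 zb20) (kb xb3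 yb15 zb11) (kb xb3 yb15 zb13) (kb xb1 yb11 zb15) (kb xb3 yb15 zb17)) (@D3.rec (fun _ => Pt) (kb xb3 yb15 zb20) (kb xb1 yb11 zb24) (kb xb3 yb15 zb24) (kb xb3 yb15 zb26) (kb xb1 yb11 zb18) (kb xb3 yb15 zb28) (kb xb3 yb15 zb32) (kb xb3 yb15 zb9) (kb xb3 yb15 zb34) (kb xb1 yb11 zb21) (kb xb1 yb11 zb22) (kb xb3 yb15 zb38) (kb xb3 yb16 zb2) (kb xb3 yb15 zb22) (kb xb3 yb16 zb4) (kb xb1 yb11 zb25) (kb xb1 yb11 zb26) (kb xb3 yb16 zb8) (kb xb1 yb11 zb27) (kb xb3 yb16 zb13) (kb xb3 yb16 zb17) (kb xb3 yb16 zb18) (kb xb3 yb16 zb19) (kb xb3 yb16 zb21) (kb xb1 yb11 zb30) (kb xb3 yb16 zb24) (kb xb1 yb11 zb31) (kb xb3 yb16 zb26) (kb xb3 yb16 zb27) (kb xb3 yb10 zb3) (kb xb2 yb6 zb9) (kb xb3 yb16 zb30) (kb xb3 yb10 zb6) (kb xb2 yb6 zb1) (kb xb1 yb11 zb34) (kb xb3 yb16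 zb37) (kb xb3 yb10 zb18) (kb xb3 yb17 zb2) (kb xb1 yb11 zb36) (kb xb3 yb17 zb6)) (@D3.rec (fun _ => Pt) (kb xb3 yb10 zb22) (kb xb2 yb5 zb33) (kb xb1 yb11 zb38) (kb xb3 yb17 zb16) (kb xb3 yb10 zb26) (kb xb3 yb17 zb21) (kb xb1 yb12 zb0) (kb xb3 yb17 zb25) (kb xb3 yb10 zb30) (kb xb2 yb5 zb30) (kb xb1 yb17 zb1) (kb xb3 yb16 zb35) (kb xb3 yb17 zb34) (kb xb1 yb12 zb3) (kb xb3 yb17 zb36) (kb xb3 yb18 zb1) (kb xb1 yb12 zb4) (kb xb3 yb18 zb5) (kb xb1 yb12 zb18) (kb xb3 yb18 zb9) (kb xb1 yb12 zb6) (kb xb3 yb18 zb13) (kb xb1 yb12 zb7) (kb xb1 yb17 zb24) (kb xb3 yb18 zb19) (kb xb3 yb17 zb15) (kb xb1 yb12 zb9) (kb xb3 yb18 zb22) (kb xb3 yb18 zb27) (kb xb1 yb12 zb10) (kb xb3 yb18 zb31) (kb xb1 yb12 zb25) (kb xb3 yb18 zb35) (kb xb1 yb12 zb12) (kb xb3 yb18 zb39) (kb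 xb1 yb12 zb13) (kb xb3 yb19 zb3) (kb xb1 yb12 zb15) (kb xb2 yb18 zb20) (kb xb3 yb19 zb12)) (@D3.rec (fun _ => Pt) (kb xb3 yb19 zb8) (kb xb3 yb19 zb15) (kb xb1 yb12 zb16) (kb xb1 yb12 zb17) (kb xb3 yb19 zb19) (kb xb3 yb19 zb24) (kb xb3 yb19 zb25) (kb xb1 yb12 zb19) (kb xb3 yb19 zb29) (kb xb1 yb17 zb22) (kb xb3 yb19 zb32) (kb xb1 yb12 zb22) (kb xb3 yb20 zb0) (kb xb2 yb19 zb0) (kb xb3 yb19 zb37) (kb xb3 yb20 zb4) (kb xb1 yb12 zb23) (kb xb1 yb12 zb24) (kb xb3 yb20 zb8) (kb xb3 yb20 zb12) (kb xb3 yb20 zb13) (kb xb1 yb12 zb26) (kb xb3 yb20 zb17) (kb xb1 yb18 zb5) (kb xb3 yb20 zb20) (kb xb1 yb12 zb29) (kb xb2 yb23 zb18) (kb xb3 yb20 zb23) (kb xb3 yb20 zb24) (kb xb1 yb12 zb33) (kb xb1 yb12 zb34) (kb xb3 yb13 zb7) (kb xb3 yb20 zb36) (kb xb3 yb20 zb29) (kb xb3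 yb21 zb0) (kb xb3 yb20 zb32) (kb xb3 yb21 zb3) (kb xb1 yb12 zb35) (kb xb1 yb12 zb36) (kb xb2 yb19 zb36)) (@D3.rec (fun _ => Pt) (kb xb3 yb21 zb5) (kb xb3 yb21 zb10) (kb xb1 yb13 zb0) (kb xb2 yb23 zb19) (kb xb3 yb21 zb13) (kb xb3 yb21 zb14) (kb xb1 yb13 zb4) (kb xb1 yb13 zb5) (kb xb3 yb21 zb25) (kb xb3 yb13 zb17) (kb xb3 yb21 zb19) (kb xb3 yb21 zb30) (kb xb3 yb21 zb22) (kb xb3 yb21 zb33) (kb xb1 yb13 zb6) (kb xb1 yb13 zb7) (kb xb2 yb19 zb18) (kb xb3 yb21 zb35) (kb xb3 yb22 zb0) (kb xb1 yb13 zb13) (kb xb2 yb10 zb4) (kb xb3 yb7 zb0) (kb xb2 yb8 zb25) (kb xb1 yb13 zb14) (kb xb3 yb22 zb6) (kb xb2 yb8 zb22) (kb xb3 yb22 zb10) (kb xb1 yb13 zb18) (kb xb3 yb5 zb39) (kb xb3 yb22 zb14) (kb xb3 yb22 zb15) (kb xb1 yb13 zb17) (kb xb3 yb22 zb19) (kb xb3 yb22 zb7)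 (kb xb3 yb22 zb21) (kb xb1 yb13 zb19) (kb xb3 yb22 zb25) (kb xb3 yb22 zb26) (kb xb1 yb13 zb25) (kb xb3 yb22 zb31)) (@D3.rec (fun _ => Pt) (kb xb1 yb13 zb21) (kb xb3 yb5 zb5) (kb xb3 yb22 zb23) (kb xb1 yb13 zb24) (kb xb3 yb22 zb39) (kb xb3 yb22 zb29) (kb xb3 yb23 zb4) (kb xb3 yb22 zb34) (kb xb3 yb23 zb6) (kb xb1 yb13 zb30) (kb xb3 yb6 zb15) (kb xb2 yb10 zb13) (kb xb2 yb9 zb16) (kb xb1 yb13 zb31) (kb xb3 yb23 zb12) (kb xb3 yb23 zb16) (kb xb2 yb9 zb12) (kb xb1 yb13 zb35) (kb xb3 yb23 zb19) (kb xb3 yb6 zb24) (kb xb1 yb13 zb33) (kb xb3 yb23 zb24) (kb xb3 yb23 zb25) (kb xb3 yb23 zb14) (kb xb3 yb23 zb27) (kb xb1 yb13 zb36) (kb xb3 yb23 zb31) (kb xb3 yb23 zb32) (kb xb1 yb14 zb2) (kb xb3 yb23 zb37) (kb xb1 yb13 zb38) (kb xb3 yb5 zb27) (kb xb3 yb23 zb29) (kb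 xb1 yb14 zb1) (kb xb3 yb24 zb5) (kb xb3 yb23 zb35) (kb xb3 yb24 zb10) (kb xb3 yb24 zb0) (kb xb3 yb24 zb12) (kb xb1 yb14 zb9)) (@D3.rec (fun _ => Pt) (kb xb3 yb24 zb15) (kb xb3 yb24 zb20) (kb xb1 yb14 zb11) (kb xb3 yb24 zb23) (kb xb2 yb8 zb20) (kb xb3 yb22 zb35) (kb xb3 yb24 zb28) (kb xb1 yb14 zb14) (kb xb3 yb24 zb31) (kb xb3 yb24 zb36) (kb xb1 yb14 zb16) (kb xb3 yb24 zb39) (kb xb3 yb24 zb1) (kb xb2 yb9 zb11) (kb xb3 yb7 zb2) (kb xb3 yb25 zb7) (kb xb3 yb25 zb8) (kb xb2 yb10 zb17) (kb xb3 yb25 zb12) (kb xb3 yb25 zb14) (kb xb3 yb25 zb16) (kb xb3 yb25 zb18) (kb xb1 yb14 zb21) (kb xb3 yb25 zb23) (kb xb1 yb14 zb22) (kb xb3 yb25 zb27) (kb xb1 yb14 zb23) (kb xb3 yb25 zb29) (kb xb3 yb25 zb34) (kb xb3 yb25 zb35) (kb xb1 yb14 zb24) (kb xb1 yb14 zb25) (kb xb4 yb0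 zb2) (kb xb2 yb10 zb33) (kb xb2 yb11 zb27) (kb xb4 yb0 zb8) (kb xb2 yb10 zb36) (kb xb2 yb11 zb19) (kb xb4 yb0 zb14) (kb xb4 yb0 zb16)) (@D3.rec (fun _ => Pt) (kb xb1 yb14 zb29) (kb xb4 yb0 zb20) (kb xb1 yb14 zb30) (kb xb4 yb0 zb23) (kb xb4 yb0 zb24) (kb xb4 yb0 zb18) (kb xb4 yb0 zb28) (kb xb1 yb14 zb32) (kb xb4 yb0 zb32) (kb xb4 yb0 zb21) (kb xb4 yb0 zb36) (kb xb1 yb14 zb34) (kb xb1 yb14 zb35) (kb xb4 yb1 zb2) (kb xb2 yb11 zb14) (kb xb4 yb1 zb7) (kb xb1 yb14 zb37) (kb xb4 yb1 zb11) (kb xb2 yb11 zb18) (kb xb2 yb10 zb37) (kb xb1 yb14 zb39) (kb xb4 yb1 zb19) (kb xb2 yb11 zb22) (kb xb4 yb1 zb24) (kb xb1 yb15 zb1) (kb xb4 yb1 zb28) (kb xb2 yb11 zb26) (kb xb2 yb10 zb34) (kb xb1 yb15 zb3) (kb xb4 yb1 zb36) (kb xb4 yb1 zb39) (kb xb2 yb11 zb31) (kb xb4 yb2 zb3)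 (kb xb1 yb15 zb5) (kb xb4 yb2 zb8) (kb xb4 yb2 zb9) (kb xb2 yb11 zb36) (kb xb2 yb4 zb31) (kb xb1 yb15 zb7) (kb xb4 yb2 zb17)) (@D3.rec (fun _ => Pt) (kb xb4 yb2 zb20) (kb xb2 yb12 zb1) (kb xb4 yb2 zb24) (kb xb1 yb15 zb9) (kb xb4 yb2 zb29) (kb xb4 yb2 zb30) (kb xb2 yb12 zb6) (kb xb2 yb4 zb28) (kb xb3 yb15 zb1) (kb xb4 yb2 zb38) (kb xb4 yb1 zb0) (kb xb4 yb3 zb3) (kb xb1 yb15 zb12) (kb xb4 yb3 zb6) (kb xb4 yb3 zb12) (kb xb1 yb15 zb13) (kb xb4 yb3 zb16) (kb xb1 yb15 zb32) (kb xb4 yb3 zb21) (kb xb1 yb15 zb15) (kb xb4 yb3 zb25) (kb xb4 yb3 zb26) (kb xb3 yb16 zb10) (kb xb4 yb3 zb30) (kb xb1 yb15 zb17) (kb xb1 yb15 zb18) (kb xb4 yb3 zb38) (kb xb4 yb4 zb1) (kb xb1 yb15 zb36) (kb xb3 yb15 zb36) (kb xb4 yb4 zb6) (kb xb3 yb15 zb14) (kb xb4 yb4 zb9) (kb xb4 yb4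 zb13) (kb xb4 yb1 zb18) (kb xb1 yb15 zb22) (kb xb4 yb4 zb17) (kb xb4 yb4 zb23) (kb xb1 yb15 zb23) (kb xb4 yb4 zb27)) (@D3.rec (fun _ => Pt) (kb xb1 yb15 zb38) (kb xb4 yb4 zb32) (kb xb1 yb15 zb25) (kb xb4 yb4 zb36) (kb xb4 yb4 zb37) (kb xb3 yb16 zb14) (kb xb4 yb5 zb1) (kb xb1 yb15 zb27) (kb xb1 yb15 zb28) (kb xb4 yb5 zb9) (kb xb4 yb5 zb12) (kb xb1 yb16 zb2) (kb xb3 yb16 zb6) (kb xb4 yb5 zb17) (kb xb1 yb15 zb31) (kb xb4 yb5 zb19) (kb xb4 yb5 zb21) (kb xb2 yb13 zb17) (kb xb2 yb13 zb28) (kb xb4 yb5 zb25) (kb xb1 yb15 zb35) (kb xb4 yb5 zb28) (kb xb4 yb5 zb32) (kb xb4 yb4 zb3) (kb xb1 yb15 zb37) (kb xb4 yb5 zb35) (kb xb4 yb5 zb37) (kb xb2 yb13 zb27) (kb xb2 yb13 zb18) (kb xb4 yb6 zb1) (kb xb1 yb16 zb1) (kb xb4 yb6 zb4) (kb xb4 yb6 zb8) (kb xb4 yb5 zb14) (kb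 xb4 yb6 zb10) (kb xb3 yb9 zb38) (kb xb4 yb6 zb13) (kb xb3 yb9 zb36) (kb xb1 yb16 zb7) (kb xb1 yb16 zb8)) (@D3.rec (fun _ => Pt) (kb xb3 yb7 zb5) (kb xb4 yb6 zb20) (kb xb4 yb6 zb21) (kb xb1 yb16 zb10) (kb xb1 yb16 zb11) (kb xb4 yb6 zb28) (kb xb2 yb14 zb6) (kb xb4 yb6 zb35) (kb xb4 yb6 zb37) (kb xb1 yb16 zb13) (kb xb4 yb7 zb1) (kb xb1 yb16 zb14) (kb xb4 yb7 zb4) (kb xb4 yb7 zb5) (kb xb4 yb6 zb39) (kb xb4 yb7 zb9) (kb xb1 yb16 zb16) (kb xb4 yb7 zb13) (kb xb4 yb7 zb2) (kb xb4 yb7 zb17) (kb xb1 yb16 zb18) (kb xb1 yb16 zb19) (kb xb4 yb7 zb25) (kb xb4 yb7 zb28) (kb xb2 yb14 zb24) (kb xb4 yb7 zb31) (kb xb3 yb19 zb0) (kb xb1 yb16 zb22) (kb xb4 yb7 zb37) (kb xb4 yb8 zb0) (kb xb2 yb14 zb30) (kb xb4 yb8 zb3) (kb xb3 yb18 zb14) (kb xb4 yb7 zb21) (kb xb4 yb8 zb6)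 (kb xb1 yb17 zb3) (kb xb2 yb16 zb28) (kb xb1 yb16 zb26) (kb xb4 yb8 zb11) (kb xb4 yb8 zb16)) (@D3.rec (fun _ => Pt) (kb xb2 yb15 zb0) (kb xb4 yb8 zb21) (kb xb1 yb16 zb28) (kb xb4 yb8 zb24) (kb xb4 yb8 zb22) (kb xb2 yb16 zb10) (kb xb1 yb16 zb30) (kb xb4 yb8 zb31) (kb xb3 yb17 zb27) (kb xb2 yb15 zb9) (kb xb4 yb8 zb37) (kb xb4 yb8 zb39) (kb xb4 yb7 zb33) (kb xb4 yb9 zb1) (kb xb2 yb17 zb39) (kb xb1 yb17 zb27) (kb xb1 yb16 zb34) (kb xb4 yb9 zb6) (kb xb4 yb9 zb11) (kb xb2 yb15 zb19) (kb xb4 yb9 zb16) (kb xb1 yb16 zb36) (kb xb4 yb9 zb19) (kb xb4 yb9 zb17) (kb xb2 yb17 zb21) (kb xb1 yb16 zb38) (kb xb4 yb9 zb26) (kb xb3 yb17 zb8) (kb xb2 yb15 zb28) (kb xb4 yb9 zb32) (kb xb4 yb9 zb34) (kb xb4 yb9 zb35) (kb xb4 yb9 zb36) (kb xb1 yb17 zb2) (kb xb3 yb3 zb28) (kb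 xb2 yb24 zb33) (kb xb4 yb10 zb1) (kb xb4 yb10 zb3) (kb xb1 yb17 zb4) (kb xb4 yb10 zb7)) (@D3.rec (fun _ => Pt) (kb xb2 yb16 zb0) (kb xb1 yb17 zb6) (kb xb4 yb8 zb12) (kb xb4 yb10 zb16) (kb xb4 yb10 zb18) (kb xb4 yb10 zb12) (kb xb4 yb10 zb22) (kb xb1 yb17 zb7) (kb xb4 yb10 zb26) (kb xb4 yb10 zb24) (kb xb2 yb15 zb5) (kb xb2 yb16 zb11) (kb xb2 yb16 zb12) (kb xb4 yb10 zb35) (kb xb4 yb10 zb37) (kb xb1 yb17 zb11) (kb xb4 yb11 zb2) (kb xb4 yb11 zb3) (kb xb1 yb17 zb15) (kb xb4 yb11 zb7) (kb xb1 yb17 zb13) (kb xb1 yb17 zb14) (kb xb4 yb11 zb15) (kb xb4 yb11 zb5) (kb xb4 yb11 zb20) (kb xb1 yb17 zb16) (kb xb3 yb16 zb32) (kb xb4 yb11 zb9) (kb xb2 yb14 zb36) (kb xb2 yb18 zb0) (kb xb4 yb11 zb32) (kb xb4 yb11 zb36) (kb xb4 yb11 zb14) (kb xb1 yb17 zb19) (kb xb4 yb11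 zb39) (kb xb4 yb12 zb5) (kb xb1 yb17 zb20) (kb xb4 yb12 zb7) (kb xb1 yb18 zb18) (kb xb3 yb19 zb28)) (@D3.rec (fun _ => Pt) (kb xb4 yb12 zb13) (kb xb1 yb17 zb23) (kb xb4 yb12 zb17) (kb xb4 yb12 zb18) (kb xb1 yb17 zb25) (kb xb3 yb4 zb12) (kb xb4 yb12 zb22) (kb xb2 yb25 zb0) (kb xb1 yb17 zb26) (kb xb4 yb10 zb28) (kb xb4 yb12 zb28) (kb xb2 yb17 zb11) (kb xb1 yb17 zb29) (kb xb4 yb12 zb36) (kb xb4 yb9 zb8) (kb xb4 yb12 zb39) (kb xb4 yb12 zb33) (kb xb4 yb13 zb3) (kb xb1 yb17 zb30) (kb xb4 yb13 zb7) (kb xb4 yb13 zb5) (kb xb2 yb15 zb24) (kb xb2 yb17 zb22) (kb xb2 yb17 zb23) (kb xb4 yb13 zb15) (kb xb4 yb13 zb17) (kb xb1 yb17 zb34) (kb xb4 yb13 zb22) (kb xb4 yb13 zb23) (kb xb1 yb17 zb38) (kb xb4 yb13 zb27) (kb xb1 yb17 zb36) (kb xb1 yb17 zb37) (kb xb4 yb13 zb35)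 (kb xb4 yb13 zb25) (kb xb4 yb14 zb0) (kb xb1 yb17 zb39) (kb xb3 yb16 zb29) (kb xb4 yb13 zb29) (kb xb2 yb15 zb14)) (@D3.rec (fun _ => Pt) (kb xb2 yb16 zb29) (kb xb4 yb14 zb12) (kb xb4 yb13 zb33) (kb xb4 yb14 zb17) (kb xb1 yb18 zb2) (kb xb4 yb14 zb19) (kb xb4 yb14 zb24) (kb xb1 yb18 zb3) (kb xb4 yb14 zb26) (kb xb1 yb18 zb30) (kb xb3 yb20 zb16) (kb xb4 yb14 zb31) (kb xb1 yb18 zb6) (kb xb1 yb18 zb7) (kb xb4 yb14 zb37) (kb xb2 yb18 zb15) (kb xb1 yb18 zb9) (kb xb4 yb15 zb2) (kb xb4 yb7 zb6) (kb xb1 yb18 zb12) (kb xb2 yb6 zb38) (kb xb4 yb15 zb9) (kb xb4 yb15 zb6) (kb xb4 yb15 zb10) (kb xb1 yb18 zb14) (kb xb4 yb15 zb13) (kb xb4 yb15 zb18) (kb xb1 yb18 zb16) (kb xb3 yb19 zb17) (kb xb2 yb3 zb11) (kb xb4 yb15 zb23) (kb xb1 yb18 zb17) (kb xb4 yb15 zb29) (kb xb1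 yb18 zb19) (kb xb4 yb15 zb35) (kb xb2 yb18 zb35) (kb xb1 yb18 zb21) (kb xb4 yb16 zb0) (kb xb4 yb7 zb14) (kb xb1 yb18 zb24)) (@D3.rec (fun _ => Pt) (kb xb2 yb7 zb13) (kb xb4 yb16 zb7) (kb xb4 yb16 zb4) (kb xb4 yb16 zb8) (kb xb1 yb18 zb26) (kb xb4 yb16 zb11) (kb xb4 yb16 zb16) (kb xb1 yb18 zb28) (kb xb2 yb3 zb21) (kb xb3 yb20 zb6) (kb xb4 yb16 zb21) (kb xb1 yb18 zb29) (kb xb4 yb16 zb27) (kb xb1 yb18 zb31) (kb xb4 yb16 zb31) (kb xb2 yb0 zb26) (kb xb1 yb18 zb35) (kb xb4 yb16 zb36) (kb xb2 yb8 zb16) (kb xb1 yb19 zb28) (kb xb4 yb17 zb0) (kb xb1 yb22 zb11) (kb xb1 yb18 zb39) (kb xb4 yb17 zb4) (kb xb4 yb17 zb8) (kb xb1 yb19 zb2) (kb xb1 yb19 zb3) (kb xb3 yb21 zb6) (kb xb4 yb16 zb33) (kb xb4 yb17 zb14) (kb xb4 yb17 zb17) (kb xb1 yb19 zb4) (kb xb4 yb17 zb21)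 (kb xb2 yb0 zb13) (kb xb1 yb19 zb8) (kb xb4 yb17 zb25) (kb xb2 yb7 zb39) (kb xb1 yb19 zb39) (kb xb4 yb17 zb29) (kb xb1 yb22 zb17)) (@D3.rec (fun _ => Pt) (kb xb1 yb19 zb12) (kb xb4 yb17 zb33) (kb xb4 yb17 zb37) (kb xb1 yb19 zb15) (kb xb1 yb19 zb16) (kb xb4 yb17 zb22) (kb xb3 yb21 zb36) (kb xb4 yb18 zb1) (kb xb4 yb18 zb4) (kb xb4 yb18 zb6) (kb xb4 yb18 zb7) (kb xb1 yb19 zb20) (kb xb4 yb18 zb9) (kb xb1 yb19 zb22) (kb xb4 yb18 zb14) (kb xb4 yb18 zb15) (kb xb1 yb19 zb23) (kb xb4 yb18 zb18) (kb xb4 yb18 zb19) (kb xb1 yb19 zb27) (kb xb4 yb18 zb10) (kb xb1 yb19 zb26) (kb xb4 yb18 zb25) (kb xb4 yb18 zb21) (kb xb4 yb18 zb28) (kb xb1 yb19 zb31) (kb xb4 yb18 zb30) (kb xb1 yb19 zb33) (kb xb4 yb18 zb35) (kb xb1 yb19 zb35) (kb xb4 yb18 zb38) (kb xb1 yb19 zb38) (kb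 xb4 yb18 zb31) (kb xb1 yb19 zb37) (kb xb4 yb19 zb4) (kb xb4 yb19 zb0) (kb xb4 yb19 zb7) (kb xb3 yb25 zb4) (kb xb2 yb20 zb38) (kb xb2 yb20 zb39)) (@D3.rec (fun _ => Pt) (kb xb1 yb20 zb2) (kb xb4 yb6 zb17) (kb xb3 yb16 zb39) (kb xb3 yb17 zb18) (kb xb2 yb21 zb4) (kb xb2 yb21 zb5) (kb xb2 yb21 zb6) (kb xb4 yb19 zb18) (kb xb4 yb19 zb19) (kb xb1 yb20 zb6) (kb xb4 yb19 zb22) (kb xb4 yb19 zb27) (kb xb4 yb19 zb28) (kb xb1 yb22 zb29) (kb xb4 yb19 zb31) (kb xb4 yb19 zb33) (kb xb1 yb20 zb8) (kb xb4 yb19 zb37) (kb xb1 yb20 zb9) (kb xb4 yb20 zb0) (kb xb1 yb20 zb10) (kb xb1 yb20 zb11) (kb xb4 yb1 zb4) (kb xb3 yb0 zb35) (kb xb4 yb1 zb21) (kb xb3 yb0 zb25) (kb xb1 yb23 zb36) (kb xb3 yb19 zb20) (kb xb3 yb11 zb36) (kb xb3 yb12 zb18) (kb xb1 yb20 zb15) (kb xb1 yb20 zb16)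 (kb xb4 yb20 zb19) (kb xb4 yb20 zb20) (kb xb1 yb20 zb18) (kb xb4 yb20 zb24) (kb xb4 yb20 zb25) (kb xb1 yb20 zb20) (kb xb1 yb20 zb21) (kb xb4 yb20 zb31)) (@D3.rec (fun _ => Pt) (kb xb4 yb20 zb32) (kb xb1 yb20 zb23) (kb xb4 yb20 zb35) (kb xb4 yb20 zb36) (kb xb4 yb20 zb37) (kb xb4 yb20 zb38) (kb xb1 yb20 zb26) (kb xb1 yb20 zb27) (kb xb4 yb21 zb0) (kb xb4 yb21 zb3) (kb xb1 yb20 zb30) (kb xb4 yb21 zb7) (kb xb4 yb21 zb8) (kb xb1 yb20 zb31) (kb xb4 yb8 zb34) (kb xb1 yb20 zb32) (kb xb4 yb9 zb29) (kb xb4 yb21 zb15) (kb xb1 yb20 zb35) (kb xb2 yb24 zb31) (kb xb4 yb21 zb21) (kb xb1 yb20 zb36) (kb xb2 yb24 zb21) (kb xb4 yb21 zb18) (kb xb4 yb21 zb24) (kb xb1 yb20 zb37) (kb xb4 yb19 zb21) (kb xb3 yb19 zb22) (kb xb3 yb20 zb10) (kb xb4 yb21 zb31) (kb xb4 yb21 zb33)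 (kb xb1 yb20 zb39) (kb xb4 yb21 zb38) (kb xb1 yb21 zb0) (kb xb4 yb22 zb2) (kb xb1 yb21 zb1) (kb xb4 yb22 zb6) (kb xb1 yb21 zb2) (kb xb4 yb22 zb10) (kb xb4 yb22 zb11)) (@D3.rec (fun _ => Pt) (kb xb1 yb21 zb7) (kb xb4 yb22 zb16) (kb xb1 yb21 zb4) (kb xb4 yb22 zb21) (kb xb1 yb21 zb10) (kb xb4 yb22 zb26) (kb xb1 yb21 zb6) (kb xb4 yb22 zb14) (kb xb4 yb22 zb33) (kb xb4 yb22 zb19) (kb xb4 yb22 zb24) (kb xb4 yb22 zb37) (kb xb4 yb22 zb29) (kb xb1 yb21 zb14) (kb xb3 yb21 zb1) (kb xb3 yb21 zb31) (kb xb2 yb23 zb16) (kb xb4 yb16 zb32) (kb xb2 yb7 zb26) (kb xb2 yb8 zb3) (kb xb1 yb21 zb15) (kb xb1 yb21 zb16) (kb xb3 yb7 zb38) (kb xb3 yb7 zb39) (kb xb4 yb23 zb8) (kb xb4 yb23 zb10) (kb xb4 yb23 zb12) (kb xb4 yb23 zb13) (kb xb1 yb21 zb19) (kb xb4 yb23 zb17) (kb xb1 yb21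 zb20) (kb xb4 yb23 zb21) (kb xb4 yb23 zb22) (kb xb1 yb24 zb2) (kb xb4 yb23 zb25) (kb xb1 yb21 zb22) (kb xb4 yb23 zb29) (kb xb1 yb24 zb6) (kb xb4 yb23 zb32) (kb xb1 yb21 zb24)) (@D3.rec (fun _ => Pt) (kb xb1 yb21 zb25) (kb xb4 yb23 zb39) (kb xb1 yb21 zb26) (kb xb4 yb24 zb3) (kb xb3 yb20 zb27) (kb xb3 yb8 zb17) (kb xb4 yb24 zb6) (kb xb1 yb21 zb28) (kb xb3 yb21 zb18) (kb xb3 yb8 zb20) (kb xb4 yb24 zb13) (kb xb1 yb21 zb30) (kb xb1 yb21 zb31) (kb xb4 yb24 zb19) (kb xb4 yb24 zb22) (kb xb1 yb22 zb0) (kb xb4 yb24 zb25) (kb xb1 yb21 zb33) (kb xb4 yb24 zb30) (kb xb4 yb24 zb31) (kb xb1 yb22 zb2) (kb xb2 yb22 zb22) (kb xb1 yb21 zb35) (kb xb4 yb24 zb38) (kb xb4 yb25 zb1) (kb xb1 yb22 zb4) (kb xb4 yb25 zb4) (kb xb1 yb21 zb37) (kb xb4 yb25 zb9) (kb xb4 yb25 zb10)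 (kb xb1 yb22 zb6) (kb xb2 yb22 zb19) (kb xb1 yb21 zb39) (kb xb2 yb15 zb35) (kb xb4 yb25 zb19) (kb xb4 yb24 zb23) (kb xb4 yb25 zb23) (kb xb1 yb22 zb1) (kb xb4 yb24 zb34) (kb xb1 yb22 zb3)) (@D3.rec (fun _ => Pt) (kb xb2 yb17 zb7) (kb xb4 yb25 zb30) (kb xb4 yb25 zb2) (kb xb4 yb25 zb34) (kb xb1 yb22 zb5) (kb xb4 yb25 zb13) (kb xb1 yb22 zb8) (kb xb1 yb22 zb20) (kb xb4 yb25 zb39) (kb xb4 yb25 zb38) (kb xb1 yb22 zb9) (kb xb3 yb10 zb2) (kb xb3 yb10 zb8) (kb xb5 yb0 zb3) (kb xb5 yb0 zb4) (kb xb1 yb25 zb26) (kb xb1 yb22 zb14) (kb xb1 yb22 zb23) (kb xb5 yb0 zb7) (kb xb5 yb0 zb6) (kb xb1 yb22 zb15) (kb xb3 yb10 zb5) (kb xb3 yb10 zb12) (kb xb5 yb0 zb11) (kb xb5 yb0 zb12) (kb xb2 yb0 zb2) (kb xb4 yb19 zb20) (kb xb1 yb22 zb26) (kb xb5 yb0 zb19) (kb xb5 yb0 zb21)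 (kb xb5 yb0 zb23) (kb xb5 yb0 zb24) (kb xb1 yb22 zb27) (kb xb1 yb22 zb28) (kb xb5 yb0 zb31) (kb xb5 yb0 zb32) (kb xb1 yb22 zb30) (kb xb5 yb0 zb36) (kb xb1 yb22 zb31) (kb xb5 yb1 zb0))
def f_b_3 : D2 → D3 → Pt := @D2.rec (fun _ => D3 → Pt) (@D3.rec (fun _ => Pt) (kb xb5 yb1 zb1) (kb xb4 yb21 zb36) (kb xb5 yb1 zb5) (kb xb1 yb22 zb33) (kb xb5 yb1 zb9) (kb xb4 yb22 zb0) (kb xb5 yb1 zb13) (kb xb1 yb22 zb35) (kb xb5 yb1 zb17) (kb xb4 yb20 zb2) (kb xb5 yb1 zb20) (kb xb1 yb22 zb37) (kb xb5 yb1 zb25) (kb xb4 yb20 zb5) (kb xb5 yb1 zb28) (kb xb1 yb22 zb39) (kb xb1 yb23 zb0) (kb xb5 yb1 zb37) (kb xb5 yb2 zb0) (kb xb1 yb23 zb10) (kb xb5 yb2 zb3) (kb xb1 yb23 zb2) (kb xb5 yb2 zb8) (kb xb5 yb2 zb9) (kb xb1 yb23 zb15) (kb xb2 yb21 zb25) (kb xb1 yb23 zb4) (kb xb5 yb2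 zb19) (kb xb5 yb2 zb22) (kb xb1 yb23 zb18) (kb xb5 yb2 zb25) (kb xb1 yb23 zb6) (kb xb5 yb2 zb30) (kb xb5 yb2 zb31) (kb xb1 yb23 zb23) (kb xb2 yb21 zb23) (kb xb5 yb2 zb37) (kb xb1 yb23 zb9) (kb xb5 yb3 zb0) (kb xb5 yb2 zb1)) (@D3.rec (fun _ => Pt) (kb xb5 yb3 zb5) (kb xb1 yb23 zb11) (kb xb5 yb3 zb10) (kb xb3 yb1 zb14) (kb xb5 yb3 zb8) (kb xb5 yb3 zb13) (kb xb5 yb2 zb12) (kb xb5 yb3 zb17) (kb xb1 yb23 zb17) (kb xb5 yb3 zb20) (kb xb5 yb2 zb23) (kb xb5 yb3 zb25) (kb xb1 yb23 zb19) (kb xb5 yb3 zb30) (kb xb3 yb1 zb3) (kb xb5 yb3 zb28) (kb xb5 yb3 zb33) (kb xb5 yb2 zb34) (kb xb1 yb23 zb24) (kb xb5 yb3 zb38) (kb xb5 yb4 zb1) (kb xb3 yb1 zb28) (kb xb3 yb1 zb27) (kb xb5 yb4 zb5) (kb xb1 yb23 zb29) (kb xb5 yb4 zb8) (kb xb5 yb4 zb11) (kb xb3 yb1 zb22) (kb xb3 yb1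 zb21) (kb xb5 yb4 zb15) (kb xb1 yb23 zb34) (kb xb1 yb23 zb35) (kb xb5 yb4 zb17) (kb xb5 yb4 zb18) (kb xb1 yb23 zb37) (kb xb5 yb4 zb22) (kb xb1 yb23 zb38) (kb xb5 yb4 zb26) (kb xb5 yb4 zb27) (kb xb3 yb13 zb10)) (@D3.rec (fun _ => Pt) (kb xb3 yb2 zb19) (kb xb5 yb4 zb32) (kb xb3 yb13 zb19) (kb xb3 yb2 zb11) (kb xb1 yb24 zb1) (kb xb3 yb11 zb33) (kb xb3 yb11 zb29) (kb xb5 yb5 zb3) (kb xb1 yb24 zb3) (kb xb5 yb5 zb7) (kb xb4 yb23 zb27) (kb xb3 yb2 zb3) (kb xb1 yb24 zb5) (kb xb3 yb12 zb15) (kb xb3 yb12 zb11) (kb xb5 yb5 zb19) (kb xb1 yb24 zb7) (kb xb5 yb5 zb23) (kb xb4 yb23 zb34) (kb xb3 yb2 zb0) (kb xb4 yb20 zb29) (kb xb5 yb5 zb32) (kb xb5 yb4 zb39) (kb xb5 yb5 zb37) (kb xb1 yb24 zb10) (kb xb5 yb5 zb39) (kb xb5 yb6 zb4) (kb xb1 yb24 zb11) (kb xb1 yb24 zb33)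 (kb xb5 yb6 zb9) (kb xb1 yb24 zb13) (kb xb5 yb6 zb14) (kb xb5 yb6 zb15) (kb xb5 yb6 zb12) (kb xb5 yb6 zb19) (kb xb1 yb24 zb15) (kb xb1 yb24 zb16) (kb xb5 yb6 zb27) (kb xb5 yb6 zb30) (kb xb1 yb25 zb0)) (@D3.rec (fun _ => Pt) (kb xb3 yb3 zb0) (kb xb5 yb6 zb32) (kb xb4 yb20 zb33) (kb xb5 yb6 zb36) (kb xb5 yb7 zb0) (kb xb5 yb5 zb16) (kb xb1 yb24 zb20) (kb xb5 yb7 zb3) (kb xb5 yb7 zb8) (kb xb1 yb24 zb21) (kb xb1 yb25 zb5) (kb xb5 yb7 zb13) (kb xb1 yb24 zb23) (kb xb5 yb7 zb18) (kb xb5 yb7 zb19) (kb xb5 yb7 zb16) (kb xb5 yb7 zb20) (kb xb1 yb24 zb25) (kb xb1 yb24 zb26) (kb xb5 yb7 zb28) (kb xb5 yb7 zb30) (kb xb1 yb25 zb12) (kb xb3 yb3 zb22) (kb xb5 yb7 zb32) (kb xb1 yb24 zb29) (kb xb5 yb7 zb34) (kb xb5 yb5 zb29) (kb xb1 yb24 zb31) (kb xb2 yb15 zb34) (kb xb4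 yb25 zb14) (kb xb5 yb8 zb1) (kb xb1 yb24 zb32) (kb xb5 yb8 zb5) (kb xb5 yb8 zb10) (kb xb5 yb8 zb11) (kb xb1 yb24 zb34) (kb xb5 yb8 zb16) (kb xb5 yb8 zb17) (kb xb1 yb24 zb38) (kb xb5 yb8 zb22)) (@D3.rec (fun _ => Pt) (kb xb1 yb24 zb36) (kb xb5 yb8 zb26) (kb xb5 yb8 zb20) (kb xb1 yb24 zb39) (kb xb5 yb8 zb31) (kb xb5 yb8 zb35) (kb xb5 yb6 zb31) (kb xb1 yb25 zb1) (kb xb5 yb8 zb38) (kb xb5 yb6 zb33) (kb xb1 yb25 zb3) (kb xb4 yb24 zb35) (kb xb2 yb17 zb5) (kb xb5 yb9 zb5) (kb xb1 yb25 zb4) (kb xb5 yb9 zb9) (kb xb5 yb9 zb14) (kb xb5 yb9 zb15) (kb xb1 yb25 zb6) (kb xb5 yb9 zb20) (kb xb5 yb9 zb21) (kb xb1 yb25 zb10) (kb xb5 yb9 zb26) (kb xb1 yb25 zb8) (kb xb5 yb9 zb30) (kb xb5 yb9 zb24) (kb xb1 yb25 zb11) (kb xb5 yb9 zb35) (kb xb5 yb9 zb39) (kb xb5 yb7 zb31)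 (kb xb1 yb25 zb13) (kb xb5 yb10 zb2) (kb xb5 yb10 zb5) (kb xb1 yb25 zb16) (kb xb1 yb25 zb17) (kb xb3 yb11 zb0) (kb xb5 yb10 zb14) (kb xb5 yb10 zb10) (kb xb5 yb10 zb18) (kb xb3 yb11 zb30)) (@D3.rec (fun _ => Pt) (kb xb5 yb10 zb20) (kb xb1 yb25 zb18) (kb xb5 yb10 zb25) (kb xb1 yb25 zb19) (kb xb1 yb25 zb21) (kb xb2 yb9 zb1) (kb xb5 yb10 zb23) (kb xb5 yb10 zb29) (kb xb5 yb10 zb31) (kb xb1 yb25 zb27) (kb xb5 yb10 zb33) (kb xb5 yb10 zb34) (kb xb1 yb25 zb29) (kb xb5 yb10 zb39) (kb xb5 yb11 zb2) (kb xb1 yb25 zb32) (kb xb1 yb25 zb33) (kb xb5 yb10 zb12) (kb xb3 yb11 zb4) (kb xb5 yb11 zb7) (kb xb5 yb11 zb12) (kb xb3 yb12 zb13) (kb xb5 yb10 zb15) (kb xb1 yb25 zb34) (kb xb5 yb11 zb18) (kb xb1 yb25 zb35) (kb xb1 yb25 zb37) (kb xb2 yb9 zb31) (kb xb5 yb11 zb16) (kb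 xb5 yb11 zb22) (kb xb5 yb11 zb24) (kb xb2 yb0 zb3) (kb xb5 yb11 zb26) (kb xb5 yb11 zb27) (kb xb2 yb0 zb5) (kb xb5 yb11 zb32) (kb xb5 yb11 zb34) (kb xb5 yb11 zb36) (kb xb2 yb0 zb9) (kb xb2 yb8 zb28)) (@D3.rec (fun _ => Pt) (kb xb5 yb11 zb39) (kb xb5 yb12 zb0) (kb xb2 yb0 zb8) (kb xb5 yb11 zb19) (kb xb5 yb12 zb4) (kb xb2 yb0 zb10) (kb xb5 yb12 zb8) (kb xb2 yb0 zb14) (kb xb3 yb6 zb39) (kb xb5 yb12 zb6) (kb xb5 yb12 zb15) (kb xb5 yb12 zb11) (kb xb5 yb12 zb20) (kb xb5 yb12 zb21) (kb xb2 yb0 zb17) (kb xb2 yb9 zb10) (kb xb3 yb6 zb32) (kb xb5 yb12 zb25) (kb xb2 yb0 zb18) (kb xb5 yb12 zb31) (kb xb5 yb12 zb35) (kb xb5 yb12 zb34) (kb xb2 yb0 zb22) (kb xb5 yb12 zb2) (kb xb2 yb9 zb19) (kb xb2 yb0 zb20) (kb xb5 yb10 zb26) (kb xb5 yb12 zb39) (kb xb5 yb13 zb0) (kb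 xb2 yb0 zb23) (kb xb5 yb13 zb3) (kb xb2 yb0 zb27) (kb xb3 yb6 zb16) (kb xb5 yb12 zb3) (kb xb5 yb13 zb10) (kb xb5 yb13 zb6) (kb xb5 yb13 zb13) (kb xb5 yb13 zb14) (kb xb2 yb0 zb30) (kb xb3 yb6 zb8)) (@D3.rec (fun _ => Pt) (kb xb2 yb8 zb21) (kb xb5 yb13 zb18) (kb xb2 yb10 zb14) (kb xb3 yb7 zb3) (kb xb3 yb7 zb4) (kb xb2 yb14 zb0) (kb xb5 yb13 zb29) (kb xb5 yb13 zb30) (kb xb3 yb7 zb8) (kb xb3 yb7 zb9) (kb xb3 yb7 zb10) (kb xb5 yb13 zb36) (kb xb5 yb13 zb37) (kb xb2 yb0 zb36) (kb xb5 yb14 zb0) (kb xb5 yb14 zb1) (kb xb5 yb14 zb2) (kb xb5 yb14 zb4) (kb xb2 yb0 zb38) (kb xb5 yb14 zb8) (kb xb2 yb0 zb39) (kb xb5 yb14 zb11) (kb xb5 yb14 zb12) (kb xb5 yb14 zb13) (kb xb2 yb1 zb1) (kb xb2 yb1 zb2) (kb xb5 yb14 zb20) (kb xb3 yb9 zb29) (kb xb5 yb14 zb23) (kb xb3 yb9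 zb19) (kb xb2 yb1 zb6) (kb xb5 yb14 zb28) (kb xb5 yb14 zb29) (kb xb5 yb14 zb30) (kb xb5 yb10 zb1) (kb xb5 yb10 zb38) (kb xb2 yb1 zb7) (kb xb2 yb1 zb8) (kb xb2 yb23 zb22) (kb xb2 yb23 zb23)) (@D3.rec (fun _ => Pt) (kb xb3 yb24 zb14) (kb xb3 yb24 zb30) (kb xb5 yb15 zb6) (kb xb5 yb15 zb8) (kb xb2 yb1 zb11) (kb xb5 yb15 zb11) (kb xb2 yb1 zb12) (kb xb5 yb15 zb13) (kb xb5 yb10 zb6) (kb xb5 yb15 zb14) (kb xb2 yb1 zb14) (kb xb5 yb11 zb3) (kb xb5 yb15 zb18) (kb xb2 yb1 zb16) (kb xb2 yb1 zb17) (kb xb2 yb1 zb18) (kb xb5 yb15 zb28) (kb xb2 yb24 zb5) (kb xb3 yb11 zb27) (kb xb5 yb15 zb33) (kb xb2 yb24 zb9) (kb xb3 yb11 zb17) (kb xb2 yb1 zb21) (kb xb5 yb16 zb0) (kb xb5 yb16 zb1) (kb xb2 yb1 zb23) (kb xb5 yb16 zb4) (kb xb5 yb16 zb5) (kb xb2 yb1 zb25) (kb xb2 yb1 zb26)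 (kb xb5 yb16 zb12) (kb xb2 yb4 zb19) (kb xb5 yb16 zb16) (kb xb2 yb1 zb28) (kb xb5 yb16 zb20) (kb xb2 yb4 zb23) (kb xb5 yb16 zb24) (kb xb2 yb1 zb30) (kb xb2 yb1 zb31) (kb xb5 yb16 zb29)) (@D3.rec (fun _ => Pt) (kb xb2 yb1 zb32) (kb xb5 yb16 zb31) (kb xb5 yb16 zb32) (kb xb5 yb14 zb15) (kb xb5 yb16 zb36) (kb xb2 yb1 zb34) (kb xb5 yb17 zb1) (kb xb5 yb14 zb18) (kb xb5 yb17 zb5) (kb xb2 yb1 zb36) (kb xb2 yb1 zb37) (kb xb5 yb17 zb14) (kb xb5 yb17 zb17) (kb xb2 yb2 zb5) (kb xb4 yb5 zb30) (kb xb2 yb1 zb39) (kb xb5 yb17 zb25) (kb xb5 yb17 zb26) (kb xb2 yb2 zb7) (kb xb3 yb7 zb29) (kb xb2 yb2 zb1) (kb xb5 yb17 zb36) (kb xb5 yb17 zb39) (kb xb2 yb2 zb8) (kb xb4 yb6 zb5) (kb xb2 yb2 zb3) (kb xb5 yb18 zb7) (kb xb5 yb18 zb8) (kb xb2 yb2 zb10) (kb xb3 yb7 zb27) (kb xb5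 yb17 zb19) (kb xb5 yb18 zb14) (kb xb5 yb17 zb29) (kb xb5 yb18 zb1) (kb xb5 yb18 zb18) (kb xb5 yb18 zb11) (kb xb2 yb13 zb37) (kb xb5 yb18 zb23) (kb xb2 yb13 zb35) (kb xb5 yb18 zb26)) (@D3.rec (fun _ => Pt) (kb xb2 yb2 zb15) (kb xb2 yb2 zb16) (kb xb2 yb25 zb11) (kb xb2 yb5 zb29) (kb xb3 yb10 zb31) (kb xb2 yb25 zb21) (kb xb2 yb5 zb32) (kb xb3 yb10 zb23) (kb xb2 yb25 zb12) (kb xb3 yb13 zb4) (kb xb5 yb18 zb33) (kb xb2 yb2 zb20) (kb xb2 yb25 zb22) (kb xb3 yb13 zb13) (kb xb5 yb18 zb38) (kb xb2 yb2 zb22) (kb xb2 yb2 zb23) (kb xb5 yb19 zb3) (kb xb2 yb5 zb36) (kb xb5 yb19 zb7) (kb xb2 yb2 zb25) (kb xb5 yb19 zb11) (kb xb2 yb6 zb0) (kb xb3 yb10 zb7) (kb xb2 yb2 zb27) (kb xb5 yb19 zb18) (kb xb2 yb6 zb4) (kb xb5 yb19 zb22) (kb xb2 yb2 zb29) (kb xb5 yb19 zb26) (kb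 xb2 yb6 zb8) (kb xb3 yb10 zb4) (kb xb2 yb2 zb31) (kb xb2 yb2 zb32) (kb xb3 yb11 zb1) (kb xb2 yb3 zb0) (kb xb4 yb24 zb17) (kb xb3 yb11 zb5) (kb xb2 yb3 zb4) (kb xb4 yb24 zb10)) (@D3.rec (fun _ => Pt) (kb xb3 yb4 zb35) (kb xb3 yb10 zb34) (kb xb5 yb20 zb0) (kb xb2 yb2 zb36) (kb xb3 yb5 zb18) (kb xb3 yb10 zb37) (kb xb5 yb20 zb6) (kb xb2 yb2 zb38) (kb xb2 yb2 zb39) (kb xb3 yb20 zb33) (kb xb5 yb20 zb11) (kb xb4 yb21 zb9) (kb xb5 yb20 zb14) (kb xb2 yb3 zb1) (kb xb5 yb20 zb19) (kb xb5 yb20 zb20) (kb xb4 yb24 zb16) (kb xb3 yb8 zb21) (kb xb2 yb3 zb3) (kb xb3 yb21 zb24) (kb xb5 yb20 zb27) (kb xb4 yb21 zb12) (kb xb5 yb20 zb30) (kb xb2 yb3 zb5) (kb xb5 yb20 zb35) (kb xb5 yb20 zb36) (kb xb4 yb24 zb9) (kb xb3 yb8 zb18) (kb xb4 yb15 zb0) (kb xb3 yb2 zb6) (kb xb3 yb4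 zb39) (kb xb5 yb21 zb5) (kb xb2 yb3 zb8) (kb xb3 yb2 zb5) (kb xb5 yb21 zb10) (kb xb2 yb3 zb9) (kb xb2 yb21 zb28) (kb xb2 yb3 zb28) (kb xb4 yb15 zb25) (kb xb5 yb21 zb18)) (@D3.rec (fun _ => Pt) (kb xb5 yb21 zb19) (kb xb4 yb15 zb15) (kb xb5 yb21 zb23) (kb xb2 yb3 zb13) (kb xb2 yb3 zb14) (kb xb5 yb21 zb31) (kb xb5 yb21 zb34) (kb xb2 yb3 zb30) (kb xb3 yb12 zb8) (kb xb5 yb21 zb39) (kb xb4 yb15 zb38) (kb xb3 yb2 zb14) (kb xb5 yb22 zb2) (kb xb3 yb5 zb21) (kb xb2 yb3 zb18) (kb xb3 yb2 zb13) (kb xb5 yb22 zb8) (kb xb2 yb3 zb19) (kb xb2 yb21 zb29) (kb xb2 yb3 zb32) (kb xb4 yb16 zb22) (kb xb5 yb22 zb16) (kb xb5 yb22 zb17) (kb xb4 yb16 zb12) (kb xb5 yb22 zb21) (kb xb2 yb3 zb23) (kb xb2 yb3 zb24) (kb xb5 yb22 zb29) (kb xb5 yb22 zb32) (kb xb2 yb3 zb34) (kb xb3 yb12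 zb30) (kb xb5 yb22 zb37) (kb xb2 yb3 zb27) (kb xb5 yb22 zb38) (kb xb2 yb3 zb29) (kb xb5 yb23 zb1) (kb xb5 yb23 zb5) (kb xb5 yb21 zb36) (kb xb2 yb3 zb31) (kb xb5 yb23 zb7)) (@D3.rec (fun _ => Pt) (kb xb2 yb3 zb33) (kb xb5 yb23 zb10) (kb xb5 yb23 zb14) (kb xb5 yb22 zb34) (kb xb3 yb10 zb9) (kb xb2 yb3 zb36) (kb xb2 yb3 zb37) (kb xb2 yb7 zb31) (kb xb4 yb17 zb6) (kb xb5 yb23 zb19) (kb xb3 yb1 zb39) (kb xb2 yb3 zb38) (kb xb5 yb23 zb25) (kb xb3 yb10 zb13) (kb xb2 yb4 zb0) (kb xb2 yb4 zb1) (kb xb4 yb17 zb34) (kb xb2 yb8 zb9) (kb xb5 yb23 zb32) (kb xb3 yb2 zb2) (kb xb2 yb4 zb2) (kb xb5 yb23 zb38) (kb xb5 yb24 zb2) (kb xb5 yb24 zb3) (kb xb5 yb24 zb4) (kb xb5 yb24 zb6) (kb xb2 yb4 zb5) (kb xb5 yb24 zb9) (kb xb2 yb4 zb6) (kb xb5 yb24 zb11) (kb xb2 yb4 zb7) (kb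 xb5 yb24 zb15) (kb xb5 yb24 zb16) (kb xb2 yb4 zb8) (kb xb2 yb4 zb9) (kb xb5 yb24 zb23) (kb xb5 yb16 zb7) (kb xb3 yb14 zb28) (kb xb5 yb24 zb27) (kb xb5 yb16 zb10)) (@D3.rec (fun _ => Pt) (kb xb3 yb14 zb20) (kb xb2 yb4 zb12) (kb xb5 yb24 zb33) (kb xb2 yb4 zb13) (kb xb5 yb24 zb36) (kb xb5 yb24 zb37) (kb xb5 yb24 zb31) (kb xb5 yb25 zb1) (kb xb2 yb4 zb15) (kb xb5 yb25 zb5) (kb xb5 yb24 zb34) (kb xb5 yb25 zb9) (kb xb2 yb4 zb17) (kb xb2 yb4 zb18) (kb xb5 yb25 zb17) (kb xb5 yb16 zb14) (kb xb5 yb25 zb22) (kb xb2 yb4 zb20) (kb xb5 yb25 zb26) (kb xb5 yb16 zb18) (kb xb3 yb14 zb0) (kb xb2 yb4 zb22) (kb xb5 yb25 zb36) (kb xb5 yb16 zb22) (kb xb6 yb0 zb1) (kb xb2 yb4 zb24) (kb xb6 yb0 zb5) (kb xb5 yb16 zb26) (kb xb3 yb13 zb37) (kb xb2 yb4 zb26) (kb xb6 yb0 zb13) (kb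 xb6 yb0 zb16) (kb xb3 yb14 zb32) (kb xb6 yb0 zb20) (kb xb6 yb0 zb22) (kb xb2 yb4 zb29) (kb xb6 yb0 zb25) (kb xb6 yb0 zb28) (kb xb3 yb14 zb38) (kb xb6 yb0 zb32)) (@D3.rec (fun _ => Pt) (kb xb6 yb0 zb34) (kb xb2 yb12 zb8) (kb xb5 yb25 zb15) (kb xb6 yb0 zb38) (kb xb2 yb4 zb33) (kb xb6 yb1 zb0) (kb xb6 yb1 zb6) (kb xb2 yb4 zb34) (kb xb5 yb17 zb18) (kb xb2 yb5 zb7) (kb xb6 yb1 zb14) (kb xb2 yb4 zb36) (kb xb6 yb1 zb18) (kb xb2 yb4 zb37) (kb xb2 yb12 zb31) (kb xb6 yb1 zb24) (kb xb5 yb25 zb35) (kb xb2 yb4 zb39) (kb xb6 yb1 zb27) (kb xb6 yb1 zb33) (kb xb2 yb5 zb0) (kb xb5 yb18 zb0) (kb xb2 yb5 zb13) (kb xb6 yb2 zb1) (kb xb2 yb5 zb2) (kb xb6 yb2 zb5) (kb xb2 yb5 zb3) (kb xb6 yb2 zb9) (kb xb2 yb5 zb5) (kb xb3 yb16 zb9) (kb xb6 yb2 zb18) (kb xb6 yb2 zb14) (kb xb2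 yb5 zb6) (kb xb6 yb2 zb22) (kb xb2 yb5 zb8) (kb xb6 yb2 zb26) (kb xb2 yb12 zb29) (kb xb6 yb2 zb29) (kb xb2 yb5 zb11) (kb xb6 yb2 zb37)) (@D3.rec (fun _ => Pt) (kb xb3 yb16 zb15) (kb xb6 yb2 zb34) (kb xb2 yb5 zb12) (kb xb6 yb3 zb2) (kb xb2 yb5 zb14) (kb xb6 yb3 zb6) (kb xb2 yb13 zb12) (kb xb6 yb3 zb9) (kb xb2 yb5 zb17) (kb xb3 yb15 zb29) (kb xb2 yb12 zb22) (kb xb6 yb3 zb14) (kb xb6 yb3 zb19) (kb xb2 yb5 zb19) (kb xb2 yb13 zb5) (kb xb3 yb16 zb0) (kb xb6 yb3 zb24) (kb xb2 yb5 zb20) (kb xb2 yb5 zb21) (kb xb2 yb5 zb22) (kb xb6 yb3 zb35) (kb xb2 yb5 zb23) (kb xb6 yb3 zb38) (kb xb6 yb3 zb39) (kb xb2 yb5 zb25) (kb xb6 yb4 zb1) (kb xb2 yb5 zb27) (kb xb2 yb5 zb28) (kb xb4 yb11 zb37) (kb xb2 yb17 zb37) (kb xb2 yb5 zb31) (kb xb4 yb14 zb16) (kb xb2 yb16 zb26) (kb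 xb4 yb7 zb23) (kb xb6 yb4 zb6) (kb xb2 yb6 zb11) (kb xb3 yb18 zb16) (kb xb2 yb5 zb35) (kb xb6 yb4 zb13) (kb xb2 yb21 zb2)) (@D3.rec (fun _ => Pt) (kb xb5 yb19 zb5) (kb xb6 yb4 zb20) (kb xb2 yb5 zb37) (kb xb6 yb4 zb24) (kb xb6 yb4 zb22) (kb xb3 yb18 zb4) (kb xb2 yb5 zb39) (kb xb6 yb4 zb29) (kb xb2 yb15 zb27) (kb xb5 yb19 zb14) (kb xb4 yb11 zb24) (kb xb4 yb11 zb25) (kb xb4 yb7 zb36) (kb xb6 yb4 zb37) (kb xb3 yb19 zb2) (kb xb2 yb6 zb25) (kb xb2 yb6 zb3) (kb xb6 yb5 zb4) (kb xb2 yb21 zb3) (kb xb5 yb19 zb20) (kb xb6 yb5 zb11) (kb xb2 yb6 zb5) (kb xb6 yb5 zb15) (kb xb6 yb5 zb13) (kb xb3 yb18 zb30) (kb xb2 yb6 zb7) (kb xb6 yb5 zb20) (kb xb2 yb15 zb8) (kb xb5 yb19 zb29) (kb xb4 yb14 zb4) (kb xb4 yb14 zb5) (kb xb4 yb6 zb22) (kb xb6 yb5 zb27) (kb xb4 yb9 zb0)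 (kb xb2 yb6 zb12) (kb xb6 yb5 zb29) (kb xb2 yb6 zb14) (kb xb6 yb4 zb14) (kb xb6 yb5 zb32) (kb xb6 yb5 zb30)) (@D3.rec (fun _ => Pt) (kb xb6 yb5 zb34) (kb xb2 yb6 zb15) (kb xb6 yb5 zb38) (kb xb6 yb5 zb36) (kb xb3 yb17 zb5) (kb xb2 yb6 zb17) (kb xb6 yb6 zb4) (kb xb3 yb18 zb33) (kb xb6 yb6 zb9) (kb xb2 yb6 zb19) (kb xb6 yb6 zb12) (kb xb6 yb6 zb13) (kb xb6 yb6 zb14) (kb xb2 yb6 zb21) (kb xb2 yb14 zb32) (kb xb6 yb6 zb16) (kb xb3 yb16 zb36) (kb xb6 yb6 zb22) (kb xb4 yb6 zb25) (kb xb2 yb6 zb24) (kb xb6 yb6 zb0) (kb xb4 yb8 zb5) (kb xb2 yb6 zb27) (kb xb6 yb6 zb26) (kb xb6 yb5 zb6) (kb xb6 yb6 zb24) (kb xb6 yb6 zb28) (kb xb2 yb6 zb28) (kb xb6 yb6 zb32) (kb xb6 yb6 zb30) (kb xb3 yb17 zb24) (kb xb2 yb6 zb30) (kb xb6 yb6 zb37) (kb xb3 yb18 zb7) (kb xb6 yb7 zb2)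 (kb xb2 yb6 zb32) (kb xb6 yb7 zb5) (kb xb6 yb7 zb6) (kb xb6 yb7 zb7) (kb xb2 yb6 zb34)) (@D3.rec (fun _ => Pt) (kb xb2 yb14 zb26) (kb xb6 yb7 zb9) (kb xb3 yb17 zb14) (kb xb2 yb6 zb36) (kb xb5 yb7 zb39) (kb xb6 yb7 zb20) (kb xb6 yb7 zb21) (kb xb3 yb20 zb25) (kb xb2 yb7 zb0) (kb xb4 yb15 zb7) (kb xb6 yb7 zb27) (kb xb6 yb7 zb29) (kb xb2 yb6 zb39) (kb xb6 yb7 zb32) (kb xb6 yb7 zb33) (kb xb2 yb7 zb1) (kb xb6 yb7 zb35) (kb xb2 yb18 zb28) (kb xb6 yb7 zb38) (kb xb2 yb7 zb4) (kb xb2 yb21 zb27) (kb xb6 yb7 zb39) (kb xb2 yb22 zb27) (kb xb6 yb8 zb1) (kb xb2 yb7 zb5) (kb xb2 yb7 zb6) (kb xb6 yb8 zb8) (kb xb6 yb8 zb3) (kb xb2 yb16 zb39) (kb xb2 yb7 zb8) (kb xb5 yb8 zb13) (kb xb6 yb8 zb13) (kb xb2 yb7 zb10) (kb xb5 yb9 zb4) (kb xb6 yb8 zb19) (kb xb6 yb8 zb20) (kb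 xb3 yb21 zb15) (kb xb2 yb7 zb14) (kb xb6 yb8 zb25) (kb xb4 yb16 zb5)) (@D3.rec (fun _ => Pt) (kb xb2 yb7 zb12) (kb xb6 yb8 zb30) (kb xb6 yb8 zb31) (kb xb6 yb8 zb32) (kb xb2 yb7 zb15) (kb xb6 yb8 zb34) (kb xb2 yb19 zb9) (kb xb6 yb8 zb37) (kb xb2 yb7 zb18) (kb xb6 yb8 zb38) (kb xb2 yb22 zb28) (kb xb6 yb9 zb0) (kb xb2 yb7 zb19) (kb xb2 yb7 zb20) (kb xb6 yb9 zb7) (kb xb6 yb9 zb2) (kb xb2 yb18 zb10) (kb xb2 yb7 zb22) (kb xb5 yb9 zb17) (kb xb6 yb9 zb10) (kb xb2 yb7 zb24) (kb xb6 yb9 zb11) (kb xb6 yb9 zb14) (kb xb2 yb7 zb27) (kb xb2 yb7 zb28) (kb xb3 yb19 zb7) (kb xb6 yb9 zb18) (kb xb2 yb24 zb4) (kb xb5 yb20 zb26) (kb xb2 yb7 zb33) (kb xb5 yb23 zb20) (kb xb6 yb9 zb29) (kb xb2 yb7 zb35) (kb xb3 yb11 zb9) (kb xb6 yb9 zb34) (kb xb6 yb9 zb36) (kb xb2 yb7 zb32)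 (kb xb6 yb10 zb0) (kb xb6 yb9 zb25) (kb xb6 yb10 zb2)) (@D3.rec (fun _ => Pt) (kb xb2 yb7 zb34) (kb xb2 yb23 zb14) (kb xb6 yb10 zb5) (kb xb2 yb7 zb36) (kb xb4 yb24 zb11) (kb xb2 yb8 zb0) (kb xb2 yb19 zb27) (kb xb6 yb10 zb7) (kb xb6 yb10 zb15) (kb xb6 yb10 zb11) (kb xb2 yb8 zb1) (kb xb6 yb10 zb19) (kb xb6 yb10 zb22) (kb xb2 yb8 zb4) (kb xb2 yb8 zb5) (kb xb3 yb19 zb36) (kb xb6 yb10 zb26) (kb xb5 yb20 zb10) (kb xb2 yb24 zb8) (kb xb2 yb8 zb10) (kb xb6 yb10 zb36) (kb xb5 yb23 zb34) (kb xb2 yb8 zb12) (kb xb6 yb11 zb1) (kb xb3 yb11 zb19) (kb xb2 yb8 zb8) (kb xb6 yb10 zb10) (kb xb6 yb9 zb33) (kb xb6 yb10 zb33) (kb xb6 yb11 zb7) (kb xb2 yb8 zb11) (kb xb2 yb23 zb15) (kb xb6 yb11 zb10) (kb xb2 yb8 zb13) (kb xb4 yb24 zb4) (kb xb2 yb8 zb17) (kb xb2 yb20 zb6) (kb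 xb6 yb11 zb12) (kb xb6 yb11 zb19) (kb xb6 yb11 zb15)) (@D3.rec (fun _ => Pt) (kb xb2 yb8 zb18) (kb xb6 yb11 zb24) (kb xb5 yb13 zb20) (kb xb6 yb11 zb25) (kb xb6 yb11 zb21) (kb xb6 yb9 zb17) (kb xb2 yb8 zb24) (kb xb2 yb8 zb33) (kb xb6 yb11 zb31) (kb xb6 yb11 zb33) (kb xb2 yb8 zb26) (kb xb4 yb23 zb36) (kb xb6 yb11 zb37) (kb xb6 yb11 zb38) (kb xb2 yb8 zb29) (kb xb2 yb8 zb30) (kb xb6 yb12 zb5) (kb xb6 yb9 zb38) (kb xb6 yb12 zb9) (kb xb2 yb8 zb32) (kb xb6 yb12 zb12) (kb xb2 yb8 zb34) (kb xb6 yb12 zb16) (kb xb2 yb9 zb2) (kb xb6 yb12 zb21) (kb xb2 yb8 zb36) (kb xb2 yb8 zb37) (kb xb6 yb12 zb28) (kb xb6 yb12 zb31) (kb xb2 yb9 zb5) (kb xb6 yb12 zb33) (kb xb2 yb8 zb39) (kb xb5 yb12 zb5) (kb xb6 yb12 zb37) (kb xb2 yb9 zb7) (kb xb2 yb10 zb5) (kb xb6 yb13 zb1) (kb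 xb6 yb12 zb19) (kb xb6 yb13 zb4) (kb xb2 yb9 zb4)) (@D3.rec (fun _ => Pt) (kb xb6 yb13 zb7) (kb xb6 yb13 zb11) (kb xb6 yb12 zb32) (kb xb6 yb13 zb14) (kb xb2 yb9 zb6) (kb xb4 yb23 zb35) (kb xb2 yb9 zb8) (kb xb6 yb13 zb20) (kb xb5 yb12 zb26) (kb xb6 yb13 zb21) (kb xb6 yb13 zb17) (kb xb6 yb10 zb25) (kb xb2 yb9 zb14) (kb xb6 yb13 zb26) (kb xb2 yb9 zb23) (kb xb6 yb13 zb29) (kb xb2 yb9 zb15) (kb xb4 yb24 zb0) (kb xb6 yb13 zb33) (kb xb2 yb9 zb18) (kb xb6 yb12 zb3) (kb xb6 yb13 zb37) (kb xb6 yb11 zb4) (kb xb6 yb14 zb1) (kb xb2 yb9 zb21) (kb xb2 yb9 zb22) (kb xb6 yb14 zb6) (kb xb2 yb9 zb24) (kb xb6 yb14 zb10) (kb xb2 yb9 zb32) (kb xb6 yb14 zb15) (kb xb2 yb9 zb26) (kb xb2 yb9 zb27) (kb xb6 yb14 zb22) (kb xb6 yb14 zb25) (kb xb2 yb9 zb35) (kb xb6 yb14 zb27) (kb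 xb2 yb9 zb29) (kb xb5 yb13 zb1) (kb xb6 yb14 zb31)) (@D3.rec (fun _ => Pt) (kb xb2 yb9 zb37) (kb xb2 yb10 zb12) (kb xb6 yb14 zb35) (kb xb6 yb14 zb13) (kb xb6 yb14 zb38) (kb xb2 yb9 zb34) (kb xb6 yb15 zb1) (kb xb6 yb15 zb5) (kb xb6 yb14 zb26) (kb xb6 yb15 zb8) (kb xb2 yb9 zb36) (kb xb4 yb23 zb28) (kb xb2 yb9 zb38) (kb xb6 yb15 zb12) (kb xb3 yb8 zb0) (kb xb2 yb10 zb0) (kb xb3 yb24 zb16) (kb xb4 yb23 zb11) (kb xb6 yb15 zb18) (kb xb4 yb19 zb14) (kb xb2 yb10 zb1) (kb xb6 yb15 zb24) (kb xb6 yb12 zb23) (kb xb2 yb10 zb3) (kb xb4 yb23 zb15) (kb xb6 yb15 zb29) (kb xb6 yb15 zb30) (kb xb6 yb15 zb31) (kb xb2 yb10 zb6) (kb xb6 yb15 zb33) (kb xb3 yb8 zb1) (kb xb2 yb10 zb8) (kb xb4 yb23 zb9) (kb xb3 yb24 zb33) (kb xb6 yb15 zb39) (kb xb4 yb19 zb15) (kb xb2 yb10 zb9)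 (kb xb6 yb16 zb5) (kb xb6 yb14 zb17) (kb xb2 yb10 zb11)) (@D3.rec (fun _ => Pt) (kb xb6 yb16 zb10) (kb xb4 yb23 zb19) (kb xb6 yb16 zb11) (kb xb6 yb16 zb12) (kb xb2 yb20 zb37) (kb xb6 yb6 zb6) (kb xb6 yb6 zb39) (kb xb2 yb10 zb15) (kb xb2 yb10 zb16) (kb xb3 yb25 zb9) (kb xb6 yb16 zb19) (kb xb6 yb16 zb21) (kb xb2 yb10 zb18) (kb xb6 yb16 zb25) (kb xb2 yb10 zb19) (kb xb6 yb16 zb28) (kb xb2 yb10 zb20) (kb xb6 yb16 zb32) (kb xb2 yb10 zb21) (kb xb6 yb16 zb36) (kb xb6 yb16 zb37) (kb xb6 yb16 zb23) (kb xb6 yb17 zb1) (kb xb2 yb10 zb23) (kb xb6 yb17 zb5) (kb xb6 yb16 zb26) (kb xb6 yb17 zb9) (kb xb2 yb10 zb25) (kb xb6 yb17 zb13) (kb xb2 yb10 zb27) (kb xb6 yb17 zb19) (kb xb6 yb17 zb21) (kb xb6 yb17 zb23) (kb xb6 yb17 zb24) (kb xb2 yb10 zb28) (kb xb2 yb10 zb29) (kb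 xb6 yb17 zb31) (kb xb6 yb17 zb26) (kb xb4 yb0 zb39) (kb xb6 yb17 zb37))
def f_b_4 : D2 → D3 → Pt := @D2.rec (fun _ => D3 → Pt) (@D3.rec (fun _ => Pt) (kb xb6 yb17 zb29) (kb xb4 yb0 zb31) (kb xb2 yb10 zb32) (kb xb6 yb18 zb5) (kb xb6 yb18 zb8) (kb xb4 yb0 zb5) (kb xb6 yb18 zb12) (kb xb6 yb2 zb6) (kb xb2 yb10 zb35) (kb xb6 yb18 zb16) (kb xb6 yb18 zb19) (kb xb4 yb0 zb11) (kb xb6 yb18 zb23) (kb xb6 yb1 zb19) (kb xb2 yb10 zb38) (kb xb6 yb18 zb26) (kb xb2 yb10 zb39) (kb xb6 yb18 zb28) (kb xb2 yb11 zb5) (kb xb6 yb18 zb31) (kb xb2 yb11 zb1) (kb xb2 yb11 zb9) (kb xb6 yb18 zb36) (kb xb2 yb11 zb3) (kb xb2 yb11 zb4) (kb xb6 yb0 zb14) (kb xb6 yb18 zb29) (kb xb6 yb19 zb5) (kb xb2 yb11 zb6) (kb xb6 yb19 zb9) (kb xb6 yb18 zb33) (kb xb4 yb0 zb1) (kb xb2 yb11 zb8) (kb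 xb6 yb0 zb26) (kb xb6 yb18 zb34) (kb xb6 yb19 zb21) (kb xb2 yb11 zb10) (kb xb6 yb19 zb25) (kb xb6 yb18 zb38) (kb xb3 yb25 zb38)) (@D3.rec (fun _ => Pt) (kb xb2 yb12 zb10) (kb xb4 yb3 zb33) (kb xb2 yb11 zb13) (kb xb6 yb19 zb34) (kb xb2 yb21 zb22) (kb xb4 yb1 zb5) (kb xb6 yb20 zb2) (kb xb2 yb11 zb15) (kb xb6 yb20 zb5) (kb xb6 yb20 zb3) (kb xb4 yb3 zb15) (kb xb2 yb11 zb17) (kb xb6 yb20 zb10) (kb xb6 yb0 zb7) (kb xb4 yb1 zb14) (kb xb6 yb20 zb16) (kb xb6 yb20 zb18) (kb xb4 yb5 zb4) (kb xb2 yb12 zb34) (kb xb2 yb11 zb21) (kb xb6 yb20 zb22) (kb xb2 yb21 zb24) (kb xb4 yb1 zb22) (kb xb6 yb20 zb30) (kb xb2 yb11 zb23) (kb xb6 yb20 zb33) (kb xb6 yb20 zb31) (kb xb4 yb4 zb26) (kb xb2 yb11 zb25) (kb xb6 yb20 zb38) (kb xb5 yb25 zb28) (kb xb4 yb1 zb31) (kb xb6 yb21 zb4)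 (kb xb6 yb21 zb6) (kb xb6 yb19 zb0) (kb xb6 yb21 zb8) (kb xb2 yb11 zb29) (kb xb6 yb21 zb10) (kb xb6 yb21 zb14) (kb xb2 yb11 zb30)) (@D3.rec (fun _ => Pt) (kb xb6 yb21 zb18) (kb xb4 yb2 zb1) (kb xb6 yb21 zb22) (kb xb2 yb11 zb32) (kb xb6 yb21 zb26) (kb xb6 yb21 zb27) (kb xb6 yb21 zb24) (kb xb6 yb21 zb31) (kb xb2 yb11 zb34) (kb xb2 yb11 zb35) (kb xb6 yb21 zb37) (kb xb6 yb22 zb0) (kb xb4 yb2 zb12) (kb xb6 yb22 zb4) (kb xb6 yb22 zb6) (kb xb6 yb22 zb7) (kb xb6 yb19 zb17) (kb xb2 yb11 zb39) (kb xb6 yb22 zb10) (kb xb6 yb22 zb14) (kb xb2 yb12 zb0) (kb xb6 yb22 zb18) (kb xb4 yb2 zb22) (kb xb6 yb22 zb22) (kb xb2 yb12 zb2) (kb xb6 yb22 zb26) (kb xb6 yb22 zb27) (kb xb6 yb22 zb24) (kb xb6 yb22 zb31) (kb xb2 yb12 zb4) (kb xb2 yb12 zb5) (kb xb6 yb22 zb37) (kb xb6 yb23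 zb0) (kb xb4 yb2 zb33) (kb xb6 yb23 zb4) (kb xb6 yb23 zb6) (kb xb6 yb23 zb7) (kb xb6 yb23 zb8) (kb xb2 yb12 zb9) (kb xb6 yb23 zb9)) (@D3.rec (fun _ => Pt) (kb xb4 yb25 zb18) (kb xb6 yb23 zb15) (kb xb6 yb23 zb17) (kb xb2 yb12 zb11) (kb xb6 yb23 zb21) (kb xb4 yb3 zb5) (kb xb2 yb12 zb13) (kb xb6 yb19 zb35) (kb xb6 yb23 zb28) (kb xb6 yb23 zb30) (kb xb6 yb23 zb24) (kb xb6 yb23 zb34) (kb xb2 yb12 zb14) (kb xb6 yb23 zb38) (kb xb6 yb23 zb36) (kb xb4 yb1 zb10) (kb xb2 yb12 zb16) (kb xb6 yb24 zb4) (kb xb6 yb24 zb5) (kb xb6 yb24 zb11) (kb xb6 yb24 zb13) (kb xb2 yb12 zb18) (kb xb6 yb24 zb17) (kb xb6 yb24 zb18) (kb xb6 yb24 zb19) (kb xb2 yb12 zb20) (kb xb2 yb12 zb21) (kb xb6 yb24 zb27) (kb xb6 yb3 zb16) (kb xb6 yb24 zb32) (kb xb2 yb12 zb23) (kb xb5 yb24 zb30) (kb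 xb6 yb24 zb21) (kb xb4 yb1 zb1) (kb xb4 yb5 zb5) (kb xb6 yb25 zb4) (kb xb6 yb25 zb8) (kb xb6 yb24 zb26) (kb xb2 yb12 zb26) (kb xb6 yb25 zb11)) (@D3.rec (fun _ => Pt) (kb xb6 yb25 zb17) (kb xb2 yb12 zb27) (kb xb6 yb25 zb19) (kb xb2 yb13 zb23) (kb xb6 yb2 zb25) (kb xb6 yb25 zb25) (kb xb2 yb12 zb30) (kb xb6 yb25 zb29) (kb xb6 yb25 zb30) (kb xb2 yb12 zb32) (kb xb6 yb25 zb31) (kb xb6 yb25 zb36) (kb xb4 yb25 zb29) (kb xb2 yb12 zb33) (kb xb6 yb24 zb0) (kb xb7 yb0 zb2) (kb xb4 yb4 zb16) (kb xb2 yb12 zb36) (kb xb7 yb0 zb8) (kb xb6 yb20 zb24) (kb xb7 yb0 zb11) (kb xb7 yb0 zb5) (kb xb7 yb0 zb15) (kb xb2 yb12 zb37) (kb xb7 yb0 zb19) (kb xb7 yb0 zb17) (kb xb4 yb1 zb27) (kb xb2 yb12 zb39) (kb xb7 yb0 zb24) (kb xb7 yb0 zb25) (kb xb7 yb0 zb31) (kb xb7 yb0 zb33) (kb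 xb2 yb13 zb1) (kb xb7 yb0 zb37) (kb xb7 yb0 zb38) (kb xb7 yb0 zb39) (kb xb2 yb13 zb3) (kb xb2 yb13 zb4) (kb xb7 yb1 zb7) (kb xb6 yb3 zb25)) (@D3.rec (fun _ => Pt) (kb xb7 yb1 zb12) (kb xb2 yb13 zb6) (kb xb5 yb24 zb26) (kb xb7 yb1 zb1) (kb xb4 yb1 zb17) (kb xb4 yb3 zb34) (kb xb7 yb1 zb24) (kb xb7 yb1 zb5) (kb xb7 yb1 zb29) (kb xb2 yb13 zb9) (kb xb7 yb1 zb31) (kb xb7 yb1 zb37) (kb xb2 yb13 zb10) (kb xb7 yb1 zb39) (kb xb2 yb13 zb33) (kb xb6 yb3 zb5) (kb xb7 yb2 zb5) (kb xb2 yb13 zb13) (kb xb7 yb2 zb9) (kb xb2 yb13 zb15) (kb xb4 yb5 zb20) (kb xb2 yb13 zb16) (kb xb6 yb16 zb38) (kb xb7 yb2 zb17) (kb xb7 yb2 zb18) (kb xb2 yb13 zb19) (kb xb7 yb2 zb21) (kb xb7 yb2 zb26) (kb xb2 yb13 zb21) (kb xb6 yb2 zb21) (kb xb3 yb9 zb14) (kb xb7 yb2 zb31) (kb xb2 yb13 zb22)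 (kb xb7 yb2 zb37) (kb xb7 yb3 zb0) (kb xb2 yb13 zb25) (kb xb4 yb5 zb36) (kb xb2 yb13 zb26) (kb xb6 yb17 zb6) (kb xb7 yb3 zb8)) (@D3.rec (fun _ => Pt) (kb xb7 yb3 zb9) (kb xb2 yb13 zb29) (kb xb7 yb3 zb12) (kb xb7 yb3 zb17) (kb xb2 yb13 zb31) (kb xb3 yb9 zb24) (kb xb6 yb3 zb1) (kb xb7 yb3 zb22) (kb xb2 yb13 zb32) (kb xb7 yb3 zb28) (kb xb2 yb13 zb34) (kb xb7 yb3 zb31) (kb xb7 yb3 zb33) (kb xb2 yb13 zb36) (kb xb7 yb3 zb35) (kb xb7 yb3 zb37) (kb xb4 yb23 zb5) (kb xb2 yb21 zb1) (kb xb4 yb10 zb19) (kb xb4 yb13 zb0) (kb xb2 yb14 zb1) (kb xb2 yb14 zb2) (kb xb3 yb17 zb31) (kb xb7 yb4 zb2) (kb xb4 yb7 zb20) (kb xb3 yb18 zb18) (kb xb7 yb4 zb4) (kb xb4 yb7 zb12) (kb xb2 yb14 zb5) (kb xb7 yb4 zb12) (kb xb7 yb4 zb13) (kb xb4 yb6 zb31) (kb xb4 yb6 zb32) (kb xb7 yb4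 zb21) (kb xb7 yb4 zb23) (kb xb2 yb14 zb7) (kb xb7 yb4 zb26) (kb xb2 yb14 zb8) (kb xb7 yb4 zb28) (kb xb2 yb14 zb14)) (@D3.rec (fun _ => Pt) (kb xb7 yb4 zb31) (kb xb2 yb14 zb10) (kb xb2 yb14 zb18) (kb xb7 yb4 zb36) (kb xb2 yb14 zb12) (kb xb2 yb14 zb13) (kb xb2 yb18 zb18) (kb xb7 yb4 zb29) (kb xb4 yb10 zb17) (kb xb2 yb14 zb15) (kb xb4 yb14 zb3) (kb xb7 yb4 zb33) (kb xb4 yb6 zb27) (kb xb2 yb14 zb17) (kb xb2 yb18 zb38) (kb xb7 yb4 zb34) (kb xb4 yb12 zb37) (kb xb2 yb14 zb19) (kb xb4 yb11 zb23) (kb xb7 yb4 zb38) (kb xb4 yb6 zb24) (kb xb2 yb14 zb33) (kb xb7 yb5 zb17) (kb xb3 yb16 zb33) (kb xb4 yb14 zb10) (kb xb2 yb14 zb22) (kb xb7 yb5 zb20) (kb xb7 yb5 zb24) (kb xb2 yb14 zb23) (kb xb4 yb7 zb29) (kb xb7 yb5 zb27) (kb xb2 yb14 zb25) (kb xb7 yb5 zb30) (kb xb2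 yb15 zb12) (kb xb7 yb5 zb31) (kb xb4 yb11 zb31) (kb xb3 yb17 zb12) (kb xb2 yb14 zb28) (kb xb7 yb5 zb34) (kb xb7 yb5 zb38)) (@D3.rec (fun _ => Pt) (kb xb2 yb14 zb29) (kb xb4 yb8 zb1) (kb xb7 yb6 zb1) (kb xb2 yb14 zb31) (kb xb7 yb6 zb4) (kb xb3 yb18 zb21) (kb xb2 yb14 zb34) (kb xb7 yb6 zb7) (kb xb6 yb5 zb2) (kb xb4 yb14 zb1) (kb xb7 yb6 zb8) (kb xb2 yb14 zb38) (kb xb2 yb16 zb2) (kb xb4 yb11 zb10) (kb xb4 yb19 zb12) (kb xb7 yb6 zb13) (kb xb2 yb14 zb39) (kb xb7 yb6 zb19) (kb xb7 yb4 zb25) (kb xb7 yb4 zb22) (kb xb7 yb6 zb21) (kb xb2 yb15 zb1) (kb xb2 yb15 zb4) (kb xb4 yb10 zb25) (kb xb2 yb15 zb3) (kb xb7 yb6 zb28) (kb xb7 yb6 zb24) (kb xb7 yb6 zb33) (kb xb4 yb9 zb23) (kb xb7 yb6 zb34) (kb xb7 yb6 zb27) (kb xb2 yb15 zb7) (kb xb7 yb6 zb36) (kb xb7 yb7 zb2)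 (kb xb2 yb22 zb14) (kb xb4 yb8 zb35) (kb xb7 yb7 zb5) (kb xb2 yb15 zb10) (kb xb7 yb7 zb8) (kb xb2 yb15 zb11)) (@D3.rec (fun _ => Pt) (kb xb3 yb17 zb33) (kb xb2 yb15 zb13) (kb xb7 yb7 zb12) (kb xb4 yb11 zb21) (kb xb6 yb4 zb10) (kb xb7 yb7 zb13) (kb xb2 yb15 zb17) (kb xb4 yb13 zb30) (kb xb2 yb17 zb14) (kb xb4 yb19 zb13) (kb xb7 yb7 zb18) (kb xb2 yb15 zb18) (kb xb7 yb7 zb24) (kb xb7 yb4 zb27) (kb xb7 yb4 zb24) (kb xb7 yb7 zb26) (kb xb2 yb15 zb20) (kb xb2 yb15 zb23) (kb xb4 yb13 zb6) (kb xb2 yb15 zb22) (kb xb7 yb7 zb33) (kb xb7 yb7 zb29) (kb xb7 yb7 zb38) (kb xb4 yb8 zb28) (kb xb7 yb7 zb39) (kb xb7 yb7 zb32) (kb xb2 yb15 zb26) (kb xb7 yb8 zb1) (kb xb7 yb8 zb7) (kb xb2 yb22 zb16) (kb xb4 yb9 zb30) (kb xb7 yb8 zb10) (kb xb2 yb15 zb29) (kb xb7 yb8 zb13) (kb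 xb2 yb15 zb30) (kb xb2 yb15 zb31) (kb xb2 yb15 zb32) (kb xb7 yb8 zb17) (kb xb5 yb3 zb1) (kb xb7 yb8 zb20)) (@D3.rec (fun _ => Pt) (kb xb7 yb8 zb22) (kb xb2 yb15 zb36) (kb xb7 yb8 zb26) (kb xb2 yb15 zb37) (kb xb7 yb5 zb7) (kb xb7 yb8 zb24) (kb xb4 yb12 zb27) (kb xb2 yb15 zb39) (kb xb4 yb10 zb8) (kb xb7 yb4 zb30) (kb xb7 yb8 zb36) (kb xb7 yb8 zb37) (kb xb2 yb16 zb5) (kb xb7 yb6 zb14) (kb xb7 yb9 zb5) (kb xb7 yb9 zb7) (kb xb2 yb16 zb3) (kb xb4 yb7 zb8) (kb xb2 yb16 zb4) (kb xb4 yb6 zb18) (kb xb4 yb13 zb1) (kb xb7 yb9 zb11) (kb xb2 yb16 zb6) (kb xb7 yb9 zb14) (kb xb2 yb16 zb9) (kb xb4 yb8 zb23) (kb xb2 yb16 zb8) (kb xb7 yb9 zb21) (kb xb2 yb17 zb9) (kb xb7 yb9 zb17) (kb xb7 yb9 zb27) (kb xb4 yb10 zb31) (kb xb7 yb9 zb30) (kb xb4 yb10 zb33) (kb xb7 yb9 zb32)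 (kb xb2 yb16 zb13) (kb xb7 yb9 zb37) (kb xb2 yb16 zb14) (kb xb7 yb10 zb1) (kb xb7 yb10 zb2)) (@D3.rec (fun _ => Pt) (kb xb7 yb9 zb35) (kb xb7 yb10 zb3) (kb xb2 yb16 zb16) (kb xb2 yb16 zb17) (kb xb7 yb10 zb11) (kb xb2 yb16 zb23) (kb xb7 yb10 zb15) (kb xb2 yb16 zb19) (kb xb7 yb9 zb19) (kb xb2 yb16 zb27) (kb xb4 yb8 zb13) (kb xb6 yb3 zb32) (kb xb7 yb10 zb24) (kb xb4 yb12 zb16) (kb xb2 yb16 zb32) (kb xb2 yb16 zb22) (kb xb7 yb10 zb29) (kb xb7 yb10 zb34) (kb xb7 yb10 zb14) (kb xb7 yb10 zb39) (kb xb2 yb16 zb24) (kb xb4 yb9 zb3) (kb xb7 yb11 zb1) (kb xb4 yb7 zb18) (kb xb3 yb17 zb10) (kb xb3 yb17 zb11) (kb xb7 yb10 zb20) (kb xb7 yb11 zb11) (kb xb4 yb14 zb8) (kb xb7 yb11 zb13) (kb xb6 yb4 zb3) (kb xb4 yb7 zb35) (kb xb2 yb16 zb30) (kb xb7 yb11 zb17) (kb xb7 yb11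 zb22) (kb xb7 yb11 zb23) (kb xb2 yb16 zb31) (kb xb3 yb16 zb28) (kb xb7 yb11 zb25) (kb xb2 yb16 zb34)) (@D3.rec (fun _ => Pt) (kb xb7 yb11 zb33) (kb xb7 yb10 zb31) (kb xb7 yb11 zb36) (kb xb7 yb11 zb30) (kb xb4 yb25 zb11) (kb xb2 yb16 zb35) (kb xb7 yb12 zb0) (kb xb2 yb16 zb37) (kb xb7 yb12 zb4) (kb xb7 yb12 zb5) (kb xb5 yb9 zb22) (kb xb6 yb8 zb7) (kb xb7 yb12 zb14) (kb xb2 yb17 zb0) (kb xb6 yb4 zb11) (kb xb7 yb12 zb16) (kb xb4 yb11 zb13) (kb xb2 yb17 zb2) (kb xb2 yb17 zb3) (kb xb7 yb12 zb23) (kb xb5 yb3 zb22) (kb xb7 yb12 zb26) (kb xb2 yb17 zb6) (kb xb7 yb12 zb31) (kb xb7 yb12 zb32) (kb xb7 yb5 zb16) (kb xb7 yb12 zb29) (kb xb4 yb10 zb6) (kb xb2 yb17 zb10) (kb xb4 yb12 zb29) (kb xb7 yb13 zb1) (kb xb7 yb4 zb35) (kb xb7 yb13 zb2) (kb xb2 yb17 zb16) (kb xb7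 yb13 zb9) (kb xb7 yb7 zb20) (kb xb2 yb17 zb13) (kb xb4 yb7 zb16) (kb xb7 yb13 zb14) (kb xb2 yb17 zb15)) (@D3.rec (fun _ => Pt) (kb xb4 yb6 zb19) (kb xb4 yb10 zb20) (kb xb7 yb13 zb16) (kb xb2 yb17 zb17) (kb xb7 yb13 zb19) (kb xb2 yb17 zb20) (kb xb4 yb9 zb18) (kb xb2 yb17 zb19) (kb xb7 yb13 zb26) (kb xb7 yb13 zb22) (kb xb7 yb13 zb31) (kb xb4 yb13 zb11) (kb xb7 yb13 zb34) (kb xb4 yb13 zb13) (kb xb7 yb13 zb36) (kb xb2 yb17 zb24) (kb xb7 yb14 zb1) (kb xb2 yb17 zb25) (kb xb7 yb14 zb5) (kb xb7 yb14 zb6) (kb xb7 yb13 zb39) (kb xb7 yb14 zb7) (kb xb2 yb17 zb27) (kb xb2 yb17 zb28) (kb xb7 yb14 zb15) (kb xb2 yb17 zb34) (kb xb7 yb14 zb19) (kb xb2 yb17 zb30) (kb xb7 yb13 zb24) (kb xb2 yb17 zb38) (kb xb4 yb9 zb7) (kb xb6 yb3 zb30) (kb xb7 yb14 zb28) (kb xb2 yb18 zb2)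 (kb xb4 yb14 zb34) (kb xb2 yb17 zb33) (kb xb7 yb14 zb33) (kb xb7 yb14 zb37) (kb xb7 yb14 zb18) (kb xb7 yb15 zb1)) (@D3.rec (fun _ => Pt) (kb xb2 yb17 zb35) (kb xb4 yb8 zb9) (kb xb7 yb15 zb3) (kb xb4 yb7 zb10) (kb xb3 yb17 zb29) (kb xb3 yb17 zb30) (kb xb7 yb14 zb24) (kb xb7 yb15 zb13) (kb xb4 yb11 zb28) (kb xb7 yb15 zb15) (kb xb4 yb7 zb24) (kb xb6 yb4 zb4) (kb xb2 yb18 zb1) (kb xb7 yb15 zb18) (kb xb7 yb15 zb22) (kb xb7 yb15 zb23) (kb xb3 yb16 zb31) (kb xb2 yb18 zb3) (kb xb7 yb15 zb25) (kb xb2 yb18 zb5) (kb xb7 yb14 zb34) (kb xb7 yb15 zb34) (kb xb7 yb15 zb30) (kb xb4 yb24 zb32) (kb xb2 yb18 zb6) (kb xb7 yb15 zb37) (kb xb2 yb18 zb8) (kb xb7 yb16 zb1) (kb xb5 yb8 zb18) (kb xb6 yb9 zb6) (kb xb7 yb16 zb8) (kb xb2 yb18 zb11) (kb xb6 yb5 zb1) (kb xb7 yb16 zb10)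 (kb xb4 yb13 zb34) (kb xb7 yb16 zb15) (kb xb4 yb14 zb36) (kb xb2 yb18 zb14) (kb xb7 yb5 zb0) (kb xb4 yb14 zb39)) (@D3.rec (fun _ => Pt) (kb xb3 yb11 zb28) (kb xb7 yb10 zb10) (kb xb2 yb18 zb17) (kb xb4 yb23 zb23) (kb xb7 yb4 zb39) (kb xb5 yb23 zb18) (kb xb2 yb18 zb22) (kb xb3 yb19 zb9) (kb xb7 yb16 zb28) (kb xb2 yb18 zb21) (kb xb2 yb18 zb23) (kb xb7 yb16 zb32) (kb xb7 yb15 zb17) (kb xb2 yb18 zb25) (kb xb7 yb16 zb33) (kb xb3 yb12 zb1) (kb xb7 yb17 zb5) (kb xb7 yb17 zb0) (kb xb2 yb18 zb26) (kb xb7 yb17 zb7) (kb xb7 yb17 zb14) (kb xb7 yb17 zb15) (kb xb4 yb17 zb13) (kb xb2 yb18 zb30) (kb xb5 yb6 zb24) (kb xb3 yb11 zb38) (kb xb7 yb17 zb23) (kb xb7 yb17 zb24) (kb xb4 yb21 zb23) (kb xb2 yb18 zb32) (kb xb6 yb8 zb4) (kb xb5 yb23 zb21) (kb xb7 yb17 zb28) (kb xb7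 yb17 zb33) (kb xb4 yb15 zb34) (kb xb2 yb18 zb34) (kb xb7 yb5 zb9) (kb xb4 yb15 zb37) (kb xb3 yb12 zb10) (kb xb7 yb14 zb13)) (@D3.rec (fun _ => Pt) (kb xb2 yb18 zb37) (kb xb4 yb23 zb30) (kb xb7 yb5 zb8) (kb xb5 yb23 zb31) (kb xb2 yb19 zb2) (kb xb3 yb19 zb39) (kb xb7 yb18 zb6) (kb xb2 yb19 zb1) (kb xb2 yb19 zb3) (kb xb7 yb18 zb10) (kb xb7 yb11 zb16) (kb xb2 yb19 zb5) (kb xb3 yb12 zb23) (kb xb7 yb18 zb12) (kb xb7 yb18 zb23) (kb xb7 yb18 zb18) (kb xb2 yb19 zb6) (kb xb7 yb18 zb25) (kb xb7 yb18 zb32) (kb xb7 yb18 zb33) (kb xb4 yb18 zb0) (kb xb2 yb19 zb10) (kb xb3 yb12 zb20) (kb xb5 yb7 zb25) (kb xb7 yb19 zb1) (kb xb7 yb19 zb2) (kb xb4 yb21 zb17) (kb xb2 yb19 zb12) (kb xb5 yb23 zb33) (kb xb6 yb9 zb3) (kb xb7 yb19 zb6) (kb xb2 yb19 zb14) (kb xb2 yb23 zb17)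 (kb xb2 yb19 zb28) (kb xb7 yb19 zb11) (kb xb7 yb19 zb12) (kb xb2 yb19 zb17) (kb xb7 yb14 zb22) (kb xb7 yb19 zb14) (kb xb7 yb19 zb18)) (@D3.rec (fun _ => Pt) (kb xb2 yb19 zb20) (kb xb7 yb19 zb21) (kb xb7 yb19 zb26) (kb xb5 yb19 zb36) (kb xb2 yb19 zb23) (kb xb6 yb9 zb16) (kb xb3 yb13 zb8) (kb xb7 yb19 zb30) (kb xb2 yb19 zb24) (kb xb4 yb24 zb33) (kb xb7 yb19 zb36) (kb xb6 yb11 zb13) (kb xb7 yb20 zb3) (kb xb4 yb15 zb22) (kb xb2 yb19 zb29) (kb xb6 yb10 zb4) (kb xb4 yb23 zb0) (kb xb2 yb19 zb30) (kb xb6 yb10 zb8) (kb xb7 yb20 zb14) (kb xb7 yb20 zb8) (kb xb2 yb19 zb32) (kb xb2 yb20 zb5) (kb xb7 yb20 zb15) (kb xb7 yb20 zb16) (kb xb2 yb19 zb35) (kb xb7 yb10 zb18) (kb xb7 yb20 zb18) (kb xb7 yb20 zb22) (kb xb2 yb19 zb38) (kb xb7 yb20 zb25) (kb xb7 yb20 zb30) (kb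 xb5 yb19 zb34) (kb xb2 yb20 zb1) (kb xb3 yb13 zb16) (kb xb6 yb10 zb24) (kb xb7 yb20 zb34) (kb xb2 yb20 zb2) (kb xb4 yb25 zb12) (kb xb7 yb21 zb4)) (@D3.rec (fun _ => Pt) (kb xb4 yb16 zb20) (kb xb2 yb20 zb7) (kb xb4 yb22 zb39) (kb xb6 yb11 zb9) (kb xb2 yb20 zb8) (kb xb7 yb21 zb9) (kb xb2 yb20 zb9) (kb xb2 yb20 zb10) (kb xb7 yb21 zb17) (kb xb2 yb20 zb12) (kb xb2 yb20 zb20) (kb xb7 yb21 zb19) (kb xb7 yb19 zb35) (kb xb7 yb21 zb25) (kb xb2 yb20 zb14) (kb xb2 yb20 zb15) (kb xb7 yb21 zb31) (kb xb6 yb10 zb12) (kb xb2 yb20 zb17) (kb xb2 yb20 zb18) (kb xb7 yb21 zb38) (kb xb2 yb20 zb23) (kb xb7 yb22 zb3) (kb xb7 yb22 zb5) (kb xb7 yb22 zb6) (kb xb2 yb20 zb22) (kb xb7 yb22 zb1) (kb xb7 yb22 zb11) (kb xb2 yb20 zb24) (kb xb7 yb21 zb30) (kb xb2 yb20 zb26) (kb xb2 yb20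 zb32) (kb xb7 yb22 zb14) (kb xb7 yb20 zb39) (kb xb7 yb21 zb14) (kb xb2 yb20 zb28) (kb xb7 yb22 zb22) (kb xb6 yb11 zb16) (kb xb2 yb20 zb30) (kb xb7 yb22 zb28)) (@D3.rec (fun _ => Pt) (kb xb2 yb20 zb35) (kb xb7 yb22 zb33) (kb xb7 yb22 zb35) (kb xb7 yb22 zb36) (kb xb2 yb20 zb34) (kb xb7 yb22 zb31) (kb xb7 yb23 zb1) (kb xb2 yb20 zb36) (kb xb6 yb4 zb17) (kb xb6 yb5 zb8) (kb xb7 yb23 zb3) (kb xb7 yb23 zb4) (kb xb4 yb8 zb14) (kb xb4 yb9 zb9) (kb xb3 yb24 zb19) (kb xb3 yb24 zb35) (kb xb7 yb9 zb34) (kb xb7 yb13 zb38) (kb xb2 yb21 zb7) (kb xb2 yb21 zb8) (kb xb2 yb25 zb26) (kb xb2 yb22 zb26) (kb xb2 yb21 zb10) (kb xb5 yb21 zb14) (kb xb5 yb22 zb12) (kb xb7 yb23 zb18) (kb xb7 yb23 zb19) (kb xb2 yb21 zb11) (kb xb2 yb21 zb12) (kb xb7 yb23 zb24) (kb xb7 yb23 zb25)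 (kb xb2 yb21 zb14) (kb xb7 yb23 zb29) (kb xb2 yb21 zb15) (kb xb7 yb23 zb33) (kb xb6 yb24 zb6) (kb xb7 yb23 zb34) (kb xb2 yb21 zb17) (kb xb7 yb0 zb27) (kb xb7 yb23 zb38)) (@D3.rec (fun _ => Pt) (kb xb2 yb21 zb19) (kb xb6 yb19 zb39) (kb xb3 yb0 zb9) (kb xb5 yb1 zb32) (kb xb6 yb20 zb27) (kb xb3 yb0 zb13) (kb xb5 yb1 zb24) (kb xb7 yb24 zb8) (kb xb7 yb24 zb9) (kb xb7 yb24 zb10) (kb xb7 yb24 zb11) (kb xb6 yb9 zb30) (kb xb6 yb10 zb38) (kb xb7 yb24 zb12) (kb xb7 yb24 zb13) (kb xb7 yb24 zb14) (kb xb4 yb20 zb28) (kb xb7 yb24 zb17) (kb xb4 yb20 zb23) (kb xb2 yb21 zb32) (kb xb2 yb21 zb33) (kb xb7 yb24 zb25) (kb xb7 yb23 zb7) (kb xb4 yb20 zb18) (kb xb2 yb21 zb35) (kb xb2 yb21 zb36) (kb xb7 yb24 zb36) (kb xb7 yb23 zb9) (kb xb4 yb20 zb16) (kb xb3 yb2 zb20) (kb xb7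 yb25 zb3) (kb xb2 yb21 zb39) (kb xb2 yb22 zb0) (kb xb3 yb3 zb2) (kb xb7 yb25 zb12) (kb xb2 yb22 zb2) (kb xb2 yb22 zb3) (kb xb2 yb22 zb4) (kb xb2 yb22 zb5) (kb xb7 yb25 zb26)) (@D3.rec (fun _ => Pt) (kb xb2 yb22 zb8) (kb xb4 yb22 zb30) (kb xb7 yb25 zb32) (kb xb2 yb22 zb9) (kb xb4 yb22 zb20) (kb xb7 yb25 zb29) (kb xb7 yb25 zb35) (kb xb2 yb22 zb11) (kb xb2 yb22 zb12) (kb xb3 yb11 zb11) (kb xb4 yb21 zb10) (kb xb7 yb6 zb30) (kb xb3 yb11 zb21) (kb xb4 yb21 zb13) (kb xb7 yb7 zb35) (kb xb2 yb22 zb17) (kb xb8 yb0 zb13) (kb xb4 yb16 zb26) (kb xb2 yb22 zb23) (kb xb5 yb7 zb36) (kb xb8 yb0 zb19) (kb xb2 yb22 zb20) (kb xb8 yb0 zb21) (kb xb4 yb15 zb28) (kb xb2 yb22 zb24) (kb xb5 yb8 zb39) (kb xb8 yb0 zb27) (kb xb8 yb0 zb16) (kb xb8 yb0 zb24) (kb xb5 yb22 zb39) (kb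 xb5 yb23 zb8) (kb xb2 yb22 zb29) (kb xb8 yb0 zb33) (kb xb2 yb22 zb30) (kb xb8 yb0 zb37) (kb xb8 yb0 zb38) (kb xb3 yb0 zb1) (kb xb8 yb1 zb2) (kb xb2 yb22 zb32) (kb xb8 yb1 zb6)) (@D3.rec (fun _ => Pt) (kb xb3 yb0 zb5) (kb xb8 yb1 zb10) (kb xb2 yb22 zb34) (kb xb8 yb1 zb14) (kb xb4 yb22 zb4) (kb xb8 yb1 zb17) (kb xb2 yb22 zb36) (kb xb8 yb1 zb21) (kb xb4 yb22 zb8) (kb xb8 yb1 zb24) (kb xb2 yb22 zb38) (kb xb2 yb22 zb39) (kb xb8 yb1 zb29) (kb xb8 yb1 zb32) (kb xb2 yb23 zb7) (kb xb8 yb1 zb35) (kb xb2 yb23 zb1) (kb xb8 yb2 zb0) (kb xb8 yb2 zb1) (kb xb2 yb23 zb9) (kb xb4 yb21 zb4) (kb xb2 yb23 zb3) (kb xb8 yb2 zb8) (kb xb8 yb2 zb11) (kb xb2 yb23 zb10) (kb xb8 yb2 zb14) (kb xb2 yb23 zb5) (kb xb8 yb2 zb19) (kb xb8 yb2 zb20) (kb xb2 yb23 zb12) (kb xb4 yb21 zb1)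 (kb xb8 yb1 zb33) (kb xb8 yb2 zb27) (kb xb2 yb23 zb8) (kb xb8 yb2 zb4) (kb xb8 yb2 zb12) (kb xb8 yb2 zb32) (kb xb2 yb23 zb11) (kb xb8 yb2 zb23) (kb xb4 yb18 zb2)) (@D3.rec (fun _ => Pt) (kb xb4 yb17 zb16) (kb xb4 yb23 zb1) (kb xb5 yb14 zb39) (kb xb7 yb6 zb12) (kb xb7 yb7 zb17) (kb xb4 yb6 zb16) (kb xb8 yb3 zb1) (kb xb8 yb3 zb2) (kb xb2 yb23 zb24) (kb xb3 yb24 zb32) (kb xb2 yb23 zb25) (kb xb3 yb24 zb17) (kb xb2 yb23 zb26) (kb xb2 yb23 zb27) (kb xb6 yb9 zb19) (kb xb3 yb24 zb24) (kb xb8 yb3 zb6) (kb xb2 yb23 zb29) (kb xb6 yb10 zb28) (kb xb3 yb25 zb1) (kb xb8 yb3 zb9) (kb xb2 yb23 zb31) (kb xb2 yb23 zb32) (kb xb4 yb15 zb3) (kb xb8 yb3 zb13) (kb xb2 yb23 zb34) (kb xb7 yb17 zb31) (kb xb3 yb2 zb10) (kb xb3 yb24 zb11) (kb xb2 yb23 zb36) (kb xb4 yb16 zb1) (kb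 xb8 yb3 zb24) (kb xb2 yb23 zb38) (kb xb7 yb19 zb10) (kb xb3 yb2 zb18) (kb xb3 yb23 zb5) (kb xb3 yb22 zb11) (kb xb5 yb15 zb23) (kb xb8 yb3 zb34) (kb xb2 yb24 zb1)) (@D3.rec (fun _ => Pt) (kb xb3 yb23 zb17) (kb xb5 yb15 zb26) (kb xb8 yb3 zb37) (kb xb2 yb24 zb3) (kb xb3 yb21 zb34) (kb xb8 yb3 zb39) (kb xb2 yb24 zb6) (kb xb8 yb4 zb2) (kb xb8 yb4 zb3) (kb xb3 yb11 zb26) (kb xb3 yb10 zb39) (kb xb3 yb21 zb4) (kb xb8 yb4 zb7) (kb xb2 yb24 zb10) (kb xb8 yb4 zb10) (kb xb8 yb4 zb11) (kb xb3 yb11 zb16) (kb xb3 yb10 zb36) (kb xb8 yb4 zb15) (kb xb2 yb24 zb13) (kb xb6 yb4 zb5) (kb xb8 yb4 zb19) (kb xb2 yb24 zb14) (kb xb2 yb24 zb35) (kb xb8 yb4 zb23) (kb xb2 yb24 zb16) (kb xb8 yb4 zb26) (kb xb6 yb9 zb1) (kb xb4 yb25 zb36) (kb xb8 yb4 zb30) (kb xb2 yb24 zb18) (kb xb2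 yb24 zb19) (kb xb4 yb14 zb23) (kb xb4 yb17 zb9) (kb xb2 yb24 zb38) (kb xb3 yb4 zb11) (kb xb8 yb5 zb3) (kb xb8 yb5 zb4) (kb xb2 yb24 zb23) (kb xb6 yb4 zb36)) (@D3.rec (fun _ => Pt) (kb xb8 yb5 zb8) (kb xb2 yb24 zb24) (kb xb2 yb25 zb2) (kb xb8 yb5 zb12) (kb xb2 yb24 zb26) (kb xb8 yb5 zb15) (kb xb6 yb8 zb2) (kb xb4 yb25 zb25) (kb xb8 yb5 zb19) (kb xb2 yb24 zb28) (kb xb2 yb24 zb29) (kb xb4 yb12 zb4) (kb xb4 yb17 zb38) (kb xb2 yb25 zb5) (kb xb3 yb3 zb29) (kb xb8 yb5 zb32) (kb xb8 yb5 zb33) (kb xb5 yb8 zb25) (kb xb4 yb3 zb0) (kb xb2 yb24 zb34) (kb xb8 yb5 zb34) (kb xb7 yb17 zb39) (kb xb8 yb5 zb37) (kb xb2 yb24 zb36) (kb xb8 yb5 zb39) (kb xb4 yb25 zb7) (kb xb8 yb5 zb0) (kb xb8 yb6 zb2) (kb xb5 yb9 zb29) (kb xb4 yb4 zb12) (kb xb2 yb25 zb1) (kb xb8 yb6 zb3)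 (kb xb7 yb16 zb21) (kb xb8 yb6 zb6) (kb xb2 yb25 zb3) (kb xb8 yb6 zb8) (kb xb4 yb24 zb28) (kb xb8 yb5 zb29) (kb xb2 yb25 zb9) (kb xb2 yb25 zb8))
def f_b_5 : D2 → D3 → Pt := @D2.rec (fun _ => D3 → Pt) (@D3.rec (fun _ => Pt) (kb xb8 yb6 zb11) (kb xb5 yb16 zb6) (kb xb8 yb6 zb13) (kb xb2 yb25 zb13) (kb xb2 yb25 zb14) (kb xb8 yb6 zb17) (kb xb2 yb25 zb19) (kb xb2 yb25 zb18) (kb xb8 yb6 zb20) (kb xb5 yb16 zb9) (kb xb8 yb6 zb22) (kb xb2 yb25 zb23) (kb xb2 yb25 zb24) (kb xb8 yb6 zb26) (kb xb7 yb23 zb11) (kb xb8 yb6 zb31) (kb xb8 yb6 zb32) (kb xb8 yb6 zb33) (kb xb8 yb6 zb35) (kb xb2 yb25 zb28) (kb xb8 yb7 zb0) (kb xb2 yb25 zb29) (kb xb8 yb7 zb4) (kb xb2 yb25 zb30) (kb xb2 yb25 zb31) (kb xb8 yb7 zb11) (kb xb5 yb23 zb23) (kb xb5 yb1 zb16) (kb xb8 yb7 zb16) (kb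 xb5 yb23 zb36) (kb xb5 yb1 zb8) (kb xb2 yb25 zb34) (kb xb2 yb25 zb35) (kb xb8 yb7 zb27) (kb xb8 yb7 zb22) (kb xb8 yb7 zb28) (kb xb2 yb25 zb37) (kb xb8 yb7 zb32) (kb xb8 yb7 zb25) (kb xb8 yb7 zb33)) (@D3.rec (fun _ => Pt) (kb xb2 yb25 zb39) (kb xb3 yb0 zb0) (kb xb5 yb21 zb8) (kb xb8 yb1 zb0) (kb xb8 yb8 zb4) (kb xb3 yb0 zb2) (kb xb8 yb8 zb8) (kb xb8 yb1 zb4) (kb xb5 yb0 zb30) (kb xb3 yb0 zb4) (kb xb5 yb22 zb6) (kb xb8 yb1 zb8) (kb xb8 yb8 zb20) (kb xb3 yb0 zb6) (kb xb8 yb8 zb24) (kb xb8 yb1 zb12) (kb xb5 yb0 zb27) (kb xb3 yb0 zb8) (kb xb8 yb8 zb31) (kb xb8 yb8 zb32) (kb xb3 yb0 zb10) (kb xb8 yb8 zb36) (kb xb8 yb8 zb37) (kb xb5 yb1 zb31) (kb xb4 yb20 zb6) (kb xb3 yb0 zb12) (kb xb8 yb9 zb3) (kb xb8 yb9 zb4) (kb xb3 yb0 zb14) (kb xb8 yb9 zb8) (kb xb8 yb9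 zb9) (kb xb5 yb1 zb23) (kb xb4 yb20 zb3) (kb xb6 yb19 zb37) (kb xb8 yb9 zb16) (kb xb8 yb7 zb39) (kb xb8 yb9 zb21) (kb xb3 yb0 zb17) (kb xb8 yb9 zb23) (kb xb8 yb9 zb28)) (@D3.rec (fun _ => Pt) (kb xb3 yb0 zb18) (kb xb3 yb0 zb39) (kb xb8 yb9 zb33) (kb xb3 yb0 zb20) (kb xb8 yb9 zb38) (kb xb8 yb9 zb39) (kb xb8 yb9 zb36) (kb xb8 yb10 zb3) (kb xb3 yb0 zb22) (kb xb3 yb0 zb23) (kb xb8 yb10 zb11) (kb xb8 yb10 zb14) (kb xb3 yb1 zb6) (kb xb5 yb2 zb13) (kb xb8 yb10 zb17) (kb xb6 yb20 zb25) (kb xb8 yb10 zb21) (kb xb8 yb10 zb25) (kb xb8 yb8 zb16) (kb xb3 yb0 zb27) (kb xb8 yb10 zb28) (kb xb8 yb10 zb33) (kb xb3 yb0 zb28) (kb xb3 yb1 zb10) (kb xb8 yb10 zb38) (kb xb3 yb0 zb30) (kb xb8 yb11 zb3) (kb xb8 yb11 zb4) (kb xb8 yb11 zb1) (kb xb8 yb11 zb8) (kb xb3 yb0 zb32) (kb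 xb3 yb0 zb33) (kb xb8 yb11 zb16) (kb xb8 yb11 zb19) (kb xb3 yb1 zb17) (kb xb5 yb2 zb35) (kb xb8 yb11 zb22) (kb xb3 yb0 zb36) (kb xb6 yb19 zb33) (kb xb8 yb9 zb13)) (@D3.rec (fun _ => Pt) (kb xb3 yb0 zb38) (kb xb4 yb9 zb38) (kb xb8 yb2 zb24) (kb xb8 yb11 zb29) (kb xb8 yb11 zb34) (kb xb3 yb1 zb0) (kb xb8 yb11 zb39) (kb xb8 yb12 zb0) (kb xb3 yb1 zb4) (kb xb8 yb12 zb5) (kb xb3 yb1 zb2) (kb xb8 yb12 zb9) (kb xb8 yb12 zb3) (kb xb3 yb1 zb5) (kb xb8 yb12 zb14) (kb xb8 yb12 zb18) (kb xb8 yb10 zb15) (kb xb3 yb1 zb7) (kb xb6 yb20 zb21) (kb xb8 yb10 zb18) (kb xb3 yb1 zb9) (kb xb8 yb2 zb5) (kb xb4 yb12 zb20) (kb xb8 yb12 zb26) (kb xb8 yb12 zb31) (kb xb3 yb1 zb11) (kb xb8 yb12 zb36) (kb xb8 yb12 zb37) (kb xb3 yb1 zb15) (kb xb8 yb13 zb2) (kb xb3 yb1 zb13) (kb xb8 yb13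 zb6) (kb xb8 yb13 zb0) (kb xb3 yb1 zb16) (kb xb8 yb13 zb11) (kb xb8 yb13 zb15) (kb xb8 yb11 zb20) (kb xb6 yb18 zb9) (kb xb3 yb1 zb19) (kb xb8 yb12 zb8)) (@D3.rec (fun _ => Pt) (kb xb6 yb23 zb12) (kb xb3 yb1 zb20) (kb xb8 yb13 zb21) (kb xb8 yb13 zb23) (kb xb8 yb13 zb25) (kb xb3 yb1 zb23) (kb xb8 yb13 zb27) (kb xb6 yb18 zb20) (kb xb3 yb1 zb25) (kb xb8 yb13 zb5) (kb xb6 yb25 zb35) (kb xb3 yb1 zb26) (kb xb8 yb13 zb35) (kb xb8 yb13 zb37) (kb xb8 yb13 zb39) (kb xb3 yb1 zb29) (kb xb8 yb14 zb1) (kb xb3 yb1 zb32) (kb xb3 yb1 zb33) (kb xb8 yb14 zb8) (kb xb6 yb9 zb31) (kb xb8 yb14 zb10) (kb xb3 yb1 zb35) (kb xb8 yb14 zb14) (kb xb6 yb11 zb0) (kb xb8 yb14 zb16) (kb xb3 yb1 zb37) (kb xb3 yb1 zb38) (kb xb5 yb23 zb16) (kb xb8 yb14 zb25) (kb xb8 yb14 zb26) (kb xb7 yb25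 zb17) (kb xb3 yb2 zb1) (kb xb5 yb23 zb29) (kb xb8 yb14 zb32) (kb xb8 yb14 zb33) (kb xb7 yb25 zb8) (kb xb8 yb14 zb20) (kb xb5 yb21 zb7) (kb xb3 yb2 zb22)) (@D3.rec (fun _ => Pt) (kb xb5 yb6 zb22) (kb xb5 yb17 zb11) (kb xb8 yb14 zb38) (kb xb3 yb2 zb7) (kb xb8 yb15 zb2) (kb xb8 yb15 zb0) (kb xb5 yb6 zb7) (kb xb3 yb2 zb9) (kb xb8 yb15 zb6) (kb xb7 yb24 zb38) (kb xb8 yb3 zb19) (kb xb8 yb15 zb8) (kb xb8 yb15 zb9) (kb xb8 yb14 zb27) (kb xb5 yb22 zb5) (kb xb5 yb7 zb23) (kb xb3 yb3 zb5) (kb xb5 yb17 zb33) (kb xb8 yb15 zb14) (kb xb3 yb2 zb15) (kb xb8 yb15 zb18) (kb xb8 yb15 zb16) (kb xb5 yb7 zb11) (kb xb3 yb2 zb17) (kb xb8 yb15 zb22) (kb xb7 yb24 zb27) (kb xb8 yb3 zb30) (kb xb8 yb15 zb24) (kb xb8 yb15 zb25) (kb xb3 yb3 zb26) (kb xb8 yb15 zb29) (kb xb8 yb15 zb30)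 (kb xb3 yb2 zb21) (kb xb5 yb14 zb34) (kb xb7 yb4 zb7) (kb xb8 yb15 zb36) (kb xb8 yb15 zb38) (kb xb3 yb2 zb23) (kb xb8 yb16 zb2) (kb xb3 yb2 zb25)) (@D3.rec (fun _ => Pt) (kb xb5 yb19 zb4) (kb xb8 yb16 zb6) (kb xb8 yb16 zb3) (kb xb8 yb16 zb9) (kb xb3 yb2 zb26) (kb xb8 yb16 zb13) (kb xb8 yb16 zb11) (kb xb5 yb5 zb6) (kb xb8 yb16 zb18) (kb xb3 yb2 zb29) (kb xb8 yb16 zb22) (kb xb8 yb16 zb23) (kb xb3 yb2 zb33) (kb xb8 yb16 zb27) (kb xb3 yb2 zb31) (kb xb3 yb2 zb32) (kb xb8 yb16 zb35) (kb xb8 yb16 zb25) (kb xb8 yb16 zb36) (kb xb3 yb2 zb34) (kb xb7 yb24 zb19) (kb xb8 yb16 zb29) (kb xb5 yb5 zb0) (kb xb5 yb7 zb24) (kb xb4 yb15 zb24) (kb xb6 yb10 zb3) (kb xb8 yb16 zb34) (kb xb3 yb2 zb37) (kb xb8 yb17 zb9) (kb xb7 yb20 zb6) (kb xb3 yb2 zb38) (kb xb3 yb4 zb6) (kb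 xb3 yb3 zb1) (kb xb3 yb4 zb9) (kb xb8 yb17 zb16) (kb xb8 yb17 zb17) (kb xb3 yb3 zb3) (kb xb5 yb14 zb36) (kb xb8 yb17 zb22) (kb xb7 yb4 zb10)) (@D3.rec (fun _ => Pt) (kb xb3 yb3 zb4) (kb xb8 yb16 zb15) (kb xb8 yb17 zb28) (kb xb3 yb3 zb7) (kb xb8 yb17 zb31) (kb xb5 yb19 zb19) (kb xb8 yb17 zb29) (kb xb8 yb17 zb35) (kb xb3 yb3 zb8) (kb xb8 yb17 zb39) (kb xb8 yb17 zb37) (kb xb5 yb5 zb22) (kb xb8 yb18 zb3) (kb xb3 yb3 zb11) (kb xb8 yb18 zb7) (kb xb8 yb18 zb8) (kb xb3 yb3 zb15) (kb xb8 yb18 zb11) (kb xb3 yb3 zb13) (kb xb3 yb3 zb14) (kb xb3 yb3 zb16) (kb xb7 yb24 zb16) (kb xb8 yb18 zb13) (kb xb5 yb5 zb15) (kb xb5 yb6 zb23) (kb xb4 yb16 zb23) (kb xb8 yb18 zb17) (kb xb6 yb11 zb8) (kb xb3 yb3 zb19) (kb xb7 yb21 zb8) (kb xb3 yb3 zb20) (kb xb3 yb4 zb29) (kb xb3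 yb3 zb23) (kb xb6 yb19 zb38) (kb xb3 yb3 zb25) (kb xb5 yb7 zb35) (kb xb4 yb21 zb19) (kb xb7 yb6 zb9) (kb xb8 yb15 zb26) (kb xb3 yb19 zb4)) (@D3.rec (fun _ => Pt) (kb xb8 yb19 zb2) (kb xb3 yb3 zb30) (kb xb8 yb5 zb30) (kb xb8 yb19 zb4) (kb xb8 yb19 zb5) (kb xb3 yb3 zb32) (kb xb5 yb10 zb4) (kb xb8 yb19 zb9) (kb xb8 yb19 zb6) (kb xb8 yb19 zb12) (kb xb3 yb3 zb33) (kb xb3 yb3 zb34) (kb xb8 yb19 zb16) (kb xb3 yb19 zb30) (kb xb6 yb8 zb11) (kb xb8 yb19 zb17) (kb xb3 yb3 zb36) (kb xb3 yb3 zb37) (kb xb4 yb14 zb28) (kb xb8 yb19 zb22) (kb xb3 yb4 zb2) (kb xb8 yb19 zb25) (kb xb3 yb3 zb39) (kb xb8 yb19 zb29) (kb xb7 yb17 zb12) (kb xb4 yb25 zb17) (kb xb3 yb4 zb1) (kb xb8 yb19 zb33) (kb xb8 yb19 zb36) (kb xb8 yb19 zb24) (kb xb8 yb19 zb38) (kb xb3 yb4 zb4) (kb xb5 yb8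 zb32) (kb xb8 yb19 zb34) (kb xb8 yb20 zb2) (kb xb3 yb4 zb5) (kb xb8 yb20 zb6) (kb xb6 yb20 zb26) (kb xb3 yb4 zb8) (kb xb4 yb21 zb25)) (@D3.rec (fun _ => Pt) (kb xb5 yb9 zb0) (kb xb7 yb7 zb14) (kb xb8 yb17 zb13) (kb xb8 yb20 zb16) (kb xb3 yb19 zb33) (kb xb3 yb4 zb13) (kb xb8 yb5 zb1) (kb xb8 yb20 zb18) (kb xb8 yb20 zb19) (kb xb3 yb4 zb15) (kb xb8 yb20 zb22) (kb xb5 yb11 zb1) (kb xb8 yb20 zb20) (kb xb8 yb20 zb26) (kb xb3 yb4 zb16) (kb xb3 yb4 zb17) (kb xb8 yb20 zb30) (kb xb3 yb20 zb18) (kb xb6 yb9 zb9) (kb xb8 yb20 zb31) (kb xb3 yb4 zb19) (kb xb3 yb4 zb20) (kb xb4 yb12 zb10) (kb xb8 yb20 zb36) (kb xb3 yb4 zb25) (kb xb8 yb20 zb39) (kb xb3 yb4 zb22) (kb xb8 yb21 zb3) (kb xb7 yb18 zb31) (kb xb4 yb25 zb28) (kb xb3 yb4 zb24) (kb xb8 yb21 zb7) (kb xb8 yb21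 zb10) (kb xb8 yb20 zb38) (kb xb8 yb21 zb12) (kb xb3 yb4 zb27) (kb xb8 yb21 zb8) (kb xb5 yb9 zb37) (kb xb8 yb21 zb16) (kb xb3 yb4 zb28)) (@D3.rec (fun _ => Pt) (kb xb8 yb21 zb20) (kb xb3 yb7 zb34) (kb xb3 yb4 zb31) (kb xb8 yb6 zb27) (kb xb5 yb8 zb6) (kb xb3 yb4 zb32) (kb xb3 yb8 zb8) (kb xb8 yb21 zb26) (kb xb8 yb21 zb30) (kb xb8 yb21 zb31) (kb xb3 yb4 zb37) (kb xb5 yb22 zb4) (kb xb3 yb5 zb17) (kb xb8 yb21 zb34) (kb xb3 yb4 zb36) (kb xb3 yb5 zb22) (kb xb5 yb17 zb12) (kb xb8 yb21 zb37) (kb xb3 yb4 zb38) (kb xb8 yb21 zb38) (kb xb3 yb5 zb0) (kb xb8 yb21 zb39) (kb xb8 yb22 zb0) (kb xb3 yb5 zb6) (kb xb7 yb17 zb38) (kb xb3 yb5 zb2) (kb xb3 yb6 zb26) (kb xb8 yb22 zb2) (kb xb8 yb3 zb8) (kb xb3 yb5 zb7) (kb xb8 yb22 zb6) (kb xb3 yb5 zb8) (kb xb8 yb22 zb12) (kb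 xb3 yb5 zb10) (kb xb3 yb5 zb11) (kb xb5 yb10 zb35) (kb xb8 yb22 zb8) (kb xb8 yb22 zb17) (kb xb3 yb7 zb35) (kb xb3 yb5 zb13)) (@D3.rec (fun _ => Pt) (kb xb8 yb6 zb18) (kb xb5 yb9 zb11) (kb xb3 yb5 zb14) (kb xb3 yb8 zb11) (kb xb8 yb22 zb26) (kb xb8 yb22 zb29) (kb xb8 yb22 zb30) (kb xb3 yb5 zb19) (kb xb5 yb21 zb4) (kb xb8 yb22 zb32) (kb xb5 yb17 zb35) (kb xb8 yb22 zb34) (kb xb3 yb5 zb20) (kb xb8 yb21 zb33) (kb xb8 yb22 zb35) (kb xb8 yb22 zb36) (kb xb3 yb5 zb28) (kb xb7 yb16 zb20) (kb xb3 yb5 zb24) (kb xb3 yb6 zb3) (kb xb8 yb22 zb38) (kb xb8 yb3 zb5) (kb xb3 yb5 zb29) (kb xb8 yb23 zb2) (kb xb3 yb5 zb30) (kb xb8 yb23 zb8) (kb xb3 yb5 zb32) (kb xb3 yb5 zb33) (kb xb8 yb23 zb3) (kb xb5 yb11 zb29) (kb xb8 yb23 zb13) (kb xb6 yb15 zb27) (kb xb3 yb5 zb35) (kb xb8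 yb23 zb21) (kb xb3 yb5 zb36) (kb xb8 yb23 zb23) (kb xb3 yb5 zb37) (kb xb8 yb23 zb27) (kb xb8 yb23 zb28) (kb xb3 yb6 zb0)) (@D3.rec (fun _ => Pt) (kb xb3 yb6 zb1) (kb xb8 yb23 zb33) (kb xb3 yb6 zb23) (kb xb3 yb6 zb33) (kb xb3 yb6 zb4) (kb xb3 yb22 zb32) (kb xb3 yb6 zb9) (kb xb5 yb13 zb19) (kb xb3 yb6 zb6) (kb xb8 yb23 zb39) (kb xb8 yb24 zb1) (kb xb3 yb6 zb11) (kb xb8 yb24 zb5) (kb xb8 yb24 zb6) (kb xb6 yb14 zb34) (kb xb3 yb6 zb10) (kb xb8 yb24 zb9) (kb xb8 yb24 zb13) (kb xb8 yb24 zb3) (kb xb8 yb24 zb16) (kb xb3 yb6 zb12) (kb xb3 yb6 zb13) (kb xb8 yb24 zb18) (kb xb8 yb24 zb24) (kb xb8 yb24 zb25) (kb xb3 yb6 zb17) (kb xb3 yb23 zb8) (kb xb5 yb13 zb2) (kb xb8 yb24 zb28) (kb xb8 yb24 zb30) (kb xb6 yb16 zb8) (kb xb3 yb6 zb19) (kb xb8 yb24 zb34) (kb xb8 yb24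 zb36) (kb xb3 yb6 zb21) (kb xb3 yb6 zb20) (kb xb8 yb23 zb35) (kb xb8 yb25 zb0) (kb xb8 yb25 zb1) (kb xb3 yb6 zb27)) (@D3.rec (fun _ => Pt) (kb xb3 yb6 zb28) (kb xb3 yb23 zb38) (kb xb5 yb12 zb27) (kb xb3 yb6 zb30) (kb xb8 yb25 zb7) (kb xb8 yb24 zb10) (kb xb3 yb6 zb35) (kb xb8 yb25 zb12) (kb xb8 yb25 zb13) (kb xb6 yb13 zb0) (kb xb3 yb6 zb34) (kb xb8 yb25 zb10) (kb xb8 yb25 zb18) (kb xb3 yb6 zb36) (kb xb3 yb6 zb37) (kb xb8 yb25 zb20) (kb xb8 yb25 zb26) (kb xb8 yb25 zb27) (kb xb3 yb7 zb1) (kb xb5 yb12 zb7) (kb xb3 yb22 zb2) (kb xb8 yb23 zb36) (kb xb8 yb25 zb31) (kb xb8 yb25 zb32) (kb xb8 yb25 zb33) (kb xb8 yb25 zb34) (kb xb8 yb25 zb35) (kb xb7 yb6 zb18) (kb xb7 yb7 zb23) (kb xb3 yb7 zb6) (kb xb3 yb7 zb7) (kb xb5 yb13 zb31) (kb xb6 yb15 zb23) (kb xb6 yb16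 zb4) (kb xb9 yb0 zb0) (kb xb9 yb0 zb1) (kb xb3 yb7 zb11) (kb xb3 yb7 zb12) (kb xb9 yb0 zb8) (kb xb9 yb0 zb9)) (@D3.rec (fun _ => Pt) (kb xb3 yb7 zb14) (kb xb3 yb7 zb15) (kb xb3 yb7 zb16) (kb xb9 yb0 zb16) (kb xb3 yb7 zb17) (kb xb9 yb0 zb19) (kb xb8 yb21 zb27) (kb xb9 yb0 zb20) (kb xb3 yb7 zb19) (kb xb8 yb22 zb27) (kb xb9 yb0 zb24) (kb xb3 yb7 zb21) (kb xb3 yb7 zb22) (kb xb3 yb7 zb23) (kb xb9 yb0 zb30) (kb xb3 yb9 zb3) (kb xb5 yb17 zb9) (kb xb9 yb0 zb35) (kb xb3 yb9 zb7) (kb xb5 yb17 zb0) (kb xb3 yb7 zb26) (kb xb9 yb1 zb2) (kb xb9 yb1 zb3) (kb xb3 yb7 zb28) (kb xb9 yb1 zb6) (kb xb9 yb1 zb7) (kb xb8 yb21 zb22) (kb xb8 yb22 zb22) (kb xb3 yb7 zb31) (kb xb3 yb7 zb32) (kb xb3 yb7 zb33) (kb xb9 yb1 zb10) (kb xb5 yb14 zb32) (kb xb5 yb14 zb33) (kb xb5 yb5 zb33)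 (kb xb5 yb15 zb21) (kb xb5 yb6 zb37) (kb xb5 yb15 zb17) (kb xb7 yb3 zb39) (kb xb4 yb23 zb2)) (@D3.rec (fun _ => Pt) (kb xb6 yb15 zb15) (kb xb6 yb15 zb36) (kb xb6 yb15 zb11) (kb xb6 yb15 zb32) (kb xb9 yb1 zb23) (kb xb9 yb1 zb24) (kb xb3 yb8 zb2) (kb xb9 yb1 zb26) (kb xb3 yb8 zb3) (kb xb9 yb1 zb28) (kb xb9 yb1 zb29) (kb xb3 yb8 zb5) (kb xb9 yb1 zb33) (kb xb3 yb8 zb7) (kb xb3 yb8 zb9) (kb xb9 yb2 zb0) (kb xb9 yb0 zb3) (kb xb5 yb14 zb37) (kb xb3 yb8 zb12) (kb xb9 yb2 zb9) (kb xb9 yb0 zb6) (kb xb5 yb14 zb35) (kb xb9 yb2 zb15) (kb xb4 yb23 zb37) (kb xb5 yb20 zb9) (kb xb9 yb2 zb20) (kb xb4 yb24 zb1) (kb xb5 yb20 zb3) (kb xb3 yb8 zb16) (kb xb9 yb2 zb16) (kb xb9 yb2 zb26) (kb xb9 yb2 zb27) (kb xb9 yb2 zb29) (kb xb3 yb8 zb19) (kb xb9 yb2 zb21) (kb xb9 yb2 zb31)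 (kb xb9 yb2 zb32) (kb xb9 yb2 zb34) (kb xb7 yb6 zb5) (kb xb9 yb2 zb36)) (@D3.rec (fun _ => Pt) (kb xb3 yb8 zb23) (kb xb3 yb8 zb24) (kb xb9 yb3 zb3) (kb xb7 yb7 zb10) (kb xb3 yb8 zb26) (kb xb3 yb8 zb27) (kb xb5 yb0 zb1) (kb xb3 yb13 zb36) (kb xb5 yb16 zb27) (kb xb5 yb0 zb9) (kb xb3 yb13 zb39) (kb xb5 yb16 zb19) (kb xb3 yb8 zb30) (kb xb9 yb3 zb14) (kb xb3 yb14 zb15) (kb xb9 yb3 zb19) (kb xb3 yb8 zb32) (kb xb9 yb3 zb23) (kb xb3 yb14 zb19) (kb xb5 yb16 zb11) (kb xb3 yb8 zb34) (kb xb9 yb3 zb30) (kb xb3 yb14 zb23) (kb xb9 yb3 zb35) (kb xb3 yb8 zb36) (kb xb9 yb3 zb39) (kb xb3 yb14 zb27) (kb xb5 yb16 zb8) (kb xb9 yb4 zb5) (kb xb3 yb8 zb39) (kb xb9 yb4 zb6) (kb xb3 yb9 zb1) (kb xb3 yb9 zb2) (kb xb9 yb4 zb9) (kb xb9 yb0 zb32) (kb xb6 yb1 zb26) (kb xb3 yb9 zb4)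 (kb xb9 yb4 zb16) (kb xb9 yb4 zb17) (kb xb5 yb17 zb8)) (@D3.rec (fun _ => Pt) (kb xb5 yb14 zb19) (kb xb3 yb9 zb6) (kb xb9 yb4 zb22) (kb xb9 yb0 zb37) (kb xb6 yb0 zb37) (kb xb3 yb9 zb8) (kb xb9 yb4 zb29) (kb xb9 yb4 zb30) (kb xb5 yb16 zb39) (kb xb5 yb14 zb16) (kb xb7 yb2 zb15) (kb xb5 yb5 zb1) (kb xb5 yb10 zb16) (kb xb9 yb4 zb36) (kb xb3 yb9 zb11) (kb xb9 yb4 zb38) (kb xb9 yb5 zb2) (kb xb3 yb9 zb12) (kb xb3 yb15 zb8) (kb xb3 yb9 zb30) (kb xb7 yb2 zb33) (kb xb9 yb5 zb10) (kb xb9 yb5 zb11) (kb xb7 yb2 zb23) (kb xb9 yb5 zb15) (kb xb3 yb9 zb16) (kb xb3 yb9 zb17) (kb xb9 yb5 zb23) (kb xb9 yb4 zb31) (kb xb3 yb9 zb32) (kb xb5 yb17 zb30) (kb xb9 yb5 zb30) (kb xb7 yb3 zb6) (kb xb5 yb5 zb17) (kb xb9 yb5 zb33) (kb xb5 yb11 zb10) (kb xb3 yb9 zb21) (kb xb9 yb5 zb36)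 (kb xb9 yb6 zb0) (kb xb3 yb9 zb22)) (@D3.rec (fun _ => Pt) (kb xb3 yb15 zb21) (kb xb3 yb9 zb33) (kb xb7 yb3 zb23) (kb xb9 yb6 zb8) (kb xb9 yb6 zb9) (kb xb7 yb3 zb13) (kb xb9 yb6 zb13) (kb xb3 yb9 zb26) (kb xb3 yb9 zb27) (kb xb9 yb6 zb21) (kb xb9 yb4 zb18) (kb xb3 yb9 zb35) (kb xb5 yb18 zb12) (kb xb9 yb6 zb28) (kb xb3 yb9 zb31) (kb xb9 yb6 zb30) (kb xb9 yb6 zb34) (kb xb9 yb5 zb27) (kb xb3 yb9 zb34) (kb xb9 yb6 zb37) (kb xb9 yb7 zb1) (kb xb9 yb6 zb25) (kb xb9 yb7 zb3) (kb xb3 yb9 zb37) (kb xb9 yb7 zb5) (kb xb9 yb7 zb9) (kb xb3 yb9 zb39) (kb xb9 yb7 zb11) (kb xb5 yb19 zb1) (kb xb5 yb18 zb36) (kb xb9 yb7 zb14) (kb xb9 yb7 zb15) (kb xb6 yb10 zb27) (kb xb3 yb10 zb10) (kb xb7 yb21 zb29) (kb xb5 yb19 zb0) (kb xb5 yb18 zb29) (kb xb6 yb9 zb20) (kb xb3 yb10 zb14)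 (kb xb7 yb22 zb21)) (@D3.rec (fun _ => Pt) (kb xb5 yb18 zb35) (kb xb5 yb18 zb28) (kb xb5 yb21 zb26) (kb xb3 yb10 zb17) (kb xb5 yb6 zb0) (kb xb3 yb17 zb0) (kb xb9 yb7 zb33) (kb xb3 yb10 zb19) (kb xb9 yb7 zb37) (kb xb9 yb7 zb35) (kb xb5 yb21 zb13) (kb xb3 yb10 zb21) (kb xb9 yb8 zb4) (kb xb9 yb2 zb11) (kb xb3 yb17 zb9) (kb xb7 yb11 zb3) (kb xb9 yb8 zb11) (kb xb5 yb22 zb24) (kb xb3 yb10 zb25) (kb xb5 yb7 zb5) (kb xb3 yb17 zb19) (kb xb9 yb8 zb15) (kb xb3 yb10 zb27) (kb xb9 yb8 zb19) (kb xb9 yb8 zb17) (kb xb5 yb22 zb11) (kb xb3 yb10 zb29) (kb xb9 yb8 zb26) (kb xb9 yb2 zb2) (kb xb3 yb17 zb28) (kb xb7 yb15 zb5) (kb xb9 yb8 zb33) (kb xb8 yb3 zb38) (kb xb8 yb3 zb35) (kb xb4 yb17 zb32) (kb xb7 yb20 zb31) (kb xb4 yb17 zb3) (kb xb7 yb19 zb27) (kb xb9 yb8 zb34) (kb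 xb7 yb20 zb33)) (@D3.rec (fun _ => Pt) (kb xb3 yb11 zb2) (kb xb9 yb8 zb38) (kb xb6 yb4 zb30) (kb xb5 yb15 zb27) (kb xb9 yb9 zb2) (kb xb7 yb19 zb28) (kb xb3 yb11 zb6) (kb xb9 yb9 zb6) (kb xb6 yb5 zb21) (kb xb5 yb15 zb24) (kb xb3 yb21 zb17) (kb xb3 yb11 zb10) (kb xb7 yb25 zb20) (kb xb9 yb9 zb13) (kb xb3 yb11 zb12) (kb xb7 yb19 zb32) (kb xb9 yb9 zb16) (kb xb9 yb9 zb14) (kb xb9 yb9 zb20) (kb xb3 yb11 zb14) (kb xb3 yb11 zb15) (kb xb9 yb9 zb23) (kb xb9 yb9 zb8) (kb xb8 yb4 zb12) (kb xb9 yb9 zb29) (kb xb6 yb14 zb19) (kb xb3 yb20 zb28) (kb xb3 yb11 zb20) (kb xb7 yb25 zb23) (kb xb9 yb9 zb33) (kb xb3 yb11 zb22) (kb xb7 yb20 zb35) (kb xb9 yb9 zb36) (kb xb9 yb9 zb34) (kb xb9 yb10 zb0) (kb xb3 yb11 zb24) (kb xb3 yb11 zb25) (kb xb9 yb10 zb3) (kb xb9 yb9 zb0) (kb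 xb8 yb4 zb4)) (@D3.rec (fun _ => Pt) (kb xb9 yb10 zb9) (kb xb6 yb12 zb25) (kb xb6 yb3 zb33) (kb xb9 yb10 zb10) (kb xb5 yb11 zb8) (kb xb3 yb11 zb31) (kb xb9 yb10 zb12) (kb xb5 yb4 zb38) (kb xb5 yb1 zb2) (kb xb8 yb16 zb30) (kb xb3 yb11 zb34) (kb xb7 yb8 zb16) (kb xb9 yb10 zb16) (kb xb5 yb19 zb10) (kb xb4 yb19 zb23) (kb xb9 yb10 zb23) (kb xb7 yb17 zb20) (kb xb9 yb10 zb25) (kb xb3 yb11 zb39) (kb xb3 yb12 zb0) (kb xb9 yb10 zb33) (kb xb7 yb17 zb2) (kb xb9 yb10 zb38) (kb xb3 yb12 zb2) (kb xb8 yb20 zb24) (kb xb9 yb10 zb27) (kb xb5 yb19 zb2) (kb xb5 yb22 zb25) (kb xb9 yb11 zb4) (kb xb6 yb6 zb33) (kb xb9 yb10 zb32) (kb xb3 yb12 zb5) (kb xb9 yb11 zb9) (kb xb9 yb11 zb15) (kb xb3 yb12 zb6) (kb xb9 yb11 zb16) (kb xb3 yb12 zb37) (kb xb5 yb21 zb37) (kb xb9 yb11 zb21)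 (kb xb3 yb12 zb9)) (@D3.rec (fun _ => Pt) (kb xb6 yb3 zb36) (kb xb9 yb11 zb25) (kb xb3 yb12 zb12) (kb xb9 yb10 zb18) (kb xb5 yb10 zb11) (kb xb5 yb5 zb14) (kb xb5 yb1 zb10) (kb xb8 yb18 zb14) (kb xb3 yb12 zb16) (kb xb7 yb12 zb21) (kb xb9 yb11 zb30) (kb xb5 yb19 zb25) (kb xb4 yb19 zb24) (kb xb9 yb11 zb36) (kb xb7 yb18 zb37) (kb xb9 yb11 zb38) (kb xb3 yb12 zb21) (kb xb3 yb12 zb22) (kb xb9 yb12 zb6) (kb xb7 yb18 zb19) (kb xb9 yb12 zb11) (kb xb3 yb12 zb24) (kb xb8 yb19 zb8) (kb xb9 yb12 zb0) (kb xb5 yb19 zb17) (kb xb5 yb21 zb27) (kb xb9 yb12 zb17) (kb xb9 yb12 zb4) (kb xb6 yb5 zb39) (kb xb3 yb12 zb27) (kb xb9 yb12 zb22) (kb xb9 yb12 zb28) (kb xb3 yb12 zb28) (kb xb9 yb12 zb29) (kb xb3 yb13 zb3) (kb xb5 yb22 zb35) (kb xb9 yb12 zb34) (kb xb3 yb12 zb31) (kb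 xb3 yb12 zb33) (kb xb4 yb21 zb29)) (@D3.rec (fun _ => Pt) (kb xb9 yb12 zb38) (kb xb3 yb12 zb35) (kb xb5 yb23 zb2) (kb xb7 yb16 zb34) (kb xb9 yb13 zb2) (kb xb3 yb12 zb36) (kb xb9 yb13 zb6) (kb xb3 yb12 zb39) (kb xb4 yb21 zb30) (kb xb9 yb13 zb9) (kb xb3 yb13 zb1) (kb xb7 yb18 zb11) (kb xb5 yb23 zb12) (kb xb9 yb13 zb11) (kb xb3 yb13 zb2) (kb xb9 yb13 zb13) (kb xb5 yb4 zb28) (kb xb9 yb13 zb19) (kb xb4 yb15 zb5) (kb xb3 yb13 zb9) (kb xb3 yb20 zb30) (kb xb4 yb15 zb31) (kb xb6 yb10 zb32) (kb xb5 yb0 zb26) (kb xb9 yb13 zb25) (kb xb3 yb13 zb12) (kb xb5 yb23 zb26) (kb xb7 yb19 zb16) (kb xb9 yb13 zb29) (kb xb5 yb4 zb33) (kb xb9 yb13 zb36) (kb xb4 yb16 zb3) (kb xb3 yb13 zb18) (kb xb4 yb16 zb28) (kb xb3 yb21 zb21) (kb xb6 yb9 zb24) (kb xb5 yb0 zb29) (kb xb9 yb14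 zb2) (kb xb3 yb13 zb21) (kb xb7 yb20 zb19)) (@D3.rec (fun _ => Pt) (kb xb5 yb24 zb0) (kb xb9 yb14 zb6) (kb xb3 yb13 zb22) (kb xb3 yb13 zb23) (kb xb3 yb13 zb24) (kb xb9 yb14 zb16) (kb xb3 yb13 zb25) (kb xb9 yb14 zb19) (kb xb9 yb14 zb20) (kb xb3 yb13 zb27) (kb xb9 yb14 zb22) (kb xb3 yb13 zb29) (kb xb9 yb14 zb24) (kb xb9 yb14 zb27) (kb xb9 yb14 zb29) (kb xb3 yb13 zb31) (kb xb3 yb13 zb32) (kb xb9 yb14 zb37) (kb xb9 yb14 zb32) (kb xb5 yb25 zb12) (kb xb9 yb15 zb3) (kb xb9 yb14 zb35) (kb xb5 yb25 zb4) (kb xb3 yb13 zb35) (kb xb6 yb25 zb9) (kb xb9 yb3 zb11) (kb xb4 yb5 zb2) (kb xb3 yb13 zb38) (kb xb7 yb1 zb28) (kb xb9 yb3 zb12) (kb xb4 yb3 zb31) (kb xb3 yb14 zb6) (kb xb9 yb15 zb14) (kb xb3 yb14 zb2) (kb xb3 yb14 zb10) (kb xb9 yb15 zb18) (kb xb3 yb14 zb4) (kb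 xb3 yb14 zb5) (kb xb9 yb15 zb24) (kb xb9 yb15 zb13)) (@D3.rec (fun _ => Pt) (kb xb9 yb15 zb28) (kb xb3 yb14 zb7) (kb xb9 yb15 zb32) (kb xb9 yb15 zb16) (kb xb5 yb24 zb22) (kb xb3 yb14 zb9) (kb xb9 yb16 zb1) (kb xb9 yb15 zb17) (kb xb9 yb16 zb5) (kb xb3 yb14 zb11) (kb xb9 yb16 zb9) (kb xb9 yb15 zb20) (kb xb5 yb24 zb19) (kb xb6 yb18 zb3) (kb xb9 yb16 zb16) (kb xb3 yb15 zb2) (kb xb6 yb1 zb21) (kb xb3 yb14 zb14) (kb xb9 yb16 zb23) (kb xb9 yb16 zb28) (kb xb9 yb3 zb17) (kb xb9 yb16 zb33) (kb xb3 yb14 zb16) (kb xb9 yb16 zb37) (kb xb9 yb16 zb35) (kb xb6 yb1 zb9) (kb xb3 yb14 zb18) (kb xb9 yb17 zb2) (kb xb4 yb1 zb30) (kb xb9 yb3 zb26) (kb xb6 yb24 zb36) (kb xb6 yb24 zb37) (kb xb6 yb18 zb15) (kb xb9 yb17 zb10) (kb xb6 yb2 zb8) (kb xb3 yb15 zb16) (kb xb3 yb14 zb22)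 (kb xb9 yb17 zb17) (kb xb9 yb17 zb22) (kb xb9 yb3 zb33))
def f_b_6 : D2 → D3 → Pt := @D2.rec (fun _ => D3 → Pt) (@D3.rec (fun _ => Pt) (kb xb9 yb17 zb27) (kb xb3 yb14 zb24) (kb xb9 yb17 zb31) (kb xb9 yb17 zb29) (kb xb6 yb1 zb36) (kb xb3 yb14 zb26) (kb xb9 yb17 zb36) (kb xb4 yb1 zb13) (kb xb9 yb4 zb2) (kb xb7 yb1 zb16) (kb xb7 yb1 zb17) (kb xb9 yb15 zb22) (kb xb9 yb18 zb4) (kb xb3 yb14 zb30) (kb xb4 yb0 zb25) (kb xb9 yb18 zb7) (kb xb3 yb14 zb31) (kb xb9 yb18 zb11) (kb xb6 yb0 zb18) (kb xb9 yb18 zb15) (kb xb3 yb14 zb33) (kb xb9 yb18 zb18) (kb xb3 yb14 zb34) (kb xb9 yb18 zb22) (kb xb9 yb16 zb0) (kb xb3 yb14 zb36) (kb xb4 yb0 zb33) (kb xb9 yb18 zb26) (kb xb3 yb14 zb37) (kb xb9 yb18 zb30) (kb xb6 yb0 zb30) (kb xb9 yb18 zb34) (kb xb3 yb14 zb39) (kb xb9 yb18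 zb37) (kb xb3 yb15 zb0) (kb xb6 yb16 zb13) (kb xb9 yb0 zb38) (kb xb5 yb17 zb4) (kb xb3 yb15 zb3) (kb xb9 yb4 zb27)) (@D3.rec (fun _ => Pt) (kb xb3 yb15 zb5) (kb xb9 yb16 zb24) (kb xb9 yb19 zb4) (kb xb9 yb19 zb5) (kb xb9 yb19 zb1) (kb xb9 yb19 zb9) (kb xb3 yb15 zb6) (kb xb9 yb19 zb13) (kb xb9 yb19 zb11) (kb xb5 yb25 zb25) (kb xb6 yb18 zb39) (kb xb9 yb5 zb6) (kb xb9 yb19 zb18) (kb xb9 yb19 zb20) (kb xb3 yb15 zb10) (kb xb9 yb19 zb25) (kb xb9 yb19 zb26) (kb xb9 yb19 zb27) (kb xb3 yb15 zb12) (kb xb4 yb0 zb13) (kb xb9 yb19 zb29) (kb xb5 yb25 zb16) (kb xb9 yb0 zb33) (kb xb6 yb16 zb16) (kb xb3 yb15 zb15) (kb xb9 yb4 zb14) (kb xb5 yb16 zb35) (kb xb3 yb15 zb18) (kb xb9 yb19 zb37) (kb xb9 yb17 zb19) (kb xb9 yb19 zb38) (kb xb9 yb19 zb34) (kb xb9 yb20 zb2) (kb xb3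 yb15 zb19) (kb xb9 yb20 zb6) (kb xb9 yb20 zb4) (kb xb6 yb0 zb4) (kb xb6 yb19 zb15) (kb xb9 yb6 zb4) (kb xb9 yb20 zb11)) (@D3.rec (fun _ => Pt) (kb xb9 yb20 zb13) (kb xb3 yb15 zb23) (kb xb9 yb20 zb18) (kb xb9 yb20 zb19) (kb xb9 yb20 zb20) (kb xb3 yb15 zb25) (kb xb4 yb0 zb7) (kb xb9 yb20 zb22) (kb xb5 yb25 zb34) (kb xb3 yb15 zb27) (kb xb9 yb20 zb27) (kb xb9 yb20 zb33) (kb xb9 yb20 zb34) (kb xb6 yb3 zb13) (kb xb3 yb15 zb31) (kb xb6 yb3 zb15) (kb xb7 yb2 zb39) (kb xb9 yb21 zb3) (kb xb3 yb15 zb30) (kb xb9 yb21 zb6) (kb xb9 yb21 zb7) (kb xb4 yb5 zb29) (kb xb3 yb15 zb33) (kb xb9 yb21 zb13) (kb xb7 yb2 zb30) (kb xb4 yb4 zb4) (kb xb3 yb15 zb35) (kb xb8 yb19 zb13) (kb xb9 yb21 zb21) (kb xb3 yb15 zb37) (kb xb9 yb21 zb22) (kb xb9 yb21 zb28) (kb xb9 yb21 zb29) (kb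 xb6 yb3 zb23) (kb xb3 yb16 zb1) (kb xb7 yb3 zb29) (kb xb6 yb3 zb26) (kb xb3 yb15 zb39) (kb xb9 yb22 zb0) (kb xb9 yb22 zb1)) (@D3.rec (fun _ => Pt) (kb xb9 yb22 zb2) (kb xb4 yb6 zb6) (kb xb3 yb16 zb3) (kb xb9 yb22 zb8) (kb xb7 yb3 zb21) (kb xb4 yb5 zb15) (kb xb3 yb16 zb5) (kb xb8 yb20 zb27) (kb xb9 yb22 zb16) (kb xb3 yb16 zb7) (kb xb9 yb22 zb17) (kb xb9 yb22 zb23) (kb xb9 yb22 zb24) (kb xb6 yb2 zb13) (kb xb3 yb16 zb11) (kb xb6 yb2 zb15) (kb xb4 yb3 zb28) (kb xb9 yb22 zb33) (kb xb9 yb22 zb34) (kb xb3 yb16 zb12) (kb xb9 yb22 zb35) (kb xb9 yb23 zb1) (kb xb9 yb23 zb2) (kb xb6 yb2 zb33) (kb xb3 yb16 zb16) (kb xb4 yb4 zb39) (kb xb6 yb2 zb36) (kb xb9 yb23 zb11) (kb xb9 yb23 zb12) (kb xb9 yb1 zb8) (kb xb4 yb13 zb31) (kb xb9 yb1 zb9) (kb xb4 yb11 zb11) (kb xb5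 yb21 zb2) (kb xb9 yb12 zb2) (kb xb3 yb16 zb20) (kb xb5 yb22 zb0) (kb xb9 yb10 zb29) (kb xb3 yb16 zb22) (kb xb3 yb16 zb23)) (@D3.rec (fun _ => Pt) (kb xb9 yb23 zb17) (kb xb3 yb16 zb25) (kb xb9 yb23 zb19) (kb xb4 yb11 zb30) (kb xb4 yb14 zb11) (kb xb4 yb24 zb20) (kb xb3 yb16 zb34) (kb xb9 yb23 zb21) (kb xb7 yb4 zb6) (kb xb9 yb23 zb26) (kb xb4 yb9 zb4) (kb xb4 yb12 zb14) (kb xb7 yb8 zb15) (kb xb3 yb16 zb38) (kb xb3 yb17 zb37) (kb xb6 yb6 zb17) (kb xb9 yb23 zb31) (kb xb4 yb19 zb8) (kb xb7 yb23 zb10) (kb xb9 yb23 zb35) (kb xb3 yb17 zb1) (kb xb9 yb23 zb37) (kb xb3 yb17 zb4) (kb xb6 yb5 zb37) (kb xb3 yb17 zb3) (kb xb9 yb24 zb3) (kb xb7 yb21 zb34) (kb xb9 yb24 zb6) (kb xb9 yb24 zb7) (kb xb3 yb17 zb7) (kb xb5 yb20 zb2) (kb xb9 yb24 zb13) (kb xb6 yb10 zb13) (kb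 xb9 yb8 zb8) (kb xb7 yb11 zb6) (kb xb9 yb24 zb17) (kb xb4 yb24 zb39) (kb xb3 yb17 zb13) (kb xb9 yb24 zb18) (kb xb9 yb24 zb22)) (@D3.rec (fun _ => Pt) (kb xb7 yb4 zb9) (kb xb4 yb14 zb32) (kb xb4 yb8 zb8) (kb xb7 yb12 zb22) (kb xb3 yb17 zb17) (kb xb6 yb7 zb10) (kb xb3 yb18 zb24) (kb xb9 yb24 zb28) (kb xb4 yb19 zb9) (kb xb7 yb23 zb8) (kb xb9 yb24 zb32) (kb xb3 yb17 zb20) (kb xb9 yb24 zb34) (kb xb3 yb17 zb23) (kb xb6 yb6 zb31) (kb xb3 yb17 zb22) (kb xb9 yb25 zb0) (kb xb7 yb21 zb13) (kb xb9 yb25 zb3) (kb xb9 yb24 zb8) (kb xb3 yb17 zb26) (kb xb5 yb20 zb8) (kb xb9 yb25 zb8) (kb xb6 yb11 zb17) (kb xb9 yb8 zb30) (kb xb7 yb15 zb8) (kb xb9 yb25 zb12) (kb xb3 yb17 zb32) (kb xb9 yb0 zb29) (kb xb3 yb17 zb35) (kb xb3 yb17 zb39) (kb xb9 yb25 zb13) (kb xb3 yb17 zb38)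 (kb xb9 yb25 zb15) (kb xb3 yb18 zb0) (kb xb9 yb25 zb19) (kb xb3 yb18 zb3) (kb xb6 yb4 zb23) (kb xb3 yb18 zb2) (kb xb5 yb22 zb28)) (@D3.rec (fun _ => Pt) (kb xb3 yb18 zb20) (kb xb9 yb25 zb21) (kb xb9 yb2 zb6) (kb xb9 yb25 zb24) (kb xb3 yb18 zb6) (kb xb6 yb7 zb1) (kb xb3 yb25 zb5) (kb xb6 yb7 zb0) (kb xb6 yb6 zb38) (kb xb3 yb18 zb8) (kb xb9 yb25 zb29) (kb xb9 yb25 zb30) (kb xb3 yb18 zb10) (kb xb3 yb18 zb11) (kb xb3 yb18 zb12) (kb xb9 yb25 zb38) (kb xb3 yb18 zb15) (kb xb6 yb4 zb15) (kb xb10 yb0 zb4) (kb xb10 yb0 zb1) (kb xb10 yb0 zb6) (kb xb6 yb7 zb14) (kb xb3 yb18 zb17) (kb xb9 yb0 zb28) (kb xb3 yb18 zb25) (kb xb10 yb0 zb7) (kb xb3 yb18 zb23) (kb xb10 yb0 zb9) (kb xb3 yb18 zb26) (kb xb10 yb0 zb13) (kb xb3 yb18 zb29) (kb xb6 yb5 zb14) (kb xb3 yb18 zb28)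 (kb xb5 yb21 zb29) (kb xb10 yb0 zb15) (kb xb9 yb1 zb37) (kb xb10 yb0 zb18) (kb xb3 yb18 zb32) (kb xb6 yb6 zb8) (kb xb3 yb25 zb6)) (@D3.rec (fun _ => Pt) (kb xb6 yb6 zb7) (kb xb6 yb6 zb5) (kb xb3 yb18 zb34) (kb xb10 yb0 zb23) (kb xb10 yb0 zb24) (kb xb3 yb18 zb36) (kb xb3 yb18 zb37) (kb xb3 yb18 zb38) (kb xb10 yb0 zb32) (kb xb3 yb19 zb1) (kb xb6 yb5 zb5) (kb xb10 yb0 zb38) (kb xb10 yb0 zb35) (kb xb10 yb1 zb0) (kb xb6 yb6 zb21) (kb xb10 yb1 zb1) (kb xb6 yb11 zb27) (kb xb8 yb11 zb26) (kb xb8 yb15 zb27) (kb xb10 yb1 zb6) (kb xb3 yb19 zb5) (kb xb3 yb19 zb6) (kb xb6 yb9 zb21) (kb xb8 yb14 zb31) (kb xb7 yb16 zb26) (kb xb10 yb1 zb13) (kb xb10 yb1 zb15) (kb xb3 yb19 zb10) (kb xb10 yb1 zb18) (kb xb3 yb19 zb11) (kb xb10 yb1 zb20) (kb xb9 yb13 zb28) (kb xb3 yb19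 zb13) (kb xb3 yb19 zb14) (kb xb10 yb1 zb24) (kb xb3 yb19 zb16) (kb xb8 yb5 zb38) (kb xb10 yb1 zb27) (kb xb3 yb19 zb18) (kb xb3 yb19 zb21)) (@D3.rec (fun _ => Pt) (kb xb8 yb1 zb13) (kb xb3 yb19 zb23) (kb xb4 yb25 zb6) (kb xb3 yb19 zb27) (kb xb4 yb15 zb30) (kb xb10 yb1 zb38) (kb xb10 yb1 zb33) (kb xb4 yb12 zb11) (kb xb3 yb19 zb26) (kb xb10 yb2 zb4) (kb xb10 yb2 zb5) (kb xb5 yb8 zb14) (kb xb8 yb20 zb33) (kb xb3 yb19 zb31) (kb xb10 yb2 zb11) (kb xb6 yb13 zb23) (kb xb8 yb12 zb24) (kb xb10 yb2 zb16) (kb xb8 yb17 zb15) (kb xb3 yb19 zb34) (kb xb3 yb19 zb35) (kb xb6 yb10 zb29) (kb xb8 yb14 zb24) (kb xb10 yb2 zb22) (kb xb7 yb18 zb4) (kb xb3 yb19 zb38) (kb xb10 yb2 zb27) (kb xb10 yb2 zb28) (kb xb10 yb2 zb29) (kb xb9 yb14 zb5) (kb xb3 yb20 zb1) (kb xb3 yb20 zb2)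 (kb xb3 yb20 zb3) (kb xb10 yb2 zb34) (kb xb3 yb20 zb5) (kb xb8 yb6 zb7) (kb xb10 yb2 zb37) (kb xb3 yb20 zb7) (kb xb3 yb20 zb9) (kb xb8 yb1 zb5)) (@D3.rec (fun _ => Pt) (kb xb3 yb20 zb11) (kb xb4 yb24 zb27) (kb xb3 yb20 zb15) (kb xb4 yb16 zb29) (kb xb10 yb3 zb8) (kb xb10 yb3 zb3) (kb xb4 yb14 zb29) (kb xb3 yb20 zb14) (kb xb8 yb19 zb19) (kb xb5 yb9 zb18) (kb xb3 yb20 zb19) (kb xb3 yb20 zb21) (kb xb6 yb15 zb13) (kb xb8 yb25 zb36) (kb xb3 yb20 zb22) (kb xb8 yb4 zb8) (kb xb4 yb17 zb5) (kb xb3 yb22 zb5) (kb xb3 yb20 zb26) (kb xb4 yb23 zb14) (kb xb5 yb18 zb37) (kb xb6 yb7 zb22) (kb xb8 yb14 zb15) (kb xb8 yb3 zb11) (kb xb5 yb23 zb35) (kb xb3 yb20 zb38) (kb xb9 yb13 zb22) (kb xb10 yb3 zb32) (kb xb10 yb3 zb33) (kb xb3 yb20 zb31) (kb xb4 yb20 zb11) (kb xb5 yb4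 zb20) (kb xb10 yb3 zb36) (kb xb3 yb21 zb27) (kb xb3 yb20 zb34) (kb xb10 yb4 zb1) (kb xb3 yb20 zb35) (kb xb10 yb4 zb2) (kb xb3 yb22 zb17) (kb xb6 yb11 zb5)) (@D3.rec (fun _ => Pt) (kb xb3 yb20 zb37) (kb xb10 yb4 zb7) (kb xb3 yb20 zb39) (kb xb5 yb6 zb25) (kb xb4 yb17 zb15) (kb xb3 yb21 zb2) (kb xb8 yb3 zb36) (kb xb3 yb21 zb7) (kb xb4 yb17 zb18) (kb xb10 yb4 zb17) (kb xb3 yb21 zb26) (kb xb3 yb21 zb9) (kb xb4 yb18 zb17) (kb xb6 yb4 zb32) (kb xb10 yb4 zb15) (kb xb3 yb21 zb8) (kb xb10 yb4 zb26) (kb xb10 yb4 zb30) (kb xb10 yb4 zb21) (kb xb3 yb21 zb11) (kb xb6 yb15 zb34) (kb xb8 yb25 zb37) (kb xb3 yb21 zb12) (kb xb8 yb4 zb0) (kb xb4 yb17 zb35) (kb xb3 yb23 zb11) (kb xb3 yb21 zb16) (kb xb5 yb18 zb32) (kb xb4 yb23 zb18) (kb xb6 yb8 zb21) (kb xb8 yb14 zb9) (kb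 xb8 yb3 zb22) (kb xb5 yb23 zb22) (kb xb3 yb21 zb28) (kb xb10 yb5 zb6) (kb xb9 yb14 zb0) (kb xb3 yb21 zb20) (kb xb10 yb3 zb35) (kb xb4 yb20 zb12) (kb xb10 yb5 zb9)) (@D3.rec (fun _ => Pt) (kb xb5 yb4 zb24) (kb xb3 yb21 zb23) (kb xb10 yb4 zb14) (kb xb10 yb5 zb14) (kb xb3 yb23 zb22) (kb xb6 yb9 zb39) (kb xb10 yb5 zb18) (kb xb3 yb21 zb29) (kb xb5 yb7 zb27) (kb xb4 yb18 zb3) (kb xb3 yb21 zb32) (kb xb8 yb3 zb33) (kb xb3 yb21 zb37) (kb xb4 yb17 zb11) (kb xb10 yb5 zb27) (kb xb3 yb21 zb39) (kb xb4 yb18 zb37) (kb xb6 yb5 zb23) (kb xb10 yb5 zb25) (kb xb3 yb21 zb38) (kb xb10 yb5 zb30) (kb xb3 yb22 zb4) (kb xb6 yb11 zb22) (kb xb10 yb5 zb39) (kb xb3 yb22 zb1) (kb xb3 yb22 zb3) (kb xb8 yb23 zb0) (kb xb6 yb7 zb16) (kb xb10 yb6 zb8) (kb xb10 yb6 zb9) (kb xb10 yb6 zb10)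 (kb xb3 yb22 zb8) (kb xb8 yb25 zb15) (kb xb3 yb22 zb9) (kb xb10 yb6 zb13) (kb xb6 yb12 zb4) (kb xb8 yb0 zb0) (kb xb3 yb22 zb12) (kb xb3 yb22 zb13) (kb xb10 yb6 zb16)) (@D3.rec (fun _ => Pt) (kb xb10 yb3 zb39) (kb xb7 yb11 zb8) (kb xb10 yb6 zb17) (kb xb3 yb23 zb20) (kb xb6 yb11 zb35) (kb xb3 yb22 zb16) (kb xb10 yb6 zb22) (kb xb10 yb4 zb4) (kb xb10 yb4 zb25) (kb xb3 yb22 zb18) (kb xb10 yb6 zb26) (kb xb10 yb4 zb6) (kb xb3 yb22 zb20) (kb xb10 yb6 zb32) (kb xb10 yb6 zb30) (kb xb10 yb6 zb31) (kb xb3 yb22 zb22) (kb xb10 yb0 zb17) (kb xb10 yb6 zb37) (kb xb3 yb22 zb37) (kb xb7 yb19 zb22) (kb xb3 yb22 zb24) (kb xb10 yb6 zb24) (kb xb3 yb24 zb22) (kb xb8 yb25 zb3) (kb xb5 yb21 zb1) (kb xb10 yb7 zb4) (kb xb10 yb6 zb21) (kb xb3 yb22 zb27) (kb xb10 yb7 zb6) (kb xb10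 yb7 zb8) (kb xb3 yb22 zb28) (kb xb3 yb23 zb2) (kb xb3 yb22 zb30) (kb xb10 yb7 zb13) (kb xb7 yb19 zb31) (kb xb8 yb23 zb29) (kb xb3 yb22 zb33) (kb xb9 yb24 zb14) (kb xb10 yb7 zb15)) (@D3.rec (fun _ => Pt) (kb xb5 yb13 zb9) (kb xb3 yb22 zb36) (kb xb10 yb7 zb17) (kb xb10 yb6 zb38) (kb xb3 yb22 zb38) (kb xb10 yb7 zb22) (kb xb10 yb7 zb26) (kb xb3 yb23 zb0) (kb xb7 yb22 zb12) (kb xb10 yb4 zb28) (kb xb10 yb7 zb30) (kb xb3 yb23 zb1) (kb xb10 yb7 zb35) (kb xb10 yb7 zb38) (kb xb3 yb23 zb3) (kb xb8 yb4 zb5) (kb xb7 yb22 zb9) (kb xb3 yb23 zb10) (kb xb6 yb13 zb18) (kb xb10 yb8 zb6) (kb xb3 yb23 zb7) (kb xb3 yb23 zb9) (kb xb8 yb22 zb4) (kb xb6 yb8 zb15) (kb xb10 yb8 zb13) (kb xb10 yb8 zb14) (kb xb3 yb23 zb13) (kb xb8 yb24 zb8) (kb xb10 yb8 zb17) (kb xb3 yb23 zb15)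 (kb xb10 yb8 zb18) (kb xb6 yb14 zb5) (kb xb8 yb0 zb3) (kb xb3 yb23 zb18) (kb xb10 yb8 zb20) (kb xb10 yb5 zb12) (kb xb7 yb15 zb10) (kb xb3 yb23 zb21) (kb xb10 yb8 zb24) (kb xb10 yb5 zb16)) (@D3.rec (fun _ => Pt) (kb xb10 yb5 zb34) (kb xb3 yb23 zb23) (kb xb10 yb8 zb28) (kb xb10 yb4 zb19) (kb xb10 yb8 zb31) (kb xb6 yb13 zb31) (kb xb3 yb23 zb26) (kb xb10 yb8 zb36) (kb xb10 yb8 zb34) (kb xb10 yb8 zb35) (kb xb3 yb23 zb28) (kb xb9 yb25 zb23) (kb xb10 yb9 zb1) (kb xb3 yb24 zb3) (kb xb7 yb20 zb27) (kb xb3 yb23 zb30) (kb xb10 yb8 zb26) (kb xb3 yb24 zb38) (kb xb8 yb23 zb31) (kb xb5 yb20 zb25) (kb xb10 yb8 zb23) (kb xb10 yb9 zb8) (kb xb3 yb23 zb33) (kb xb10 yb9 zb10) (kb xb10 yb9 zb12) (kb xb3 yb23 zb34) (kb xb3 yb24 zb8) (kb xb3 yb23 zb36) (kb xb10 yb9 zb17) (kb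 xb7 yb20 zb36) (kb xb8 yb23 zb34) (kb xb3 yb23 zb39) (kb xb9 yb25 zb9) (kb xb10 yb9 zb19) (kb xb5 yb12 zb14) (kb xb3 yb24 zb2) (kb xb10 yb9 zb21) (kb xb10 yb9 zb2) (kb xb3 yb24 zb4) (kb xb10 yb6 zb14)) (@D3.rec (fun _ => Pt) (kb xb10 yb9 zb28) (kb xb3 yb24 zb6) (kb xb10 yb5 zb35) (kb xb7 yb23 zb2) (kb xb10 yb9 zb32) (kb xb3 yb24 zb7) (kb xb10 yb9 zb36) (kb xb10 yb9 zb39) (kb xb3 yb24 zb9) (kb xb8 yb4 zb13) (kb xb7 yb22 zb38) (kb xb5 yb15 zb2) (kb xb3 yb24 zb13) (kb xb6 yb9 zb12) (kb xb7 yb8 zb32) (kb xb5 yb15 zb0) (kb xb10 yb10 zb9) (kb xb6 yb15 zb17) (kb xb3 yb24 zb18) (kb xb6 yb15 zb19) (kb xb7 yb23 zb5) (kb xb10 yb10 zb14) (kb xb6 yb16 zb2) (kb xb5 yb13 zb32) (kb xb3 yb24 zb21) (kb xb10 yb10 zb17) (kb xb10 yb10 zb18) (kb xb5 yb11 zb31) (kb xb10 yb10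 zb19) (kb xb3 yb24 zb25) (kb xb3 yb24 zb26) (kb xb3 yb24 zb27) (kb xb5 yb15 zb3) (kb xb3 yb24 zb29) (kb xb6 yb10 zb20) (kb xb7 yb12 zb37) (kb xb5 yb15 zb1) (kb xb10 yb10 zb30) (kb xb6 yb15 zb38) (kb xb3 yb24 zb34)) (@D3.rec (fun _ => Pt) (kb xb7 yb23 zb6) (kb xb6 yb16 zb1) (kb xb6 yb15 zb22) (kb xb10 yb10 zb35) (kb xb5 yb13 zb33) (kb xb3 yb24 zb37) (kb xb10 yb10 zb38) (kb xb10 yb10 zb39) (kb xb5 yb12 zb30) (kb xb10 yb11 zb0) (kb xb3 yb25 zb0) (kb xb3 yb25 zb2) (kb xb3 yb25 zb3) (kb xb6 yb0 zb35) (kb xb9 yb25 zb25) (kb xb6 yb17 zb12) (kb xb6 yb1 zb23) (kb xb10 yb0 zb19) (kb xb6 yb17 zb4) (kb xb3 yb25 zb10) (kb xb9 yb25 zb27) (kb xb3 yb25 zb11) (kb xb10 yb0 zb21) (kb xb3 yb25 zb21) (kb xb10 yb11 zb19) (kb xb3 yb25 zb13) (kb xb3 yb25 zb25) (kb xb10 yb11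 zb24) (kb xb3 yb25 zb15) (kb xb10 yb11 zb27) (kb xb8 yb7 zb6) (kb xb10 yb11 zb31) (kb xb3 yb25 zb17) (kb xb10 yb11 zb35) (kb xb8 yb7 zb9) (kb xb10 yb11 zb39) (kb xb3 yb25 zb19) (kb xb3 yb25 zb20) (kb xb4 yb5 zb22) (kb xb10 yb11 zb17)) (@D3.rec (fun _ => Pt) (kb xb6 yb23 zb29) (kb xb3 yb25 zb22) (kb xb7 yb1 zb15) (kb xb10 yb11 zb21) (kb xb6 yb16 zb18) (kb xb3 yb25 zb24) (kb xb4 yb5 zb38) (kb xb10 yb11 zb22) (kb xb7 yb0 zb9) (kb xb3 yb25 zb26) (kb xb6 yb24 zb35) (kb xb10 yb11 zb26) (kb xb6 yb16 zb15) (kb xb3 yb25 zb28) (kb xb10 yb12 zb17) (kb xb6 yb17 zb15) (kb xb6 yb17 zb16) (kb xb10 yb12 zb20) (kb xb10 yb12 zb22) (kb xb3 yb25 zb30) (kb xb10 yb12 zb25) (kb xb3 yb25 zb31) (kb xb10 yb12 zb27) (kb xb3 yb25 zb32) (kb xb3 yb25 zb33) (kb xb6 yb17 zb25) (kb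 xb3 yb25 zb37) (kb xb6 yb17 zb30) (kb xb6 yb17 zb28) (kb xb4 yb0 zb0) (kb xb6 yb17 zb27) (kb xb3 yb25 zb36) (kb xb9 yb4 zb10) (kb xb10 yb13 zb6) (kb xb10 yb12 zb36) (kb xb10 yb13 zb10) (kb xb9 yb18 zb38) (kb xb3 yb25 zb39) (kb xb9 yb4 zb23) (kb xb10 yb13 zb16)) (@D3.rec (fun _ => Pt) (kb xb10 yb13 zb0) (kb xb10 yb13 zb20) (kb xb9 yb18 zb19) (kb xb5 yb25 zb13) (kb xb7 yb1 zb22) (kb xb4 yb0 zb3) (kb xb7 yb25 zb27) (kb xb10 yb13 zb25) (kb xb4 yb0 zb4) (kb xb5 yb3 zb37) (kb xb6 yb18 zb10) (kb xb10 yb13 zb30) (kb xb4 yb0 zb6) (kb xb10 yb13 zb33) (kb xb6 yb25 zb3) (kb xb5 yb25 zb32) (kb xb4 yb0 zb9) (kb xb7 yb25 zb33) (kb xb10 yb13 zb37) (kb xb4 yb0 zb10) (kb xb5 yb4 zb7) (kb xb6 yb18 zb21) (kb xb10 yb14 zb2) (kb xb4 yb0 zb12) (kb xb10 yb14 zb5) (kb xb10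 yb12 zb29) (kb xb4 yb0 zb15) (kb xb10 yb12 zb32) (kb xb4 yb0 zb17) (kb xb4 yb0 zb26) (kb xb9 yb15 zb27) (kb xb4 yb0 zb19) (kb xb10 yb14 zb10) (kb xb4 yb0 zb30) (kb xb4 yb0 zb34) (kb xb9 yb16 zb4) (kb xb4 yb0 zb22) (kb xb10 yb14 zb15) (kb xb4 yb0 zb38) (kb xb6 yb1 zb10)) (@D3.rec (fun _ => Pt) (kb xb4 yb1 zb34) (kb xb6 yb21 zb34) (kb xb8 yb8 zb29) (kb xb10 yb14 zb8) (kb xb10 yb14 zb23) (kb xb4 yb0 zb27) (kb xb10 yb14 zb27) (kb xb10 yb14 zb25) (kb xb6 yb21 zb17) (kb xb4 yb0 zb29) (kb xb10 yb14 zb33) (kb xb9 yb16 zb11) (kb xb10 yb14 zb12) (kb xb10 yb14 zb39) (kb xb10 yb15 zb1) (kb xb6 yb1 zb37) (kb xb6 yb22 zb34) (kb xb4 yb2 zb16) (kb xb8 yb9 zb1) (kb xb10 yb14 zb13) (kb xb10 yb15 zb7) (kb xb4 yb0 zb35) (kb xb10 yb15 zb11) (kb xb10 yb15 zb9) (kb xb6 yb22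 zb17) (kb xb4 yb0 zb37) (kb xb10 yb15 zb17) (kb xb9 yb15 zb34) (kb xb10 yb14 zb17) (kb xb10 yb15 zb23) (kb xb10 yb15 zb25) (kb xb9 yb17 zb15) (kb xb7 yb1 zb13) (kb xb5 yb2 zb38) (kb xb4 yb1 zb3) (kb xb4 yb3 zb7) (kb xb6 yb24 zb22) (kb xb5 yb1 zb33) (kb xb5 yb7 zb33) (kb xb4 yb20 zb1)) (@D3.rec (fun _ => Pt) (kb xb10 yb15 zb33) (kb xb10 yb15 zb34) (kb xb4 yb1 zb6) (kb xb4 yb1 zb9) (kb xb6 yb23 zb37) (kb xb4 yb1 zb8) (kb xb10 yb16 zb1) (kb xb10 yb15 zb37) (kb xb10 yb16 zb6) (kb xb10 yb16 zb0) (kb xb4 yb1 zb12) (kb xb10 yb16 zb8) (kb xb10 yb16 zb14) (kb xb8 yb13 zb26) (kb xb6 yb20 zb14) (kb xb10 yb16 zb19) (kb xb4 yb1 zb15) (kb xb10 yb16 zb22) (kb xb4 yb1 zb16) (kb xb6 yb24 zb33) (kb xb9 yb16 zb20) (kb xb5 yb3 zb18) (kb xb4 yb1 zb20) (kb xb7 yb1 zb2) (kb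 xb4 yb4 zb19) (kb xb5 yb2 zb15) (kb xb5 yb8 zb37) (kb xb4 yb20 zb4) (kb xb10 yb16 zb31) (kb xb10 yb16 zb32) (kb xb4 yb1 zb23) (kb xb4 yb1 zb26) (kb xb7 yb0 zb18) (kb xb4 yb1 zb25) (kb xb10 yb16 zb39) (kb xb10 yb16 zb35) (kb xb10 yb17 zb4) (kb xb10 yb16 zb38) (kb xb4 yb1 zb29) (kb xb10 yb17 zb6)) (@D3.rec (fun _ => Pt) (kb xb10 yb17 zb12) (kb xb8 yb14 zb0) (kb xb6 yb21 zb2) (kb xb10 yb17 zb17) (kb xb4 yb1 zb32) (kb xb10 yb17 zb20) (kb xb4 yb1 zb33) (kb xb10 yb17 zb22) (kb xb4 yb1 zb35) (kb xb10 yb17 zb26) (kb xb4 yb1 zb37) (kb xb9 yb15 zb25) (kb xb10 yb17 zb29) (kb xb10 yb17 zb30) (kb xb4 yb1 zb38) (kb xb10 yb17 zb34) (kb xb10 yb17 zb32) (kb xb6 yb19 zb8) (kb xb4 yb2 zb0) (kb xb10 yb18 zb0) (kb xb10 yb18 zb3) (kb xb10 yb18 zb4) (kb xb4 yb2 zb2) (kb xb10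 yb18 zb7) (kb xb4 yb2 zb6) (kb xb10 yb18 zb10) (kb xb4 yb2 zb4) (kb xb4 yb2 zb5) (kb xb10 yb18 zb18) (kb xb10 yb18 zb8) (kb xb10 yb18 zb23) (kb xb4 yb2 zb7) (kb xb9 yb15 zb8) (kb xb10 yb18 zb12) (kb xb6 yb19 zb1) (kb xb10 yb18 zb32) (kb xb10 yb18 zb17) (kb xb4 yb2 zb10) (kb xb10 yb18 zb35) (kb xb10 yb19 zb0)) (@D3.rec (fun _ => Pt) (kb xb4 yb2 zb11) (kb xb10 yb19 zb2) (kb xb6 yb22 zb2) (kb xb10 yb19 zb6) (kb xb4 yb2 zb13) (kb xb10 yb19 zb9) (kb xb4 yb2 zb14) (kb xb4 yb2 zb15) (kb xb10 yb17 zb36) (kb xb10 yb19 zb16) (kb xb4 yb2 zb18) (kb xb10 yb19 zb18) (kb xb9 yb16 zb2) (kb xb10 yb19 zb20) (kb xb4 yb2 zb19) (kb xb10 yb19 zb24) (kb xb10 yb19 zb22) (kb xb6 yb19 zb24) (kb xb4 yb2 zb21) (kb xb10 yb19 zb29) (kb xb10 yb19 zb32) (kb xb10 yb19 zb33) (kb xb4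 yb2 zb23) (kb xb10 yb19 zb36) (kb xb4 yb2 zb27) (kb xb10 yb19 zb39) (kb xb4 yb2 zb25) (kb xb4 yb2 zb26) (kb xb10 yb20 zb7) (kb xb10 yb19 zb37) (kb xb10 yb20 zb12) (kb xb4 yb2 zb28) (kb xb9 yb15 zb2) (kb xb10 yb20 zb1) (kb xb6 yb19 zb16) (kb xb10 yb20 zb5) (kb xb10 yb20 zb22) (kb xb4 yb2 zb31) (kb xb10 yb20 zb24) (kb xb10 yb20 zb29)) (@D3.rec (fun _ => Pt) (kb xb4 yb2 zb32) (kb xb10 yb20 zb31) (kb xb6 yb23 zb2) (kb xb10 yb20 zb35) (kb xb4 yb2 zb34) (kb xb10 yb20 zb38) (kb xb4 yb2 zb35) (kb xb4 yb2 zb36) (kb xb4 yb2 zb37) (kb xb4 yb2 zb39) (kb xb10 yb21 zb4) (kb xb8 yb11 zb30) (kb xb5 yb4 zb0) (kb xb10 yb21 zb8) (kb xb10 yb21 zb10) (kb xb4 yb3 zb1) (kb xb10 yb21 zb14) (kb xb4 yb3 zb2) (kb xb10 yb12 zb9) (kb xb10 yb21 zb12) (kb xb7 yb0 zb1) (kb xb4 yb3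 zb4) (kb xb10 yb11 zb18) (kb xb10 yb21 zb20) (kb xb4 yb3 zb10) (kb xb10 yb15 zb28) (kb xb10 yb21 zb23) (kb xb10 yb21 zb25) (kb xb4 yb3 zb8) (kb xb6 yb17 zb0) (kb xb4 yb3 zb9) (kb xb8 yb14 zb4) (kb xb10 yb21 zb30) (kb xb10 yb21 zb31) (kb xb4 yb3 zb11) (kb xb10 yb21 zb35) (kb xb4 yb3 zb14) (kb xb6 yb20 zb4) (kb xb4 yb3 zb13) (kb xb10 yb22 zb2)) (@D3.rec (fun _ => Pt) (kb xb4 yb4 zb14) (kb xb10 yb21 zb38) (kb xb10 yb22 zb8) (kb xb8 yb6 zb37) (kb xb4 yb3 zb17) (kb xb4 yb3 zb18) (kb xb4 yb19 zb35) (kb xb10 yb22 zb18) (kb xb10 yb22 zb13) (kb xb10 yb22 zb21) (kb xb8 yb15 zb10) (kb xb4 yb3 zb19) (kb xb10 yb22 zb22) (kb xb4 yb3 zb20) (kb xb10 yb22 zb25) (kb xb10 yb22 zb26) (kb xb10 yb22 zb27) (kb xb4 yb3 zb22) (kb xb4 yb3 zb23) (kb xb4 yb3 zb24) (kb xb10 yb22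 zb0) (kb xb4 yb3 zb32) (kb xb6 yb19 zb36) (kb xb9 yb14 zb13) (kb xb10 yb23 zb3) (kb xb6 yb25 zb28) (kb xb4 yb3 zb37) (kb xb4 yb3 zb27) (kb xb10 yb23 zb8) (kb xb10 yb23 zb13) (kb xb9 yb22 zb30) (kb xb10 yb23 zb18) (kb xb4 yb3 zb29) (kb xb6 yb20 zb19) (kb xb10 yb23 zb20) (kb xb6 yb17 zb10) (kb xb5 yb25 zb30) (kb xb5 yb25 zb31) (kb xb10 yb22 zb39) (kb xb10 yb23 zb30)) (@D3.rec (fun _ => Pt) (kb xb7 yb1 zb20) (kb xb10 yb23 zb32) (kb xb9 yb15 zb9) (kb xb6 yb18 zb14) (kb xb4 yb3 zb35) (kb xb10 yb23 zb37) (kb xb10 yb24 zb3) (kb xb10 yb24 zb4) (kb xb4 yb3 zb36) (kb xb5 yb24 zb24) (kb xb10 yb24 zb6) (kb xb4 yb3 zb39) (kb xb10 yb24 zb14) (kb xb10 yb23 zb10) (kb xb10 yb24 zb17) (kb xb10 yb24 zb11) (kb xb10 yb24 zb21) (kb xb4 yb4 zb0) (kb xb10 yb24 zb22) (kb xb4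 yb4 zb2) (kb xb10 yb24 zb26) (kb xb10 yb24 zb27) (kb xb10 yb24 zb34) (kb xb9 yb21 zb12) (kb xb10 yb24 zb37) (kb xb4 yb4 zb5) (kb xb9 yb16 zb21) (kb xb10 yb24 zb39) (kb xb6 yb24 zb25) (kb xb4 yb4 zb7) (kb xb4 yb4 zb8) (kb xb4 yb4 zb10) (kb xb10 yb25 zb5) (kb xb8 yb12 zb28) (kb xb10 yb25 zb8) (kb xb5 yb4 zb10) (kb xb4 yb4 zb11) (kb xb10 yb25 zb14) (kb xb10 yb25 zb15) (kb xb10 yb12 zb16))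
def f_b_7 : D2 → D3 → Pt := @D2.rec (fun _ => D3 → Pt) (@D3.rec (fun _ => Pt) (kb xb10 yb25 zb12) (kb xb6 yb23 zb20) (kb xb4 yb4 zb15) (kb xb10 yb25 zb20) (kb xb10 yb11 zb23) (kb xb4 yb4 zb21) (kb xb10 yb25 zb22) (kb xb10 yb16 zb27) (kb xb4 yb4 zb18) (kb xb6 yb17 zb8) (kb xb10 yb25 zb27) (kb xb4 yb4 zb20) (kb xb8 yb14 zb6) (kb xb10 yb25 zb30) (kb xb10 yb25 zb31) (kb xb4 yb4 zb22) (kb xb10 yb25 zb35) (kb xb4 yb4 zb25) (kb xb6 yb20 zb32) (kb xb4 yb4 zb24) (kb xb11 yb0 zb2) (kb xb10 yb25 zb38) (kb xb11 yb0 zb7) (kb xb8 yb7 zb1) (kb xb4 yb4 zb28) (kb xb4 yb4 zb29) (kb xb11 yb0 zb16) (kb xb4 yb19 zb38) (kb xb11 yb0 zb12) (kb xb11 yb0 zb20) (kb xb8 yb14 zb34) (kb xb4 yb4 zb30) (kb xb11 yb0 zb21) (kb xb4 yb4 zb31) (kb xb11 yb0 zb24) (kb xb11 yb0 zb25) (kb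 xb11 yb0 zb26) (kb xb4 yb4 zb33) (kb xb4 yb4 zb34) (kb xb4 yb4 zb35)) (@D3.rec (fun _ => Pt) (kb xb11 yb0 zb0) (kb xb4 yb5 zb3) (kb xb6 yb20 zb23) (kb xb9 yb14 zb11) (kb xb11 yb1 zb2) (kb xb4 yb5 zb7) (kb xb7 yb2 zb8) (kb xb4 yb4 zb38) (kb xb11 yb1 zb7) (kb xb11 yb1 zb12) (kb xb9 yb23 zb7) (kb xb11 yb1 zb17) (kb xb4 yb5 zb0) (kb xb6 yb19 zb32) (kb xb11 yb1 zb19) (kb xb6 yb17 zb2) (kb xb6 yb0 zb9) (kb xb6 yb0 zb10) (kb xb11 yb0 zb38) (kb xb11 yb1 zb29) (kb xb6 yb25 zb0) (kb xb11 yb1 zb31) (kb xb6 yb18 zb4) (kb xb9 yb15 zb11) (kb xb4 yb5 zb6) (kb xb11 yb1 zb36) (kb xb11 yb2 zb2) (kb xb11 yb2 zb3) (kb xb5 yb24 zb28) (kb xb4 yb5 zb8) (kb xb11 yb2 zb5) (kb xb4 yb5 zb10) (kb xb11 yb1 zb8) (kb xb11 yb2 zb14) (kb xb11 yb2 zb16) (kb xb11 yb2 zb10) (kb xb11 yb2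 zb20) (kb xb4 yb5 zb11) (kb xb11 yb2 zb21) (kb xb4 yb5 zb13)) (@D3.rec (fun _ => Pt) (kb xb11 yb2 zb25) (kb xb11 yb2 zb26) (kb xb11 yb2 zb33) (kb xb9 yb22 zb7) (kb xb11 yb2 zb36) (kb xb4 yb5 zb16) (kb xb9 yb17 zb14) (kb xb11 yb2 zb38) (kb xb7 yb1 zb6) (kb xb4 yb5 zb18) (kb xb8 yb0 zb6) (kb xb10 yb12 zb3) (kb xb7 yb2 zb12) (kb xb11 yb3 zb5) (kb xb7 yb2 zb14) (kb xb5 yb17 zb10) (kb xb10 yb22 zb34) (kb xb4 yb5 zb23) (kb xb4 yb5 zb24) (kb xb11 yb3 zb12) (kb xb11 yb1 zb35) (kb xb4 yb5 zb26) (kb xb11 yb3 zb13) (kb xb5 yb17 zb23) (kb xb11 yb3 zb25) (kb xb11 yb3 zb20) (kb xb4 yb5 zb27) (kb xb11 yb3 zb27) (kb xb11 yb3 zb34) (kb xb11 yb3 zb35) (kb xb6 yb2 zb24) (kb xb4 yb5 zb31) (kb xb7 yb2 zb38) (kb xb5 yb17 zb20) (kb xb11 yb4 zb4) (kb xb11 yb4 zb5) (kb xb11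 yb4 zb6) (kb xb4 yb5 zb33) (kb xb7 yb2 zb32) (kb xb6 yb2 zb16)) (@D3.rec (fun _ => Pt) (kb xb4 yb5 zb34) (kb xb8 yb0 zb9) (kb xb10 yb12 zb10) (kb xb7 yb3 zb3) (kb xb11 yb4 zb17) (kb xb7 yb3 zb5) (kb xb5 yb17 zb32) (kb xb11 yb0 zb32) (kb xb4 yb5 zb39) (kb xb4 yb6 zb0) (kb xb11 yb4 zb24) (kb xb10 yb23 zb36) (kb xb4 yb6 zb2) (kb xb5 yb18 zb5) (kb xb11 yb4 zb26) (kb xb11 yb4 zb37) (kb xb11 yb4 zb32) (kb xb4 yb6 zb3) (kb xb11 yb4 zb39) (kb xb11 yb5 zb6) (kb xb11 yb5 zb7) (kb xb6 yb3 zb4) (kb xb4 yb6 zb7) (kb xb5 yb18 zb2) (kb xb7 yb3 zb30) (kb xb11 yb5 zb16) (kb xb11 yb5 zb17) (kb xb11 yb5 zb18) (kb xb4 yb6 zb9) (kb xb6 yb2 zb35) (kb xb7 yb3 zb24) (kb xb4 yb6 zb11) (kb xb11 yb5 zb27) (kb xb4 yb6 zb12) (kb xb11 yb5 zb29) (kb xb4 yb6 zb14) (kb xb11 yb5 zb34)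 (kb xb4 yb6 zb15) (kb xb11 yb5 zb36) (kb xb5 yb14 zb38)) (@D3.rec (fun _ => Pt) (kb xb7 yb8 zb39) (kb xb7 yb13 zb4) (kb xb4 yb6 zb23) (kb xb7 yb4 zb5) (kb xb4 yb6 zb26) (kb xb7 yb4 zb3) (kb xb6 yb4 zb8) (kb xb5 yb5 zb34) (kb xb11 yb6 zb4) (kb xb6 yb5 zb0) (kb xb5 yb6 zb39) (kb xb11 yb6 zb7) (kb xb4 yb6 zb29) (kb xb4 yb6 zb30) (kb xb7 yb4 zb14) (kb xb7 yb4 zb15) (kb xb11 yb6 zb8) (kb xb7 yb4 zb17) (kb xb7 yb4 zb18) (kb xb11 yb6 zb11) (kb xb11 yb6 zb12) (kb xb4 yb6 zb33) (kb xb4 yb8 zb19) (kb xb4 yb6 zb34) (kb xb4 yb9 zb14) (kb xb4 yb8 zb18) (kb xb4 yb6 zb36) (kb xb4 yb9 zb13) (kb xb4 yb6 zb38) (kb xb4 yb7 zb7) (kb xb4 yb10 zb9) (kb xb4 yb7 zb0) (kb xb9 yb0 zb7) (kb xb4 yb7 zb11) (kb xb4 yb7 zb15) (kb xb4 yb12 zb31) (kb xb4 yb7 zb3) (kb xb9 yb0 zb4) (kb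 xb4 yb7 zb19) (kb xb4 yb15 zb4)) (@D3.rec (fun _ => Pt) (kb xb4 yb14 zb38) (kb xb11 yb6 zb13) (kb xb7 yb9 zb6) (kb xb7 yb8 zb18) (kb xb9 yb25 zb35) (kb xb8 yb15 zb28) (kb xb7 yb17 zb9) (kb xb4 yb10 zb4) (kb xb4 yb16 zb2) (kb xb4 yb15 zb36) (kb xb11 yb6 zb15) (kb xb7 yb13 zb10) (kb xb7 yb12 zb24) (kb xb10 yb0 zb29) (kb xb8 yb17 zb14) (kb xb7 yb18 zb26) (kb xb4 yb12 zb25) (kb xb4 yb7 zb22) (kb xb9 yb3 zb6) (kb xb7 yb25 zb38) (kb xb4 yb7 zb26) (kb xb7 yb9 zb16) (kb xb8 yb0 zb14) (kb xb11 yb6 zb31) (kb xb4 yb7 zb27) (kb xb11 yb6 zb32) (kb xb11 yb6 zb33) (kb xb4 yb7 zb30) (kb xb11 yb6 zb37) (kb xb7 yb10 zb19) (kb xb4 yb7 zb32) (kb xb4 yb7 zb34) (kb xb9 yb2 zb38) (kb xb7 yb25 zb39) (kb xb4 yb7 zb38) (kb xb7 yb13 zb21) (kb xb8 yb0 zb22) (kb xb11 yb7 zb0) (kb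 xb4 yb7 zb39) (kb xb11 yb7 zb1)) (@D3.rec (fun _ => Pt) (kb xb11 yb7 zb2) (kb xb4 yb8 zb2) (kb xb11 yb7 zb6) (kb xb7 yb14 zb23) (kb xb4 yb8 zb4) (kb xb5 yb15 zb38) (kb xb9 yb11 zb22) (kb xb4 yb8 zb7) (kb xb4 yb8 zb10) (kb xb5 yb7 zb37) (kb xb7 yb6 zb10) (kb xb7 yb16 zb22) (kb xb4 yb23 zb3) (kb xb4 yb8 zb15) (kb xb4 yb10 zb13) (kb xb7 yb10 zb6) (kb xb11 yb7 zb12) (kb xb7 yb16 zb29) (kb xb5 yb13 zb27) (kb xb4 yb8 zb17) (kb xb10 yb11 zb14) (kb xb4 yb8 zb20) (kb xb11 yb6 zb9) (kb xb7 yb9 zb13) (kb xb4 yb8 zb26) (kb xb11 yb7 zb20) (kb xb7 yb18 zb14) (kb xb4 yb8 zb30) (kb xb4 yb8 zb25) (kb xb11 yb7 zb21) (kb xb4 yb21 zb11) (kb xb11 yb7 zb18) (kb xb11 yb7 zb28) (kb xb4 yb8 zb27) (kb xb4 yb8 zb29) (kb xb11 yb7 zb30) (kb xb4 yb8 zb32) (kb xb11 yb7 zb35) (kb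 xb11 yb7 zb23) (kb xb10 yb4 zb10)) (@D3.rec (fun _ => Pt) (kb xb11 yb7 zb33) (kb xb11 yb7 zb38) (kb xb4 yb8 zb33) (kb xb8 yb0 zb5) (kb xb11 yb8 zb2) (kb xb4 yb8 zb36) (kb xb11 yb8 zb6) (kb xb11 yb8 zb7) (kb xb4 yb8 zb38) (kb xb11 yb8 zb9) (kb xb5 yb16 zb3) (kb xb9 yb12 zb35) (kb xb4 yb9 zb2) (kb xb4 yb9 zb5) (kb xb5 yb9 zb1) (kb xb7 yb18 zb0) (kb xb7 yb7 zb16) (kb xb4 yb23 zb4) (kb xb4 yb9 zb10) (kb xb7 yb14 zb10) (kb xb4 yb12 zb35) (kb xb7 yb18 zb7) (kb xb11 yb8 zb15) (kb xb5 yb13 zb28) (kb xb4 yb9 zb12) (kb xb10 yb11 zb16) (kb xb4 yb9 zb15) (kb xb11 yb6 zb10) (kb xb7 yb13 zb18) (kb xb4 yb9 zb21) (kb xb11 yb8 zb23) (kb xb7 yb16 zb36) (kb xb4 yb9 zb25) (kb xb4 yb9 zb20) (kb xb11 yb8 zb24) (kb xb4 yb21 zb14) (kb xb11 yb8 zb21) (kb xb11 yb8 zb31) (kb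 xb4 yb9 zb22) (kb xb4 yb9 zb24)) (@D3.rec (fun _ => Pt) (kb xb11 yb8 zb33) (kb xb4 yb9 zb27) (kb xb11 yb8 zb25) (kb xb11 yb8 zb38) (kb xb10 yb5 zb21) (kb xb11 yb8 zb36) (kb xb11 yb9 zb1) (kb xb4 yb9 zb28) (kb xb8 yb0 zb2) (kb xb11 yb9 zb5) (kb xb4 yb9 zb31) (kb xb11 yb9 zb9) (kb xb11 yb9 zb10) (kb xb4 yb9 zb33) (kb xb11 yb9 zb12) (kb xb6 yb4 zb12) (kb xb5 yb21 zb11) (kb xb4 yb9 zb37) (kb xb7 yb5 zb3) (kb xb11 yb9 zb17) (kb xb4 yb9 zb39) (kb xb11 yb9 zb21) (kb xb4 yb10 zb0) (kb xb11 yb9 zb25) (kb xb4 yb10 zb5) (kb xb7 yb10 zb28) (kb xb4 yb10 zb2) (kb xb11 yb9 zb23) (kb xb7 yb16 zb38) (kb xb11 yb9 zb28) (kb xb11 yb9 zb37) (kb xb11 yb9 zb31) (kb xb6 yb15 zb14) (kb xb7 yb8 zb33) (kb xb11 yb6 zb14) (kb xb11 yb10 zb3) (kb xb4 yb10 zb10) (kb xb4 yb10 zb11)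 (kb xb9 yb1 zb17) (kb xb7 yb4 zb0)) (@D3.rec (fun _ => Pt) (kb xb9 yb1 zb15) (kb xb11 yb8 zb19) (kb xb11 yb7 zb9) (kb xb11 yb10 zb13) (kb xb11 yb10 zb15) (kb xb4 yb10 zb14) (kb xb7 yb5 zb2) (kb xb4 yb10 zb15) (kb xb11 yb10 zb18) (kb xb11 yb9 zb15) (kb xb7 yb13 zb15) (kb xb4 yb10 zb21) (kb xb11 yb10 zb23) (kb xb7 yb6 zb23) (kb xb4 yb10 zb23) (kb xb11 yb10 zb27) (kb xb7 yb5 zb21) (kb xb4 yb10 zb29) (kb xb7 yb18 zb20) (kb xb4 yb11 zb8) (kb xb7 yb15 zb28) (kb xb4 yb10 zb27) (kb xb7 yb10 zb26) (kb xb11 yb10 zb36) (kb xb11 yb10 zb37) (kb xb11 yb10 zb31) (kb xb7 yb18 zb22) (kb xb4 yb10 zb30) (kb xb7 yb9 zb28) (kb xb11 yb11 zb4) (kb xb4 yb10 zb32) (kb xb9 yb0 zb2) (kb xb4 yb10 zb34) (kb xb11 yb11 zb9) (kb xb4 yb19 zb16) (kb xb4 yb11 zb0) (kb xb7 yb14 zb0) (kb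 xb4 yb10 zb36) (kb xb11 yb11 zb13) (kb xb11 yb11 zb7)) (@D3.rec (fun _ => Pt) (kb xb11 yb11 zb14) (kb xb4 yb10 zb38) (kb xb4 yb10 zb39) (kb xb4 yb11 zb1) (kb xb11 yb10 zb25) (kb xb11 yb11 zb12) (kb xb7 yb6 zb15) (kb xb11 yb10 zb6) (kb xb8 yb4 zb28) (kb xb7 yb16 zb31) (kb xb4 yb15 zb1) (kb xb4 yb11 zb4) (kb xb11 yb11 zb28) (kb xb11 yb11 zb31) (kb xb4 yb11 zb18) (kb xb4 yb11 zb6) (kb xb11 yb11 zb26) (kb xb11 yb11 zb34) (kb xb4 yb17 zb26) (kb xb7 yb5 zb29) (kb xb4 yb11 zb26) (kb xb11 yb12 zb2) (kb xb11 yb12 zb4) (kb xb9 yb12 zb24) (kb xb4 yb11 zb12) (kb xb11 yb12 zb7) (kb xb7 yb9 zb22) (kb xb11 yb12 zb11) (kb xb7 yb8 zb25) (kb xb4 yb11 zb16) (kb xb7 yb12 zb17) (kb xb4 yb12 zb1) (kb xb8 yb19 zb20) (kb xb11 yb12 zb15) (kb xb4 yb11 zb17) (kb xb8 yb4 zb35)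 (kb xb11 yb12 zb21) (kb xb11 yb12 zb27) (kb xb11 yb12 zb28) (kb xb4 yb11 zb19)) (@D3.rec (fun _ => Pt) (kb xb11 yb12 zb31) (kb xb4 yb11 zb22) (kb xb7 yb12 zb1) (kb xb5 yb19 zb15) (kb xb11 yb12 zb34) (kb xb11 yb12 zb38) (kb xb6 yb4 zb34) (kb xb11 yb13 zb0) (kb xb6 yb12 zb1) (kb xb11 yb12 zb0) (kb xb11 yb13 zb2) (kb xb4 yb11 zb27) (kb xb11 yb13 zb4) (kb xb4 yb11 zb29) (kb xb11 yb13 zb6) (kb xb11 yb13 zb7) (kb xb4 yb16 zb10) (kb xb4 yb11 zb33) (kb xb11 yb13 zb10) (kb xb11 yb13 zb12) (kb xb11 yb13 zb9) (kb xb11 yb13 zb13) (kb xb4 yb11 zb34) (kb xb4 yb11 zb35) (kb xb11 yb13 zb15) (kb xb4 yb11 zb38) (kb xb11 yb13 zb18) (kb xb7 yb13 zb25) (kb xb11 yb13 zb22) (kb xb11 yb13 zb23) (kb xb4 yb12 zb3) (kb xb8 yb5 zb16) (kb xb11 yb12 zb17) (kb xb4 yb12 zb0) (kb xb9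 yb11 zb12) (kb xb9 yb23 zb29) (kb xb4 yb12 zb2) (kb xb11 yb13 zb33) (kb xb8 yb5 zb24) (kb xb8 yb2 zb21)) (@D3.rec (fun _ => Pt) (kb xb4 yb12 zb6) (kb xb7 yb11 zb2) (kb xb11 yb13 zb38) (kb xb11 yb14 zb1) (kb xb4 yb12 zb8) (kb xb4 yb12 zb9) (kb xb8 yb18 zb9) (kb xb11 yb12 zb23) (kb xb11 yb14 zb7) (kb xb8 yb20 zb34) (kb xb11 yb14 zb10) (kb xb8 yb12 zb38) (kb xb11 yb14 zb20) (kb xb11 yb14 zb21) (kb xb4 yb12 zb12) (kb xb9 yb1 zb13) (kb xb4 yb12 zb15) (kb xb7 yb10 zb30) (kb xb11 yb14 zb29) (kb xb11 yb14 zb26) (kb xb11 yb10 zb33) (kb xb5 yb22 zb9) (kb xb6 yb5 zb3) (kb xb4 yb12 zb19) (kb xb7 yb5 zb12) (kb xb11 yb14 zb32) (kb xb4 yb12 zb21) (kb xb11 yb14 zb36) (kb xb11 yb14 zb37) (kb xb4 yb12 zb26) (kb xb7 yb14 zb32) (kb xb4 yb12 zb23) (kb xb4 yb12 zb24) (kb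 xb7 yb18 zb15) (kb xb11 yb15 zb0) (kb xb11 yb15 zb11) (kb xb11 yb15 zb5) (kb xb6 yb15 zb35) (kb xb7 yb12 zb38) (kb xb11 yb15 zb16)) (@D3.rec (fun _ => Pt) (kb xb11 yb6 zb16) (kb xb4 yb12 zb30) (kb xb4 yb12 zb32) (kb xb9 yb1 zb18) (kb xb7 yb4 zb1) (kb xb11 yb7 zb16) (kb xb9 yb1 zb16) (kb xb11 yb15 zb25) (kb xb11 yb8 zb13) (kb xb4 yb12 zb34) (kb xb7 yb5 zb11) (kb xb11 yb15 zb29) (kb xb11 yb15 zb30) (kb xb11 yb13 zb16) (kb xb4 yb12 zb38) (kb xb7 yb9 zb10) (kb xb4 yb13 zb2) (kb xb11 yb15 zb36) (kb xb7 yb7 zb28) (kb xb4 yb13 zb4) (kb xb11 yb16 zb0) (kb xb7 yb5 zb35) (kb xb4 yb13 zb9) (kb xb7 yb17 zb1) (kb xb4 yb13 zb28) (kb xb7 yb11 zb27) (kb xb4 yb13 zb8) (kb xb7 yb14 zb31) (kb xb11 yb16 zb6) (kb xb11 yb16 zb2) (kb xb7 yb17 zb3) (kb xb4 yb13 zb10) (kb xb7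 yb13 zb32) (kb xb11 yb16 zb13) (kb xb4 yb13 zb12) (kb xb9 yb0 zb5) (kb xb4 yb13 zb14) (kb xb11 yb16 zb18) (kb xb4 yb19 zb17) (kb xb4 yb13 zb20)) (@D3.rec (fun _ => Pt) (kb xb7 yb9 zb36) (kb xb4 yb13 zb16) (kb xb11 yb16 zb22) (kb xb11 yb16 zb16) (kb xb11 yb16 zb23) (kb xb4 yb13 zb18) (kb xb4 yb13 zb19) (kb xb4 yb13 zb21) (kb xb11 yb15 zb38) (kb xb11 yb16 zb21) (kb xb7 yb7 zb19) (kb xb11 yb15 zb19) (kb xb8 yb5 zb17) (kb xb4 yb15 zb39) (kb xb7 yb18 zb9) (kb xb4 yb13 zb24) (kb xb11 yb16 zb34) (kb xb11 yb16 zb37) (kb xb4 yb13 zb38) (kb xb4 yb13 zb26) (kb xb11 yb16 zb33) (kb xb11 yb17 zb0) (kb xb4 yb16 zb37) (kb xb7 yb6 zb3) (kb xb4 yb14 zb6) (kb xb11 yb17 zb8) (kb xb11 yb17 zb10) (kb xb9 yb11 zb10) (kb xb4 yb13 zb32) (kb xb11 yb17 zb12) (kb xb11 yb17 zb16)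 (kb xb7 yb13 zb27) (kb xb7 yb12 zb30) (kb xb4 yb13 zb36) (kb xb4 yb14 zb20) (kb xb7 yb16 zb11) (kb xb11 yb17 zb20) (kb xb4 yb13 zb37) (kb xb11 yb17 zb25) (kb xb11 yb17 zb30)) (@D3.rec (fun _ => Pt) (kb xb11 yb17 zb31) (kb xb4 yb13 zb39) (kb xb11 yb17 zb34) (kb xb4 yb14 zb2) (kb xb7 yb15 zb38) (kb xb5 yb19 zb30) (kb xb11 yb17 zb37) (kb xb11 yb18 zb1) (kb xb6 yb5 zb25) (kb xb11 yb18 zb3) (kb xb6 yb13 zb36) (kb xb11 yb17 zb6) (kb xb11 yb18 zb5) (kb xb4 yb14 zb7) (kb xb11 yb18 zb7) (kb xb4 yb14 zb9) (kb xb11 yb18 zb9) (kb xb4 yb15 zb12) (kb xb4 yb14 zb13) (kb xb11 yb18 zb12) (kb xb11 yb18 zb13) (kb xb11 yb18 zb11) (kb xb4 yb14 zb14) (kb xb4 yb14 zb15) (kb xb11 yb9 zb16) (kb xb4 yb14 zb18) (kb xb11 yb18 zb16) (kb xb11 yb18 zb20) (kb xb7 yb9 zb20) (kb xb11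 yb14 zb6) (kb xb4 yb14 zb22) (kb xb11 yb17 zb21) (kb xb8 yb4 zb27) (kb xb9 yb24 zb26) (kb xb4 yb14 zb21) (kb xb9 yb12 zb25) (kb xb8 yb2 zb2) (kb xb4 yb14 zb25) (kb xb7 yb15 zb4) (kb xb11 yb18 zb28)) (@D3.rec (fun _ => Pt) (kb xb11 yb18 zb31) (kb xb4 yb14 zb27) (kb xb11 yb17 zb26) (kb xb8 yb16 zb24) (kb xb11 yb18 zb35) (kb xb8 yb12 zb1) (kb xb11 yb19 zb3) (kb xb11 yb19 zb4) (kb xb4 yb14 zb30) (kb xb9 yb1 zb14) (kb xb4 yb14 zb33) (kb xb7 yb14 zb35) (kb xb11 yb19 zb12) (kb xb11 yb19 zb9) (kb xb11 yb16 zb4) (kb xb4 yb14 zb35) (kb xb11 yb6 zb17) (kb xb7 yb16 zb17) (kb xb11 yb11 zb21) (kb xb11 yb10 zb4) (kb xb5 yb11 zb17) (kb xb4 yb25 zb32) (kb xb7 yb6 zb11) (kb xb8 yb4 zb39) (kb xb8 yb0 zb39) (kb xb9 yb13 zb20) (kb xb6 yb7 zb24) (kb xb11 yb19 zb18) (kb xb4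 yb15 zb8) (kb xb7 yb6 zb17) (kb xb11 yb19 zb20) (kb xb7 yb10 zb9) (kb xb4 yb15 zb11) (kb xb4 yb15 zb14) (kb xb5 yb23 zb3) (kb xb11 yb19 zb25) (kb xb7 yb7 zb31) (kb xb9 yb12 zb10) (kb xb7 yb8 zb28) (kb xb11 yb7 zb39)) (@D3.rec (fun _ => Pt) (kb xb4 yb15 zb17) (kb xb7 yb13 zb23) (kb xb5 yb21 zb21) (kb xb7 yb13 zb30) (kb xb11 yb11 zb1) (kb xb4 yb15 zb16) (kb xb11 yb19 zb32) (kb xb4 yb15 zb19) (kb xb11 yb19 zb39) (kb xb7 yb5 zb6) (kb xb11 yb20 zb2) (kb xb11 yb19 zb36) (kb xb5 yb8 zb24) (kb xb11 yb18 zb22) (kb xb4 yb15 zb20) (kb xb4 yb15 zb21) (kb xb7 yb20 zb4) (kb xb7 yb20 zb5) (kb xb11 yb20 zb13) (kb xb8 yb10 zb8) (kb xb5 yb21 zb16) (kb xb11 yb20 zb17) (kb xb11 yb20 zb18) (kb xb4 yb15 zb26) (kb xb4 yb15 zb27) (kb xb7 yb25 zb34) (kb xb8 yb0 zb20) (kb xb11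 yb8 zb29) (kb xb4 yb15 zb32) (kb xb10 yb1 zb34) (kb xb9 yb13 zb23) (kb xb4 yb23 zb26) (kb xb7 yb19 zb9) (kb xb4 yb15 zb33) (kb xb11 yb6 zb23) (kb xb7 yb17 zb35) (kb xb11 yb16 zb29) (kb xb11 yb15 zb17) (kb xb5 yb10 zb24) (kb xb4 yb25 zb21)) (@D3.rec (fun _ => Pt) (kb xb7 yb7 zb15) (kb xb8 yb5 zb28) (kb xb8 yb1 zb7) (kb xb9 yb13 zb37) (kb xb6 yb8 zb24) (kb xb11 yb20 zb37) (kb xb4 yb16 zb6) (kb xb7 yb7 zb21) (kb xb11 yb20 zb39) (kb xb7 yb14 zb14) (kb xb4 yb16 zb9) (kb xb5 yb23 zb11) (kb xb4 yb16 zb13) (kb xb11 yb21 zb4) (kb xb7 yb6 zb26) (kb xb7 yb12 zb33) (kb xb9 yb10 zb37) (kb xb11 yb9 zb2) (kb xb4 yb16 zb15) (kb xb5 yb22 zb19) (kb xb7 yb9 zb18) (kb xb11 yb16 zb10) (kb xb7 yb9 zb26) (kb xb4 yb16 zb14) (kb xb11 yb21 zb11) (kb xb4 yb16 zb17) (kb xb7 yb5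 zb15) (kb xb11 yb21 zb19) (kb xb11 yb21 zb21) (kb xb11 yb21 zb15) (kb xb11 yb13 zb25) (kb xb5 yb9 zb28) (kb xb4 yb16 zb18) (kb xb4 yb16 zb19) (kb xb7 yb21 zb5) (kb xb7 yb21 zb6) (kb xb11 yb21 zb32) (kb xb5 yb22 zb14) (kb xb8 yb11 zb13) (kb xb11 yb21 zb36)) (@D3.rec (fun _ => Pt) (kb xb11 yb21 zb37) (kb xb4 yb16 zb24) (kb xb4 yb16 zb25) (kb xb7 yb25 zb28) (kb xb11 yb7 zb26) (kb xb8 yb0 zb12) (kb xb4 yb16 zb30) (kb xb9 yb13 zb39) (kb xb10 yb3 zb4) (kb xb7 yb17 zb32) (kb xb4 yb23 zb33) (kb xb4 yb16 zb34) (kb xb4 yb16 zb35) (kb xb11 yb12 zb3) (kb xb4 yb16 zb38) (kb xb11 yb22 zb12) (kb xb5 yb23 zb27) (kb xb11 yb0 zb36) (kb xb4 yb16 zb39) (kb xb11 yb22 zb17) (kb xb9 yb25 zb1) (kb xb4 yb17 zb1) (kb xb6 yb12 zb20) (kb xb9 yb13 zb27) (kb xb11 yb22 zb23) (kb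 xb11 yb22 zb27) (kb xb4 yb17 zb2) (kb xb5 yb19 zb37) (kb xb5 yb20 zb5) (kb xb11 yb22 zb29) (kb xb4 yb17 zb7) (kb xb6 yb12 zb35) (kb xb5 yb20 zb15) (kb xb8 yb3 zb7) (kb xb7 yb20 zb37) (kb xb4 yb18 zb12) (kb xb4 yb17 zb10) (kb xb11 yb22 zb36) (kb xb11 yb22 zb37) (kb xb8 yb2 zb3)) (@D3.rec (fun _ => Pt) (kb xb8 yb4 zb36) (kb xb11 yb23 zb4) (kb xb11 yb8 zb27) (kb xb4 yb17 zb12) (kb xb7 yb17 zb16) (kb xb7 yb17 zb17) (kb xb5 yb6 zb29) (kb xb11 yb23 zb11) (kb xb4 yb17 zb20) (kb xb10 yb4 zb9) (kb xb8 yb0 zb29) (kb xb11 yb7 zb24) (kb xb10 yb4 zb12) (kb xb8 yb5 zb26) (kb xb4 yb17 zb19) (kb xb4 yb17 zb23) (kb xb4 yb17 zb24) (kb xb11 yb17 zb9) (kb xb4 yb17 zb27) (kb xb5 yb23 zb39) (kb xb11 yb23 zb19) (kb xb10 yb22 zb37) (kb xb4 yb17 zb28) (kb xb11 yb23 zb23) (kb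 xb9 yb24 zb4) (kb xb4 yb17 zb30) (kb xb9 yb14 zb4) (kb xb6 yb14 zb14) (kb xb11 yb23 zb29) (kb xb11 yb23 zb33) (kb xb4 yb17 zb31) (kb xb5 yb19 zb35) (kb xb11 yb23 zb35) (kb xb5 yb19 zb39) (kb xb4 yb17 zb36) (kb xb5 yb20 zb31) (kb xb6 yb14 zb29) (kb xb7 yb19 zb34) (kb xb8 yb3 zb10) (kb xb4 yb18 zb33)) (@D3.rec (fun _ => Pt) (kb xb11 yb24 zb1) (kb xb11 yb24 zb2) (kb xb8 yb2 zb22) (kb xb11 yb24 zb5) (kb xb4 yb17 zb39) (kb xb7 yb18 zb34) (kb xb7 yb18 zb35) (kb xb11 yb24 zb11) (kb xb5 yb7 zb29) (kb xb4 yb18 zb5) (kb xb8 yb0 zb28) (kb xb10 yb5 zb20) (kb xb10 yb5 zb23) (kb xb6 yb5 zb17) (kb xb4 yb18 zb34) (kb xb11 yb24 zb14) (kb xb10 yb4 zb16) (kb xb4 yb18 zb8) (kb xb11 yb24 zb20) (kb xb4 yb18 zb11) (kb xb11 yb22 zb16) (kb xb11 yb24 zb23) (kb xb11 yb24 zb21)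 (kb xb11 yb22 zb33) (kb xb11 yb24 zb26) (kb xb4 yb18 zb13) (kb xb11 yb24 zb28) (kb xb10 yb5 zb26) (kb xb11 yb24 zb31) (kb xb5 yb18 zb34) (kb xb4 yb18 zb29) (kb xb4 yb18 zb16) (kb xb11 yb25 zb0) (kb xb10 yb4 zb22) (kb xb6 yb4 zb26) (kb xb11 yb24 zb17) (kb xb11 yb25 zb5) (kb xb11 yb24 zb38) (kb xb4 yb18 zb20) (kb xb11 yb25 zb8)) (@D3.rec (fun _ => Pt) (kb xb10 yb0 zb12) (kb xb4 yb18 zb26) (kb xb11 yb25 zb15) (kb xb4 yb18 zb22) (kb xb8 yb22 zb16) (kb xb4 yb18 zb23) (kb xb4 yb18 zb24) (kb xb11 yb25 zb22) (kb xb10 yb4 zb27) (kb xb6 yb13 zb16) (kb xb11 yb25 zb24) (kb xb4 yb18 zb27) (kb xb6 yb13 zb8) (kb xb11 yb25 zb25) (kb xb4 yb18 zb32) (kb xb11 yb23 zb22) (kb xb11 yb25 zb28) (kb xb11 yb25 zb26) (kb xb11 yb23 zb39) (kb xb11 yb25 zb31) (kb xb11 yb25 zb32)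 (kb xb5 yb18 zb39) (kb xb4 yb18 zb36) (kb xb11 yb25 zb36) (kb xb10 yb5 zb31) (kb xb11 yb24 zb33) (kb xb12 yb0 zb1) (kb xb11 yb25 zb18) (kb xb4 yb18 zb39) (kb xb12 yb0 zb4) (kb xb9 yb25 zb18) (kb xb4 yb19 zb5) (kb xb12 yb0 zb11) (kb xb4 yb19 zb1) (kb xb8 yb23 zb11) (kb xb4 yb19 zb2) (kb xb4 yb19 zb3) (kb xb12 yb0 zb16) (kb xb6 yb15 zb10) (kb xb10 yb5 zb36)) (@D3.rec (fun _ => Pt) (kb xb12 yb0 zb18) (kb xb4 yb19 zb6) (kb xb6 yb15 zb3) (kb xb4 yb19 zb10) (kb xb4 yb19 zb11) (kb xb6 yb15 zb20) (kb xb6 yb16 zb0) (kb xb4 yb20 zb22) (kb xb6 yb5 zb9) (kb xb4 yb20 zb27) (kb xb6 yb4 zb18) (kb xb5 yb0 zb14) (kb xb10 yb3 zb28) (kb xb10 yb5 zb3) (kb xb9 yb10 zb21) (kb xb9 yb11 zb34) (kb xb12 yb0 zb27) (kb xb12 yb0 zb28) (kb xb4 yb19 zb25) (kb xb4 yb19 zb26) (kb xb12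 yb0 zb35) (kb xb7 yb24 zb1) (kb xb12 yb0 zb38) (kb xb7 yb23 zb37) (kb xb4 yb19 zb29) (kb xb4 yb19 zb30) (kb xb10 yb22 zb14) (kb xb8 yb7 zb21) (kb xb12 yb1 zb3) (kb xb4 yb19 zb32) (kb xb11 yb0 zb14) (kb xb8 yb7 zb24) (kb xb12 yb1 zb7) (kb xb4 yb19 zb34) (kb xb4 yb19 zb36) (kb xb12 yb1 zb14) (kb xb12 yb0 zb19) (kb xb7 yb23 zb23) (kb xb4 yb19 zb39) (kb xb12 yb1 zb23)) (@D3.rec (fun _ => Pt) (kb xb12 yb0 zb21) (kb xb7 yb23 zb21) (kb xb12 yb1 zb29) (kb xb12 yb1 zb30) (kb xb12 yb1 zb31) (kb xb12 yb1 zb32) (kb xb12 yb1 zb33) (kb xb12 yb1 zb34) (kb xb4 yb20 zb7) (kb xb4 yb20 zb8) (kb xb4 yb20 zb9) (kb xb4 yb20 zb10) (kb xb4 yb20 zb13) (kb xb4 yb20 zb14) (kb xb4 yb20 zb15) (kb xb8 yb17 zb7) (kb xb5 yb7 zb21) (kb xb4 yb20 zb17) (kb xb8 yb18 zb29) (kb xb5 yb6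 zb20) (kb xb8 yb14 zb22) (kb xb7 yb25 zb10) (kb xb12 yb2 zb10) (kb xb7 yb24 zb23) (kb xb7 yb25 zb7) (kb xb4 yb20 zb21) (kb xb12 yb2 zb13) (kb xb5 yb5 zb25) (kb xb11 yb25 zb17) (kb xb11 yb25 zb16) (kb xb8 yb17 zb1) (kb xb8 yb14 zb30) (kb xb7 yb25 zb19) (kb xb12 yb2 zb16) (kb xb7 yb24 zb34) (kb xb7 yb25 zb16) (kb xb4 yb20 zb26) (kb xb12 yb2 zb19) (kb xb5 yb5 zb9) (kb xb12 yb0 zb13)) (@D3.rec (fun _ => Pt) (kb xb12 yb0 zb12) (kb xb8 yb18 zb23) (kb xb12 yb2 zb21) (kb xb4 yb20 zb30) (kb xb12 yb2 zb23) (kb xb12 yb2 zb24) (kb xb7 yb25 zb6) (kb xb7 yb24 zb24) (kb xb5 yb4 zb36) (kb xb7 yb25 zb9) (kb xb7 yb24 zb21) (kb xb12 yb2 zb28) (kb xb4 yb20 zb34) (kb xb12 yb2 zb26) (kb xb12 yb2 zb30) (kb xb7 yb25 zb15) (kb xb7 yb24 zb35) (kb xb5 yb4 zb31) (kb xb7 yb25 zb18)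 (kb xb7 yb24 zb32) (kb xb5 yb20 zb12) (kb xb7 yb25 zb21) (kb xb8 yb1 zb27) (kb xb5 yb20 zb28) (kb xb7 yb25 zb24) (kb xb8 yb1 zb20) (kb xb4 yb20 zb39) (kb xb6 yb18 zb6) (kb xb7 yb19 zb3) (kb xb4 yb21 zb5) (kb xb8 yb11 zb24) (kb xb11 yb22 zb3) (kb xb4 yb21 zb2) (kb xb6 yb18 zb17) (kb xb7 yb17 zb25) (kb xb4 yb21 zb6) (kb xb8 yb12 zb20) (kb xb11 yb20 zb24) (kb xb7 yb5 zb19) (kb xb7 yb5 zb33))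
def f_b_8 : D2 → D3 → Pt := @D2.rec (fun _ => D3 → Pt) (@D3.rec (fun _ => Pt) (kb xb6 yb11 zb36) (kb xb8 yb0 zb1) (kb xb7 yb8 zb8) (kb xb6 yb13 zb32) (kb xb8 yb0 zb4) (kb xb7 yb7 zb3) (kb xb7 yb2 zb10) (kb xb8 yb0 zb7) (kb xb11 yb7 zb17) (kb xb7 yb3 zb1) (kb xb8 yb0 zb10) (kb xb11 yb8 zb20) (kb xb7 yb19 zb5) (kb xb4 yb21 zb16) (kb xb7 yb5 zb22) (kb xb12 yb3 zb8) (kb xb4 yb21 zb27) (kb xb8 yb18 zb38) (kb xb12 yb3 zb9) (kb xb4 yb21 zb20) (kb xb7 yb17 zb26) (kb xb4 yb21 zb22) (kb xb7 yb5 zb36) (kb xb12 yb3 zb14) (kb xb4 yb21 zb28) (kb xb8 yb20 zb11) (kb xb12 yb3 zb15) (kb xb4 yb21 zb26) (kb xb7 yb21 zb10) (kb xb7 yb20 zb10) (kb xb10 yb1 zb2) (kb xb10 yb11 zb13) (kb xb12 yb3 zb17) (kb xb4 yb21 zb32) (kb xb10 yb2 zb12) (kb xb10 yb11 zb15) (kb xb12 yb3 zb19)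 (kb xb4 yb21 zb34) (kb xb4 yb21 zb35) (kb xb7 yb16 zb24)) (@D3.rec (fun _ => Pt) (kb xb5 yb1 zb3) (kb xb12 yb3 zb24) (kb xb4 yb21 zb37) (kb xb11 yb20 zb30) (kb xb5 yb1 zb7) (kb xb6 yb8 zb39) (kb xb4 yb21 zb39) (kb xb7 yb18 zb2) (kb xb5 yb1 zb11) (kb xb12 yb3 zb35) (kb xb4 yb22 zb1) (kb xb11 yb22 zb10) (kb xb5 yb1 zb15) (kb xb6 yb8 zb0) (kb xb4 yb22 zb3) (kb xb12 yb4 zb4) (kb xb12 yb4 zb5) (kb xb4 yb22 zb5) (kb xb12 yb4 zb8) (kb xb12 yb4 zb9) (kb xb7 yb25 zb25) (kb xb4 yb22 zb7) (kb xb12 yb4 zb13) (kb xb12 yb4 zb14) (kb xb4 yb22 zb9) (kb xb12 yb4 zb17) (kb xb12 yb4 zb18) (kb xb7 yb25 zb22) (kb xb12 yb4 zb21) (kb xb4 yb22 zb12) (kb xb12 yb4 zb22) (kb xb12 yb4 zb26) (kb xb4 yb22 zb13) (kb xb4 yb22 zb31) (kb xb12 yb4 zb30) (kb xb4 yb22 zb15) (kb xb9 yb17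 zb39) (kb xb10 yb3 zb2) (kb xb8 yb2 zb34) (kb xb12 yb4 zb37)) (@D3.rec (fun _ => Pt) (kb xb4 yb22 zb17) (kb xb4 yb22 zb18) (kb xb7 yb15 zb36) (kb xb7 yb19 zb39) (kb xb4 yb22 zb34) (kb xb5 yb3 zb21) (kb xb12 yb5 zb9) (kb xb12 yb5 zb10) (kb xb4 yb22 zb22) (kb xb12 yb5 zb11) (kb xb12 yb5 zb15) (kb xb4 yb22 zb23) (kb xb4 yb22 zb35) (kb xb12 yb5 zb19) (kb xb4 yb22 zb25) (kb xb9 yb17 zb5) (kb xb10 yb1 zb32) (kb xb8 yb2 zb29) (kb xb12 yb5 zb26) (kb xb4 yb22 zb27) (kb xb4 yb22 zb28) (kb xb7 yb11 zb39) (kb xb7 yb21 zb2) (kb xb4 yb22 zb38) (kb xb5 yb3 zb2) (kb xb12 yb5 zb38) (kb xb12 yb5 zb39) (kb xb4 yb22 zb32) (kb xb12 yb6 zb3) (kb xb8 yb2 zb17) (kb xb12 yb5 zb6) (kb xb12 yb6 zb6) (kb xb4 yb22 zb36) (kb xb12 yb6 zb10) (kb xb8 yb1 zb38) (kb xb12 yb5 zb35) (kb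 xb8 yb2 zb36) (kb xb11 yb7 zb8) (kb xb11 yb8 zb11) (kb xb11 yb10 zb8)) (@D3.rec (fun _ => Pt) (kb xb11 yb15 zb22) (kb xb4 yb23 zb6) (kb xb4 yb23 zb7) (kb xb10 yb4 zb35) (kb xb10 yb3 zb20) (kb xb5 yb11 zb21) (kb xb4 yb23 zb16) (kb xb7 yb19 zb33) (kb xb5 yb10 zb28) (kb xb4 yb23 zb20) (kb xb7 yb20 zb38) (kb xb6 yb9 zb23) (kb xb8 yb4 zb33) (kb xb4 yb23 zb24) (kb xb10 yb1 zb37) (kb xb12 yb6 zb14) (kb xb8 yb4 zb21) (kb xb10 yb5 zb28) (kb xb11 yb8 zb39) (kb xb5 yb5 zb10) (kb xb11 yb23 zb36) (kb xb11 yb23 zb37) (kb xb6 yb10 zb31) (kb xb8 yb5 zb22) (kb xb4 yb23 zb31) (kb xb10 yb3 zb7) (kb xb12 yb6 zb23) (kb xb8 yb5 zb10) (kb xb10 yb4 zb18) (kb xb11 yb7 zb36) (kb xb5 yb5 zb26) (kb xb11 yb22 zb30) (kb xb11 yb22 zb31) (kb xb6 yb11 zb11) (kb xb4 yb23 zb38) (kb xb5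 yb19 zb33) (kb xb6 yb10 zb6) (kb xb4 yb24 zb2) (kb xb5 yb19 zb32) (kb xb4 yb24 zb5)) (@D3.rec (fun _ => Pt) (kb xb6 yb10 zb23) (kb xb8 yb22 zb5) (kb xb4 yb24 zb7) (kb xb4 yb24 zb8) (kb xb5 yb20 zb39) (kb xb6 yb13 zb15) (kb xb11 yb22 zb28) (kb xb4 yb24 zb12) (kb xb6 yb9 zb15) (kb xb8 yb23 zb1) (kb xb4 yb24 zb14) (kb xb4 yb24 zb15) (kb xb5 yb20 zb23) (kb xb6 yb15 zb9) (kb xb11 yb23 zb34) (kb xb4 yb24 zb18) (kb xb8 yb16 zb14) (kb xb9 yb16 zb15) (kb xb12 yb7 zb1) (kb xb4 yb24 zb21) (kb xb8 yb15 zb39) (kb xb8 yb3 zb16) (kb xb12 yb7 zb3) (kb xb4 yb24 zb24) (kb xb12 yb7 zb5) (kb xb12 yb7 zb6) (kb xb4 yb24 zb26) (kb xb7 yb15 zb32) (kb xb7 yb10 zb8) (kb xb12 yb7 zb8) (kb xb4 yb24 zb29) (kb xb10 yb8 zb12) (kb xb9 yb18 zb0) (kb xb8 yb3 zb12) (kb xb8 yb5 zb23)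 (kb xb7 yb10 zb35) (kb xb7 yb20 zb0) (kb xb10 yb3 zb6) (kb xb11 yb17 zb33) (kb xb7 yb16 zb23)) (@D3.rec (fun _ => Pt) (kb xb4 yb25 zb26) (kb xb5 yb9 zb6) (kb xb12 yb7 zb21) (kb xb4 yb24 zb36) (kb xb4 yb24 zb37) (kb xb8 yb18 zb0) (kb xb9 yb17 zb9) (kb xb12 yb7 zb26) (kb xb4 yb25 zb0) (kb xb8 yb17 zb25) (kb xb8 yb3 zb27) (kb xb12 yb7 zb28) (kb xb4 yb25 zb3) (kb xb12 yb7 zb30) (kb xb12 yb7 zb31) (kb xb4 yb25 zb5) (kb xb7 yb11 zb31) (kb xb7 yb14 zb12) (kb xb12 yb7 zb33) (kb xb4 yb25 zb8) (kb xb10 yb6 zb7) (kb xb9 yb17 zb6) (kb xb8 yb3 zb23) (kb xb8 yb4 zb34) (kb xb7 yb11 zb38) (kb xb10 yb1 zb36) (kb xb7 yb20 zb13) (kb xb11 yb12 zb30) (kb xb7 yb18 zb1) (kb xb4 yb25 zb37) (kb xb5 yb8 zb2) (kb xb12 yb8 zb6) (kb xb4 yb25 zb15) (kb xb4 yb25 zb16) (kb xb4 yb25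 zb20) (kb xb9 yb3 zb5) (kb xb11 yb4 zb19) (kb xb4 yb25 zb22) (kb xb6 yb7 zb36) (kb xb4 yb25 zb24)) (@D3.rec (fun _ => Pt) (kb xb12 yb8 zb12) (kb xb9 yb23 zb36) (kb xb4 yb25 zb27) (kb xb4 yb25 zb31) (kb xb9 yb2 zb35) (kb xb11 yb3 zb7) (kb xb4 yb25 zb33) (kb xb6 yb8 zb35) (kb xb4 yb25 zb35) (kb xb12 yb8 zb16) (kb xb9 yb24 zb33) (kb xb5 yb0 zb0) (kb xb12 yb8 zb17) (kb xb5 yb0 zb2) (kb xb12 yb8 zb18) (kb xb8 yb6 zb24) (kb xb9 yb8 zb37) (kb xb5 yb0 zb5) (kb xb5 yb11 zb0) (kb xb9 yb10 zb39) (kb xb5 yb0 zb8) (kb xb12 yb8 zb19) (kb xb5 yb0 zb10) (kb xb12 yb8 zb20) (kb xb8 yb6 zb15) (kb xb9 yb9 zb5) (kb xb5 yb0 zb13) (kb xb5 yb10 zb3) (kb xb9 yb12 zb12) (kb xb10 yb17 zb39) (kb xb10 yb19 zb28) (kb xb5 yb0 zb15) (kb xb5 yb0 zb16) (kb xb5 yb0 zb17) (kb xb12 yb8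 zb26) (kb xb5 yb0 zb18) (kb xb12 yb8 zb30) (kb xb6 yb24 zb3) (kb xb10 yb3 zb29) (kb xb12 yb8 zb32)) (@D3.rec (fun _ => Pt) (kb xb5 yb0 zb20) (kb xb7 yb0 zb23) (kb xb10 yb5 zb5) (kb xb12 yb8 zb37) (kb xb5 yb0 zb22) (kb xb12 yb9 zb1) (kb xb6 yb16 zb30) (kb xb8 yb7 zb36) (kb xb12 yb9 zb7) (kb xb6 yb16 zb34) (kb xb8 yb7 zb31) (kb xb5 yb0 zb25) (kb xb9 yb13 zb17) (kb xb12 yb9 zb18) (kb xb11 yb20 zb29) (kb xb12 yb2 zb4) (kb xb5 yb0 zb28) (kb xb9 yb13 zb34) (kb xb12 yb9 zb24) (kb xb11 yb22 zb7) (kb xb12 yb1 zb38) (kb xb7 yb23 zb27) (kb xb5 yb0 zb34) (kb xb10 yb12 zb2) (kb xb7 yb23 zb31) (kb xb5 yb0 zb38) (kb xb10 yb11 zb34) (kb xb5 yb0 zb33) (kb xb5 yb0 zb35) (kb xb12 yb9 zb33) (kb xb10 yb12 zb1) (kb xb8 yb7 zb10) (kb xb5 yb0 zb37) (kb xb5 yb0 zb39) (kb xb12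 yb10 zb5) (kb xb10 yb11 zb33) (kb xb8 yb7 zb7) (kb xb12 yb9 zb13) (kb xb9 yb10 zb13) (kb xb5 yb1 zb35)) (@D3.rec (fun _ => Pt) (kb xb8 yb10 zb6) (kb xb9 yb5 zb0) (kb xb8 yb11 zb28) (kb xb12 yb10 zb14) (kb xb5 yb1 zb4) (kb xb12 yb10 zb18) (kb xb12 yb10 zb16) (kb xb8 yb9 zb31) (kb xb5 yb1 zb6) (kb xb12 yb10 zb22) (kb xb12 yb1 zb25) (kb xb12 yb10 zb24) (kb xb12 yb10 zb25) (kb xb12 yb9 zb19) (kb xb9 yb11 zb27) (kb xb8 yb11 zb11) (kb xb5 yb2 zb18) (kb xb9 yb5 zb38) (kb xb8 yb12 zb25) (kb xb12 yb10 zb29) (kb xb5 yb1 zb12) (kb xb12 yb10 zb33) (kb xb12 yb10 zb31) (kb xb8 yb10 zb36) (kb xb5 yb1 zb14) (kb xb12 yb10 zb37) (kb xb12 yb1 zb16) (kb xb12 yb10 zb39) (kb xb12 yb11 zb0) (kb xb6 yb19 zb2) (kb xb12 yb11 zb2) (kb xb5 yb1 zb18) (kb xb5 yb1 zb19) (kb xb12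 yb11 zb7) (kb xb12 yb11 zb6) (kb xb12 yb11 zb8) (kb xb5 yb1 zb21) (kb xb5 yb1 zb22) (kb xb12 yb11 zb15) (kb xb10 yb13 zb3)) (@D3.rec (fun _ => Pt) (kb xb12 yb11 zb16) (kb xb6 yb19 zb18) (kb xb12 yb11 zb18) (kb xb5 yb1 zb26) (kb xb5 yb1 zb27) (kb xb12 yb11 zb23) (kb xb12 yb11 zb22) (kb xb12 yb11 zb24) (kb xb5 yb1 zb29) (kb xb5 yb1 zb30) (kb xb12 yb11 zb31) (kb xb10 yb13 zb12) (kb xb12 yb11 zb32) (kb xb5 yb2 zb39) (kb xb10 yb21 zb28) (kb xb12 yb11 zb36) (kb xb5 yb1 zb34) (kb xb12 yb11 zb37) (kb xb11 yb6 zb2) (kb xb12 yb12 zb5) (kb xb11 yb0 zb17) (kb xb5 yb1 zb36) (kb xb12 yb12 zb10) (kb xb5 yb1 zb38) (kb xb9 yb7 zb31) (kb xb12 yb12 zb15) (kb xb12 yb12 zb11) (kb xb12 yb12 zb18) (kb xb5 yb1 zb39) (kb xb12 yb12 zb22) (kb xb12 yb12 zb20) (kb xb8 yb8 zb7)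 (kb xb12 yb12 zb27) (kb xb5 yb2 zb2) (kb xb12 yb12 zb32) (kb xb12 yb12 zb33) (kb xb5 yb2 zb6) (kb xb12 yb12 zb37) (kb xb5 yb2 zb4) (kb xb5 yb2 zb5)) (@D3.rec (fun _ => Pt) (kb xb12 yb13 zb5) (kb xb12 yb12 zb35) (kb xb12 yb13 zb9) (kb xb5 yb2 zb7) (kb xb12 yb1 zb0) (kb xb12 yb12 zb39) (kb xb8 yb8 zb0) (kb xb8 yb11 zb12) (kb xb7 yb17 zb19) (kb xb10 yb4 zb8) (kb xb12 yb13 zb4) (kb xb5 yb2 zb10) (kb xb12 yb13 zb23) (kb xb11 yb23 zb9) (kb xb5 yb2 zb11) (kb xb5 yb3 zb16) (kb xb8 yb10 zb16) (kb xb5 yb2 zb14) (kb xb5 yb3 zb19) (kb xb12 yb13 zb32) (kb xb10 yb25 zb29) (kb xb5 yb2 zb16) (kb xb12 yb13 zb33) (kb xb12 yb14 zb0) (kb xb11 yb6 zb5) (kb xb5 yb2 zb17) (kb xb12 yb12 zb24) (kb xb10 yb22 zb19) (kb xb5 yb2 zb20) (kb xb12 yb14 zb9) (kb xb9 yb8 zb13) (kb xb12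 yb14 zb6) (kb xb12 yb14 zb13) (kb xb5 yb2 zb21) (kb xb12 yb14 zb17) (kb xb12 yb14 zb15) (kb xb8 yb8 zb23) (kb xb12 yb14 zb21) (kb xb5 yb2 zb24) (kb xb12 yb14 zb26)) (@D3.rec (fun _ => Pt) (kb xb12 yb14 zb27) (kb xb5 yb2 zb28) (kb xb12 yb14 zb31) (kb xb5 yb2 zb26) (kb xb5 yb2 zb27) (kb xb12 yb14 zb39) (kb xb12 yb14 zb29) (kb xb12 yb15 zb0) (kb xb5 yb2 zb29) (kb xb12 yb0 zb37) (kb xb12 yb14 zb33) (kb xb8 yb8 zb15) (kb xb8 yb10 zb7) (kb xb7 yb18 zb38) (kb xb12 yb14 zb37) (kb xb10 yb5 zb19) (kb xb5 yb2 zb32) (kb xb12 yb15 zb14) (kb xb11 yb24 zb10) (kb xb5 yb2 zb33) (kb xb5 yb3 zb36) (kb xb8 yb11 zb21) (kb xb5 yb2 zb36) (kb xb8 yb11 zb23) (kb xb7 yb25 zb30) (kb xb12 yb11 zb33) (kb xb6 yb7 zb17) (kb xb12 yb15 zb24) (kb xb8 yb8 zb2) (kb xb5 yb3 zb3) (kb xb6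 yb23 zb11) (kb xb12 yb5 zb36) (kb xb12 yb15 zb29) (kb xb12 yb15 zb30) (kb xb5 yb3 zb4) (kb xb12 yb15 zb34) (kb xb12 yb15 zb35) (kb xb12 yb6 zb1) (kb xb12 yb16 zb0) (kb xb5 yb3 zb6)) (@D3.rec (fun _ => Pt) (kb xb5 yb3 zb7) (kb xb7 yb16 zb5) (kb xb12 yb16 zb7) (kb xb5 yb3 zb12) (kb xb12 yb16 zb11) (kb xb5 yb3 zb9) (kb xb12 yb16 zb15) (kb xb11 yb20 zb6) (kb xb5 yb3 zb39) (kb xb5 yb3 zb11) (kb xb12 yb16 zb19) (kb xb12 yb16 zb22) (kb xb12 yb16 zb9) (kb xb12 yb16 zb24) (kb xb5 yb3 zb14) (kb xb8 yb12 zb15) (kb xb12 yb16 zb20) (kb xb12 yb16 zb29) (kb xb5 yb3 zb15) (kb xb12 yb16 zb35) (kb xb7 yb25 zb36) (kb xb8 yb12 zb21) (kb xb12 yb13 zb29) (kb xb12 yb17 zb3) (kb xb6 yb8 zb16) (kb xb8 yb8 zb18) (kb xb5 yb3 zb23) (kb xb12 yb5 zb7) (kb xb6 yb25 zb33) (kb xb12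 yb17 zb8) (kb xb12 yb17 zb9) (kb xb5 yb3 zb24) (kb xb12 yb17 zb13) (kb xb12 yb17 zb14) (kb xb12 yb6 zb8) (kb xb12 yb17 zb19) (kb xb5 yb3 zb26) (kb xb5 yb3 zb27) (kb xb7 yb12 zb11) (kb xb12 yb17 zb26)) (@D3.rec (fun _ => Pt) (kb xb5 yb3 zb32) (kb xb12 yb17 zb30) (kb xb5 yb3 zb29) (kb xb12 yb17 zb34) (kb xb11 yb21 zb26) (kb xb5 yb4 zb9) (kb xb5 yb3 zb31) (kb xb12 yb17 zb38) (kb xb12 yb18 zb1) (kb xb12 yb17 zb28) (kb xb12 yb18 zb3) (kb xb5 yb3 zb34) (kb xb12 yb17 zb39) (kb xb8 yb13 zb13) (kb xb12 yb18 zb8) (kb xb5 yb3 zb35) (kb xb12 yb18 zb14) (kb xb10 yb13 zb27) (kb xb12 yb18 zb18) (kb xb12 yb16 zb4) (kb xb12 yb18 zb20) (kb xb5 yb4 zb2) (kb xb12 yb18 zb22) (kb xb5 yb4 zb3) (kb xb12 yb18 zb24) (kb xb5 yb4 zb4) (kb xb6 yb20 zb13) (kb xb5 yb4 zb6) (kb xb8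 yb13 zb28) (kb xb12 yb18 zb26) (kb xb12 yb18 zb34) (kb xb10 yb13 zb39) (kb xb12 yb18 zb38) (kb xb12 yb17 zb23) (kb xb12 yb19 zb0) (kb xb5 yb4 zb12) (kb xb12 yb19 zb2) (kb xb5 yb4 zb13) (kb xb12 yb19 zb4) (kb xb5 yb4 zb14)) (@D3.rec (fun _ => Pt) (kb xb6 yb21 zb1) (kb xb5 yb4 zb16) (kb xb12 yb19 zb5) (kb xb12 yb19 zb13) (kb xb6 yb23 zb31) (kb xb8 yb14 zb19) (kb xb7 yb0 zb12) (kb xb8 yb14 zb13) (kb xb5 yb4 zb19) (kb xb6 yb10 zb30) (kb xb5 yb4 zb21) (kb xb8 yb18 zb21) (kb xb8 yb14 zb18) (kb xb8 yb14 zb7) (kb xb5 yb4 zb23) (kb xb6 yb9 zb22) (kb xb5 yb4 zb25) (kb xb8 yb16 zb39) (kb xb8 yb14 zb12) (kb xb8 yb14 zb5) (kb xb5 yb4 zb37) (kb xb9 yb13 zb16) (kb xb7 yb24 zb20) (kb xb8 yb18 zb26) (kb xb6 yb8 zb22) (kb xb5 yb4 zb29) (kb xb5 yb4 zb30) (kb xb5 yb5 zb13)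 (kb xb9 yb13 zb33) (kb xb8 yb17 zb5) (kb xb7 yb24 zb31) (kb xb6 yb7 zb23) (kb xb5 yb4 zb34) (kb xb5 yb4 zb35) (kb xb7 yb0 zb30) (kb xb8 yb18 zb19) (kb xb11 yb0 zb15) (kb xb12 yb19 zb17) (kb xb5 yb5 zb2) (kb xb11 yb13 zb21)) (@D3.rec (fun _ => Pt) (kb xb5 yb5 zb5) (kb xb8 yb16 zb12) (kb xb5 yb5 zb4) (kb xb8 yb15 zb19) (kb xb12 yb19 zb25) (kb xb12 yb7 zb27) (kb xb5 yb5 zb8) (kb xb12 yb19 zb29) (kb xb5 yb5 zb11) (kb xb5 yb5 zb12) (kb xb6 yb24 zb10) (kb xb8 yb16 zb37) (kb xb10 yb22 zb16) (kb xb12 yb19 zb30) (kb xb5 yb5 zb18) (kb xb11 yb18 zb19) (kb xb5 yb5 zb21) (kb xb8 yb17 zb38) (kb xb5 yb5 zb20) (kb xb8 yb15 zb3) (kb xb12 yb19 zb38) (kb xb12 yb7 zb2) (kb xb5 yb5 zb24) (kb xb12 yb20 zb2) (kb xb5 yb5 zb27) (kb xb5 yb5 zb28) (kb xb5 yb7 zb38) (kb xb6 yb7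 zb18) (kb xb7 yb5 zb5) (kb xb5 yb5 zb30) (kb xb5 yb5 zb31) (kb xb9 yb23 zb13) (kb xb11 yb14 zb22) (kb xb9 yb0 zb10) (kb xb10 yb2 zb8) (kb xb12 yb20 zb5) (kb xb5 yb5 zb35) (kb xb12 yb20 zb8) (kb xb5 yb5 zb36) (kb xb8 yb4 zb20)) (@D3.rec (fun _ => Pt) (kb xb12 yb20 zb6) (kb xb8 yb17 zb27) (kb xb5 yb5 zb38) (kb xb5 yb6 zb2) (kb xb12 yb20 zb11) (kb xb12 yb20 zb13) (kb xb5 yb6 zb1) (kb xb12 yb20 zb17) (kb xb12 yb20 zb18) (kb xb5 yb6 zb3) (kb xb12 yb20 zb22) (kb xb5 yb6 zb6) (kb xb8 yb15 zb1) (kb xb5 yb6 zb5) (kb xb8 yb4 zb16) (kb xb5 yb7 zb1) (kb xb11 yb20 zb21) (kb xb12 yb20 zb28) (kb xb5 yb6 zb8) (kb xb12 yb20 zb31) (kb xb9 yb25 zb37) (kb xb12 yb20 zb20) (kb xb5 yb6 zb10) (kb xb5 yb6 zb11) (kb xb7 yb16 zb3) (kb xb5 yb6 zb17) (kb xb12 yb20 zb38) (kb xb5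 yb6 zb13) (kb xb12 yb21 zb2) (kb xb5 yb6 zb21) (kb xb5 yb21 zb9) (kb xb10 yb5 zb8) (kb xb12 yb21 zb8) (kb xb8 yb17 zb12) (kb xb5 yb6 zb26) (kb xb5 yb6 zb16) (kb xb5 yb6 zb18) (kb xb8 yb15 zb11) (kb xb12 yb21 zb15) (kb xb8 yb14 zb17)) (@D3.rec (fun _ => Pt) (kb xb12 yb21 zb17) (kb xb7 yb24 zb30) (kb xb12 yb21 zb18) (kb xb8 yb18 zb25) (kb xb12 yb2 zb7) (kb xb8 yb14 zb29) (kb xb12 yb21 zb19) (kb xb7 yb24 zb15) (kb xb12 yb21 zb20) (kb xb5 yb6 zb28) (kb xb12 yb21 zb13) (kb xb12 yb2 zb9) (kb xb8 yb16 zb33) (kb xb5 yb9 zb2) (kb xb7 yb5 zb14) (kb xb6 yb8 zb18) (kb xb5 yb6 zb34) (kb xb5 yb6 zb35) (kb xb11 yb19 zb5) (kb xb9 yb23 zb15) (kb xb9 yb0 zb12) (kb xb10 yb3 zb14) (kb xb5 yb6 zb38) (kb xb12 yb21 zb28) (kb xb12 yb21 zb29) (kb xb8 yb5 zb9) (kb xb12 yb21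 zb26) (kb xb8 yb16 zb1) (kb xb5 yb7 zb2) (kb xb5 yb7 zb6) (kb xb12 yb21 zb31) (kb xb5 yb7 zb4) (kb xb12 yb21 zb36) (kb xb12 yb21 zb37) (kb xb12 yb21 zb38) (kb xb5 yb7 zb7) (kb xb12 yb22 zb2) (kb xb5 yb7 zb10) (kb xb8 yb15 zb17) (kb xb5 yb7 zb9)) (@D3.rec (fun _ => Pt) (kb xb8 yb5 zb5) (kb xb11 yb21 zb38) (kb xb12 yb22 zb7) (kb xb5 yb7 zb12) (kb xb12 yb22 zb10) (kb xb10 yb0 zb31) (kb xb12 yb22 zb0) (kb xb5 yb7 zb14) (kb xb5 yb7 zb15) (kb xb7 yb12 zb6) (kb xb12 yb21 zb23) (kb xb5 yb7 zb17) (kb xb12 yb22 zb17) (kb xb5 yb7 zb22) (kb xb5 yb22 zb7) (kb xb10 yb3 zb34) (kb xb12 yb20 zb36) (kb xb5 yb7 zb26) (kb xb8 yb18 zb33) (kb xb8 yb14 zb35) (kb xb12 yb21 zb22) (kb xb8 yb14 zb11) (kb xb12 yb21 zb5) (kb xb7 yb25 zb1) (kb xb12 yb21 zb16) (kb xb8 yb17 zb3) (kb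 xb8 yb14 zb23) (kb xb12 yb2 zb8) (kb xb12 yb22 zb25) (kb xb7 yb24 zb18) (kb xb12 yb22 zb26) (kb xb12 yb20 zb37) (kb xb12 yb2 zb15) (kb xb8 yb18 zb18) (kb xb10 yb6 zb6) (kb xb12 yb22 zb27) (kb xb8 yb18 zb36) (kb xb8 yb18 zb37) (kb xb8 yb0 zb17) (kb xb12 yb22 zb31)) (@D3.rec (fun _ => Pt) (kb xb12 yb22 zb32) (kb xb12 yb20 zb3) (kb xb5 yb8 zb0) (kb xb12 yb8 zb5) (kb xb5 yb8 zb3) (kb xb5 yb8 zb4) (kb xb5 yb8 zb8) (kb xb12 yb22 zb38) (kb xb5 yb22 zb22) (kb xb5 yb8 zb7) (kb xb9 yb23 zb20) (kb xb12 yb23 zb0) (kb xb5 yb8 zb9) (kb xb6 yb2 zb27) (kb xb9 yb21 zb19) (kb xb12 yb23 zb2) (kb xb5 yb8 zb12) (kb xb5 yb8 zb15) (kb xb10 yb1 zb19) (kb xb6 yb9 zb8) (kb xb7 yb10 zb32) (kb xb12 yb23 zb8) (kb xb5 yb8 zb19) (kb xb12 yb23 zb12) (kb xb5 yb8 zb29) (kb xb5 yb8 zb21)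 (kb xb12 yb22 zb22) (kb xb11 yb19 zb37) (kb xb12 yb23 zb16) (kb xb5 yb8 zb23) (kb xb12 yb23 zb18) (kb xb12 yb23 zb19) (kb xb12 yb7 zb14) (kb xb5 yb8 zb27) (kb xb5 yb8 zb33) (kb xb12 yb23 zb22) (kb xb5 yb8 zb28) (kb xb12 yb23 zb25) (kb xb5 yb8 zb30) (kb xb12 yb23 zb27)) (@D3.rec (fun _ => Pt) (kb xb12 yb23 zb31) (kb xb12 yb23 zb32) (kb xb5 yb8 zb34) (kb xb12 yb23 zb33) (kb xb12 yb23 zb34) (kb xb12 yb23 zb35) (kb xb5 yb8 zb36) (kb xb12 yb23 zb26) (kb xb12 yb23 zb39) (kb xb10 yb8 zb11) (kb xb8 yb20 zb10) (kb xb8 yb0 zb25) (kb xb8 yb20 zb12) (kb xb12 yb24 zb3) (kb xb12 yb24 zb4) (kb xb12 yb21 zb24) (kb xb5 yb9 zb3) (kb xb12 yb7 zb20) (kb xb5 yb9 zb7) (kb xb5 yb9 zb8) (kb xb5 yb9 zb12) (kb xb12 yb24 zb10) (kb xb5 yb9 zb10) (kb xb9 yb23 zb18) (kb xb5 yb21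 zb24) (kb xb12 yb24 zb12) (kb xb5 yb9 zb13) (kb xb6 yb3 zb7) (kb xb9 yb22 zb15) (kb xb12 yb24 zb14) (kb xb5 yb9 zb16) (kb xb5 yb9 zb19) (kb xb10 yb2 zb32) (kb xb6 yb8 zb12) (kb xb7 yb12 zb9) (kb xb12 yb24 zb20) (kb xb5 yb9 zb23) (kb xb12 yb24 zb24) (kb xb5 yb9 zb33) (kb xb5 yb9 zb25)) (@D3.rec (fun _ => Pt) (kb xb12 yb21 zb9) (kb xb11 yb21 zb17) (kb xb12 yb24 zb28) (kb xb5 yb9 zb27) (kb xb12 yb24 zb30) (kb xb12 yb24 zb31) (kb xb12 yb7 zb39) (kb xb5 yb9 zb31) (kb xb5 yb9 zb36) (kb xb12 yb24 zb34) (kb xb5 yb9 zb32) (kb xb12 yb24 zb37) (kb xb5 yb9 zb34) (kb xb12 yb24 zb39) (kb xb12 yb25 zb3) (kb xb12 yb25 zb4) (kb xb5 yb9 zb38) (kb xb12 yb25 zb5) (kb xb12 yb25 zb6) (kb xb12 yb25 zb7) (kb xb5 yb10 zb0) (kb xb12 yb24 zb38) (kb xb5 yb14 zb26) (kb xb9 yb1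 zb36) (kb xb9 yb10 zb1) (kb xb12 yb25 zb11) (kb xb5 yb10 zb7) (kb xb5 yb14 zb6) (kb xb9 yb3 zb2) (kb xb12 yb25 zb13) (kb xb5 yb10 zb8) (kb xb5 yb10 zb9) (kb xb9 yb5 zb35) (kb xb5 yb11 zb13) (kb xb5 yb10 zb13) (kb xb12 yb25 zb18) (kb xb12 yb25 zb19) (kb xb5 yb10 zb17) (kb xb5 yb10 zb19) (kb xb5 yb10 zb21)) (@D3.rec (fun _ => Pt) (kb xb5 yb10 zb22) (kb xb11 yb25 zb4) (kb xb5 yb10 zb27) (kb xb10 yb8 zb32) (kb xb6 yb13 zb22) (kb xb8 yb4 zb1) (kb xb5 yb10 zb30) (kb xb11 yb22 zb15) (kb xb5 yb10 zb36) (kb xb12 yb25 zb26) (kb xb12 yb25 zb28) (kb xb8 yb22 zb11) (kb xb5 yb10 zb32) (kb xb12 yb25 zb31) (kb xb12 yb25 zb32) (kb xb12 yb25 zb37) (kb xb7 yb22 zb4) (kb xb5 yb10 zb37) (kb xb12 yb25 zb27) (kb xb8 yb22 zb19) (kb xb11 yb22 zb13) (kb xb13 yb0 zb0) (kb xb5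 yb14 zb27) (kb xb9 yb1 zb32) (kb xb9 yb9 zb21) (kb xb13 yb0 zb1) (kb xb5 yb11 zb4) (kb xb5 yb14 zb9) (kb xb9 yb3 zb10) (kb xb5 yb11 zb5) (kb xb5 yb11 zb6) (kb xb9 yb4 zb35) (kb xb5 yb11 zb9) (kb xb12 yb25 zb16) (kb xb5 yb11 zb11) (kb xb5 yb11 zb14) (kb xb5 yb11 zb15) (kb xb12 yb0 zb0) (kb xb5 yb11 zb20) (kb xb10 yb6 zb18)) (@D3.rec (fun _ => Pt) (kb xb6 yb11 zb26) (kb xb8 yb4 zb9) (kb xb5 yb11 zb23) (kb xb5 yb11 zb28) (kb xb11 yb23 zb21) (kb xb13 yb0 zb10) (kb xb13 yb0 zb12) (kb xb8 yb23 zb7) (kb xb5 yb11 zb25) (kb xb13 yb0 zb15) (kb xb13 yb0 zb16) (kb xb7 yb22 zb34) (kb xb13 yb0 zb21) (kb xb5 yb11 zb30) (kb xb13 yb0 zb11) (kb xb11 yb23 zb18) (kb xb8 yb23 zb16) (kb xb13 yb0 zb24) (kb xb10 yb10 zb15) (kb xb13 yb0 zb25) (kb xb13 yb0 zb26) (kb xb5 yb11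 zb33) (kb xb13 yb0 zb29) (kb xb5 yb11 zb35) (kb xb8 yb25 zb17) (kb xb10 yb7 zb5) (kb xb8 yb23 zb32) (kb xb5 yb11 zb37) (kb xb5 yb11 zb38) (kb xb6 yb12 zb36) (kb xb12 yb25 zb30) (kb xb6 yb14 zb18) (kb xb8 yb23 zb26) (kb xb5 yb12 zb1) (kb xb6 yb14 zb30) (kb xb5 yb12 zb36) (kb xb5 yb13 zb21) (kb xb8 yb25 zb28) (kb xb8 yb25 zb29) (kb xb5 yb12 zb9)) (@D3.rec (fun _ => Pt) (kb xb10 yb9 zb4) (kb xb5 yb12 zb10) (kb xb12 yb25 zb33) (kb xb5 yb12 zb18) (kb xb13 yb1 zb0) (kb xb5 yb12 zb12) (kb xb5 yb12 zb13) (kb xb10 yb9 zb5) (kb xb6 yb13 zb27) (kb xb5 yb12 zb16) (kb xb5 yb13 zb5) (kb xb10 yb11 zb4) (kb xb10 yb11 zb1) (kb xb5 yb12 zb17) (kb xb10 yb10 zb20) (kb xb8 yb24 zb37) (kb xb5 yb12 zb19) (kb xb10 yb7 zb24) (kb xb5 yb12 zb22) (kb xb13 yb1 zb4) (kb xb13 yb1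 zb7) (kb xb13 yb1 zb6) (kb xb13 yb1 zb10) (kb xb13 yb1 zb11) (kb xb5 yb12 zb23) (kb xb5 yb12 zb24) (kb xb8 yb25 zb5) (kb xb8 yb25 zb6) (kb xb5 yb12 zb28) (kb xb10 yb8 zb33) (kb xb5 yb12 zb29) (kb xb10 yb10 zb36) (kb xb13 yb1 zb16) (kb xb13 yb1 zb17) (kb xb5 yb12 zb32) (kb xb13 yb1 zb20) (kb xb5 yb12 zb33) (kb xb8 yb24 zb15) (kb xb10 yb9 zb9) (kb xb8 yb25 zb4)) (@D3.rec (fun _ => Pt) (kb xb5 yb12 zb37) (kb xb5 yb12 zb38) (kb xb13 yb0 zb14) (kb xb6 yb12 zb24) (kb xb8 yb24 zb39) (kb xb8 yb24 zb26) (kb xb8 yb24 zb27) (kb xb5 yb13 zb4) (kb xb10 yb7 zb0) (kb xb13 yb0 zb17) (kb xb5 yb13 zb11) (kb xb13 yb1 zb26) (kb xb5 yb13 zb7) (kb xb5 yb13 zb8) (kb xb10 yb7 zb1) (kb xb6 yb11 zb32) (kb xb10 yb10 zb23) (kb xb8 yb23 zb24) (kb xb5 yb13 zb12) (kb xb10 yb9 zb26)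 (kb xb5 yb13 zb15) (kb xb13 yb1 zb30) (kb xb13 yb0 zb31) (kb xb13 yb1 zb29) (kb xb13 yb1 zb32) (kb xb13 yb0 zb33) (kb xb5 yb13 zb16) (kb xb5 yb13 zb17) (kb xb8 yb23 zb37) (kb xb8 yb23 zb38) (kb xb10 yb6 zb29) (kb xb5 yb13 zb22) (kb xb5 yb13 zb23) (kb xb5 yb13 zb24) (kb xb5 yb13 zb25) (kb xb5 yb13 zb26) (kb xb6 yb9 zb13) (kb xb6 yb10 zb21) (kb xb10 yb10 zb11) (kb xb10 yb10 zb32))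
def f_b_9 : D2 → D3 → Pt := @D2.rec (fun _ => D3 → Pt) (@D3.rec (fun _ => Pt) (kb xb5 yb13 zb34) (kb xb5 yb13 zb35) (kb xb7 yb9 zb31) (kb xb5 yb15 zb16) (kb xb7 yb4 zb37) (kb xb7 yb13 zb35) (kb xb5 yb15 zb20) (kb xb7 yb4 zb32) (kb xb5 yb13 zb38) (kb xb5 yb13 zb39) (kb xb8 yb15 zb33) (kb xb9 yb0 zb27) (kb xb8 yb17 zb20) (kb xb9 yb0 zb23) (kb xb9 yb4 zb33) (kb xb13 yb2 zb21) (kb xb5 yb14 zb3) (kb xb9 yb5 zb31) (kb xb13 yb2 zb25) (kb xb5 yb14 zb5) (kb xb5 yb14 zb7) (kb xb13 yb2 zb32) (kb xb13 yb1 zb38) (kb xb9 yb0 zb13) (kb xb5 yb14 zb10) (kb xb13 yb3 zb1) (kb xb13 yb2 zb1) (kb xb9 yb0 zb11) (kb xb6 yb6 zb23) (kb xb6 yb5 zb28) (kb xb5 yb14 zb14) (kb xb13 yb3 zb8) (kb xb5 yb16 zb34) (kb xb6 yb1 zb22) (kb xb9 yb6 zb1) (kb xb5 yb14 zb17) (kb xb13 yb3 zb10)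 (kb xb5 yb17 zb3) (kb xb6 yb0 zb36) (kb xb9 yb5 zb3)) (@D3.rec (fun _ => Pt) (kb xb9 yb4 zb7) (kb xb13 yb3 zb12) (kb xb5 yb14 zb21) (kb xb5 yb14 zb22) (kb xb13 yb3 zb17) (kb xb9 yb4 zb20) (kb xb5 yb14 zb24) (kb xb5 yb14 zb25) (kb xb6 yb3 zb29) (kb xb6 yb3 zb31) (kb xb5 yb14 zb31) (kb xb9 yb1 zb11) (kb xb9 yb1 zb12) (kb xb7 yb12 zb15) (kb xb7 yb16 zb9) (kb xb7 yb9 zb0) (kb xb7 yb13 zb6) (kb xb7 yb8 zb38) (kb xb7 yb13 zb3) (kb xb13 yb3 zb25) (kb xb13 yb3 zb26) (kb xb13 yb3 zb27) (kb xb13 yb3 zb28) (kb xb5 yb15 zb4) (kb xb5 yb15 zb5) (kb xb13 yb3 zb31) (kb xb5 yb15 zb7) (kb xb13 yb3 zb34) (kb xb5 yb15 zb9) (kb xb5 yb15 zb10) (kb xb13 yb4 zb0) (kb xb13 yb3 zb29) (kb xb8 yb22 zb23) (kb xb5 yb15 zb12) (kb xb13 yb4 zb9) (kb xb13 yb3 zb30) (kb xb8 yb21 zb23)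 (kb xb6 yb6 zb35) (kb xb9 yb1 zb38) (kb xb9 yb3 zb0)) (@D3.rec (fun _ => Pt) (kb xb5 yb15 zb15) (kb xb9 yb24 zb37) (kb xb5 yb19 zb28) (kb xb13 yb2 zb9) (kb xb11 yb19 zb7) (kb xb9 yb11 zb1) (kb xb6 yb6 zb2) (kb xb9 yb2 zb7) (kb xb9 yb3 zb8) (kb xb5 yb15 zb19) (kb xb9 yb24 zb0) (kb xb5 yb19 zb13) (kb xb13 yb2 zb13) (kb xb11 yb14 zb24) (kb xb9 yb12 zb14) (kb xb5 yb15 zb22) (kb xb5 yb15 zb29) (kb xb11 yb25 zb6) (kb xb13 yb0 zb37) (kb xb9 yb9 zb30) (kb xb5 yb15 zb25) (kb xb5 yb15 zb34) (kb xb12 yb0 zb2) (kb xb13 yb1 zb1) (kb xb9 yb9 zb10) (kb xb13 yb4 zb25) (kb xb5 yb15 zb30) (kb xb5 yb15 zb31) (kb xb13 yb4 zb26) (kb xb5 yb15 zb32) (kb xb13 yb4 zb27) (kb xb5 yb15 zb35) (kb xb5 yb15 zb36) (kb xb13 yb4 zb28) (kb xb5 yb15 zb37) (kb xb8 yb6 zb4) (kb xb5 yb15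 zb39) (kb xb13 yb4 zb30) (kb xb7 yb5 zb32) (kb xb9 yb2 zb39)) (@D3.rec (fun _ => Pt) (kb xb9 yb1 zb39) (kb xb9 yb3 zb1) (kb xb8 yb21 zb28) (kb xb5 yb16 zb2) (kb xb13 yb4 zb31) (kb xb8 yb5 zb35) (kb xb7 yb5 zb18) (kb xb9 yb3 zb7) (kb xb9 yb2 zb8) (kb xb9 yb3 zb9) (kb xb8 yb22 zb28) (kb xb5 yb24 zb25) (kb xb5 yb24 zb29) (kb xb9 yb5 zb18) (kb xb5 yb16 zb13) (kb xb13 yb5 zb1) (kb xb13 yb5 zb5) (kb xb5 yb25 zb20) (kb xb13 yb5 zb9) (kb xb5 yb16 zb15) (kb xb13 yb5 zb13) (kb xb13 yb5 zb11) (kb xb9 yb5 zb5) (kb xb5 yb16 zb17) (kb xb13 yb5 zb20) (kb xb13 yb3 zb3) (kb xb5 yb25 zb29) (kb xb10 yb23 zb22) (kb xb13 yb5 zb25) (kb xb9 yb6 zb16) (kb xb5 yb16 zb21) (kb xb13 yb5 zb26) (kb xb13 yb5 zb30) (kb xb5 yb25 zb39) (kb xb13 yb5 zb34) (kb xb5 yb16 zb23) (kb xb13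 yb5 zb38) (kb xb13 yb5 zb36) (kb xb9 yb6 zb3) (kb xb5 yb16 zb25)) (@D3.rec (fun _ => Pt) (kb xb13 yb6 zb5) (kb xb13 yb2 zb34) (kb xb6 yb0 zb8) (kb xb11 yb1 zb21) (kb xb13 yb6 zb10) (kb xb5 yb16 zb28) (kb xb5 yb16 zb30) (kb xb9 yb1 zb0) (kb xb13 yb6 zb11) (kb xb5 yb16 zb33) (kb xb6 yb17 zb32) (kb xb10 yb13 zb2) (kb xb9 yb18 zb24) (kb xb13 yb2 zb38) (kb xb6 yb1 zb25) (kb xb9 yb6 zb20) (kb xb5 yb16 zb37) (kb xb5 yb16 zb38) (kb xb5 yb18 zb10) (kb xb9 yb4 zb32) (kb xb9 yb1 zb5) (kb xb13 yb6 zb19) (kb xb5 yb17 zb2) (kb xb6 yb17 zb38) (kb xb10 yb13 zb13) (kb xb9 yb18 zb3) (kb xb13 yb2 zb29) (kb xb6 yb0 zb39) (kb xb9 yb5 zb21) (kb xb5 yb17 zb6) (kb xb5 yb17 zb7) (kb xb5 yb17 zb28) (kb xb9 yb4 zb19) (kb xb9 yb0 zb14) (kb xb13 yb6 zb27) (kb xb8 yb22 zb31) (kb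 xb5 yb17 zb13) (kb xb13 yb6 zb29) (kb xb5 yb17 zb15) (kb xb10 yb13 zb4)) (@D3.rec (fun _ => Pt) (kb xb8 yb8 zb1) (kb xb13 yb6 zb33) (kb xb5 yb17 zb16) (kb xb9 yb0 zb39) (kb xb13 yb6 zb35) (kb xb9 yb3 zb22) (kb xb6 yb1 zb11) (kb xb13 yb7 zb2) (kb xb11 yb4 zb1) (kb xb13 yb7 zb5) (kb xb5 yb17 zb21) (kb xb5 yb17 zb22) (kb xb13 yb7 zb11) (kb xb11 yb3 zb22) (kb xb13 yb7 zb16) (kb xb5 yb17 zb24) (kb xb12 yb24 zb9) (kb xb13 yb7 zb7) (kb xb9 yb3 zb13) (kb xb9 yb6 zb17) (kb xb13 yb7 zb20) (kb xb9 yb4 zb28) (kb xb13 yb7 zb10) (kb xb5 yb17 zb27) (kb xb12 yb15 zb36) (kb xb13 yb7 zb29) (kb xb13 yb7 zb30) (kb xb5 yb18 zb17) (kb xb9 yb5 zb28) (kb xb13 yb7 zb35) (kb xb5 yb17 zb31) (kb xb9 yb0 zb17) (kb xb13 yb7 zb38) (kb xb5 yb17 zb34) (kb xb13 yb6 zb37) (kb xb8 yb21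 zb32) (kb xb5 yb17 zb37) (kb xb10 yb13 zb14) (kb xb8 yb8 zb17) (kb xb13 yb8 zb3)) (@D3.rec (fun _ => Pt) (kb xb5 yb17 zb38) (kb xb9 yb0 zb34) (kb xb13 yb8 zb5) (kb xb9 yb3 zb38) (kb xb6 yb1 zb38) (kb xb13 yb8 zb11) (kb xb11 yb5 zb12) (kb xb13 yb8 zb14) (kb xb5 yb18 zb3) (kb xb5 yb18 zb4) (kb xb13 yb8 zb20) (kb xb11 yb4 zb33) (kb xb13 yb8 zb25) (kb xb5 yb18 zb6) (kb xb12 yb22 zb37) (kb xb13 yb8 zb16) (kb xb9 yb3 zb29) (kb xb9 yb5 zb19) (kb xb13 yb8 zb29) (kb xb13 yb8 zb19) (kb xb9 yb4 zb15) (kb xb5 yb18 zb9) (kb xb12 yb17 zb15) (kb xb13 yb8 zb38) (kb xb13 yb8 zb39) (kb xb5 yb18 zb21) (kb xb9 yb6 zb26) (kb xb13 yb9 zb4) (kb xb5 yb18 zb13) (kb xb13 yb9 zb7) (kb xb5 yb18 zb15) (kb xb9 yb6 zb31) (kb xb11 yb3 zb14) (kb xb13 yb9 zb12) (kb xb5 yb18 zb16) (kb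 xb13 yb9 zb17) (kb xb13 yb9 zb20) (kb xb5 yb18 zb19) (kb xb11 yb4 zb25) (kb xb9 yb6 zb39)) (@D3.rec (fun _ => Pt) (kb xb13 yb9 zb25) (kb xb5 yb18 zb20) (kb xb13 yb9 zb30) (kb xb5 yb18 zb22) (kb xb10 yb16 zb16) (kb xb5 yb18 zb24) (kb xb9 yb7 zb6) (kb xb11 yb5 zb31) (kb xb13 yb9 zb39) (kb xb5 yb18 zb25) (kb xb10 yb17 zb14) (kb xb5 yb18 zb27) (kb xb11 yb5 zb37) (kb xb13 yb10 zb7) (kb xb5 yb18 zb30) (kb xb5 yb18 zb31) (kb xb13 yb10 zb9) (kb xb10 yb4 zb38) (kb xb9 yb9 zb11) (kb xb13 yb4 zb11) (kb xb9 yb7 zb27) (kb xb10 yb3 zb24) (kb xb12 yb25 zb14) (kb xb13 yb10 zb12) (kb xb10 yb3 zb23) (kb xb9 yb9 zb31) (kb xb13 yb4 zb2) (kb xb9 yb7 zb20) (kb xb10 yb4 zb39) (kb xb13 yb0 zb3) (kb xb9 yb10 zb28) (kb xb8 yb9 zb24) (kb xb13 yb10 zb15) (kb xb5 yb19 zb6) (kb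 xb11 yb13 zb39) (kb xb5 yb19 zb9) (kb xb9 yb10 zb17) (kb xb5 yb19 zb8) (kb xb11 yb9 zb34) (kb xb11 yb24 zb27)) (@D3.rec (fun _ => Pt) (kb xb13 yb10 zb21) (kb xb9 yb8 zb23) (kb xb13 yb10 zb23) (kb xb13 yb10 zb18) (kb xb5 yb19 zb12) (kb xb13 yb10 zb27) (kb xb13 yb10 zb32) (kb xb10 yb4 zb23) (kb xb6 yb4 zb33) (kb xb11 yb12 zb37) (kb xb13 yb10 zb38) (kb xb5 yb19 zb16) (kb xb9 yb12 zb1) (kb xb8 yb10 zb30) (kb xb13 yb10 zb39) (kb xb5 yb19 zb21) (kb xb11 yb18 zb29) (kb xb5 yb19 zb24) (kb xb9 yb11 zb31) (kb xb5 yb19 zb23) (kb xb11 yb15 zb8) (kb xb11 yb24 zb13) (kb xb13 yb11 zb4) (kb xb9 yb8 zb1) (kb xb13 yb11 zb5) (kb xb13 yb11 zb2) (kb xb5 yb19 zb27) (kb xb13 yb11 zb8) (kb xb13 yb11 zb13) (kb xb10 yb5 zb32) (kb xb6 yb5 zb24) (kb xb11 yb18 zb0) (kb xb13 yb11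 zb18) (kb xb5 yb19 zb31) (kb xb5 yb19 zb38) (kb xb13 yb4 zb6) (kb xb11 yb23 zb27) (kb xb8 yb6 zb16) (kb xb5 yb20 zb1) (kb xb13 yb11 zb20)) (@D3.rec (fun _ => Pt) (kb xb5 yb20 zb38) (kb xb13 yb11 zb22) (kb xb5 yb20 zb4) (kb xb13 yb3 zb37) (kb xb11 yb22 zb20) (kb xb8 yb6 zb25) (kb xb5 yb20 zb7) (kb xb13 yb11 zb24) (kb xb5 yb20 zb22) (kb xb13 yb11 zb26) (kb xb9 yb2 zb24) (kb xb9 yb7 zb18) (kb xb13 yb11 zb27) (kb xb5 yb20 zb13) (kb xb5 yb20 zb17) (kb xb9 yb9 zb35) (kb xb5 yb20 zb16) (kb xb13 yb11 zb29) (kb xb12 yb8 zb7) (kb xb13 yb11 zb32) (kb xb5 yb20 zb18) (kb xb8 yb22 zb24) (kb xb13 yb11 zb33) (kb xb5 yb20 zb21) (kb xb13 yb11 zb36) (kb xb13 yb12 zb1) (kb xb11 yb13 zb28) (kb xb9 yb17 zb3) (kb xb13 yb12 zb5) (kb xb5 yb20 zb24) (kb xb9 yb2 zb19) (kb xb9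 yb7 zb25) (kb xb13 yb12 zb6) (kb xb5 yb20 zb29) (kb xb5 yb20 zb33) (kb xb9 yb9 zb15) (kb xb5 yb20 zb32) (kb xb13 yb12 zb8) (kb xb12 yb7 zb22) (kb xb13 yb12 zb11)) (@D3.rec (fun _ => Pt) (kb xb5 yb20 zb34) (kb xb8 yb21 zb24) (kb xb13 yb12 zb12) (kb xb5 yb20 zb37) (kb xb13 yb12 zb15) (kb xb13 yb12 zb20) (kb xb11 yb18 zb26) (kb xb9 yb17 zb37) (kb xb13 yb12 zb24) (kb xb5 yb21 zb0) (kb xb5 yb21 zb3) (kb xb9 yb11 zb26) (kb xb5 yb21 zb6) (kb xb8 yb7 zb38) (kb xb12 yb13 zb0) (kb xb11 yb9 zb30) (kb xb5 yb21 zb12) (kb xb9 yb7 zb36) (kb xb5 yb22 zb3) (kb xb12 yb20 zb25) (kb xb11 yb11 zb33) (kb xb7 yb23 zb14) (kb xb13 yb12 zb36) (kb xb5 yb21 zb15) (kb xb13 yb12 zb37) (kb xb5 yb21 zb17) (kb xb9 yb10 zb35) (kb xb5 yb21 zb25) (kb xb9 yb7 zb30) (kb xb6 yb3 zb37) (kb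 xb13 yb13 zb2) (kb xb9 yb11 zb24) (kb xb5 yb21 zb30) (kb xb5 yb21 zb20) (kb xb13 yb13 zb6) (kb xb9 yb10 zb26) (kb xb11 yb19 zb31) (kb xb7 yb18 zb16) (kb xb5 yb21 zb22) (kb xb8 yb6 zb19)) (@D3.rec (fun _ => Pt) (kb xb13 yb13 zb15) (kb xb9 yb2 zb5) (kb xb11 yb8 zb35) (kb xb9 yb12 zb16) (kb xb5 yb21 zb28) (kb xb13 yb13 zb16) (kb xb10 yb0 zb16) (kb xb11 yb9 zb14) (kb xb13 yb13 zb20) (kb xb5 yb21 zb32) (kb xb7 yb14 zb27) (kb xb13 yb13 zb8) (kb xb7 yb11 zb34) (kb xb13 yb13 zb25) (kb xb11 yb13 zb8) (kb xb5 yb21 zb33) (kb xb5 yb21 zb35) (kb xb13 yb13 zb32) (kb xb13 yb13 zb33) (kb xb9 yb11 zb19) (kb xb11 yb10 zb5) (kb xb5 yb21 zb38) (kb xb7 yb6 zb6) (kb xb13 yb13 zb39) (kb xb9 yb10 zb31) (kb xb5 yb22 zb1) (kb xb9 yb10 zb11) (kb xb8 yb8 zb14) (kb xb12 yb14 zb34)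 (kb xb11 yb15 zb2) (kb xb5 yb22 zb10) (kb xb9 yb8 zb18) (kb xb12 yb22 zb5) (kb xb11 yb16 zb39) (kb xb7 yb23 zb15) (kb xb13 yb14 zb13) (kb xb5 yb22 zb13) (kb xb13 yb14 zb14) (kb xb5 yb22 zb15) (kb xb9 yb12 zb8)) (@D3.rec (fun _ => Pt) (kb xb5 yb22 zb23) (kb xb9 yb8 zb12) (kb xb6 yb3 zb34) (kb xb13 yb14 zb18) (kb xb5 yb22 zb27) (kb xb9 yb12 zb37) (kb xb5 yb22 zb18) (kb xb13 yb13 zb28) (kb xb9 yb11 zb39) (kb xb11 yb21 zb9) (kb xb7 yb16 zb37) (kb xb5 yb22 zb20) (kb xb8 yb6 zb28) (kb xb13 yb13 zb0) (kb xb9 yb2 zb14) (kb xb11 yb7 zb32) (kb xb9 yb11 zb3) (kb xb5 yb22 zb26) (kb xb13 yb14 zb29) (kb xb11 yb14 zb31) (kb xb9 yb25 zb22) (kb xb13 yb14 zb33) (kb xb5 yb22 zb30) (kb xb13 yb13 zb26) (kb xb7 yb10 zb23) (kb xb7 yb15 zb35) (kb xb13 yb14 zb38) (kb xb11 yb18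 zb10) (kb xb5 yb22 zb31) (kb xb5 yb22 zb33) (kb xb13 yb15 zb3) (kb xb13 yb15 zb4) (kb xb9 yb12 zb32) (kb xb11 yb15 zb18) (kb xb5 yb22 zb36) (kb xb7 yb7 zb11) (kb xb13 yb15 zb10) (kb xb9 yb12 zb5) (kb xb5 yb23 zb0) (kb xb13 yb15 zb13)) (@D3.rec (fun _ => Pt) (kb xb13 yb15 zb15) (kb xb11 yb10 zb19) (kb xb5 yb23 zb4) (kb xb11 yb15 zb31) (kb xb13 yb15 zb16) (kb xb13 yb15 zb17) (kb xb5 yb23 zb6) (kb xb9 yb13 zb7) (kb xb11 yb19 zb34) (kb xb5 yb23 zb9) (kb xb13 yb15 zb25) (kb xb5 yb23 zb13) (kb xb13 yb15 zb26) (kb xb5 yb23 zb15) (kb xb11 yb21 zb12) (kb xb9 yb13 zb15) (kb xb8 yb14 zb21) (kb xb8 yb7 zb12) (kb xb10 yb2 zb21) (kb xb5 yb23 zb17) (kb xb7 yb16 zb25) (kb xb13 yb15 zb37) (kb xb6 yb9 zb26) (kb xb7 yb17 zb30) (kb xb10 yb5 zb2) (kb xb5 yb23 zb24) (kb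 xb13 yb16 zb1) (kb xb7 yb19 zb23) (kb xb6 yb7 zb31) (kb xb5 yb23 zb28) (kb xb9 yb13 zb30) (kb xb11 yb17 zb2) (kb xb13 yb16 zb13) (kb xb8 yb14 zb28) (kb xb8 yb7 zb17) (kb xb10 yb1 zb11) (kb xb5 yb23 zb30) (kb xb7 yb18 zb3) (kb xb13 yb16 zb18) (kb xb7 yb19 zb7)) (@D3.rec (fun _ => Pt) (kb xb6 yb10 zb35) (kb xb10 yb3 zb27) (kb xb5 yb23 zb37) (kb xb13 yb16 zb22) (kb xb7 yb20 zb26) (kb xb6 yb8 zb29) (kb xb5 yb24 zb1) (kb xb11 yb11 zb36) (kb xb9 yb14 zb8) (kb xb13 yb16 zb34) (kb xb13 yb2 zb15) (kb xb7 yb1 zb3) (kb xb13 yb2 zb16) (kb xb6 yb24 zb23) (kb xb12 yb0 zb30) (kb xb13 yb17 zb1) (kb xb5 yb24 zb5) (kb xb12 yb0 zb33) (kb xb13 yb17 zb5) (kb xb5 yb24 zb7) (kb xb5 yb24 zb8) (kb xb13 yb2 zb23) (kb xb5 yb24 zb10) (kb xb13 yb2 zb27) (kb xb5 yb24 zb12) (kb xb9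 yb14 zb25) (kb xb9 yb14 zb26) (kb xb5 yb24 zb13) (kb xb13 yb17 zb10) (kb xb5 yb24 zb14) (kb xb13 yb17 zb12) (kb xb9 yb14 zb31) (kb xb5 yb24 zb18) (kb xb9 yb14 zb36) (kb xb9 yb14 zb34) (kb xb5 yb24 zb21) (kb xb9 yb14 zb33) (kb xb5 yb24 zb17) (kb xb13 yb6 zb12) (kb xb10 yb18 zb33)) (@D3.rec (fun _ => Pt) (kb xb13 yb17 zb15) (kb xb13 yb17 zb25) (kb xb6 yb22 zb32) (kb xb5 yb24 zb20) (kb xb13 yb6 zb20) (kb xb10 yb20 zb21) (kb xb13 yb17 zb19) (kb xb13 yb17 zb31) (kb xb6 yb21 zb32) (kb xb6 yb25 zb2) (kb xb13 yb17 zb33) (kb xb7 yb1 zb23) (kb xb13 yb17 zb35) (kb xb5 yb24 zb39) (kb xb5 yb24 zb32) (kb xb13 yb17 zb38) (kb xb5 yb25 zb3) (kb xb5 yb25 zb7) (kb xb5 yb24 zb35) (kb xb13 yb18 zb2) (kb xb5 yb25 zb11) (kb xb9 yb19 zb14) (kb xb6 yb0 zb11) (kb xb9 yb18 zb21)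 (kb xb5 yb24 zb38) (kb xb6 yb21 zb11) (kb xb13 yb17 zb37) (kb xb6 yb18 zb30) (kb xb5 yb25 zb0) (kb xb13 yb18 zb12) (kb xb13 yb18 zb11) (kb xb9 yb18 zb10) (kb xb5 yb25 zb2) (kb xb13 yb18 zb17) (kb xb6 yb19 zb27) (kb xb13 yb18 zb0) (kb xb13 yb18 zb23) (kb xb10 yb18 zb28) (kb xb9 yb20 zb7) (kb xb9 yb19 zb0)) (@D3.rec (fun _ => Pt) (kb xb6 yb0 zb24) (kb xb5 yb25 zb6) (kb xb6 yb22 zb12) (kb xb13 yb18 zb1) (kb xb6 yb18 zb35) (kb xb5 yb25 zb8) (kb xb13 yb18 zb32) (kb xb13 yb18 zb31) (kb xb9 yb18 zb29) (kb xb5 yb25 zb10) (kb xb13 yb18 zb37) (kb xb6 yb19 zb11) (kb xb13 yb18 zb4) (kb xb13 yb19 zb3) (kb xb10 yb20 zb17) (kb xb8 yb4 zb17) (kb xb5 yb25 zb14) (kb xb13 yb19 zb6) (kb xb10 yb11 zb7) (kb xb13 yb19 zb13) (kb xb6 yb20 zb20) (kb xb6 yb25 zb26) (kb xb10 yb21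 zb2) (kb xb5 yb25 zb18) (kb xb6 yb1 zb1) (kb xb9 yb19 zb30) (kb xb13 yb19 zb22) (kb xb13 yb19 zb18) (kb xb5 yb25 zb19) (kb xb13 yb19 zb25) (kb xb13 yb19 zb26) (kb xb13 yb19 zb31) (kb xb13 yb19 zb32) (kb xb5 yb25 zb21) (kb xb13 yb19 zb36) (kb xb5 yb25 zb24) (kb xb9 yb19 zb12) (kb xb5 yb25 zb23) (kb xb13 yb20 zb2) (kb xb11 yb25 zb29)) (@D3.rec (fun _ => Pt) (kb xb13 yb20 zb6) (kb xb13 yb20 zb7) (kb xb5 yb25 zb27) (kb xb9 yb9 zb27) (kb xb13 yb20 zb14) (kb xb8 yb2 zb15) (kb xb8 yb5 zb21) (kb xb10 yb23 zb25) (kb xb13 yb20 zb19) (kb xb8 yb5 zb6) (kb xb5 yb25 zb33) (kb xb13 yb20 zb21) (kb xb13 yb20 zb27) (kb xb10 yb11 zb10) (kb xb7 yb2 zb6) (kb xb6 yb19 zb31) (kb xb10 yb25 zb3) (kb xb5 yb25 zb37) (kb xb9 yb20 zb23) (kb xb6 yb1 zb29) (kb xb13 yb20 zb37) (kb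 xb13 yb20 zb33) (kb xb5 yb25 zb38) (kb xb13 yb21 zb0) (kb xb13 yb21 zb1) (kb xb13 yb21 zb6) (kb xb13 yb21 zb7) (kb xb6 yb0 zb0) (kb xb13 yb21 zb11) (kb xb6 yb0 zb3) (kb xb9 yb20 zb5) (kb xb6 yb0 zb2) (kb xb13 yb21 zb17) (kb xb11 yb24 zb24) (kb xb13 yb21 zb21) (kb xb13 yb21 zb22) (kb xb6 yb0 zb6) (kb xb9 yb10 zb7) (kb xb13 yb21 zb29) (kb xb8 yb1 zb36)) (@D3.rec (fun _ => Pt) (kb xb8 yb4 zb32) (kb xb11 yb1 zb24) (kb xb13 yb21 zb34) (kb xb9 yb4 zb25) (kb xb6 yb0 zb12) (kb xb13 yb6 zb22) (kb xb10 yb18 zb13) (kb xb6 yb0 zb15) (kb xb12 yb9 zb26) (kb xb13 yb21 zb37) (kb xb9 yb15 zb31) (kb xb6 yb0 zb17) (kb xb13 yb22 zb2) (kb xb13 yb22 zb7) (kb xb13 yb22 zb8) (kb xb6 yb0 zb19) (kb xb13 yb22 zb11) (kb xb13 yb22 zb12) (kb xb6 yb0 zb21) (kb xb6 yb18 zb2) (kb xb13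 yb22 zb14) (kb xb9 yb15 zb23) (kb xb6 yb0 zb23) (kb xb13 yb6 zb14) (kb xb9 yb4 zb12) (kb xb10 yb20 zb2) (kb xb6 yb0 zb27) (kb xb12 yb9 zb25) (kb xb13 yb22 zb19) (kb xb9 yb16 zb8) (kb xb6 yb0 zb29) (kb xb13 yb22 zb24) (kb xb13 yb22 zb29) (kb xb13 yb22 zb30) (kb xb6 yb0 zb31) (kb xb13 yb22 zb33) (kb xb13 yb22 zb34) (kb xb6 yb0 zb33) (kb xb6 yb17 zb36) (kb xb13 yb22 zb36)) (@D3.rec (fun _ => Pt) (kb xb9 yb15 zb39) (kb xb6 yb1 zb4) (kb xb13 yb19 zb19) (kb xb13 yb22 zb39) (kb xb6 yb1 zb2) (kb xb6 yb1 zb3) (kb xb13 yb23 zb2) (kb xb13 yb23 zb7) (kb xb13 yb23 zb8) (kb xb6 yb1 zb5) (kb xb13 yb23 zb12) (kb xb6 yb1 zb8) (kb xb9 yb16 zb36) (kb xb6 yb1 zb7) (kb xb9 yb15 zb21) (kb xb13 yb23 zb17) (kb xb13 yb7 zb0) (kb xb13 yb23 zb20) (kb xb6 yb1 zb12) (kb xb13 yb18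 zb14) (kb xb6 yb1 zb13) (kb xb13 yb23 zb27) (kb xb13 yb23 zb28) (kb xb13 yb23 zb23) (kb xb13 yb23 zb32) (kb xb6 yb1 zb15) (kb xb6 yb1 zb16) (kb xb6 yb1 zb17) (kb xb13 yb24 zb1) (kb xb6 yb1 zb20) (kb xb9 yb16 zb25) (kb xb13 yb24 zb6) (kb xb13 yb24 zb7) (kb xb9 yb20 zb26) (kb xb6 yb1 zb31) (kb xb13 yb24 zb8) (kb xb13 yb20 zb35) (kb xb6 yb1 zb28) (kb xb6 yb1 zb30) (kb xb13 yb24 zb11)) (@D3.rec (fun _ => Pt) (kb xb13 yb24 zb16) (kb xb13 yb24 zb17) (kb xb6 yb1 zb32) (kb xb13 yb24 zb21) (kb xb6 yb1 zb35) (kb xb9 yb17 zb30) (kb xb6 yb1 zb34) (kb xb9 yb15 zb38) (kb xb13 yb24 zb26) (kb xb13 yb8 zb9) (kb xb13 yb24 zb29) (kb xb6 yb1 zb39) (kb xb13 yb18 zb34) (kb xb6 yb2 zb0) (kb xb13 yb24 zb36) (kb xb13 yb24 zb37) (kb xb13 yb24 zb32) (kb xb13 yb25 zb1) (kb xb6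 yb2 zb2) (kb xb6 yb2 zb3) (kb xb6 yb2 zb4) (kb xb13 yb25 zb10) (kb xb6 yb2 zb7) (kb xb9 yb17 zb18) (kb xb13 yb25 zb15) (kb xb13 yb25 zb16) (kb xb9 yb19 zb33) (kb xb6 yb2 zb10) (kb xb13 yb25 zb18) (kb xb13 yb25 zb19) (kb xb12 yb15 zb22) (kb xb13 yb23 zb18) (kb xb13 yb25 zb26) (kb xb6 yb2 zb11) (kb xb6 yb2 zb12) (kb xb9 yb22 zb25) (kb xb9 yb22 zb26) (kb xb13 yb19 zb24) (kb xb13 yb25 zb34) (kb xb9 yb22 zb29)) (@D3.rec (fun _ => Pt) (kb xb11 yb4 zb11) (kb xb13 yb25 zb38) (kb xb13 yb25 zb39) (kb xb6 yb2 zb17) (kb xb14 yb0 zb1) (kb xb13 yb16 zb8) (kb xb6 yb2 zb19) (kb xb6 yb2 zb20) (kb xb12 yb8 zb11) (kb xb14 yb0 zb6) (kb xb14 yb0 zb7) (kb xb11 yb3 zb37) (kb xb6 yb25 zb23) (kb xb6 yb2 zb23) (kb xb14 yb0 zb15) (kb xb12 yb15 zb31) (kb xb11 yb3 zb36) (kb xb14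 yb0 zb21) (kb xb14 yb0 zb23) (kb xb8 yb19 zb14) (kb xb12 yb24 zb16) (kb xb6 yb2 zb28) (kb xb6 yb2 zb30) (kb xb14 yb0 zb29) (kb xb14 yb0 zb30) (kb xb12 yb17 zb2) (kb xb14 yb0 zb37) (kb xb13 yb24 zb27) (kb xb6 yb2 zb31) (kb xb6 yb2 zb32) (kb xb9 yb23 zb3) (kb xb9 yb23 zb4) (kb xb14 yb1 zb4) (kb xb13 yb20 zb39) (kb xb11 yb5 zb22) (kb xb9 yb23 zb8) (kb xb14 yb1 zb9) (kb xb14 yb1 zb10) (kb xb14 yb1 zb11) (kb xb13 yb16 zb29)) (@D3.rec (fun _ => Pt) (kb xb6 yb2 zb38) (kb xb6 yb2 zb39) (kb xb6 yb3 zb0) (kb xb12 yb8 zb15) (kb xb14 yb1 zb17) (kb xb14 yb1 zb18) (kb xb11 yb5 zb9) (kb xb7 yb2 zb3) (kb xb6 yb3 zb3) (kb xb14 yb1 zb26) (kb xb12 yb17 zb10) (kb xb11 yb5 zb8) (kb xb14 yb1 zb30) (kb xb14 yb1 zb32) (kb xb12 yb23 zb4) (kb xb8 yb20 zb28) (kb xb6 yb3 zb8)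 (kb xb6 yb3 zb10) (kb xb12 yb7 zb18) (kb xb14 yb1 zb38) (kb xb12 yb3 zb22) (kb xb14 yb2 zb3) (kb xb14 yb2 zb4) (kb xb6 yb3 zb11) (kb xb6 yb3 zb12) (kb xb9 yb20 zb35) (kb xb9 yb20 zb36) (kb xb14 yb2 zb13) (kb xb14 yb2 zb15) (kb xb9 yb20 zb39) (kb xb6 yb24 zb30) (kb xb14 yb2 zb19) (kb xb14 yb2 zb20) (kb xb6 yb3 zb17) (kb xb6 yb3 zb18) (kb xb6 yb3 zb20) (kb xb12 yb8 zb3) (kb xb14 yb2 zb27) (kb xb12 yb3 zb33) (kb xb14 yb2 zb32)) (@D3.rec (fun _ => Pt) (kb xb14 yb2 zb33) (kb xb6 yb3 zb21) (kb xb6 yb3 zb22) (kb xb9 yb21 zb30) (kb xb9 yb21 zb31) (kb xb14 yb3 zb2) (kb xb14 yb3 zb4) (kb xb7 yb1 zb10) (kb xb9 yb21 zb35) (kb xb14 yb3 zb8) (kb xb14 yb3 zb9) (kb xb6 yb3 zb27) (kb xb6 yb3 zb28) (kb xb8 yb15 zb31) (kb xb13 yb13 zb17) (kb xb8 yb17 zb19) (kb xb13 yb14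 zb30) (kb xb6 yb4 zb0) (kb xb8 yb20 zb23) (kb xb6 yb4 zb2) (kb xb8 yb19 zb10) (kb xb6 yb4 zb7) (kb xb14 yb3 zb22) (kb xb10 yb13 zb23) (kb xb14 yb3 zb24) (kb xb10 yb2 zb7) (kb xb6 yb4 zb9) (kb xb11 yb11 zb35) (kb xb11 yb9 zb13) (kb xb7 yb11 zb35) (kb xb11 yb7 zb13) (kb xb6 yb4 zb16) (kb xb9 yb25 zb32) (kb xb11 yb9 zb32) (kb xb12 yb0 zb22) (kb xb6 yb4 zb19) (kb xb8 yb6 zb1) (kb xb6 yb4 zb21) (kb xb11 yb21 zb3) (kb xb14 yb3 zb30)) (@D3.rec (fun _ => Pt) (kb xb9 yb2 zb10) (kb xb11 yb12 zb36) (kb xb11 yb22 zb2) (kb xb6 yb4 zb25) (kb xb7 yb20 zb24) (kb xb14 yb3 zb33) (kb xb6 yb4 zb27) (kb xb6 yb4 zb28) (kb xb6 yb5 zb19) (kb xb14 yb3 zb34) (kb xb14 yb3 zb36) (kb xb11 yb22 zb1) (kb xb11 yb23 zb17) (kb xb6 yb4 zb31) (kb xb6 yb12 zb38) (kb xb11 yb12 zb39) (kb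 xb14 yb3 zb38) (kb xb6 yb4 zb35) (kb xb6 yb4 zb38) (kb xb14 yb4 zb1) (kb xb10 yb13 zb35) (kb xb14 yb4 zb3) (kb xb6 yb4 zb39) (kb xb11 yb17 zb1) (kb xb10 yb3 zb12) (kb xb11 yb14 zb30) (kb xb7 yb15 zb33) (kb xb11 yb8 zb16) (kb xb6 yb5 zb7) (kb xb10 yb0 zb26) (kb xb11 yb15 zb3) (kb xb12 yb0 zb20) (kb xb6 yb5 zb10) (kb xb8 yb6 zb10) (kb xb6 yb5 zb12) (kb xb11 yb19 zb24) (kb xb14 yb4 zb9) (kb xb9 yb2 zb1) (kb xb11 yb17 zb39) (kb xb11 yb20 zb20)) (@D3.rec (fun _ => Pt) (kb xb6 yb5 zb16) (kb xb7 yb19 zb20) (kb xb14 yb4 zb12) (kb xb6 yb5 zb18) (kb xb14 yb4 zb13) (kb xb11 yb20 zb19) (kb xb14 yb4 zb15) (kb xb11 yb22 zb11) (kb xb6 yb5 zb22) (kb xb6 yb14 zb32) (kb xb11 yb18 zb2) (kb xb14 yb4 zb17) (kb xb6 yb5 zb26) (kb xb6 yb5 zb31) (kb xb11 yb9 zb24) (kb xb6 yb5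 zb33) (kb xb12 yb19 zb22) (kb xb11 yb11 zb5) (kb xb7 yb22 zb30) (kb xb6 yb5 zb35) (kb xb11 yb20 zb0) (kb xb6 yb6 zb1) (kb xb9 yb12 zb20) (kb xb6 yb14 zb11) (kb xb6 yb6 zb3) (kb xb6 yb16 zb14) (kb xb10 yb0 zb20) (kb xb6 yb16 zb20) (kb xb14 yb4 zb28) (kb xb6 yb6 zb10) (kb xb6 yb6 zb11) (kb xb14 yb4 zb31) (kb xb9 yb23 zb32) (kb xb13 yb12 zb26) (kb xb10 yb2 zb10) (kb xb7 yb5 zb4) (kb xb10 yb3 zb15) (kb xb8 yb16 zb20) (kb xb6 yb6 zb15) (kb xb11 yb17 zb38))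
def f_b_10 : D2 → D3 → Pt := @D2.rec (fun _ => D3 → Pt) (@D3.rec (fun _ => Pt) (kb xb13 yb13 zb31) (kb xb6 yb6 zb19) (kb xb14 yb4 zb37) (kb xb14 yb4 zb39) (kb xb6 yb6 zb18) (kb xb11 yb11 zb39) (kb xb6 yb6 zb20) (kb xb6 yb6 zb25) (kb xb11 yb15 zb6) (kb xb6 yb6 zb27) (kb xb12 yb19 zb35) (kb xb11 yb16 zb14) (kb xb7 yb22 zb0) (kb xb6 yb6 zb29) (kb xb11 yb21 zb20) (kb xb6 yb6 zb34) (kb xb9 yb11 zb6) (kb xb6 yb12 zb17) (kb xb6 yb6 zb36) (kb xb6 yb16 zb17) (kb xb9 yb25 zb26) (kb xb6 yb16 zb22) (kb xb14 yb5 zb9) (kb xb6 yb7 zb3) (kb xb6 yb7 zb4) (kb xb14 yb5 zb12) (kb xb9 yb24 zb29) (kb xb13 yb14 zb3) (kb xb10 yb3 zb16) (kb xb7 yb5 zb13) (kb xb10 yb2 zb9) (kb xb8 yb18 zb5) (kb xb6 yb7 zb8) (kb xb11 yb12 zb35) (kb xb13 yb15 zb2) (kb xb6 yb7 zb12) (kb xb14 yb5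 zb18) (kb xb14 yb5 zb20) (kb xb6 yb7 zb11) (kb xb11 yb17 zb5)) (@D3.rec (fun _ => Pt) (kb xb6 yb7 zb13) (kb xb6 yb7 zb15) (kb xb8 yb0 zb30) (kb xb12 yb7 zb34) (kb xb12 yb11 zb34) (kb xb14 yb5 zb22) (kb xb6 yb7 zb19) (kb xb10 yb1 zb22) (kb xb14 yb5 zb23) (kb xb10 yb3 zb25) (kb xb12 yb9 zb23) (kb xb9 yb13 zb35) (kb xb14 yb5 zb25) (kb xb6 yb7 zb25) (kb xb14 yb5 zb28) (kb xb6 yb7 zb26) (kb xb12 yb20 zb23) (kb xb13 yb16 zb7) (kb xb6 yb7 zb28) (kb xb8 yb19 zb18) (kb xb6 yb7 zb30) (kb xb13 yb12 zb30) (kb xb10 yb1 zb7) (kb xb14 yb5 zb33) (kb xb6 yb7 zb34) (kb xb11 yb16 zb32) (kb xb13 yb12 zb28) (kb xb6 yb7 zb37) (kb xb14 yb4 zb25) (kb xb10 yb3 zb1) (kb xb12 yb8 zb8) (kb xb10 yb2 zb39) (kb xb8 yb2 zb16) (kb xb6 yb8 zb6) (kb xb7 yb17 zb29) (kb xb11 yb6 zb25)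 (kb xb8 yb5 zb25) (kb xb8 yb3 zb14) (kb xb6 yb8 zb5) (kb xb14 yb6 zb7)) (@D3.rec (fun _ => Pt) (kb xb14 yb6 zb3) (kb xb14 yb6 zb9) (kb xb12 yb21 zb27) (kb xb12 yb20 zb26) (kb xb6 yb8 zb9) (kb xb6 yb8 zb10) (kb xb13 yb12 zb29) (kb xb9 yb23 zb25) (kb xb8 yb15 zb34) (kb xb10 yb0 zb30) (kb xb9 yb25 zb34) (kb xb6 yb8 zb14) (kb xb8 yb0 zb34) (kb xb12 yb7 zb9) (kb xb14 yb6 zb16) (kb xb12 yb13 zb31) (kb xb6 yb8 zb17) (kb xb14 yb6 zb17) (kb xb10 yb2 zb31) (kb xb10 yb5 zb0) (kb xb12 yb9 zb17) (kb xb9 yb13 zb18) (kb xb6 yb8 zb23) (kb xb14 yb6 zb21) (kb xb14 yb6 zb22) (kb xb12 yb22 zb3) (kb xb13 yb16 zb28) (kb xb6 yb8 zb26) (kb xb6 yb8 zb27) (kb xb6 yb8 zb28) (kb xb13 yb14 zb7) (kb xb10 yb2 zb18) (kb xb8 yb20 zb32) (kb xb14 yb6 zb25) (kb xb6 yb8 zb33) (kb xb13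 yb14 zb5) (kb xb11 yb11 zb25) (kb xb6 yb8 zb36) (kb xb14 yb5 zb6) (kb xb10 yb1 zb31)) (@D3.rec (fun _ => Pt) (kb xb12 yb7 zb23) (kb xb10 yb1 zb29) (kb xb8 yb1 zb37) (kb xb6 yb9 zb5) (kb xb7 yb19 zb8) (kb xb11 yb6 zb19) (kb xb8 yb4 zb37) (kb xb8 yb3 zb25) (kb xb6 yb9 zb4) (kb xb14 yb6 zb35) (kb xb12 yb20 zb7) (kb xb12 yb20 zb9) (kb xb9 yb24 zb24) (kb xb13 yb14 zb6) (kb xb8 yb17 zb21) (kb xb9 yb25 zb36) (kb xb10 yb0 zb28) (kb xb10 yb3 zb17) (kb xb10 yb10 zb6) (kb xb11 yb23 zb38) (kb xb8 yb3 zb4) (kb xb10 yb3 zb38) (kb xb10 yb9 zb18) (kb xb9 yb7 zb24) (kb xb9 yb7 zb21) (kb xb10 yb1 zb9) (kb xb12 yb8 zb36) (kb xb9 yb14 zb1) (kb xb7 yb23 zb12) (kb xb8 yb6 zb38) (kb xb14 yb7 zb7) (kb xb14 yb7 zb8) (kb xb6 yb9 zb27) (kb xb6 yb9 zb28) (kb xb8 yb18 zb15) (kb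 xb6 yb10 zb37) (kb xb6 yb9 zb32) (kb xb12 yb7 zb15) (kb xb10 yb3 zb21) (kb xb6 yb12 zb0)) (@D3.rec (fun _ => Pt) (kb xb10 yb5 zb13) (kb xb6 yb9 zb35) (kb xb6 yb9 zb37) (kb xb14 yb7 zb12) (kb xb6 yb12 zb7) (kb xb14 yb7 zb17) (kb xb6 yb12 zb11) (kb xb6 yb10 zb1) (kb xb8 yb10 zb9) (kb xb7 yb20 zb9) (kb xb7 yb6 zb39) (kb xb12 yb3 zb1) (kb xb7 yb20 zb12) (kb xb14 yb4 zb34) (kb xb6 yb11 zb2) (kb xb6 yb10 zb14) (kb xb7 yb21 zb16) (kb xb6 yb10 zb9) (kb xb8 yb3 zb28) (kb xb6 yb14 zb3) (kb xb14 yb7 zb26) (kb xb6 yb10 zb18) (kb xb7 yb21 zb33) (kb xb9 yb8 zb7) (kb xb14 yb7 zb22) (kb xb6 yb12 zb8) (kb xb6 yb10 zb16) (kb xb7 yb22 zb8) (kb xb6 yb13 zb9) (kb xb14 yb7 zb33) (kb xb6 yb10 zb17) (kb xb14 yb7 zb35) (kb xb10 yb4 zb32) (kb xb10 yb10 zb27) (kb xb11 yb22 zb32)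 (kb xb8 yb3 zb3) (kb xb10 yb5 zb11) (kb xb10 yb7 zb14) (kb xb9 yb7 zb17) (kb xb9 yb7 zb28)) (@D3.rec (fun _ => Pt) (kb xb10 yb2 zb19) (kb xb12 yb8 zb31) (kb xb9 yb13 zb24) (kb xb7 yb23 zb13) (kb xb14 yb8 zb0) (kb xb8 yb7 zb2) (kb xb6 yb10 zb34) (kb xb14 yb7 zb6) (kb xb8 yb16 zb31) (kb xb6 yb10 zb39) (kb xb12 yb8 zb0) (kb xb10 yb4 zb36) (kb xb6 yb13 zb35) (kb xb10 yb4 zb0) (kb xb6 yb11 zb3) (kb xb14 yb8 zb4) (kb xb6 yb13 zb39) (kb xb14 yb8 zb9) (kb xb6 yb11 zb6) (kb xb8 yb11 zb15) (kb xb7 yb21 zb11) (kb xb7 yb8 zb4) (kb xb12 yb2 zb39) (kb xb7 yb21 zb12) (kb xb14 yb5 zb15) (kb xb6 yb11 zb18) (kb xb7 yb21 zb27) (kb xb6 yb11 zb14) (kb xb8 yb3 zb17) (kb xb14 yb7 zb32) (kb xb6 yb11 zb20) (kb xb7 yb22 zb24) (kb xb9 yb8 zb29) (kb xb14 yb8 zb13) (kb xb6 yb14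 zb0) (kb xb6 yb15 zb2) (kb xb7 yb22 zb39) (kb xb10 yb5 zb37) (kb xb14 yb8 zb22) (kb xb6 yb11 zb23)) (@D3.rec (fun _ => Pt) (kb xb14 yb8 zb23) (kb xb10 yb6 zb1) (kb xb10 yb6 zb5) (kb xb14 yb8 zb24) (kb xb10 yb6 zb4) (kb xb10 yb6 zb2) (kb xb8 yb18 zb34) (kb xb8 yb5 zb20) (kb xb6 yb11 zb28) (kb xb6 yb11 zb29) (kb xb6 yb11 zb30) (kb xb13 yb0 zb30) (kb xb13 yb1 zb27) (kb xb6 yb11 zb34) (kb xb6 yb14 zb39) (kb xb14 yb8 zb27) (kb xb6 yb11 zb39) (kb xb6 yb12 zb2) (kb xb8 yb22 zb39) (kb xb10 yb7 zb10) (kb xb14 yb8 zb30) (kb xb6 yb12 zb27) (kb xb6 yb12 zb6) (kb xb14 yb7 zb15) (kb xb6 yb12 zb22) (kb xb10 yb7 zb11) (kb xb6 yb12 zb10) (kb xb13 yb10 zb36) (kb xb14 yb7 zb18) (kb xb8 yb25 zb30) (kb xb6 yb12 zb14) (kb xb6 yb12 zb15) (kb xb6 yb12 zb13) (kb xb14 yb8 zb38)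 (kb xb14 yb8 zb39) (kb xb14 yb9 zb0) (kb xb14 yb9 zb1) (kb xb6 yb12 zb18) (kb xb6 yb13 zb3) (kb xb14 yb8 zb36)) (@D3.rec (fun _ => Pt) (kb xb8 yb25 zb8) (kb xb8 yb25 zb14) (kb xb10 yb9 zb27) (kb xb13 yb3 zb32) (kb xb6 yb12 zb26) (kb xb8 yb23 zb25) (kb xb6 yb12 zb29) (kb xb14 yb9 zb4) (kb xb6 yb12 zb30) (kb xb13 yb4 zb22) (kb xb10 yb6 zb19) (kb xb10 yb6 zb25) (kb xb12 yb6 zb29) (kb xb6 yb12 zb34) (kb xb10 yb4 zb37) (kb xb6 yb12 zb39) (kb xb14 yb9 zb6) (kb xb6 yb13 zb2) (kb xb11 yb22 zb18) (kb xb11 yb17 zb7) (kb xb14 yb9 zb8) (kb xb14 yb9 zb9) (kb xb6 yb13 zb5) (kb xb10 yb8 zb10) (kb xb8 yb24 zb17) (kb xb10 yb9 zb6) (kb xb6 yb13 zb6) (kb xb14 yb9 zb11) (kb xb14 yb9 zb16) (kb xb14 yb9 zb17) (kb xb6 yb13 zb10) (kb xb14 yb7 zb34) (kb xb10 yb7 zb32) (kb xb11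 yb18 zb4) (kb xb14 yb9 zb19) (kb xb6 yb13 zb12) (kb xb10 yb10 zb2) (kb xb14 yb9 zb21) (kb xb6 yb13 zb13) (kb xb12 yb6 zb33)) (@D3.rec (fun _ => Pt) (kb xb10 yb10 zb1) (kb xb10 yb9 zb37) (kb xb14 yb9 zb27) (kb xb14 yb9 zb28) (kb xb10 yb8 zb4) (kb xb14 yb9 zb30) (kb xb6 yb13 zb19) (kb xb14 yb9 zb31) (kb xb14 yb9 zb32) (kb xb10 yb8 zb9) (kb xb10 yb7 zb23) (kb xb8 yb20 zb9) (kb xb8 yb4 zb31) (kb xb6 yb13 zb24) (kb xb6 yb13 zb25) (kb xb13 yb1 zb5) (kb xb13 yb1 zb2) (kb xb6 yb13 zb28) (kb xb6 yb13 zb30) (kb xb14 yb9 zb35) (kb xb6 yb13 zb34) (kb xb10 yb9 zb14) (kb xb14 yb9 zb37) (kb xb6 yb14 zb20) (kb xb6 yb13 zb38) (kb xb14 yb8 zb7) (kb xb6 yb14 zb16) (kb xb10 yb9 zb15) (kb xb6 yb14 zb2) (kb xb13 yb11 zb16) (kb xb14 yb7 zb25) (kb xb6 yb14 zb4) (kb xb8 yb22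 zb3) (kb xb8 yb24 zb29) (kb xb6 yb14 zb8) (kb xb6 yb14 zb9) (kb xb6 yb14 zb7) (kb xb14 yb10 zb6) (kb xb14 yb10 zb7) (kb xb14 yb10 zb8)) (@D3.rec (fun _ => Pt) (kb xb14 yb10 zb9) (kb xb6 yb14 zb12) (kb xb6 yb14 zb37) (kb xb14 yb10 zb3) (kb xb8 yb24 zb0) (kb xb8 yb24 zb7) (kb xb10 yb7 zb25) (kb xb13 yb3 zb35) (kb xb6 yb14 zb21) (kb xb8 yb24 zb38) (kb xb6 yb14 zb23) (kb xb14 yb10 zb12) (kb xb6 yb14 zb24) (kb xb13 yb4 zb24) (kb xb10 yb8 zb21) (kb xb10 yb8 zb27) (kb xb12 yb6 zb20) (kb xb6 yb14 zb28) (kb xb10 yb3 zb22) (kb xb6 yb14 zb33) (kb xb14 yb10 zb14) (kb xb6 yb14 zb36) (kb xb11 yb12 zb1) (kb xb11 yb23 zb24) (kb xb14 yb10 zb16) (kb xb14 yb10 zb17) (kb xb8 yb25 zb19) (kb xb10 yb7 zb2) (kb xb6 yb15 zb0) (kb xb14 yb10 zb19) (kb xb14 yb10 zb24) (kb xb14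 yb10 zb25) (kb xb6 yb15 zb4) (kb xb14 yb7 zb36) (kb xb11 yb13 zb1) (kb xb14 yb10 zb27) (kb xb6 yb15 zb6) (kb xb10 yb8 zb1) (kb xb14 yb10 zb29) (kb xb6 yb15 zb7)) (@D3.rec (fun _ => Pt) (kb xb12 yb6 zb37) (kb xb10 yb8 zb0) (kb xb10 yb7 zb36) (kb xb14 yb10 zb35) (kb xb14 yb10 zb36) (kb xb14 yb10 zb37) (kb xb10 yb3 zb18) (kb xb10 yb10 zb28) (kb xb14 yb10 zb39) (kb xb6 yb15 zb16) (kb xb11 yb11 zb10) (kb xb8 yb25 zb38) (kb xb14 yb11 zb3) (kb xb10 yb10 zb33) (kb xb6 yb15 zb21) (kb xb8 yb23 zb18) (kb xb14 yb9 zb5) (kb xb6 yb15 zb25) (kb xb6 yb15 zb26) (kb xb6 yb15 zb28) (kb xb8 yb24 zb14) (kb xb14 yb11 zb1) (kb xb10 yb10 zb25) (kb xb8 yb25 zb16) (kb xb14 yb11 zb4) (kb xb10 yb10 zb22) (kb xb14 yb11 zb11) (kb xb10 yb4 zb33) (kb xb10 yb10 zb7) (kb xb14 yb11 zb13)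 (kb xb6 yb15 zb37) (kb xb11 yb16 zb19) (kb xb8 yb25 zb39) (kb xb10 yb10 zb13) (kb xb14 yb11 zb16) (kb xb6 yb16 zb3) (kb xb8 yb24 zb31) (kb xb14 yb10 zb13) (kb xb6 yb16 zb6) (kb xb6 yb16 zb7)) (@D3.rec (fun _ => Pt) (kb xb6 yb16 zb9) (kb xb8 yb24 zb12) (kb xb14 yb11 zb14) (kb xb10 yb11 zb6) (kb xb8 yb24 zb11) (kb xb14 yb11 zb17) (kb xb10 yb11 zb3) (kb xb9 yb16 zb18) (kb xb14 yb4 zb26) (kb xb14 yb11 zb26) (kb xb9 yb17 zb13) (kb xb14 yb5 zb7) (kb xb14 yb11 zb30) (kb xb8 yb0 zb31) (kb xb7 yb6 zb20) (kb xb8 yb0 zb35) (kb xb7 yb7 zb25) (kb xb6 yb16 zb39) (kb xb6 yb23 zb22) (kb xb6 yb16 zb24) (kb xb13 yb2 zb2) (kb xb6 yb17 zb3) (kb xb6 yb17 zb7) (kb xb7 yb0 zb4) (kb xb6 yb16 zb27) (kb xb13 yb1 zb39) (kb xb6 yb17 zb11) (kb xb6 yb16 zb29) (kb xb14 yb11 zb34)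 (kb xb12 yb9 zb4) (kb xb14 yb11 zb39) (kb xb6 yb16 zb31) (kb xb10 yb20 zb15) (kb xb8 yb7 zb35) (kb xb8 yb7 zb26) (kb xb6 yb16 zb33) (kb xb14 yb12 zb6) (kb xb12 yb9 zb10) (kb xb14 yb12 zb11) (kb xb6 yb16 zb35)) (@D3.rec (fun _ => Pt) (kb xb10 yb18 zb26) (kb xb8 yb7 zb30) (kb xb8 yb7 zb23) (kb xb7 yb2 zb11) (kb xb10 yb21 zb24) (kb xb10 yb21 zb5) (kb xb13 yb23 zb38) (kb xb14 yb11 zb31) (kb xb11 yb3 zb29) (kb xb6 yb23 zb18) (kb xb7 yb3 zb2) (kb xb10 yb25 zb23) (kb xb10 yb25 zb6) (kb xb13 yb25 zb7) (kb xb14 yb11 zb32) (kb xb11 yb5 zb0) (kb xb6 yb25 zb39) (kb xb6 yb17 zb14) (kb xb10 yb12 zb18) (kb xb10 yb12 zb19) (kb xb6 yb17 zb17) (kb xb14 yb12 zb28) (kb xb6 yb17 zb18) (kb xb14 yb12 zb29) (kb xb12 yb8 zb24) (kb xb6 yb17 zb20) (kb xb12 yb8 zb28) (kb xb6 yb17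 zb22) (kb xb10 yb12 zb28) (kb xb6 yb18 zb25) (kb xb10 yb12 zb33) (kb xb10 yb12 zb31) (kb xb6 yb18 zb27) (kb xb10 yb12 zb30) (kb xb13 yb22 zb1) (kb xb14 yb12 zb34) (kb xb6 yb17 zb34) (kb xb14 yb13 zb2) (kb xb13 yb22 zb23) (kb xb14 yb12 zb31)) (@D3.rec (fun _ => Pt) (kb xb6 yb18 zb0) (kb xb14 yb13 zb7) (kb xb9 yb4 zb11) (kb xb8 yb8 zb39) (kb xb9 yb4 zb39) (kb xb14 yb13 zb10) (kb xb6 yb17 zb33) (kb xb13 yb19 zb9) (kb xb14 yb13 zb0) (kb xb14 yb13 zb13) (kb xb6 yb17 zb35) (kb xb14 yb13 zb17) (kb xb8 yb9 zb11) (kb xb9 yb4 zb24) (kb xb9 yb5 zb37) (kb xb14 yb13 zb20) (kb xb6 yb17 zb39) (kb xb13 yb20 zb24) (kb xb14 yb13 zb5) (kb xb14 yb13 zb23) (kb xb6 yb18 zb1) (kb xb14 yb13 zb27) (kb xb10 yb21 zb37) (kb xb9 yb23 zb23) (kb xb14 yb13 zb29) (kb xb6 yb18 zb7)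 (kb xb14 yb13 zb30) (kb xb8 yb13 zb17) (kb xb14 yb13 zb33) (kb xb14 yb13 zb35) (kb xb6 yb18 zb11) (kb xb14 yb13 zb39) (kb xb10 yb22 zb38) (kb xb6 yb18 zb13) (kb xb10 yb25 zb37) (kb xb9 yb24 zb20) (kb xb14 yb14 zb1) (kb xb6 yb18 zb18) (kb xb14 yb14 zb2) (kb xb8 yb13 zb31)) (@D3.rec (fun _ => Pt) (kb xb14 yb14 zb5) (kb xb14 yb14 zb7) (kb xb6 yb18 zb22) (kb xb14 yb14 zb11) (kb xb11 yb0 zb37) (kb xb6 yb18 zb24) (kb xb14 yb14 zb12) (kb xb14 yb14 zb13) (kb xb6 yb19 zb3) (kb xb13 yb18 zb10) (kb xb6 yb18 zb32) (kb xb14 yb14 zb17) (kb xb6 yb19 zb12) (kb xb6 yb19 zb19) (kb xb13 yb18 zb30) (kb xb6 yb18 zb37) (kb xb14 yb14 zb24) (kb xb6 yb19 zb28) (kb xb12 yb9 zb28) (kb xb14 yb14 zb29) (kb xb13 yb18 zb29) (kb xb10 yb20 zb13) (kb xb14 yb14 zb31) (kb xb6 yb19 zb4)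 (kb xb14 yb14 zb32) (kb xb6 yb19 zb7) (kb xb10 yb17 zb33) (kb xb6 yb19 zb6) (kb xb14 yb14 zb37) (kb xb14 yb14 zb34) (kb xb14 yb15 zb2) (kb xb14 yb15 zb3) (kb xb14 yb14 zb36) (kb xb6 yb19 zb10) (kb xb14 yb15 zb6) (kb xb14 yb15 zb11) (kb xb14 yb15 zb12) (kb xb14 yb14 zb20) (kb xb14 yb15 zb16) (kb xb6 yb19 zb13)) (@D3.rec (fun _ => Pt) (kb xb14 yb15 zb20) (kb xb6 yb19 zb14) (kb xb14 yb15 zb22) (kb xb12 yb10 zb0) (kb xb10 yb18 zb24) (kb xb13 yb18 zb8) (kb xb14 yb15 zb25) (kb xb6 yb19 zb20) (kb xb14 yb15 zb26) (kb xb6 yb19 zb23) (kb xb10 yb19 zb23) (kb xb6 yb19 zb22) (kb xb14 yb15 zb31) (kb xb14 yb15 zb28) (kb xb14 yb15 zb36) (kb xb14 yb15 zb37) (kb xb14 yb15 zb30) (kb xb6 yb19 zb26) (kb xb14 yb16 zb0) (kb xb14 yb16 zb5) (kb xb14 yb16 zb6) (kb xb14 yb14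 zb27) (kb xb14 yb16 zb10) (kb xb6 yb19 zb29) (kb xb14 yb16 zb14) (kb xb6 yb19 zb30) (kb xb10 yb15 zb26) (kb xb11 yb3 zb8) (kb xb6 yb23 zb25) (kb xb10 yb22 zb30) (kb xb14 yb16 zb16) (kb xb11 yb3 zb9) (kb xb14 yb16 zb17) (kb xb6 yb20 zb0) (kb xb6 yb20 zb1) (kb xb14 yb16 zb18) (kb xb10 yb21 zb34) (kb xb6 yb20 zb7) (kb xb14 yb16 zb26) (kb xb11 yb21 zb5)) (@D3.rec (fun _ => Pt) (kb xb6 yb20 zb9) (kb xb6 yb20 zb6) (kb xb14 yb16 zb28) (kb xb14 yb16 zb33) (kb xb14 yb16 zb24) (kb xb14 yb16 zb38) (kb xb6 yb20 zb8) (kb xb14 yb17 zb0) (kb xb6 yb20 zb11) (kb xb14 yb17 zb7) (kb xb14 yb16 zb30) (kb xb14 yb17 zb8) (kb xb14 yb17 zb4) (kb xb14 yb17 zb12) (kb xb6 yb20 zb12) (kb xb12 yb18 zb31) (kb xb9 yb7 zb4) (kb xb14 yb17 zb19) (kb xb14 yb17 zb21) (kb xb6 yb20 zb15)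 (kb xb14 yb17 zb25) (kb xb14 yb17 zb26) (kb xb6 yb20 zb17) (kb xb14 yb17 zb28) (kb xb11 yb4 zb20) (kb xb10 yb16 zb25) (kb xb11 yb0 zb29) (kb xb7 yb0 zb7) (kb xb11 yb4 zb21) (kb xb14 yb17 zb29) (kb xb14 yb17 zb30) (kb xb6 yb20 zb28) (kb xb6 yb20 zb29) (kb xb14 yb17 zb31) (kb xb10 yb25 zb34) (kb xb6 yb20 zb35) (kb xb14 yb17 zb39) (kb xb11 yb19 zb26) (kb xb6 yb20 zb37) (kb xb6 yb20 zb34)) (@D3.rec (fun _ => Pt) (kb xb14 yb18 zb1) (kb xb14 yb18 zb6) (kb xb14 yb17 zb37) (kb xb14 yb18 zb11) (kb xb6 yb20 zb36) (kb xb14 yb18 zb13) (kb xb6 yb20 zb39) (kb xb14 yb18 zb2) (kb xb14 yb18 zb20) (kb xb14 yb18 zb21) (kb xb14 yb18 zb17) (kb xb14 yb18 zb25) (kb xb6 yb21 zb0) (kb xb12 yb19 zb11) (kb xb9 yb7 zb10) (kb xb14 yb18 zb32) (kb xb14 yb18 zb34) (kb xb6 yb21 zb3)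 (kb xb14 yb18 zb38) (kb xb14 yb18 zb39) (kb xb6 yb21 zb5) (kb xb14 yb19 zb1) (kb xb6 yb21 zb7) (kb xb14 yb12 zb4) (kb xb12 yb11 zb4) (kb xb10 yb19 zb15) (kb xb6 yb21 zb9) (kb xb10 yb22 zb12) (kb xb14 yb19 zb7) (kb xb6 yb21 zb12) (kb xb6 yb21 zb13) (kb xb13 yb21 zb36) (kb xb6 yb21 zb16) (kb xb10 yb14 zb26) (kb xb6 yb21 zb15) (kb xb14 yb12 zb3) (kb xb6 yb22 zb8) (kb xb14 yb19 zb13) (kb xb14 yb19 zb20) (kb xb8 yb6 zb29)) (@D3.rec (fun _ => Pt) (kb xb6 yb21 zb19) (kb xb14 yb19 zb23) (kb xb14 yb19 zb25) (kb xb6 yb21 zb20) (kb xb6 yb21 zb21) (kb xb14 yb19 zb27) (kb xb10 yb18 zb11) (kb xb6 yb21 zb23) (kb xb6 yb21 zb29) (kb xb14 yb19 zb37) (kb xb6 yb21 zb25) (kb xb10 yb18 zb6) (kb xb6 yb21 zb33) (kb xb9 yb18 zb6) (kb xb12 yb1 zb2) (kb xb14 yb20 zb4) (kb xb10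 yb19 zb12) (kb xb6 yb21 zb36) (kb xb6 yb21 zb28) (kb xb14 yb20 zb9) (kb xb14 yb20 zb13) (kb xb14 yb19 zb35) (kb xb14 yb20 zb17) (kb xb6 yb21 zb30) (kb xb10 yb15 zb4) (kb xb14 yb20 zb19) (kb xb10 yb12 zb0) (kb xb14 yb20 zb23) (kb xb9 yb15 zb37) (kb xb14 yb20 zb1) (kb xb14 yb20 zb29) (kb xb10 yb20 zb20) (kb xb6 yb21 zb35) (kb xb9 yb14 zb39) (kb xb14 yb20 zb32) (kb xb6 yb21 zb38) (kb xb14 yb21 zb0) (kb xb14 yb20 zb11) (kb xb14 yb20 zb37) (kb xb14 yb21 zb4)) (@D3.rec (fun _ => Pt) (kb xb6 yb21 zb39) (kb xb14 yb21 zb6) (kb xb6 yb22 zb1) (kb xb14 yb21 zb10) (kb xb14 yb21 zb15) (kb xb14 yb21 zb17) (kb xb6 yb22 zb3) (kb xb14 yb21 zb21) (kb xb14 yb21 zb22) (kb xb6 yb22 zb5) (kb xb13 yb18 zb9) (kb xb14 yb21 zb24) (kb xb10 yb18 zb16) (kb xb14 yb12 zb16) (kb xb12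 yb11 zb20) (kb xb10 yb17 zb25) (kb xb6 yb22 zb9) (kb xb11 yb0 zb11) (kb xb6 yb22 zb11) (kb xb14 yb21 zb33) (kb xb6 yb22 zb13) (kb xb13 yb22 zb18) (kb xb6 yb22 zb16) (kb xb10 yb15 zb10) (kb xb6 yb22 zb15) (kb xb14 yb12 zb15) (kb xb14 yb21 zb38) (kb xb14 yb22 zb4) (kb xb8 yb6 zb30) (kb xb6 yb22 zb19) (kb xb14 yb22 zb7) (kb xb14 yb22 zb9) (kb xb6 yb22 zb20) (kb xb6 yb22 zb21) (kb xb14 yb22 zb11) (kb xb10 yb20 zb0) (kb xb6 yb22 zb23) (kb xb6 yb22 zb29) (kb xb14 yb22 zb21) (kb xb6 yb22 zb25)) (@D3.rec (fun _ => Pt) (kb xb10 yb19 zb35) (kb xb6 yb22 zb33) (kb xb9 yb18 zb25) (kb xb12 yb1 zb1) (kb xb14 yb22 zb28) (kb xb6 yb22 zb35) (kb xb10 yb21 zb1) (kb xb6 yb22 zb28) (kb xb14 yb22 zb33) (kb xb14 yb22 zb37) (kb xb14 yb22 zb19) (kb xb14 yb23 zb1) (kb xb6 yb22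 zb30) (kb xb10 yb14 zb21) (kb xb14 yb23 zb3) (kb xb10 yb11 zb32) (kb xb14 yb23 zb7) (kb xb9 yb16 zb14) (kb xb14 yb22 zb25) (kb xb14 yb23 zb13) (kb xb10 yb18 zb31) (kb xb9 yb15 zb5) (kb xb6 yb22 zb36) (kb xb14 yb23 zb16) (kb xb6 yb22 zb38) (kb xb14 yb22 zb34) (kb xb14 yb23 zb25) (kb xb14 yb23 zb21) (kb xb14 yb23 zb28) (kb xb6 yb22 zb39) (kb xb14 yb23 zb30) (kb xb6 yb23 zb1) (kb xb14 yb23 zb34) (kb xb14 yb23 zb38) (kb xb14 yb24 zb0) (kb xb6 yb23 zb3) (kb xb14 yb24 zb4) (kb xb14 yb24 zb5) (kb xb6 yb23 zb5) (kb xb13 yb18 zb28)) (@D3.rec (fun _ => Pt) (kb xb14 yb24 zb7) (kb xb10 yb20 zb6) (kb xb9 yb16 zb22) (kb xb14 yb24 zb12) (kb xb6 yb23 zb10) (kb xb10 yb12 zb5) (kb xb14 yb24 zb17) (kb xb14 yb24 zb18) (kb xb6 yb23 zb13) (kb xb14 yb24 zb22) (kb xb6 yb23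 zb14) (kb xb14 yb24 zb26) (kb xb6 yb23 zb19) (kb xb10 yb23 zb7) (kb xb6 yb23 zb16) (kb xb14 yb24 zb24) (kb xb11 yb3 zb18) (kb xb14 yb24 zb29) (kb xb14 yb24 zb39) (kb xb14 yb24 zb32) (kb xb6 yb23 zb23) (kb xb14 yb25 zb4) (kb xb14 yb25 zb5) (kb xb6 yb23 zb26) (kb xb10 yb12 zb4) (kb xb6 yb23 zb27) (kb xb14 yb25 zb9) (kb xb14 yb24 zb15) (kb xb8 yb9 zb14) (kb xb12 yb2 zb1) (kb xb6 yb23 zb32) (kb xb6 yb23 zb33) (kb xb14 yb25 zb14) (kb xb12 yb25 zb2) (kb xb10 yb15 zb36) (kb xb6 yb23 zb35) (kb xb14 yb25 zb21) (kb xb10 yb13 zb22) (kb xb6 yb24 zb1) (kb xb11 yb21 zb10)) (@D3.rec (fun _ => Pt) (kb xb6 yb24 zb20) (kb xb11 yb2 zb8) (kb xb6 yb23 zb39) (kb xb14 yb25 zb28) (kb xb14 yb25 zb32) (kb xb14 yb25 zb33) (kb xb14 yb25 zb25) (kb xb14 yb25 zb38) (kb xb6 yb24 zb2)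 (kb xb12 yb8 zb23) (kb xb12 yb9 zb15) (kb xb12 yb13 zb27) (kb xb10 yb17 zb27) (kb xb6 yb24 zb8) (kb xb7 yb23 zb26) (kb xb15 yb0 zb7) (kb xb8 yb15 zb12) (kb xb12 yb2 zb0) (kb xb6 yb24 zb7) (kb xb8 yb10 zb27) (kb xb15 yb0 zb9) (kb xb6 yb24 zb9) (kb xb6 yb24 zb12) (kb xb15 yb0 zb12) (kb xb15 yb0 zb13) (kb xb6 yb24 zb14) (kb xb6 yb24 zb15) (kb xb6 yb24 zb16) (kb xb14 yb25 zb19) (kb xb15 yb0 zb11) (kb xb10 yb15 zb29) (kb xb14 yb25 zb3) (kb xb12 yb7 zb7) (kb xb11 yb3 zb11) (kb xb7 yb2 zb16) (kb xb15 yb0 zb29) (kb xb14 yb2 zb24) (kb xb7 yb20 zb21) (kb xb10 yb13 zb32) (kb xb6 yb24 zb38)) (@D3.rec (fun _ => Pt) (kb xb15 yb0 zb35) (kb xb15 yb0 zb37) (kb xb13 yb8 zb34) (kb xb6 yb24 zb24) (kb xb15 yb1 zb0) (kb xb11 yb10 zb34) (kb xb15 yb1 zb7) (kb xb10 yb21 zb13)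 (kb xb6 yb24 zb28) (kb xb10 yb25 zb0) (kb xb6 yb25 zb13) (kb xb15 yb1 zb15) (kb xb15 yb1 zb11) (kb xb6 yb24 zb29) (kb xb15 yb1 zb18) (kb xb15 yb1 zb19) (kb xb15 yb1 zb25) (kb xb15 yb1 zb26) (kb xb6 yb24 zb31) (kb xb15 yb1 zb30) (kb xb6 yb24 zb34) (kb xb10 yb24 zb23) (kb xb9 yb3 zb27) (kb xb15 yb1 zb33) (kb xb15 yb1 zb38) (kb xb9 yb17 zb7) (kb xb15 yb2 zb2) (kb xb12 yb17 zb33) (kb xb12 yb24 zb36) (kb xb15 yb2 zb6) (kb xb6 yb24 zb39) (kb xb15 yb2 zb9) (kb xb6 yb25 zb1) (kb xb15 yb2 zb10) (kb xb15 yb2 zb15) (kb xb15 yb2 zb16) (kb xb7 yb3 zb11) (kb xb6 yb25 zb5) (kb xb15 yb2 zb22) (kb xb15 yb2 zb24)) (@D3.rec (fun _ => Pt) (kb xb15 yb2 zb19) (kb xb15 yb2 zb26) (kb xb15 yb2 zb27) (kb xb6 yb25 zb6) (kb xb6 yb25 zb7) (kb xb15 yb2 zb29) (kb xb6 yb25 zb10) (kb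 xb15 yb2 zb32) (kb xb11 yb0 zb1) (kb xb15 yb2 zb37) (kb xb15 yb2 zb38) (kb xb6 yb25 zb15) (kb xb15 yb3 zb4) (kb xb15 yb1 zb13) (kb xb6 yb25 zb12) (kb xb13 yb13 zb29) (kb xb13 yb19 zb16) (kb xb6 yb25 zb14) (kb xb15 yb3 zb9) (kb xb15 yb3 zb14) (kb xb12 yb5 zb32) (kb xb6 yb25 zb16) (kb xb6 yb25 zb18) (kb xb10 yb23 zb21) (kb xb15 yb3 zb17) (kb xb15 yb3 zb21) (kb xb6 yb25 zb20) (kb xb6 yb25 zb21) (kb xb15 yb3 zb33) (kb xb15 yb1 zb21) (kb xb15 yb3 zb27) (kb xb15 yb3 zb38) (kb xb15 yb3 zb30) (kb xb15 yb4 zb1) (kb xb6 yb25 zb22) (kb xb15 yb4 zb4) (kb xb15 yb4 zb5) (kb xb6 yb25 zb24) (kb xb13 yb2 zb18) (kb xb6 yb25 zb27)) (@D3.rec (fun _ => Pt) (kb xb10 yb23 zb9) (kb xb15 yb4 zb13) (kb xb15 yb4 zb14) (kb xb9 yb17 zb16) (kb xb15 yb4 zb16) (kb xb6 yb25 zb32) (kb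 xb10 yb12 zb12) (kb xb15 yb4 zb19) (kb xb6 yb25 zb34) (kb xb15 yb4 zb23) (kb xb15 yb4 zb24) (kb xb15 yb4 zb25) (kb xb7 yb0 zb0) (kb xb11 yb1 zb6) (kb xb6 yb25 zb37) (kb xb6 yb25 zb38) (kb xb11 yb4 zb29) (kb xb15 yb4 zb28) (kb xb15 yb4 zb39) (kb xb15 yb4 zb33) (kb xb7 yb0 zb3) (kb xb15 yb5 zb4) (kb xb7 yb0 zb6) (kb xb10 yb12 zb11) (kb xb15 yb5 zb7) (kb xb15 yb5 zb8) (kb xb15 yb2 zb30) (kb xb7 yb0 zb10) (kb xb12 yb1 zb35) (kb xb8 yb10 zb20) (kb xb7 yb0 zb13) (kb xb7 yb0 zb14) (kb xb15 yb5 zb14) (kb xb12 yb23 zb30) (kb xb10 yb16 zb34) (kb xb7 yb0 zb16) (kb xb15 yb5 zb21) (kb xb10 yb13 zb34) (kb xb7 yb0 zb21) (kb xb11 yb19 zb30))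
def f_b_11 : D2 → D3 → Pt := @D2.rec (fun _ => D3 → Pt) (@D3.rec (fun _ => Pt) (kb xb7 yb1 zb0) (kb xb10 yb24 zb8) (kb xb7 yb0 zb20) (kb xb15 yb5 zb28) (kb xb15 yb5 zb31) (kb xb15 yb5 zb25) (kb xb15 yb5 zb36) (kb xb7 yb0 zb22) (kb xb12 yb8 zb27) (kb xb12 yb15 zb17) (kb xb12 yb9 zb22) (kb xb10 yb19 zb17) (kb xb7 yb0 zb28) (kb xb15 yb0 zb5) (kb xb7 yb23 zb30) (kb xb8 yb14 zb36) (kb xb7 yb0 zb26) (kb xb8 yb9 zb20) (kb xb12 yb2 zb6) (kb xb15 yb0 zb8) (kb xb7 yb0 zb29) (kb xb7 yb0 zb32) (kb xb15 yb6 zb6) (kb xb15 yb6 zb7) (kb xb7 yb0 zb34) (kb xb7 yb0 zb35) (kb xb7 yb0 zb36) (kb xb15 yb5 zb19) (kb xb15 yb6 zb5) (kb xb10 yb16 zb26) (kb xb15 yb5 zb3) (kb xb12 yb7 zb32) (kb xb7 yb3 zb7) (kb xb11 yb4 zb23) (kb xb15 yb6 zb23) (kb xb14 yb3 zb11) (kb xb7 yb19 zb17)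 (kb xb10 yb14 zb4) (kb xb7 yb1 zb18) (kb xb15 yb6 zb29)) (@D3.rec (fun _ => Pt) (kb xb15 yb6 zb31) (kb xb13 yb7 zb24) (kb xb7 yb1 zb4) (kb xb15 yb6 zb34) (kb xb15 yb7 zb1) (kb xb11 yb16 zb5) (kb xb10 yb25 zb13) (kb xb7 yb1 zb8) (kb xb7 yb1 zb32) (kb xb11 yb2 zb39) (kb xb15 yb1 zb16) (kb xb15 yb1 zb10) (kb xb7 yb1 zb9) (kb xb15 yb7 zb8) (kb xb15 yb7 zb9) (kb xb15 yb7 zb15) (kb xb15 yb7 zb16) (kb xb7 yb1 zb11) (kb xb15 yb7 zb20) (kb xb7 yb1 zb14) (kb xb11 yb2 zb22) (kb xb9 yb4 zb3) (kb xb15 yb7 zb23) (kb xb15 yb7 zb28) (kb xb9 yb18 zb1) (kb xb15 yb7 zb32) (kb xb12 yb16 zb14) (kb xb12 yb23 zb24) (kb xb15 yb7 zb36) (kb xb7 yb1 zb19) (kb xb15 yb7 zb39) (kb xb7 yb1 zb21) (kb xb15 yb8 zb0) (kb xb15 yb8 zb4) (kb xb15 yb8 zb5) (kb xb7 yb2 zb20) (kb xb7 yb1 zb25)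 (kb xb15 yb8 zb11) (kb xb15 yb8 zb12) (kb xb15 yb8 zb8)) (@D3.rec (fun _ => Pt) (kb xb15 yb8 zb14) (kb xb15 yb8 zb15) (kb xb7 yb1 zb26) (kb xb7 yb1 zb27) (kb xb14 yb24 zb16) (kb xb7 yb1 zb30) (kb xb15 yb8 zb18) (kb xb15 yb8 zb23) (kb xb10 yb22 zb1) (kb xb15 yb8 zb24) (kb xb7 yb1 zb35) (kb xb15 yb7 zb4) (kb xb15 yb8 zb31) (kb xb13 yb20 zb31) (kb xb7 yb1 zb33) (kb xb13 yb15 zb0) (kb xb7 yb1 zb34) (kb xb15 yb8 zb35) (kb xb15 yb8 zb39) (kb xb12 yb5 zb3) (kb xb7 yb1 zb36) (kb xb7 yb1 zb38) (kb xb11 yb1 zb20) (kb xb15 yb9 zb2) (kb xb15 yb9 zb6) (kb xb7 yb2 zb0) (kb xb7 yb2 zb1) (kb xb15 yb7 zb10) (kb xb15 yb9 zb19) (kb xb15 yb9 zb12) (kb xb15 yb9 zb23) (kb xb15 yb9 zb15) (kb xb15 yb9 zb26) (kb xb7 yb2 zb2) (kb xb15 yb9 zb29) (kb xb15 yb9 zb30) (kb xb7 yb2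 zb4) (kb xb13 yb2 zb20) (kb xb7 yb2 zb7) (kb xb11 yb1 zb9)) (@D3.rec (fun _ => Pt) (kb xb15 yb9 zb38) (kb xb15 yb9 zb39) (kb xb15 yb0 zb19) (kb xb12 yb3 zb5) (kb xb15 yb10 zb0) (kb xb7 yb2 zb13) (kb xb14 yb25 zb1) (kb xb8 yb6 zb5) (kb xb10 yb15 zb27) (kb xb10 yb15 zb31) (kb xb12 yb1 zb17) (kb xb10 yb22 zb33) (kb xb7 yb2 zb19) (kb xb7 yb2 zb22) (kb xb9 yb6 zb32) (kb xb15 yb10 zb7) (kb xb15 yb8 zb6) (kb xb13 yb14 zb28) (kb xb10 yb21 zb16) (kb xb15 yb10 zb15) (kb xb7 yb2 zb25) (kb xb15 yb10 zb8) (kb xb9 yb5 zb13) (kb xb11 yb16 zb9) (kb xb14 yb25 zb39) (kb xb7 yb2 zb24) (kb xb15 yb10 zb25) (kb xb7 yb2 zb27) (kb xb15 yb10 zb32) (kb xb10 yb12 zb8) (kb xb15 yb10 zb35) (kb xb15 yb10 zb29) (kb xb15 yb11 zb2) (kb xb15 yb11 zb3) (kb xb7 yb2 zb28) (kb xb7 yb2 zb29)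 (kb xb9 yb21 zb16) (kb xb9 yb21 zb11) (kb xb15 yb11 zb12) (kb xb15 yb11 zb14)) (@D3.rec (fun _ => Pt) (kb xb11 yb4 zb10) (kb xb9 yb5 zb8) (kb xb15 yb11 zb18) (kb xb15 yb11 zb19) (kb xb7 yb2 zb34) (kb xb7 yb2 zb35) (kb xb7 yb2 zb36) (kb xb15 yb11 zb25) (kb xb15 yb11 zb30) (kb xb15 yb11 zb31) (kb xb11 yb4 zb0) (kb xb9 yb21 zb0) (kb xb15 yb11 zb34) (kb xb15 yb11 zb35) (kb xb15 yb6 zb12) (kb xb12 yb3 zb12) (kb xb15 yb11 zb36) (kb xb7 yb3 zb4) (kb xb15 yb5 zb1) (kb xb8 yb5 zb36) (kb xb10 yb16 zb24) (kb xb10 yb16 zb28) (kb xb12 yb1 zb26) (kb xb11 yb0 zb33) (kb xb7 yb3 zb10) (kb xb9 yb6 zb38) (kb xb7 yb3 zb14) (kb xb15 yb12 zb3) (kb xb15 yb2 zb17) (kb xb10 yb25 zb16) (kb xb13 yb13 zb14) (kb xb15 yb12 zb11) (kb xb7 yb3 zb16) (kb xb9 yb6 zb11) (kb xb15 yb12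 zb5) (kb xb15 yb5 zb37) (kb xb11 yb11 zb0) (kb xb7 yb3 zb15) (kb xb15 yb12 zb21) (kb xb7 yb3 zb18)) (@D3.rec (fun _ => Pt) (kb xb10 yb12 zb15) (kb xb15 yb12 zb29) (kb xb15 yb12 zb31) (kb xb15 yb12 zb25) (kb xb15 yb12 zb38) (kb xb15 yb12 zb39) (kb xb7 yb3 zb19) (kb xb7 yb3 zb20) (kb xb9 yb22 zb11) (kb xb9 yb22 zb6) (kb xb15 yb13 zb8) (kb xb15 yb13 zb10) (kb xb9 yb6 zb6) (kb xb11 yb5 zb23) (kb xb15 yb13 zb14) (kb xb15 yb13 zb15) (kb xb7 yb3 zb25) (kb xb7 yb3 zb26) (kb xb7 yb3 zb27) (kb xb15 yb13 zb21) (kb xb15 yb13 zb26) (kb xb15 yb13 zb27) (kb xb9 yb21 zb34) (kb xb11 yb5 zb13) (kb xb15 yb13 zb30) (kb xb15 yb13 zb31) (kb xb15 yb13 zb32) (kb xb7 yb3 zb32) (kb xb15 yb13 zb37) (kb xb7 yb3 zb34) (kb xb15 yb13 zb35) (kb xb9 yb7 zb7) (kb xb15 yb14 zb2) (kb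 xb15 yb14 zb7) (kb xb7 yb3 zb36) (kb xb15 yb14 zb12) (kb xb7 yb3 zb38) (kb xb9 yb7 zb12) (kb xb15 yb14 zb11) (kb xb15 yb14 zb17)) (@D3.rec (fun _ => Pt) (kb xb11 yb20 zb1) (kb xb11 yb21 zb18) (kb xb8 yb9 zb18) (kb xb15 yb6 zb9) (kb xb7 yb4 zb8) (kb xb8 yb10 zb24) (kb xb15 yb0 zb15) (kb xb7 yb4 zb11) (kb xb7 yb4 zb16) (kb xb7 yb6 zb22) (kb xb7 yb7 zb27) (kb xb7 yb4 zb19) (kb xb7 yb4 zb20) (kb xb7 yb5 zb1) (kb xb7 yb8 zb34) (kb xb7 yb5 zb10) (kb xb7 yb13 zb0) (kb xb7 yb16 zb16) (kb xb11 yb10 zb14) (kb xb10 yb3 zb5) (kb xb11 yb10 zb32) (kb xb12 yb11 zb35) (kb xb11 yb19 zb38) (kb xb7 yb17 zb34) (kb xb11 yb15 zb26) (kb xb10 yb1 zb35) (kb xb11 yb16 zb3) (kb xb12 yb13 zb30) (kb xb11 yb21 zb16) (kb xb11 yb10 zb24) (kb xb15 yb14 zb34) (kb xb7 yb5 zb23) (kb xb7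 yb5 zb25) (kb xb7 yb5 zb26) (kb xb15 yb14 zb36) (kb xb11 yb10 zb11) (kb xb11 yb11 zb24) (kb xb7 yb5 zb28) (kb xb11 yb15 zb37) (kb xb15 yb14 zb39)) (@D3.rec (fun _ => Pt) (kb xb7 yb5 zb37) (kb xb7 yb5 zb39) (kb xb7 yb6 zb0) (kb xb15 yb15 zb1) (kb xb11 yb15 zb23) (kb xb11 yb16 zb31) (kb xb7 yb6 zb2) (kb xb11 yb19 zb15) (kb xb8 yb2 zb37) (kb xb7 yb9 zb2) (kb xb11 yb11 zb17) (kb xb15 yb15 zb4) (kb xb7 yb6 zb16) (kb xb9 yb23 zb30) (kb xb11 yb10 zb22) (kb xb13 yb3 zb24) (kb xb7 yb13 zb5) (kb xb8 yb0 zb8) (kb xb7 yb6 zb31) (kb xb15 yb15 zb11) (kb xb7 yb6 zb25) (kb xb7 yb6 zb29) (kb xb11 yb8 zb0) (kb xb7 yb6 zb38) (kb xb7 yb20 zb11) (kb xb15 yb15 zb12) (kb xb7 yb19 zb4) (kb xb15 yb15 zb14) (kb xb7 yb6 zb32) (kb xb11 yb20 zb22) (kb xb7 yb6 zb35) (kb xb15 yb15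 zb17) (kb xb9 yb12 zb15) (kb xb7 yb7 zb0) (kb xb15 yb15 zb20) (kb xb7 yb6 zb37) (kb xb8 yb3 zb29) (kb xb15 yb15 zb21) (kb xb7 yb7 zb1) (kb xb7 yb16 zb39)) (@D3.rec (fun _ => Pt) (kb xb11 yb7 zb22) (kb xb12 yb7 zb12) (kb xb7 yb7 zb4) (kb xb15 yb15 zb27) (kb xb12 yb3 zb2) (kb xb15 yb15 zb30) (kb xb7 yb7 zb6) (kb xb7 yb7 zb7) (kb xb15 yb15 zb33) (kb xb7 yb7 zb9) (kb xb11 yb20 zb34) (kb xb8 yb2 zb38) (kb xb11 yb16 zb26) (kb xb7 yb13 zb8) (kb xb15 yb15 zb35) (kb xb7 yb7 zb22) (kb xb9 yb24 zb27) (kb xb11 yb15 zb35) (kb xb13 yb3 zb23) (kb xb7 yb9 zb1) (kb xb8 yb0 zb11) (kb xb7 yb7 zb36) (kb xb15 yb16 zb1) (kb xb7 yb7 zb30) (kb xb7 yb7 zb34) (kb xb7 yb8 zb2) (kb xb11 yb9 zb3) (kb xb7 yb20 zb2) (kb xb15 yb16 zb2) (kb xb7 yb17 zb27) (kb xb15 yb16 zb4) (kb xb7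 yb7 zb37) (kb xb11 yb21 zb39) (kb xb7 yb8 zb0) (kb xb15 yb16 zb7) (kb xb9 yb11 zb2) (kb xb7 yb8 zb5) (kb xb15 yb16 zb10) (kb xb7 yb8 zb3) (kb xb8 yb3 zb18)) (@D3.rec (fun _ => Pt) (kb xb15 yb16 zb11) (kb xb7 yb8 zb6) (kb xb7 yb18 zb17) (kb xb11 yb8 zb26) (kb xb12 yb7 zb37) (kb xb7 yb8 zb9) (kb xb15 yb16 zb17) (kb xb12 yb3 zb0) (kb xb15 yb16 zb19) (kb xb7 yb8 zb11) (kb xb7 yb8 zb12) (kb xb15 yb16 zb22) (kb xb7 yb8 zb14) (kb xb9 yb23 zb28) (kb xb9 yb11 zb7) (kb xb7 yb9 zb9) (kb xb7 yb15 zb24) (kb xb7 yb8 zb19) (kb xb15 yb16 zb30) (kb xb11 yb9 zb19) (kb xb11 yb12 zb12) (kb xb7 yb8 zb21) (kb xb11 yb20 zb23) (kb xb7 yb8 zb27) (kb xb9 yb25 zb14) (kb xb7 yb8 zb23) (kb xb13 yb13 zb5) (kb xb11 yb11 zb27) (kb xb7 yb8 zb29) (kb xb15 yb16 zb39) (kb xb9 yb10 zb15)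 (kb xb7 yb8 zb31) (kb xb9 yb23 zb33) (kb xb11 yb16 zb11) (kb xb9 yb7 zb38) (kb xb15 yb16 zb38) (kb xb15 yb17 zb3) (kb xb7 yb8 zb30) (kb xb11 yb17 zb14) (kb xb11 yb9 zb39)) (@D3.rec (fun _ => Pt) (kb xb13 yb2 zb3) (kb xb15 yb14 zb26) (kb xb15 yb15 zb5) (kb xb7 yb8 zb35) (kb xb7 yb16 zb19) (kb xb9 yb11 zb20) (kb xb7 yb10 zb7) (kb xb15 yb15 zb36) (kb xb8 yb2 zb39) (kb xb15 yb14 zb25) (kb xb11 yb15 zb24) (kb xb11 yb6 zb35) (kb xb15 yb17 zb10) (kb xb7 yb9 zb3) (kb xb11 yb6 zb18) (kb xb7 yb9 zb4) (kb xb15 yb17 zb12) (kb xb12 yb8 zb4) (kb xb7 yb9 zb8) (kb xb9 yb13 zb1) (kb xb15 yb16 zb26) (kb xb15 yb17 zb13) (kb xb11 yb7 zb14) (kb xb7 yb9 zb12) (kb xb11 yb6 zb29) (kb xb7 yb10 zb4) (kb xb15 yb17 zb17) (kb xb7 yb9 zb15) (kb xb15 yb17 zb19) (kb xb15 yb17 zb20)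 (kb xb15 yb17 zb21) (kb xb7 yb9 zb25) (kb xb11 yb6 zb20) (kb xb7 yb12 zb20) (kb xb10 yb23 zb5) (kb xb11 yb12 zb8) (kb xb7 yb9 zb23) (kb xb7 yb9 zb24) (kb xb13 yb16 zb0) (kb xb15 yb17 zb25)) (@D3.rec (fun _ => Pt) (kb xb11 yb4 zb36) (kb xb7 yb17 zb4) (kb xb11 yb15 zb7) (kb xb13 yb1 zb37) (kb xb7 yb9 zb29) (kb xb9 yb25 zb17) (kb xb11 yb16 zb15) (kb xb7 yb9 zb39) (kb xb11 yb16 zb17) (kb xb7 yb9 zb33) (kb xb10 yb10 zb10) (kb xb11 yb11 zb20) (kb xb7 yb10 zb5) (kb xb7 yb9 zb38) (kb xb7 yb10 zb0) (kb xb15 yb17 zb15) (kb xb15 yb17 zb31) (kb xb11 yb7 zb10) (kb xb15 yb17 zb7) (kb xb11 yb11 zb23) (kb xb11 yb11 zb11) (kb xb7 yb16 zb18) (kb xb11 yb16 zb28) (kb xb11 yb11 zb19) (kb xb11 yb6 zb36) (kb xb10 yb2 zb36) (kb xb7 yb10 zb16) (kb xb11 yb9 zb27) (kb xb7 yb10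 zb12) (kb xb11 yb19 zb21) (kb xb13 yb21 zb31) (kb xb7 yb10 zb13) (kb xb15 yb18 zb5) (kb xb9 yb10 zb20) (kb xb7 yb10 zb17) (kb xb9 yb23 zb27) (kb xb9 yb14 zb7) (kb xb14 yb8 zb3) (kb xb11 yb21 zb13) (kb xb10 yb0 zb5)) (@D3.rec (fun _ => Pt) (kb xb7 yb11 zb9) (kb xb10 yb9 zb22) (kb xb7 yb10 zb21) (kb xb7 yb19 zb13) (kb xb7 yb10 zb22) (kb xb13 yb14 zb37) (kb xb13 yb15 zb24) (kb xb7 yb10 zb25) (kb xb11 yb10 zb35) (kb xb15 yb18 zb9) (kb xb15 yb18 zb7) (kb xb7 yb10 zb27) (kb xb11 yb9 zb20) (kb xb12 yb20 zb32) (kb xb12 yb23 zb6) (kb xb7 yb10 zb33) (kb xb11 yb14 zb23) (kb xb7 yb11 zb32) (kb xb13 yb16 zb4) (kb xb12 yb23 zb7) (kb xb12 yb23 zb20) (kb xb7 yb10 zb36) (kb xb15 yb18 zb23) (kb xb7 yb12 zb7) (kb xb12 yb5 zb0) (kb xb15 yb18 zb20) (kb xb15 yb18 zb28) (kb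 xb7 yb10 zb37) (kb xb7 yb10 zb38) (kb xb12 yb20 zb14) (kb xb8 yb5 zb27) (kb xb7 yb11 zb0) (kb xb11 yb24 zb30) (kb xb11 yb22 zb22) (kb xb7 yb11 zb4) (kb xb10 yb0 zb33) (kb xb9 yb24 zb1) (kb xb9 yb8 zb9) (kb xb7 yb11 zb5) (kb xb9 yb24 zb15)) (@D3.rec (fun _ => Pt) (kb xb7 yb11 zb7) (kb xb10 yb9 zb34) (kb xb7 yb11 zb10) (kb xb15 yb18 zb36) (kb xb7 yb11 zb12) (kb xb13 yb11 zb6) (kb xb7 yb11 zb14) (kb xb7 yb11 zb15) (kb xb9 yb11 zb14) (kb xb7 yb11 zb20) (kb xb7 yb11 zb18) (kb xb13 yb13 zb24) (kb xb7 yb11 zb19) (kb xb7 yb11 zb21) (kb xb13 yb14 zb35) (kb xb7 yb11 zb24) (kb xb7 yb13 zb13) (kb xb12 yb24 zb8) (kb xb7 yb11 zb26) (kb xb13 yb12 zb25) (kb xb15 yb6 zb19) (kb xb8 yb14 zb39) (kb xb7 yb11 zb28) (kb xb7 yb11 zb29) (kb xb15 yb19 zb5) (kb xb7 yb18 zb30)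 (kb xb12 yb5 zb23) (kb xb15 yb18 zb15) (kb xb9 yb9 zb26) (kb xb14 yb3 zb26) (kb xb11 yb14 zb39) (kb xb13 yb13 zb9) (kb xb15 yb19 zb13) (kb xb7 yb11 zb37) (kb xb12 yb8 zb1) (kb xb12 yb20 zb35) (kb xb15 yb19 zb17) (kb xb12 yb5 zb29) (kb xb7 yb12 zb2) (kb xb9 yb7 zb34)) (@D3.rec (fun _ => Pt) (kb xb13 yb20 zb12) (kb xb7 yb12 zb3) (kb xb15 yb19 zb25) (kb xb15 yb19 zb26) (kb xb15 yb19 zb16) (kb xb15 yb16 zb6) (kb xb7 yb15 zb29) (kb xb7 yb12 zb8) (kb xb12 yb21 zb12) (kb xb12 yb7 zb17) (kb xb7 yb12 zb10) (kb xb12 yb14 zb28) (kb xb15 yb18 zb22) (kb xb14 yb8 zb14) (kb xb15 yb20 zb7) (kb xb15 yb19 zb38) (kb xb12 yb24 zb19) (kb xb15 yb3 zb34) (kb xb12 yb17 zb24) (kb xb15 yb20 zb12) (kb xb7 yb12 zb12) (kb xb7 yb12 zb13) (kb xb8 yb15 zb32) (kb xb11 yb12 zb16) (kb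 xb9 yb2 zb13) (kb xb13 yb13 zb1) (kb xb7 yb12 zb19) (kb xb14 yb3 zb35) (kb xb14 yb5 zb32) (kb xb7 yb12 zb18) (kb xb9 yb24 zb25) (kb xb9 yb12 zb19) (kb xb7 yb12 zb25) (kb xb15 yb20 zb25) (kb xb11 yb14 zb34) (kb xb11 yb17 zb17) (kb xb7 yb12 zb27) (kb xb7 yb12 zb28) (kb xb13 yb14 zb21) (kb xb11 yb13 zb30)) (@D3.rec (fun _ => Pt) (kb xb7 yb12 zb34) (kb xb15 yb20 zb34) (kb xb9 yb11 zb29) (kb xb9 yb24 zb30) (kb xb11 yb22 zb0) (kb xb7 yb12 zb36) (kb xb10 yb0 zb8) (kb xb11 yb11 zb2) (kb xb9 yb8 zb20) (kb xb15 yb20 zb33) (kb xb15 yb20 zb38) (kb xb7 yb12 zb35) (kb xb13 yb2 zb4) (kb xb11 yb15 zb13) (kb xb15 yb15 zb28) (kb xb15 yb14 zb27) (kb xb7 yb12 zb39) (kb xb7 yb17 zb37) (kb xb9 yb12 zb33) (kb xb7 yb14 zb11) (kb xb15 yb15 zb6) (kb xb15 yb14 zb23) (kb xb8 yb3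 zb0) (kb xb11 yb7 zb4) (kb xb11 yb10 zb10) (kb xb7 yb13 zb7) (kb xb11 yb6 zb24) (kb xb15 yb21 zb5) (kb xb15 yb18 zb0) (kb xb7 yb13 zb11) (kb xb7 yb13 zb12) (kb xb9 yb13 zb3) (kb xb15 yb18 zb39) (kb xb12 yb7 zb19) (kb xb15 yb21 zb6) (kb xb11 yb8 zb17) (kb xb7 yb13 zb17) (kb xb11 yb6 zb38) (kb xb7 yb14 zb8) (kb xb15 yb21 zb10)) (@D3.rec (fun _ => Pt) (kb xb7 yb13 zb20) (kb xb15 yb18 zb38) (kb xb7 yb13 zb29) (kb xb11 yb6 zb26) (kb xb7 yb16 zb14) (kb xb11 yb1 zb5) (kb xb7 yb13 zb28) (kb xb13 yb16 zb21) (kb xb15 yb21 zb14) (kb xb11 yb3 zb23) (kb xb7 yb18 zb21) (kb xb11 yb9 zb33) (kb xb13 yb2 zb0) (kb xb7 yb13 zb33) (kb xb10 yb0 zb11) (kb xb11 yb11 zb6) (kb xb7 yb14 zb3) (kb xb11 yb11 zb8) (kb xb7 yb13 zb37) (kb xb10 yb10 zb31) (kb xb11 yb16 zb30) (kb xb7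 yb14 zb9) (kb xb7 yb14 zb2) (kb xb7 yb14 zb4) (kb xb15 yb21 zb8) (kb xb15 yb21 zb20) (kb xb11 yb8 zb12) (kb xb15 yb21 zb1) (kb xb11 yb11 zb22) (kb xb7 yb17 zb36) (kb xb11 yb16 zb20) (kb xb11 yb7 zb5) (kb xb10 yb1 zb25) (kb xb7 yb14 zb20) (kb xb7 yb14 zb16) (kb xb11 yb21 zb0) (kb xb13 yb20 zb16) (kb xb7 yb14 zb17) (kb xb15 yb21 zb29) (kb xb9 yb11 zb33)) (@D3.rec (fun _ => Pt) (kb xb7 yb14 zb21) (kb xb9 yb24 zb23) (kb xb9 yb13 zb31) (kb xb14 yb7 zb11) (kb xb11 yb19 zb33) (kb xb10 yb0 zb39) (kb xb7 yb15 zb11) (kb xb10 yb7 zb19) (kb xb7 yb14 zb25) (kb xb7 yb20 zb17) (kb xb7 yb14 zb26) (kb xb13 yb15 zb14) (kb xb7 yb14 zb29) (kb xb15 yb21 zb31) (kb xb11 yb9 zb38) (kb xb15 yb21 zb30) (kb xb7 yb14 zb30) (kb xb11 yb14 zb35) (kb xb12 yb22 zb11) (kb xb12 yb24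 zb18) (kb xb7 yb14 zb36) (kb xb7 yb15 zb31) (kb xb11 yb19 zb6) (kb xb13 yb16 zb25) (kb xb12 yb24 zb32) (kb xb7 yb14 zb38) (kb xb7 yb16 zb2) (kb xb15 yb22 zb5) (kb xb15 yb22 zb1) (kb xb15 yb22 zb8) (kb xb7 yb14 zb39) (kb xb7 yb15 zb0) (kb xb12 yb21 zb33) (kb xb8 yb4 zb38) (kb xb7 yb15 zb2) (kb xb11 yb24 zb16) (kb xb11 yb23 zb28) (kb xb7 yb15 zb6) (kb xb9 yb25 zb39) (kb xb9 yb24 zb38)) (@D3.rec (fun _ => Pt) (kb xb9 yb8 zb31) (kb xb7 yb15 zb7) (kb xb9 yb25 zb10) (kb xb7 yb15 zb9) (kb xb10 yb7 zb33) (kb xb7 yb15 zb12) (kb xb15 yb22 zb16) (kb xb7 yb15 zb14) (kb xb13 yb10 zb25) (kb xb7 yb15 zb16) (kb xb9 yb12 zb27) (kb xb7 yb15 zb21) (kb xb7 yb15 zb19) (kb xb7 yb15 zb20) (kb xb13 yb13 zb23) (kb xb12 yb22 zb35) (kb xb7 yb15 zb26) (kb xb13 yb14 zb2) (kb xb15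 yb0 zb25) (kb xb8 yb15 zb15) (kb xb7 yb15 zb27) (kb xb15 yb19 zb36) (kb xb7 yb17 zb13) (kb xb15 yb21 zb36) (kb xb12 yb4 zb34) (kb xb14 yb4 zb5) (kb xb9 yb10 zb6) (kb xb13 yb14 zb23) (kb xb7 yb15 zb39) (kb xb9 yb8 zb16) (kb xb13 yb21 zb27) (kb xb7 yb16 zb0) (kb xb15 yb22 zb26) (kb xb15 yb15 zb16) (kb xb15 yb19 zb31) (kb xb7 yb16 zb4) (kb xb15 yb22 zb2) (kb xb12 yb12 zb34) (kb xb15 yb22 zb36) (kb xb14 yb7 zb23)) (@D3.rec (fun _ => Pt) (kb xb15 yb9 zb20) (kb xb12 yb16 zb5) (kb xb15 yb22 zb39) (kb xb7 yb16 zb6) (kb xb7 yb16 zb7) (kb xb8 yb17 zb18) (kb xb11 yb17 zb22) (kb xb9 yb2 zb4) (kb xb13 yb14 zb17) (kb xb7 yb16 zb13) (kb xb14 yb4 zb14) (kb xb14 yb6 zb10) (kb xb7 yb16 zb12) (kb xb15 yb17 zb35) (kb xb15 yb17 zb6) (kb xb11 yb7 zb7) (kb xb13 yb15 zb35)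 (kb xb15 yb7 zb29) (kb xb7 yb16 zb27) (kb xb12 yb23 zb5) (kb xb7 yb16 zb30) (kb xb11 yb11 zb29) (kb xb13 yb4 zb33) (kb xb12 yb2 zb14) (kb xb9 yb24 zb35) (kb xb7 yb16 zb35) (kb xb10 yb16 zb37) (kb xb15 yb15 zb22) (kb xb14 yb17 zb13) (kb xb13 yb12 zb38) (kb xb10 yb25 zb39) (kb xb9 yb10 zb36) (kb xb7 yb17 zb6) (kb xb11 yb17 zb4) (kb xb9 yb13 zb8) (kb xb15 yb23 zb16) (kb xb7 yb17 zb11) (kb xb8 yb19 zb27) (kb xb11 yb6 zb22) (kb xb7 yb17 zb8)) (@D3.rec (fun _ => Pt) (kb xb9 yb25 zb20) (kb xb11 yb6 zb0) (kb xb7 yb17 zb10) (kb xb15 yb23 zb21) (kb xb15 yb23 zb22) (kb xb15 yb21 zb35) (kb xb8 yb12 zb7) (kb xb15 yb22 zb22) (kb xb13 yb14 zb27) (kb xb11 yb23 zb6) (kb xb15 yb23 zb30) (kb xb11 yb23 zb8) (kb xb15 yb23 zb33) (kb xb7 yb17 zb18) (kb xb15 yb19 zb32) (kb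 xb15 yb23 zb35) (kb xb15 yb23 zb36) (kb xb7 yb17 zb21) (kb xb7 yb17 zb22) (kb xb9 yb25 zb5) (kb xb9 yb24 zb39) (kb xb8 yb16 zb16) (kb xb11 yb7 zb29) (kb xb11 yb9 zb22) (kb xb7 yb25 zb37) (kb xb12 yb2 zb37) (kb xb12 yb4 zb11) (kb xb12 yb4 zb1) (kb xb12 yb4 zb2) (kb xb8 yb7 zb14) (kb xb8 yb1 zb3) (kb xb11 yb22 zb9) (kb xb15 yb21 zb23) (kb xb15 yb21 zb0) (kb xb11 yb8 zb10) (kb xb13 yb16 zb16) (kb xb15 yb1 zb39) (kb xb7 yb18 zb5) (kb xb12 yb24 zb17) (kb xb7 yb18 zb8)) (@D3.rec (fun _ => Pt) (kb xb11 yb16 zb35) (kb xb13 yb4 zb37) (kb xb12 yb2 zb20) (kb xb9 yb23 zb38) (kb xb7 yb18 zb13) (kb xb10 yb15 zb39) (kb xb15 yb16 zb12) (kb xb14 yb18 zb26) (kb xb13 yb14 zb15) (kb xb9 yb12 zb9) (kb xb10 yb21 zb39) (kb xb7 yb18 zb24) (kb xb9 yb13 zb14) (kb xb11 yb11 zb38)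 (kb xb15 yb24 zb11) (kb xb7 yb18 zb29) (kb xb11 yb6 zb28) (kb xb8 yb21 zb1) (kb xb11 yb6 zb1) (kb xb7 yb18 zb27) (kb xb10 yb0 zb14) (kb xb7 yb18 zb28) (kb xb15 yb24 zb16) (kb xb15 yb24 zb17) (kb xb15 yb18 zb13) (kb xb15 yb19 zb8) (kb xb8 yb13 zb4) (kb xb13 yb13 zb13) (kb xb11 yb24 zb7) (kb xb15 yb24 zb25) (kb xb11 yb24 zb8) (kb xb15 yb24 zb28) (kb xb7 yb18 zb36) (kb xb15 yb19 zb15) (kb xb15 yb24 zb30) (kb xb15 yb24 zb31) (kb xb7 yb18 zb39) (kb xb7 yb19 zb0) (kb xb8 yb18 zb1) (kb xb11 yb8 zb32)) (@D3.rec (fun _ => Pt) (kb xb11 yb15 zb4) (kb xb9 yb24 zb11) (kb xb9 yb24 zb2) (kb xb7 yb25 zb31) (kb xb12 yb4 zb20) (kb xb12 yb2 zb35) (kb xb12 yb3 zb30) (kb xb8 yb7 zb19) (kb xb12 yb3 zb31) (kb xb11 yb20 zb31) (kb xb8 yb1 zb11) (kb xb9 yb25 zb7) (kb xb7 yb19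 zb15) (kb xb8 yb22 zb20) (kb xb15 yb0 zb36) (kb xb8 yb22 zb7) (kb xb7 yb21 zb20) (kb xb7 yb19 zb19) (kb xb10 yb7 zb18) (kb xb15 yb24 zb39) (kb xb9 yb9 zb4) (kb xb15 yb25 zb0) (kb xb11 yb12 zb33) (kb xb7 yb19 zb24) (kb xb13 yb16 zb6) (kb xb14 yb4 zb36) (kb xb13 yb16 zb2) (kb xb7 yb19 zb25) (kb xb8 yb4 zb6) (kb xb7 yb19 zb29) (kb xb8 yb3 zb31) (kb xb8 yb3 zb32) (kb xb10 yb4 zb34) (kb xb7 yb21 zb23) (kb xb11 yb25 zb10) (kb xb11 yb24 zb6) (kb xb7 yb19 zb37) (kb xb7 yb19 zb38) (kb xb15 yb25 zb4) (kb xb15 yb25 zb8)) (@D3.rec (fun _ => Pt) (kb xb15 yb25 zb9) (kb xb12 yb4 zb10) (kb xb12 yb5 zb1) (kb xb15 yb25 zb10) (kb xb7 yb20 zb1) (kb xb11 yb23 zb16) (kb xb11 yb20 zb9) (kb xb15 yb25 zb13) (kb xb11 yb20 zb11) (kb xb8 yb10 zb13) (kb xb15 yb25 zb17) (kb xb7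 yb20 zb7) (kb xb14 yb7 zb19) (kb xb12 yb5 zb31) (kb xb12 yb4 zb19) (kb xb15 yb25 zb20) (kb xb11 yb23 zb5) (kb xb9 yb24 zb12) (kb xb8 yb23 zb15) (kb xb7 yb20 zb20) (kb xb15 yb6 zb30) (kb xb8 yb23 zb4) (kb xb7 yb22 zb15) (kb xb7 yb20 zb23) (kb xb10 yb9 zb23) (kb xb15 yb25 zb22) (kb xb15 yb25 zb23) (kb xb9 yb8 zb36) (kb xb11 yb17 zb36) (kb xb7 yb20 zb28) (kb xb13 yb16 zb27) (kb xb13 yb16 zb24) (kb xb14 yb5 zb17) (kb xb7 yb20 zb29) (kb xb8 yb4 zb14) (kb xb7 yb20 zb32) (kb xb8 yb3 zb20) (kb xb8 yb3 zb21) (kb xb10 yb3 zb19) (kb xb7 yb22 zb18)) (@D3.rec (fun _ => Pt) (kb xb12 yb0 zb5) (kb xb7 yb21 zb0) (kb xb7 yb21 zb1) (kb xb15 yb25 zb27) (kb xb15 yb25 zb29) (kb xb7 yb21 zb3) (kb xb11 yb22 zb35) (kb xb11 yb21 zb28) (kb xb11 yb21 zb30) (kb xb15 yb25 zb34)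 (kb xb8 yb11 zb18) (kb xb7 yb21 zb7) (kb xb14 yb8 zb10) (kb xb9 yb8 zb21) (kb xb7 yb21 zb15) (kb xb15 yb25 zb37) (kb xb11 yb17 zb35) (kb xb7 yb21 zb35) (kb xb13 yb3 zb39) (kb xb15 yb25 zb36) (kb xb7 yb21 zb18) (kb xb7 yb21 zb22) (kb xb12 yb25 zb36) (kb xb7 yb21 zb21) (kb xb9 yb17 zb33) (kb xb12 yb7 zb10) (kb xb7 yb21 zb24) (kb xb9 yb7 zb39) (kb xb7 yb21 zb26) (kb xb16 yb0 zb2) (kb xb11 yb12 zb32) (kb xb7 yb21 zb28) (kb xb11 yb25 zb33) (kb xb7 yb22 zb25) (kb xb13 yb4 zb8) (kb xb16 yb0 zb0) (kb xb11 yb25 zb35) (kb xb16 yb0 zb5) (kb xb7 yb21 zb37) (kb xb11 yb25 zb19)) (@D3.rec (fun _ => Pt) (kb xb7 yb21 zb32) (kb xb16 yb0 zb7) (kb xb15 yb22 zb13) (kb xb14 yb7 zb30) (kb xb8 yb22 zb1) (kb xb7 yb21 zb36) (kb xb9 yb2 zb17) (kb xb16 yb0 zb11) (kb xb7 yb21 zb39)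 (kb xb16 yb0 zb8) (kb xb11 yb22 zb34) (kb xb16 yb0 zb15) (kb xb16 yb0 zb12) (kb xb14 yb5 zb3) (kb xb16 yb0 zb18) (kb xb7 yb22 zb2) (kb xb7 yb24 zb29) (kb xb7 yb24 zb28) (kb xb7 yb22 zb27) (kb xb11 yb24 zb39) (kb xb13 yb4 zb5) (kb xb12 yb0 zb15) (kb xb7 yb22 zb7) (kb xb16 yb0 zb21) (kb xb7 yb22 zb10) (kb xb7 yb22 zb13) (kb xb7 yb22 zb17) (kb xb13 yb0 zb19) (kb xb7 yb22 zb16) (kb xb9 yb16 zb39) (kb xb12 yb7 zb35) (kb xb7 yb22 zb19) (kb xb7 yb22 zb20) (kb xb11 yb24 zb32) (kb xb16 yb0 zb23) (kb xb11 yb24 zb36) (kb xb7 yb22 zb23) (kb xb16 yb0 zb25) (kb xb15 yb18 zb33) (kb xb14 yb8 zb19))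
def f_b_12 : D2 → D3 → Pt := @D2.rec (fun _ => D3 → Pt) (@D3.rec (fun _ => Pt) (kb xb8 yb22 zb37) (kb xb7 yb22 zb26) (kb xb9 yb2 zb22) (kb xb16 yb0 zb29) (kb xb7 yb22 zb29) (kb xb11 yb24 zb0) (kb xb16 yb0 zb26) (kb xb16 yb0 zb33) (kb xb16 yb0 zb30) (kb xb14 yb4 zb22) (kb xb16 yb0 zb36) (kb xb7 yb22 zb32) (kb xb7 yb25 zb0) (kb xb7 yb24 zb39) (kb xb13 yb4 zb14) (kb xb11 yb25 zb21) (kb xb7 yb22 zb37) (kb xb16 yb0 zb39) (kb xb7 yb23 zb0) (kb xb7 yb23 zb36) (kb xb9 yb24 zb31) (kb xb7 yb24 zb0) (kb xb9 yb23 zb34) (kb xb14 yb7 zb4) (kb xb14 yb7 zb38) (kb xb16 yb1 zb0) (kb xb16 yb1 zb1) (kb xb7 yb23 zb16) (kb xb7 yb23 zb17) (kb xb16 yb1 zb2) (kb xb9 yb14 zb14) (kb xb12 yb1 zb10) (kb xb16 yb1 zb8) (kb xb9 yb14 zb17) (kb xb12 yb1 zb6) (kb xb7 yb23 zb20) (kb xb12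 yb13 zb21) (kb xb8 yb11 zb9) (kb xb7 yb23 zb22) (kb xb12 yb15 zb12)) (@D3.rec (fun _ => Pt) (kb xb8 yb10 zb4) (kb xb10 yb20 zb3) (kb xb10 yb18 zb14) (kb xb7 yb23 zb28) (kb xb16 yb1 zb19) (kb xb13 yb17 zb6) (kb xb12 yb0 zb34) (kb xb7 yb23 zb32) (kb xb16 yb1 zb28) (kb xb13 yb17 zb2) (kb xb12 yb0 zb31) (kb xb16 yb1 zb34) (kb xb12 yb1 zb12) (kb xb12 yb1 zb37) (kb xb7 yb23 zb35) (kb xb16 yb1 zb37) (kb xb8 yb8 zb26) (kb xb11 yb3 zb10) (kb xb16 yb0 zb19) (kb xb12 yb13 zb14) (kb xb16 yb2 zb0) (kb xb12 yb1 zb21) (kb xb12 yb2 zb3) (kb xb7 yb23 zb39) (kb xb16 yb2 zb3) (kb xb8 yb8 zb10) (kb xb11 yb4 zb22) (kb xb16 yb0 zb37) (kb xb12 yb15 zb5) (kb xb7 yb24 zb2) (kb xb7 yb24 zb3) (kb xb7 yb24 zb4) (kb xb7 yb24 zb5) (kb xb7 yb24 zb6) (kb xb7 yb24 zb7) (kb xb10 yb25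 zb28) (kb xb12 yb1 zb36) (kb xb12 yb1 zb13) (kb xb8 yb7 zb20) (kb xb12 yb1 zb39)) (@D3.rec (fun _ => Pt) (kb xb10 yb22 zb17) (kb xb10 yb21 zb29) (kb xb12 yb2 zb2) (kb xb12 yb1 zb22) (kb xb8 yb7 zb15) (kb xb12 yb2 zb5) (kb xb11 yb0 zb18) (kb xb8 yb17 zb4) (kb xb8 yb18 zb27) (kb xb8 yb17 zb11) (kb xb7 yb24 zb22) (kb xb12 yb6 zb27) (kb xb12 yb6 zb24) (kb xb7 yb24 zb26) (kb xb11 yb19 zb23) (kb xb8 yb18 zb32) (kb xb7 yb24 zb33) (kb xb12 yb6 zb18) (kb xb12 yb6 zb15) (kb xb7 yb24 zb37) (kb xb11 yb21 zb2) (kb xb7 yb25 zb2) (kb xb14 yb16 zb19) (kb xb7 yb25 zb4) (kb xb7 yb25 zb5) (kb xb16 yb2 zb24) (kb xb7 yb25 zb13) (kb xb12 yb2 zb32) (kb xb7 yb25 zb11) (kb xb14 yb17 zb32) (kb xb7 yb25 zb14) (kb xb16 yb2 zb25) (kb xb12 yb2 zb27) (kb xb15 yb15 zb8) (kb xb15 yb15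 zb38) (kb xb11 yb22 zb5) (kb xb14 yb25 zb16) (kb xb11 yb20 zb25) (kb xb15 yb5 zb16) (kb xb10 yb5 zb22)) (@D3.rec (fun _ => Pt) (kb xb11 yb9 zb7) (kb xb10 yb4 zb11) (kb xb11 yb8 zb4) (kb xb15 yb15 zb7) (kb xb15 yb15 zb37) (kb xb11 yb3 zb3) (kb xb16 yb2 zb26) (kb xb15 yb17 zb14) (kb xb8 yb0 zb15) (kb xb8 yb0 zb18) (kb xb16 yb2 zb28) (kb xb16 yb2 zb29) (kb xb11 yb4 zb15) (kb xb15 yb21 zb7) (kb xb8 yb0 zb23) (kb xb8 yb0 zb26) (kb xb16 yb2 zb31) (kb xb8 yb0 zb32) (kb xb15 yb24 zb2) (kb xb8 yb0 zb36) (kb xb15 yb24 zb37) (kb xb12 yb4 zb38) (kb xb9 yb22 zb20) (kb xb16 yb2 zb32) (kb xb8 yb1 zb1) (kb xb14 yb6 zb4) (kb xb16 yb2 zb34) (kb xb12 yb4 zb28) (kb xb14 yb8 zb15) (kb xb12 yb4 zb6) (kb xb11 yb22 zb6) (kb xb11 yb22 zb8) (kb xb12 yb5 zb27) (kb xb9 yb22 zb38)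 (kb xb16 yb3 zb0) (kb xb8 yb1 zb9) (kb xb14 yb6 zb36) (kb xb16 yb3 zb2) (kb xb12 yb5 zb17) (kb xb14 yb7 zb24)) (@D3.rec (fun _ => Pt) (kb xb12 yb4 zb15) (kb xb11 yb20 zb27) (kb xb11 yb20 zb28) (kb xb16 yb3 zb8) (kb xb8 yb1 zb15) (kb xb8 yb1 zb16) (kb xb12 yb3 zb29) (kb xb16 yb3 zb11) (kb xb8 yb1 zb18) (kb xb8 yb1 zb19) (kb xb11 yb23 zb1) (kb xb11 yb20 zb26) (kb xb16 yb3 zb13) (kb xb8 yb1 zb22) (kb xb8 yb1 zb23) (kb xb12 yb4 zb0) (kb xb16 yb3 zb16) (kb xb8 yb1 zb25) (kb xb8 yb1 zb26) (kb xb11 yb23 zb14) (kb xb11 yb22 zb4) (kb xb8 yb1 zb28) (kb xb8 yb1 zb30) (kb xb12 yb12 zb23) (kb xb13 yb19 zb5) (kb xb16 yb3 zb21) (kb xb8 yb1 zb31) (kb xb12 yb12 zb7) (kb xb12 yb3 zb27) (kb xb16 yb3 zb23) (kb xb8 yb1 zb34) (kb xb13 yb21 zb30) (kb xb16 yb3 zb27) (kb xb13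 yb21 zb19) (kb xb11 yb18 zb24) (kb xb12 yb6 zb9) (kb xb16 yb3 zb32) (kb xb8 yb1 zb39) (kb xb12 yb3 zb21) (kb xb12 yb5 zb28)) (@D3.rec (fun _ => Pt) (kb xb11 yb12 zb24) (kb xb11 yb23 zb2) (kb xb14 yb6 zb34) (kb xb11 yb2 zb19) (kb xb15 yb22 zb11) (kb xb12 yb17 zb22) (kb xb8 yb2 zb30) (kb xb8 yb12 zb27) (kb xb16 yb4 zb2) (kb xb8 yb2 zb6) (kb xb8 yb2 zb7) (kb xb8 yb2 zb9) (kb xb12 yb14 zb18) (kb xb13 yb20 zb20) (kb xb16 yb4 zb7) (kb xb8 yb2 zb10) (kb xb12 yb14 zb3) (kb xb12 yb3 zb38) (kb xb16 yb4 zb9) (kb xb8 yb2 zb13) (kb xb13 yb20 zb15) (kb xb16 yb4 zb13) (kb xb13 yb20 zb4) (kb xb11 yb13 zb26) (kb xb12 yb6 zb2) (kb xb16 yb4 zb18) (kb xb8 yb2 zb18) (kb xb12 yb3 zb32) (kb xb12 yb4 zb39) (kb xb11 yb13 zb37) (kb xb14 yb6 zb2) (kb xb11 yb23 zb13) (kb xb10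 yb24 zb20) (kb xb15 yb18 zb31) (kb xb12 yb16 zb3) (kb xb8 yb2 zb35) (kb xb8 yb11 zb31) (kb xb16 yb4 zb28) (kb xb8 yb2 zb25) (kb xb8 yb2 zb26)) (@D3.rec (fun _ => Pt) (kb xb15 yb11 zb28) (kb xb8 yb11 zb37) (kb xb12 yb5 zb24) (kb xb8 yb2 zb28) (kb xb16 yb4 zb36) (kb xb14 yb3 zb29) (kb xb8 yb2 zb31) (kb xb15 yb13 zb25) (kb xb8 yb12 zb34) (kb xb12 yb4 zb35) (kb xb8 yb2 zb33) (kb xb16 yb5 zb3) (kb xb14 yb4 zb8) (kb xb15 yb19 zb2) (kb xb8 yb3 zb15) (kb xb12 yb2 zb18) (kb xb13 yb1 zb35) (kb xb14 yb10 zb0) (kb xb12 yb2 zb17) (kb xb15 yb16 zb13) (kb xb10 yb9 zb16) (kb xb16 yb5 zb5) (kb xb15 yb22 zb19) (kb xb8 yb3 zb26) (kb xb12 yb2 zb12) (kb xb13 yb1 zb14) (kb xb14 yb8 zb33) (kb xb12 yb2 zb11) (kb xb15 yb15 zb23) (kb xb10 yb7 zb12) (kb xb16 yb5 zb7) (kb xb12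 yb25 zb23) (kb xb13 yb10 zb20) (kb xb10 yb7 zb39) (kb xb16 yb5 zb9) (kb xb13 yb0 zb7) (kb xb13 yb10 zb34) (kb xb10 yb10 zb0) (kb xb16 yb5 zb11) (kb xb14 yb6 zb11)) (@D3.rec (fun _ => Pt) (kb xb16 yb5 zb12) (kb xb8 yb4 zb18) (kb xb8 yb15 zb21) (kb xb8 yb4 zb22) (kb xb13 yb16 zb9) (kb xb8 yb4 zb24) (kb xb8 yb4 zb25) (kb xb10 yb22 zb32) (kb xb8 yb4 zb29) (kb xb10 yb2 zb13) (kb xb11 yb24 zb25) (kb xb16 yb5 zb17) (kb xb11 yb8 zb1) (kb xb14 yb5 zb29) (kb xb8 yb19 zb32) (kb xb10 yb3 zb37) (kb xb15 yb22 zb9) (kb xb11 yb14 zb9) (kb xb9 yb22 zb18) (kb xb11 yb15 zb33) (kb xb8 yb20 zb17) (kb xb8 yb5 zb2) (kb xb9 yb9 zb38) (kb xb10 yb3 zb0) (kb xb14 yb5 zb31) (kb xb16 yb5 zb21) (kb xb8 yb5 zb7) (kb xb8 yb15 zb5) (kb xb8 yb5 zb11) (kb xb13 yb16 zb30) (kb xb8 yb5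 zb13) (kb xb8 yb5 zb14) (kb xb11 yb0 zb31) (kb xb8 yb5 zb18) (kb xb10 yb1 zb3) (kb xb11 yb25 zb30) (kb xb16 yb5 zb26) (kb xb11 yb9 zb4) (kb xb14 yb6 zb24) (kb xb8 yb21 zb6)) (@D3.rec (fun _ => Pt) (kb xb10 yb5 zb10) (kb xb11 yb13 zb34) (kb xb15 yb18 zb29) (kb xb9 yb22 zb36) (kb xb11 yb10 zb17) (kb xb8 yb19 zb3) (kb xb8 yb5 zb31) (kb xb9 yb9 zb18) (kb xb10 yb1 zb30) (kb xb15 yb16 zb37) (kb xb13 yb3 zb18) (kb xb9 yb21 zb8) (kb xb8 yb6 zb0) (kb xb15 yb20 zb32) (kb xb13 yb3 zb11) (kb xb9 yb22 zb3) (kb xb8 yb6 zb9) (kb xb8 yb6 zb12) (kb xb8 yb6 zb14) (kb xb8 yb6 zb21) (kb xb8 yb6 zb23) (kb xb12 yb9 zb0) (kb xb12 yb8 zb35) (kb xb10 yb22 zb9) (kb xb10 yb12 zb24) (kb xb16 yb5 zb35) (kb xb8 yb6 zb34) (kb xb11 yb0 zb8) (kb xb10 yb12 zb26) (kb xb16 yb6 zb2) (kb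 xb8 yb6 zb36) (kb xb10 yb5 zb1) (kb xb8 yb6 zb39) (kb xb12 yb15 zb3) (kb xb12 yb8 zb39) (kb xb12 yb8 zb22) (kb xb10 yb3 zb26) (kb xb8 yb7 zb3) (kb xb12 yb13 zb12) (kb xb12 yb8 zb34)) (@D3.rec (fun _ => Pt) (kb xb12 yb8 zb21) (kb xb8 yb7 zb5) (kb xb16 yb1 zb3) (kb xb16 yb6 zb11) (kb xb10 yb11 zb29) (kb xb16 yb6 zb15) (kb xb16 yb2 zb11) (kb xb8 yb7 zb8) (kb xb16 yb1 zb9) (kb xb16 yb6 zb22) (kb xb10 yb11 zb37) (kb xb16 yb6 zb26) (kb xb16 yb2 zb7) (kb xb8 yb7 zb37) (kb xb13 yb15 zb33) (kb xb10 yb22 zb10) (kb xb12 yb15 zb9) (kb xb10 yb2 zb20) (kb xb8 yb7 zb13) (kb xb8 yb8 zb13) (kb xb13 yb16 zb14) (kb xb12 yb13 zb19) (kb xb11 yb0 zb10) (kb xb10 yb1 zb10) (kb xb8 yb7 zb18) (kb xb9 yb18 zb27) (kb xb9 yb18 zb8) (kb xb16 yb6 zb6) (kb xb10 yb14 zb18) (kb xb12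 yb11 zb11) (kb xb16 yb6 zb35) (kb xb14 yb19 zb6) (kb xb12 yb11 zb5) (kb xb8 yb7 zb29) (kb xb16 yb6 zb39) (kb xb16 yb1 zb30) (kb xb14 yb12 zb14) (kb xb16 yb7 zb1) (kb xb16 yb7 zb3) (kb xb16 yb6 zb17)) (@D3.rec (fun _ => Pt) (kb xb10 yb15 zb3) (kb xb12 yb11 zb27) (kb xb16 yb7 zb7) (kb xb14 yb19 zb16) (kb xb12 yb11 zb21) (kb xb8 yb7 zb34) (kb xb16 yb7 zb11) (kb xb16 yb1 zb21) (kb xb14 yb12 zb2) (kb xb16 yb7 zb13) (kb xb16 yb7 zb15) (kb xb13 yb12 zb27) (kb xb12 yb15 zb1) (kb xb16 yb7 zb16) (kb xb8 yb8 zb3) (kb xb15 yb19 zb3) (kb xb8 yb8 zb6) (kb xb12 yb12 zb21) (kb xb8 yb8 zb5) (kb xb12 yb10 zb34) (kb xb16 yb7 zb26) (kb xb16 yb5 zb22) (kb xb8 yb8 zb9) (kb xb16 yb7 zb30) (kb xb8 yb8 zb11) (kb xb8 yb8 zb12) (kb xb13 yb14 zb4) (kb xb12 yb13 zb10) (kb xb16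 yb7 zb31) (kb xb8 yb8 zb19) (kb xb15 yb22 zb20) (kb xb8 yb8 zb22) (kb xb12 yb14 zb16) (kb xb8 yb8 zb21) (kb xb12 yb10 zb19) (kb xb16 yb8 zb1) (kb xb16 yb5 zb13) (kb xb8 yb8 zb25) (kb xb16 yb8 zb5) (kb xb8 yb8 zb27)) (@D3.rec (fun _ => Pt) (kb xb8 yb8 zb28) (kb xb16 yb8 zb6) (kb xb8 yb8 zb30) (kb xb14 yb22 zb6) (kb xb10 yb17 zb24) (kb xb12 yb9 zb32) (kb xb8 yb8 zb34) (kb xb8 yb8 zb33) (kb xb8 yb8 zb35) (kb xb16 yb1 zb13) (kb xb14 yb19 zb2) (kb xb12 yb9 zb29) (kb xb12 yb11 zb28) (kb xb14 yb7 zb20) (kb xb16 yb8 zb16) (kb xb8 yb8 zb38) (kb xb8 yb9 zb0) (kb xb16 yb8 zb31) (kb xb8 yb9 zb2) (kb xb14 yb19 zb22) (kb xb10 yb19 zb14) (kb xb12 yb10 zb4) (kb xb8 yb9 zb6) (kb xb8 yb9 zb5) (kb xb8 yb9 zb7) (kb xb16 yb1 zb7) (kb xb14 yb21 zb31) (kb xb12 yb10 zb1) (kb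 xb12 yb11 zb12) (kb xb16 yb9 zb0) (kb xb14 yb8 zb11) (kb xb8 yb9 zb10) (kb xb8 yb9 zb12) (kb xb8 yb11 zb25) (kb xb10 yb1 zb4) (kb xb11 yb6 zb21) (kb xb8 yb9 zb15) (kb xb8 yb9 zb17) (kb xb14 yb3 zb15) (kb xb15 yb20 zb13)) (@D3.rec (fun _ => Pt) (kb xb14 yb14 zb14) (kb xb13 yb2 zb17) (kb xb14 yb11 zb24) (kb xb16 yb9 zb24) (kb xb15 yb6 zb15) (kb xb8 yb9 zb19) (kb xb16 yb9 zb28) (kb xb12 yb4 zb27) (kb xb16 yb9 zb26) (kb xb12 yb14 zb5) (kb xb8 yb9 zb22) (kb xb8 yb9 zb26) (kb xb13 yb5 zb4) (kb xb16 yb9 zb33) (kb xb16 yb9 zb35) (kb xb8 yb9 zb25) (kb xb16 yb9 zb39) (kb xb16 yb10 zb0) (kb xb8 yb9 zb27) (kb xb16 yb10 zb4) (kb xb8 yb9 zb30) (kb xb12 yb10 zb17) (kb xb8 yb9 zb29) (kb xb12 yb4 zb23) (kb xb8 yb10 zb26) (kb xb16 yb10 zb6) (kb xb16 yb10 zb14) (kb xb8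 yb9 zb32) (kb xb16 yb10 zb18) (kb xb16 yb10 zb19) (kb xb14 yb24 zb20) (kb xb16 yb10 zb23) (kb xb8 yb9 zb34) (kb xb8 yb9 zb35) (kb xb11 yb18 zb37) (kb xb8 yb10 zb1) (kb xb16 yb10 zb33) (kb xb8 yb9 zb37) (kb xb16 yb10 zb37) (kb xb8 yb10 zb5)) (@D3.rec (fun _ => Pt) (kb xb9 yb10 zb14) (kb xb14 yb7 zb39) (kb xb16 yb11 zb4) (kb xb12 yb13 zb28) (kb xb8 yb10 zb10) (kb xb8 yb10 zb0) (kb xb16 yb11 zb9) (kb xb16 yb10 zb31) (kb xb16 yb11 zb11) (kb xb8 yb10 zb2) (kb xb12 yb10 zb27) (kb xb16 yb11 zb13) (kb xb12 yb8 zb38) (kb xb16 yb11 zb16) (kb xb12 yb1 zb19) (kb xb16 yb11 zb0) (kb xb16 yb11 zb20) (kb xb12 yb15 zb8) (kb xb16 yb1 zb14) (kb xb12 yb9 zb21) (kb xb16 yb11 zb21) (kb xb12 yb0 zb36) (kb xb16 yb11 zb22) (kb xb8 yb10 zb12) (kb xb16 yb11 zb10) (kb xb16 yb11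 zb25) (kb xb15 yb25 zb15) (kb xb10 yb22 zb11) (kb xb12 yb13 zb3) (kb xb8 yb12 zb22) (kb xb11 yb6 zb27) (kb xb10 yb2 zb15) (kb xb8 yb10 zb19) (kb xb8 yb10 zb22) (kb xb15 yb23 zb0) (kb xb14 yb3 zb17) (kb xb14 yb14 zb21) (kb xb13 yb2 zb19) (kb xb16 yb11 zb34) (kb xb14 yb11 zb28)) (@D3.rec (fun _ => Pt) (kb xb8 yb10 zb23) (kb xb16 yb11 zb39) (kb xb15 yb0 zb21) (kb xb12 yb5 zb16) (kb xb16 yb11 zb37) (kb xb12 yb12 zb9) (kb xb8 yb10 zb31) (kb xb16 yb12 zb2) (kb xb13 yb5 zb29) (kb xb8 yb10 zb29) (kb xb16 yb12 zb8) (kb xb16 yb12 zb9) (kb xb16 yb12 zb10) (kb xb8 yb10 zb32) (kb xb16 yb12 zb14) (kb xb8 yb10 zb35) (kb xb12 yb10 zb32) (kb xb8 yb10 zb34) (kb xb12 yb5 zb12) (kb xb16 yb12 zb16) (kb xb16 yb12 zb23) (kb xb8 yb10 zb37) (kb xb16 yb12 zb27) (kb xb16 yb12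 zb28) (kb xb15 yb4 zb21) (kb xb16 yb12 zb32) (kb xb8 yb10 zb39) (kb xb8 yb11 zb0) (kb xb11 yb14 zb11) (kb xb8 yb11 zb6) (kb xb16 yb12 zb39) (kb xb8 yb11 zb2) (kb xb16 yb13 zb3) (kb xb8 yb11 zb10) (kb xb9 yb11 zb28) (kb xb14 yb7 zb5) (kb xb16 yb13 zb9) (kb xb8 yb11 zb14) (kb xb12 yb15 zb18) (kb xb8 yb11 zb5)) (@D3.rec (fun _ => Pt) (kb xb8 yb11 zb7) (kb xb12 yb10 zb12) (kb xb16 yb13 zb16) (kb xb12 yb8 zb33) (kb xb16 yb11 zb1) (kb xb12 yb1 zb28) (kb xb16 yb13 zb6) (kb xb16 yb11 zb14) (kb xb12 yb13 zb17) (kb xb12 yb9 zb16) (kb xb16 yb1 zb15) (kb xb16 yb13 zb21) (kb xb12 yb0 zb39) (kb xb16 yb13 zb22) (kb xb8 yb11 zb17) (kb xb16 yb13 zb14) (kb xb15 yb25 zb33) (kb xb11 yb0 zb9) (kb xb12 yb14 zb38) (kb xb15 yb10 zb1) (kb xb16 yb13 zb26) (kb xb16 yb9 zb16)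 (kb xb9 yb20 zb30) (kb xb16 yb13 zb27) (kb xb8 yb11 zb27) (kb xb16 yb13 zb28) (kb xb16 yb4 zb26) (kb xb16 yb13 zb29) (kb xb16 yb13 zb30) (kb xb8 yb11 zb32) (kb xb8 yb11 zb33) (kb xb9 yb21 zb15) (kb xb16 yb4 zb30) (kb xb16 yb13 zb36) (kb xb8 yb11 zb35) (kb xb8 yb11 zb36) (kb xb9 yb5 zb24) (kb xb16 yb14 zb1) (kb xb16 yb4 zb33) (kb xb16 yb14 zb3)) (@D3.rec (fun _ => Pt) (kb xb8 yb11 zb38) (kb xb16 yb14 zb8) (kb xb15 yb11 zb0) (kb xb12 yb5 zb34) (kb xb8 yb13 zb19) (kb xb11 yb19 zb1) (kb xb16 yb14 zb16) (kb xb8 yb12 zb2) (kb xb13 yb7 zb21) (kb xb8 yb12 zb12) (kb xb16 yb14 zb23) (kb xb8 yb12 zb4) (kb xb16 yb14 zb27) (kb xb15 yb6 zb16) (kb xb11 yb1 zb26) (kb xb8 yb12 zb6) (kb xb16 yb14 zb29) (kb xb16 yb14 zb30) (kb xb16 yb3 zb33) (kb xb8 yb12 zb10) (kb xb8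 yb12 zb16) (kb xb16 yb14 zb32) (kb xb8 yb12 zb11) (kb xb16 yb14 zb35) (kb xb8 yb12 zb13) (kb xb16 yb14 zb38) (kb xb16 yb15 zb5) (kb xb16 yb15 zb6) (kb xb12 yb18 zb33) (kb xb8 yb12 zb17) (kb xb12 yb16 zb30) (kb xb16 yb14 zb33) (kb xb16 yb15 zb13) (kb xb15 yb0 zb33) (kb xb16 yb15 zb14) (kb xb8 yb12 zb19) (kb xb12 yb16 zb36) (kb xb16 yb14 zb37) (kb xb16 yb15 zb22) (kb xb15 yb11 zb37)) (@D3.rec (fun _ => Pt) (kb xb16 yb11 zb27) (kb xb16 yb15 zb23) (kb xb9 yb21 zb25) (kb xb8 yb12 zb23) (kb xb16 yb15 zb24) (kb xb16 yb4 zb0) (kb xb16 yb15 zb25) (kb xb16 yb15 zb26) (kb xb8 yb12 zb29) (kb xb8 yb12 zb30) (kb xb9 yb22 zb10) (kb xb16 yb4 zb37) (kb xb16 yb15 zb32) (kb xb8 yb12 zb32) (kb xb8 yb12 zb33) (kb xb9 yb6 zb22) (kb xb16 yb15 zb37) (kb xb16 yb5 zb0) (kb xb16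 yb15 zb39) (kb xb8 yb12 zb35) (kb xb16 yb16 zb4) (kb xb15 yb12 zb37) (kb xb12 yb5 zb5) (kb xb8 yb13 zb33) (kb xb11 yb14 zb18) (kb xb16 yb16 zb12) (kb xb8 yb12 zb39) (kb xb13 yb8 zb30) (kb xb8 yb13 zb9) (kb xb16 yb16 zb19) (kb xb8 yb13 zb1) (kb xb16 yb16 zb23) (kb xb15 yb0 zb22) (kb xb10 yb23 zb27) (kb xb8 yb13 zb3) (kb xb16 yb16 zb25) (kb xb16 yb16 zb26) (kb xb16 yb4 zb19) (kb xb8 yb13 zb7) (kb xb8 yb13 zb12)) (@D3.rec (fun _ => Pt) (kb xb16 yb16 zb28) (kb xb8 yb13 zb8) (kb xb16 yb16 zb31) (kb xb8 yb13 zb10) (kb xb16 yb16 zb34) (kb xb16 yb17 zb1) (kb xb16 yb17 zb2) (kb xb12 yb19 zb12) (kb xb8 yb13 zb14) (kb xb16 yb16 zb29) (kb xb12 yb18 zb10) (kb xb15 yb6 zb27) (kb xb16 yb17 zb9) (kb xb16 yb17 zb10) (kb xb8 yb13 zb16) (kb xb16 yb16 zb32) (kb xb12 yb18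 zb16) (kb xb16 yb17 zb18) (kb xb8 yb13 zb18) (kb xb16 yb17 zb20) (kb xb8 yb13 zb20) (kb xb14 yb18 zb14) (kb xb8 yb13 zb22) (kb xb16 yb17 zb24) (kb xb8 yb13 zb24) (kb xb16 yb17 zb22) (kb xb8 yb13 zb29) (kb xb16 yb17 zb27) (kb xb16 yb17 zb31) (kb xb12 yb18 zb29) (kb xb16 yb17 zb23) (kb xb10 yb16 zb15) (kb xb16 yb17 zb39) (kb xb12 yb16 zb28) (kb xb8 yb13 zb30) (kb xb12 yb18 zb35) (kb xb16 yb17 zb29) (kb xb16 yb18 zb6) (kb xb8 yb13 zb32) (kb xb16 yb18 zb8)) (@D3.rec (fun _ => Pt) (kb xb8 yb13 zb34) (kb xb14 yb17 zb1) (kb xb8 yb13 zb36) (kb xb16 yb18 zb12) (kb xb8 yb13 zb38) (kb xb8 yb14 zb2) (kb xb16 yb18 zb11) (kb xb16 yb18 zb15) (kb xb16 yb18 zb19) (kb xb16 yb18 zb10) (kb xb12 yb19 zb10) (kb xb10 yb17 zb13) (kb xb12 yb18 zb7) (kb xb8 yb14 zb3) (kb xb16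 yb18 zb16) (kb xb12 yb23 zb9) (kb xb12 yb24 zb21) (kb xb8 yb14 zb37) (kb xb12 yb20 zb21) (kb xb16 yb18 zb31) (kb xb13 yb12 zb3) (kb xb13 yb11 zb30) (kb xb9 yb25 zb16) (kb xb14 yb8 zb6) (kb xb16 yb18 zb32) (kb xb8 yb15 zb4) (kb xb12 yb23 zb14) (kb xb13 yb0 zb9) (kb xb14 yb8 zb8) (kb xb8 yb15 zb7) (kb xb8 yb15 zb13) (kb xb12 yb22 zb1) (kb xb16 yb18 zb35) (kb xb13 yb12 zb22) (kb xb13 yb12 zb9) (kb xb10 yb0 zb10) (kb xb14 yb7 zb14) (kb xb16 yb18 zb36) (kb xb8 yb15 zb20) (kb xb12 yb24 zb26)) (@D3.rec (fun _ => Pt) (kb xb14 yb7 zb16) (kb xb12 yb25 zb25) (kb xb8 yb15 zb23) (kb xb8 yb19 zb1) (kb xb14 yb0 zb25) (kb xb8 yb15 zb35) (kb xb8 yb16 zb0) (kb xb10 yb3 zb10) (kb xb8 yb15 zb37) (kb xb10 yb3 zb11) (kb xb16 yb18 zb38) (kb xb8 yb16 zb4) (kb xb14 yb5 zb37)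 (kb xb8 yb16 zb5) (kb xb11 yb12 zb29) (kb xb15 yb20 zb15) (kb xb14 yb5 zb35) (kb xb8 yb16 zb7) (kb xb8 yb16 zb8) (kb xb14 yb5 zb39) (kb xb8 yb16 zb21) (kb xb12 yb19 zb18) (kb xb8 yb16 zb10) (kb xb10 yb1 zb16) (kb xb13 yb13 zb11) (kb xb9 yb10 zb19) (kb xb10 yb2 zb3) (kb xb15 yb11 zb22) (kb xb8 yb16 zb17) (kb xb13 yb24 zb0) (kb xb16 yb19 zb2) (kb xb8 yb16 zb19) (kb xb11 yb12 zb13) (kb xb15 yb19 zb37) (kb xb12 yb23 zb17) (kb xb11 yb13 zb35) (kb xb8 yb18 zb16) (kb xb8 yb18 zb31) (kb xb8 yb16 zb26) (kb xb14 yb5 zb30)) (@D3.rec (fun _ => Pt) (kb xb15 yb15 zb15) (kb xb12 yb23 zb11) (kb xb8 yb16 zb28) (kb xb15 yb23 zb11) (kb xb15 yb16 zb35) (kb xb8 yb18 zb22) (kb xb13 yb10 zb16) (kb xb14 yb8 zb1) (kb xb8 yb16 zb32) (kb xb8 yb21 zb0) (kb xb16 yb19 zb11) (kb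 xb15 yb20 zb1) (kb xb11 yb14 zb8) (kb xb8 yb17 zb10) (kb xb15 yb22 zb27) (kb xb8 yb16 zb38) (kb xb8 yb18 zb24) (kb xb8 yb17 zb0) (kb xb8 yb17 zb2) (kb xb8 yb17 zb6) (kb xb8 yb17 zb8) (kb xb15 yb19 zb28) (kb xb8 yb18 zb20) (kb xb8 yb18 zb10) (kb xb8 yb20 zb15) (kb xb14 yb1 zb34) (kb xb8 yb17 zb26) (kb xb10 yb2 zb2) (kb xb8 yb17 zb23) (kb xb8 yb17 zb24) (kb xb16 yb19 zb16) (kb xb8 yb17 zb30) (kb xb14 yb6 zb28) (kb xb11 yb17 zb32) (kb xb15 yb23 zb2) (kb xb14 yb6 zb27) (kb xb8 yb17 zb32) (kb xb8 yb17 zb33) (kb xb8 yb17 zb34) (kb xb14 yb6 zb31)) (@D3.rec (fun _ => Pt) (kb xb8 yb18 zb6) (kb xb12 yb19 zb31) (kb xb8 yb17 zb36) (kb xb10 yb2 zb25) (kb xb13 yb14 zb25) (kb xb9 yb11 zb32) (kb xb15 yb13 zb16) (kb xb8 yb18 zb2) (kb xb13 yb25 zb9) (kb xb16 yb19 zb20)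 (kb xb8 yb18 zb4) (kb xb11 yb17 zb18) (kb xb15 yb19 zb6) (kb xb12 yb24 zb29) (kb xb14 yb6 zb23) (kb xb15 yb16 zb5) (kb xb12 yb24 zb23) (kb xb8 yb18 zb12) (kb xb15 yb24 zb6) (kb xb15 yb20 zb30) (kb xb13 yb11 zb0) (kb xb14 yb7 zb9) (kb xb8 yb19 zb26) (kb xb15 yb19 zb21) (kb xb16 yb19 zb27) (kb xb8 yb18 zb28) (kb xb8 yb18 zb30) (kb xb8 yb18 zb35) (kb xb15 yb14 zb37) (kb xb13 yb2 zb5) (kb xb16 yb19 zb30) (kb xb8 yb18 zb39) (kb xb8 yb19 zb0) (kb xb13 yb13 zb19) (kb xb16 yb19 zb31) (kb xb11 yb18 zb15) (kb xb16 yb19 zb34) (kb xb9 yb6 zb14) (kb xb8 yb19 zb7) (kb xb13 yb2 zb28)) (@D3.rec (fun _ => Pt) (kb xb8 yb19 zb11) (kb xb14 yb0 zb13) (kb xb8 yb19 zb15) (kb xb14 yb0 zb0) (kb xb9 yb22 zb14) (kb xb11 yb19 zb19) (kb xb11 yb12 zb14) (kb xb11 yb12 zb19) (kb xb8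 yb19 zb21) (kb xb12 yb19 zb15) (kb xb15 yb21 zb38) (kb xb12 yb21 zb1) (kb xb8 yb19 zb23) (kb xb16 yb20 zb1) (kb xb12 yb19 zb26) (kb xb16 yb19 zb26) (kb xb8 yb19 zb28) (kb xb12 yb20 zb34) (kb xb8 yb19 zb30) (kb xb8 yb19 zb31) (kb xb11 yb12 zb20) (kb xb14 yb8 zb16) (kb xb8 yb19 zb35) (kb xb16 yb18 zb33) (kb xb11 yb1 zb27) (kb xb8 yb19 zb37) (kb xb8 yb20 zb7) (kb xb8 yb19 zb39) (kb xb15 yb22 zb4) (kb xb15 yb22 zb25) (kb xb10 yb25 zb33) (kb xb8 yb20 zb0) (kb xb8 yb20 zb1) (kb xb8 yb20 zb3) (kb xb8 yb20 zb4) (kb xb8 yb20 zb5) (kb xb15 yb6 zb11) (kb xb16 yb20 zb14) (kb xb16 yb20 zb4) (kb xb8 yb20 zb8)) (@D3.rec (fun _ => Pt) (kb xb15 yb15 zb2) (kb xb16 yb20 zb15) (kb xb13 yb2 zb6) (kb xb8 yb20 zb13) (kb xb8 yb20 zb14) (kb xb16 yb20 zb17) (kb xb13 yb14 zb32)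 (kb xb16 yb20 zb19) (kb xb11 yb13 zb17) (kb xb9 yb5 zb16) (kb xb8 yb20 zb21) (kb xb13 yb2 zb24) (kb xb8 yb20 zb25) (kb xb14 yb1 zb25) (kb xb8 yb20 zb29) (kb xb14 yb1 zb14) (kb xb9 yb21 zb20) (kb xb11 yb20 zb38) (kb xb11 yb17 zb19) (kb xb11 yb14 zb16) (kb xb8 yb20 zb35) (kb xb12 yb19 zb16) (kb xb15 yb18 zb16) (kb xb12 yb22 zb16) (kb xb8 yb20 zb37) (kb xb16 yb20 zb26) (kb xb12 yb19 zb39) (kb xb16 yb19 zb10) (kb xb8 yb21 zb2) (kb xb12 yb22 zb13) (kb xb8 yb21 zb4) (kb xb8 yb21 zb5) (kb xb11 yb17 zb24) (kb xb14 yb7 zb27) (kb xb8 yb21 zb9) (kb xb16 yb18 zb37) (kb xb10 yb23 zb28) (kb xb8 yb21 zb11) (kb xb8 yb21 zb21) (kb xb8 yb21 zb13)) (@D3.rec (fun _ => Pt) (kb xb15 yb19 zb24) (kb xb15 yb18 zb24) (kb xb10 yb21 zb33) (kb xb8 yb21 zb14) (kb xb8 yb21 zb15)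 (kb xb8 yb21 zb17) (kb xb8 yb21 zb18) (kb xb8 yb21 zb19) (kb xb15 yb0 zb17) (kb xb16 yb20 zb39) (kb xb16 yb20 zb29) (kb xb8 yb21 zb25) (kb xb13 yb3 zb16) (kb xb8 yb21 zb29) (kb xb9 yb7 zb22) (kb xb12 yb25 zb17) (kb xb8 yb22 zb33) (kb xb12 yb25 zb15) (kb xb8 yb21 zb35) (kb xb8 yb21 zb36) (kb xb15 yb25 zb39) (kb xb13 yb0 zb5) (kb xb13 yb0 zb35) (kb xb12 yb6 zb31) (kb xb16 yb0 zb14) (kb xb12 yb20 zb1) (kb xb8 yb22 zb9) (kb xb8 yb22 zb18) (kb xb8 yb22 zb10) (kb xb14 yb10 zb18) (kb xb8 yb23 zb30) (kb xb8 yb22 zb13) (kb xb8 yb22 zb14) (kb xb8 yb24 zb2) (kb xb16 yb21 zb5) (kb xb16 yb21 zb6) (kb xb11 yb24 zb22) (kb xb8 yb22 zb15) (kb xb16 yb21 zb3) (kb xb16 yb21 zb7))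
def f_b_13 : D2 → D3 → Pt := @D2.rec (fun _ => D3 → Pt) (@D3.rec (fun _ => Pt) (kb xb8 yb22 zb21) (kb xb8 yb22 zb25) (kb xb13 yb3 zb22) (kb xb9 yb7 zb29) (kb xb16 yb0 zb4) (kb xb12 yb25 zb21) (kb xb13 yb1 zb22) (kb xb12 yb6 zb35) (kb xb16 yb0 zb32) (kb xb12 yb19 zb27) (kb xb8 yb23 zb5) (kb xb8 yb23 zb14) (kb xb8 yb23 zb6) (kb xb14 yb9 zb10) (kb xb8 yb25 zb2) (kb xb8 yb23 zb9) (kb xb8 yb23 zb10) (kb xb8 yb25 zb9) (kb xb16 yb21 zb14) (kb xb11 yb25 zb27) (kb xb16 yb21 zb15) (kb xb8 yb23 zb12) (kb xb16 yb21 zb12) (kb xb16 yb21 zb16) (kb xb8 yb23 zb17) (kb xb8 yb23 zb19) (kb xb8 yb23 zb20) (kb xb13 yb1 zb25) (kb xb14 yb9 zb3) (kb xb8 yb23 zb22) (kb xb10 yb6 zb11) (kb xb8 yb25 zb22) (kb xb13 yb0 zb34) (kb xb8 yb25 zb25) (kb xb13 yb0 zb32) (kb xb12 yb25 zb22)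 (kb xb16 yb21 zb18) (kb xb9 yb2 zb18) (kb xb14 yb11 zb8) (kb xb13 yb1 zb18)) (@D3.rec (fun _ => Pt) (kb xb8 yb24 zb4) (kb xb9 yb2 zb23) (kb xb10 yb8 zb16) (kb xb14 yb10 zb10) (kb xb8 yb24 zb19) (kb xb10 yb8 zb15) (kb xb8 yb24 zb21) (kb xb8 yb24 zb20) (kb xb13 yb1 zb21) (kb xb16 yb21 zb19) (kb xb8 yb24 zb22) (kb xb8 yb24 zb23) (kb xb14 yb9 zb34) (kb xb13 yb4 zb23) (kb xb12 yb6 zb25) (kb xb16 yb21 zb22) (kb xb8 yb24 zb32) (kb xb8 yb24 zb33) (kb xb13 yb0 zb39) (kb xb14 yb10 zb11) (kb xb8 yb24 zb35) (kb xb13 yb1 zb8) (kb xb13 yb0 zb6) (kb xb16 yb21 zb23) (kb xb14 yb11 zb20) (kb xb13 yb0 zb27) (kb xb8 yb25 zb11) (kb xb10 yb6 zb12) (kb xb14 yb9 zb2) (kb xb8 yb25 zb23) (kb xb8 yb25 zb21) (kb xb16 yb21 zb24) (kb xb8 yb25 zb24) (kb xb13 yb4 zb21) (kb xb14 yb8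 zb26) (kb xb12 yb6 zb16) (kb xb16 yb21 zb27) (kb xb11 yb11 zb3) (kb xb9 yb0 zb22) (kb xb10 yb11 zb25)) (@D3.rec (fun _ => Pt) (kb xb11 yb16 zb12) (kb xb9 yb0 zb26) (kb xb10 yb11 zb20) (kb xb11 yb10 zb0) (kb xb11 yb15 zb12) (kb xb12 yb22 zb29) (kb xb12 yb24 zb2) (kb xb13 yb16 zb12) (kb xb13 yb2 zb12) (kb xb9 yb2 zb3) (kb xb14 yb7 zb0) (kb xb13 yb16 zb33) (kb xb13 yb2 zb8) (kb xb9 yb2 zb12) (kb xb14 yb6 zb12) (kb xb9 yb14 zb10) (kb xb9 yb14 zb12) (kb xb12 yb12 zb1) (kb xb10 yb24 zb38) (kb xb12 yb13 zb37) (kb xb11 yb2 zb37) (kb xb9 yb0 zb15) (kb xb13 yb9 zb6) (kb xb9 yb14 zb21) (kb xb12 yb24 zb11) (kb xb9 yb0 zb18) (kb xb13 yb7 zb37) (kb xb9 yb14 zb23) (kb xb12 yb22 zb39) (kb xb9 yb4 zb26) (kb xb13 yb2 zb30) (kb xb13 yb3 zb14) (kb xb9 yb0 zb21) (kb xb13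 yb21 zb14) (kb xb9 yb4 zb1) (kb xb16 yb21 zb30) (kb xb15 yb9 zb34) (kb xb13 yb6 zb25) (kb xb9 yb4 zb13) (kb xb13 yb2 zb39)) (@D3.rec (fun _ => Pt) (kb xb13 yb3 zb20) (kb xb9 yb0 zb25) (kb xb13 yb19 zb39) (kb xb9 yb3 zb25) (kb xb16 yb21 zb34) (kb xb15 yb4 zb9) (kb xb13 yb6 zb17) (kb xb16 yb22 zb22) (kb xb9 yb0 zb31) (kb xb16 yb22 zb23) (kb xb9 yb0 zb36) (kb xb12 yb8 zb14) (kb xb9 yb1 zb1) (kb xb13 yb3 zb13) (kb xb13 yb2 zb31) (kb xb13 yb3 zb15) (kb xb12 yb25 zb12) (kb xb9 yb1 zb4) (kb xb12 yb8 zb10) (kb xb13 yb3 zb19) (kb xb13 yb3 zb0) (kb xb13 yb3 zb21) (kb xb13 yb0 zb2) (kb xb11 yb8 zb18) (kb xb11 yb7 zb15) (kb xb9 yb1 zb19) (kb xb9 yb1 zb20) (kb xb9 yb1 zb21) (kb xb9 yb1 zb22) (kb xb9 yb1 zb31) (kb xb9 yb1 zb35) (kb xb9 yb1 zb25) (kb xb10 yb7 zb3)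 (kb xb16 yb22 zb34) (kb xb9 yb1 zb27) (kb xb10 yb9 zb7) (kb xb16 yb22 zb35) (kb xb9 yb9 zb3) (kb xb14 yb11 zb7) (kb xb11 yb24 zb18)) (@D3.rec (fun _ => Pt) (kb xb9 yb1 zb30) (kb xb15 yb24 zb38) (kb xb9 yb7 zb26) (kb xb16 yb22 zb36) (kb xb13 yb4 zb4) (kb xb11 yb25 zb20) (kb xb9 yb8 zb35) (kb xb14 yb11 zb19) (kb xb11 yb24 zb34) (kb xb9 yb1 zb34) (kb xb15 yb25 zb21) (kb xb9 yb7 zb19) (kb xb16 yb22 zb37) (kb xb13 yb4 zb13) (kb xb12 yb0 zb14) (kb xb16 yb22 zb38) (kb xb15 yb23 zb3) (kb xb14 yb4 zb16) (kb xb16 yb22 zb39) (kb xb15 yb20 zb16) (kb xb14 yb3 zb37) (kb xb13 yb1 zb33) (kb xb10 yb7 zb9) (kb xb13 yb1 zb13) (kb xb10 yb9 zb13) (kb xb9 yb2 zb25) (kb xb9 yb2 zb28) (kb xb9 yb2 zb30) (kb xb9 yb2 zb33) (kb xb15 yb17 zb8) (kb xb9 yb2 zb37) (kb xb9 yb3 zb4)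 (kb xb13 yb15 zb9) (kb xb11 yb19 zb22) (kb xb13 yb4 zb38) (kb xb15 yb21 zb2) (kb xb13 yb13 zb38) (kb xb11 yb21 zb1) (kb xb13 yb4 zb34) (kb xb16 yb23 zb0)) (@D3.rec (fun _ => Pt) (kb xb16 yb23 zb1) (kb xb9 yb3 zb15) (kb xb13 yb7 zb8) (kb xb16 yb23 zb4) (kb xb12 yb12 zb12) (kb xb9 yb3 zb16) (kb xb16 yb23 zb6) (kb xb16 yb23 zb10) (kb xb16 yb23 zb11) (kb xb9 yb3 zb18) (kb xb15 yb3 zb18) (kb xb9 yb3 zb21) (kb xb13 yb6 zb36) (kb xb9 yb3 zb20) (kb xb15 yb17 zb1) (kb xb16 yb0 zb22) (kb xb16 yb23 zb18) (kb xb13 yb6 zb2) (kb xb16 yb23 zb20) (kb xb16 yb22 zb6) (kb xb9 yb3 zb24) (kb xb16 yb23 zb24) (kb xb16 yb23 zb27) (kb xb15 yb1 zb36) (kb xb16 yb23 zb29) (kb xb9 yb3 zb28) (kb xb9 yb3 zb31) (kb xb13 yb8 zb17) (kb xb16 yb23 zb32) (kb xb12 yb14 zb8) (kb xb9 yb3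 zb32) (kb xb16 yb23 zb34) (kb xb16 yb23 zb38) (kb xb16 yb23 zb39) (kb xb9 yb3 zb34) (kb xb15 yb9 zb3) (kb xb9 yb3 zb37) (kb xb13 yb8 zb6) (kb xb9 yb3 zb36) (kb xb15 yb20 zb36)) (@D3.rec (fun _ => Pt) (kb xb16 yb0 zb1) (kb xb16 yb24 zb6) (kb xb13 yb5 zb17) (kb xb16 yb24 zb8) (kb xb16 yb22 zb10) (kb xb9 yb4 zb0) (kb xb16 yb24 zb12) (kb xb16 yb24 zb15) (kb xb15 yb7 zb26) (kb xb16 yb24 zb17) (kb xb9 yb4 zb4) (kb xb9 yb4 zb8) (kb xb9 yb14 zb38) (kb xb16 yb2 zb12) (kb xb9 yb18 zb23) (kb xb13 yb20 zb29) (kb xb13 yb6 zb24) (kb xb13 yb3 zb6) (kb xb16 yb24 zb21) (kb xb9 yb4 zb21) (kb xb9 yb15 zb4) (kb xb16 yb2 zb8) (kb xb9 yb18 zb5) (kb xb13 yb19 zb12) (kb xb13 yb6 zb16) (kb xb13 yb2 zb37) (kb xb16 yb24 zb25) (kb xb9 yb4 zb34) (kb xb13 yb7 zb39) (kb xb9 yb4 zb37)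 (kb xb14 yb13 zb8) (kb xb16 yb24 zb30) (kb xb16 yb10 zb26) (kb xb9 yb5 zb1) (kb xb14 yb24 zb31) (kb xb9 yb5 zb4) (kb xb13 yb5 zb12) (kb xb9 yb5 zb34) (kb xb16 yb24 zb36) (kb xb14 yb2 zb23)) (@D3.rec (fun _ => Pt) (kb xb9 yb19 zb16) (kb xb16 yb25 zb2) (kb xb9 yb5 zb7) (kb xb16 yb25 zb6) (kb xb16 yb25 zb7) (kb xb9 yb5 zb9) (kb xb13 yb13 zb12) (kb xb9 yb5 zb17) (kb xb13 yb5 zb2) (kb xb16 yb25 zb16) (kb xb9 yb5 zb22) (kb xb9 yb5 zb12) (kb xb16 yb25 zb20) (kb xb16 yb25 zb25) (kb xb15 yb10 zb21) (kb xb16 yb25 zb28) (kb xb9 yb5 zb14) (kb xb16 yb25 zb29) (kb xb16 yb25 zb13) (kb xb14 yb18 zb15) (kb xb9 yb5 zb20) (kb xb12 yb16 zb8) (kb xb13 yb24 zb23) (kb xb14 yb24 zb14) (kb xb11 yb1 zb1) (kb xb16 yb25 zb22) (kb xb16 yb13 zb39) (kb xb16 yb13 zb33) (kb xb17 yb0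 zb2) (kb xb9 yb5 zb25) (kb xb9 yb5 zb26) (kb xb17 yb0 zb4) (kb xb17 yb0 zb9) (kb xb13 yb7 zb33) (kb xb17 yb0 zb12) (kb xb9 yb5 zb29) (kb xb17 yb0 zb14) (kb xb13 yb2 zb26) (kb xb9 yb5 zb32) (kb xb13 yb6 zb28)) (@D3.rec (fun _ => Pt) (kb xb14 yb13 zb18) (kb xb17 yb0 zb22) (kb xb16 yb12 zb33) (kb xb9 yb5 zb39) (kb xb15 yb4 zb30) (kb xb9 yb6 zb2) (kb xb13 yb5 zb37) (kb xb17 yb0 zb28) (kb xb14 yb3 zb10) (kb xb9 yb20 zb9) (kb xb17 yb0 zb34) (kb xb9 yb6 zb5) (kb xb17 yb0 zb38) (kb xb17 yb0 zb39) (kb xb9 yb6 zb7) (kb xb13 yb14 zb26) (kb xb9 yb6 zb15) (kb xb13 yb5 zb27) (kb xb17 yb1 zb5) (kb xb9 yb6 zb19) (kb xb9 yb6 zb10) (kb xb17 yb1 zb9) (kb xb17 yb1 zb14) (kb xb15 yb12 zb16) (kb xb17 yb1 zb17) (kb xb9 yb6 zb12) (kb xb16 yb25 zb14) (kb xb17 yb1 zb3) (kb xb14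 yb17 zb2) (kb xb9 yb6 zb18) (kb xb12 yb17 zb27) (kb xb15 yb4 zb18) (kb xb13 yb23 zb14) (kb xb17 yb1 zb10) (kb xb10 yb23 zb2) (kb xb16 yb15 zb35) (kb xb16 yb15 zb29) (kb xb17 yb1 zb30) (kb xb9 yb6 zb23) (kb xb9 yb6 zb24)) (@D3.rec (fun _ => Pt) (kb xb17 yb1 zb32) (kb xb17 yb1 zb37) (kb xb13 yb9 zb2) (kb xb17 yb2 zb0) (kb xb9 yb6 zb27) (kb xb17 yb2 zb2) (kb xb13 yb2 zb22) (kb xb9 yb6 zb29) (kb xb16 yb4 zb31) (kb xb17 yb2 zb11) (kb xb14 yb25 zb10) (kb xb13 yb9 zb38) (kb xb9 yb6 zb33) (kb xb13 yb9 zb13) (kb xb15 yb10 zb9) (kb xb17 yb2 zb18) (kb xb16 yb14 zb9) (kb xb9 yb6 zb35) (kb xb13 yb9 zb18) (kb xb15 yb10 zb27) (kb xb9 yb6 zb36) (kb xb16 yb4 zb38) (kb xb15 yb5 zb9) (kb xb17 yb2 zb29) (kb xb13 yb10 zb6) (kb xb9 yb7 zb0) (kb xb15 yb12 zb4) (kb xb13 yb9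 zb27) (kb xb17 yb2 zb34) (kb xb16 yb16 zb5) (kb xb9 yb7 zb2) (kb xb15 yb12 zb22) (kb xb13 yb9 zb32) (kb xb17 yb3 zb2) (kb xb13 yb9 zb34) (kb xb15 yb13 zb36) (kb xb14 yb17 zb17) (kb xb17 yb3 zb10) (kb xb13 yb9 zb11) (kb xb9 yb7 zb8)) (@D3.rec (fun _ => Pt) (kb xb13 yb10 zb0) (kb xb15 yb14 zb4) (kb xb17 yb3 zb17) (kb xb15 yb14 zb10) (kb xb13 yb10 zb4) (kb xb14 yb18 zb30) (kb xb13 yb9 zb24) (kb xb9 yb7 zb13) (kb xb15 yb14 zb18) (kb xb9 yb7 zb16) (kb xb17 yb3 zb28) (kb xb13 yb10 zb14) (kb xb9 yb7 zb23) (kb xb17 yb3 zb29) (kb xb13 yb10 zb11) (kb xb9 yb7 zb32) (kb xb12 yb21 zb6) (kb xb13 yb15 zb28) (kb xb9 yb8 zb3) (kb xb13 yb11 zb21) (kb xb12 yb6 zb32) (kb xb9 yb8 zb0) (kb xb15 yb17 zb4) (kb xb9 yb8 zb2) (kb xb15 yb20 zb39) (kb xb11 yb18 zb8) (kb xb17 yb3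 zb32) (kb xb9 yb8 zb5) (kb xb17 yb3 zb34) (kb xb13 yb12 zb17) (kb xb17 yb3 zb33) (kb xb14 yb10 zb2) (kb xb9 yb8 zb6) (kb xb14 yb7 zb31) (kb xb12 yb6 zb36) (kb xb16 yb0 zb6) (kb xb10 yb6 zb27) (kb xb17 yb3 zb38) (kb xb9 yb8 zb10) (kb xb9 yb8 zb14)) (@D3.rec (fun _ => Pt) (kb xb12 yb22 zb20) (kb xb13 yb15 zb20) (kb xb9 yb8 zb25) (kb xb13 yb11 zb25) (kb xb9 yb8 zb22) (kb xb9 yb8 zb24) (kb xb11 yb13 zb5) (kb xb17 yb4 zb2) (kb xb9 yb8 zb27) (kb xb17 yb4 zb4) (kb xb13 yb11 zb37) (kb xb17 yb4 zb3) (kb xb14 yb8 zb35) (kb xb9 yb8 zb28) (kb xb14 yb8 zb20) (kb xb16 yb0 zb24) (kb xb10 yb8 zb29) (kb xb17 yb4 zb8) (kb xb9 yb8 zb32) (kb xb15 yb20 zb19) (kb xb9 yb8 zb39) (kb xb13 yb10 zb19) (kb xb9 yb9 zb1) (kb xb15 yb23 zb6) (kb xb9 yb9 zb7) (kb xb13 yb11 zb3) (kb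 xb9 yb9 zb9) (kb xb9 yb9 zb12) (kb xb14 yb9 zb39) (kb xb9 yb9 zb17) (kb xb12 yb19 zb21) (kb xb16 yb4 zb29) (kb xb9 yb9 zb19) (kb xb9 yb9 zb22) (kb xb17 yb3 zb39) (kb xb14 yb10 zb21) (kb xb9 yb9 zb24) (kb xb13 yb11 zb10) (kb xb16 yb21 zb17) (kb xb17 yb4 zb19)) (@D3.rec (fun _ => Pt) (kb xb16 yb5 zb25) (kb xb9 yb9 zb25) (kb xb15 yb19 zb9) (kb xb12 yb19 zb20) (kb xb17 yb4 zb25) (kb xb9 yb9 zb28) (kb xb9 yb9 zb32) (kb xb14 yb8 zb32) (kb xb9 yb9 zb37) (kb xb12 yb19 zb34) (kb xb16 yb4 zb3) (kb xb9 yb9 zb39) (kb xb9 yb10 zb2) (kb xb17 yb4 zb9) (kb xb14 yb9 zb12) (kb xb9 yb10 zb4) (kb xb16 yb21 zb8) (kb xb13 yb10 zb29) (kb xb17 yb4 zb31) (kb xb16 yb5 zb16) (kb xb9 yb10 zb5) (kb xb15 yb22 zb24) (kb xb12 yb19 zb33) (kb xb17 yb4 zb37) (kb xb9 yb10 zb8) (kb xb11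 yb13 zb19) (kb xb9 yb25 zb33) (kb xb12 yb10 zb11) (kb xb10 yb1 zb26) (kb xb10 yb2 zb6) (kb xb10 yb1 zb21) (kb xb15 yb7 zb35) (kb xb16 yb10 zb8) (kb xb15 yb18 zb4) (kb xb13 yb17 zb9) (kb xb17 yb5 zb2) (kb xb9 yb10 zb22) (kb xb9 yb10 zb24) (kb xb11 yb19 zb29) (kb xb13 yb13 zb34)) (@D3.rec (fun _ => Pt) (kb xb9 yb12 zb13) (kb xb11 yb14 zb25) (kb xb9 yb10 zb30) (kb xb17 yb5 zb4) (kb xb15 yb16 zb25) (kb xb11 yb9 zb26) (kb xb9 yb10 zb34) (kb xb13 yb14 zb0) (kb xb9 yb11 zb11) (kb xb11 yb13 zb31) (kb xb17 yb1 zb25) (kb xb12 yb20 zb24) (kb xb13 yb7 zb6) (kb xb11 yb21 zb27) (kb xb11 yb4 zb30) (kb xb9 yb11 zb0) (kb xb9 yb11 zb5) (kb xb9 yb23 zb14) (kb xb17 yb5 zb10) (kb xb12 yb22 zb33) (kb xb9 yb11 zb8) (kb xb17 yb5 zb12) (kb xb15 yb21 zb3) (kb xb11 yb18 zb14)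 (kb xb11 yb13 zb11) (kb xb9 yb11 zb13) (kb xb9 yb12 zb23) (kb xb14 yb3 zb20) (kb xb9 yb12 zb7) (kb xb10 yb24 zb15) (kb xb15 yb2 zb18) (kb xb10 yb0 zb0) (kb xb9 yb11 zb17) (kb xb9 yb11 zb18) (kb xb13 yb12 zb39) (kb xb17 yb5 zb16) (kb xb17 yb5 zb17) (kb xb14 yb25 zb2) (kb xb13 yb4 zb36) (kb xb9 yb11 zb23)) (@D3.rec (fun _ => Pt) (kb xb13 yb13 zb7) (kb xb15 yb17 zb24) (kb xb11 yb18 zb17) (kb xb10 yb0 zb27) (kb xb12 yb10 zb26) (kb xb10 yb2 zb35) (kb xb10 yb3 zb13) (kb xb10 yb2 zb30) (kb xb15 yb2 zb5) (kb xb16 yb12 zb18) (kb xb15 yb21 zb28) (kb xb13 yb17 zb11) (kb xb17 yb5 zb26) (kb xb9 yb11 zb35) (kb xb9 yb11 zb37) (kb xb11 yb21 zb8) (kb xb13 yb15 zb5) (kb xb11 yb19 zb8) (kb xb9 yb12 zb3) (kb xb15 yb19 zb0) (kb xb17 yb5 zb27) (kb xb11 yb14 zb38) (kb xb13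 yb15 zb11) (kb xb11 yb18 zb27) (kb xb16 yb25 zb38) (kb xb12 yb22 zb4) (kb xb13 yb8 zb15) (kb xb11 yb20 zb8) (kb xb11 yb3 zb17) (kb xb9 yb12 zb18) (kb xb9 yb23 zb16) (kb xb17 yb5 zb32) (kb xb12 yb24 zb6) (kb xb9 yb12 zb21) (kb xb17 yb5 zb34) (kb xb11 yb13 zb14) (kb xb15 yb17 zb9) (kb xb11 yb12 zb5) (kb xb9 yb12 zb26) (kb xb14 yb3 zb19)) (@D3.rec (fun _ => Pt) (kb xb11 yb2 zb15) (kb xb15 yb8 zb7) (kb xb10 yb0 zb34) (kb xb9 yb12 zb30) (kb xb9 yb12 zb31) (kb xb13 yb14 zb16) (kb xb17 yb5 zb38) (kb xb17 yb5 zb39) (kb xb15 yb5 zb2) (kb xb13 yb4 zb32) (kb xb9 yb12 zb36) (kb xb13 yb14 zb22) (kb xb15 yb21 zb13) (kb xb9 yb12 zb39) (kb xb11 yb17 zb11) (kb xb9 yb13 zb0) (kb xb9 yb13 zb4) (kb xb9 yb13 zb5) (kb xb17 yb6 zb7) (kb xb14 yb4 zb33) (kb xb13 yb11 zb1) (kb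 xb13 yb15 zb21) (kb xb15 yb23 zb15) (kb xb14 yb7 zb2) (kb xb11 yb12 zb6) (kb xb9 yb13 zb10) (kb xb9 yb13 zb12) (kb xb17 yb6 zb10) (kb xb13 yb10 zb17) (kb xb14 yb5 zb14) (kb xb15 yb24 zb9) (kb xb13 yb15 zb31) (kb xb14 yb6 zb14) (kb xb12 yb9 zb14) (kb xb14 yb6 zb18) (kb xb11 yb19 zb16) (kb xb17 yb6 zb13) (kb xb9 yb13 zb21) (kb xb14 yb7 zb37) (kb xb14 yb11 zb10)) (@D3.rec (fun _ => Pt) (kb xb11 yb10 zb38) (kb xb9 yb13 zb26) (kb xb11 yb22 zb26) (kb xb17 yb4 zb12) (kb xb11 yb12 zb18) (kb xb17 yb6 zb15) (kb xb11 yb22 zb24) (kb xb10 yb1 zb17) (kb xb9 yb21 zb5) (kb xb12 yb7 zb4) (kb xb13 yb16 zb10) (kb xb15 yb6 zb24) (kb xb13 yb2 zb7) (kb xb9 yb13 zb32) (kb xb12 yb9 zb20) (kb xb14 yb5 zb24) (kb xb11 yb20 zb35) (kb xb17 yb6 zb23) (kb xb9 yb13 zb38) (kb xb14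 yb7 zb3) (kb xb14 yb11 zb22) (kb xb11 yb16 zb7) (kb xb9 yb14 zb3) (kb xb17 yb4 zb10) (kb xb11 yb23 zb31) (kb xb11 yb17 zb23) (kb xb17 yb6 zb25) (kb xb11 yb23 zb30) (kb xb10 yb2 zb26) (kb xb9 yb21 zb39) (kb xb12 yb7 zb29) (kb xb15 yb0 zb30) (kb xb13 yb16 zb32) (kb xb13 yb2 zb11) (kb xb9 yb14 zb9) (kb xb16 yb22 zb0) (kb xb16 yb25 zb33) (kb xb16 yb22 zb1) (kb xb17 yb1 zb21) (kb xb16 yb1 zb5)) (@D3.rec (fun _ => Pt) (kb xb17 yb6 zb38) (kb xb9 yb14 zb15) (kb xb12 yb1 zb9) (kb xb16 yb1 zb11) (kb xb17 yb7 zb3) (kb xb9 yb14 zb18) (kb xb12 yb1 zb5) (kb xb16 yb22 zb8) (kb xb16 yb22 zb12) (kb xb13 yb12 zb34) (kb xb9 yb14 zb28) (kb xb13 yb14 zb11) (kb xb9 yb14 zb30) (kb xb13 yb22 zb3) (kb xb17 yb7 zb10) (kb xb9 yb15 zb0) (kb xb17 yb7 zb17) (kb xb13 yb22 zb26) (kb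 xb17 yb7 zb7) (kb xb9 yb15 zb6) (kb xb17 yb7 zb23) (kb xb16 yb24 zb18) (kb xb16 yb9 zb3) (kb xb17 yb7 zb15) (kb xb17 yb7 zb27) (kb xb9 yb15 zb1) (kb xb17 yb7 zb31) (kb xb16 yb24 zb22) (kb xb16 yb8 zb18) (kb xb17 yb7 zb21) (kb xb17 yb7 zb35) (kb xb9 yb15 zb7) (kb xb17 yb7 zb39) (kb xb9 yb15 zb10) (kb xb17 yb8 zb0) (kb xb9 yb15 zb12) (kb xb17 yb8 zb4) (kb xb9 yb15 zb26) (kb xb9 yb15 zb15) (kb xb17 yb8 zb10)) (@D3.rec (fun _ => Pt) (kb xb9 yb15 zb35) (kb xb9 yb16 zb3) (kb xb9 yb15 zb19) (kb xb17 yb8 zb16) (kb xb9 yb16 zb12) (kb xb13 yb23 zb15) (kb xb15 yb0 zb3) (kb xb17 yb8 zb24) (kb xb10 yb15 zb5) (kb xb10 yb19 zb10) (kb xb10 yb14 zb9) (kb xb9 yb15 zb30) (kb xb9 yb15 zb29) (kb xb17 yb8 zb27) (kb xb9 yb19 zb19) (kb xb17 yb8 zb32) (kb xb17 yb8 zb33) (kb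 xb9 yb15 zb33) (kb xb17 yb8 zb36) (kb xb17 yb9 zb1) (kb xb15 yb3 zb20) (kb xb17 yb8 zb13) (kb xb17 yb9 zb4) (kb xb9 yb15 zb36) (kb xb17 yb9 zb8) (kb xb13 yb24 zb24) (kb xb17 yb9 zb12) (kb xb15 yb6 zb2) (kb xb10 yb20 zb39) (kb xb10 yb14 zb20) (kb xb10 yb14 zb14) (kb xb9 yb16 zb7) (kb xb9 yb16 zb6) (kb xb17 yb9 zb16) (kb xb9 yb20 zb12) (kb xb17 yb9 zb21) (kb xb17 yb9 zb22) (kb xb9 yb16 zb10) (kb xb17 yb9 zb25) (kb xb17 yb9 zb30)) (@D3.rec (fun _ => Pt) (kb xb15 yb9 zb5) (kb xb17 yb8 zb19) (kb xb17 yb9 zb33) (kb xb9 yb16 zb13) (kb xb17 yb9 zb37) (kb xb12 yb4 zb24) (kb xb9 yb16 zb17) (kb xb17 yb10 zb0) (kb xb17 yb10 zb1) (kb xb10 yb13 zb7) (kb xb14 yb11 zb23) (kb xb17 yb10 zb6) (kb xb13 yb6 zb23) (kb xb9 yb16 zb19) (kb xb14 yb2 zb25) (kb xb14 yb24 zb11)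 (kb xb10 yb24 zb16) (kb xb17 yb10 zb9) (kb xb9 yb16 zb27) (kb xb9 yb19 zb2) (kb xb13 yb23 zb35) (kb xb14 yb24 zb33) (kb xb9 yb16 zb26) (kb xb17 yb10 zb13) (kb xb9 yb20 zb37) (kb xb9 yb16 zb29) (kb xb9 yb16 zb30) (kb xb17 yb10 zb17) (kb xb17 yb10 zb19) (kb xb14 yb1 zb39) (kb xb17 yb10 zb21) (kb xb9 yb16 zb31) (kb xb9 yb16 zb32) (kb xb17 yb10 zb27) (kb xb17 yb10 zb23) (kb xb13 yb23 zb11) (kb xb9 yb16 zb34) (kb xb15 yb12 zb1) (kb xb17 yb10 zb32) (kb xb13 yb3 zb2)) (@D3.rec (fun _ => Pt) (kb xb15 yb1 zb35) (kb xb15 yb13 zb20) (kb xb9 yb16 zb38) (kb xb14 yb10 zb31) (kb xb12 yb5 zb22) (kb xb17 yb10 zb39) (kb xb9 yb17 zb0) (kb xb9 yb17 zb1) (kb xb17 yb11 zb0) (kb xb17 yb11 zb3) (kb xb17 yb11 zb5) (kb xb15 yb13 zb19) (kb xb11 yb14 zb0) (kb xb16 yb21 zb10) (kb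 xb9 yb17 zb4) (kb xb12 yb5 zb20) (kb xb11 yb16 zb36) (kb xb15 yb2 zb0) (kb xb17 yb11 zb10) (kb xb9 yb17 zb8) (kb xb12 yb5 zb13) (kb xb9 yb17 zb11) (kb xb17 yb11 zb14) (kb xb17 yb11 zb15) (kb xb10 yb13 zb17) (kb xb17 yb11 zb19) (kb xb14 yb11 zb27) (kb xb9 yb17 zb12) (kb xb14 yb3 zb12) (kb xb13 yb6 zb15) (kb xb15 yb4 zb15) (kb xb11 yb2 zb13) (kb xb17 yb11 zb23) (kb xb9 yb17 zb21) (kb xb13 yb25 zb4) (kb xb9 yb19 zb36) (kb xb15 yb4 zb31) (kb xb9 yb17 zb20) (kb xb17 yb11 zb27) (kb xb9 yb21 zb33)) (@D3.rec (fun _ => Pt) (kb xb9 yb17 zb23) (kb xb9 yb17 zb24) (kb xb17 yb11 zb31) (kb xb17 yb11 zb33) (kb xb14 yb2 zb28) (kb xb17 yb11 zb35) (kb xb9 yb17 zb25) (kb xb9 yb17 zb26) (kb xb17 yb12 zb1) (kb xb17 yb11 zb37) (kb xb13 yb24 zb20) (kb xb9 yb17 zb28) (kb xb15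 yb10 zb5) (kb xb17 yb12 zb6) (kb xb13 yb2 zb33) (kb xb15 yb7 zb25) (kb xb15 yb11 zb21) (kb xb9 yb17 zb32) (kb xb14 yb9 zb23) (kb xb12 yb4 zb33) (kb xb17 yb12 zb13) (kb xb9 yb17 zb34) (kb xb9 yb17 zb35) (kb xb17 yb11 zb2) (kb xb17 yb12 zb15) (kb xb15 yb11 zb20) (kb xb17 yb12 zb17) (kb xb11 yb18 zb30) (kb xb16 yb21 zb1) (kb xb9 yb17 zb38) (kb xb12 yb4 zb31) (kb xb11 yb11 zb30) (kb xb15 yb7 zb30) (kb xb17 yb12 zb22) (kb xb9 yb18 zb2) (kb xb16 yb2 zb6) (kb xb10 yb17 zb31) (kb xb9 yb18 zb9) (kb xb14 yb20 zb3) (kb xb17 yb12 zb25)) (@D3.rec (fun _ => Pt) (kb xb17 yb12 zb27) (kb xb10 yb12 zb34) (kb xb9 yb18 zb12) (kb xb13 yb17 zb13) (kb xb17 yb12 zb32) (kb xb17 yb12 zb29) (kb xb17 yb12 zb34) (kb xb9 yb18 zb13) (kb xb9 yb18 zb14) (kb xb17 yb12 zb36) (kb xb17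 yb13 zb2) (kb xb9 yb18 zb16) (kb xb9 yb18 zb17) (kb xb14 yb19 zb30) (kb xb9 yb18 zb20) (kb xb17 yb13 zb7) (kb xb13 yb22 zb38) (kb xb16 yb2 zb10) (kb xb10 yb19 zb21) (kb xb9 yb18 zb28) (kb xb14 yb22 zb27) (kb xb17 yb13 zb10) (kb xb17 yb13 zb12) (kb xb10 yb12 zb38) (kb xb9 yb18 zb31) (kb xb17 yb13 zb16) (kb xb13 yb17 zb17) (kb xb17 yb13 zb14) (kb xb17 yb13 zb19) (kb xb9 yb18 zb32) (kb xb9 yb18 zb33) (kb xb17 yb13 zb21) (kb xb17 yb13 zb27) (kb xb9 yb18 zb35) (kb xb9 yb18 zb36) (kb xb14 yb22 zb14) (kb xb9 yb18 zb39) (kb xb17 yb13 zb32) (kb xb13 yb22 zb16) (kb xb9 yb19 zb3)) (@D3.rec (fun _ => Pt) (kb xb14 yb24 zb25) (kb xb14 yb12 zb38) (kb xb9 yb19 zb6) (kb xb17 yb7 zb12) (kb xb17 yb13 zb39) (kb xb17 yb13 zb36) (kb xb17 yb14 zb2) (kb xb9 yb19 zb7) (kb xb9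 yb19 zb8) (kb xb17 yb14 zb8) (kb xb17 yb14 zb4) (kb xb13 yb19 zb35) (kb xb9 yb19 zb10) (kb xb15 yb10 zb33) (kb xb13 yb8 zb32) (kb xb13 yb18 zb5) (kb xb17 yb14 zb14) (kb xb9 yb19 zb15) (kb xb9 yb20 zb31) (kb xb17 yb14 zb18) (kb xb9 yb19 zb17) (kb xb17 yb8 zb30) (kb xb17 yb14 zb23) (kb xb9 yb19 zb23) (kb xb17 yb8 zb31) (kb xb17 yb14 zb29) (kb xb17 yb14 zb21) (kb xb9 yb19 zb21) (kb xb9 yb19 zb22) (kb xb17 yb14 zb36) (kb xb17 yb14 zb26) (kb xb17 yb15 zb1) (kb xb9 yb19 zb24) (kb xb17 yb15 zb5) (kb xb17 yb8 zb29) (kb xb13 yb19 zb20) (kb xb16 yb24 zb27) (kb xb14 yb0 zb27) (kb xb10 yb12 zb6) (kb xb14 yb1 zb35)) (@D3.rec (fun _ => Pt) (kb xb12 yb20 zb29) (kb xb9 yb19 zb28) (kb xb15 yb7 zb24) (kb xb17 yb5 zb15) (kb xb15 yb24 zb0) (kb xb17 yb15 zb12) (kb xb9 yb19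 zb31) (kb xb9 yb19 zb32) (kb xb9 yb19 zb35) (kb xb15 yb4 zb34) (kb xb14 yb13 zb3) (kb xb9 yb19 zb39) (kb xb17 yb15 zb17) (kb xb17 yb7 zb18) (kb xb17 yb15 zb15) (kb xb17 yb15 zb21) (kb xb9 yb20 zb0) (kb xb9 yb20 zb1) (kb xb17 yb15 zb26) (kb xb17 yb15 zb23) (kb xb13 yb21 zb10) (kb xb9 yb20 zb3) (kb xb15 yb12 zb30) (kb xb13 yb7 zb22) (kb xb13 yb18 zb25) (kb xb17 yb15 zb31) (kb xb9 yb20 zb8) (kb xb9 yb21 zb27) (kb xb17 yb15 zb35) (kb xb9 yb20 zb10) (kb xb17 yb9 zb19) (kb xb17 yb16 zb0) (kb xb9 yb20 zb16) (kb xb17 yb9 zb20) (kb xb17 yb16 zb6) (kb xb17 yb15 zb38) (kb xb9 yb20 zb14) (kb xb9 yb20 zb15) (kb xb17 yb16 zb13) (kb xb17 yb16 zb3)) (@D3.rec (fun _ => Pt) (kb xb17 yb16 zb18) (kb xb9 yb20 zb17) (kb xb17 yb16 zb22) (kb xb17 yb9 zb18) (kb xb13 yb20 zb34)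 (kb xb17 yb0 zb19) (kb xb14 yb1 zb36) (kb xb10 yb12 zb13) (kb xb14 yb0 zb26) (kb xb12 yb22 zb8) (kb xb9 yb20 zb21) (kb xb15 yb1 zb34) (kb xb17 yb5 zb37) (kb xb15 yb24 zb35) (kb xb17 yb16 zb29) (kb xb9 yb20 zb24) (kb xb9 yb20 zb25) (kb xb17 yb16 zb30) (kb xb9 yb20 zb28) (kb xb9 yb20 zb29) (kb xb16 yb5 zb32) (kb xb17 yb9 zb38) (kb xb16 yb25 zb0) (kb xb17 yb16 zb36) (kb xb16 yb9 zb17) (kb xb17 yb16 zb37) (kb xb9 yb20 zb32) (kb xb14 yb0 zb3) (kb xb17 yb17 zb0) (kb xb14 yb2 zb7) (kb xb17 yb17 zb2) (kb xb14 yb2 zb10) (kb xb17 yb17 zb5) (kb xb17 yb17 zb7) (kb xb9 yb20 zb38) (kb xb17 yb17 zb10) (kb xb17 yb17 zb11) (kb xb17 yb17 zb12) (kb xb9 yb21 zb1) (kb xb9 yb21 zb2))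
def f_b_14 : D2 → D3 → Pt := @D2.rec (fun _ => D3 → Pt) (@D3.rec (fun _ => Pt) (kb xb12 yb23 zb3) (kb xb9 yb21 zb4) (kb xb16 yb24 zb37) (kb xb13 yb25 zb27) (kb xb15 yb6 zb21) (kb xb16 yb24 zb34) (kb xb9 yb21 zb9) (kb xb9 yb21 zb10) (kb xb17 yb17 zb25) (kb xb15 yb11 zb9) (kb xb17 yb17 zb30) (kb xb17 yb17 zb32) (kb xb17 yb17 zb33) (kb xb12 yb23 zb1) (kb xb16 yb20 zb23) (kb xb9 yb21 zb14) (kb xb17 yb17 zb38) (kb xb16 yb25 zb39) (kb xb17 yb18 zb2) (kb xb15 yb11 zb6) (kb xb14 yb22 zb16) (kb xb9 yb21 zb17) (kb xb17 yb18 zb6) (kb xb9 yb21 zb18) (kb xb16 yb24 zb35) (kb xb12 yb20 zb4) (kb xb13 yb25 zb8) (kb xb13 yb23 zb37) (kb xb17 yb18 zb12) (kb xb9 yb21 zb23) (kb xb9 yb21 zb24) (kb xb16 yb5 zb39) (kb xb17 yb11 zb12) (kb xb17 yb18 zb18) (kb xb17 yb0 zb32) (kb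 xb17 yb18 zb19) (kb xb16 yb11 zb29) (kb xb9 yb21 zb26) (kb xb17 yb18 zb22) (kb xb14 yb1 zb13)) (@D3.rec (fun _ => Pt) (kb xb14 yb2 zb36) (kb xb17 yb18 zb24) (kb xb14 yb2 zb39) (kb xb17 yb18 zb27) (kb xb9 yb21 zb32) (kb xb17 yb18 zb31) (kb xb17 yb18 zb32) (kb xb17 yb18 zb33) (kb xb17 yb18 zb34) (kb xb9 yb21 zb36) (kb xb9 yb21 zb37) (kb xb9 yb21 zb38) (kb xb17 yb0 zb29) (kb xb14 yb0 zb39) (kb xb12 yb24 zb15) (kb xb17 yb0 zb26) (kb xb15 yb0 zb27) (kb xb9 yb22 zb4) (kb xb9 yb22 zb5) (kb xb17 yb19 zb7) (kb xb15 yb13 zb5) (kb xb17 yb19 zb12) (kb xb17 yb19 zb14) (kb xb17 yb19 zb15) (kb xb16 yb19 zb38) (kb xb12 yb24 zb13) (kb xb9 yb22 zb9) (kb xb17 yb1 zb27) (kb xb15 yb13 zb2) (kb xb14 yb19 zb32) (kb xb9 yb22 zb12) (kb xb17 yb19 zb24) (kb xb9 yb22 zb13) (kb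 xb17 yb0 zb27) (kb xb12 yb21 zb25) (kb xb13 yb23 zb39) (kb xb13 yb25 zb6) (kb xb16 yb5 zb19) (kb xb9 yb22 zb19) (kb xb13 yb19 zb29)) (@D3.rec (fun _ => Pt) (kb xb17 yb8 zb21) (kb xb17 yb19 zb32) (kb xb17 yb12 zb20) (kb xb9 yb22 zb21) (kb xb9 yb22 zb22) (kb xb14 yb24 zb28) (kb xb14 yb2 zb22) (kb xb13 yb25 zb29) (kb xb16 yb6 zb32) (kb xb17 yb20 zb0) (kb xb13 yb25 zb31) (kb xb17 yb20 zb2) (kb xb17 yb20 zb5) (kb xb9 yb22 zb27) (kb xb17 yb20 zb7) (kb xb9 yb22 zb28) (kb xb17 yb20 zb10) (kb xb14 yb23 zb10) (kb xb17 yb20 zb11) (kb xb9 yb22 zb31) (kb xb9 yb22 zb32) (kb xb16 yb19 zb37) (kb xb14 yb2 zb6) (kb xb13 yb6 zb39) (kb xb10 yb22 zb36) (kb xb13 yb19 zb14) (kb xb16 yb5 zb28) (kb xb9 yb22 zb37) (kb xb13 yb21 zb4) (kb xb17 yb20 zb20) (kb xb17 yb9 zb11) (kb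 xb17 yb11 zb8) (kb xb9 yb22 zb39) (kb xb9 yb23 zb0) (kb xb15 yb4 zb27) (kb xb14 yb3 zb14) (kb xb14 yb1 zb0) (kb xb17 yb20 zb27) (kb xb16 yb7 zb4) (kb xb14 yb1 zb2)) (@D3.rec (fun _ => Pt) (kb xb17 yb20 zb32) (kb xb17 yb20 zb30) (kb xb9 yb23 zb5) (kb xb17 yb20 zb37) (kb xb9 yb23 zb6) (kb xb17 yb20 zb38) (kb xb17 yb20 zb39) (kb xb14 yb20 zb26) (kb xb9 yb23 zb9) (kb xb9 yb23 zb10) (kb xb13 yb8 zb8) (kb xb11 yb0 zb35) (kb xb13 yb20 zb28) (kb xb16 yb20 zb22) (kb xb14 yb2 zb35) (kb xb12 yb11 zb38) (kb xb14 yb5 zb34) (kb xb12 yb13 zb35) (kb xb14 yb6 zb26) (kb xb13 yb14 zb39) (kb xb13 yb13 zb27) (kb xb16 yb19 zb14) (kb xb9 yb23 zb22) (kb xb17 yb21 zb8) (kb xb9 yb23 zb24) (kb xb15 yb16 zb24) (kb xb11 yb13 zb29) (kb xb14 yb6 zb0) (kb xb14 yb4 zb30) (kb xb12 yb6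 zb5) (kb xb9 yb23 zb39) (kb xb17 yb3 zb36) (kb xb14 yb3 zb39) (kb xb9 yb24 zb5) (kb xb9 yb24 zb9) (kb xb11 yb14 zb27) (kb xb9 yb24 zb10) (kb xb13 yb4 zb20) (kb xb9 yb24 zb16) (kb xb14 yb3 zb32)) (@D3.rec (fun _ => Pt) (kb xb16 yb19 zb28) (kb xb9 yb24 zb19) (kb xb17 yb21 zb10) (kb xb9 yb24 zb21) (kb xb15 yb20 zb21) (kb xb11 yb18 zb25) (kb xb14 yb6 zb32) (kb xb14 yb5 zb11) (kb xb12 yb6 zb12) (kb xb9 yb24 zb36) (kb xb17 yb4 zb6) (kb xb14 yb4 zb18) (kb xb9 yb25 zb2) (kb xb9 yb25 zb4) (kb xb11 yb19 zb10) (kb xb9 yb25 zb6) (kb xb13 yb4 zb17) (kb xb9 yb25 zb11) (kb xb14 yb4 zb11) (kb xb14 yb4 zb19) (kb xb16 yb7 zb23) (kb xb15 yb17 zb28) (kb xb12 yb0 zb9) (kb xb17 yb21 zb14) (kb xb15 yb23 zb19) (kb xb10 yb1 zb28) (kb xb10 yb11 zb8) (kb xb15 yb10 zb34) (kb xb9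 yb25 zb28) (kb xb17 yb12 zb10) (kb xb14 yb3 zb28) (kb xb9 yb25 zb31) (kb xb14 yb7 zb1) (kb xb13 yb15 zb19) (kb xb10 yb4 zb13) (kb xb17 yb6 zb6) (kb xb11 yb22 zb25) (kb xb10 yb0 zb2) (kb xb15 yb22 zb15) (kb xb10 yb0 zb3)) (@D3.rec (fun _ => Pt) (kb xb14 yb5 zb0) (kb xb16 yb7 zb38) (kb xb15 yb21 zb17) (kb xb11 yb25 zb13) (kb xb17 yb21 zb18) (kb xb15 yb24 zb14) (kb xb10 yb2 zb38) (kb xb10 yb11 zb11) (kb xb15 yb12 zb28) (kb xb10 yb0 zb22) (kb xb17 yb10 zb36) (kb xb14 yb4 zb7) (kb xb10 yb0 zb25) (kb xb14 yb6 zb13) (kb xb13 yb15 zb29) (kb xb10 yb5 zb24) (kb xb17 yb6 zb9) (kb xb11 yb23 zb32) (kb xb10 yb0 zb36) (kb xb15 yb18 zb35) (kb xb10 yb0 zb37) (kb xb16 yb3 zb12) (kb xb10 yb1 zb5) (kb xb10 yb1 zb8) (kb xb13 yb16 zb15) (kb xb10 yb1 zb12) (kb xb16 yb10 zb5)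 (kb xb17 yb6 zb18) (kb xb10 yb1 zb14) (kb xb12 yb7 zb13) (kb xb12 yb20 zb39) (kb xb12 yb7 zb24) (kb xb11 yb14 zb28) (kb xb10 yb1 zb23) (kb xb14 yb3 zb16) (kb xb12 yb20 zb16) (kb xb15 yb18 zb2) (kb xb12 yb20 zb12) (kb xb15 yb21 zb15) (kb xb12 yb20 zb19)) (@D3.rec (fun _ => Pt) (kb xb14 yb3 zb27) (kb xb15 yb14 zb31) (kb xb12 yb5 zb30) (kb xb10 yb2 zb0) (kb xb12 yb3 zb25) (kb xb16 yb11 zb38) (kb xb16 yb10 zb10) (kb xb10 yb1 zb39) (kb xb17 yb21 zb26) (kb xb10 yb2 zb1) (kb xb11 yb19 zb11) (kb xb12 yb6 zb39) (kb xb13 yb2 zb14) (kb xb14 yb5 zb13) (kb xb13 yb15 zb32) (kb xb16 yb3 zb17) (kb xb10 yb2 zb14) (kb xb10 yb2 zb17) (kb xb13 yb15 zb34) (kb xb16 yb12 zb15) (kb xb17 yb6 zb28) (kb xb10 yb2 zb23) (kb xb10 yb2 zb24) (kb xb12 yb22 zb14) (kb xb12 yb7 zb38)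 (kb xb10 yb2 zb33) (kb xb14 yb3 zb18) (kb xb12 yb21 zb35) (kb xb12 yb21 zb32) (kb xb15 yb19 zb12) (kb xb15 yb17 zb26) (kb xb12 yb21 zb39) (kb xb14 yb4 zb6) (kb xb15 yb14 zb28) (kb xb12 yb5 zb2) (kb xb10 yb3 zb9) (kb xb12 yb3 zb36) (kb xb16 yb9 zb27) (kb xb16 yb9 zb30) (kb xb17 yb21 zb33)) (@D3.rec (fun _ => Pt) (kb xb13 yb2 zb10) (kb xb14 yb4 zb32) (kb xb13 yb15 zb23) (kb xb13 yb16 zb19) (kb xb12 yb0 zb23) (kb xb12 yb14 zb35) (kb xb10 yb5 zb7) (kb xb10 yb3 zb30) (kb xb10 yb3 zb31) (kb xb12 yb22 zb21) (kb xb17 yb21 zb37) (kb xb11 yb17 zb3) (kb xb10 yb4 zb3) (kb xb17 yb21 zb38) (kb xb12 yb19 zb36) (kb xb10 yb6 zb23) (kb xb12 yb20 zb0) (kb xb10 yb4 zb5) (kb xb10 yb6 zb28) (kb xb11 yb23 zb12) (kb xb12 yb11 zb13) (kb xb16 yb20 zb5) (kb xb10 yb4 zb24) (kb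 xb11 yb18 zb39) (kb xb12 yb3 zb39) (kb xb10 yb8 zb30) (kb xb10 yb4 zb20) (kb xb12 yb24 zb33) (kb xb17 yb22 zb4) (kb xb15 yb22 zb0) (kb xb11 yb25 zb3) (kb xb13 yb10 zb33) (kb xb10 yb5 zb29) (kb xb10 yb4 zb29) (kb xb10 yb7 zb31) (kb xb10 yb4 zb31) (kb xb10 yb9 zb33) (kb xb13 yb15 zb38) (kb xb12 yb0 zb24) (kb xb12 yb13 zb1)) (@D3.rec (fun _ => Pt) (kb xb10 yb5 zb4) (kb xb12 yb21 zb7) (kb xb17 yb22 zb11) (kb xb11 yb11 zb37) (kb xb10 yb5 zb15) (kb xb17 yb22 zb12) (kb xb12 yb19 zb23) (kb xb10 yb8 zb25) (kb xb12 yb19 zb28) (kb xb10 yb5 zb17) (kb xb11 yb24 zb12) (kb xb12 yb11 zb30) (kb xb16 yb20 zb30) (kb xb10 yb5 zb33) (kb xb11 yb14 zb13) (kb xb12 yb3 zb28) (kb xb12 yb23 zb21) (kb xb17 yb22 zb9) (kb xb15 yb18 zb19) (kb xb11 yb25 zb39) (kb xb13 yb11 zb14) (kb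 xb15 yb14 zb22) (kb xb10 yb5 zb38) (kb xb10 yb6 zb0) (kb xb10 yb6 zb3) (kb xb16 yb19 zb35) (kb xb13 yb1 zb34) (kb xb10 yb6 zb15) (kb xb15 yb23 zb5) (kb xb14 yb8 zb34) (kb xb10 yb6 zb20) (kb xb16 yb2 zb21) (kb xb13 yb12 zb7) (kb xb12 yb6 zb26) (kb xb14 yb8 zb29) (kb xb13 yb11 zb12) (kb xb10 yb6 zb39) (kb xb17 yb22 zb25) (kb xb10 yb6 zb33) (kb xb10 yb6 zb34)) (@D3.rec (fun _ => Pt) (kb xb10 yb6 zb35) (kb xb10 yb6 zb36) (kb xb13 yb1 zb28) (kb xb13 yb0 zb28) (kb xb10 yb7 zb7) (kb xb10 yb10 zb16) (kb xb10 yb7 zb16) (kb xb17 yb22 zb27) (kb xb10 yb7 zb20) (kb xb10 yb7 zb21) (kb xb13 yb0 zb13) (kb xb10 yb7 zb27) (kb xb13 yb12 zb14) (kb xb17 yb22 zb30) (kb xb17 yb22 zb28) (kb xb16 yb20 zb34) (kb xb10 yb7 zb28) (kb xb10 yb7 zb29) (kb xb15 yb6 zb28) (kb xb10 yb7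 zb34) (kb xb15 yb11 zb38) (kb xb10 yb7 zb37) (kb xb14 yb10 zb33) (kb xb13 yb21 zb18) (kb xb14 yb10 zb32) (kb xb14 yb10 zb30) (kb xb17 yb22 zb32) (kb xb10 yb8 zb2) (kb xb10 yb8 zb3) (kb xb15 yb14 zb24) (kb xb10 yb8 zb5) (kb xb10 yb8 zb7) (kb xb10 yb8 zb8) (kb xb16 yb20 zb18) (kb xb13 yb1 zb12) (kb xb10 yb8 zb19) (kb xb15 yb20 zb18) (kb xb10 yb8 zb22) (kb xb16 yb2 zb23) (kb xb13 yb11 zb28)) (@D3.rec (fun _ => Pt) (kb xb12 yb6 zb17) (kb xb14 yb10 zb4) (kb xb13 yb10 zb31) (kb xb10 yb9 zb3) (kb xb14 yb10 zb1) (kb xb17 yb22 zb36) (kb xb10 yb8 zb37) (kb xb10 yb8 zb38) (kb xb10 yb8 zb39) (kb xb10 yb9 zb0) (kb xb13 yb1 zb3) (kb xb13 yb1 zb19) (kb xb10 yb9 zb11) (kb xb10 yb10 zb37) (kb xb10 yb9 zb20) (kb xb17 yb22 zb26) (kb xb10 yb9 zb24) (kb xb10 yb9 zb25) (kb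 xb12 yb25 zb29) (kb xb10 yb9 zb29) (kb xb17 yb22 zb39) (kb xb13 yb11 zb35) (kb xb17 yb22 zb37) (kb xb16 yb20 zb9) (kb xb10 yb9 zb30) (kb xb10 yb9 zb31) (kb xb15 yb0 zb34) (kb xb10 yb9 zb35) (kb xb15 yb10 zb2) (kb xb10 yb9 zb38) (kb xb14 yb9 zb25) (kb xb13 yb20 zb3) (kb xb14 yb9 zb24) (kb xb14 yb9 zb22) (kb xb17 yb23 zb1) (kb xb10 yb10 zb3) (kb xb10 yb10 zb4) (kb xb10 yb10 zb5) (kb xb14 yb11 zb12) (kb xb10 yb10 zb8)) (@D3.rec (fun _ => Pt) (kb xb14 yb11 zb5) (kb xb10 yb10 zb21) (kb xb14 yb11 zb15) (kb xb10 yb10 zb12) (kb xb10 yb10 zb24) (kb xb14 yb11 zb0) (kb xb17 yb23 zb2) (kb xb13 yb3 zb38) (kb xb13 yb0 zb38) (kb xb17 yb23 zb4) (kb xb13 yb15 zb39) (kb xb10 yb10 zb26) (kb xb14 yb10 zb38) (kb xb10 yb10 zb29) (kb xb10 yb11 zb2) (kb xb14 yb11 zb2) (kb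 xb10 yb10 zb34) (kb xb10 yb11 zb5) (kb xb17 yb23 zb8) (kb xb13 yb4 zb7) (kb xb13 yb1 zb24) (kb xb17 yb23 zb9) (kb xb13 yb16 zb20) (kb xb13 yb19 zb10) (kb xb12 yb12 zb2) (kb xb17 yb23 zb13) (kb xb10 yb11 zb9) (kb xb13 yb20 zb26) (kb xb12 yb13 zb39) (kb xb17 yb23 zb15) (kb xb10 yb11 zb12) (kb xb10 yb12 zb7) (kb xb10 yb12 zb14) (kb xb17 yb8 zb1) (kb xb10 yb11 zb28) (kb xb17 yb23 zb17) (kb xb17 yb23 zb19) (kb xb16 yb6 zb13) (kb xb17 yb23 zb22) (kb xb10 yb11 zb30)) (@D3.rec (fun _ => Pt) (kb xb17 yb23 zb24) (kb xb17 yb23 zb27) (kb xb12 yb10 zb8) (kb xb10 yb17 zb35) (kb xb10 yb17 zb23) (kb xb17 yb8 zb6) (kb xb10 yb11 zb36) (kb xb17 yb23 zb32) (kb xb17 yb23 zb34) (kb xb16 yb6 zb24) (kb xb17 yb23 zb37) (kb xb10 yb11 zb38) (kb xb17 yb23 zb39) (kb xb17 yb24 zb2)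 (kb xb12 yb9 zb36) (kb xb10 yb19 zb25) (kb xb10 yb19 zb13) (kb xb14 yb24 zb13) (kb xb17 yb15 zb2) (kb xb17 yb24 zb8) (kb xb16 yb9 zb18) (kb xb15 yb10 zb31) (kb xb15 yb4 zb17) (kb xb17 yb16 zb19) (kb xb17 yb24 zb14) (kb xb16 yb11 zb28) (kb xb15 yb12 zb26) (kb xb14 yb12 zb27) (kb xb10 yb12 zb21) (kb xb10 yb12 zb23) (kb xb16 yb5 zb33) (kb xb10 yb12 zb39) (kb xb16 yb5 zb37) (kb xb16 yb6 zb0) (kb xb10 yb12 zb35) (kb xb16 yb6 zb4) (kb xb17 yb24 zb20) (kb xb17 yb24 zb18) (kb xb13 yb23 zb1) (kb xb17 yb24 zb27)) (@D3.rec (fun _ => Pt) (kb xb10 yb13 zb8) (kb xb17 yb24 zb29) (kb xb10 yb12 zb37) (kb xb13 yb24 zb10) (kb xb17 yb24 zb32) (kb xb10 yb13 zb18) (kb xb17 yb24 zb34) (kb xb10 yb13 zb1) (kb xb13 yb6 zb30) (kb xb17 yb24 zb37) (kb xb10 yb13 zb5) (kb xb17 yb25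 zb0) (kb xb17 yb25 zb1) (kb xb10 yb13 zb9) (kb xb17 yb24 zb12) (kb xb17 yb25 zb5) (kb xb17 yb8 zb35) (kb xb10 yb13 zb11) (kb xb13 yb8 zb0) (kb xb17 yb25 zb8) (kb xb10 yb13 zb15) (kb xb17 yb25 zb11) (kb xb17 yb25 zb12) (kb xb10 yb13 zb19) (kb xb17 yb24 zb6) (kb xb17 yb25 zb16) (kb xb17 yb9 zb24) (kb xb10 yb13 zb21) (kb xb17 yb25 zb18) (kb xb10 yb13 zb24) (kb xb10 yb13 zb26) (kb xb17 yb25 zb20) (kb xb17 yb25 zb21) (kb xb10 yb13 zb28) (kb xb15 yb19 zb10) (kb xb10 yb13 zb29) (kb xb15 yb24 zb12) (kb xb17 yb25 zb23) (kb xb15 yb0 zb23) (kb xb10 yb13 zb31)) (@D3.rec (fun _ => Pt) (kb xb17 yb25 zb25) (kb xb10 yb13 zb36) (kb xb10 yb13 zb38) (kb xb17 yb25 zb27) (kb xb17 yb25 zb28) (kb xb10 yb14 zb0) (kb xb15 yb22 zb23) (kb xb10 yb14 zb1) (kb xb15 yb23 zb17) (kb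 xb17 yb25 zb30) (kb xb15 yb6 zb17) (kb xb10 yb14 zb3) (kb xb10 yb14 zb6) (kb xb10 yb14 zb7) (kb xb12 yb12 zb0) (kb xb14 yb14 zb22) (kb xb17 yb25 zb38) (kb xb10 yb14 zb11) (kb xb18 yb0 zb1) (kb xb18 yb0 zb5) (kb xb10 yb14 zb37) (kb xb12 yb13 zb36) (kb xb14 yb14 zb15) (kb xb18 yb0 zb9) (kb xb10 yb14 zb16) (kb xb18 yb0 zb12) (kb xb18 yb0 zb16) (kb xb10 yb15 zb21) (kb xb18 yb0 zb18) (kb xb10 yb14 zb19) (kb xb18 yb0 zb21) (kb xb10 yb14 zb22) (kb xb10 yb14 zb24) (kb xb18 yb0 zb23) (kb xb10 yb14 zb29) (kb xb17 yb1 zb35) (kb xb10 yb14 zb32) (kb xb10 yb14 zb28) (kb xb18 yb0 zb26) (kb xb18 yb0 zb30)) (@D3.rec (fun _ => Pt) (kb xb17 yb14 zb19) (kb xb18 yb0 zb34) (kb xb10 yb14 zb30) (kb xb10 yb14 zb31) (kb xb18 yb1 zb0) (kb xb17 yb7 zb30) (kb xb10 yb14 zb34) (kb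 xb18 yb1 zb5) (kb xb18 yb0 zb28) (kb xb18 yb1 zb2) (kb xb18 yb1 zb9) (kb xb10 yb14 zb35) (kb xb10 yb14 zb36) (kb xb18 yb1 zb12) (kb xb18 yb1 zb16) (kb xb18 yb1 zb18) (kb xb10 yb14 zb38) (kb xb18 yb1 zb23) (kb xb18 yb1 zb24) (kb xb18 yb1 zb25) (kb xb10 yb15 zb0) (kb xb18 yb1 zb27) (kb xb10 yb15 zb2) (kb xb18 yb1 zb31) (kb xb18 yb1 zb32) (kb xb10 yb15 zb6) (kb xb10 yb15 zb8) (kb xb18 yb1 zb34) (kb xb10 yb15 zb13) (kb xb17 yb0 zb7) (kb xb10 yb15 zb16) (kb xb10 yb15 zb12) (kb xb18 yb1 zb37) (kb xb18 yb2 zb1) (kb xb17 yb15 zb36) (kb xb18 yb2 zb5) (kb xb10 yb15 zb14) (kb xb10 yb15 zb15) (kb xb18 yb2 zb11) (kb xb17 yb7 zb38)) (@D3.rec (fun _ => Pt) (kb xb10 yb15 zb18) (kb xb18 yb1 zb38) (kb xb18 yb2 zb17) (kb xb18 yb2 zb13) (kb xb18 yb2 zb20) (kb xb10 yb15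 zb19) (kb xb10 yb15 zb20) (kb xb18 yb2 zb23) (kb xb18 yb2 zb27) (kb xb18 yb2 zb29) (kb xb10 yb15 zb22) (kb xb18 yb2 zb34) (kb xb18 yb2 zb35) (kb xb18 yb2 zb36) (kb xb10 yb15 zb24) (kb xb18 yb2 zb38) (kb xb10 yb15 zb30) (kb xb10 yb15 zb32) (kb xb10 yb15 zb35) (kb xb12 yb2 zb22) (kb xb14 yb25 zb13) (kb xb18 yb3 zb1) (kb xb18 yb3 zb5) (kb xb16 yb17 zb34) (kb xb10 yb16 zb4) (kb xb18 yb3 zb10) (kb xb10 yb15 zb38) (kb xb15 yb12 zb8) (kb xb10 yb16 zb2) (kb xb14 yb17 zb14) (kb xb10 yb16 zb10) (kb xb18 yb3 zb15) (kb xb18 yb3 zb12) (kb xb10 yb16 zb3) (kb xb18 yb3 zb17) (kb xb15 yb14 zb20) (kb xb18 yb3 zb21) (kb xb18 yb3 zb22) (kb xb10 yb16 zb5) (kb xb15 yb11 zb23)) (@D3.rec (fun _ => Pt) (kb xb10 yb16 zb7) (kb xb12 yb19 zb1) (kb xb13 yb8 zb28) (kb xb18 yb3 zb26)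 (kb xb10 yb16 zb12) (kb xb18 yb3 zb30) (kb xb18 yb3 zb14) (kb xb10 yb16 zb9) (kb xb10 yb16 zb11) (kb xb16 yb14 zb11) (kb xb18 yb3 zb34) (kb xb18 yb3 zb35) (kb xb10 yb16 zb13) (kb xb11 yb19 zb28) (kb xb14 yb16 zb29) (kb xb16 yb17 zb37) (kb xb18 yb4 zb1) (kb xb13 yb9 zb36) (kb xb18 yb4 zb3) (kb xb10 yb16 zb17) (kb xb18 yb4 zb8) (kb xb10 yb16 zb18) (kb xb18 yb4 zb11) (kb xb18 yb4 zb6) (kb xb18 yb3 zb37) (kb xb10 yb16 zb20) (kb xb10 yb16 zb21) (kb xb18 yb4 zb14) (kb xb10 yb16 zb23) (kb xb10 yb16 zb29) (kb xb10 yb16 zb30) (kb xb10 yb16 zb33) (kb xb12 yb2 zb29) (kb xb15 yb5 zb13) (kb xb18 yb4 zb17) (kb xb18 yb4 zb20) (kb xb16 yb18 zb23) (kb xb10 yb17 zb2) (kb xb18 yb4 zb25) (kb xb10 yb16 zb36)) (@D3.rec (fun _ => Pt) (kb xb15 yb10 zb12) (kb xb10 yb17 zb0)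 (kb xb10 yb17 zb7) (kb xb14 yb18 zb27) (kb xb18 yb4 zb30) (kb xb18 yb4 zb27) (kb xb10 yb17 zb1) (kb xb18 yb4 zb32) (kb xb15 yb14 zb6) (kb xb18 yb4 zb36) (kb xb18 yb4 zb37) (kb xb10 yb17 zb3) (kb xb15 yb13 zb17) (kb xb10 yb17 zb5) (kb xb12 yb18 zb21) (kb xb13 yb7 zb19) (kb xb18 yb5 zb1) (kb xb10 yb17 zb10) (kb xb18 yb4 zb28) (kb xb18 yb5 zb5) (kb xb10 yb17 zb8) (kb xb10 yb17 zb9) (kb xb16 yb16 zb7) (kb xb18 yb5 zb9) (kb xb18 yb5 zb10) (kb xb10 yb17 zb11) (kb xb11 yb21 zb7) (kb xb14 yb18 zb3) (kb xb16 yb18 zb25) (kb xb18 yb5 zb16) (kb xb13 yb10 zb5) (kb xb18 yb5 zb18) (kb xb10 yb17 zb15) (kb xb18 yb5 zb23) (kb xb10 yb17 zb16) (kb xb18 yb5 zb26) (kb xb18 yb5 zb21) (kb xb18 yb5 zb12) (kb xb10 yb17 zb18) (kb xb10 yb17 zb19)) (@D3.rec (fun _ => Pt) (kb xb18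 yb5 zb28) (kb xb10 yb17 zb21) (kb xb12 yb11 zb10) (kb xb18 yb5 zb31) (kb xb16 yb8 zb11) (kb xb18 yb5 zb36) (kb xb12 yb9 zb31) (kb xb10 yb17 zb28) (kb xb16 yb8 zb8) (kb xb14 yb20 zb0) (kb xb15 yb0 zb10) (kb xb18 yb6 zb3) (kb xb18 yb5 zb38) (kb xb10 yb17 zb37) (kb xb18 yb6 zb9) (kb xb17 yb23 zb29) (kb xb12 yb10 zb3) (kb xb18 yb6 zb12) (kb xb18 yb6 zb7) (kb xb18 yb6 zb16) (kb xb10 yb17 zb38) (kb xb16 yb6 zb5) (kb xb12 yb11 zb19) (kb xb10 yb18 zb1) (kb xb16 yb8 zb38) (kb xb10 yb18 zb2) (kb xb16 yb1 zb27) (kb xb10 yb18 zb5) (kb xb14 yb22 zb12) (kb xb18 yb6 zb20) (kb xb13 yb22 zb13) (kb xb18 yb6 zb22) (kb xb14 yb1 zb29) (kb xb18 yb3 zb0) (kb xb18 yb6 zb28) (kb xb10 yb18 zb21) (kb xb18 yb6 zb33) (kb xb10 yb18 zb9) (kb xb18 yb6 zb34) (kb xb17 yb14 zb37)) (@D3.rec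 (fun _ => Pt) (kb xb14 yb19 zb9) (kb xb10 yb18 zb29) (kb xb17 yb14 zb16) (kb xb13 yb21 zb38) (kb xb10 yb18 zb15) (kb xb18 yb7 zb2) (kb xb18 yb7 zb9) (kb xb16 yb9 zb13) (kb xb14 yb23 zb29) (kb xb10 yb18 zb19) (kb xb14 yb21 zb7) (kb xb10 yb18 zb37) (kb xb18 yb7 zb13) (kb xb10 yb18 zb20) (kb xb18 yb7 zb16) (kb xb18 yb7 zb20) (kb xb18 yb7 zb21) (kb xb10 yb18 zb22) (kb xb18 yb7 zb24) (kb xb10 yb18 zb25) (kb xb18 yb7 zb27) (kb xb18 yb7 zb26) (kb xb18 yb7 zb30) (kb xb10 yb18 zb27) (kb xb18 yb7 zb31) (kb xb18 yb7 zb34) (kb xb14 yb3 zb7) (kb xb18 yb6 zb38) (kb xb17 yb14 zb27) (kb xb10 yb18 zb30) (kb xb17 yb15 zb0) (kb xb16 yb8 zb39) (kb xb10 yb18 zb34) (kb xb18 yb7 zb39) (kb xb14 yb23 zb18) (kb xb14 yb23 zb19) (kb xb15 yb3 zb26) (kb xb10 yb18 zb38) (kb xb18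 yb8 zb10) (kb xb18 yb7 zb15)) (@D3.rec (fun _ => Pt) (kb xb10 yb18 zb36) (kb xb18 yb8 zb14) (kb xb18 yb8 zb15) (kb xb18 yb8 zb16) (kb xb10 yb18 zb39) (kb xb14 yb22 zb32) (kb xb10 yb19 zb1) (kb xb14 yb20 zb10) (kb xb18 yb8 zb22) (kb xb18 yb8 zb26) (kb xb10 yb19 zb3) (kb xb18 yb8 zb32) (kb xb18 yb7 zb17) (kb xb18 yb8 zb29) (kb xb18 yb8 zb35) (kb xb10 yb19 zb4) (kb xb18 yb9 zb0) (kb xb10 yb19 zb5) (kb xb18 yb9 zb3) (kb xb18 yb8 zb38) (kb xb18 yb8 zb18) (kb xb10 yb19 zb7) (kb xb10 yb19 zb8) (kb xb18 yb9 zb6) (kb xb10 yb19 zb11) (kb xb18 yb5 zb37) (kb xb18 yb9 zb8) (kb xb18 yb9 zb10) (kb xb18 yb9 zb11) (kb xb16 yb8 zb36) (kb xb18 yb9 zb16) (kb xb12 yb11 zb26) (kb xb16 yb8 zb33) (kb xb10 yb19 zb19) (kb xb14 yb22 zb24) (kb xb15 yb6 zb4) (kb xb18 yb9 zb23)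 (kb xb18 yb9 zb19) (kb xb10 yb19 zb26) (kb xb18 yb9 zb29)) (@D3.rec (fun _ => Pt) (kb xb17 yb24 zb4) (kb xb18 yb9 zb31) (kb xb18 yb9 zb27) (kb xb18 yb9 zb35) (kb xb10 yb19 zb27) (kb xb16 yb5 zb38) (kb xb12 yb11 zb3) (kb xb10 yb19 zb30) (kb xb16 yb8 zb13) (kb xb10 yb19 zb31) (kb xb16 yb1 zb18) (kb xb10 yb19 zb34) (kb xb14 yb19 zb28) (kb xb18 yb9 zb39) (kb xb13 yb22 zb35) (kb xb18 yb10 zb1) (kb xb14 yb0 zb20) (kb xb18 yb4 zb16) (kb xb18 yb10 zb7) (kb xb10 yb20 zb10) (kb xb18 yb10 zb12) (kb xb10 yb19 zb38) (kb xb18 yb10 zb13) (kb xb17 yb16 zb14) (kb xb14 yb21 zb34) (kb xb10 yb20 zb18) (kb xb17 yb15 zb33) (kb xb13 yb22 zb20) (kb xb10 yb20 zb4) (kb xb18 yb10 zb21) (kb xb16 yb8 zb28) (kb xb18 yb10 zb28) (kb xb14 yb21 zb5) (kb xb10 yb20 zb8) (kb xb10 yb20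 zb25) (kb xb14 yb23 zb31) (kb xb18 yb10 zb32) (kb xb10 yb20 zb9) (kb xb18 yb7 zb18) (kb xb18 yb10 zb37)) (@D3.rec (fun _ => Pt) (kb xb18 yb10 zb38) (kb xb10 yb20 zb11) (kb xb18 yb11 zb1) (kb xb10 yb20 zb14) (kb xb18 yb11 zb4) (kb xb18 yb11 zb3) (kb xb18 yb11 zb7) (kb xb10 yb20 zb16) (kb xb18 yb11 zb8) (kb xb18 yb11 zb11) (kb xb14 yb2 zb17) (kb xb18 yb10 zb17) (kb xb17 yb16 zb4) (kb xb10 yb20 zb19) (kb xb17 yb16 zb17) (kb xb16 yb8 zb14) (kb xb10 yb20 zb23) (kb xb18 yb11 zb16) (kb xb14 yb20 zb34) (kb xb14 yb20 zb35) (kb xb15 yb9 zb11) (kb xb10 yb20 zb27) (kb xb18 yb10 zb33) (kb xb18 yb11 zb28) (kb xb18 yb11 zb30) (kb xb10 yb20 zb26) (kb xb18 yb11 zb32) (kb xb18 yb11 zb33) (kb xb10 yb20 zb28) (kb xb14 yb20 zb8) (kb xb10 yb20 zb30) (kb xb14 yb22 zb35) (kb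 xb18 yb11 zb39) (kb xb18 yb12 zb3) (kb xb10 yb20 zb32) (kb xb18 yb10 zb35) (kb xb18 yb12 zb5) (kb xb18 yb12 zb9) (kb xb10 yb20 zb33) (kb xb18 yb12 zb14)) (@D3.rec (fun _ => Pt) (kb xb10 yb20 zb34) (kb xb18 yb12 zb17) (kb xb18 yb12 zb12) (kb xb18 yb11 zb35) (kb xb10 yb20 zb36) (kb xb10 yb20 zb37) (kb xb18 yb12 zb20) (kb xb10 yb21 zb0) (kb xb18 yb6 zb11) (kb xb18 yb12 zb22) (kb xb18 yb12 zb24) (kb xb13 yb19 zb15) (kb xb10 yb21 zb3) (kb xb14 yb12 zb17) (kb xb13 yb7 zb23) (kb xb10 yb21 zb27) (kb xb11 yb2 zb4) (kb xb10 yb21 zb6) (kb xb10 yb21 zb7) (kb xb16 yb10 zb30) (kb xb12 yb12 zb30) (kb xb15 yb1 zb8) (kb xb10 yb21 zb9) (kb xb15 yb11 zb24) (kb xb10 yb21 zb15) (kb xb13 yb23 zb0) (kb xb10 yb21 zb11) (kb xb16 yb25 zb19) (kb xb14 yb2 zb5) (kb xb10 yb21 zb17)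 (kb xb18 yb13 zb3) (kb xb13 yb6 zb34) (kb xb10 yb21 zb19) (kb xb13 yb19 zb21) (kb xb18 yb13 zb0) (kb xb15 yb10 zb14) (kb xb18 yb13 zb8) (kb xb18 yb13 zb2) (kb xb18 yb13 zb13) (kb xb10 yb21 zb18)) (@D3.rec (fun _ => Pt) (kb xb18 yb13 zb4) (kb xb11 yb3 zb6) (kb xb13 yb13 zb37) (kb xb10 yb22 zb31) (kb xb10 yb21 zb21) (kb xb10 yb21 zb22) (kb xb18 yb13 zb21) (kb xb16 yb3 zb9) (kb xb16 yb5 zb29) (kb xb10 yb21 zb26) (kb xb13 yb9 zb10) (kb xb18 yb12 zb29) (kb xb15 yb15 zb9) (kb xb14 yb16 zb20) (kb xb10 yb21 zb32) (kb xb16 yb11 zb12) (kb xb12 yb2 zb36) (kb xb16 yb16 zb38) (kb xb16 yb15 zb0) (kb xb10 yb22 zb28) (kb xb18 yb13 zb31) (kb xb10 yb21 zb36) (kb xb18 yb13 zb33) (kb xb18 yb13 zb37) (kb xb18 yb13 zb38) (kb xb10 yb22 zb6) (kb xb15 yb12 zb17) (kb xb15 yb8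 zb22) (kb xb10 yb22 zb3) (kb xb18 yb14 zb3) (kb xb15 yb1 zb5) (kb xb18 yb14 zb7) (kb xb10 yb22 zb4) (kb xb10 yb22 zb5) (kb xb18 yb14 zb9) (kb xb18 yb14 zb10) (kb xb18 yb14 zb17) (kb xb15 yb12 zb19) (kb xb10 yb22 zb7) (kb xb11 yb3 zb24))
def f_b_15 : D2 → D3 → Pt := @D2.rec (fun _ => D3 → Pt) (@D3.rec (fun _ => Pt) (kb xb15 yb20 zb35) (kb xb16 yb6 zb7) (kb xb16 yb8 zb29) (kb xb13 yb18 zb6) (kb xb18 yb14 zb21) (kb xb11 yb0 zb13) (kb xb16 yb2 zb9) (kb xb10 yb22 zb15) (kb xb11 yb0 zb19) (kb xb10 yb22 zb20) (kb xb14 yb19 zb10) (kb xb10 yb22 zb29) (kb xb10 yb22 zb23) (kb xb10 yb22 zb24) (kb xb16 yb20 zb6) (kb xb11 yb6 zb6) (kb xb16 yb3 zb10) (kb xb12 yb25 zb8) (kb xb15 yb10 zb3) (kb xb11 yb3 zb2) (kb xb18 yb14 zb28) (kb xb12 yb14 zb2) (kb xb12 yb17 zb32)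 (kb xb14 yb13 zb38) (kb xb17 yb23 zb14) (kb xb11 yb18 zb18) (kb xb18 yb14 zb35) (kb xb14 yb1 zb16) (kb xb16 yb3 zb30) (kb xb10 yb22 zb35) (kb xb13 yb16 zb31) (kb xb17 yb20 zb17) (kb xb15 yb24 zb10) (kb xb12 yb16 zb33) (kb xb14 yb10 zb26) (kb xb10 yb23 zb0) (kb xb11 yb22 zb14) (kb xb10 yb23 zb1) (kb xb16 yb15 zb36) (kb xb17 yb2 zb26)) (@D3.rec (fun _ => Pt) (kb xb10 yb23 zb4) (kb xb15 yb17 zb23) (kb xb18 yb15 zb8) (kb xb18 yb15 zb9) (kb xb18 yb15 zb4) (kb xb14 yb25 zb30) (kb xb18 yb15 zb12) (kb xb10 yb23 zb6) (kb xb14 yb24 zb21) (kb xb16 yb19 zb4) (kb xb11 yb1 zb11) (kb xb10 yb23 zb12) (kb xb15 yb4 zb8) (kb xb10 yb24 zb13) (kb xb17 yb6 zb16) (kb xb10 yb23 zb11) (kb xb11 yb1 zb10) (kb xb17 yb2 zb15) (kb xb10 yb23 zb14) (kb xb10 yb23 zb15) (kb xb18 yb15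 zb31) (kb xb10 yb24 zb29) (kb xb18 yb15 zb26) (kb xb18 yb15 zb28) (kb xb18 yb15 zb37) (kb xb10 yb23 zb16) (kb xb10 yb23 zb17) (kb xb18 yb16 zb4) (kb xb18 yb15 zb39) (kb xb15 yb3 zb16) (kb xb10 yb23 zb19) (kb xb16 yb0 zb3) (kb xb15 yb25 zb1) (kb xb10 yb23 zb23) (kb xb13 yb25 zb11) (kb xb13 yb20 zb0) (kb xb13 yb5 zb23) (kb xb16 yb2 zb36) (kb xb10 yb23 zb24) (kb xb11 yb20 zb36)) (@D3.rec (fun _ => Pt) (kb xb13 yb20 zb17) (kb xb18 yb16 zb12) (kb xb10 yb23 zb26) (kb xb16 yb16 zb3) (kb xb18 yb16 zb15) (kb xb13 yb14 zb8) (kb xb10 yb23 zb29) (kb xb18 yb16 zb16) (kb xb18 yb16 zb17) (kb xb10 yb23 zb31) (kb xb10 yb23 zb33) (kb xb18 yb16 zb21) (kb xb16 yb24 zb10) (kb xb18 yb16 zb22) (kb xb18 yb16 zb23) (kb xb10 yb23 zb34) (kb xb10 yb23 zb35) (kb xb11 yb4 zb28)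 (kb xb13 yb13 zb30) (kb xb10 yb24 zb0) (kb xb18 yb16 zb26) (kb xb18 yb16 zb28) (kb xb10 yb23 zb38) (kb xb17 yb5 zb13) (kb xb10 yb23 zb39) (kb xb18 yb16 zb29) (kb xb10 yb24 zb1) (kb xb10 yb24 zb2) (kb xb16 yb12 zb30) (kb xb10 yb24 zb5) (kb xb10 yb25 zb26) (kb xb18 yb16 zb32) (kb xb10 yb24 zb7) (kb xb16 yb24 zb26) (kb xb18 yb16 zb35) (kb xb15 yb5 zb27) (kb xb18 yb16 zb39) (kb xb10 yb24 zb9) (kb xb10 yb24 zb10) (kb xb18 yb17 zb1)) (@D3.rec (fun _ => Pt) (kb xb18 yb17 zb7) (kb xb18 yb17 zb8) (kb xb16 yb4 zb14) (kb xb18 yb15 zb19) (kb xb10 yb24 zb12) (kb xb17 yb5 zb14) (kb xb17 yb10 zb8) (kb xb17 yb5 zb5) (kb xb18 yb17 zb14) (kb xb10 yb24 zb18) (kb xb18 yb17 zb19) (kb xb15 yb9 zb27) (kb xb18 yb17 zb17) (kb xb17 yb3 zb7) (kb xb10 yb24 zb19) (kb xb17 yb3 zb8)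 (kb xb15 yb1 zb29) (kb xb10 yb24 zb24) (kb xb13 yb5 zb10) (kb xb18 yb17 zb24) (kb xb13 yb18 zb20) (kb xb10 yb24 zb25) (kb xb18 yb17 zb27) (kb xb18 yb17 zb28) (kb xb18 yb17 zb34) (kb xb15 yb9 zb9) (kb xb14 yb20 zb36) (kb xb10 yb24 zb30) (kb xb18 yb10 zb10) (kb xb18 yb15 zb27) (kb xb10 yb24 zb32) (kb xb18 yb18 zb4) (kb xb18 yb15 zb30) (kb xb10 yb24 zb28) (kb xb11 yb14 zb17) (kb xb18 yb18 zb7) (kb xb18 yb17 zb38) (kb xb18 yb18 zb10) (kb xb10 yb24 zb31) (kb xb18 yb18 zb11)) (@D3.rec (fun _ => Pt) (kb xb18 yb18 zb13) (kb xb10 yb24 zb33) (kb xb15 yb8 zb36) (kb xb18 yb17 zb15) (kb xb10 yb24 zb35) (kb xb10 yb24 zb36) (kb xb16 yb22 zb3) (kb xb18 yb18 zb14) (kb xb15 yb1 zb12) (kb xb13 yb3 zb5) (kb xb16 yb25 zb15) (kb xb17 yb11 zb4) (kb xb17 yb17 zb18) (kb xb10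 yb25 zb1) (kb xb10 yb25 zb2) (kb xb13 yb20 zb30) (kb xb10 yb25 zb4) (kb xb14 yb12 zb22) (kb xb13 yb8 zb31) (kb xb10 yb25 zb7) (kb xb16 yb12 zb37) (kb xb12 yb14 zb24) (kb xb15 yb7 zb2) (kb xb10 yb25 zb9) (kb xb10 yb25 zb10) (kb xb10 yb25 zb11) (kb xb17 yb1 zb8) (kb xb14 yb2 zb34) (kb xb10 yb25 zb17) (kb xb18 yb18 zb39) (kb xb13 yb8 zb4) (kb xb13 yb20 zb36) (kb xb15 yb13 zb18) (kb xb10 yb25 zb19) (kb xb13 yb24 zb9) (kb xb15 yb12 zb9) (kb xb18 yb16 zb33) (kb xb18 yb18 zb38) (kb xb18 yb19 zb7) (kb xb10 yb25 zb18)) (@D3.rec (fun _ => Pt) (kb xb18 yb19 zb0) (kb xb11 yb4 zb18) (kb xb13 yb15 zb8) (kb xb11 yb0 zb30) (kb xb10 yb25 zb21) (kb xb18 yb19 zb14) (kb xb16 yb3 zb14) (kb xb10 yb25 zb24) (kb xb10 yb25 zb25) (kb xb13 yb9 zb22) (kb xb18 yb16 zb30) (kb xb16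 yb5 zb20) (kb xb15 yb15 zb39) (kb xb14 yb17 zb33) (kb xb10 yb25 zb32) (kb xb16 yb13 zb15) (kb xb12 yb2 zb38) (kb xb16 yb15 zb2) (kb xb16 yb16 zb35) (kb xb11 yb0 zb27) (kb xb18 yb19 zb24) (kb xb10 yb25 zb36) (kb xb18 yb19 zb26) (kb xb18 yb16 zb24) (kb xb18 yb19 zb30) (kb xb11 yb0 zb5) (kb xb15 yb10 zb20) (kb xb15 yb2 zb35) (kb xb11 yb0 zb3) (kb xb18 yb19 zb35) (kb xb15 yb7 zb0) (kb xb11 yb0 zb4) (kb xb18 yb19 zb38) (kb xb18 yb19 zb39) (kb xb18 yb20 zb5) (kb xb15 yb10 zb22) (kb xb11 yb0 zb6) (kb xb11 yb4 zb35) (kb xb15 yb17 zb0) (kb xb16 yb9 zb14)) (@D3.rec (fun _ => Pt) (kb xb16 yb6 zb19) (kb xb18 yb20 zb9) (kb xb13 yb18 zb27) (kb xb16 yb2 zb13) (kb xb14 yb21 zb35) (kb xb11 yb0 zb28) (kb xb11 yb0 zb22) (kb xb11 yb0 zb23) (kb xb16 yb20 zb31) (kb xb11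 yb6 zb3) (kb xb16 yb3 zb15) (kb xb12 yb23 zb36) (kb xb11 yb4 zb14) (kb xb15 yb11 zb39) (kb xb18 yb20 zb16) (kb xb12 yb12 zb4) (kb xb12 yb16 zb13) (kb xb14 yb14 zb10) (kb xb17 yb23 zb12) (kb xb11 yb13 zb20) (kb xb18 yb20 zb22) (kb xb14 yb0 zb4) (kb xb16 yb4 zb16) (kb xb11 yb0 zb34) (kb xb13 yb16 zb11) (kb xb17 yb21 zb5) (kb xb15 yb23 zb14) (kb xb12 yb18 zb11) (kb xb14 yb9 zb18) (kb xb11 yb0 zb39) (kb xb11 yb23 zb20) (kb xb11 yb1 zb0) (kb xb16 yb14 zb0) (kb xb17 yb2 zb6) (kb xb11 yb1 zb3) (kb xb18 yb20 zb33) (kb xb15 yb17 zb5) (kb xb18 yb20 zb35) (kb xb18 yb20 zb30) (kb xb18 yb20 zb38)) (@D3.rec (fun _ => Pt) (kb xb15 yb5 zb30) (kb xb11 yb1 zb4) (kb xb15 yb4 zb22) (kb xb16 yb19 zb22) (kb xb11 yb2 zb11) (kb xb15 yb9 zb33) (kb xb17 yb6 zb26) (kb xb17 yb2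 zb32) (kb xb11 yb1 zb13) (kb xb11 yb1 zb14) (kb xb11 yb2 zb27) (kb xb18 yb15 zb29) (kb xb18 yb21 zb5) (kb xb18 yb21 zb7) (kb xb18 yb15 zb32) (kb xb11 yb1 zb15) (kb xb11 yb1 zb16) (kb xb18 yb21 zb19) (kb xb18 yb21 zb14) (kb xb15 yb9 zb1) (kb xb11 yb1 zb18) (kb xb15 yb25 zb38) (kb xb15 yb25 zb24) (kb xb11 yb1 zb22) (kb xb13 yb24 zb2) (kb xb13 yb21 zb15) (kb xb13 yb6 zb8) (kb xb16 yb3 zb4) (kb xb11 yb1 zb23) (kb xb11 yb19 zb17) (kb xb13 yb21 zb32) (kb xb18 yb21 zb27) (kb xb11 yb1 zb25) (kb xb16 yb14 zb7) (kb xb18 yb21 zb30) (kb xb13 yb12 zb31) (kb xb11 yb1 zb28) (kb xb18 yb21 zb31) (kb xb18 yb21 zb32) (kb xb11 yb1 zb30)) (@D3.rec (fun _ => Pt) (kb xb11 yb1 zb32) (kb xb16 yb23 zb22) (kb xb18 yb21 zb36) (kb xb18 yb21 zb37) (kb xb11 yb1 zb33) (kb xb11 yb1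 zb34) (kb xb11 yb3 zb16) (kb xb13 yb15 zb1) (kb xb11 yb1 zb39) (kb xb18 yb21 zb39) (kb xb18 yb22 zb0) (kb xb11 yb1 zb37) (kb xb11 yb1 zb38) (kb xb17 yb5 zb35) (kb xb11 yb2 zb0) (kb xb11 yb2 zb1) (kb xb16 yb10 zb21) (kb xb18 yb12 zb27) (kb xb11 yb2 zb6) (kb xb17 yb0 zb18) (kb xb18 yb14 zb33) (kb xb18 yb22 zb5) (kb xb14 yb25 zb27) (kb xb11 yb2 zb7) (kb xb11 yb2 zb9) (kb xb18 yb22 zb7) (kb xb18 yb22 zb12) (kb xb18 yb22 zb14) (kb xb18 yb15 zb16) (kb xb16 yb3 zb28) (kb xb17 yb11 zb22) (kb xb11 yb2 zb12) (kb xb17 yb5 zb36) (kb xb17 yb5 zb28) (kb xb18 yb22 zb19) (kb xb11 yb2 zb17) (kb xb15 yb4 zb2) (kb xb18 yb22 zb21) (kb xb17 yb3 zb22) (kb xb11 yb2 zb18)) (@D3.rec (fun _ => Pt) (kb xb17 yb3 zb23) (kb xb15 yb7 zb19) (kb xb11 yb2 zb23) (kb xb13 yb5 zb35) (kb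 xb18 yb14 zb12) (kb xb13 yb19 zb0) (kb xb11 yb2 zb24) (kb xb18 yb22 zb28) (kb xb18 yb22 zb29) (kb xb15 yb3 zb25) (kb xb18 yb22 zb35) (kb xb14 yb23 zb20) (kb xb11 yb2 zb29) (kb xb18 yb21 zb6) (kb xb18 yb6 zb31) (kb xb11 yb2 zb31) (kb xb18 yb21 zb8) (kb xb18 yb23 zb6) (kb xb18 yb15 zb23) (kb xb11 yb2 zb28) (kb xb11 yb19 zb0) (kb xb18 yb22 zb39) (kb xb18 yb23 zb10) (kb xb11 yb2 zb30) (kb xb18 yb23 zb11) (kb xb18 yb23 zb13) (kb xb11 yb2 zb32) (kb xb15 yb3 zb11) (kb xb18 yb22 zb20) (kb xb11 yb2 zb34) (kb xb11 yb2 zb35) (kb xb16 yb22 zb5) (kb xb18 yb23 zb14) (kb xb15 yb7 zb5) (kb xb13 yb2 zb36) (kb xb17 yb1 zb4) (kb xb17 yb12 zb16) (kb xb17 yb19 zb0) (kb xb11 yb3 zb0) (kb xb11 yb3 zb1)) (@D3.rec (fun _ => Pt) (kb xb11 yb3 zb4) (kb xb12 yb15 zb19) (kb xb14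 yb10 zb28) (kb xb15 yb0 zb18) (kb xb16 yb22 zb27) (kb xb13 yb21 zb12) (kb xb15 yb14 zb1) (kb xb11 yb3 zb15) (kb xb11 yb3 zb21) (kb xb13 yb9 zb14) (kb xb18 yb23 zb29) (kb xb18 yb23 zb30) (kb xb14 yb18 zb0) (kb xb17 yb1 zb16) (kb xb14 yb24 zb35) (kb xb11 yb3 zb19) (kb xb18 yb23 zb35) (kb xb18 yb23 zb36) (kb xb17 yb6 zb37) (kb xb16 yb25 zb4) (kb xb15 yb5 zb26) (kb xb13 yb7 zb14) (kb xb15 yb5 zb35) (kb xb18 yb14 zb18) (kb xb16 yb15 zb1) (kb xb11 yb3 zb26) (kb xb15 yb14 zb3) (kb xb13 yb9 zb19) (kb xb18 yb24 zb11) (kb xb11 yb3 zb31) (kb xb18 yb24 zb16) (kb xb14 yb12 zb21) (kb xb11 yb3 zb28) (kb xb13 yb23 zb13) (kb xb14 yb4 zb27) (kb xb11 yb3 zb30) (kb xb18 yb24 zb20) (kb xb18 yb24 zb21) (kb xb18 yb24 zb30) (kb xb18 yb24 zb31)) (@D3.rec (fun _ => Pt) (kb xb12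 yb16 zb2) (kb xb18 yb24 zb32) (kb xb11 yb3 zb32) (kb xb11 yb3 zb33) (kb xb17 yb5 zb31) (kb xb18 yb24 zb36) (kb xb14 yb0 zb19) (kb xb17 yb13 zb26) (kb xb18 yb25 zb4) (kb xb14 yb0 zb9) (kb xb17 yb25 zb39) (kb xb18 yb25 zb8) (kb xb11 yb3 zb38) (kb xb18 yb25 zb10) (kb xb11 yb3 zb39) (kb xb18 yb25 zb12) (kb xb18 yb25 zb13) (kb xb18 yb25 zb14) (kb xb11 yb4 zb2) (kb xb11 yb4 zb3) (kb xb13 yb21 zb25) (kb xb13 yb21 zb16) (kb xb12 yb20 zb27) (kb xb14 yb16 zb39) (kb xb14 yb24 zb23) (kb xb11 yb4 zb7) (kb xb18 yb20 zb23) (kb xb18 yb25 zb25) (kb xb12 yb6 zb0) (kb xb18 yb25 zb27) (kb xb11 yb4 zb8) (kb xb11 yb4 zb9) (kb xb18 yb25 zb32) (kb xb18 yb25 zb33) (kb xb11 yb4 zb12) (kb xb11 yb4 zb13) (kb xb11 yb4 zb16) (kb xb12 yb16 zb39) (kb xb14 yb9 zb20) (kb xb15 yb6 zb13))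 (@D3.rec (fun _ => Pt) (kb xb16 yb22 zb32) (kb xb13 yb19 zb37) (kb xb15 yb14 zb16) (kb xb11 yb4 zb27) (kb xb13 yb9 zb26) (kb xb11 yb4 zb34) (kb xb19 yb0 zb3) (kb xb19 yb0 zb4) (kb xb14 yb16 zb27) (kb xb15 yb4 zb35) (kb xb16 yb25 zb27) (kb xb11 yb4 zb31) (kb xb19 yb0 zb9) (kb xb19 yb0 zb10) (kb xb17 yb0 zb36) (kb xb17 yb7 zb2) (kb xb13 yb8 zb23) (kb xb14 yb25 zb26) (kb xb18 yb20 zb6) (kb xb14 yb25 zb37) (kb xb16 yb16 zb37) (kb xb11 yb4 zb38) (kb xb13 yb9 zb31) (kb xb15 yb14 zb19) (kb xb19 yb0 zb25) (kb xb11 yb5 zb3) (kb xb14 yb12 zb26) (kb xb19 yb0 zb31) (kb xb14 yb5 zb8) (kb xb11 yb5 zb1) (kb xb13 yb24 zb22) (kb xb11 yb5 zb2) (kb xb19 yb0 zb34) (kb xb19 yb0 zb35) (kb xb19 yb1 zb4) (kb xb19 yb1 zb5) (kb xb19 yb1 zb6) (kb xb12 yb17 zb21) (kb xb11 yb5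 zb4) (kb xb11 yb5 zb5)) (@D3.rec (fun _ => Pt) (kb xb17 yb5 zb8) (kb xb19 yb1 zb10) (kb xb14 yb1 zb28) (kb xb19 yb1 zb17) (kb xb17 yb13 zb1) (kb xb14 yb1 zb20) (kb xb19 yb1 zb21) (kb xb18 yb0 zb10) (kb xb11 yb5 zb10) (kb xb19 yb1 zb25) (kb xb11 yb5 zb11) (kb xb19 yb1 zb26) (kb xb19 yb1 zb27) (kb xb19 yb1 zb28) (kb xb11 yb5 zb14) (kb xb11 yb5 zb15) (kb xb12 yb22 zb6) (kb xb14 yb18 zb12) (kb xb15 yb4 zb32) (kb xb13 yb20 zb11) (kb xb13 yb20 zb1) (kb xb11 yb5 zb19) (kb xb19 yb1 zb38) (kb xb18 yb14 zb36) (kb xb19 yb2 zb1) (kb xb12 yb6 zb7) (kb xb11 yb5 zb20) (kb xb11 yb5 zb21) (kb xb19 yb2 zb6) (kb xb19 yb2 zb7) (kb xb11 yb5 zb24) (kb xb11 yb5 zb25) (kb xb11 yb5 zb26) (kb xb15 yb16 zb8) (kb xb19 yb2 zb14) (kb xb11 yb5 zb30) (kb xb13 yb9 zb35) (kb xb11 yb5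 zb28) (kb xb16 yb17 zb36) (kb xb19 yb2 zb22)) (@D3.rec (fun _ => Pt) (kb xb19 yb2 zb23) (kb xb15 yb10 zb6) (kb xb11 yb5 zb32) (kb xb15 yb10 zb26) (kb xb13 yb10 zb1) (kb xb19 yb2 zb31) (kb xb14 yb18 zb8) (kb xb11 yb5 zb33) (kb xb15 yb15 zb18) (kb xb19 yb2 zb33) (kb xb13 yb10 zb3) (kb xb11 yb5 zb38) (kb xb11 yb5 zb35) (kb xb16 yb18 zb24) (kb xb19 yb3 zb0) (kb xb19 yb3 zb1) (kb xb15 yb12 zb2) (kb xb11 yb5 zb39) (kb xb13 yb10 zb8) (kb xb15 yb12 zb23) (kb xb14 yb16 zb35) (kb xb19 yb3 zb9) (kb xb14 yb8 zb21) (kb xb11 yb15 zb21) (kb xb14 yb9 zb29) (kb xb11 yb10 zb9) (kb xb11 yb10 zb1) (kb xb11 yb15 zb15) (kb xb14 yb6 zb33) (kb xb15 yb17 zb22) (kb xb15 yb23 zb18) (kb xb14 yb6 zb1) (kb xb15 yb21 zb12) (kb xb15 yb24 zb13) (kb xb11 yb6 zb30) (kb xb15 yb17 zb38)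 (kb xb11 yb6 zb34) (kb xb12 yb22 zb28) (kb xb15 yb15 zb3) (kb xb11 yb6 zb39)) (@D3.rec (fun _ => Pt) (kb xb15 yb21 zb25) (kb xb11 yb7 zb3) (kb xb12 yb24 zb0) (kb xb15 yb14 zb38) (kb xb11 yb7 zb11) (kb xb11 yb10 zb2) (kb xb11 yb15 zb20) (kb xb12 yb3 zb3) (kb xb12 yb2 zb33) (kb xb14 yb25 zb12) (kb xb19 yb3 zb15) (kb xb11 yb7 zb19) (kb xb11 yb7 zb25) (kb xb15 yb15 zb24) (kb xb11 yb7 zb27) (kb xb12 yb21 zb0) (kb xb11 yb18 zb33) (kb xb11 yb7 zb31) (kb xb15 yb14 zb8) (kb xb19 yb3 zb19) (kb xb11 yb7 zb34) (kb xb11 yb7 zb37) (kb xb11 yb19 zb27) (kb xb12 yb6 zb28) (kb xb15 yb15 zb13) (kb xb17 yb5 zb3) (kb xb19 yb3 zb24) (kb xb11 yb8 zb3) (kb xb11 yb15 zb14) (kb xb18 yb20 zb10) (kb xb11 yb8 zb5) (kb xb16 yb19 zb13) (kb xb16 yb5 zb18) (kb xb11 yb8 zb8) (kb xb15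 yb23 zb4) (kb xb11 yb8 zb14) (kb xb11 yb10 zb7) (kb xb12 yb3 zb4) (kb xb12 yb2 zb34) (kb xb15 yb5 zb12)) (@D3.rec (fun _ => Pt) (kb xb19 yb3 zb28) (kb xb11 yb8 zb22) (kb xb11 yb8 zb28) (kb xb15 yb16 zb14) (kb xb11 yb8 zb30) (kb xb12 yb22 zb15) (kb xb11 yb14 zb5) (kb xb11 yb8 zb34) (kb xb15 yb13 zb33) (kb xb19 yb3 zb32) (kb xb11 yb8 zb37) (kb xb11 yb9 zb0) (kb xb11 yb21 zb6) (kb xb12 yb6 zb19) (kb xb15 yb16 zb3) (kb xb17 yb5 zb9) (kb xb19 yb3 zb37) (kb xb11 yb9 zb6) (kb xb18 yb14 zb22) (kb xb11 yb9 zb8) (kb xb16 yb19 zb9) (kb xb16 yb5 zb27) (kb xb11 yb9 zb11) (kb xb15 yb20 zb17) (kb xb14 yb3 zb25) (kb xb13 yb13 zb4) (kb xb11 yb10 zb20) (kb xb19 yb4 zb0) (kb xb15 yb16 zb28) (kb xb15 yb18 zb11) (kb xb11 yb9 zb18) (kb xb15 yb25 zb3) (kb xb15 yb18 zb1) (kb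 xb15 yb16 zb33) (kb xb19 yb4 zb5) (kb xb12 yb21 zb4) (kb xb15 yb16 zb36) (kb xb12 yb8 zb9) (kb xb11 yb9 zb35) (kb xb11 yb9 zb29)) (@D3.rec (fun _ => Pt) (kb xb15 yb5 zb38) (kb xb13 yb5 zb14) (kb xb19 yb4 zb6) (kb xb11 yb9 zb36) (kb xb13 yb10 zb22) (kb xb15 yb6 zb36) (kb xb11 yb19 zb14) (kb xb11 yb11 zb18) (kb xb13 yb4 zb29) (kb xb13 yb14 zb36) (kb xb11 yb10 zb12) (kb xb19 yb4 zb7) (kb xb11 yb10 zb16) (kb xb11 yb10 zb21) (kb xb12 yb3 zb7) (kb xb11 yb11 zb15) (kb xb15 yb21 zb9) (kb xb11 yb10 zb26) (kb xb17 yb3 zb31) (kb xb11 yb10 zb28) (kb xb11 yb10 zb29) (kb xb11 yb10 zb30) (kb xb15 yb14 zb29) (kb xb15 yb1 zb1) (kb xb13 yb14 zb1) (kb xb11 yb10 zb39) (kb xb14 yb6 zb30) (kb xb19 yb4 zb10) (kb xb14 yb4 zb21) (kb xb15 yb21 zb18) (kb xb15 yb17 zb34) (kb xb11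 yb11 zb16) (kb xb19 yb3 zb14) (kb xb15 yb17 zb37) (kb xb15 yb17 zb30) (kb xb11 yb19 zb13) (kb xb15 yb21 zb22) (kb xb15 yb17 zb33) (kb xb15 yb14 zb35) (kb xb16 yb20 zb20)) (@D3.rec (fun _ => Pt) (kb xb11 yb15 zb28) (kb xb15 yb16 zb32) (kb xb14 yb5 zb36) (kb xb15 yb23 zb9) (kb xb13 yb12 zb33) (kb xb11 yb11 zb32) (kb xb17 yb6 zb5) (kb xb11 yb12 zb10) (kb xb17 yb6 zb4) (kb xb11 yb12 zb9) (kb xb16 yb20 zb33) (kb xb15 yb16 zb29) (kb xb16 yb19 zb39) (kb xb11 yb21 zb24) (kb xb15 yb20 zb14) (kb xb11 yb13 zb27) (kb xb12 yb24 zb22) (kb xb16 yb14 zb14) (kb xb16 yb20 zb3) (kb xb14 yb8 zb18) (kb xb11 yb12 zb25) (kb xb19 yb4 zb22) (kb xb11 yb14 zb12) (kb xb11 yb12 zb22) (kb xb12 yb25 zb1) (kb xb16 yb3 zb34) (kb xb18 yb10 zb8) (kb xb19 yb4 zb25) (kb xb11 yb12 zb26)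 (kb xb12 yb8 zb2) (kb xb16 yb9 zb36) (kb xb12 yb5 zb33) (kb xb15 yb19 zb29) (kb xb11 yb25 zb38) (kb xb17 yb3 zb37) (kb xb14 yb5 zb19) (kb xb11 yb13 zb3) (kb xb16 yb21 zb38) (kb xb11 yb16 zb1) (kb xb11 yb15 zb32)) (@D3.rec (fun _ => Pt) (kb xb13 yb14 zb19) (kb xb16 yb15 zb28) (kb xb12 yb6 zb13) (kb xb12 yb10 zb15) (kb xb15 yb22 zb12) (kb xb11 yb13 zb24) (kb xb12 yb22 zb12) (kb xb19 yb4 zb30) (kb xb11 yb21 zb25) (kb xb13 yb12 zb2) (kb xb14 yb13 zb34) (kb xb15 yb20 zb27) (kb xb14 yb6 zb29) (kb xb11 yb13 zb32) (kb xb19 yb4 zb33) (kb xb11 yb21 zb33) (kb xb11 yb14 zb4) (kb xb11 yb13 zb36) (kb xb16 yb4 zb21) (kb xb16 yb13 zb13) (kb xb15 yb19 zb27) (kb xb12 yb22 zb23) (kb xb18 yb23 zb7) (kb xb16 yb4 zb20) (kb xb12 yb25 zb0) (kb xb11 yb14 zb2) (kb xb11 yb14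 zb3) (kb xb15 yb19 zb20) (kb xb12 yb21 zb21) (kb xb15 yb18 zb32) (kb xb19 yb5 zb1) (kb xb11 yb18 zb34) (kb xb11 yb20 zb14) (kb xb19 yb5 zb2) (kb xb19 yb4 zb36) (kb xb19 yb3 zb31) (kb xb11 yb18 zb21) (kb xb12 yb20 zb33) (kb xb11 yb14 zb15) (kb xb16 yb11 zb8)) (@D3.rec (fun _ => Pt) (kb xb16 yb3 zb36) (kb xb12 yb21 zb11) (kb xb15 yb22 zb28) (kb xb16 yb12 zb36) (kb xb19 yb4 zb21) (kb xb17 yb22 zb17) (kb xb19 yb5 zb17) (kb xb11 yb14 zb14) (kb xb18 yb18 zb5) (kb xb16 yb16 zb10) (kb xb18 yb18 zb1) (kb xb19 yb5 zb18) (kb xb11 yb14 zb19) (kb xb12 yb11 zb39) (kb xb15 yb18 zb14) (kb xb12 yb20 zb15) (kb xb13 yb4 zb19) (kb xb15 yb16 zb23) (kb xb14 yb9 zb36) (kb xb13 yb11 zb19) (kb xb17 yb21 zb9) (kb xb14 yb4 zb4) (kb xb19 yb5 zb21) (kb xb15 yb20 zb23) (kb xb15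 yb21 zb33) (kb xb11 yb14 zb33) (kb xb15 yb25 zb26) (kb xb15 yb19 zb11) (kb xb15 yb20 zb28) (kb xb19 yb5 zb26) (kb xb12 yb22 zb19) (kb xb15 yb20 zb31) (kb xb12 yb8 zb13) (kb xb11 yb15 zb9) (kb xb11 yb15 zb1) (kb xb15 yb0 zb0) (kb xb13 yb5 zb39) (kb xb19 yb5 zb27) (kb xb11 yb15 zb10) (kb xb13 yb10 zb24)) (@D3.rec (fun _ => Pt) (kb xb11 yb20 zb33) (kb xb11 yb16 zb27) (kb xb13 yb4 zb35) (kb xb13 yb13 zb22) (kb xb19 yb4 zb12) (kb xb11 yb15 zb27) (kb xb11 yb15 zb34) (kb xb12 yb3 zb13) (kb xb11 yb16 zb24) (kb xb15 yb17 zb16) (kb xb11 yb15 zb39) (kb xb17 yb4 zb1) (kb xb15 yb14 zb32) (kb xb13 yb15 zb12) (kb xb11 yb16 zb8) (kb xb14 yb5 zb38) (kb xb19 yb5 zb30) (kb xb14 yb5 zb2) (kb xb15 yb17 zb29) (kb xb15 yb21 zb24) (kb xb11 yb16 zb25) (kb xb19 yb3 zb27) (kb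 xb15 yb17 zb36) (kb xb11 yb20 zb32) (kb xb15 yb21 zb19) (kb xb15 yb15 zb0) (kb xb16 yb19 zb32) (kb xb15 yb24 zb4) (kb xb13 yb14 zb10) (kb xb11 yb16 zb38) (kb xb11 yb17 zb15) (kb xb11 yb17 zb13) (kb xb16 yb20 zb8) (kb xb15 yb20 zb24) (kb xb16 yb20 zb24) (kb xb11 yb20 zb5) (kb xb11 yb18 zb23) (kb xb15 yb23 zb1) (kb xb12 yb23 zb10) (kb xb16 yb20 zb28)) (@D3.rec (fun _ => Pt) (kb xb14 yb7 zb29) (kb xb11 yb17 zb28) (kb xb11 yb18 zb36) (kb xb19 yb6 zb2) (kb xb12 yb23 zb28) (kb xb11 yb17 zb27) (kb xb18 yb6 zb29) (kb xb19 yb6 zb4) (kb xb11 yb17 zb29) (kb xb12 yb7 zb16) (kb xb16 yb12 zb5) (kb xb12 yb5 zb4) (kb xb15 yb19 zb4) (kb xb11 yb25 zb2) (kb xb17 yb4 zb7) (kb xb14 yb4 zb38) (kb xb11 yb18 zb6) (kb xb16 yb21 zb36) (kb xb16 yb13 zb32) (kb xb12 yb6 zb22) (kb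 xb12 yb10 zb30) (kb xb19 yb5 zb9) (kb xb11 yb20 zb7) (kb xb14 yb14 zb6) (kb xb13 yb12 zb21) (kb xb12 yb23 zb29) (kb xb11 yb18 zb32) (kb xb12 yb21 zb14) (kb xb15 yb20 zb2) (kb xb19 yb6 zb9) (kb xb19 yb3 zb18) (kb xb19 yb5 zb5) (kb xb19 yb5 zb39) (kb xb16 yb10 zb29) (kb xb19 yb6 zb14) (kb xb17 yb22 zb3) (kb xb11 yb18 zb38) (kb xb18 yb23 zb3) (kb xb19 yb6 zb15) (kb xb11 yb19 zb2)) (@D3.rec (fun _ => Pt) (kb xb12 yb13 zb34) (kb xb15 yb21 zb37) (kb xb12 yb21 zb34) (kb xb13 yb4 zb16) (kb xb15 yb15 zb34) (kb xb14 yb8 zb28) (kb xb13 yb11 zb23) (kb xb17 yb21 zb11) (kb xb16 yb23 zb8) (kb xb15 yb18 zb3) (kb xb19 yb3 zb20) (kb xb12 yb21 zb3) (kb xb18 yb3 zb36) (kb xb16 yb25 zb11) (kb xb15 yb6 zb26) (kb xb13 yb15 zb22) (kb xb11 yb19 zb35) (kb xb14 yb14 zb8) (kb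 xb15 yb14 zb30) (kb xb14 yb4 zb24) (kb xb16 yb19 zb15) (kb xb11 yb20 zb3) (kb xb11 yb20 zb4) (kb xb16 yb20 zb0) (kb xb19 yb6 zb23) (kb xb16 yb19 zb7) (kb xb19 yb6 zb24) (kb xb19 yb5 zb35) (kb xb15 yb25 zb11) (kb xb19 yb6 zb31) (kb xb11 yb20 zb10) (kb xb19 yb6 zb32) (kb xb19 yb6 zb35) (kb xb11 yb20 zb12) (kb xb19 yb5 zb6) (kb xb11 yb20 zb15) (kb xb11 yb20 zb16) (kb xb15 yb24 zb33) (kb xb15 yb24 zb32) (kb xb18 yb20 zb14)) (@D3.rec (fun _ => Pt) (kb xb13 yb24 zb4) (kb xb19 yb6 zb37) (kb xb12 yb3 zb18) (kb xb16 yb23 zb36) (kb xb15 yb21 zb27) (kb xb19 yb3 zb33) (kb xb12 yb22 zb18) (kb xb18 yb5 zb11) (kb xb17 yb1 zb1) (kb xb13 yb15 zb30) (kb xb15 yb0 zb32) (kb xb11 yb21 zb14) (kb xb14 yb13 zb36) (kb xb15 yb14 zb33) (kb xb14 yb5 zb5) (kb xb16 yb19 zb29) (kb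 xb11 yb21 zb22) (kb xb11 yb21 zb23) (kb xb16 yb20 zb25) (kb xb19 yb7 zb3) (kb xb16 yb19 zb25) (kb xb19 yb7 zb4) (kb xb19 yb4 zb16) (kb xb15 yb25 zb30) (kb xb19 yb7 zb11) (kb xb11 yb21 zb29) (kb xb19 yb7 zb12) (kb xb19 yb7 zb15) (kb xb11 yb21 zb31) (kb xb19 yb4 zb35) (kb xb11 yb21 zb34) (kb xb11 yb21 zb35) (kb xb15 yb23 zb38) (kb xb15 yb23 zb37) (kb xb18 yb14 zb27) (kb xb13 yb25 zb13) (kb xb19 yb7 zb17) (kb xb12 yb3 zb20) (kb xb13 yb4 zb1) (kb xb11 yb22 zb19)) (@D3.rec (fun _ => Pt) (kb xb11 yb22 zb21) (kb xb15 yb1 zb32) (kb xb17 yb6 zb17) (kb xb15 yb16 zb31) (kb xb11 yb22 zb38) (kb xb19 yb7 zb19) (kb xb19 yb7 zb23) (kb xb19 yb7 zb24) (kb xb11 yb22 zb39) (kb xb11 yb23 zb0) (kb xb11 yb23 zb3) (kb xb15 yb23 zb28) (kb xb19 yb7 zb27) (kb xb11 yb23 zb7) (kb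 xb19 yb7 zb28) (kb xb12 yb13 zb26) (kb xb19 yb7 zb31) (kb xb11 yb23 zb10) (kb xb17 yb22 zb1) (kb xb19 yb7 zb34) (kb xb11 yb23 zb15) (kb xb13 yb4 zb10) (kb xb11 yb23 zb25) (kb xb11 yb23 zb26) (kb xb15 yb7 zb22) (kb xb17 yb6 zb27) (kb xb15 yb20 zb26) (kb xb11 yb24 zb3) (kb xb19 yb7 zb36) (kb xb11 yb24 zb4) (kb xb15 yb24 zb23) (kb xb19 yb7 zb39) (kb xb19 yb8 zb2) (kb xb12 yb15 zb16) (kb xb11 yb24 zb9) (kb xb17 yb22 zb15) (kb xb11 yb24 zb19) (kb xb11 yb24 zb15) (kb xb15 yb7 zb21) (kb xb12 yb25 zb20))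
def f_b_16 : D2 → D3 → Pt := @D2.rec (fun _ => D3 → Pt) (@D3.rec (fun _ => Pt) (kb xb11 yb24 zb35) (kb xb13 yb6 zb0) (kb xb11 yb24 zb29) (kb xb15 yb1 zb31) (kb xb13 yb0 zb4) (kb xb11 yb24 zb37) (kb xb13 yb10 zb35) (kb xb11 yb25 zb1) (kb xb11 yb25 zb9) (kb xb19 yb8 zb4) (kb xb19 yb6 zb7) (kb xb11 yb25 zb7) (kb xb11 yb25 zb12) (kb xb19 yb8 zb5) (kb xb12 yb25 zb24) (kb xb11 yb25 zb11) (kb xb19 yb8 zb9) (kb xb17 yb14 zb11) (kb xb11 yb25 zb14) (kb xb12 yb1 zb18) (kb xb17 yb4 zb33) (kb xb11 yb25 zb23) (kb xb13 yb5 zb15) (kb xb11 yb25 zb34) (kb xb13 yb11 zb15) (kb xb11 yb25 zb37) (kb xb12 yb0 zb6) (kb xb19 yb8 zb12) (kb xb19 yb4 zb28) (kb xb12 yb0 zb3) (kb xb12 yb0 zb8) (kb xb19 yb8 zb13) (kb xb13 yb0 zb8) (kb xb12 yb0 zb7) (kb xb19 yb8 zb17) (kb xb17 yb14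 zb7) (kb xb12 yb0 zb10) (kb xb12 yb1 zb27) (kb xb17 yb4 zb21) (kb xb12 yb0 zb17)) (@D3.rec (fun _ => Pt) (kb xb12 yb0 zb25) (kb xb12 yb0 zb26) (kb xb12 yb0 zb29) (kb xb12 yb9 zb2) (kb xb16 yb8 zb27) (kb xb13 yb16 zb39) (kb xb19 yb8 zb28) (kb xb12 yb11 zb25) (kb xb12 yb0 zb32) (kb xb12 yb9 zb8) (kb xb16 yb9 zb12) (kb xb13 yb17 zb3) (kb xb19 yb8 zb36) (kb xb12 yb11 zb9) (kb xb12 yb13 zb18) (kb xb12 yb15 zb10) (kb xb19 yb8 zb38) (kb xb16 yb24 zb23) (kb xb14 yb22 zb10) (kb xb12 yb1 zb4) (kb xb19 yb9 zb2) (kb xb12 yb10 zb7) (kb xb17 yb7 zb5) (kb xb19 yb1 zb18) (kb xb16 yb8 zb21) (kb xb19 yb9 zb5) (kb xb16 yb24 zb19) (kb xb14 yb19 zb26) (kb xb12 yb1 zb8) (kb xb19 yb9 zb9) (kb xb12 yb9 zb35) (kb xb17 yb7 zb0) (kb xb18 yb25 zb5) (kb xb16 yb9 zb6) (kb xb12 yb1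 zb11) (kb xb16 yb3 zb5) (kb xb16 yb3 zb3) (kb xb12 yb1 zb15) (kb xb17 yb19 zb29) (kb xb16 yb24 zb3)) (@D3.rec (fun _ => Pt) (kb xb12 yb1 zb20) (kb xb16 yb2 zb37) (kb xb16 yb2 zb35) (kb xb12 yb1 zb24) (kb xb17 yb18 zb11) (kb xb16 yb23 zb15) (kb xb13 yb21 zb35) (kb xb12 yb9 zb12) (kb xb13 yb6 zb21) (kb xb15 yb0 zb6) (kb xb13 yb22 zb17) (kb xb12 yb9 zb6) (kb xb13 yb6 zb13) (kb xb15 yb6 zb3) (kb xb19 yb9 zb26) (kb xb16 yb2 zb15) (kb xb16 yb2 zb19) (kb xb19 yb9 zb29) (kb xb16 yb2 zb18) (kb xb16 yb2 zb16) (kb xb17 yb4 zb32) (kb xb14 yb8 zb31) (kb xb17 yb4 zb20) (kb xb14 yb9 zb38) (kb xb12 yb2 zb25) (kb xb12 yb2 zb31) (kb xb12 yb3 zb6) (kb xb18 yb13 zb20) (kb xb12 yb3 zb10) (kb xb12 yb3 zb11) (kb xb18 yb19 zb13) (kb xb12 yb3 zb16) (kb xb12 yb3 zb23) (kb xb18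 yb20 zb21) (kb xb12 yb3 zb26) (kb xb16 yb2 zb2) (kb xb15 yb1 zb37) (kb xb16 yb2 zb1) (kb xb19 yb3 zb34) (kb xb19 yb9 zb36)) (@D3.rec (fun _ => Pt) (kb xb12 yb3 zb34) (kb xb18 yb14 zb34) (kb xb12 yb3 zb37) (kb xb16 yb1 zb36) (kb xb15 yb7 zb27) (kb xb16 yb1 zb35) (kb xb19 yb3 zb21) (kb xb19 yb10 zb1) (kb xb12 yb4 zb3) (kb xb14 yb25 zb7) (kb xb15 yb0 zb16) (kb xb12 yb4 zb7) (kb xb14 yb5 zb21) (kb xb12 yb4 zb12) (kb xb15 yb5 zb6) (kb xb15 yb6 zb10) (kb xb12 yb4 zb16) (kb xb14 yb6 zb15) (kb xb16 yb10 zb9) (kb xb17 yb21 zb25) (kb xb19 yb10 zb5) (kb xb12 yb4 zb25) (kb xb16 yb8 zb7) (kb xb12 yb4 zb29) (kb xb19 yb10 zb10) (kb xb18 yb12 zb26) (kb xb17 yb12 zb11) (kb xb12 yb4 zb32) (kb xb15 yb8 zb29) (kb xb19 yb10 zb11) (kb xb15 yb0 zb28) (kb xb19 yb10 zb14) (kb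 xb12 yb4 zb36) (kb xb12 yb16 zb18) (kb xb15 yb18 zb25) (kb xb19 yb6 zb5) (kb xb15 yb20 zb0) (kb xb18 yb21 zb18) (kb xb16 yb15 zb34) (kb xb19 yb10 zb18)) (@D3.rec (fun _ => Pt) (kb xb12 yb17 zb5) (kb xb19 yb10 zb20) (kb xb12 yb5 zb8) (kb xb13 yb12 zb10) (kb xb16 yb12 zb19) (kb xb17 yb21 zb21) (kb xb19 yb10 zb22) (kb xb12 yb5 zb14) (kb xb16 yb8 zb32) (kb xb12 yb5 zb18) (kb xb19 yb10 zb27) (kb xb18 yb18 zb26) (kb xb17 yb10 zb37) (kb xb12 yb5 zb21) (kb xb15 yb3 zb2) (kb xb19 yb10 zb28) (kb xb15 yb6 zb22) (kb xb19 yb10 zb31) (kb xb12 yb5 zb25) (kb xb12 yb17 zb37) (kb xb15 yb19 zb23) (kb xb15 yb19 zb18) (kb xb19 yb4 zb26) (kb xb18 yb16 zb3) (kb xb16 yb13 zb38) (kb xb19 yb10 zb35) (kb xb12 yb15 zb26) (kb xb19 yb10 zb37) (kb xb12 yb5 zb37) (kb xb13 yb11 zb31)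 (kb xb12 yb15 zb32) (kb xb13 yb9 zb8) (kb xb18 yb25 zb22) (kb xb12 yb15 zb38) (kb xb18 yb19 zb25) (kb xb17 yb10 zb25) (kb xb12 yb6 zb4) (kb xb12 yb17 zb11) (kb xb13 yb9 zb21) (kb xb19 yb1 zb37)) (@D3.rec (fun _ => Pt) (kb xb12 yb17 zb17) (kb xb18 yb13 zb32) (kb xb17 yb11 zb39) (kb xb12 yb6 zb11) (kb xb19 yb11 zb6) (kb xb12 yb6 zb21) (kb xb19 yb11 zb8) (kb xb12 yb6 zb30) (kb xb19 yb11 zb10) (kb xb12 yb6 zb34) (kb xb19 yb11 zb11) (kb xb12 yb6 zb38) (kb xb12 yb7 zb0) (kb xb12 yb10 zb36) (kb xb17 yb6 zb19) (kb xb16 yb5 zb30) (kb xb13 yb12 zb19) (kb xb12 yb7 zb11) (kb xb15 yb15 zb32) (kb xb14 yb1 zb37) (kb xb15 yb5 zb11) (kb xb12 yb7 zb25) (kb xb12 yb10 zb21) (kb xb17 yb6 zb29) (kb xb16 yb5 zb31) (kb xb13 yb12 zb0) (kb xb12 yb7 zb36) (kb xb15 yb16 zb21)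 (kb xb14 yb2 zb26) (kb xb14 yb25 zb8) (kb xb16 yb5 zb15) (kb xb16 yb5 zb24) (kb xb13 yb25 zb20) (kb xb14 yb12 zb30) (kb xb18 yb0 zb3) (kb xb12 yb8 zb25) (kb xb16 yb9 zb4) (kb xb14 yb12 zb32) (kb xb14 yb22 zb5) (kb xb14 yb0 zb31)) (@D3.rec (fun _ => Pt) (kb xb14 yb12 zb33) (kb xb18 yb0 zb13) (kb xb12 yb8 zb29) (kb xb16 yb8 zb19) (kb xb14 yb12 zb35) (kb xb14 yb19 zb21) (kb xb12 yb9 zb27) (kb xb15 yb0 zb1) (kb xb16 yb9 zb10) (kb xb19 yb8 zb23) (kb xb19 yb11 zb21) (kb xb12 yb9 zb3) (kb xb16 yb6 zb28) (kb xb14 yb11 zb37) (kb xb19 yb11 zb23) (kb xb12 yb9 zb5) (kb xb19 yb11 zb26) (kb xb12 yb9 zb39) (kb xb16 yb8 zb26) (kb xb15 yb6 zb0) (kb xb19 yb8 zb31) (kb xb19 yb11 zb28) (kb xb12 yb9 zb9) (kb xb16 yb6 zb30) (kb xb14 yb12 zb9) (kb xb19 yb11 zb30) (kb xb12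 yb9 zb11) (kb xb19 yb11 zb33) (kb xb16 yb6 zb12) (kb xb16 yb14 zb17) (kb xb16 yb6 zb23) (kb xb16 yb16 zb13) (kb xb14 yb2 zb8) (kb xb19 yb11 zb36) (kb xb16 yb9 zb2) (kb xb12 yb9 zb30) (kb xb19 yb11 zb38) (kb xb19 yb11 zb39) (kb xb19 yb10 zb25) (kb xb12 yb9 zb34)) (@D3.rec (fun _ => Pt) (kb xb19 yb12 zb4) (kb xb12 yb9 zb37) (kb xb19 yb12 zb6) (kb xb12 yb9 zb38) (kb xb14 yb2 zb38) (kb xb19 yb12 zb8) (kb xb16 yb8 zb17) (kb xb12 yb10 zb2) (kb xb19 yb12 zb10) (kb xb19 yb12 zb11) (kb xb19 yb10 zb8) (kb xb12 yb10 zb6) (kb xb19 yb12 zb16) (kb xb12 yb10 zb9) (kb xb19 yb12 zb18) (kb xb12 yb10 zb10) (kb xb12 yb10 zb13) (kb xb18 yb16 zb38) (kb xb18 yb12 zb33) (kb xb16 yb10 zb3) (kb xb16 yb22 zb20) (kb xb17 yb4 zb24) (kb xb17 yb4 zb14) (kb xb14 yb4 zb20) (kb xb17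 yb22 zb14) (kb xb19 yb12 zb26) (kb xb12 yb10 zb20) (kb xb19 yb12 zb28) (kb xb16 yb14 zb25) (kb xb16 yb21 zb11) (kb xb12 yb10 zb23) (kb xb12 yb10 zb28) (kb xb18 yb22 zb3) (kb xb18 yb18 zb35) (kb xb16 yb12 zb13) (kb xb16 yb22 zb16) (kb xb17 yb4 zb36) (kb xb17 yb4 zb26) (kb xb14 yb5 zb1) (kb xb17 yb22 zb0)) (@D3.rec (fun _ => Pt) (kb xb19 yb12 zb37) (kb xb12 yb10 zb35) (kb xb19 yb12 zb39) (kb xb16 yb16 zb21) (kb xb16 yb21 zb2) (kb xb12 yb10 zb38) (kb xb12 yb11 zb1) (kb xb16 yb3 zb22) (kb xb14 yb19 zb8) (kb xb16 yb8 zb34) (kb xb16 yb8 zb10) (kb xb14 yb19 zb4) (kb xb19 yb13 zb9) (kb xb14 yb22 zb8) (kb xb14 yb23 zb15) (kb xb16 yb8 zb30) (kb xb12 yb11 zb14) (kb xb16 yb7 zb6) (kb xb13 yb17 zb28) (kb xb16 yb6 zb3) (kb xb19 yb13 zb15) (kb xb16 yb1 zb24) (kb xb18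 yb5 zb30) (kb xb19 yb13 zb20) (kb xb16 yb9 zb9) (kb xb19 yb8 zb22) (kb xb16 yb6 zb18) (kb xb16 yb1 zb4) (kb xb14 yb22 zb30) (kb xb15 yb0 zb2) (kb xb16 yb8 zb15) (kb xb12 yb11 zb17) (kb xb16 yb4 zb8) (kb xb14 yb21 zb32) (kb xb16 yb8 zb9) (kb xb16 yb8 zb35) (kb xb14 yb21 zb29) (kb xb19 yb13 zb29) (kb xb14 yb19 zb24) (kb xb14 yb20 zb31)) (@D3.rec (fun _ => Pt) (kb xb12 yb11 zb29) (kb xb16 yb9 zb15) (kb xb16 yb6 zb34) (kb xb13 yb17 zb22) (kb xb16 yb5 zb36) (kb xb19 yb13 zb35) (kb xb16 yb1 zb33) (kb xb18 yb9 zb17) (kb xb19 yb14 zb0) (kb xb16 yb8 zb24) (kb xb16 yb6 zb8) (kb xb19 yb8 zb30) (kb xb16 yb1 zb10) (kb xb14 yb20 zb7) (kb xb15 yb5 zb39) (kb xb16 yb9 zb1) (kb xb12 yb15 zb21) (kb xb13 yb25 zb24) (kb xb14 yb12 zb20) (kb xb17 yb6 zb32) (kb xb18 yb18 zb15)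 (kb xb17 yb25 zb36) (kb xb17 yb18 zb7) (kb xb18 yb20 zb18) (kb xb12 yb12 zb3) (kb xb19 yb14 zb3) (kb xb12 yb12 zb8) (kb xb14 yb6 zb37) (kb xb12 yb12 zb6) (kb xb19 yb14 zb4) (kb xb14 yb6 zb38) (kb xb19 yb14 zb7) (kb xb19 yb14 zb9) (kb xb12 yb12 zb13) (kb xb19 yb14 zb13) (kb xb12 yb12 zb14) (kb xb15 yb18 zb30) (kb xb19 yb5 zb19) (kb xb17 yb21 zb23) (kb xb12 yb12 zb16)) (@D3.rec (fun _ => Pt) (kb xb12 yb12 zb17) (kb xb19 yb14 zb15) (kb xb17 yb0 zb30) (kb xb16 yb7 zb19) (kb xb12 yb12 zb19) (kb xb14 yb5 zb26) (kb xb12 yb12 zb25) (kb xb17 yb5 zb6) (kb xb13 yb12 zb32) (kb xb16 yb3 zb18) (kb xb14 yb6 zb6) (kb xb17 yb15 zb19) (kb xb18 yb25 zb16) (kb xb19 yb14 zb24) (kb xb12 yb12 zb26) (kb xb17 yb15 zb4) (kb xb17 yb1 zb6) (kb xb19 yb14 zb27) (kb xb12 yb12 zb28)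 (kb xb12 yb12 zb29) (kb xb19 yb14 zb31) (kb xb15 yb8 zb16) (kb xb19 yb14 zb32) (kb xb12 yb12 zb31) (kb xb18 yb18 zb32) (kb xb18 yb12 zb38) (kb xb13 yb6 zb32) (kb xb19 yb5 zb10) (kb xb16 yb14 zb28) (kb xb15 yb22 zb33) (kb xb14 yb24 zb19) (kb xb12 yb13 zb7) (kb xb19 yb15 zb2) (kb xb12 yb12 zb36) (kb xb17 yb21 zb20) (kb xb19 yb3 zb17) (kb xb16 yb14 zb19) (kb xb12 yb12 zb38) (kb xb19 yb6 zb19) (kb xb19 yb4 zb3)) (@D3.rec (fun _ => Pt) (kb xb12 yb13 zb15) (kb xb12 yb15 zb4) (kb xb17 yb3 zb30) (kb xb17 yb22 zb10) (kb xb12 yb13 zb2) (kb xb19 yb15 zb12) (kb xb19 yb15 zb17) (kb xb19 yb5 zb13) (kb xb15 yb19 zb39) (kb xb12 yb13 zb6) (kb xb12 yb13 zb24) (kb xb12 yb13 zb8) (kb xb14 yb25 zb15) (kb xb12 yb13 zb11) (kb xb12 yb15 zb7) (kb xb19 yb15 zb23) (kb xb12 yb13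 zb13) (kb xb19 yb15 zb25) (kb xb16 yb13 zb19) (kb xb19 yb2 zb13) (kb xb12 yb13 zb16) (kb xb12 yb13 zb20) (kb xb12 yb13 zb22) (kb xb19 yb15 zb27) (kb xb18 yb21 zb34) (kb xb12 yb13 zb25) (kb xb19 yb15 zb20) (kb xb12 yb17 zb0) (kb xb14 yb12 zb25) (kb xb14 yb0 zb36) (kb xb18 yb23 zb15) (kb xb17 yb6 zb34) (kb xb18 yb0 zb7) (kb xb17 yb19 zb25) (kb xb12 yb13 zb38) (kb xb19 yb15 zb33) (kb xb18 yb14 zb30) (kb xb12 yb14 zb4) (kb xb14 yb6 zb5) (kb xb12 yb14 zb1)) (@D3.rec (fun _ => Pt) (kb xb19 yb15 zb34) (kb xb19 yb15 zb36) (kb xb12 yb14 zb7) (kb xb19 yb15 zb38) (kb xb19 yb14 zb17) (kb xb15 yb22 zb10) (kb xb19 yb6 zb16) (kb xb17 yb21 zb31) (kb xb12 yb14 zb10) (kb xb12 yb14 zb11) (kb xb12 yb14 zb12) (kb xb19 yb16 zb0) (kb xb16 yb24 zb38) (kb xb16 yb7 zb34) (kb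 xb12 yb14 zb14) (kb xb14 yb6 zb19) (kb xb12 yb14 zb19) (kb xb17 yb5 zb29) (kb xb13 yb14 zb9) (kb xb16 yb4 zb4) (kb xb17 yb13 zb38) (kb xb19 yb1 zb29) (kb xb19 yb16 zb6) (kb xb12 yb14 zb20) (kb xb17 yb16 zb21) (kb xb16 yb25 zb17) (kb xb19 yb16 zb8) (kb xb12 yb14 zb22) (kb xb12 yb14 zb23) (kb xb19 yb14 zb25) (kb xb15 yb2 zb28) (kb xb19 yb16 zb10) (kb xb12 yb14 zb25) (kb xb13 yb8 zb2) (kb xb19 yb4 zb31) (kb xb16 yb16 zb24) (kb xb15 yb20 zb3) (kb xb15 yb4 zb20) (kb xb19 yb15 zb31) (kb xb12 yb14 zb30)) (@D3.rec (fun _ => Pt) (kb xb17 yb21 zb29) (kb xb19 yb3 zb30) (kb xb16 yb16 zb15) (kb xb12 yb14 zb32) (kb xb19 yb6 zb39) (kb xb19 yb5 zb24) (kb xb12 yb15 zb6) (kb xb17 yb4 zb0) (kb xb17 yb21 zb36) (kb xb12 yb14 zb36) (kb xb19 yb16 zb19) (kb xb19 yb5 zb0) (kb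 xb19 yb16 zb24) (kb xb15 yb19 zb19) (kb xb12 yb15 zb15) (kb xb15 yb5 zb15) (kb xb12 yb15 zb2) (kb xb19 yb16 zb25) (kb xb19 yb15 zb9) (kb xb16 yb11 zb18) (kb xb19 yb2 zb32) (kb xb12 yb15 zb11) (kb xb12 yb15 zb13) (kb xb19 yb16 zb26) (kb xb18 yb16 zb19) (kb xb19 yb15 zb1) (kb xb12 yb15 zb20) (kb xb12 yb15 zb23) (kb xb12 yb15 zb25) (kb xb12 yb15 zb27) (kb xb12 yb15 zb28) (kb xb17 yb5 zb11) (kb xb15 yb22 zb18) (kb xb13 yb7 zb27) (kb xb19 yb10 zb38) (kb xb19 yb16 zb35) (kb xb12 yb15 zb33) (kb xb17 yb17 zb13) (kb xb16 yb4 zb24) (kb xb13 yb7 zb26)) (@D3.rec (fun _ => Pt) (kb xb15 yb6 zb32) (kb xb12 yb15 zb37) (kb xb18 yb19 zb12) (kb xb12 yb15 zb39) (kb xb17 yb1 zb13) (kb xb18 yb20 zb19) (kb xb19 yb17 zb1) (kb xb15 yb7 zb33) (kb xb12 yb16 zb1) (kb xb13 yb9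 zb16) (kb xb19 yb17 zb7) (kb xb14 yb17 zb9) (kb xb19 yb12 zb20) (kb xb17 yb15 zb27) (kb xb15 yb18 zb17) (kb xb19 yb17 zb11) (kb xb12 yb16 zb6) (kb xb16 yb6 zb29) (kb xb17 yb25 zb29) (kb xb16 yb10 zb36) (kb xb16 yb25 zb34) (kb xb17 yb6 zb33) (kb xb18 yb20 zb20) (kb xb12 yb16 zb10) (kb xb19 yb16 zb21) (kb xb16 yb7 zb28) (kb xb19 yb17 zb15) (kb xb12 yb16 zb12) (kb xb16 yb10 zb28) (kb xb12 yb16 zb16) (kb xb12 yb16 zb17) (kb xb17 yb22 zb18) (kb xb12 yb16 zb21) (kb xb12 yb16 zb31) (kb xb18 yb14 zb38) (kb xb12 yb16 zb23) (kb xb16 yb17 zb28) (kb xb12 yb16 zb37) (kb xb12 yb16 zb25) (kb xb19 yb6 zb1)) (@D3.rec (fun _ => Pt) (kb xb14 yb25 zb18) (kb xb15 yb10 zb24) (kb xb15 yb5 zb17) (kb xb19 yb17 zb27) (kb xb19 yb17 zb28) (kb xb12 yb16 zb26) (kb xb12 yb16 zb27)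 (kb xb16 yb18 zb0) (kb xb16 yb18 zb1) (kb xb19 yb17 zb33) (kb xb19 yb17 zb35) (kb xb18 yb3 zb3) (kb xb18 yb14 zb39) (kb xb12 yb16 zb32) (kb xb12 yb16 zb34) (kb xb19 yb18 zb0) (kb xb19 yb18 zb4) (kb xb19 yb18 zb5) (kb xb16 yb15 zb18) (kb xb19 yb17 zb18) (kb xb18 yb3 zb6) (kb xb17 yb19 zb17) (kb xb12 yb16 zb38) (kb xb12 yb17 zb1) (kb xb12 yb17 zb4) (kb xb12 yb17 zb6) (kb xb12 yb17 zb7) (kb xb17 yb5 zb33) (kb xb15 yb19 zb1) (kb xb13 yb8 zb36) (kb xb19 yb11 zb2) (kb xb19 yb18 zb13) (kb xb12 yb17 zb12) (kb xb17 yb18 zb38) (kb xb16 yb3 zb38) (kb xb13 yb8 zb35) (kb xb15 yb0 zb38) (kb xb12 yb17 zb16) (kb xb18 yb13 zb19) (kb xb12 yb17 zb18)) (@D3.rec (fun _ => Pt) (kb xb16 yb25 zb24) (kb xb18 yb14 zb31) (kb xb19 yb18 zb19) (kb xb15 yb2 zb3) (kb xb12 yb17 zb20)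 (kb xb13 yb9 zb29) (kb xb19 yb18 zb25) (kb xb14 yb18 zb22) (kb xb19 yb12 zb31) (kb xb17 yb14 zb9) (kb xb15 yb20 zb9) (kb xb19 yb18 zb29) (kb xb12 yb17 zb25) (kb xb16 yb6 zb31) (kb xb17 yb25 zb22) (kb xb16 yb13 zb2) (kb xb17 yb1 zb22) (kb xb17 yb6 zb35) (kb xb18 yb14 zb32) (kb xb12 yb17 zb29) (kb xb19 yb15 zb14) (kb xb16 yb8 zb3) (kb xb19 yb18 zb33) (kb xb12 yb17 zb31) (kb xb16 yb12 zb35) (kb xb12 yb17 zb35) (kb xb12 yb17 zb36) (kb xb17 yb22 zb5) (kb xb12 yb18 zb0) (kb xb12 yb18 zb9) (kb xb18 yb20 zb25) (kb xb12 yb18 zb2) (kb xb12 yb18 zb15) (kb xb16 yb18 zb17) (kb xb12 yb18 zb4) (kb xb15 yb5 zb18) (kb xb19 yb4 zb23) (kb xb15 yb12 zb20) (kb xb14 yb25 zb17) (kb xb19 yb19 zb5)) (@D3.rec (fun _ => Pt) (kb xb19 yb19 zb6) (kb xb12 yb18 zb5) (kb xb12 yb18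 zb6) (kb xb16 yb18 zb26) (kb xb16 yb18 zb27) (kb xb19 yb19 zb11) (kb xb19 yb19 zb13) (kb xb18 yb20 zb26) (kb xb18 yb4 zb18) (kb xb12 yb18 zb12) (kb xb12 yb18 zb13) (kb xb19 yb19 zb18) (kb xb19 yb19 zb22) (kb xb19 yb19 zb23) (kb xb19 yb18 zb35) (kb xb16 yb17 zb15) (kb xb17 yb17 zb34) (kb xb18 yb4 zb21) (kb xb12 yb18 zb17) (kb xb16 yb17 zb19) (kb xb12 yb18 zb19) (kb xb16 yb17 zb21) (kb xb12 yb18 zb25) (kb xb12 yb18 zb30) (kb xb12 yb18 zb23) (kb xb19 yb19 zb29) (kb xb19 yb19 zb30) (kb xb12 yb18 zb27) (kb xb16 yb14 zb36) (kb xb12 yb18 zb36) (kb xb19 yb19 zb33) (kb xb12 yb18 zb28) (kb xb19 yb19 zb36) (kb xb19 yb19 zb37) (kb xb14 yb16 zb23) (kb xb18 yb3 zb28) (kb xb15 yb13 zb38) (kb xb14 yb17 zb15) (kb xb19 yb20 zb1) (kb xb12 yb18 zb32)) (@D3.rec (fun _ =>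 Pt) (kb xb16 yb15 zb7) (kb xb16 yb15 zb8) (kb xb19 yb20 zb8) (kb xb19 yb20 zb9) (kb xb16 yb18 zb4) (kb xb19 yb19 zb32) (kb xb12 yb18 zb37) (kb xb16 yb18 zb7) (kb xb12 yb18 zb39) (kb xb16 yb18 zb9) (kb xb12 yb19 zb9) (kb xb12 yb19 zb6) (kb xb12 yb19 zb3) (kb xb19 yb20 zb14) (kb xb19 yb20 zb15) (kb xb12 yb19 zb7) (kb xb12 yb19 zb14) (kb xb16 yb16 zb33) (kb xb19 yb20 zb18) (kb xb12 yb19 zb8) (kb xb19 yb20 zb21) (kb xb19 yb20 zb22) (kb xb18 yb5 zb2) (kb xb14 yb17 zb36) (kb xb15 yb14 zb13) (kb xb14 yb18 zb28) (kb xb16 yb17 zb3) (kb xb16 yb17 zb4) (kb xb19 yb20 zb26) (kb xb19 yb20 zb16) (kb xb16 yb19 zb3) (kb xb12 yb19 zb19) (kb xb12 yb19 zb24) (kb xb12 yb23 zb23) (kb xb16 yb19 zb21) (kb xb12 yb19 zb32) (kb xb12 yb19 zb37) (kb xb12 yb24 zb35) (kb xb12 yb20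 zb10) (kb xb17 yb17 zb20)) (@D3.rec (fun _ => Pt) (kb xb16 yb20 zb2) (kb xb17 yb17 zb22) (kb xb12 yb20 zb30) (kb xb16 yb18 zb30) (kb xb15 yb1 zb9) (kb xb16 yb19 zb24) (kb xb16 yb19 zb23) (kb xb15 yb23 zb25) (kb xb19 yb3 zb23) (kb xb15 yb16 zb20) (kb xb12 yb24 zb27) (kb xb12 yb21 zb10) (kb xb19 yb3 zb36) (kb xb15 yb15 zb31) (kb xb14 yb3 zb21) (kb xb15 yb23 zb20) (kb xb12 yb21 zb30) (kb xb17 yb19 zb1) (kb xb16 yb20 zb27) (kb xb17 yb19 zb4) (kb xb12 yb22 zb9) (kb xb16 yb18 zb34) (kb xb15 yb7 zb3) (kb xb16 yb19 zb6) (kb xb16 yb19 zb5) (kb xb15 yb24 zb20) (kb xb12 yb23 zb15) (kb xb12 yb22 zb24) (kb xb14 yb4 zb0) (kb xb15 yb24 zb15) (kb xb12 yb22 zb30) (kb xb12 yb22 zb34) (kb xb15 yb21 zb26) (kb xb18 yb14 zb24) (kb xb12 yb22 zb36) (kb xb14 yb8 zb25) (kb xb18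 yb16 zb27) (kb xb14 yb2 zb21) (kb xb14 yb1 zb24) (kb xb15 yb18 zb12)) (@D3.rec (fun _ => Pt) (kb xb15 yb23 zb23) (kb xb12 yb23 zb13) (kb xb16 yb19 zb0) (kb xb15 yb18 zb18) (kb xb12 yb23 zb38) (kb xb14 yb7 zb21) (kb xb15 yb0 zb14) (kb xb16 yb20 zb10) (kb xb15 yb21 zb32) (kb xb14 yb10 zb23) (kb xb16 yb20 zb7) (kb xb16 yb21 zb4) (kb xb17 yb4 zb29) (kb xb19 yb20 zb29) (kb xb12 yb23 zb37) (kb xb12 yb24 zb1) (kb xb18 yb20 zb12) (kb xb12 yb24 zb5) (kb xb14 yb9 zb33) (kb xb12 yb24 zb7) (kb xb15 yb17 zb39) (kb xb18 yb15 zb1) (kb xb14 yb3 zb13) (kb xb14 yb0 zb14) (kb xb15 yb21 zb34) (kb xb15 yb24 zb18) (kb xb12 yb24 zb25) (kb xb16 yb19 zb18) (kb xb15 yb21 zb39) (kb xb12 yb25 zb10) (kb xb14 yb8 zb12) (kb xb15 yb6 zb8) (kb xb16 yb20 zb35) (kb xb15 yb18 zb10) (kb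 xb14 yb9 zb15) (kb xb16 yb20 zb32) (kb xb16 yb21 zb13) (kb xb17 yb4 zb17) (kb xb19 yb20 zb33) (kb xb12 yb25 zb9)) (@D3.rec (fun _ => Pt) (kb xb19 yb4 zb4) (kb xb13 yb21 zb28) (kb xb16 yb8 zb4) (kb xb12 yb25 zb38) (kb xb16 yb20 zb11) (kb xb12 yb25 zb34) (kb xb12 yb25 zb35) (kb xb12 yb25 zb39) (kb xb13 yb12 zb16) (kb xb19 yb5 zb25) (kb xb13 yb20 zb13) (kb xb16 yb7 zb29) (kb xb13 yb0 zb22) (kb xb16 yb20 zb36) (kb xb13 yb0 zb18) (kb xb13 yb0 zb20) (kb xb13 yb0 zb23) (kb xb13 yb11 zb38) (kb xb13 yb0 zb36) (kb xb13 yb1 zb9) (kb xb17 yb4 zb18) (kb xb19 yb11 zb9) (kb xb13 yb1 zb15) (kb xb13 yb1 zb23) (kb xb13 yb1 zb31) (kb xb17 yb4 zb30) (kb xb19 yb11 zb7) (kb xb13 yb1 zb36) (kb xb17 yb6 zb20) (kb xb16 yb21 zb33) (kb xb13 yb2 zb35) (kb xb17 yb19 zb28) (kb xb17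 yb6 zb30) (kb xb16 yb21 zb29) (kb xb13 yb3 zb4) (kb xb17 yb18 zb10) (kb xb15 yb22 zb17) (kb xb17 yb21 zb35) (kb xb15 yb18 zb37) (kb xb17 yb21 zb28)) (@D3.rec (fun _ => Pt) (kb xb13 yb16 zb35) (kb xb13 yb16 zb37) (kb xb17 yb24 zb26) (kb xb15 yb4 zb6) (kb xb17 yb24 zb31) (kb xb15 yb9 zb31) (kb xb13 yb5 zb19) (kb xb19 yb21 zb5) (kb xb13 yb17 zb7) (kb xb17 yb1 zb26) (kb xb13 yb6 zb4) (kb xb19 yb21 zb6) (kb xb13 yb17 zb8) (kb xb16 yb25 zb37) (kb xb19 yb21 zb7) (kb xb19 yb21 zb8) (kb xb16 yb7 zb35) (kb xb17 yb12 zb19) (kb xb19 yb21 zb10) (kb xb19 yb21 zb11) (kb xb16 yb7 zb20) (kb xb17 yb11 zb7) (kb xb13 yb3 zb7) (kb xb13 yb3 zb9) (kb xb18 yb13 zb17) (kb xb16 yb22 zb25) (kb xb17 yb2 zb1) (kb xb15 yb10 zb4) (kb xb16 yb22 zb33) (kb xb18 yb19 zb10) (kb xb16 yb22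 zb30) (kb xb17 yb0 zb13) (kb xb15 yb12 zb0) (kb xb16 yb22 zb28) (kb xb13 yb3 zb33) (kb xb13 yb3 zb36) (kb xb13 yb4 zb3) (kb xb13 yb4 zb12) (kb xb13 yb4 zb15) (kb xb13 yb4 zb18)) (@D3.rec (fun _ => Pt) (kb xb13 yb4 zb39) (kb xb13 yb5 zb0) (kb xb19 yb21 zb21) (kb xb16 yb25 zb10) (kb xb13 yb5 zb3) (kb xb19 yb21 zb23) (kb xb13 yb5 zb6) (kb xb19 yb21 zb25) (kb xb15 yb23 zb8) (kb xb19 yb21 zb27) (kb xb13 yb5 zb7) (kb xb13 yb5 zb8) (kb xb18 yb17 zb23) (kb xb19 yb21 zb29) (kb xb16 yb24 zb33) (kb xb16 yb2 zb5) (kb xb17 yb4 zb22) (kb xb17 yb22 zb21) (kb xb13 yb5 zb16) (kb xb18 yb13 zb14) (kb xb13 yb5 zb18) (kb xb19 yb21 zb36) (kb xb15 yb8 zb1) (kb xb19 yb22 zb1) (kb xb13 yb5 zb21) (kb xb19 yb22 zb2) (kb xb19 yb3 zb39) (kb xb13 yb5 zb22) (kb xb19 yb22 zb6) (kb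 xb13 yb5 zb24) (kb xb19 yb22 zb8) (kb xb17 yb1 zb0) (kb xb13 yb5 zb28) (kb xb19 yb22 zb10) (kb xb13 yb5 zb31) (kb xb19 yb22 zb12) (kb xb15 yb24 zb3) (kb xb19 yb22 zb14) (kb xb13 yb5 zb32) (kb xb13 yb5 zb33)) (@D3.rec (fun _ => Pt) (kb xb18 yb22 zb25) (kb xb19 yb22 zb16) (kb xb17 yb0 zb25) (kb xb16 yb1 zb39) (kb xb17 yb4 zb34) (kb xb17 yb22 zb8) (kb xb13 yb6 zb1) (kb xb18 yb19 zb8) (kb xb13 yb6 zb3) (kb xb19 yb22 zb22) (kb xb15 yb2 zb12) (kb xb19 yb22 zb26) (kb xb13 yb6 zb6) (kb xb19 yb22 zb27) (kb xb19 yb3 zb26) (kb xb13 yb6 zb7) (kb xb19 yb22 zb31) (kb xb13 yb6 zb9) (kb xb13 yb17 zb21) (kb xb16 yb1 zb26) (kb xb17 yb11 zb21) (kb xb13 yb6 zb18) (kb xb13 yb17 zb27) (kb xb16 yb1 zb17) (kb xb17 yb10 zb5) (kb xb13 yb6 zb26) (kb xb15 yb2 zb33) (kb xb13 yb23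 zb36) (kb xb17 yb7 zb24) (kb xb19 yb22 zb36) (kb xb13 yb6 zb31) (kb xb18 yb12 zb37) (kb xb17 yb18 zb35) (kb xb16 yb23 zb14) (kb xb14 yb0 zb5) (kb xb14 yb0 zb24) (kb xb13 yb6 zb38) (kb xb14 yb0 zb2) (kb xb16 yb12 zb12) (kb xb17 yb20 zb14)) (@D3.rec (fun _ => Pt) (kb xb13 yb25 zb22) (kb xb19 yb23 zb0) (kb xb13 yb7 zb1) (kb xb19 yb23 zb4) (kb xb15 yb10 zb19) (kb xb17 yb6 zb2) (kb xb13 yb7 zb3) (kb xb13 yb7 zb4) (kb xb17 yb5 zb7) (kb xb17 yb5 zb30) (kb xb16 yb23 zb3) (kb xb15 yb23 zb13) (kb xb17 yb5 zb18) (kb xb13 yb7 zb18) (kb xb13 yb8 zb26) (kb xb15 yb4 zb10) (kb xb13 yb7 zb9) (kb xb16 yb12 zb25) (kb xb18 yb12 zb28) (kb xb14 yb24 zb27) (kb xb13 yb7 zb12) (kb xb17 yb0 zb15) (kb xb13 yb7 zb25) (kb xb19 yb9 zb6) (kb xb16 yb16 zb0) (kb xb13 yb7 zb13) (kb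 xb19 yb23 zb13) (kb xb15 yb12 zb10) (kb xb13 yb7 zb15) (kb xb13 yb7 zb17) (kb xb19 yb23 zb17) (kb xb17 yb1 zb19) (kb xb18 yb5 zb0) (kb xb13 yb16 zb36) (kb xb16 yb14 zb20) (kb xb17 yb15 zb29) (kb xb18 yb12 zb25) (kb xb16 yb22 zb13) (kb xb13 yb14 zb24) (kb xb14 yb0 zb17))
def f_b_17 : D2 → D3 → Pt := @D2.rec (fun _ => D3 → Pt) (@D3.rec (fun _ => Pt) (kb xb19 yb9 zb18) (kb xb18 yb16 zb25) (kb xb13 yb7 zb28) (kb xb18 yb24 zb28) (kb xb13 yb7 zb31) (kb xb19 yb23 zb23) (kb xb17 yb14 zb24) (kb xb14 yb15 zb29) (kb xb19 yb23 zb26) (kb xb13 yb7 zb32) (kb xb18 yb7 zb0) (kb xb18 yb13 zb18) (kb xb13 yb7 zb34) (kb xb16 yb22 zb31) (kb xb13 yb7 zb36) (kb xb16 yb25 zb21) (kb xb19 yb17 zb38) (kb xb19 yb4 zb9) (kb xb15 yb8 zb19) (kb xb13 yb25 zb5) (kb xb17 yb7 zb32) (kb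 xb19 yb23 zb33) (kb xb13 yb8 zb1) (kb xb18 yb18 zb31) (kb xb17 yb17 zb15) (kb xb16 yb24 zb2) (kb xb14 yb1 zb15) (kb xb14 yb1 zb33) (kb xb13 yb8 zb7) (kb xb14 yb1 zb12) (kb xb16 yb10 zb2) (kb xb17 yb21 zb0) (kb xb14 yb0 zb34) (kb xb19 yb23 zb37) (kb xb13 yb8 zb10) (kb xb19 yb24 zb1) (kb xb15 yb12 zb14) (kb xb17 yb5 zb20) (kb xb13 yb8 zb12) (kb xb13 yb8 zb13)) (@D3.rec (fun _ => Pt) (kb xb16 yb23 zb31) (kb xb15 yb24 zb8) (kb xb17 yb6 zb0) (kb xb13 yb8 zb27) (kb xb15 yb9 zb35) (kb xb13 yb8 zb18) (kb xb16 yb10 zb16) (kb xb18 yb16 zb31) (kb xb15 yb4 zb26) (kb xb13 yb8 zb21) (kb xb13 yb8 zb33) (kb xb17 yb2 zb3) (kb xb19 yb8 zb39) (kb xb16 yb14 zb4) (kb xb13 yb8 zb22) (kb xb19 yb24 zb8) (kb xb15 yb10 zb13) (kb xb13 yb8 zb24) (kb xb19 yb23 zb10) (kb xb16 yb25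 zb31) (kb xb18 yb3 zb25) (kb xb13 yb16 zb38) (kb xb16 yb16 zb16) (kb xb18 yb18 zb25) (kb xb17 yb14 zb12) (kb xb13 yb13 zb10) (kb xb16 yb22 zb9) (kb xb14 yb1 zb27) (kb xb19 yb9 zb22) (kb xb18 yb21 zb38) (kb xb13 yb8 zb37) (kb xb19 yb1 zb3) (kb xb13 yb9 zb0) (kb xb17 yb16 zb1) (kb xb19 yb24 zb16) (kb xb14 yb14 zb35) (kb xb19 yb24 zb19) (kb xb13 yb9 zb1) (kb xb18 yb10 zb19) (kb xb18 yb19 zb11)) (@D3.rec (fun _ => Pt) (kb xb13 yb9 zb3) (kb xb16 yb22 zb26) (kb xb13 yb9 zb5) (kb xb17 yb1 zb11) (kb xb19 yb19 zb16) (kb xb19 yb5 zb29) (kb xb15 yb6 zb33) (kb xb18 yb11 zb21) (kb xb18 yb25 zb28) (kb xb19 yb24 zb27) (kb xb18 yb13 zb25) (kb xb13 yb9 zb9) (kb xb17 yb3 zb11) (kb xb17 yb3 zb12) (kb xb19 yb24 zb33) (kb xb15 yb1 zb17) (kb xb18 yb19 zb17) (kb xb19 yb2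 zb4) (kb xb13 yb9 zb15) (kb xb18 yb24 zb33) (kb xb19 yb19 zb4) (kb xb19 yb18 zb22) (kb xb17 yb2 zb22) (kb xb18 yb24 zb8) (kb xb19 yb24 zb37) (kb xb19 yb0 zb20) (kb xb15 yb0 zb39) (kb xb18 yb8 zb4) (kb xb19 yb24 zb39) (kb xb13 yb9 zb23) (kb xb17 yb3 zb24) (kb xb17 yb3 zb25) (kb xb15 yb7 zb7) (kb xb19 yb25 zb4) (kb xb13 yb9 zb28) (kb xb19 yb1 zb8) (kb xb19 yb17 zb4) (kb xb19 yb17 zb25) (kb xb19 yb0 zb21) (kb xb17 yb2 zb39)) (@D3.rec (fun _ => Pt) (kb xb18 yb24 zb5) (kb xb19 yb25 zb8) (kb xb13 yb9 zb33) (kb xb19 yb25 zb11) (kb xb19 yb25 zb12) (kb xb18 yb3 zb7) (kb xb19 yb2 zb35) (kb xb15 yb3 zb13) (kb xb15 yb3 zb15) (kb xb19 yb25 zb16) (kb xb13 yb9 zb37) (kb xb17 yb2 zb12) (kb xb17 yb2 zb13) (kb xb19 yb25 zb23) (kb xb18 yb15 zb24) (kb xb17 yb3 zb15) (kb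 xb19 yb2 zb28) (kb xb13 yb10 zb2) (kb xb19 yb25 zb26) (kb xb19 yb25 zb27) (kb xb19 yb2 zb15) (kb xb18 yb4 zb22) (kb xb15 yb8 zb38) (kb xb15 yb9 zb0) (kb xb17 yb2 zb30) (kb xb17 yb2 zb31) (kb xb18 yb21 zb3) (kb xb19 yb3 zb5) (kb xb13 yb10 zb10) (kb xb13 yb10 zb13) (kb xb16 yb11 zb2) (kb xb15 yb17 zb18) (kb xb13 yb10 zb26) (kb xb13 yb10 zb30) (kb xb13 yb10 zb28) (kb xb17 yb5 zb21) (kb xb14 yb3 zb31) (kb xb15 yb18 zb34) (kb xb13 yb10 zb37) (kb xb13 yb11 zb34)) (@D3.rec (fun _ => Pt) (kb xb16 yb13 zb7) (kb xb15 yb21 zb11) (kb xb13 yb11 zb7) (kb xb13 yb11 zb11) (kb xb13 yb11 zb9) (kb xb17 yb6 zb3) (kb xb14 yb4 zb10) (kb xb15 yb22 zb14) (kb xb13 yb11 zb17) (kb xb13 yb12 zb13) (kb xb13 yb16 zb23) (kb xb19 yb5 zb20) (kb xb13 yb16 zb3) (kb xb19 yb6 zb17) (kb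 xb16 yb7 zb22) (kb xb17 yb6 zb31) (kb xb19 yb22 zb7) (kb xb16 yb20 zb37) (kb xb16 yb21 zb20) (kb xb13 yb11 zb39) (kb xb16 yb2 zb22) (kb xb16 yb0 zb38) (kb xb16 yb23 zb16) (kb xb18 yb17 zb10) (kb xb16 yb7 zb21) (kb xb13 yb12 zb4) (kb xb16 yb7 zb37) (kb xb17 yb6 zb21) (kb xb19 yb22 zb32) (kb xb16 yb20 zb12) (kb xb16 yb21 zb25) (kb xb13 yb12 zb18) (kb xb16 yb2 zb20) (kb xb16 yb0 zb20) (kb xb16 yb24 zb4) (kb xb18 yb22 zb16) (kb xb16 yb7 zb36) (kb xb13 yb12 zb23) (kb xb17 yb16 zb32) (kb xb19 yb4 zb13)) (@D3.rec (fun _ => Pt) (kb xb17 yb7 zb6) (kb xb18 yb1 zb26) (kb xb13 yb12 zb35) (kb xb15 yb15 zb25) (kb xb13 yb13 zb3) (kb xb15 yb3 zb7) (kb xb16 yb10 zb7) (kb xb16 yb25 zb8) (kb xb15 yb13 zb0) (kb xb15 yb16 zb15) (kb xb13 yb13 zb18) (kb xb16 yb13 zb31) (kb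 xb13 yb13 zb21) (kb xb15 yb2 zb23) (kb xb15 yb3 zb5) (kb xb13 yb24 zb3) (kb xb13 yb13 zb35) (kb xb13 yb13 zb36) (kb xb16 yb25 zb12) (kb xb20 yb0 zb5) (kb xb17 yb0 zb37) (kb xb17 yb3 zb35) (kb xb17 yb18 zb14) (kb xb19 yb5 zb32) (kb xb17 yb7 zb9) (kb xb18 yb2 zb37) (kb xb13 yb14 zb12) (kb xb13 yb14 zb20) (kb xb15 yb8 zb33) (kb xb16 yb12 zb17) (kb xb16 yb25 zb9) (kb xb15 yb11 zb4) (kb xb13 yb14 zb31) (kb xb16 yb15 zb27) (kb xb13 yb14 zb34) (kb xb15 yb8 zb13) (kb xb15 yb8 zb32) (kb xb13 yb25 zb12) (kb xb13 yb15 zb6) (kb xb13 yb15 zb7)) (@D3.rec (fun _ => Pt) (kb xb17 yb1 zb2) (kb xb20 yb0 zb15) (kb xb16 yb25 zb5) (kb xb17 yb4 zb5) (kb xb15 yb18 zb8) (kb xb15 yb18 zb6) (kb xb14 yb4 zb35) (kb xb13 yb15 zb18) (kb xb17 yb15 zb9) (kb xb14 yb5 zb16) (kb xb13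 yb15 zb27) (kb xb17 yb16 zb26) (kb xb20 yb0 zb21) (kb xb13 yb15 zb36) (kb xb17 yb23 zb3) (kb xb13 yb16 zb5) (kb xb15 yb1 zb14) (kb xb15 yb25 zb2) (kb xb14 yb5 zb27) (kb xb16 yb5 zb14) (kb xb16 yb21 zb28) (kb xb17 yb4 zb27) (kb xb20 yb0 zb22) (kb xb13 yb16 zb17) (kb xb17 yb23 zb5) (kb xb13 yb16 zb26) (kb xb15 yb7 zb6) (kb xb15 yb25 zb25) (kb xb14 yb6 zb20) (kb xb16 yb5 zb23) (kb xb16 yb21 zb32) (kb xb17 yb4 zb15) (kb xb16 yb9 zb19) (kb xb16 yb14 zb21) (kb xb16 yb11 zb31) (kb xb16 yb16 zb17) (kb xb19 yb8 zb26) (kb xb15 yb10 zb18) (kb xb13 yb17 zb0) (kb xb18 yb24 zb25)) (@D3.rec (fun _ => Pt) (kb xb16 yb1 zb31) (kb xb19 yb8 zb34) (kb xb15 yb12 zb15) (kb xb13 yb17 zb4) (kb xb19 yb1 zb0) (kb xb16 yb1 zb22) (kb xb17 yb5 zb0) (kb xb13 yb17 zb18) (kb xb19 yb8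 zb20) (kb xb17 yb5 zb24) (kb xb13 yb17 zb14) (kb xb19 yb8 zb21) (kb xb13 yb23 zb3) (kb xb20 yb0 zb32) (kb xb19 yb8 zb25) (kb xb13 yb17 zb23) (kb xb18 yb19 zb32) (kb xb13 yb17 zb16) (kb xb13 yb24 zb13) (kb xb20 yb0 zb35) (kb xb19 yb8 zb33) (kb xb13 yb17 zb29) (kb xb18 yb14 zb0) (kb xb13 yb17 zb20) (kb xb16 yb24 zb28) (kb xb18 yb23 zb37) (kb xb18 yb19 zb33) (kb xb13 yb17 zb24) (kb xb19 yb2 zb25) (kb xb20 yb1 zb0) (kb xb14 yb15 zb5) (kb xb13 yb17 zb26) (kb xb17 yb0 zb20) (kb xb19 yb0 zb11) (kb xb18 yb14 zb1) (kb xb13 yb17 zb30) (kb xb19 yb3 zb4) (kb xb20 yb1 zb4) (kb xb14 yb15 zb39) (kb xb13 yb17 zb32)) (@D3.rec (fun _ => Pt) (kb xb13 yb17 zb34) (kb xb14 yb11 zb33) (kb xb18 yb1 zb7) (kb xb20 yb0 zb27) (kb xb13 yb17 zb36) (kb xb18 yb2 zb16) (kb xb14 yb12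 zb5) (kb xb20 yb0 zb29) (kb xb17 yb8 zb14) (kb xb20 yb1 zb8) (kb xb13 yb17 zb39) (kb xb20 yb1 zb10) (kb xb18 yb17 zb25) (kb xb13 yb18 zb21) (kb xb17 yb8 zb8) (kb xb20 yb1 zb15) (kb xb13 yb18 zb3) (kb xb20 yb1 zb17) (kb xb18 yb22 zb26) (kb xb13 yb19 zb1) (kb xb17 yb16 zb34) (kb xb14 yb2 zb0) (kb xb20 yb1 zb24) (kb xb20 yb1 zb25) (kb xb13 yb18 zb7) (kb xb18 yb20 zb2) (kb xb17 yb8 zb34) (kb xb13 yb18 zb13) (kb xb18 yb19 zb5) (kb xb13 yb23 zb34) (kb xb13 yb23 zb21) (kb xb13 yb23 zb24) (kb xb13 yb18 zb15) (kb xb13 yb18 zb16) (kb xb17 yb8 zb26) (kb xb14 yb13 zb16) (kb xb13 yb18 zb18) (kb xb20 yb1 zb37) (kb xb18 yb19 zb3) (kb xb19 yb18 zb6)) (@D3.rec (fun _ => Pt) (kb xb20 yb1 zb38) (kb xb13 yb18 zb19) (kb xb20 yb2 zb0) (kb xb18 yb19 zb18) (kb xb13 yb18 zb22)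 (kb xb19 yb15 zb30) (kb xb20 yb2 zb3) (kb xb18 yb0 zb0) (kb xb13 yb18 zb24) (kb xb17 yb18 zb16) (kb xb20 yb2 zb7) (kb xb14 yb2 zb30) (kb xb13 yb18 zb26) (kb xb18 yb14 zb14) (kb xb20 yb2 zb11) (kb xb17 yb9 zb23) (kb xb13 yb18 zb33) (kb xb18 yb13 zb11) (kb xb13 yb25 zb3) (kb xb13 yb24 zb30) (kb xb13 yb24 zb33) (kb xb13 yb18 zb35) (kb xb13 yb18 zb36) (kb xb17 yb9 zb15) (kb xb14 yb13 zb26) (kb xb13 yb18 zb38) (kb xb18 yb13 zb9) (kb xb20 yb2 zb21) (kb xb19 yb16 zb28) (kb xb20 yb2 zb22) (kb xb13 yb18 zb39) (kb xb20 yb2 zb24) (kb xb18 yb13 zb26) (kb xb13 yb19 zb2) (kb xb19 yb16 zb27) (kb xb20 yb2 zb27) (kb xb18 yb0 zb11) (kb xb13 yb19 zb4) (kb xb13 yb25 zb21) (kb xb18 yb25 zb34)) (@D3.rec (fun _ => Pt) (kb xb13 yb19 zb7) (kb xb13 yb19 zb8) (kb xb20 yb0 zb28)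 (kb xb20 yb2 zb30) (kb xb20 yb2 zb32) (kb xb16 yb24 zb24) (kb xb13 yb19 zb11) (kb xb17 yb20 zb16) (kb xb15 yb3 zb6) (kb xb13 yb19 zb17) (kb xb20 yb2 zb33) (kb xb17 yb14 zb32) (kb xb18 yb12 zb39) (kb xb13 yb19 zb23) (kb xb20 yb2 zb34) (kb xb18 yb1 zb10) (kb xb20 yb2 zb35) (kb xb13 yb19 zb27) (kb xb18 yb9 zb22) (kb xb13 yb19 zb28) (kb xb20 yb3 zb1) (kb xb13 yb19 zb30) (kb xb20 yb3 zb5) (kb xb13 yb19 zb34) (kb xb17 yb14 zb5) (kb xb16 yb4 zb35) (kb xb20 yb3 zb3) (kb xb13 yb19 zb33) (kb xb19 yb22 zb24) (kb xb20 yb3 zb12) (kb xb19 yb8 zb11) (kb xb18 yb16 zb9) (kb xb13 yb19 zb38) (kb xb19 yb22 zb4) (kb xb19 yb1 zb32) (kb xb17 yb11 zb11) (kb xb14 yb5 zb10) (kb xb16 yb4 zb12) (kb xb19 yb11 zb5) (kb xb13 yb20 zb5)) (@D3.rec (fun _ => Pt) (kb xb13 yb20 zb8) (kb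 xb20 yb3 zb15) (kb xb13 yb21 zb23) (kb xb13 yb20 zb9) (kb xb15 yb4 zb11) (kb xb13 yb20 zb10) (kb xb19 yb5 zb22) (kb xb16 yb22 zb21) (kb xb14 yb2 zb31) (kb xb18 yb16 zb11) (kb xb13 yb20 zb18) (kb xb17 yb10 zb35) (kb xb14 yb0 zb32) (kb xb19 yb2 zb11) (kb xb13 yb20 zb22) (kb xb13 yb20 zb23) (kb xb20 yb0 zb30) (kb xb20 yb3 zb19) (kb xb20 yb3 zb21) (kb xb13 yb20 zb25) (kb xb17 yb21 zb2) (kb xb16 yb24 zb20) (kb xb15 yb8 zb30) (kb xb13 yb20 zb32) (kb xb20 yb3 zb22) (kb xb17 yb16 zb9) (kb xb18 yb18 zb33) (kb xb13 yb20 zb38) (kb xb20 yb3 zb23) (kb xb18 yb2 zb21) (kb xb20 yb3 zb24) (kb xb13 yb21 zb2) (kb xb18 yb6 zb2) (kb xb13 yb21 zb3) (kb xb20 yb3 zb30) (kb xb13 yb21 zb5) (kb xb20 yb3 zb34) (kb xb13 yb21 zb9) (kb xb17 yb15 zb24) (kb xb16 yb5 zb2)) (@D3.rec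 (fun _ => Pt) (kb xb20 yb3 zb32) (kb xb13 yb21 zb8) (kb xb19 yb21 zb38) (kb xb20 yb4 zb1) (kb xb19 yb8 zb19) (kb xb18 yb21 zb24) (kb xb13 yb21 zb13) (kb xb19 yb22 zb29) (kb xb18 yb25 zb15) (kb xb17 yb12 zb23) (kb xb14 yb4 zb29) (kb xb16 yb3 zb26) (kb xb19 yb11 zb1) (kb xb13 yb21 zb20) (kb xb20 yb4 zb3) (kb xb13 yb21 zb24) (kb xb15 yb9 zb36) (kb xb13 yb21 zb26) (kb xb19 yb4 zb1) (kb xb16 yb22 zb17) (kb xb14 yb2 zb2) (kb xb18 yb21 zb26) (kb xb13 yb21 zb33) (kb xb17 yb12 zb9) (kb xb20 yb4 zb5) (kb xb13 yb21 zb39) (kb xb20 yb4 zb8) (kb xb13 yb22 zb0) (kb xb20 yb4 zb10) (kb xb13 yb22 zb5) (kb xb20 yb4 zb11) (kb xb19 yb16 zb3) (kb xb13 yb22 zb4) (kb xb20 yb4 zb15) (kb xb13 yb22 zb6) (kb xb20 yb4 zb19) (kb xb13 yb22 zb9) (kb xb20 yb3 zb0) (kb xb20 yb4 zb17)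 (kb xb17 yb13 zb3)) (@D3.rec (fun _ => Pt) (kb xb19 yb5 zb38) (kb xb15 yb13 zb4) (kb xb13 yb22 zb10) (kb xb17 yb12 zb39) (kb xb20 yb2 zb39) (kb xb18 yb12 zb19) (kb xb20 yb4 zb27) (kb xb13 yb22 zb15) (kb xb20 yb4 zb30) (kb xb20 yb4 zb31) (kb xb13 yb22 zb21) (kb xb20 yb4 zb34) (kb xb13 yb22 zb22) (kb xb20 yb4 zb36) (kb xb13 yb22 zb27) (kb xb20 yb4 zb37) (kb xb13 yb22 zb25) (kb xb19 yb14 zb21) (kb xb20 yb5 zb1) (kb xb13 yb22 zb28) (kb xb20 yb5 zb5) (kb xb13 yb22 zb31) (kb xb20 yb3 zb29) (kb xb20 yb5 zb3) (kb xb17 yb13 zb28) (kb xb19 yb4 zb19) (kb xb15 yb11 zb7) (kb xb13 yb22 zb32) (kb xb17 yb13 zb24) (kb xb20 yb3 zb28) (kb xb18 yb9 zb5) (kb xb20 yb5 zb13) (kb xb13 yb22 zb37) (kb xb20 yb5 zb16) (kb xb18 yb12 zb34) (kb xb20 yb5 zb17) (kb xb13 yb23 zb5) (kb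 xb18 yb21 zb20) (kb xb16 yb12 zb20) (kb xb13 yb23 zb4)) (@D3.rec (fun _ => Pt) (kb xb19 yb16 zb20) (kb xb20 yb5 zb20) (kb xb13 yb23 zb6) (kb xb20 yb5 zb22) (kb xb13 yb23 zb10) (kb xb17 yb10 zb24) (kb xb19 yb12 zb24) (kb xb16 yb0 zb35) (kb xb13 yb23 zb9) (kb xb16 yb16 zb9) (kb xb18 yb24 zb17) (kb xb16 yb0 zb17) (kb xb17 yb1 zb24) (kb xb20 yb5 zb29) (kb xb13 yb23 zb16) (kb xb19 yb13 zb37) (kb xb14 yb20 zb2) (kb xb17 yb17 zb17) (kb xb13 yb23 zb19) (kb xb14 yb15 zb0) (kb xb20 yb5 zb35) (kb xb13 yb23 zb26) (kb xb20 yb1 zb31) (kb xb13 yb23 zb22) (kb xb17 yb0 zb6) (kb xb20 yb6 zb2) (kb xb13 yb23 zb30) (kb xb14 yb20 zb28) (kb xb20 yb6 zb3) (kb xb13 yb23 zb25) (kb xb20 yb6 zb5) (kb xb20 yb5 zb38) (kb xb17 yb10 zb11) (kb xb19 yb16 zb30) (kb xb20 yb6 zb10) (kb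 xb17 yb18 zb9) (kb xb13 yb23 zb29) (kb xb14 yb19 zb39) (kb xb19 yb24 zb12) (kb xb20 yb4 zb29)) (@D3.rec (fun _ => Pt) (kb xb14 yb20 zb30) (kb xb13 yb23 zb31) (kb xb14 yb12 zb18) (kb xb19 yb18 zb23) (kb xb16 yb10 zb15) (kb xb13 yb23 zb33) (kb xb20 yb0 zb4) (kb xb17 yb24 zb13) (kb xb20 yb6 zb15) (kb xb17 yb6 zb8) (kb xb20 yb0 zb19) (kb xb18 yb21 zb28) (kb xb13 yb24 zb5) (kb xb18 yb18 zb36) (kb xb20 yb6 zb16) (kb xb13 yb24 zb14) (kb xb18 yb16 zb5) (kb xb13 yb24 zb12) (kb xb19 yb15 zb13) (kb xb16 yb10 zb11) (kb xb20 yb6 zb19) (kb xb13 yb24 zb15) (kb xb20 yb6 zb21) (kb xb13 yb24 zb19) (kb xb17 yb11 zb38) (kb xb19 yb12 zb35) (kb xb13 yb24 zb18) (kb xb16 yb14 zb13) (kb xb19 yb0 zb32) (kb xb16 yb25 zb35) (kb xb20 yb6 zb26) (kb xb13 yb24 zb25) (kb xb19 yb13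 zb17) (kb xb14 yb22 zb26) (kb xb17 yb18 zb37) (kb xb13 yb24 zb28) (kb xb14 yb15 zb34) (kb xb20 yb6 zb32) (kb xb13 yb24 zb35) (kb xb20 yb2 zb15)) (@D3.rec (fun _ => Pt) (kb xb13 yb24 zb31) (kb xb17 yb1 zb33) (kb xb20 yb6 zb39) (kb xb13 yb24 zb39) (kb xb14 yb23 zb12) (kb xb20 yb7 zb0) (kb xb13 yb24 zb34) (kb xb20 yb7 zb2) (kb xb20 yb6 zb35) (kb xb17 yb11 zb25) (kb xb19 yb18 zb8) (kb xb20 yb7 zb5) (kb xb17 yb19 zb27) (kb xb13 yb24 zb38) (kb xb14 yb22 zb23) (kb xb19 yb23 zb19) (kb xb20 yb5 zb15) (kb xb14 yb23 zb14) (kb xb13 yb25 zb0) (kb xb14 yb12 zb23) (kb xb19 yb17 zb5) (kb xb16 yb12 zb24) (kb xb13 yb25 zb2) (kb xb20 yb0 zb14) (kb xb17 yb24 zb7) (kb xb20 yb7 zb10) (kb xb17 yb6 zb11) (kb xb20 yb0 zb20) (kb xb18 yb16 zb13) (kb xb13 yb25 zb14) (kb xb13 yb25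 zb17) (kb xb20 yb7 zb12) (kb xb17 yb4 zb38) (kb xb20 yb7 zb13) (kb xb17 yb8 zb20) (kb xb20 yb7 zb14) (kb xb13 yb25 zb23) (kb xb13 yb25 zb25) (kb xb20 yb7 zb19) (kb xb20 yb7 zb16)) (@D3.rec (fun _ => Pt) (kb xb13 yb25 zb28) (kb xb20 yb7 zb22) (kb xb13 yb25 zb30) (kb xb20 yb7 zb25) (kb xb20 yb7 zb26) (kb xb13 yb25 zb32) (kb xb20 yb7 zb29) (kb xb13 yb25 zb33) (kb xb19 yb2 zb26) (kb xb20 yb7 zb34) (kb xb13 yb25 zb35) (kb xb13 yb25 zb36) (kb xb13 yb25 zb37) (kb xb16 yb13 zb37) (kb xb20 yb7 zb31) (kb xb17 yb0 zb24) (kb xb20 yb7 zb37) (kb xb17 yb14 zb17) (kb xb15 yb4 zb12) (kb xb17 yb19 zb37) (kb xb16 yb18 zb39) (kb xb19 yb5 zb31) (kb xb16 yb19 zb1) (kb xb20 yb8 zb3) (kb xb19 yb14 zb20) (kb xb14 yb0 zb8) (kb xb18 yb10 zb0) (kb xb20 yb8 zb5) (kb xb18 yb25 zb0)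 (kb xb17 yb25 zb37) (kb xb14 yb0 zb10) (kb xb20 yb8 zb8) (kb xb14 yb0 zb11) (kb xb14 yb0 zb12) (kb xb16 yb17 zb16) (kb xb20 yb8 zb12) (kb xb19 yb22 zb38) (kb xb18 yb10 zb5) (kb xb14 yb0 zb16) (kb xb19 yb23 zb20)) (@D3.rec (fun _ => Pt) (kb xb20 yb6 zb13) (kb xb19 yb13 zb8) (kb xb14 yb0 zb18) (kb xb19 yb13 zb28) (kb xb18 yb10 zb4) (kb xb18 yb10 zb2) (kb xb14 yb0 zb22) (kb xb16 yb9 zb22) (kb xb20 yb8 zb21) (kb xb17 yb14 zb35) (kb xb16 yb21 zb35) (kb xb16 yb2 zb4) (kb xb14 yb0 zb28) (kb xb20 yb8 zb27) (kb xb17 yb5 zb22) (kb xb20 yb8 zb28) (kb xb17 yb9 zb9) (kb xb20 yb8 zb29) (kb xb14 yb0 zb33) (kb xb14 yb0 zb35) (kb xb20 yb8 zb32) (kb xb20 yb7 zb15) (kb xb14 yb0 zb38) (kb xb20 yb8 zb35) (kb xb14 yb1 zb1) (kb xb20 yb8 zb38) (kb xb20 yb8 zb39) (kb xb14 yb1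 zb3) (kb xb20 yb9 zb2) (kb xb19 yb3 zb3) (kb xb20 yb9 zb4) (kb xb14 yb1 zb5) (kb xb14 yb1 zb6) (kb xb14 yb1 zb7) (kb xb14 yb1 zb8) (kb xb16 yb24 zb32) (kb xb20 yb9 zb7) (kb xb17 yb15 zb34) (kb xb16 yb15 zb33) (kb xb20 yb9 zb10)) (@D3.rec (fun _ => Pt) (kb xb15 yb9 zb37) (kb xb16 yb19 zb17) (kb xb17 yb20 zb25) (kb xb19 yb4 zb11) (kb xb16 yb19 zb19) (kb xb20 yb9 zb16) (kb xb19 yb14 zb6) (kb xb14 yb1 zb19) (kb xb18 yb6 zb21) (kb xb20 yb9 zb18) (kb xb19 yb1 zb14) (kb xb18 yb0 zb8) (kb xb14 yb1 zb21) (kb xb20 yb9 zb21) (kb xb14 yb1 zb22) (kb xb14 yb1 zb23) (kb xb20 yb9 zb25) (kb xb16 yb15 zb21) (kb xb19 yb23 zb35) (kb xb18 yb6 zb26) (kb xb20 yb7 zb8) (kb xb19 yb24 zb13) (kb xb18 yb6 zb25) (kb xb18 yb6 zb23) (kb xb14 yb1 zb31) (kb xb16 yb11 zb33) (kb xb20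 yb9 zb30) (kb xb17 yb16 zb12) (kb xb16 yb21 zb31) (kb xb16 yb1 zb38) (kb xb20 yb9 zb35) (kb xb20 yb9 zb36) (kb xb14 yb2 zb1) (kb xb20 yb1 zb21) (kb xb18 yb12 zb35) (kb xb20 yb9 zb37) (kb xb17 yb20 zb13) (kb xb17 yb17 zb19) (kb xb20 yb10 zb0) (kb xb18 yb9 zb20)) (@D3.rec (fun _ => Pt) (kb xb14 yb2 zb9) (kb xb20 yb10 zb3) (kb xb14 yb2 zb11) (kb xb20 yb10 zb4) (kb xb18 yb10 zb16) (kb xb14 yb2 zb12) (kb xb20 yb10 zb7) (kb xb14 yb2 zb14) (kb xb18 yb23 zb28) (kb xb20 yb10 zb9) (kb xb14 yb2 zb16) (kb xb14 yb2 zb18) (kb xb19 yb16 zb37) (kb xb17 yb19 zb36) (kb xb16 yb24 zb39) (kb xb20 yb10 zb11) (kb xb17 yb10 zb7) (kb xb15 yb0 zb31) (kb xb20 yb10 zb15) (kb xb20 yb10 zb16) (kb xb14 yb2 zb29) (kb xb18 yb18 zb29) (kb xb20 yb10 zb17) (kb xb17 yb21 zb4) (kb xb20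 yb2 zb6) (kb xb17 yb19 zb2) (kb xb20 yb10 zb20) (kb xb14 yb2 zb37) (kb xb20 yb10 zb23) (kb xb18 yb5 zb39) (kb xb14 yb3 zb1) (kb xb20 yb10 zb24) (kb xb14 yb3 zb0) (kb xb20 yb10 zb27) (kb xb18 yb6 zb37) (kb xb19 yb0 zb2) (kb xb20 yb10 zb28) (kb xb14 yb3 zb3) (kb xb14 yb3 zb5) (kb xb14 yb3 zb6)) (@D3.rec (fun _ => Pt) (kb xb17 yb0 zb31) (kb xb20 yb10 zb30) (kb xb17 yb11 zb20) (kb xb19 yb18 zb15) (kb xb17 yb20 zb23) (kb xb15 yb6 zb25) (kb xb17 yb21 zb22) (kb xb17 yb21 zb30) (kb xb14 yb3 zb23) (kb xb15 yb20 zb20) (kb xb14 yb4 zb2) (kb xb15 yb23 zb7) (kb xb20 yb10 zb35) (kb xb18 yb20 zb17) (kb xb14 yb4 zb23) (kb xb18 yb24 zb18) (kb xb20 yb10 zb36) (kb xb18 yb14 zb29) (kb xb14 yb5 zb4) (kb xb19 yb0 zb30) (kb xb16 yb10 zb34) (kb xb16 yb4 zb5) (kb xb17 yb21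 zb6) (kb xb16 yb9 zb38) (kb xb19 yb15 zb32) (kb xb16 yb3 zb19) (kb xb14 yb6 zb8) (kb xb19 yb9 zb0) (kb xb16 yb21 zb39) (kb xb16 yb13 zb0) (kb xb17 yb21 zb7) (kb xb16 yb12 zb7) (kb xb19 yb14 zb2) (kb xb14 yb6 zb39) (kb xb19 yb9 zb7) (kb xb16 yb21 zb37) (kb xb16 yb13 zb8) (kb xb14 yb7 zb10) (kb xb14 yb7 zb13) (kb xb20 yb11 zb0)) (@D3.rec (fun _ => Pt) (kb xb16 yb7 zb39) (kb xb15 yb25 zb18) (kb xb18 yb10 zb22) (kb xb15 yb22 zb35) (kb xb14 yb7 zb28) (kb xb16 yb16 zb27) (kb xb20 yb11 zb5) (kb xb19 yb5 zb37) (kb xb16 yb24 zb5) (kb xb14 yb8 zb17) (kb xb16 yb11 zb3) (kb xb14 yb8 zb2) (kb xb14 yb8 zb5) (kb xb20 yb11 zb11) (kb xb16 yb7 zb24) (kb xb15 yb25 zb35) (kb xb18 yb7 zb4) (kb xb15 yb20 zb5) (kb xb16 yb14 zb31) (kb xb20 yb11 zb9) (kb xb19 yb4 zb18) (kb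 xb16 yb23 zb17) (kb xb17 yb22 zb33) (kb xb19 yb9 zb14) (kb xb19 yb8 zb7) (kb xb14 yb8 zb37) (kb xb14 yb10 zb15) (kb xb14 yb9 zb7) (kb xb14 yb9 zb14) (kb xb19 yb20 zb32) (kb xb14 yb9 zb13) (kb xb19 yb20 zb34) (kb xb14 yb9 zb26) (kb xb17 yb22 zb22) (kb xb19 yb9 zb17) (kb xb19 yb8 zb15) (kb xb14 yb10 zb5) (kb xb14 yb10 zb22) (kb xb19 yb20 zb28) (kb xb14 yb10 zb20)) (@D3.rec (fun _ => Pt) (kb xb19 yb20 zb30) (kb xb14 yb10 zb34) (kb xb14 yb11 zb6) (kb xb17 yb6 zb14) (kb xb14 yb11 zb9) (kb xb17 yb6 zb24) (kb xb19 yb6 zb22) (kb xb20 yb11 zb21) (kb xb14 yb11 zb18) (kb xb14 yb11 zb21) (kb xb19 yb7 zb2) (kb xb20 yb11 zb23) (kb xb15 yb6 zb18) (kb xb14 yb11 zb25) (kb xb15 yb0 zb24) (kb xb14 yb11 zb29) (kb xb18 yb20 zb0) (kb xb14 yb11 zb35) (kb xb17 yb25 zb6) (kb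 xb14 yb11 zb36) (kb xb18 yb17 zb11) (kb xb20 yb11 zb25) (kb xb14 yb11 zb38) (kb xb20 yb5 zb11) (kb xb14 yb12 zb0) (kb xb17 yb24 zb39) (kb xb20 yb11 zb29) (kb xb14 yb12 zb1) (kb xb18 yb6 zb18) (kb xb14 yb19 zb15) (kb xb20 yb11 zb33) (kb xb18 yb14 zb11) (kb xb14 yb12 zb7) (kb xb17 yb25 zb17) (kb xb14 yb12 zb8) (kb xb18 yb22 zb15) (kb xb20 yb11 zb34) (kb xb14 yb12 zb10) (kb xb20 yb4 zb25) (kb xb14 yb12 zb12)) (@D3.rec (fun _ => Pt) (kb xb17 yb25 zb10) (kb xb20 yb11 zb38) (kb xb14 yb12 zb13) (kb xb18 yb9 zb37) (kb xb14 yb22 zb0) (kb xb20 yb12 zb2) (kb xb14 yb13 zb24) (kb xb17 yb16 zb24) (kb xb14 yb12 zb19) (kb xb20 yb12 zb3) (kb xb20 yb12 zb7) (kb xb18 yb24 zb15) (kb xb14 yb13 zb14) (kb xb17 yb15 zb7) (kb xb14 yb12 zb24) (kb xb20 yb12 zb8) (kb xb20 yb12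 zb12) (kb xb19 yb0 zb29) (kb xb14 yb12 zb37) (kb xb17 yb24 zb19) (kb xb14 yb12 zb36) (kb xb17 yb24 zb21) (kb xb20 yb8 zb13) (kb xb18 yb24 zb19) (kb xb20 yb8 zb18) (kb xb19 yb0 zb33) (kb xb16 yb22 zb2) (kb xb14 yb12 zb39) (kb xb18 yb19 zb31) (kb xb14 yb13 zb1) (kb xb19 yb14 zb1) (kb xb16 yb22 zb4) (kb xb14 yb13 zb4) (kb xb18 yb13 zb39) (kb xb14 yb13 zb6) (kb xb19 yb13 zb21) (kb xb20 yb12 zb21) (kb xb14 yb13 zb9) (kb xb20 yb10 zb1) (kb xb17 yb23 zb25)) (@D3.rec (fun _ => Pt) (kb xb14 yb13 zb11) (kb xb14 yb13 zb12) (kb xb20 yb12 zb27) (kb xb19 yb5 zb4) (kb xb20 yb1 zb35) (kb xb14 yb13 zb15) (kb xb17 yb23 zb18) (kb xb20 yb12 zb32) (kb xb14 yb13 zb19) (kb xb20 yb10 zb21) (kb xb17 yb24 zb0) (kb xb14 yb13 zb21) (kb xb14 yb13 zb22) (kb xb20 yb12 zb38) (kb xb19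 yb4 zb34) (kb xb20 yb2 zb19) (kb xb14 yb13 zb25) (kb xb17 yb23 zb33) (kb xb14 yb13 zb28) (kb xb19 yb5 zb14) (kb xb14 yb13 zb31) (kb xb14 yb13 zb32) (kb xb16 yb16 zb14) (kb xb14 yb13 zb37) (kb xb20 yb13 zb6) (kb xb14 yb14 zb0) (kb xb19 yb4 zb39) (kb xb14 yb14 zb3) (kb xb14 yb14 zb4) (kb xb16 yb14 zb18) (kb xb14 yb14 zb9) (kb xb20 yb13 zb11) (kb xb17 yb25 zb34) (kb xb20 yb12 zb15) (kb xb17 yb25 zb32) (kb xb20 yb12 zb13) (kb xb16 yb9 zb21) (kb xb17 yb17 zb29) (kb xb14 yb14 zb16) (kb xb15 yb11 zb10))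
def f_b_18 : D2 → D3 → Pt := @D2.rec (fun _ => D3 → Pt) (@D3.rec (fun _ => Pt) (kb xb17 yb9 zb7) (kb xb14 yb14 zb18) (kb xb20 yb12 zb19) (kb xb16 yb5 zb34) (kb xb20 yb13 zb19) (kb xb14 yb14 zb19) (kb xb20 yb13 zb22) (kb xb16 yb11 zb32) (kb xb17 yb19 zb11) (kb xb14 yb14 zb23) (kb xb15 yb13 zb7) (kb xb17 yb9 zb36) (kb xb14 yb14 zb25) (kb xb16 yb6 zb1) (kb xb20 yb12 zb20) (kb xb20 yb13 zb27) (kb xb14 yb14 zb26) (kb xb20 yb13 zb30) (kb xb14 yb14 zb28) (kb xb18 yb23 zb38) (kb xb18 yb0 zb25) (kb xb14 yb14 zb30) (kb xb20 yb13 zb35) (kb xb14 yb14 zb33) (kb xb20 yb13 zb38) (kb xb18 yb0 zb20) (kb xb14 yb14 zb38) (kb xb18 yb1 zb28) (kb xb14 yb15 zb8) (kb xb19 yb25 zb37) (kb xb14 yb14 zb39) (kb xb20 yb8 zb23) (kb xb20 yb14 zb2) (kb xb20 yb5 zb34) (kb xb14 yb15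 zb1) (kb xb20 yb14 zb5) (kb xb18 yb1 zb11) (kb xb20 yb13 zb25) (kb xb20 yb4 zb35) (kb xb20 yb14 zb7)) (@D3.rec (fun _ => Pt) (kb xb14 yb15 zb4) (kb xb20 yb7 zb23) (kb xb14 yb15 zb9) (kb xb20 yb3 zb9) (kb xb20 yb8 zb33) (kb xb14 yb15 zb7) (kb xb20 yb4 zb23) (kb xb17 yb8 zb2) (kb xb20 yb14 zb12) (kb xb14 yb15 zb10) (kb xb17 yb10 zb15) (kb xb18 yb0 zb36) (kb xb14 yb15 zb13) (kb xb20 yb14 zb17) (kb xb20 yb14 zb0) (kb xb20 yb14 zb19) (kb xb14 yb15 zb14) (kb xb20 yb14 zb21) (kb xb14 yb15 zb15) (kb xb20 yb14 zb25) (kb xb20 yb14 zb26) (kb xb18 yb4 zb19) (kb xb20 yb14 zb28) (kb xb14 yb15 zb17) (kb xb14 yb15 zb18) (kb xb14 yb15 zb19) (kb xb17 yb5 zb1) (kb xb14 yb15 zb21) (kb xb18 yb0 zb27) (kb xb19 yb0 zb12) (kb xb18 yb1 zb36) (kb xb14 yb15 zb23) (kb xb14 yb15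 zb24) (kb xb20 yb14 zb11) (kb xb14 yb15 zb27) (kb xb20 yb15 zb3) (kb xb18 yb1 zb30) (kb xb14 yb15 zb32) (kb xb14 yb16 zb1) (kb xb18 yb2 zb39)) (@D3.rec (fun _ => Pt) (kb xb19 yb25 zb33) (kb xb14 yb15 zb33) (kb xb20 yb9 zb32) (kb xb20 yb15 zb7) (kb xb20 yb6 zb31) (kb xb14 yb15 zb35) (kb xb20 yb15 zb10) (kb xb18 yb2 zb22) (kb xb20 yb13 zb17) (kb xb20 yb15 zb12) (kb xb20 yb4 zb9) (kb xb14 yb15 zb38) (kb xb20 yb8 zb36) (kb xb14 yb16 zb3) (kb xb20 yb7 zb20) (kb xb20 yb3 zb38) (kb xb17 yb8 zb5) (kb xb14 yb16 zb2) (kb xb20 yb5 zb9) (kb xb20 yb15 zb16) (kb xb14 yb16 zb4) (kb xb17 yb11 zb29) (kb xb18 yb2 zb7) (kb xb14 yb16 zb7) (kb xb20 yb15 zb4) (kb xb20 yb15 zb22) (kb xb20 yb15 zb23) (kb xb14 yb16 zb8) (kb xb20 yb15 zb25) (kb xb14 yb16 zb9) (kb xb20 yb15 zb29)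 (kb xb20 yb15 zb30) (kb xb18 yb3 zb4) (kb xb20 yb15 zb32) (kb xb14 yb16 zb11) (kb xb14 yb16 zb12) (kb xb14 yb16 zb13) (kb xb17 yb5 zb25) (kb xb14 yb16 zb15) (kb xb18 yb1 zb39)) (@D3.rec (fun _ => Pt) (kb xb14 yb19 zb33) (kb xb14 yb16 zb21) (kb xb20 yb16 zb4) (kb xb16 yb15 zb11) (kb xb18 yb2 zb32) (kb xb14 yb16 zb22) (kb xb16 yb15 zb20) (kb xb17 yb3 zb5) (kb xb18 yb5 zb7) (kb xb20 yb16 zb8) (kb xb14 yb16 zb25) (kb xb20 yb16 zb10) (kb xb14 yb16 zb32) (kb xb18 yb3 zb38) (kb xb14 yb17 zb6) (kb xb14 yb16 zb31) (kb xb20 yb16 zb15) (kb xb14 yb16 zb34) (kb xb20 yb16 zb17) (kb xb19 yb3 zb7) (kb xb20 yb16 zb18) (kb xb14 yb16 zb36) (kb xb14 yb16 zb37) (kb xb18 yb25 zb20) (kb xb18 yb4 zb7) (kb xb17 yb1 zb20) (kb xb14 yb17 zb3) (kb xb19 yb6 zb20) (kb xb16 yb17 zb35)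 (kb xb20 yb16 zb24) (kb xb14 yb17 zb5) (kb xb18 yb4 zb23) (kb xb20 yb16 zb16) (kb xb20 yb16 zb26) (kb xb14 yb17 zb10) (kb xb14 yb17 zb11) (kb xb15 yb23 zb12) (kb xb14 yb17 zb24) (kb xb18 yb3 zb13) (kb xb19 yb23 zb9)) (@D3.rec (fun _ => Pt) (kb xb20 yb16 zb31) (kb xb14 yb17 zb16) (kb xb20 yb16 zb35) (kb xb14 yb17 zb18) (kb xb20 yb16 zb39) (kb xb20 yb17 zb0) (kb xb14 yb17 zb23) (kb xb18 yb3 zb24) (kb xb14 yb17 zb20) (kb xb20 yb16 zb37) (kb xb20 yb16 zb28) (kb xb14 yb17 zb22) (kb xb20 yb17 zb1) (kb xb20 yb17 zb6) (kb xb14 yb17 zb27) (kb xb18 yb23 zb23) (kb xb14 yb22 zb17) (kb xb14 yb17 zb34) (kb xb16 yb17 zb8) (kb xb18 yb1 zb21) (kb xb14 yb17 zb35) (kb xb16 yb17 zb17) (kb xb17 yb3 zb21) (kb xb18 yb3 zb31) (kb xb20 yb17 zb10) (kb xb14 yb17 zb38) (kb xb20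 yb17 zb12) (kb xb14 yb18 zb5) (kb xb14 yb18 zb18) (kb xb18 yb5 zb13) (kb xb14 yb18 zb4) (kb xb20 yb17 zb17) (kb xb14 yb18 zb7) (kb xb20 yb17 zb19) (kb xb19 yb2 zb30) (kb xb20 yb17 zb20) (kb xb14 yb18 zb9) (kb xb14 yb18 zb10) (kb xb19 yb1 zb34) (kb xb18 yb5 zb22)) (@D3.rec (fun _ => Pt) (kb xb16 yb25 zb32) (kb xb14 yb18 zb16) (kb xb16 yb18 zb22) (kb xb19 yb7 zb0) (kb xb20 yb17 zb26) (kb xb14 yb18 zb19) (kb xb20 yb17 zb18) (kb xb18 yb3 zb8) (kb xb20 yb17 zb28) (kb xb14 yb18 zb23) (kb xb14 yb18 zb24) (kb xb15 yb24 zb7) (kb xb14 yb18 zb37) (kb xb18 yb4 zb29) (kb xb19 yb23 zb16) (kb xb20 yb17 zb33) (kb xb14 yb18 zb29) (kb xb20 yb17 zb37) (kb xb14 yb18 zb31) (kb xb20 yb18 zb1) (kb xb20 yb18 zb2) (kb xb14 yb18 zb36) (kb xb18 yb4 zb39) (kb xb14 yb18 zb33) (kb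 xb20 yb17 zb39) (kb xb20 yb17 zb30) (kb xb14 yb18 zb35) (kb xb20 yb18 zb6) (kb xb14 yb19 zb0) (kb xb18 yb18 zb23) (kb xb16 yb8 zb22) (kb xb14 yb19 zb3) (kb xb20 yb18 zb7) (kb xb20 yb18 zb9) (kb xb19 yb13 zb7) (kb xb20 yb7 zb9) (kb xb14 yb19 zb5) (kb xb14 yb21 zb25) (kb xb14 yb19 zb12) (kb xb17 yb20 zb29)) (@D3.rec (fun _ => Pt) (kb xb19 yb13 zb3) (kb xb20 yb18 zb11) (kb xb17 yb11 zb32) (kb xb14 yb19 zb11) (kb xb20 yb18 zb16) (kb xb20 yb18 zb21) (kb xb20 yb18 zb22) (kb xb14 yb19 zb18) (kb xb20 yb18 zb26) (kb xb14 yb19 zb14) (kb xb18 yb7 zb32) (kb xb14 yb24 zb8) (kb xb14 yb19 zb17) (kb xb20 yb18 zb28) (kb xb20 yb2 zb28) (kb xb20 yb18 zb30) (kb xb14 yb19 zb19) (kb xb18 yb25 zb2) (kb xb17 yb23 zb28) (kb xb18 yb6 zb19) (kb xb14 yb19 zb29) (kb xb17 yb19 zb8)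 (kb xb14 yb19 zb31) (kb xb17 yb19 zb23) (kb xb20 yb18 zb34) (kb xb17 yb19 zb22) (kb xb17 yb19 zb19) (kb xb20 yb8 zb22) (kb xb14 yb19 zb34) (kb xb15 yb22 zb6) (kb xb20 yb18 zb36) (kb xb15 yb9 zb14) (kb xb20 yb19 zb0) (kb xb14 yb19 zb36) (kb xb14 yb19 zb38) (kb xb20 yb19 zb2) (kb xb20 yb8 zb15) (kb xb17 yb20 zb34) (kb xb14 yb20 zb27) (kb xb19 yb23 zb14)) (@D3.rec (fun _ => Pt) (kb xb17 yb0 zb10) (kb xb20 yb19 zb5) (kb xb14 yb20 zb5) (kb xb20 yb19 zb12) (kb xb17 yb22 zb16) (kb xb20 yb19 zb13) (kb xb20 yb19 zb9) (kb xb20 yb5 zb36) (kb xb18 yb24 zb22) (kb xb14 yb20 zb6) (kb xb18 yb11 zb34) (kb xb20 yb19 zb17) (kb xb18 yb15 zb25) (kb xb14 yb20 zb12) (kb xb18 yb8 zb19) (kb xb14 yb20 zb39) (kb xb14 yb20 zb14) (kb xb14 yb21 zb12) (kb xb14 yb22 zb38) (kb xb20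 yb19 zb24) (kb xb14 yb20 zb15) (kb xb14 yb20 zb16) (kb xb20 yb19 zb27) (kb xb18 yb8 zb39) (kb xb14 yb20 zb18) (kb xb20 yb19 zb32) (kb xb14 yb20 zb21) (kb xb14 yb20 zb20) (kb xb19 yb23 zb12) (kb xb20 yb19 zb34) (kb xb14 yb20 zb22) (kb xb14 yb20 zb24) (kb xb18 yb6 zb10) (kb xb18 yb25 zb9) (kb xb14 yb20 zb25) (kb xb20 yb1 zb30) (kb xb20 yb5 zb39) (kb xb20 yb19 zb37) (kb xb19 yb13 zb31) (kb xb14 yb20 zb33)) (@D3.rec (fun _ => Pt) (kb xb20 yb20 zb0) (kb xb20 yb19 zb39) (kb xb18 yb11 zb19) (kb xb18 yb11 zb20) (kb xb17 yb2 zb27) (kb xb18 yb17 zb35) (kb xb20 yb20 zb7) (kb xb18 yb21 zb11) (kb xb20 yb20 zb9) (kb xb20 yb19 zb20) (kb xb14 yb20 zb38) (kb xb20 yb20 zb12) (kb xb20 yb20 zb13) (kb xb19 yb13 zb32) (kb xb14 yb21 zb1) (kb xb14 yb21 zb2) (kb xb14 yb21 zb3)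 (kb xb18 yb10 zb29) (kb xb14 yb21 zb20) (kb xb18 yb7 zb14) (kb xb20 yb20 zb22) (kb xb20 yb20 zb25) (kb xb14 yb21 zb8) (kb xb20 yb12 zb1) (kb xb20 yb20 zb28) (kb xb20 yb20 zb26) (kb xb14 yb21 zb9) (kb xb20 yb20 zb30) (kb xb18 yb8 zb28) (kb xb14 yb21 zb13) (kb xb20 yb20 zb36) (kb xb20 yb19 zb21) (kb xb14 yb21 zb11) (kb xb20 yb20 zb39) (kb xb20 yb21 zb1) (kb xb14 yb21 zb14) (kb xb20 yb21 zb4) (kb xb19 yb24 zb31) (kb xb14 yb21 zb19) (kb xb18 yb7 zb23)) (@D3.rec (fun _ => Pt) (kb xb14 yb21 zb16) (kb xb20 yb20 zb31) (kb xb20 yb20 zb19) (kb xb14 yb21 zb18) (kb xb20 yb21 zb7) (kb xb17 yb13 zb30) (kb xb14 yb21 zb23) (kb xb20 yb21 zb12) (kb xb14 yb21 zb26) (kb xb20 yb21 zb15) (kb xb14 yb21 zb27) (kb xb14 yb21 zb28) (kb xb20 yb21 zb18) (kb xb20 yb21 zb20) (kb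 xb19 yb13 zb27) (kb xb20 yb6 zb14) (kb xb14 yb21 zb30) (kb xb16 yb9 zb7) (kb xb19 yb13 zb23) (kb xb14 yb21 zb37) (kb xb17 yb19 zb39) (kb xb20 yb21 zb22) (kb xb17 yb10 zb18) (kb xb14 yb21 zb36) (kb xb20 yb21 zb26) (kb xb20 yb21 zb31) (kb xb20 yb21 zb32) (kb xb14 yb22 zb2) (kb xb20 yb21 zb16) (kb xb14 yb21 zb39) (kb xb18 yb11 zb9) (kb xb14 yb22 zb1) (kb xb20 yb21 zb37) (kb xb20 yb2 zb4) (kb xb20 yb21 zb39) (kb xb14 yb22 zb3) (kb xb19 yb1 zb15) (kb xb17 yb24 zb3) (kb xb18 yb9 zb38) (kb xb14 yb22 zb13)) (@D3.rec (fun _ => Pt) (kb xb17 yb17 zb26) (kb xb14 yb22 zb15) (kb xb17 yb18 zb5) (kb xb20 yb22 zb1) (kb xb17 yb18 zb4) (kb xb17 yb17 zb37) (kb xb20 yb9 zb31) (kb xb14 yb22 zb18) (kb xb15 yb18 zb26) (kb xb20 yb19 zb22) (kb xb15 yb3 zb28) (kb xb20 yb22 zb6)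 (kb xb14 yb22 zb20) (kb xb14 yb22 zb22) (kb xb20 yb22 zb8) (kb xb20 yb8 zb19) (kb xb17 yb20 zb4) (kb xb14 yb23 zb11) (kb xb19 yb24 zb9) (kb xb17 yb1 zb38) (kb xb20 yb22 zb11) (kb xb14 yb22 zb29) (kb xb17 yb22 zb2) (kb xb20 yb22 zb18) (kb xb20 yb22 zb19) (kb xb20 yb22 zb15) (kb xb19 yb0 zb37) (kb xb20 yb6 zb33) (kb xb14 yb22 zb31) (kb xb18 yb8 zb17) (kb xb20 yb20 zb17) (kb xb18 yb21 zb4) (kb xb14 yb22 zb36) (kb xb14 yb23 zb22) (kb xb18 yb11 zb36) (kb xb14 yb23 zb35) (kb xb20 yb20 zb35) (kb xb14 yb22 zb39) (kb xb14 yb23 zb0) (kb xb20 yb22 zb27)) (@D3.rec (fun _ => Pt) (kb xb18 yb12 zb13) (kb xb14 yb23 zb2) (kb xb20 yb22 zb30) (kb xb14 yb23 zb5) (kb xb14 yb23 zb4) (kb xb19 yb24 zb7) (kb xb20 yb22 zb32) (kb xb14 yb23 zb6) (kb xb14 yb23 zb8) (kb xb18 yb9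 zb30) (kb xb19 yb1 zb22) (kb xb14 yb23 zb9) (kb xb20 yb2 zb14) (kb xb20 yb6 zb36) (kb xb20 yb22 zb34) (kb xb19 yb13 zb11) (kb xb14 yb23 zb17) (kb xb20 yb22 zb37) (kb xb20 yb22 zb36) (kb xb18 yb8 zb2) (kb xb18 yb8 zb3) (kb xb17 yb2 zb7) (kb xb18 yb22 zb36) (kb xb18 yb15 zb35) (kb xb20 yb19 zb14) (kb xb20 yb22 zb23) (kb xb20 yb23 zb6) (kb xb20 yb23 zb8) (kb xb14 yb23 zb23) (kb xb20 yb23 zb9) (kb xb14 yb23 zb24) (kb xb19 yb13 zb13) (kb xb14 yb23 zb26) (kb xb14 yb23 zb27) (kb xb18 yb7 zb10) (kb xb14 yb24 zb3) (kb xb18 yb10 zb34) (kb xb20 yb18 zb15) (kb xb20 yb20 zb15) (kb xb14 yb23 zb32)) (@D3.rec (fun _ => Pt) (kb xb20 yb11 zb32) (kb xb20 yb23 zb20) (kb xb20 yb23 zb18) (kb xb14 yb23 zb33) (kb xb20 yb23 zb22) (kb xb14 yb23 zb36) (kb xb20 yb19 zb23) (kb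 xb20 yb23 zb25) (kb xb20 yb23 zb27) (kb xb14 yb23 zb37) (kb xb20 yb23 zb30) (kb xb19 yb25 zb3) (kb xb14 yb24 zb2) (kb xb18 yb11 zb0) (kb xb14 yb23 zb39) (kb xb20 yb23 zb23) (kb xb20 yb23 zb13) (kb xb14 yb24 zb1) (kb xb20 yb23 zb33) (kb xb17 yb13 zb5) (kb xb14 yb24 zb6) (kb xb20 yb23 zb36) (kb xb14 yb24 zb9) (kb xb20 yb23 zb39) (kb xb14 yb24 zb10) (kb xb16 yb25 zb36) (kb xb16 yb3 zb25) (kb xb15 yb8 zb17) (kb xb16 yb25 zb18) (kb xb14 yb25 zb11) (kb xb19 yb15 zb0) (kb xb18 yb15 zb14) (kb xb18 yb25 zb18) (kb xb16 yb7 zb18) (kb xb17 yb13 zb34) (kb xb17 yb19 zb34) (kb xb19 yb23 zb11) (kb xb16 yb24 zb31) (kb xb16 yb10 zb25) (kb xb17 yb10 zb12)) (@D3.rec (fun _ => Pt) (kb xb14 yb24 zb34) (kb xb19 yb16 zb7) (kb xb14 yb24 zb37) (kb xb14 yb24 zb30) (kb xb14 yb25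 zb0) (kb xb20 yb24 zb6) (kb xb20 yb9 zb6) (kb xb18 yb20 zb8) (kb xb14 yb24 zb36) (kb xb17 yb9 zb26) (kb xb20 yb24 zb8) (kb xb17 yb9 zb17) (kb xb20 yb24 zb11) (kb xb14 yb24 zb38) (kb xb16 yb23 zb19) (kb xb20 yb24 zb12) (kb xb18 yb20 zb32) (kb xb16 yb22 zb24) (kb xb17 yb0 zb11) (kb xb16 yb15 zb38) (kb xb16 yb2 zb27) (kb xb14 yb25 zb6) (kb xb19 yb17 zb39) (kb xb19 yb10 zb2) (kb xb19 yb11 zb13) (kb xb17 yb2 zb10) (kb xb17 yb9 zb32) (kb xb20 yb24 zb0) (kb xb19 yb15 zb21) (kb xb20 yb24 zb17) (kb xb19 yb17 zb23) (kb xb14 yb25 zb20) (kb xb16 yb5 zb1) (kb xb14 yb25 zb22) (kb xb20 yb24 zb20) (kb xb20 yb24 zb19) (kb xb20 yb24 zb23) (kb xb14 yb25 zb23) (kb xb14 yb25 zb24) (kb xb17 yb24 zb33)) (@D3.rec (fun _ => Pt) (kb xb17 yb7 zb22) (kb xb17 yb7 zb34) (kb xb18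 yb22 zb4) (kb xb14 yb25 zb29) (kb xb20 yb24 zb25) (kb xb20 yb24 zb28) (kb xb18 yb15 zb5) (kb xb14 yb25 zb31) (kb xb19 yb24 zb3) (kb xb14 yb25 zb34) (kb xb14 yb25 zb35) (kb xb17 yb23 zb31) (kb xb15 yb9 zb4) (kb xb19 yb21 zb20) (kb xb17 yb9 zb13) (kb xb20 yb24 zb30) (kb xb19 yb23 zb38) (kb xb14 yb25 zb36) (kb xb15 yb10 zb23) (kb xb20 yb24 zb31) (kb xb18 yb19 zb2) (kb xb15 yb0 zb4) (kb xb15 yb16 zb18) (kb xb18 yb23 zb25) (kb xb16 yb19 zb33) (kb xb19 yb20 zb38) (kb xb19 yb25 zb31) (kb xb15 yb24 zb34) (kb xb15 yb0 zb20) (kb xb17 yb21 zb17) (kb xb16 yb11 zb36) (kb xb16 yb16 zb1) (kb xb16 yb16 zb18) (kb xb15 yb8 zb20) (kb xb16 yb3 zb1) (kb xb15 yb0 zb26) (kb xb15 yb13 zb23) (kb xb20 yb24 zb18) (kb xb16 yb14 zb34) (kb xb16 yb15 zb12)) (@D3.rec (fun _ => Pt)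 (kb xb19 yb18 zb17) (kb xb16 yb20 zb21) (kb xb19 yb11 zb3) (kb xb20 yb13 zb7) (kb xb15 yb1 zb4) (kb xb18 yb14 zb6) (kb xb20 yb25 zb3) (kb xb19 yb25 zb5) (kb xb15 yb1 zb2) (kb xb15 yb1 zb3) (kb xb19 yb23 zb30) (kb xb20 yb25 zb5) (kb xb15 yb1 zb6) (kb xb18 yb18 zb28) (kb xb18 yb12 zb31) (kb xb19 yb14 zb28) (kb xb15 yb8 zb28) (kb xb18 yb23 zb17) (kb xb18 yb18 zb17) (kb xb15 yb3 zb3) (kb xb18 yb25 zb36) (kb xb19 yb24 zb30) (kb xb19 yb24 zb32) (kb xb15 yb9 zb18) (kb xb17 yb3 zb14) (kb xb18 yb7 zb12) (kb xb15 yb1 zb22) (kb xb15 yb3 zb29) (kb xb15 yb1 zb23) (kb xb15 yb7 zb11) (kb xb15 yb3 zb32) (kb xb15 yb1 zb20) (kb xb15 yb7 zb14) (kb xb18 yb21 zb9) (kb xb20 yb25 zb12) (kb xb18 yb11 zb23) (kb xb20 yb25 zb18) (kb xb15 yb1 zb24) (kb xb18 yb21 zb13) (kb xb15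 yb1 zb28)) (@D3.rec (fun _ => Pt) (kb xb18 yb17 zb21) (kb xb19 yb14 zb10) (kb xb20 yb9 zb3) (kb xb16 yb4 zb23) (kb xb15 yb1 zb27) (kb xb17 yb15 zb16) (kb xb19 yb7 zb18) (kb xb20 yb25 zb19) (kb xb20 yb25 zb24) (kb xb17 yb10 zb31) (kb xb19 yb22 zb5) (kb xb17 yb11 zb9) (kb xb15 yb2 zb1) (kb xb17 yb16 zb28) (kb xb20 yb25 zb25) (kb xb15 yb2 zb4) (kb xb15 yb2 zb7) (kb xb15 yb2 zb8) (kb xb19 yb21 zb1) (kb xb16 yb13 zb24) (kb xb19 yb22 zb25) (kb xb15 yb2 zb11) (kb xb15 yb2 zb13) (kb xb15 yb2 zb14) (kb xb15 yb5 zb23) (kb xb17 yb0 zb1) (kb xb15 yb2 zb20) (kb xb16 yb19 zb36) (kb xb15 yb2 zb21) (kb xb15 yb2 zb25) (kb xb15 yb5 zb10) (kb xb17 yb1 zb7) (kb xb15 yb2 zb31) (kb xb15 yb4 zb36) (kb xb19 yb18 zb12) (kb xb15 yb2 zb34) (kb xb19 yb16 zb29) (kb xb18 yb19 zb34)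 (kb xb16 yb7 zb17) (kb xb15 yb2 zb36)) (@D3.rec (fun _ => Pt) (kb xb20 yb8 zb10) (kb xb15 yb2 zb39) (kb xb20 yb25 zb34) (kb xb18 yb23 zb16) (kb xb19 yb19 zb38) (kb xb20 yb25 zb37) (kb xb18 yb23 zb21) (kb xb15 yb3 zb0) (kb xb15 yb3 zb1) (kb xb21 yb0 zb1) (kb xb17 yb4 zb23) (kb xb17 yb23 zb20) (kb xb20 yb25 zb39) (kb xb20 yb0 zb1) (kb xb15 yb3 zb8) (kb xb15 yb4 zb3) (kb xb18 yb17 zb16) (kb xb15 yb3 zb12) (kb xb19 yb25 zb14) (kb xb15 yb3 zb10) (kb xb19 yb25 zb13) (kb xb18 yb16 zb0) (kb xb21 yb0 zb5) (kb xb16 yb23 zb12) (kb xb15 yb3 zb19) (kb xb17 yb8 zb12) (kb xb20 yb12 zb17) (kb xb15 yb3 zb22) (kb xb15 yb3 zb23) (kb xb19 yb24 zb38) (kb xb20 yb23 zb26) (kb xb21 yb0 zb10) (kb xb18 yb22 zb32) (kb xb18 yb22 zb34) (kb xb15 yb3 zb24) (kb xb18 yb8 zb5) (kb xb20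 yb22 zb7) (kb xb21 yb0 zb8) (kb xb15 yb3 zb36) (kb xb20 yb22 zb5)) (@D3.rec (fun _ => Pt) (kb xb20 yb25 zb13) (kb xb15 yb20 zb10) (kb xb21 yb0 zb16) (kb xb20 yb22 zb28) (kb xb15 yb3 zb31) (kb xb15 yb20 zb8) (kb xb20 yb25 zb15) (kb xb15 yb3 zb35) (kb xb21 yb0 zb17) (kb xb21 yb0 zb19) (kb xb15 yb3 zb37) (kb xb15 yb3 zb39) (kb xb20 yb23 zb21) (kb xb15 yb4 zb0) (kb xb15 yb4 zb7) (kb xb16 yb9 zb20) (kb xb18 yb22 zb8) (kb xb18 yb15 zb18) (kb xb20 yb14 zb16) (kb xb19 yb23 zb7) (kb xb19 yb20 zb7) (kb xb18 yb22 zb10) (kb xb20 yb8 zb2) (kb xb18 yb5 zb29) (kb xb20 yb3 zb17) (kb xb17 yb1 zb23) (kb xb16 yb4 zb11) (kb xb19 yb15 zb19) (kb xb18 yb15 zb13) (kb xb17 yb20 zb21) (kb xb19 yb24 zb6) (kb xb17 yb0 zb23) (kb xb16 yb10 zb24) (kb xb17 yb11 zb26) (kb xb19 yb1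 zb31) (kb xb16 yb7 zb33) (kb xb17 yb15 zb13) (kb xb19 yb14 zb26) (kb xb15 yb4 zb37) (kb xb15 yb4 zb29)) (@D3.rec (fun _ => Pt) (kb xb15 yb5 zb0) (kb xb20 yb7 zb36) (kb xb18 yb14 zb20) (kb xb17 yb8 zb38) (kb xb20 yb25 zb30) (kb xb17 yb8 zb28) (kb xb20 yb24 zb15) (kb xb15 yb4 zb38) (kb xb16 yb24 zb7) (kb xb21 yb0 zb32) (kb xb16 yb22 zb29) (kb xb17 yb1 zb39) (kb xb16 yb14 zb2) (kb xb16 yb2 zb30) (kb xb15 yb5 zb5) (kb xb19 yb19 zb17) (kb xb19 yb10 zb3) (kb xb17 yb2 zb16) (kb xb17 yb9 zb3) (kb xb20 yb25 zb29) (kb xb19 yb11 zb12) (kb xb19 yb15 zb28) (kb xb21 yb0 zb35) (kb xb19 yb19 zb0) (kb xb15 yb5 zb20) (kb xb16 yb4 zb34) (kb xb15 yb5 zb22) (kb xb21 yb0 zb38) (kb xb21 yb0 zb37) (kb xb20 yb25 zb28) (kb xb15 yb5 zb24) (kb xb17 yb24 zb28) (kb xb17 yb7 zb16)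 (kb xb17 yb7 zb26) (kb xb18 yb16 zb37) (kb xb15 yb5 zb29) (kb xb21 yb1 zb2) (kb xb19 yb23 zb6) (kb xb15 yb5 zb32) (kb xb15 yb5 zb33)) (@D3.rec (fun _ => Pt) (kb xb17 yb23 zb16) (kb xb19 yb21 zb19) (kb xb17 yb8 zb25) (kb xb21 yb1 zb4) (kb xb19 yb23 zb1) (kb xb15 yb5 zb34) (kb xb15 yb12 zb18) (kb xb21 yb1 zb5) (kb xb18 yb13 zb7) (kb xb15 yb6 zb1) (kb xb15 yb15 zb29) (kb xb18 yb25 zb39) (kb xb16 yb20 zb16) (kb xb19 yb20 zb36) (kb xb15 yb23 zb39) (kb xb19 yb25 zb35) (kb xb15 yb6 zb14) (kb xb17 yb21 zb13) (kb xb16 yb9 zb23) (kb xb16 yb14 zb5) (kb xb16 yb14 zb22) (kb xb16 yb2 zb33) (kb xb15 yb6 zb20) (kb xb15 yb11 zb26) (kb xb21 yb0 zb36) (kb xb16 yb16 zb30) (kb xb16 yb17 zb7) (kb xb19 yb16 zb39) (kb xb19 yb10 zb39) (kb xb20 yb13 zb12) (kb xb15 yb6 zb38)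 (kb xb21 yb1 zb14) (kb xb18 yb13 zb16) (kb xb15 yb6 zb35) (kb xb19 yb24 zb34) (kb xb15 yb6 zb37) (kb xb19 yb24 zb23) (kb xb21 yb1 zb16) (kb xb15 yb6 zb39) (kb xb19 yb14 zb29)) (@D3.rec (fun _ => Pt) (kb xb19 yb2 zb8) (kb xb19 yb25 zb1) (kb xb19 yb24 zb26) (kb xb17 yb3 zb26) (kb xb18 yb10 zb31) (kb xb15 yb7 zb12) (kb xb15 yb9 zb13) (kb xb15 yb7 zb13) (kb xb15 yb9 zb16) (kb xb18 yb15 zb33) (kb xb21 yb1 zb20) (kb xb18 yb8 zb7) (kb xb20 yb25 zb11) (kb xb18 yb15 zb38) (kb xb15 yb7 zb18) (kb xb18 yb22 zb23) (kb xb19 yb14 zb11) (kb xb20 yb7 zb33) (kb xb16 yb3 zb37) (kb xb15 yb7 zb17) (kb xb17 yb13 zb37) (kb xb19 yb7 zb35) (kb xb21 yb1 zb24) (kb xb21 yb1 zb29) (kb xb17 yb12 zb5) (kb xb19 yb22 zb30) (kb xb17 yb12 zb21) (kb xb15 yb7 zb31) (kb xb17 yb15 zb11)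 (kb xb21 yb1 zb30) (kb xb15 yb7 zb34) (kb xb15 yb7 zb37) (kb xb15 yb7 zb38) (kb xb19 yb20 zb39) (kb xb16 yb11 zb24) (kb xb19 yb22 zb0) (kb xb15 yb8 zb2) (kb xb15 yb8 zb3) (kb xb17 yb1 zb29) (kb xb15 yb8 zb9)) (@D3.rec (fun _ => Pt) (kb xb15 yb8 zb10) (kb xb19 yb16 zb33) (kb xb19 yb18 zb7) (kb xb16 yb7 zb32) (kb xb18 yb14 zb2) (kb xb15 yb8 zb21) (kb xb20 yb9 zb23) (kb xb15 yb8 zb25) (kb xb18 yb18 zb16) (kb xb19 yb20 zb23) (kb xb18 yb18 zb21) (kb xb21 yb1 zb36) (kb xb15 yb8 zb26) (kb xb21 yb1 zb38) (kb xb15 yb8 zb27) (kb xb17 yb23 zb35) (kb xb17 yb4 zb35) (kb xb21 yb1 zb39) (kb xb20 yb0 zb11) (kb xb15 yb8 zb34) (kb xb15 yb9 zb28) (kb xb15 yb8 zb37) (kb xb19 yb25 zb28) (kb xb18 yb21 zb15) (kb xb21 yb2 zb1) (kb xb16 yb24 zb0) (kb xb17 yb8 zb18) (kb xb20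 yb12 zb18) (kb xb15 yb9 zb7) (kb xb15 yb9 zb8) (kb xb19 yb24 zb25) (kb xb20 yb21 zb0) (kb xb18 yb17 zb32) (kb xb21 yb2 zb5) (kb xb18 yb17 zb33) (kb xb15 yb9 zb10) (kb xb18 yb11 zb22) (kb xb20 yb25 zb17) (kb xb20 yb19 zb1) (kb xb15 yb9 zb21)) (@D3.rec (fun _ => Pt) (kb xb21 yb1 zb21) (kb xb20 yb18 zb39) (kb xb20 yb25 zb6) (kb xb15 yb22 zb37) (kb xb20 yb19 zb28) (kb xb20 yb25 zb9) (kb xb15 yb9 zb17) (kb xb15 yb19 zb22) (kb xb21 yb2 zb11) (kb xb21 yb2 zb13) (kb xb15 yb9 zb22) (kb xb15 yb9 zb24) (kb xb20 yb20 zb29) (kb xb15 yb9 zb25) (kb xb15 yb9 zb32) (kb xb16 yb11 zb30) (kb xb18 yb17 zb3) (kb xb18 yb15 zb17) (kb xb20 yb15 zb19) (kb xb19 yb24 zb4) (kb xb19 yb20 zb25) (kb xb18 yb17 zb6) (kb xb20 yb9 zb15) (kb xb18 yb4 zb15) (kb xb20 yb4 zb4) (kb xb18 yb14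 zb23) (kb xb21 yb1 zb31) (kb xb19 yb2 zb24) (kb xb17 yb20 zb8) (kb xb15 yb10 zb10) (kb xb15 yb10 zb11) (kb xb21 yb2 zb19) (kb xb21 yb2 zb22) (kb xb21 yb2 zb23) (kb xb19 yb17 zb21) (kb xb15 yb10 zb16) (kb xb15 yb10 zb17) (kb xb17 yb7 zb25) (kb xb18 yb0 zb19) (kb xb20 yb10 zb37)) (@D3.rec (fun _ => Pt) (kb xb20 yb0 zb25) (kb xb19 yb23 zb2) (kb xb19 yb8 zb27) (kb xb21 yb2 zb28) (kb xb19 yb17 zb24) (kb xb17 yb3 zb0) (kb xb21 yb2 zb30) (kb xb19 yb2 zb27) (kb xb17 yb2 zb23) (kb xb21 yb2 zb33) (kb xb19 yb0 zb23) (kb xb15 yb10 zb28) (kb xb19 yb4 zb17) (kb xb19 yb12 zb30) (kb xb20 yb11 zb16) (kb xb17 yb24 zb11) (kb xb15 yb10 zb30) (kb xb17 yb14 zb10) (kb xb17 yb21 zb15) (kb xb17 yb24 zb23) (kb xb15 yb10 zb36) (kb xb15 yb10 zb37) (kb xb18 yb7 zb8) (kb xb21 yb3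 zb1) (kb xb19 yb13 zb12) (kb xb17 yb6 zb39) (kb xb21 yb3 zb4) (kb xb20 yb5 zb6) (kb xb17 yb0 zb3) (kb xb20 yb19 zb33) (kb xb15 yb10 zb38) (kb xb15 yb10 zb39) (kb xb15 yb11 zb1) (kb xb17 yb2 zb19) (kb xb20 yb9 zb9) (kb xb20 yb0 zb13) (kb xb15 yb11 zb5) (kb xb21 yb3 zb8) (kb xb20 yb5 zb10) (kb xb21 yb3 zb10)) (@D3.rec (fun _ => Pt) (kb xb17 yb17 zb28) (kb xb20 yb1 zb9) (kb xb18 yb6 zb17) (kb xb20 yb5 zb8) (kb xb15 yb11 zb8) (kb xb16 yb1 zb32) (kb xb20 yb19 zb36) (kb xb21 yb2 zb37) (kb xb15 yb11 zb11) (kb xb18 yb7 zb33) (kb xb15 yb11 zb13) (kb xb20 yb0 zb16) (kb xb15 yb11 zb15) (kb xb15 yb11 zb16) (kb xb15 yb11 zb17) (kb xb17 yb12 zb8) (kb xb16 yb10 zb12) (kb xb20 yb0 zb17) (kb xb18 yb12 zb32) (kb xb19 yb1 zb35) (kb xb18 yb3 zb23) (kb xb19 yb1 zb33) (kb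 xb16 yb4 zb32) (kb xb19 yb14 zb12) (kb xb20 yb9 zb39) (kb xb15 yb11 zb27) (kb xb19 yb14 zb8) (kb xb15 yb11 zb29) (kb xb17 yb2 zb8) (kb xb18 yb25 zb38) (kb xb19 yb12 zb21) (kb xb18 yb25 zb35) (kb xb15 yb11 zb32) (kb xb15 yb11 zb33) (kb xb17 yb9 zb39) (kb xb18 yb25 zb31) (kb xb18 yb15 zb20) (kb xb20 yb9 zb5) (kb xb18 yb25 zb29) (kb xb18 yb20 zb11))
def f_b_19 : D2 → D3 → Pt := @D2.rec (fun _ => D3 → Pt) (@D3.rec (fun _ => Pt) (kb xb20 yb25 zb26) (kb xb19 yb3 zb2) (kb xb17 yb20 zb35) (kb xb15 yb12 zb6) (kb xb15 yb12 zb7) (kb xb21 yb3 zb17) (kb xb21 yb3 zb20) (kb xb21 yb3 zb21) (kb xb19 yb18 zb39) (kb xb15 yb12 zb12) (kb xb15 yb12 zb13) (kb xb17 yb7 zb33) (kb xb18 yb1 zb29) (kb xb20 yb10 zb38) (kb xb19 yb23 zb39) (kb xb20 yb0 zb26) (kb xb21 yb3 zb26) (kb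 xb19 yb8 zb35) (kb xb19 yb19 zb2) (kb xb21 yb3 zb28) (kb xb17 yb2 zb25) (kb xb17 yb2 zb38) (kb xb19 yb3 zb6) (kb xb18 yb24 zb10) (kb xb21 yb3 zb31) (kb xb15 yb12 zb24) (kb xb19 yb5 zb36) (kb xb20 yb11 zb6) (kb xb19 yb13 zb1) (kb xb17 yb24 zb17) (kb xb17 yb21 zb19) (kb xb15 yb12 zb27) (kb xb17 yb15 zb28) (kb xb17 yb24 zb25) (kb xb15 yb12 zb32) (kb xb15 yb12 zb33) (kb xb21 yb3 zb39) (kb xb18 yb10 zb26) (kb xb19 yb13 zb33) (kb xb21 yb4 zb2)) (@D3.rec (fun _ => Pt) (kb xb17 yb7 zb4) (kb xb20 yb4 zb20) (kb xb20 yb22 zb31) (kb xb17 yb1 zb31) (kb xb15 yb12 zb34) (kb xb15 yb12 zb35) (kb xb15 yb12 zb36) (kb xb20 yb7 zb30) (kb xb17 yb2 zb35) (kb xb20 yb0 zb3) (kb xb15 yb13 zb1) (kb xb21 yb4 zb6) (kb xb21 yb4 zb8) (kb xb20 yb4 zb24) (kb xb17 yb19 zb10) (kb xb18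 yb9 zb36) (kb xb20 yb1 zb16) (kb xb15 yb13 zb3) (kb xb16 yb1 zb23) (kb xb20 yb4 zb22) (kb xb20 yb18 zb32) (kb xb15 yb13 zb6) (kb xb18 yb11 zb10) (kb xb21 yb3 zb34) (kb xb20 yb0 zb6) (kb xb15 yb13 zb9) (kb xb15 yb13 zb11) (kb xb15 yb13 zb12) (kb xb15 yb13 zb13) (kb xb16 yb12 zb21) (kb xb20 yb0 zb7) (kb xb18 yb18 zb34) (kb xb17 yb10 zb34) (kb xb18 yb25 zb21) (kb xb18 yb4 zb38) (kb xb18 yb25 zb19) (kb xb19 yb14 zb16) (kb xb16 yb4 zb39) (kb xb15 yb13 zb22) (kb xb19 yb15 zb37)) (@D3.rec (fun _ => Pt) (kb xb20 yb10 zb19) (kb xb15 yb13 zb24) (kb xb19 yb12 zb32) (kb xb19 yb2 zb12) (kb xb17 yb2 zb17) (kb xb19 yb2 zb10) (kb xb15 yb13 zb28) (kb xb15 yb13 zb29) (kb xb18 yb21 zb0) (kb xb20 yb7 zb35) (kb xb19 yb2 zb5) (kb xb17 yb11 zb13) (kb xb19 yb2 zb3) (kb xb16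 yb11 zb19) (kb xb15 yb13 zb34) (kb xb17 yb3 zb20) (kb xb21 yb4 zb16) (kb xb21 yb4 zb17) (kb xb21 yb4 zb18) (kb xb21 yb4 zb19) (kb xb21 yb4 zb20) (kb xb21 yb4 zb21) (kb xb15 yb13 zb39) (kb xb15 yb14 zb0) (kb xb18 yb23 zb27) (kb xb17 yb7 zb28) (kb xb17 yb17 zb8) (kb xb18 yb24 zb7) (kb xb17 yb3 zb16) (kb xb21 yb4 zb28) (kb xb18 yb4 zb34) (kb xb15 yb14 zb5) (kb xb16 yb13 zb20) (kb xb15 yb14 zb9) (kb xb21 yb4 zb31) (kb xb17 yb3 zb6) (kb xb21 yb4 zb32) (kb xb21 yb4 zb33) (kb xb21 yb4 zb34) (kb xb21 yb4 zb35)) (@D3.rec (fun _ => Pt) (kb xb15 yb14 zb14) (kb xb15 yb14 zb15) (kb xb19 yb0 zb1) (kb xb17 yb18 zb29) (kb xb17 yb7 zb36) (kb xb17 yb3 zb27) (kb xb19 yb0 zb22) (kb xb18 yb3 zb19) (kb xb21 yb5 zb2) (kb xb15 yb14 zb21) (kb xb19 yb3 zb11) (kb xb19 yb3 zb10)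 (kb xb19 yb3 zb13) (kb xb19 yb3 zb12) (kb xb15 yb17 zb32) (kb xb15 yb15 zb10) (kb xb19 yb3 zb22) (kb xb16 yb10 zb35) (kb xb15 yb22 zb30) (kb xb15 yb15 zb19) (kb xb15 yb23 zb10) (kb xb16 yb3 zb6) (kb xb19 yb3 zb16) (kb xb16 yb19 zb8) (kb xb15 yb15 zb26) (kb xb19 yb15 zb26) (kb xb16 yb24 zb14) (kb xb15 yb21 zb21) (kb xb15 yb16 zb0) (kb xb19 yb3 zb35) (kb xb16 yb13 zb1) (kb xb15 yb19 zb35) (kb xb15 yb16 zb9) (kb xb15 yb24 zb5) (kb xb16 yb2 zb38) (kb xb19 yb3 zb29) (kb xb16 yb19 zb12) (kb xb15 yb16 zb16) (kb xb19 yb15 zb10) (kb xb16 yb23 zb26)) (@D3.rec (fun _ => Pt) (kb xb15 yb16 zb27) (kb xb17 yb12 zb18) (kb xb21 yb5 zb8) (kb xb16 yb10 zb39) (kb xb16 yb21 zb0) (kb xb15 yb16 zb34) (kb xb15 yb17 zb2) (kb xb15 yb17 zb11) (kb xb19 yb21 zb37) (kb xb17 yb0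 zb17) (kb xb15 yb17 zb27) (kb xb17 yb19 zb3) (kb xb15 yb21 zb4) (kb xb17 yb4 zb39) (kb xb19 yb19 zb15) (kb xb19 yb17 zb10) (kb xb15 yb24 zb22) (kb xb18 yb24 zb12) (kb xb17 yb22 zb20) (kb xb17 yb13 zb25) (kb xb21 yb5 zb11) (kb xb15 yb20 zb4) (kb xb15 yb18 zb21) (kb xb16 yb16 zb36) (kb xb19 yb4 zb24) (kb xb15 yb18 zb27) (kb xb16 yb4 zb22) (kb xb19 yb5 zb3) (kb xb16 yb0 zb28) (kb xb19 yb6 zb6) (kb xb15 yb19 zb7) (kb xb16 yb12 zb34) (kb xb20 yb12 zb26) (kb xb15 yb19 zb14) (kb xb17 yb25 zb14) (kb xb15 yb24 zb29) (kb xb15 yb19 zb34) (kb xb19 yb10 zb32) (kb xb19 yb14 zb39) (kb xb17 yb25 zb26)) (@D3.rec (fun _ => Pt) (kb xb16 yb13 zb11) (kb xb15 yb19 zb30) (kb xb15 yb19 zb33) (kb xb19 yb4 zb27) (kb xb17 yb25 zb3) (kb xb15 yb22 zb31) (kb xb15 yb23 zb34) (kb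 xb21 yb5 zb17) (kb xb21 yb5 zb6) (kb xb15 yb22 zb21) (kb xb16 yb10 zb27) (kb xb19 yb15 zb18) (kb xb19 yb10 zb16) (kb xb16 yb11 zb7) (kb xb17 yb25 zb19) (kb xb20 yb11 zb15) (kb xb20 yb12 zb39) (kb xb15 yb20 zb6) (kb xb15 yb20 zb11) (kb xb16 yb9 zb37) (kb xb17 yb4 zb11) (kb xb15 yb20 zb22) (kb xb17 yb11 zb6) (kb xb21 yb5 zb24) (kb xb16 yb13 zb5) (kb xb16 yb21 zb9) (kb xb15 yb20 zb29) (kb xb15 yb20 zb37) (kb xb19 yb22 zb23) (kb xb17 yb2 zb5) (kb xb15 yb21 zb16) (kb xb17 yb17 zb21) (kb xb17 yb5 zb23) (kb xb19 yb17 zb37) (kb xb19 yb18 zb28) (kb xb15 yb23 zb27) (kb xb19 yb0 zb26) (kb xb17 yb22 zb7) (kb xb17 yb13 zb0) (kb xb15 yb22 zb32)) (@D3.rec (fun _ => Pt) (kb xb21 yb5 zb28) (kb xb16 yb14 zb39) (kb xb15 yb22 zb3) (kb xb19 yb6 zb3) (kb xb15 yb22 zb7) (kb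 xb16 yb3 zb35) (kb xb19 yb4 zb29) (kb xb16 yb0 zb10) (kb xb20 yb12 zb37) (kb xb15 yb22 zb29) (kb xb21 yb5 zb4) (kb xb21 yb5 zb20) (kb xb20 yb12 zb28) (kb xb20 yb11 zb4) (kb xb15 yb22 zb34) (kb xb15 yb22 zb38) (kb xb16 yb12 zb6) (kb xb17 yb4 zb13) (kb xb20 yb16 zb27) (kb xb16 yb10 zb38) (kb xb18 yb3 zb27) (kb xb19 yb23 zb8) (kb xb17 yb23 zb6) (kb xb15 yb23 zb24) (kb xb15 yb23 zb26) (kb xb21 yb5 zb32) (kb xb19 yb15 zb6) (kb xb20 yb13 zb23) (kb xb20 yb24 zb5) (kb xb21 yb5 zb35) (kb xb21 yb5 zb38) (kb xb15 yb23 zb29) (kb xb15 yb23 zb31) (kb xb21 yb5 zb39) (kb xb21 yb6 zb1) (kb xb15 yb23 zb32) (kb xb21 yb5 zb21) (kb xb15 yb24 zb1) (kb xb20 yb17 zb29) (kb xb16 yb13 zb4)) (@D3.rec (fun _ => Pt) (kb xb18 yb5 zb3) (kb xb19 yb24 zb5) (kb xb17 yb23 zb10) (kb xb15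 yb24 zb19) (kb xb15 yb24 zb21) (kb xb21 yb6 zb5) (kb xb19 yb16 zb16) (kb xb20 yb13 zb31) (kb xb20 yb24 zb29) (kb xb21 yb6 zb8) (kb xb21 yb6 zb11) (kb xb15 yb24 zb24) (kb xb15 yb24 zb26) (kb xb21 yb6 zb12) (kb xb21 yb6 zb14) (kb xb15 yb24 zb27) (kb xb21 yb5 zb16) (kb xb15 yb24 zb36) (kb xb18 yb16 zb6) (kb xb15 yb25 zb5) (kb xb21 yb6 zb17) (kb xb21 yb6 zb20) (kb xb21 yb6 zb21) (kb xb15 yb25 zb6) (kb xb15 yb25 zb7) (kb xb21 yb6 zb22) (kb xb21 yb6 zb24) (kb xb15 yb25 zb12) (kb xb15 yb25 zb14) (kb xb21 yb1 zb32) (kb xb21 yb6 zb28) (kb xb15 yb25 zb16) (kb xb21 yb6 zb30) (kb xb21 yb6 zb32) (kb xb15 yb25 zb19) (kb xb18 yb21 zb21) (kb xb15 yb25 zb28) (kb xb21 yb6 zb34) (kb xb21 yb6 zb35) (kb xb15 yb25 zb31)) (@D3.rec (fun _ => Pt) (kb xb21 yb6 zb39) (kb xb20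 yb25 zb27) (kb xb15 yb25 zb32) (kb xb21 yb7 zb1) (kb xb16 yb0 zb9) (kb xb16 yb0 zb13) (kb xb20 yb5 zb24) (kb xb17 yb22 zb24) (kb xb21 yb7 zb2) (kb xb16 yb0 zb16) (kb xb21 yb7 zb4) (kb xb17 yb10 zb30) (kb xb16 yb0 zb27) (kb xb16 yb0 zb31) (kb xb20 yb6 zb23) (kb xb17 yb22 zb35) (kb xb21 yb7 zb6) (kb xb16 yb0 zb34) (kb xb21 yb7 zb8) (kb xb17 yb12 zb4) (kb xb17 yb7 zb8) (kb xb17 yb7 zb11) (kb xb16 yb8 zb25) (kb xb16 yb6 zb9) (kb xb20 yb23 zb11) (kb xb17 yb7 zb14) (kb xb17 yb6 zb36) (kb xb18 yb24 zb2) (kb xb16 yb1 zb6) (kb xb21 yb7 zb11) (kb xb16 yb9 zb11) (kb xb16 yb6 zb20) (kb xb20 yb20 zb16) (kb xb17 yb7 zb20) (kb xb17 yb7 zb1) (kb xb19 yb0 zb17) (kb xb16 yb1 zb12) (kb xb21 yb7 zb13) (kb xb16 yb1 zb16) (kb xb17 yb1 zb12)) (@D3.rec (fun _ => Pt) (kb xb17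 yb21 zb27) (kb xb20 yb21 zb30) (kb xb16 yb1 zb20) (kb xb21 yb7 zb14) (kb xb20 yb6 zb28) (kb xb16 yb1 zb25) (kb xb16 yb25 zb23) (kb xb17 yb21 zb34) (kb xb20 yb18 zb20) (kb xb16 yb1 zb29) (kb xb21 yb7 zb15) (kb xb20 yb5 zb31) (kb xb19 yb9 zb39) (kb xb19 yb25 zb36) (kb xb17 yb22 zb23) (kb xb19 yb9 zb34) (kb xb19 yb25 zb32) (kb xb17 yb22 zb34) (kb xb17 yb0 zb0) (kb xb21 yb7 zb19) (kb xb20 yb15 zb0) (kb xb19 yb9 zb25) (kb xb17 yb1 zb28) (kb xb21 yb7 zb21) (kb xb20 yb13 zb34) (kb xb19 yb9 zb21) (kb xb16 yb2 zb14) (kb xb21 yb3 zb32) (kb xb21 yb7 zb23) (kb xb16 yb2 zb17) (kb xb21 yb2 zb34) (kb xb21 yb7 zb26) (kb xb20 yb25 zb31) (kb xb19 yb10 zb34) (kb xb19 yb9 zb15) (kb xb19 yb21 zb2) (kb xb16 yb2 zb39) (kb xb20 yb24 zb37) (kb xb19 yb10 zb17) (kb xb19 yb9 zb12))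 (@D3.rec (fun _ => Pt) (kb xb19 yb21 zb0) (kb xb16 yb3 zb7) (kb xb18 yb13 zb23) (kb xb18 yb19 zb16) (kb xb19 yb22 zb34) (kb xb16 yb3 zb20) (kb xb20 yb7 zb11) (kb xb21 yb7 zb31) (kb xb16 yb7 zb10) (kb xb19 yb16 zb32) (kb xb16 yb3 zb24) (kb xb16 yb3 zb29) (kb xb21 yb7 zb33) (kb xb21 yb7 zb34) (kb xb16 yb3 zb31) (kb xb21 yb5 zb29) (kb xb19 yb5 zb12) (kb xb19 yb9 zb38) (kb xb16 yb3 zb39) (kb xb21 yb7 zb37) (kb xb16 yb4 zb1) (kb xb19 yb22 zb33) (kb xb16 yb4 zb6) (kb xb20 yb8 zb26) (kb xb21 yb8 zb0) (kb xb16 yb6 zb38) (kb xb19 yb18 zb11) (kb xb16 yb4 zb10) (kb xb16 yb4 zb15) (kb xb21 yb8 zb2) (kb xb21 yb8 zb3) (kb xb16 yb4 zb17) (kb xb19 yb4 zb37) (kb xb21 yb5 zb13) (kb xb19 yb9 zb33) (kb xb16 yb4 zb25) (kb xb21 yb8 zb6) (kb xb16 yb4 zb27) (kb xb16 yb13 zb34)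 (kb xb18 yb20 zb28)) (@D3.rec (fun _ => Pt) (kb xb19 yb21 zb35) (kb xb17 yb12 zb12) (kb xb16 yb15 zb30) (kb xb18 yb15 zb2) (kb xb19 yb21 zb39) (kb xb17 yb10 zb38) (kb xb16 yb5 zb4) (kb xb16 yb21 zb26) (kb xb16 yb5 zb6) (kb xb16 yb21 zb21) (kb xb16 yb5 zb8) (kb xb16 yb5 zb10) (kb xb18 yb19 zb20) (kb xb18 yb13 zb24) (kb xb20 yb13 zb20) (kb xb20 yb13 zb18) (kb xb19 yb11 zb16) (kb xb20 yb13 zb28) (kb xb20 yb13 zb26) (kb xb19 yb11 zb19) (kb xb21 yb8 zb8) (kb xb16 yb6 zb10) (kb xb21 yb1 zb7) (kb xb16 yb6 zb14) (kb xb20 yb14 zb14) (kb xb21 yb8 zb13) (kb xb16 yb6 zb16) (kb xb21 yb8 zb15) (kb xb16 yb6 zb21) (kb xb20 yb24 zb33) (kb xb16 yb6 zb25) (kb xb20 yb15 zb18) (kb xb21 yb8 zb20) (kb xb16 yb6 zb27) (kb xb19 yb16 zb38) (kb xb19 yb18 zb16) (kb xb16 yb6 zb33)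 (kb xb20 yb21 zb14) (kb xb16 yb6 zb36) (kb xb16 yb6 zb37)) (@D3.rec (fun _ => Pt) (kb xb21 yb8 zb23) (kb xb21 yb8 zb26) (kb xb21 yb8 zb27) (kb xb20 yb21 zb8) (kb xb16 yb7 zb0) (kb xb21 yb8 zb28) (kb xb16 yb7 zb2) (kb xb20 yb6 zb27) (kb xb16 yb7 zb5) (kb xb20 yb23 zb38) (kb xb16 yb7 zb8) (kb xb16 yb7 zb9) (kb xb21 yb8 zb30) (kb xb21 yb8 zb33) (kb xb21 yb8 zb34) (kb xb20 yb23 zb34) (kb xb16 yb7 zb12) (kb xb21 yb8 zb35) (kb xb16 yb7 zb14) (kb xb20 yb5 zb30) (kb xb16 yb14 zb12) (kb xb18 yb25 zb30) (kb xb19 yb25 zb34) (kb xb19 yb12 zb34) (kb xb17 yb14 zb6) (kb xb20 yb11 zb12) (kb xb16 yb7 zb25) (kb xb20 yb14 zb27) (kb xb16 yb7 zb27) (kb xb20 yb9 zb33) (kb xb18 yb24 zb13) (kb xb16 yb16 zb8) (kb xb19 yb2 zb2) (kb xb19 yb25 zb38) (kb xb19 yb12 zb23) (kb xb17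 yb15 zb25) (kb xb20 yb11 zb1) (kb xb16 yb8 zb0) (kb xb20 yb15 zb31) (kb xb16 yb8 zb2)) (@D3.rec (fun _ => Pt) (kb xb20 yb8 zb24) (kb xb19 yb0 zb28) (kb xb21 yb9 zb6) (kb xb18 yb6 zb0) (kb xb20 yb8 zb20) (kb xb19 yb13 zb5) (kb xb21 yb9 zb10) (kb xb18 yb5 zb34) (kb xb17 yb18 zb1) (kb xb16 yb8 zb12) (kb xb19 yb13 zb10) (kb xb18 yb11 zb15) (kb xb18 yb24 zb24) (kb xb18 yb11 zb31) (kb xb20 yb15 zb38) (kb xb16 yb8 zb20) (kb xb21 yb9 zb16) (kb xb17 yb15 zb32) (kb xb19 yb23 zb32) (kb xb21 yb9 zb20) (kb xb16 yb8 zb23) (kb xb17 yb24 zb35) (kb xb21 yb9 zb21) (kb xb18 yb9 zb18) (kb xb20 yb9 zb29) (kb xb19 yb13 zb25) (kb xb21 yb9 zb25) (kb xb18 yb9 zb14) (kb xb17 yb18 zb3) (kb xb16 yb8 zb37) (kb xb19 yb13 zb30) (kb xb18 yb7 zb38) (kb xb18 yb8 zb13) (kb xb19 yb0 zb38)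 (kb xb20 yb14 zb33) (kb xb16 yb9 zb5) (kb xb21 yb9 zb31) (kb xb17 yb14 zb15) (kb xb19 yb22 zb35) (kb xb21 yb9 zb35)) (@D3.rec (fun _ => Pt) (kb xb16 yb9 zb8) (kb xb17 yb24 zb30) (kb xb17 yb21 zb32) (kb xb16 yb9 zb25) (kb xb16 yb9 zb29) (kb xb20 yb24 zb24) (kb xb17 yb19 zb6) (kb xb16 yb9 zb31) (kb xb18 yb25 zb26) (kb xb16 yb9 zb32) (kb xb18 yb16 zb1) (kb xb18 yb21 zb16) (kb xb18 yb25 zb23) (kb xb16 yb9 zb34) (kb xb21 yb0 zb20) (kb xb16 yb10 zb1) (kb xb19 yb1 zb36) (kb xb16 yb12 zb4) (kb xb20 yb0 zb2) (kb xb21 yb10 zb0) (kb xb17 yb17 zb24) (kb xb17 yb13 zb17) (kb xb19 yb22 zb9) (kb xb20 yb0 zb34) (kb xb16 yb10 zb13) (kb xb16 yb12 zb29) (kb xb18 yb18 zb37) (kb xb16 yb10 zb17) (kb xb18 yb15 zb15) (kb xb18 yb20 zb39) (kb xb20 yb12 zb24) (kb xb16 yb10 zb20)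 (kb xb16 yb10 zb22) (kb xb20 yb7 zb39) (kb xb21 yb0 zb25) (kb xb19 yb17 zb0) (kb xb20 yb24 zb1) (kb xb20 yb9 zb12) (kb xb19 yb21 zb32) (kb xb19 yb4 zb38)) (@D3.rec (fun _ => Pt) (kb xb18 yb12 zb30) (kb xb16 yb13 zb25) (kb xb16 yb10 zb32) (kb xb19 yb16 zb15) (kb xb20 yb16 zb19) (kb xb19 yb16 zb13) (kb xb19 yb6 zb26) (kb xb21 yb5 zb30) (kb xb21 yb5 zb5) (kb xb16 yb13 zb18) (kb xb19 yb3 zb38) (kb xb20 yb11 zb10) (kb xb16 yb11 zb5) (kb xb17 yb15 zb18) (kb xb16 yb16 zb20) (kb xb20 yb24 zb36) (kb xb21 yb5 zb23) (kb xb16 yb11 zb6) (kb xb19 yb5 zb11) (kb xb18 yb18 zb27) (kb xb16 yb11 zb26) (kb xb18 yb13 zb28) (kb xb20 yb13 zb4) (kb xb16 yb11 zb15) (kb xb21 yb5 zb7) (kb xb16 yb11 zb17) (kb xb19 yb3 zb25) (kb xb16 yb11 zb23) (kb xb18 yb19 zb21) (kb xb20 yb13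 zb9) (kb xb17 yb9 zb5) (kb xb16 yb12 zb38) (kb xb17 yb21 zb24) (kb xb16 yb11 zb35) (kb xb16 yb12 zb0) (kb xb21 yb1 zb1) (kb xb16 yb12 zb1) (kb xb19 yb1 zb39) (kb xb16 yb12 zb3) (kb xb21 yb2 zb14)) (@D3.rec (fun _ => Pt) (kb xb16 yb12 zb11) (kb xb20 yb0 zb12) (kb xb21 yb10 zb18) (kb xb17 yb12 zb31) (kb xb19 yb21 zb22) (kb xb20 yb0 zb31) (kb xb16 yb12 zb22) (kb xb18 yb13 zb1) (kb xb16 yb12 zb26) (kb xb20 yb12 zb35) (kb xb16 yb12 zb31) (kb xb19 yb18 zb18) (kb xb19 yb22 zb19) (kb xb19 yb15 zb5) (kb xb20 yb17 zb21) (kb xb19 yb15 zb3) (kb xb19 yb7 zb6) (kb xb21 yb6 zb3) (kb xb20 yb10 zb39) (kb xb16 yb13 zb10) (kb xb17 yb14 zb0) (kb xb16 yb14 zb24) (kb xb21 yb5 zb18) (kb xb21 yb1 zb10) (kb xb16 yb13 zb12) (kb xb16 yb13 zb17) (kb xb16 yb13 zb23) (kb xb17 yb9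 zb34) (kb xb17 yb9 zb28) (kb xb18 yb16 zb36) (kb xb17 yb14 zb33) (kb xb19 yb23 zb18) (kb xb19 yb10 zb9) (kb xb18 yb22 zb1) (kb xb21 yb7 zb30) (kb xb16 yb13 zb35) (kb xb21 yb10 zb24) (kb xb17 yb20 zb12) (kb xb19 yb11 zb34) (kb xb18 yb20 zb27)) (@D3.rec (fun _ => Pt) (kb xb19 yb14 zb35) (kb xb16 yb14 zb6) (kb xb19 yb19 zb12) (kb xb20 yb17 zb9) (kb xb17 yb2 zb36) (kb xb17 yb16 zb20) (kb xb19 yb18 zb24) (kb xb16 yb14 zb10) (kb xb21 yb4 zb37) (kb xb20 yb6 zb25) (kb xb19 yb4 zb15) (kb xb16 yb14 zb15) (kb xb20 yb13 zb10) (kb xb20 yb0 zb23) (kb xb21 yb10 zb23) (kb xb16 yb14 zb26) (kb xb20 yb24 zb39) (kb xb19 yb19 zb31) (kb xb16 yb15 zb19) (kb xb21 yb10 zb29) (kb xb19 yb18 zb37) (kb xb18 yb23 zb34) (kb xb21 yb5 zb27) (kb xb18 yb13 zb30) (kb xb18 yb24 zb4) (kb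 xb17 yb2 zb37) (kb xb21 yb10 zb30) (kb xb16 yb15 zb3) (kb xb16 yb15 zb4) (kb xb19 yb19 zb26) (kb xb21 yb10 zb33) (kb xb21 yb10 zb35) (kb xb19 yb20 zb5) (kb xb16 yb15 zb9) (kb xb21 yb10 zb38) (kb xb16 yb15 zb10) (kb xb19 yb18 zb20) (kb xb19 yb5 zb33) (kb xb17 yb0 zb16) (kb xb18 yb13 zb22)) (@D3.rec (fun _ => Pt) (kb xb16 yb15 zb15) (kb xb21 yb11 zb2) (kb xb19 yb19 zb19) (kb xb21 yb7 zb20) (kb xb16 yb15 zb16) (kb xb16 yb15 zb17) (kb xb17 yb8 zb39) (kb xb18 yb22 zb2) (kb xb17 yb16 zb10) (kb xb21 yb7 zb39) (kb xb19 yb24 zb11) (kb xb19 yb10 zb26) (kb xb18 yb16 zb34) (kb xb16 yb15 zb31) (kb xb21 yb11 zb4) (kb xb17 yb21 zb3) (kb xb19 yb11 zb35) (kb xb18 yb15 zb0) (kb xb19 yb16 zb11) (kb xb16 yb16 zb2) (kb xb19 yb17 zb36) (kb xb20 yb16 zb7) (kb xb17 yb2 zb21)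 (kb xb17 yb15 zb3) (kb xb19 yb17 zb6) (kb xb16 yb16 zb6) (kb xb21 yb4 zb23) (kb xb20 yb5 zb27) (kb xb19 yb5 zb34) (kb xb16 yb16 zb11) (kb xb20 yb13 zb5) (kb xb20 yb0 zb24) (kb xb21 yb10 zb9) (kb xb16 yb16 zb22) (kb xb21 yb1 zb12) (kb xb16 yb17 zb14) (kb xb19 yb20 zb17) (kb xb19 yb17 zb20) (kb xb21 yb11 zb9) (kb xb19 yb0 zb8)) (@D3.rec (fun _ => Pt) (kb xb18 yb19 zb23) (kb xb21 yb5 zb12) (kb xb19 yb0 zb18) (kb xb21 yb11 zb10) (kb xb17 yb2 zb20) (kb xb16 yb16 zb39) (kb xb16 yb17 zb0) (kb xb19 yb20 zb12) (kb xb21 yb11 zb13) (kb xb21 yb11 zb15) (kb xb19 yb20 zb24) (kb xb16 yb17 zb5) (kb xb19 yb17 zb2) (kb xb16 yb17 zb6) (kb xb21 yb11 zb17) (kb xb19 yb4 zb14) (kb xb17 yb2 zb4) (kb xb18 yb19 zb15) (kb xb16 yb17 zb11) (kb xb19 yb18 zb2) (kb xb21 yb11 zb21)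 (kb xb21 yb7 zb18) (kb xb16 yb17 zb12) (kb xb16 yb17 zb13) (kb xb19 yb19 zb24) (kb xb20 yb17 zb23) (kb xb19 yb17 zb29) (kb xb21 yb11 zb24) (kb xb21 yb2 zb15) (kb xb16 yb17 zb25) (kb xb16 yb17 zb26) (kb xb19 yb17 zb17) (kb xb16 yb18 zb5) (kb xb16 yb17 zb30) (kb xb21 yb11 zb26) (kb xb19 yb20 zb19) (kb xb16 yb17 zb32) (kb xb16 yb17 zb33) (kb xb18 yb17 zb4) (kb xb21 yb11 zb28)) (@D3.rec (fun _ => Pt) (kb xb21 yb11 zb29) (kb xb16 yb17 zb38) (kb xb21 yb11 zb32) (kb xb19 yb20 zb3) (kb xb21 yb11 zb34) (kb xb19 yb17 zb32) (kb xb21 yb11 zb36) (kb xb18 yb18 zb20) (kb xb16 yb18 zb2) (kb xb16 yb18 zb3) (kb xb19 yb20 zb10) (kb xb20 yb16 zb21) (kb xb19 yb19 zb7) (kb xb21 yb0 zb21) (kb xb16 yb18 zb13) (kb xb16 yb18 zb14) (kb xb16 yb18 zb29) (kb xb19 yb18 zb36) (kb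 xb16 yb18 zb18) (kb xb19 yb19 zb35) (kb xb21 yb11 zb38) (kb xb16 yb18 zb20) (kb xb16 yb18 zb21) (kb xb18 yb22 zb9) (kb xb19 yb19 zb10) (kb xb18 yb23 zb20) (kb xb16 yb18 zb28) (kb xb21 yb2 zb21) (kb xb17 yb22 zb38) (kb xb16 yb20 zb13) (kb xb17 yb23 zb0) (kb xb21 yb3 zb19) (kb xb17 yb22 zb29) (kb xb16 yb20 zb38) (kb xb17 yb22 zb31) (kb xb19 yb21 zb9) (kb xb18 yb20 zb13) (kb xb19 yb21 zb12) (kb xb18 yb14 zb25) (kb xb18 yb21 zb33)) (@D3.rec (fun _ => Pt) (kb xb19 yb10 zb0) (kb xb18 yb16 zb18) (kb xb19 yb9 zb35) (kb xb21 yb10 zb19) (kb xb21 yb10 zb2) (kb xb16 yb22 zb7) (kb xb16 yb22 zb11) (kb xb16 yb22 zb14) (kb xb16 yb22 zb15) (kb xb19 yb20 zb35) (kb xb16 yb22 zb18) (kb xb16 yb22 zb19) (kb xb19 yb20 zb37) (kb xb20 yb24 zb14) (kb xb21 yb12 zb0) (kb xb19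 yb24 zb22) (kb xb21 yb0 zb33) (kb xb21 yb12 zb3) (kb xb19 yb23 zb29) (kb xb18 yb20 zb1) (kb xb18 yb14 zb13) (kb xb16 yb23 zb2) (kb xb19 yb16 zb4) (kb xb16 yb23 zb5) (kb xb21 yb12 zb5) (kb xb16 yb23 zb7) (kb xb21 yb12 zb7) (kb xb16 yb23 zb9) (kb xb21 yb12 zb11) (kb xb16 yb23 zb13) (kb xb19 yb22 zb37) (kb xb21 yb12 zb9) (kb xb19 yb14 zb38) (kb xb21 yb12 zb15) (kb xb19 yb22 zb21) (kb xb19 yb11 zb0) (kb xb16 yb23 zb21) (kb xb19 yb4 zb8) (kb xb17 yb12 zb2) (kb xb19 yb11 zb4)) (@D3.rec (fun _ => Pt) (kb xb18 yb21 zb35) (kb xb16 yb23 zb23) (kb xb16 yb23 zb25) (kb xb19 yb23 zb31) (kb xb17 yb10 zb33) (kb xb18 yb16 zb10) (kb xb16 yb23 zb28) (kb xb17 yb4 zb16) (kb xb16 yb23 zb30) (kb xb19 yb14 zb22) (kb xb16 yb23 zb33) (kb xb21 yb12 zb19) (kb xb16 yb23 zb35) (kb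 xb21 yb12 zb21) (kb xb16 yb23 zb37) (kb xb21 yb12 zb25) (kb xb16 yb24 zb1) (kb xb19 yb23 zb34) (kb xb21 yb12 zb23) (kb xb19 yb16 zb12) (kb xb21 yb12 zb29) (kb xb19 yb21 zb34) (kb xb16 yb24 zb9) (kb xb19 yb5 zb28) (kb xb17 yb10 zb28) (kb xb18 yb16 zb20) (kb xb16 yb24 zb11) (kb xb16 yb24 zb13) (kb xb19 yb24 zb24) (kb xb17 yb12 zb7) (kb xb18 yb21 zb25) (kb xb16 yb24 zb16) (kb xb17 yb4 zb28) (kb xb19 yb10 zb21) (kb xb19 yb10 zb4) (kb xb19 yb13 zb38) (kb xb16 yb24 zb29) (kb xb19 yb21 zb30) (kb xb17 yb17 zb36) (kb xb20 yb7 zb38)) (@D3.rec (fun _ => Pt) (kb xb16 yb25 zb1) (kb xb18 yb20 zb4) (kb xb18 yb24 zb1) (kb xb20 yb0 zb18) (kb xb16 yb25 zb3) (kb xb20 yb14 zb31) (kb xb18 yb19 zb37) (kb xb18 yb18 zb19) (kb xb19 yb6 zb21) (kb xb18 yb3 zb39) (kb xb17 yb1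 zb18) (kb xb18 yb12 zb36) (kb xb18 yb7 zb28) (kb xb16 yb25 zb26) (kb xb18 yb6 zb39) (kb xb20 yb4 zb7) (kb xb18 yb5 zb14) (kb xb16 yb25 zb30) (kb xb19 yb16 zb31) (kb xb17 yb16 zb15) (kb xb17 yb17 zb39) (kb xb21 yb2 zb39) (kb xb19 yb23 zb28) (kb xb17 yb0 zb5) (kb xb19 yb23 zb27) (kb xb21 yb12 zb37) (kb xb17 yb0 zb8) (kb xb19 yb23 zb24) (kb xb19 yb23 zb22) (kb xb19 yb21 zb18) (kb xb18 yb15 zb10) (kb xb19 yb22 zb3) (kb xb19 yb13 zb18) (kb xb17 yb0 zb21) (kb xb19 yb22 zb17) (kb xb17 yb19 zb18) (kb xb20 yb9 zb8) (kb xb17 yb0 zb33) (kb xb18 yb14 zb16) (kb xb19 yb0 zb14)) (@D3.rec (fun _ => Pt) (kb xb20 yb0 zb8) (kb xb17 yb0 zb35) (kb xb20 yb15 zb35) (kb xb18 yb14 zb8) (kb xb18 yb23 zb19) (kb xb19 yb7 zb1) (kb xb18 yb18 zb30) (kb xb18 yb11 zb5) (kb xb17 yb1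 zb15) (kb xb18 yb10 zb18) (kb xb20 yb4 zb33) (kb xb19 yb18 zb10) (kb xb17 yb14 zb38) (kb xb17 yb19 zb21) (kb xb21 yb3 zb38) (kb xb19 yb24 zb21) (kb xb17 yb1 zb34) (kb xb19 yb24 zb20) (kb xb21 yb13 zb3) (kb xb17 yb1 zb36) (kb xb19 yb24 zb17) (kb xb19 yb24 zb15) (kb xb19 yb21 zb15) (kb xb18 yb20 zb36) (kb xb19 yb22 zb28) (kb xb18 yb22 zb30) (kb xb18 yb21 zb2) (kb xb17 yb2 zb9) (kb xb19 yb25 zb19) (kb xb21 yb13 zb8) (kb xb18 yb15 zb21) (kb xb18 yb8 zb37) (kb xb18 yb15 zb22) (kb xb17 yb2 zb14) (kb xb18 yb20 zb34) (kb xb21 yb7 zb25) (kb xb21 yb11 zb5) (kb xb17 yb2 zb24) (kb xb18 yb17 zb29) (kb xb17 yb2 zb28)) (@D3.rec (fun _ => Pt) (kb xb19 yb25 zb29) (kb xb18 yb21 zb1) (kb xb21 yb13 zb13) (kb xb18 yb12 zb11) (kb xb17 yb2 zb33) (kb xb18 yb15 zb7) (kb xb21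 yb10 zb25) (kb xb21 yb7 zb22) (kb xb17 yb3 zb1) (kb xb21 yb11 zb14) (kb xb19 yb25 zb24) (kb xb17 yb3 zb3) (kb xb17 yb3 zb4) (kb xb18 yb17 zb20) (kb xb18 yb17 zb18) (kb xb21 yb13 zb15) (kb xb17 yb3 zb9) (kb xb21 yb13 zb18) (kb xb19 yb25 zb18) (kb xb19 yb24 zb28) (kb xb21 yb13 zb22) (kb xb20 yb25 zb8) (kb xb21 yb13 zb9) (kb xb17 yb3 zb13) (kb xb19 yb25 zb10) (kb xb21 yb10 zb36) (kb xb17 yb3 zb18) (kb xb17 yb3 zb19) (kb xb18 yb22 zb22) (kb xb19 yb25 zb0) (kb xb21 yb1 zb18) (kb xb18 yb14 zb26) (kb xb19 yb9 zb16) (kb xb18 yb2 zb0) (kb xb19 yb12 zb22) (kb xb18 yb20 zb15) (kb xb19 yb9 zb13) (kb xb18 yb0 zb29) (kb xb19 yb12 zb33) (kb xb20 yb14 zb29))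
def f_b_20 : D2 → D3 → Pt := @D2.rec (fun _ => D3 → Pt) (@D3.rec (fun _ => Pt) (kb xb20 yb14 zb36) (kb xb18 yb17 zb13) (kb xb19 yb14 zb18) (kb xb19 yb1 zb9) (kb xb17 yb15 zb6) (kb xb17 yb5 zb19) (kb xb19 yb1 zb24) (kb xb19 yb1 zb30) (kb xb19 yb24 zb0) (kb xb20 yb15 zb33) (kb xb20 yb16 zb0) (kb xb18 yb22 zb18) (kb xb19 yb16 zb1) (kb xb18 yb24 zb35) (kb xb17 yb16 zb23) (kb xb17 yb6 zb1) (kb xb18 yb25 zb11) (kb xb18 yb25 zb17) (kb xb19 yb23 zb3) (kb xb17 yb15 zb10) (kb xb17 yb16 zb27) (kb xb17 yb6 zb12) (kb xb17 yb6 zb22) (kb xb19 yb17 zb13) (kb xb19 yb18 zb31) (kb xb18 yb24 zb0) (kb xb19 yb0 zb15) (kb xb17 yb8 zb3) (kb xb17 yb10 zb2) (kb xb17 yb8 zb7) (kb xb17 yb11 zb16) (kb xb19 yb16 zb5) (kb xb17 yb7 zb13) (kb xb20 yb12 zb23) (kb xb19 yb14 zb23) (kb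 xb17 yb7 zb19) (kb xb20 yb12 zb34) (kb xb21 yb2 zb25) (kb xb21 yb4 zb25) (kb xb21 yb6 zb0)) (@D3.rec (fun _ => Pt) (kb xb17 yb7 zb29) (kb xb21 yb3 zb23) (kb xb21 yb5 zb0) (kb xb21 yb6 zb13) (kb xb17 yb7 zb37) (kb xb20 yb14 zb10) (kb xb20 yb15 zb14) (kb xb20 yb8 zb7) (kb xb17 yb8 zb9) (kb xb18 yb25 zb1) (kb xb17 yb8 zb11) (kb xb21 yb13 zb24) (kb xb21 yb0 zb7) (kb xb21 yb13 zb27) (kb xb20 yb9 zb20) (kb xb17 yb8 zb15) (kb xb19 yb1 zb16) (kb xb17 yb8 zb17) (kb xb21 yb13 zb25) (kb xb21 yb2 zb3) (kb xb21 yb13 zb30) (kb xb17 yb19 zb33) (kb xb21 yb13 zb33) (kb xb20 yb10 zb12) (kb xb17 yb8 zb22) (kb xb17 yb8 zb23) (kb xb20 yb11 zb30) (kb xb20 yb1 zb28) (kb xb20 yb1 zb27) (kb xb21 yb0 zb31) (kb xb18 yb7 zb35) (kb xb17 yb14 zb22) (kb xb21 yb8 zb14) (kb xb20 yb1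 zb39) (kb xb20 yb21 zb19) (kb xb17 yb25 zb4) (kb xb20 yb14 zb34) (kb xb17 yb8 zb37) (kb xb17 yb9 zb0) (kb xb20 yb1 zb33)) (@D3.rec (fun _ => Pt) (kb xb17 yb9 zb2) (kb xb21 yb4 zb12) (kb xb21 yb10 zb14) (kb xb17 yb9 zb6) (kb xb18 yb9 zb33) (kb xb21 yb13 zb38) (kb xb17 yb20 zb24) (kb xb17 yb9 zb10) (kb xb20 yb10 zb31) (kb xb20 yb11 zb39) (kb xb20 yb2 zb12) (kb xb17 yb9 zb14) (kb xb20 yb2 zb10) (kb xb20 yb24 zb10) (kb xb18 yb11 zb12) (kb xb17 yb15 zb39) (kb xb21 yb8 zb21) (kb xb20 yb2 zb23) (kb xb20 yb18 zb8) (kb xb17 yb25 zb15) (kb xb20 yb15 zb37) (kb xb17 yb9 zb27) (kb xb17 yb9 zb29) (kb xb20 yb2 zb17) (kb xb17 yb9 zb31) (kb xb21 yb3 zb14) (kb xb21 yb10 zb3) (kb xb17 yb9 zb35) (kb xb18 yb6 zb14) (kb xb21 yb14 zb4) (kb xb17 yb10 zb3) (kb xb21 yb14 zb5)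 (kb xb17 yb10 zb4) (kb xb17 yb10 zb10) (kb xb17 yb10 zb14) (kb xb17 yb10 zb16) (kb xb20 yb21 zb25) (kb xb21 yb6 zb25) (kb xb20 yb15 zb1) (kb xb17 yb13 zb4)) (@D3.rec (fun _ => Pt) (kb xb17 yb12 zb37) (kb xb17 yb10 zb20) (kb xb21 yb14 zb13) (kb xb17 yb10 zb26) (kb xb20 yb5 zb21) (kb xb17 yb10 zb22) (kb xb21 yb14 zb19) (kb xb21 yb8 zb10) (kb xb21 yb7 zb3) (kb xb18 yb1 zb3) (kb xb21 yb12 zb16) (kb xb21 yb12 zb27) (kb xb17 yb10 zb29) (kb xb21 yb14 zb22) (kb xb21 yb13 zb0) (kb xb17 yb11 zb1) (kb xb21 yb12 zb32) (kb xb18 yb18 zb24) (kb xb21 yb14 zb23) (kb xb17 yb11 zb17) (kb xb21 yb14 zb24) (kb xb17 yb11 zb18) (kb xb17 yb11 zb24) (kb xb17 yb11 zb28) (kb xb17 yb11 zb30) (kb xb20 yb18 zb14) (kb xb21 yb6 zb36) (kb xb20 yb13 zb36) (kb xb17 yb13 zb29) (kb xb17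 yb13 zb22) (kb xb17 yb11 zb34) (kb xb21 yb14 zb18) (kb xb17 yb12 zb0) (kb xb20 yb6 zb20) (kb xb17 yb11 zb36) (kb xb21 yb14 zb14) (kb xb21 yb8 zb17) (kb xb21 yb7 zb7) (kb xb18 yb2 zb15) (kb xb21 yb12 zb17)) (@D3.rec (fun _ => Pt) (kb xb21 yb12 zb13) (kb xb17 yb12 zb3) (kb xb21 yb14 zb16) (kb xb17 yb12 zb14) (kb xb18 yb23 zb24) (kb xb17 yb12 zb24) (kb xb21 yb14 zb36) (kb xb19 yb23 zb15) (kb xb17 yb12 zb26) (kb xb18 yb2 zb10) (kb xb17 yb12 zb28) (kb xb17 yb12 zb30) (kb xb21 yb15 zb2) (kb xb20 yb4 zb13) (kb xb21 yb15 zb1) (kb xb17 yb12 zb33) (kb xb21 yb15 zb4) (kb xb17 yb12 zb38) (kb xb20 yb13 zb37) (kb xb17 yb12 zb35) (kb xb19 yb1 zb1) (kb xb21 yb8 zb9) (kb xb19 yb1 zb19) (kb xb18 yb1 zb6) (kb xb19 yb1 zb13) (kb xb17 yb23 zb38) (kb xb20 yb10 zb18) (kb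 xb17 yb13 zb6) (kb xb20 yb23 zb19) (kb xb17 yb14 zb39) (kb xb17 yb13 zb8) (kb xb17 yb13 zb9) (kb xb21 yb15 zb9) (kb xb19 yb24 zb10) (kb xb17 yb13 zb11) (kb xb18 yb0 zb38) (kb xb17 yb13 zb13) (kb xb17 yb13 zb15) (kb xb21 yb15 zb15) (kb xb20 yb4 zb39)) (@D3.rec (fun _ => Pt) (kb xb21 yb15 zb14) (kb xb17 yb13 zb18) (kb xb21 yb15 zb17) (kb xb17 yb13 zb23) (kb xb20 yb15 zb2) (kb xb17 yb13 zb20) (kb xb18 yb24 zb27) (kb xb21 yb8 zb16) (kb xb18 yb25 zb3) (kb xb18 yb2 zb18) (kb xb18 yb24 zb38) (kb xb17 yb23 zb23) (kb xb20 yb9 zb38) (kb xb17 yb13 zb31) (kb xb20 yb20 zb27) (kb xb17 yb16 zb16) (kb xb17 yb13 zb33) (kb xb17 yb13 zb35) (kb xb21 yb1 zb26) (kb xb21 yb10 zb22) (kb xb17 yb14 zb1) (kb xb20 yb3 zb4) (kb xb17 yb14 zb3) (kb xb21 yb15 zb24) (kb xb19 yb8 zb6)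 (kb xb20 yb14 zb9) (kb xb21 yb1 zb9) (kb xb19 yb18 zb27) (kb xb20 yb24 zb35) (kb xb17 yb14 zb13) (kb xb19 yb12 zb19) (kb xb19 yb9 zb11) (kb xb21 yb10 zb15) (kb xb20 yb8 zb1) (kb xb18 yb0 zb33) (kb xb17 yb14 zb20) (kb xb18 yb7 zb7) (kb xb21 yb15 zb27) (kb xb17 yb14 zb31) (kb xb18 yb7 zb36)) (@D3.rec (fun _ => Pt) (kb xb21 yb14 zb11) (kb xb21 yb15 zb28) (kb xb17 yb14 zb25) (kb xb17 yb14 zb28) (kb xb20 yb10 zb32) (kb xb17 yb14 zb30) (kb xb20 yb18 zb24) (kb xb20 yb21 zb34) (kb xb20 yb11 zb31) (kb xb21 yb15 zb31) (kb xb17 yb14 zb34) (kb xb20 yb18 zb35) (kb xb21 yb15 zb33) (kb xb17 yb18 zb0) (kb xb18 yb9 zb15) (kb xb17 yb15 zb8) (kb xb17 yb15 zb14) (kb xb20 yb25 zb21) (kb xb21 yb10 zb8) (kb xb17 yb15 zb20) (kb xb20 yb3 zb33) (kb xb17 yb15 zb22) (kb xb21 yb15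 zb36) (kb xb19 yb8 zb14) (kb xb20 yb15 zb15) (kb xb19 yb17 zb9) (kb xb17 yb15 zb30) (kb xb19 yb12 zb7) (kb xb19 yb9 zb4) (kb xb21 yb9 zb36) (kb xb20 yb9 zb14) (kb xb18 yb2 zb4) (kb xb17 yb15 zb37) (kb xb18 yb10 zb27) (kb xb21 yb15 zb39) (kb xb17 yb16 zb8) (kb xb18 yb11 zb13) (kb xb21 yb14 zb30) (kb xb21 yb16 zb0) (kb xb17 yb16 zb2)) (@D3.rec (fun _ => Pt) (kb xb17 yb16 zb5) (kb xb20 yb10 zb8) (kb xb17 yb16 zb7) (kb xb20 yb12 zb0) (kb xb21 yb16 zb3) (kb xb17 yb16 zb11) (kb xb20 yb22 zb2) (kb xb21 yb16 zb5) (kb xb17 yb19 zb20) (kb xb18 yb5 zb35) (kb xb17 yb16 zb25) (kb xb19 yb10 zb6) (kb xb17 yb16 zb31) (kb xb17 yb16 zb33) (kb xb17 yb16 zb35) (kb xb17 yb18 zb21) (kb xb17 yb16 zb39) (kb xb20 yb7 zb32) (kb xb21 yb16 zb10) (kb xb17 yb16 zb38) (kb xb18 yb2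 zb14) (kb xb21 yb16 zb12) (kb xb17 yb17 zb1) (kb xb18 yb1 zb1) (kb xb21 yb16 zb8) (kb xb17 yb17 zb3) (kb xb17 yb17 zb4) (kb xb21 yb4 zb26) (kb xb21 yb16 zb16) (kb xb17 yb17 zb6) (kb xb19 yb1 zb7) (kb xb17 yb17 zb14) (kb xb20 yb7 zb17) (kb xb18 yb21 zb17) (kb xb17 yb17 zb9) (kb xb19 yb2 zb9) (kb xb18 yb19 zb1) (kb xb17 yb17 zb16) (kb xb19 yb22 zb39) (kb xb19 yb14 zb33)) (@D3.rec (fun _ => Pt) (kb xb21 yb16 zb19) (kb xb20 yb5 zb33) (kb xb18 yb18 zb22) (kb xb17 yb17 zb23) (kb xb21 yb16 zb25) (kb xb17 yb17 zb27) (kb xb21 yb9 zb23) (kb xb20 yb1 zb7) (kb xb17 yb17 zb31) (kb xb21 yb16 zb26) (kb xb18 yb17 zb0) (kb xb21 yb16 zb27) (kb xb17 yb17 zb35) (kb xb17 yb24 zb22) (kb xb20 yb8 zb14) (kb xb18 yb6 zb36) (kb xb20 yb18 zb23) (kb xb21 yb16 zb31) (kb xb17 yb24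 zb24) (kb xb18 yb10 zb15) (kb xb19 yb13 zb4) (kb xb17 yb18 zb8) (kb xb18 yb6 zb27) (kb xb18 yb0 zb31) (kb xb19 yb13 zb0) (kb xb21 yb16 zb34) (kb xb19 yb10 zb23) (kb xb17 yb18 zb13) (kb xb17 yb18 zb15) (kb xb17 yb18 zb17) (kb xb20 yb9 zb11) (kb xb21 yb16 zb9) (kb xb17 yb18 zb20) (kb xb18 yb1 zb4) (kb xb21 yb16 zb7) (kb xb17 yb18 zb23) (kb xb18 yb2 zb12) (kb xb21 yb16 zb36) (kb xb17 yb18 zb25) (kb xb17 yb18 zb26)) (@D3.rec (fun _ => Pt) (kb xb21 yb4 zb39) (kb xb21 yb17 zb1) (kb xb17 yb18 zb28) (kb xb18 yb16 zb2) (kb xb17 yb18 zb30) (kb xb18 yb25 zb37) (kb xb18 yb13 zb6) (kb xb17 yb18 zb36) (kb xb19 yb23 zb36) (kb xb18 yb24 zb34) (kb xb17 yb18 zb39) (kb xb20 yb8 zb30) (kb xb19 yb14 zb37) (kb xb21 yb17 zb4) (kb xb20 yb6 zb30) (kb xb18 yb23 zb22) (kb xb17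 yb19 zb5) (kb xb21 yb17 zb8) (kb xb17 yb19 zb9) (kb xb21 yb9 zb8) (kb xb20 yb1 zb14) (kb xb17 yb19 zb13) (kb xb21 yb17 zb9) (kb xb18 yb22 zb6) (kb xb21 yb17 zb10) (kb xb17 yb19 zb16) (kb xb20 yb9 zb26) (kb xb21 yb17 zb13) (kb xb20 yb21 zb33) (kb xb19 yb13 zb24) (kb xb17 yb19 zb26) (kb xb18 yb10 zb6) (kb xb18 yb2 zb2) (kb xb19 yb12 zb29) (kb xb21 yb17 zb15) (kb xb17 yb19 zb30) (kb xb17 yb19 zb31) (kb xb17 yb19 zb35) (kb xb20 yb5 zb12) (kb xb18 yb25 zb24)) (@D3.rec (fun _ => Pt) (kb xb17 yb19 zb38) (kb xb17 yb24 zb38) (kb xb20 yb12 zb29) (kb xb17 yb20 zb1) (kb xb17 yb20 zb3) (kb xb21 yb0 zb34) (kb xb21 yb17 zb18) (kb xb17 yb20 zb6) (kb xb20 yb7 zb1) (kb xb17 yb20 zb9) (kb xb21 yb17 zb21) (kb xb17 yb20 zb15) (kb xb20 yb1 zb23) (kb xb21 yb17 zb23) (kb xb21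 yb17 zb26) (kb xb17 yb20 zb18) (kb xb17 yb20 zb19) (kb xb17 yb20 zb22) (kb xb20 yb4 zb26) (kb xb19 yb2 zb0) (kb xb17 yb20 zb26) (kb xb17 yb25 zb9) (kb xb20 yb13 zb0) (kb xb17 yb20 zb28) (kb xb17 yb20 zb31) (kb xb20 yb24 zb16) (kb xb21 yb17 zb20) (kb xb17 yb20 zb33) (kb xb17 yb20 zb36) (kb xb21 yb17 zb30) (kb xb17 yb21 zb1) (kb xb20 yb2 zb8) (kb xb20 yb6 zb4) (kb xb21 yb17 zb32) (kb xb21 yb17 zb35) (kb xb17 yb21 zb12) (kb xb17 yb21 zb16) (kb xb18 yb23 zb39) (kb xb19 yb0 zb13) (kb xb19 yb16 zb18)) (@D3.rec (fun _ => Pt) (kb xb17 yb21 zb39) (kb xb19 yb12 zb36) (kb xb21 yb17 zb36) (kb xb20 yb22 zb16) (kb xb19 yb6 zb13) (kb xb17 yb22 zb6) (kb xb19 yb0 zb27) (kb xb20 yb12 zb11) (kb xb21 yb5 zb25) (kb xb17 yb22 zb19) (kb xb19 yb15 zb11) (kb xb17 yb22 zb13)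 (kb xb19 yb12 zb25) (kb xb21 yb17 zb38) (kb xb20 yb19 zb11) (kb xb19 yb5 zb15) (kb xb18 yb24 zb14) (kb xb20 yb12 zb6) (kb xb21 yb5 zb9) (kb xb21 yb11 zb18) (kb xb21 yb10 zb39) (kb xb17 yb23 zb7) (kb xb21 yb5 zb31) (kb xb17 yb23 zb11) (kb xb21 yb6 zb4) (kb xb17 yb23 zb21) (kb xb21 yb15 zb21) (kb xb20 yb25 zb38) (kb xb20 yb12 zb22) (kb xb17 yb23 zb26) (kb xb20 yb1 zb26) (kb xb20 yb6 zb8) (kb xb18 yb12 zb0) (kb xb17 yb23 zb30) (kb xb17 yb23 zb36) (kb xb21 yb15 zb8) (kb xb21 yb1 zb35) (kb xb20 yb12 zb33) (kb xb17 yb24 zb1) (kb xb20 yb2 zb9)) (@D3.rec (fun _ => Pt) (kb xb20 yb7 zb3) (kb xb18 yb8 zb23) (kb xb17 yb24 zb5) (kb xb17 yb24 zb9) (kb xb21 yb9 zb3) (kb xb21 yb14 zb33) (kb xb20 yb11 zb17) (kb xb17 yb24 zb10) (kb xb17 yb24 zb15) (kb xb21 yb8 zb38)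 (kb xb21 yb14 zb17) (kb xb20 yb11 zb7) (kb xb17 yb24 zb16) (kb xb17 yb25 zb35) (kb xb20 yb12 zb14) (kb xb17 yb25 zb33) (kb xb20 yb12 zb16) (kb xb18 yb17 zb26) (kb xb18 yb22 zb27) (kb xb18 yb0 zb2) (kb xb18 yb0 zb14) (kb xb17 yb24 zb36) (kb xb20 yb11 zb28) (kb xb20 yb0 zb33) (kb xb19 yb14 zb30) (kb xb21 yb18 zb10) (kb xb19 yb4 zb32) (kb xb17 yb25 zb2) (kb xb19 yb6 zb12) (kb xb20 yb10 zb2) (kb xb20 yb15 zb36) (kb xb20 yb14 zb35) (kb xb17 yb25 zb7) (kb xb20 yb11 zb37) (kb xb20 yb0 zb36) (kb xb19 yb16 zb9) (kb xb21 yb18 zb11) (kb xb19 yb6 zb8) (kb xb17 yb25 zb13) (kb xb19 yb5 zb16)) (@D3.rec (fun _ => Pt) (kb xb20 yb10 zb22) (kb xb20 yb14 zb32) (kb xb20 yb15 zb39) (kb xb21 yb5 zb22) (kb xb19 yb15 zb22) (kb xb19 yb18 zb30) (kb xb17 yb25 zb24) (kb xb18 yb15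 zb3) (kb xb21 yb5 zb15) (kb xb19 yb15 zb29) (kb xb19 yb17 zb12) (kb xb17 yb25 zb31) (kb xb18 yb20 zb29) (kb xb21 yb18 zb12) (kb xb21 yb18 zb8) (kb xb21 yb18 zb15) (kb xb21 yb18 zb6) (kb xb18 yb2 zb8) (kb xb19 yb11 zb15) (kb xb18 yb0 zb4) (kb xb19 yb11 zb14) (kb xb20 yb19 zb30) (kb xb18 yb0 zb6) (kb xb19 yb6 zb27) (kb xb21 yb3 zb7) (kb xb18 yb0 zb37) (kb xb19 yb11 zb18) (kb xb18 yb0 zb15) (kb xb19 yb11 zb17) (kb xb20 yb22 zb29) (kb xb18 yb0 zb17) (kb xb19 yb7 zb7) (kb xb21 yb4 zb5) (kb xb21 yb18 zb18) (kb xb19 yb9 zb24) (kb xb18 yb0 zb22) (kb xb20 yb3 zb27) (kb xb20 yb4 zb18) (kb xb18 yb0 zb24) (kb xb20 yb16 zb11)) (@D3.rec (fun _ => Pt) (kb xb18 yb1 zb14) (kb xb21 yb18 zb19) (kb xb18 yb0 zb32) (kb xb21 yb16 zb23) (kb xb21 yb3 zb25) (kb xb18 yb0 zb35)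 (kb xb21 yb9 zb28) (kb xb18 yb0 zb39) (kb xb21 yb0 zb30) (kb xb20 yb5 zb25) (kb xb20 yb1 zb5) (kb xb18 yb1 zb33) (kb xb18 yb1 zb8) (kb xb20 yb16 zb33) (kb xb19 yb11 zb24) (kb xb21 yb1 zb15) (kb xb18 yb18 zb18) (kb xb18 yb1 zb13) (kb xb21 yb10 zb16) (kb xb18 yb1 zb15) (kb xb21 yb18 zb21) (kb xb18 yb1 zb17) (kb xb21 yb17 zb16) (kb xb20 yb17 zb8) (kb xb21 yb10 zb13) (kb xb18 yb1 zb19) (kb xb18 yb1 zb20) (kb xb19 yb12 zb27) (kb xb18 yb1 zb22) (kb xb19 yb25 zb39) (kb xb21 yb18 zb22) (kb xb19 yb23 zb5) (kb xb20 yb13 zb1) (kb xb19 yb13 zb34) (kb xb20 yb1 zb36) (kb xb20 yb12 zb31) (kb xb20 yb0 zb0) (kb xb20 yb23 zb35) (kb xb20 yb18 zb31) (kb xb21 yb18 zb31)) (@D3.rec (fun _ => Pt) (kb xb19 yb9 zb20) (kb xb20 yb2 zb38) (kb xb20 yb5 zb4) (kb xb18 yb1 zb35) (kb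 xb18 yb2 zb24) (kb xb20 yb17 zb13) (kb xb21 yb18 zb32) (kb xb18 yb2 zb3) (kb xb21 yb16 zb24) (kb xb21 yb2 zb27) (kb xb18 yb2 zb6) (kb xb21 yb9 zb13) (kb xb18 yb2 zb9) (kb xb20 yb24 zb9) (kb xb20 yb1 zb6) (kb xb20 yb6 zb24) (kb xb18 yb2 zb19) (kb xb20 yb17 zb35) (kb xb19 yb11 zb31) (kb xb18 yb23 zb18) (kb xb20 yb25 zb4) (kb xb21 yb9 zb37) (kb xb18 yb2 zb25) (kb xb18 yb2 zb26) (kb xb21 yb18 zb34) (kb xb18 yb2 zb28) (kb xb21 yb17 zb27) (kb xb20 yb16 zb6) (kb xb21 yb10 zb10) (kb xb18 yb2 zb30) (kb xb18 yb2 zb31) (kb xb19 yb12 zb38) (kb xb18 yb2 zb33) (kb xb20 yb0 zb9) (kb xb21 yb18 zb35) (kb xb19 yb24 zb2) (kb xb20 yb12 zb30) (kb xb20 yb2 zb20) (kb xb19 yb13 zb14) (kb xb20 yb13 zb2)) (@D3.rec (fun _ => Pt) (kb xb20 yb0 zb10) (kb xb20 yb21 zb10) (kb xb20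 yb21 zb17) (kb xb21 yb19 zb4) (kb xb18 yb3 zb2) (kb xb21 yb19 zb6) (kb xb20 yb15 zb27) (kb xb19 yb18 zb21) (kb xb18 yb3 zb9) (kb xb20 yb17 zb25) (kb xb18 yb3 zb11) (kb xb20 yb13 zb39) (kb xb21 yb4 zb38) (kb xb20 yb16 zb29) (kb xb21 yb10 zb32) (kb xb18 yb3 zb16) (kb xb18 yb3 zb32) (kb xb18 yb3 zb18) (kb xb18 yb3 zb20) (kb xb19 yb15 zb4) (kb xb20 yb16 zb38) (kb xb19 yb20 zb11) (kb xb20 yb16 zb34) (kb xb20 yb17 zb11) (kb xb18 yb3 zb29) (kb xb21 yb19 zb10) (kb xb18 yb3 zb33) (kb xb19 yb6 zb18) (kb xb18 yb4 zb10) (kb xb20 yb16 zb13) (kb xb21 yb12 zb33) (kb xb18 yb4 zb0) (kb xb21 yb17 zb11) (kb xb20 yb14 zb13) (kb xb20 yb16 zb22) (kb xb18 yb4 zb2) (kb xb21 yb11 zb16) (kb xb18 yb4 zb9) (kb xb20 yb16 zb20) (kb xb18 yb4 zb4)) (@D3.rec (fun _ => Pt) (kb xb18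 yb4 zb5) (kb xb18 yb4 zb12) (kb xb20 yb18 zb3) (kb xb21 yb19 zb18) (kb xb21 yb10 zb12) (kb xb21 yb19 zb21) (kb xb18 yb4 zb13) (kb xb21 yb19 zb20) (kb xb20 yb14 zb23) (kb xb19 yb17 zb3) (kb xb18 yb4 zb24) (kb xb20 yb16 zb23) (kb xb18 yb4 zb26) (kb xb20 yb15 zb5) (kb xb21 yb4 zb24) (kb xb20 yb17 zb31) (kb xb21 yb11 zb11) (kb xb18 yb4 zb31) (kb xb18 yb5 zb6) (kb xb18 yb4 zb33) (kb xb18 yb4 zb35) (kb xb19 yb16 zb14) (kb xb20 yb18 zb0) (kb xb19 yb19 zb25) (kb xb20 yb17 zb36) (kb xb20 yb16 zb9) (kb xb18 yb5 zb4) (kb xb21 yb19 zb7) (kb xb18 yb5 zb8) (kb xb19 yb6 zb38) (kb xb18 yb5 zb25) (kb xb20 yb17 zb15) (kb xb21 yb12 zb36) (kb xb18 yb5 zb15) (kb xb21 yb16 zb28) (kb xb20 yb15 zb17) (kb xb20 yb17 zb24) (kb xb18 yb5 zb17) (kb xb21 yb10 zb34) (kb xb18 yb5 zb24))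 (@D3.rec (fun _ => Pt) (kb xb20 yb17 zb22) (kb xb18 yb5 zb19) (kb xb18 yb5 zb20) (kb xb20 yb17 zb2) (kb xb21 yb19 zb32) (kb xb21 yb10 zb7) (kb xb18 yb5 zb27) (kb xb18 yb5 zb32) (kb xb20 yb2 zb18) (kb xb18 yb5 zb33) (kb xb21 yb15 zb30) (kb xb18 yb6 zb1) (kb xb21 yb3 zb18) (kb xb21 yb14 zb25) (kb xb20 yb3 zb25) (kb xb18 yb11 zb37) (kb xb18 yb6 zb4) (kb xb21 yb9 zb7) (kb xb21 yb19 zb39) (kb xb21 yb19 zb38) (kb xb19 yb9 zb8) (kb xb18 yb6 zb5) (kb xb18 yb6 zb6) (kb xb20 yb8 zb16) (kb xb20 yb6 zb6) (kb xb20 yb19 zb35) (kb xb18 yb6 zb8) (kb xb21 yb9 zb38) (kb xb18 yb6 zb13) (kb xb21 yb19 zb34) (kb xb18 yb6 zb15) (kb xb20 yb14 zb38) (kb xb19 yb1 zb20) (kb xb20 yb18 zb33) (kb xb18 yb6 zb24) (kb xb20 yb6 zb11) (kb xb18 yb6 zb30) (kb xb20 yb18 zb37) (kb xb21 yb0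 zb18) (kb xb18 yb23 zb1)) (@D3.rec (fun _ => Pt) (kb xb18 yb6 zb32) (kb xb18 yb22 zb38) (kb xb18 yb6 zb35) (kb xb21 yb15 zb29) (kb xb21 yb12 zb34) (kb xb18 yb7 zb1) (kb xb21 yb20 zb4) (kb xb21 yb15 zb19) (kb xb21 yb20 zb8) (kb xb18 yb7 zb6) (kb xb21 yb15 zb26) (kb xb20 yb11 zb14) (kb xb18 yb7 zb3) (kb xb18 yb7 zb5) (kb xb18 yb11 zb24) (kb xb20 yb23 zb12) (kb xb21 yb20 zb11) (kb xb18 yb7 zb11) (kb xb20 yb25 zb10) (kb xb20 yb20 zb20) (kb xb18 yb8 zb9) (kb xb18 yb8 zb31) (kb xb18 yb10 zb9) (kb xb18 yb12 zb6) (kb xb18 yb7 zb19) (kb xb21 yb20 zb13) (kb xb20 yb21 zb3) (kb xb18 yb7 zb22) (kb xb18 yb23 zb4) (kb xb20 yb21 zb9) (kb xb20 yb13 zb21) (kb xb20 yb21 zb11) (kb xb18 yb7 zb25) (kb xb18 yb24 zb29) (kb xb18 yb7 zb29) (kb xb20 yb18 zb25) (kb xb18 yb25 zb6)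 (kb xb18 yb7 zb37) (kb xb21 yb18 zb16) (kb xb18 yb8 zb1)) (@D3.rec (fun _ => Pt) (kb xb18 yb8 zb0) (kb xb21 yb20 zb2) (kb xb20 yb22 zb39) (kb xb20 yb23 zb0) (kb xb21 yb0 zb11) (kb xb21 yb20 zb21) (kb xb21 yb1 zb23) (kb xb18 yb8 zb6) (kb xb20 yb23 zb4) (kb xb18 yb8 zb8) (kb xb21 yb20 zb23) (kb xb21 yb20 zb24) (kb xb18 yb8 zb11) (kb xb18 yb8 zb12) (kb xb21 yb9 zb29) (kb xb18 yb11 zb38) (kb xb19 yb8 zb32) (kb xb18 yb10 zb30) (kb xb20 yb22 zb20) (kb xb18 yb9 zb2) (kb xb20 yb19 zb19) (kb xb21 yb20 zb31) (kb xb18 yb8 zb20) (kb xb21 yb20 zb32) (kb xb21 yb8 zb22) (kb xb18 yb8 zb21) (kb xb18 yb8 zb25) (kb xb20 yb5 zb14) (kb xb18 yb8 zb24) (kb xb18 yb23 zb12) (kb xb18 yb8 zb27) (kb xb18 yb9 zb1) (kb xb20 yb20 zb32) (kb xb21 yb13 zb5) (kb xb21 yb20 zb38) (kb xb18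 yb10 zb36) (kb xb18 yb8 zb30) (kb xb21 yb20 zb39) (kb xb20 yb20 zb38) (kb xb18 yb8 zb33)) (@D3.rec (fun _ => Pt) (kb xb18 yb22 zb31) (kb xb18 yb8 zb34) (kb xb21 yb21 zb1) (kb xb20 yb19 zb26) (kb xb18 yb8 zb36) (kb xb20 yb23 zb31) (kb xb21 yb21 zb3) (kb xb18 yb9 zb4) (kb xb19 yb12 zb3) (kb xb20 yb19 zb29) (kb xb20 yb16 zb1) (kb xb20 yb19 zb31) (kb xb18 yb9 zb7) (kb xb21 yb4 zb1) (kb xb19 yb11 zb37) (kb xb18 yb9 zb9) (kb xb18 yb9 zb28) (kb xb20 yb16 zb2) (kb xb18 yb9 zb12) (kb xb20 yb1 zb34) (kb xb18 yb9 zb13) (kb xb21 yb16 zb2) (kb xb18 yb9 zb21) (kb xb21 yb2 zb20) (kb xb21 yb14 zb6) (kb xb20 yb2 zb36) (kb xb18 yb9 zb24) (kb xb21 yb9 zb22) (kb xb21 yb21 zb6) (kb xb21 yb21 zb12) (kb xb19 yb9 zb1) (kb xb18 yb9 zb25) (kb xb18 yb9 zb26) (kb xb20 yb9 zb28)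 (kb xb20 yb6 zb7) (kb xb20 yb22 zb33) (kb xb21 yb10 zb17) (kb xb18 yb9 zb32) (kb xb21 yb21 zb10) (kb xb18 yb9 zb34)) (@D3.rec (fun _ => Pt) (kb xb20 yb22 zb0) (kb xb18 yb10 zb3) (kb xb20 yb7 zb6) (kb xb20 yb22 zb3) (kb xb21 yb2 zb12) (kb xb18 yb17 zb39) (kb xb18 yb10 zb11) (kb xb18 yb17 zb36) (kb xb18 yb10 zb14) (kb xb21 yb16 zb1) (kb xb21 yb13 zb1) (kb xb18 yb10 zb20) (kb xb21 yb21 zb16) (kb xb21 yb15 zb6) (kb xb21 yb21 zb20) (kb xb18 yb10 zb25) (kb xb20 yb11 zb3) (kb xb21 yb15 zb38) (kb xb18 yb10 zb23) (kb xb18 yb10 zb24) (kb xb20 yb20 zb18) (kb xb21 yb20 zb26) (kb xb21 yb1 zb19) (kb xb18 yb11 zb25) (kb xb20 yb23 zb14) (kb xb21 yb21 zb22) (kb xb20 yb23 zb29) (kb xb18 yb10 zb39) (kb xb18 yb18 zb3) (kb xb20 yb13 zb29) (kb xb18 yb11 zb2) (kb xb19 yb1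 zb2) (kb xb18 yb11 zb6) (kb xb20 yb21 zb35) (kb xb18 yb11 zb14) (kb xb21 yb18 zb13) (kb xb18 yb11 zb18) (kb xb18 yb11 zb17) (kb xb21 yb21 zb14) (kb xb20 yb20 zb2)) (@D3.rec (fun _ => Pt) (kb xb20 yb20 zb3) (kb xb21 yb2 zb6) (kb xb20 yb25 zb16) (kb xb21 yb20 zb9) (kb xb20 yb20 zb8) (kb xb21 yb21 zb27) (kb xb18 yb11 zb26) (kb xb21 yb21 zb28) (kb xb18 yb11 zb27) (kb xb18 yb11 zb29) (kb xb21 yb9 zb15) (kb xb19 yb8 zb24) (kb xb20 yb19 zb15) (kb xb18 yb12 zb16) (kb xb20 yb22 zb24) (kb xb21 yb20 zb25) (kb xb21 yb19 zb35) (kb xb21 yb8 zb29) (kb xb18 yb12 zb2) (kb xb20 yb4 zb28) (kb xb18 yb12 zb1) (kb xb18 yb18 zb12) (kb xb18 yb12 zb4) (kb xb18 yb12 zb15) (kb xb21 yb13 zb10) (kb xb18 yb12 zb7) (kb xb18 yb17 zb30) (kb xb18 yb12 zb8) (kb xb21 yb21 zb34) (kb xb20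 yb22 zb26) (kb xb18 yb12 zb10) (kb xb20 yb21 zb5) (kb xb21 yb21 zb36) (kb xb18 yb12 zb18) (kb xb19 yb12 zb15) (kb xb20 yb14 zb37) (kb xb18 yb12 zb21) (kb xb21 yb3 zb3) (kb xb19 yb12 zb9) (kb xb18 yb12 zb23)) (@D3.rec (fun _ => Pt) (kb xb18 yb13 zb27) (kb xb19 yb14 zb36) (kb xb21 yb0 zb26) (kb xb21 yb9 zb2) (kb xb21 yb21 zb38) (kb xb19 yb6 zb28) (kb xb18 yb13 zb5) (kb xb21 yb17 zb3) (kb xb18 yb13 zb10) (kb xb20 yb15 zb13) (kb xb20 yb2 zb13) (kb xb18 yb13 zb12) (kb xb18 yb13 zb15) (kb xb21 yb22 zb1) (kb xb19 yb21 zb13) (kb xb18 yb19 zb6) (kb xb20 yb10 zb25) (kb xb18 yb13 zb29) (kb xb18 yb14 zb37) (kb xb18 yb13 zb35) (kb xb18 yb13 zb34) (kb xb21 yb3 zb16) (kb xb21 yb22 zb2) (kb xb18 yb13 zb36) (kb xb19 yb14 zb5) (kb xb18 yb14 zb4) (kb xb21 yb17 zb5) (kb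 xb21 yb22 zb5) (kb xb18 yb14 zb5) (kb xb19 yb7 zb8) (kb xb18 yb14 zb15) (kb xb18 yb14 zb19) (kb xb21 yb22 zb6) (kb xb19 yb11 zb29) (kb xb21 yb22 zb8) (kb xb20 yb5 zb28) (kb xb19 yb15 zb15) (kb xb19 yb9 zb37) (kb xb20 yb25 zb0) (kb xb19 yb17 zb16)) (@D3.rec (fun _ => Pt) (kb xb20 yb24 zb38) (kb xb21 yb6 zb7) (kb xb21 yb1 zb11) (kb xb18 yb15 zb6) (kb xb20 yb15 zb20) (kb xb18 yb15 zb11) (kb xb18 yb23 zb2) (kb xb21 yb13 zb7) (kb xb19 yb25 zb21) (kb xb18 yb23 zb5) (kb xb20 yb19 zb18) (kb xb18 yb21 zb12) (kb xb18 yb15 zb34) (kb xb18 yb18 zb0) (kb xb21 yb1 zb22) (kb xb18 yb18 zb6) (kb xb20 yb23 zb2) (kb xb18 yb22 zb37) (kb xb18 yb15 zb36) (kb xb18 yb16 zb7) (kb xb21 yb5 zb19) (kb xb20 yb6 zb17) (kb xb21 yb17 zb39) (kb xb21 yb17 zb6) (kb xb18 yb16 zb8) (kb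 xb18 yb16 zb14) (kb xb19 yb0 zb0) (kb xb19 yb8 zb1) (kb xb18 yb19 zb29) (kb xb18 yb19 zb19) (kb xb18 yb19 zb4) (kb xb19 yb9 zb32) (kb xb21 yb22 zb12) (kb xb21 yb13 zb17) (kb xb18 yb17 zb2) (kb xb21 yb22 zb13) (kb xb21 yb2 zb17) (kb xb18 yb17 zb5) (kb xb20 yb11 zb27) (kb xb18 yb17 zb12))
def f_b_21 : D2 → D3 → Pt := @D2.rec (fun _ => D3 → Pt) (@D3.rec (fun _ => Pt) (kb xb21 yb1 zb37) (kb xb18 yb17 zb9) (kb xb21 yb19 zb2) (kb xb21 yb0 zb3) (kb xb21 yb13 zb14) (kb xb18 yb17 zb22) (kb xb21 yb22 zb14) (kb xb20 yb1 zb12) (kb xb18 yb17 zb37) (kb xb21 yb2 zb4) (kb xb18 yb17 zb31) (kb xb20 yb20 zb4) (kb xb21 yb21 zb15) (kb xb21 yb21 zb33) (kb xb21 yb21 zb23) (kb xb21 yb22 zb15) (kb xb18 yb18 zb2) (kb xb18 yb18 zb8) (kb xb20 yb18 zb38) (kb xb18 yb18 zb9) (kb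 xb19 yb14 zb14) (kb xb19 yb20 zb13) (kb xb21 yb2 zb16) (kb xb21 yb1 zb33) (kb xb21 yb18 zb4) (kb xb19 yb14 zb34) (kb xb20 yb24 zb2) (kb xb21 yb8 zb37) (kb xb21 yb22 zb16) (kb xb21 yb16 zb18) (kb xb20 yb14 zb8) (kb xb20 yb1 zb29) (kb xb18 yb19 zb9) (kb xb19 yb21 zb16) (kb xb20 yb10 zb5) (kb xb18 yb19 zb22) (kb xb18 yb20 zb24) (kb xb18 yb19 zb28) (kb xb18 yb19 zb27) (kb xb21 yb4 zb14)) (@D3.rec (fun _ => Pt) (kb xb21 yb22 zb18) (kb xb19 yb15 zb35) (kb xb18 yb19 zb36) (kb xb21 yb16 zb22) (kb xb18 yb20 zb3) (kb xb18 yb20 zb7) (kb xb21 yb22 zb19) (kb xb19 yb11 zb22) (kb xb21 yb22 zb21) (kb xb20 yb5 zb26) (kb xb19 yb16 zb23) (kb xb20 yb25 zb2) (kb xb19 yb18 zb34) (kb xb21 yb5 zb34) (kb xb18 yb20 zb31) (kb xb20 yb14 zb15) (kb xb18 yb20 zb37) (kb xb21 yb13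 zb11) (kb xb19 yb25 zb30) (kb xb20 yb22 zb22) (kb xb18 yb21 zb10) (kb xb18 yb23 zb0) (kb xb20 yb25 zb14) (kb xb20 yb20 zb6) (kb xb18 yb21 zb22) (kb xb21 yb5 zb14) (kb xb20 yb5 zb18) (kb xb21 yb17 zb37) (kb xb21 yb16 zb20) (kb xb18 yb21 zb23) (kb xb18 yb21 zb29) (kb xb18 yb23 zb26) (kb xb19 yb7 zb29) (kb xb21 yb0 zb23) (kb xb21 yb22 zb23) (kb xb20 yb11 zb36) (kb xb18 yb22 zb11) (kb xb21 yb0 zb0) (kb xb18 yb22 zb13) (kb xb18 yb22 zb17)) (@D3.rec (fun _ => Pt) (kb xb21 yb18 zb29) (kb xb18 yb22 zb24) (kb xb21 yb22 zb24) (kb xb20 yb1 zb19) (kb xb21 yb0 zb9) (kb xb18 yb22 zb33) (kb xb20 yb23 zb1) (kb xb21 yb21 zb0) (kb xb21 yb20 zb3) (kb xb21 yb20 zb14) (kb xb21 yb22 zb9) (kb xb18 yb23 zb8) (kb xb20 yb22 zb4) (kb xb18 yb23 zb9) (kb xb19 yb15 zb39) (kb xb19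 yb19 zb28) (kb xb21 yb0 zb22) (kb xb20 yb25 zb36) (kb xb21 yb18 zb1) (kb xb18 yb23 zb31) (kb xb20 yb21 zb23) (kb xb19 yb20 zb27) (kb xb18 yb23 zb32) (kb xb18 yb23 zb33) (kb xb21 yb16 zb21) (kb xb20 yb0 zb37) (kb xb21 yb13 zb37) (kb xb20 yb15 zb9) (kb xb18 yb24 zb3) (kb xb21 yb22 zb25) (kb xb18 yb24 zb6) (kb xb21 yb18 zb26) (kb xb21 yb3 zb29) (kb xb18 yb24 zb9) (kb xb19 yb9 zb30) (kb xb21 yb9 zb0) (kb xb21 yb2 zb36) (kb xb18 yb25 zb7) (kb xb21 yb20 zb19) (kb xb19 yb23 zb21)) (@D3.rec (fun _ => Pt) (kb xb21 yb20 zb7) (kb xb18 yb24 zb23) (kb xb21 yb9 zb14) (kb xb20 yb23 zb37) (kb xb18 yb24 zb26) (kb xb21 yb3 zb11) (kb xb21 yb16 zb39) (kb xb20 yb13 zb24) (kb xb18 yb24 zb37) (kb xb21 yb9 zb39) (kb xb18 yb24 zb39) (kb xb21 yb3 zb5) (kb xb21 yb4 zb11) (kb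 xb21 yb4 zb10) (kb xb20 yb2 zb25) (kb xb21 yb17 zb2) (kb xb20 yb24 zb21) (kb xb19 yb0 zb5) (kb xb20 yb18 zb12) (kb xb19 yb20 zb31) (kb xb19 yb0 zb6) (kb xb19 yb0 zb7) (kb xb21 yb17 zb7) (kb xb20 yb1 zb1) (kb xb21 yb14 zb3) (kb xb20 yb14 zb4) (kb xb19 yb0 zb16) (kb xb21 yb22 zb28) (kb xb19 yb0 zb19) (kb xb21 yb2 zb32) (kb xb21 yb18 zb39) (kb xb19 yb0 zb24) (kb xb19 yb9 zb27) (kb xb21 yb9 zb5) (kb xb19 yb1 zb23) (kb xb21 yb3 zb35) (kb xb21 yb21 zb9) (kb xb21 yb21 zb19) (kb xb19 yb24 zb14) (kb xb19 yb0 zb36)) (@D3.rec (fun _ => Pt) (kb xb21 yb9 zb30) (kb xb20 yb21 zb13) (kb xb19 yb0 zb39) (kb xb21 yb4 zb9) (kb xb21 yb16 zb14) (kb xb20 yb13 zb32) (kb xb19 yb1 zb11) (kb xb21 yb10 zb1) (kb xb19 yb1 zb12) (kb xb21 yb4 zb3) (kb xb21 yb3 zb13) (kb xb21 yb3 zb12)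 (kb xb20 yb2 zb1) (kb xb21 yb16 zb17) (kb xb21 yb0 zb39) (kb xb21 yb5 zb3) (kb xb19 yb2 zb16) (kb xb19 yb2 zb17) (kb xb19 yb2 zb18) (kb xb19 yb2 zb19) (kb xb19 yb2 zb20) (kb xb19 yb2 zb21) (kb xb21 yb4 zb36) (kb xb19 yb18 zb26) (kb xb20 yb17 zb14) (kb xb20 yb0 zb38) (kb xb20 yb7 zb27) (kb xb21 yb13 zb26) (kb xb19 yb2 zb29) (kb xb21 yb4 zb30) (kb xb21 yb4 zb29) (kb xb19 yb2 zb34) (kb xb19 yb2 zb36) (kb xb19 yb2 zb37) (kb xb19 yb2 zb38) (kb xb19 yb2 zb39) (kb xb21 yb4 zb22) (kb xb19 yb17 zb8) (kb xb20 yb16 zb12) (kb xb20 yb9 zb0)) (@D3.rec (fun _ => Pt) (kb xb20 yb1 zb2) (kb xb21 yb13 zb29) (kb xb19 yb3 zb8) (kb xb21 yb4 zb15) (kb xb19 yb6 zb10) (kb xb19 yb15 zb8) (kb xb19 yb5 zb8) (kb xb19 yb15 zb24) (kb xb19 yb4 zb2) (kb xb20 yb11 zb18) (kb xb21 yb5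 zb10) (kb xb19 yb4 zb20) (kb xb19 yb19 zb1) (kb xb19 yb10 zb33) (kb xb21 yb1 zb25) (kb xb20 yb13 zb8) (kb xb19 yb7 zb16) (kb xb19 yb5 zb7) (kb xb19 yb16 zb22) (kb xb20 yb25 zb20) (kb xb19 yb6 zb11) (kb xb19 yb6 zb36) (kb xb20 yb13 zb3) (kb xb19 yb15 zb16) (kb xb19 yb5 zb23) (kb xb20 yb11 zb8) (kb xb21 yb5 zb26) (kb xb19 yb17 zb22) (kb xb19 yb6 zb0) (kb xb19 yb10 zb15) (kb xb19 yb15 zb7) (kb xb20 yb11 zb22) (kb xb19 yb6 zb25) (kb xb21 yb16 zb4) (kb xb21 yb1 zb13) (kb xb19 yb6 zb29) (kb xb21 yb17 zb19) (kb xb21 yb22 zb32) (kb xb19 yb6 zb30) (kb xb19 yb6 zb33)) (@D3.rec (fun _ => Pt) (kb xb20 yb0 zb39) (kb xb19 yb6 zb34) (kb xb21 yb22 zb34) (kb xb19 yb16 zb17) (kb xb20 yb11 zb24) (kb xb19 yb7 zb5) (kb xb21 yb15 zb32) (kb xb20 yb25 zb1) (kb xb19 yb7 zb9)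 (kb xb21 yb17 zb29) (kb xb21 yb22 zb36) (kb xb19 yb7 zb10) (kb xb19 yb7 zb13) (kb xb20 yb1 zb3) (kb xb19 yb7 zb14) (kb xb21 yb22 zb38) (kb xb21 yb22 zb39) (kb xb19 yb7 zb20) (kb xb21 yb6 zb18) (kb xb21 yb23 zb2) (kb xb19 yb7 zb21) (kb xb19 yb7 zb22) (kb xb19 yb7 zb25) (kb xb21 yb23 zb6) (kb xb19 yb7 zb26) (kb xb20 yb2 zb37) (kb xb21 yb12 zb18) (kb xb21 yb6 zb37) (kb xb19 yb7 zb30) (kb xb21 yb12 zb26) (kb xb19 yb7 zb32) (kb xb21 yb6 zb31) (kb xb19 yb7 zb33) (kb xb21 yb23 zb11) (kb xb19 yb7 zb37) (kb xb19 yb7 zb38) (kb xb20 yb3 zb26) (kb xb21 yb6 zb27) (kb xb21 yb12 zb30) (kb xb19 yb8 zb0)) (@D3.rec (fun _ => Pt) (kb xb21 yb12 zb12) (kb xb19 yb8 zb3) (kb xb19 yb8 zb8) (kb xb20 yb3 zb8) (kb xb19 yb8 zb10) (kb xb21 yb23 zb19) (kb xb19 yb8 zb16) (kb xb20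 yb3 zb37) (kb xb19 yb8 zb18) (kb xb21 yb23 zb20) (kb xb21 yb21 zb30) (kb xb19 yb8 zb29) (kb xb21 yb20 zb29) (kb xb19 yb8 zb37) (kb xb19 yb9 zb3) (kb xb19 yb9 zb10) (kb xb21 yb13 zb28) (kb xb21 yb13 zb31) (kb xb19 yb19 zb21) (kb xb19 yb9 zb19) (kb xb19 yb18 zb3) (kb xb19 yb9 zb23) (kb xb19 yb25 zb7) (kb xb19 yb9 zb28) (kb xb21 yb23 zb21) (kb xb19 yb24 zb35) (kb xb19 yb9 zb31) (kb xb21 yb23 zb23) (kb xb21 yb23 zb24) (kb xb21 yb23 zb25) (kb xb19 yb16 zb34) (kb xb19 yb10 zb7) (kb xb21 yb23 zb26) (kb xb19 yb10 zb12) (kb xb19 yb10 zb13) (kb xb21 yb23 zb28) (kb xb21 yb19 zb23) (kb xb19 yb10 zb19) (kb xb21 yb18 zb24) (kb xb19 yb18 zb9)) (@D3.rec (fun _ => Pt) (kb xb19 yb10 zb24) (kb xb21 yb23 zb29) (kb xb19 yb10 zb29) (kb xb19 yb10 zb30) (kb xb21 yb23 zb31)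 (kb xb21 yb19 zb8) (kb xb19 yb10 zb36) (kb xb21 yb18 zb37) (kb xb19 yb11 zb20) (kb xb20 yb4 zb21) (kb xb20 yb3 zb7) (kb xb21 yb10 zb28) (kb xb21 yb16 zb6) (kb xb19 yb11 zb25) (kb xb20 yb1 zb32) (kb xb19 yb11 zb27) (kb xb20 yb5 zb7) (kb xb20 yb3 zb36) (kb xb21 yb11 zb8) (kb xb21 yb16 zb35) (kb xb19 yb11 zb32) (kb xb20 yb2 zb16) (kb xb20 yb20 zb24) (kb xb19 yb12 zb0) (kb xb21 yb18 zb0) (kb xb21 yb23 zb34) (kb xb19 yb12 zb1) (kb xb19 yb12 zb2) (kb xb19 yb12 zb5) (kb xb20 yb23 zb17) (kb xb19 yb12 zb12) (kb xb21 yb18 zb3) (kb xb21 yb23 zb35) (kb xb19 yb12 zb13) (kb xb19 yb12 zb14) (kb xb19 yb12 zb17) (kb xb21 yb9 zb1) (kb xb21 yb0 zb27) (kb xb20 yb12 zb9) (kb xb21 yb18 zb25)) (@D3.rec (fun _ => Pt) (kb xb21 yb2 zb35) (kb xb21 yb8 zb36) (kb xb20 yb24 zb3)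 (kb xb20 yb12 zb4) (kb xb21 yb18 zb38) (kb xb21 yb3 zb33) (kb xb19 yb13 zb2) (kb xb20 yb18 zb17) (kb xb20 yb9 zb19) (kb xb21 yb9 zb9) (kb xb19 yb13 zb6) (kb xb21 yb9 zb11) (kb xb21 yb19 zb3) (kb xb20 yb15 zb11) (kb xb21 yb3 zb2) (kb xb20 yb23 zb10) (kb xb19 yb13 zb16) (kb xb21 yb16 zb38) (kb xb21 yb23 zb36) (kb xb21 yb17 zb22) (kb xb19 yb13 zb19) (kb xb19 yb13 zb22) (kb xb20 yb21 zb27) (kb xb20 yb8 zb6) (kb xb21 yb9 zb24) (kb xb19 yb13 zb26) (kb xb21 yb9 zb26) (kb xb21 yb18 zb30) (kb xb20 yb14 zb6) (kb xb20 yb20 zb14) (kb xb21 yb4 zb0) (kb xb19 yb13 zb36) (kb xb21 yb16 zb13) (kb xb21 yb23 zb37) (kb xb21 yb17 zb31) (kb xb19 yb13 zb39) (kb xb20 yb6 zb29) (kb xb20 yb15 zb21) (kb xb20 yb18 zb27) (kb xb21 yb3 zb9)) (@D3.rec (fun _ => Pt) (kb xb19 yb14 zb19)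 (kb xb21 yb4 zb7) (kb xb19 yb21 zb4) (kb xb20 yb2 zb26) (kb xb21 yb10 zb21) (kb xb21 yb10 zb20) (kb xb21 yb19 zb11) (kb xb20 yb18 zb5) (kb xb20 yb6 zb18) (kb xb19 yb18 zb32) (kb xb20 yb15 zb28) (kb xb21 yb19 zb25) (kb xb20 yb17 zb4) (kb xb20 yb14 zb24) (kb xb20 yb2 zb2) (kb xb20 yb5 zb32) (kb xb20 yb14 zb18) (kb xb20 yb21 zb36) (kb xb19 yb16 zb2) (kb xb19 yb21 zb3) (kb xb21 yb10 zb5) (kb xb21 yb10 zb4) (kb xb20 yb5 zb19) (kb xb19 yb17 zb14) (kb xb19 yb16 zb36) (kb xb19 yb25 zb6) (kb xb21 yb11 zb6) (kb xb21 yb15 zb37) (kb xb21 yb8 zb11) (kb xb19 yb17 zb19) (kb xb19 yb17 zb26) (kb xb21 yb23 zb38) (kb xb20 yb16 zb14) (kb xb19 yb17 zb30) (kb xb20 yb17 zb38) (kb xb19 yb17 zb31) (kb xb19 yb25 zb25) (kb xb21 yb13 zb16) (kb xb19 yb17 zb34) (kb xb20 yb11 zb20))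 (@D3.rec (fun _ => Pt) (kb xb21 yb17 zb14) (kb xb21 yb11 zb19) (kb xb19 yb18 zb1) (kb xb21 yb23 zb39) (kb xb19 yb18 zb14) (kb xb19 yb24 zb36) (kb xb21 yb10 zb26) (kb xb21 yb15 zb25) (kb xb21 yb8 zb18) (kb xb19 yb18 zb38) (kb xb19 yb19 zb3) (kb xb20 yb17 zb16) (kb xb21 yb24 zb0) (kb xb19 yb19 zb8) (kb xb19 yb25 zb9) (kb xb19 yb19 zb9) (kb xb20 yb16 zb36) (kb xb19 yb19 zb14) (kb xb20 yb11 zb19) (kb xb21 yb11 zb1) (kb xb21 yb16 zb33) (kb xb19 yb19 zb20) (kb xb21 yb24 zb1) (kb xb21 yb24 zb2) (kb xb19 yb19 zb27) (kb xb21 yb11 zb37) (kb xb19 yb19 zb34) (kb xb21 yb24 zb3) (kb xb19 yb19 zb39) (kb xb19 yb20 zb0) (kb xb21 yb24 zb7) (kb xb21 yb24 zb4) (kb xb19 yb20 zb2) (kb xb21 yb11 zb33) (kb xb19 yb20 zb4) (kb xb21 yb24 zb11) (kb xb19 yb20 zb6) (kb xb21 yb11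 zb25) (kb xb19 yb20 zb20) (kb xb21 yb24 zb12)) (@D3.rec (fun _ => Pt) (kb xb19 yb21 zb14) (kb xb21 yb24 zb15) (kb xb21 yb24 zb16) (kb xb19 yb21 zb17) (kb xb21 yb24 zb17) (kb xb19 yb21 zb24) (kb xb21 yb14 zb7) (kb xb19 yb21 zb26) (kb xb21 yb24 zb19) (kb xb19 yb21 zb31) (kb xb21 yb12 zb31) (kb xb19 yb21 zb28) (kb xb21 yb7 zb0) (kb xb20 yb4 zb0) (kb xb21 yb12 zb28) (kb xb19 yb21 zb33) (kb xb20 yb3 zb10) (kb xb20 yb3 zb39) (kb xb21 yb6 zb26) (kb xb19 yb22 zb11) (kb xb21 yb14 zb26) (kb xb19 yb22 zb13) (kb xb21 yb24 zb22) (kb xb19 yb22 zb18) (kb xb21 yb12 zb39) (kb xb19 yb22 zb15) (kb xb21 yb6 zb29) (kb xb20 yb3 zb11) (kb xb21 yb12 zb14) (kb xb19 yb22 zb20) (kb xb21 yb6 zb38) (kb xb21 yb12 zb10) (kb xb20 yb3 zb16) (kb xb20 yb16 zb30) (kb xb20 yb19 zb4) (kb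 xb21 yb15 zb0) (kb xb20 yb17 zb32) (kb xb19 yb23 zb25) (kb xb21 yb24 zb24) (kb xb21 yb12 zb24)) (@D3.rec (fun _ => Pt) (kb xb20 yb3 zb14) (kb xb20 yb22 zb10) (kb xb21 yb15 zb13) (kb xb19 yb24 zb18) (kb xb21 yb24 zb25) (kb xb20 yb20 zb33) (kb xb21 yb24 zb26) (kb xb20 yb25 zb7) (kb xb19 yb24 zb29) (kb xb19 yb25 zb22) (kb xb20 yb23 zb24) (kb xb21 yb1 zb17) (kb xb21 yb24 zb27) (kb xb19 yb25 zb2) (kb xb21 yb0 zb4) (kb xb19 yb25 zb15) (kb xb21 yb10 zb37) (kb xb20 yb25 zb33) (kb xb19 yb25 zb17) (kb xb21 yb13 zb19) (kb xb21 yb24 zb30) (kb xb21 yb21 zb24) (kb xb19 yb25 zb20) (kb xb21 yb20 zb15) (kb xb20 yb1 zb11) (kb xb20 yb1 zb18) (kb xb21 yb4 zb27) (kb xb20 yb1 zb13) (kb xb21 yb7 zb16) (kb xb21 yb5 zb1) (kb xb20 yb1 zb20) (kb xb21 yb7 zb17) (kb xb21 yb24 zb31)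 (kb xb20 yb1 zb22) (kb xb21 yb18 zb2) (kb xb21 yb24 zb33) (kb xb21 yb20 zb18) (kb xb21 yb2 zb26) (kb xb20 yb2 zb5) (kb xb21 yb24 zb34)) (@D3.rec (fun _ => Pt) (kb xb21 yb18 zb5) (kb xb21 yb24 zb32) (kb xb21 yb21 zb8) (kb xb21 yb3 zb24) (kb xb20 yb2 zb29) (kb xb20 yb2 zb31) (kb xb20 yb21 zb24) (kb xb21 yb12 zb6) (kb xb21 yb23 zb3) (kb xb21 yb15 zb11) (kb xb21 yb24 zb36) (kb xb20 yb6 zb0) (kb xb21 yb15 zb22) (kb xb20 yb3 zb2) (kb xb20 yb3 zb35) (kb xb21 yb19 zb24) (kb xb20 yb4 zb2) (kb xb20 yb12 zb10) (kb xb20 yb3 zb31) (kb xb20 yb3 zb6) (kb xb21 yb25 zb0) (kb xb21 yb22 zb29) (kb xb20 yb3 zb13) (kb xb20 yb3 zb18) (kb xb20 yb3 zb20) (kb xb20 yb18 zb13) (kb xb21 yb12 zb20) (kb xb21 yb23 zb14) (kb xb21 yb14 zb38) (kb xb21 yb25 zb3) (kb xb20 yb6 zb37) (kb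 xb21 yb15 zb34) (kb xb21 yb19 zb9) (kb xb20 yb12 zb5) (kb xb21 yb25 zb4) (kb xb21 yb22 zb30) (kb xb20 yb4 zb6) (kb xb21 yb16 zb30) (kb xb21 yb14 zb28) (kb xb21 yb25 zb6)) (@D3.rec (fun _ => Pt) (kb xb21 yb12 zb35) (kb xb20 yb4 zb14) (kb xb20 yb4 zb12) (kb xb21 yb21 zb17) (kb xb20 yb4 zb16) (kb xb21 yb20 zb35) (kb xb20 yb22 zb13) (kb xb21 yb20 zb27) (kb xb20 yb11 zb35) (kb xb20 yb4 zb32) (kb xb21 yb16 zb32) (kb xb21 yb14 zb9) (kb xb21 yb25 zb8) (kb xb21 yb13 zb2) (kb xb20 yb5 zb0) (kb xb20 yb4 zb38) (kb xb21 yb20 zb5) (kb xb20 yb5 zb2) (kb xb21 yb20 zb28) (kb xb20 yb19 zb7) (kb xb21 yb21 zb29) (kb xb20 yb11 zb26) (kb xb21 yb14 zb12) (kb xb21 yb22 zb33) (kb xb20 yb5 zb23) (kb xb21 yb11 zb7) (kb xb20 yb19 zb10) (kb xb20 yb5 zb37) (kb xb20 yb6 zb1) (kb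 xb20 yb19 zb3) (kb xb20 yb18 zb10) (kb xb20 yb6 zb9) (kb xb21 yb6 zb6) (kb xb20 yb6 zb12) (kb xb21 yb14 zb31) (kb xb21 yb22 zb37) (kb xb20 yb6 zb22) (kb xb21 yb10 zb27) (kb xb20 yb22 zb17) (kb xb20 yb6 zb34)) (@D3.rec (fun _ => Pt) (kb xb20 yb6 zb38) (kb xb20 yb22 zb9) (kb xb20 yb21 zb21) (kb xb20 yb7 zb4) (kb xb21 yb5 zb33) (kb xb20 yb7 zb7) (kb xb21 yb8 zb12) (kb xb20 yb8 zb34) (kb xb20 yb7 zb24) (kb xb20 yb8 zb31) (kb xb20 yb7 zb18) (kb xb21 yb16 zb15) (kb xb20 yb7 zb21) (kb xb21 yb9 zb32) (kb xb21 yb4 zb4) (kb xb21 yb16 zb11) (kb xb20 yb7 zb28) (kb xb21 yb4 zb13) (kb xb21 yb0 zb29) (kb xb20 yb8 zb0) (kb xb21 yb1 zb28) (kb xb21 yb2 zb24) (kb xb21 yb1 zb3) (kb xb20 yb14 zb3) (kb xb20 yb15 zb8) (kb xb20 yb8 zb4) (kb xb20 yb8 zb9) (kb xb20 yb8 zb11)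 (kb xb20 yb17 zb34) (kb xb21 yb17 zb12) (kb xb21 yb14 zb37) (kb xb20 yb8 zb17) (kb xb21 yb15 zb10) (kb xb21 yb11 zb20) (kb xb20 yb8 zb25) (kb xb21 yb8 zb19) (kb xb20 yb8 zb37) (kb xb21 yb17 zb0) (kb xb21 yb9 zb17) (kb xb21 yb3 zb6)) (@D3.rec (fun _ => Pt) (kb xb21 yb16 zb37) (kb xb20 yb9 zb1) (kb xb21 yb3 zb15) (kb xb20 yb24 zb7) (kb xb20 yb9 zb13) (kb xb20 yb24 zb26) (kb xb20 yb25 zb23) (kb xb21 yb3 zb22) (kb xb20 yb9 zb17) (kb xb20 yb9 zb22) (kb xb20 yb9 zb24) (kb xb20 yb16 zb32) (kb xb21 yb16 zb29) (kb xb20 yb9 zb27) (kb xb21 yb11 zb0) (kb xb20 yb9 zb34) (kb xb20 yb14 zb22) (kb xb21 yb24 zb18) (kb xb20 yb10 zb6) (kb xb21 yb5 zb36) (kb xb20 yb10 zb26) (kb xb20 yb10 zb10) (kb xb21 yb9 zb19) (kb xb20 yb10 zb13) (kb xb21 yb25 zb11) (kb xb21 yb25 zb12)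 (kb xb20 yb10 zb14) (kb xb20 yb15 zb26) (kb xb21 yb24 zb21) (kb xb21 yb6 zb9) (kb xb20 yb10 zb29) (kb xb21 yb9 zb34) (kb xb20 yb10 zb33) (kb xb21 yb25 zb13) (kb xb21 yb25 zb14) (kb xb20 yb10 zb34) (kb xb20 yb11 zb2) (kb xb21 yb1 zb27) (kb xb20 yb11 zb13) (kb xb20 yb25 zb22)) (@D3.rec (fun _ => Pt) (kb xb21 yb8 zb24) (kb xb21 yb2 zb18) (kb xb21 yb13 zb34) (kb xb21 yb8 zb31) (kb xb21 yb0 zb24) (kb xb21 yb14 zb0) (kb xb20 yb13 zb16) (kb xb21 yb18 zb7) (kb xb20 yb13 zb14) (kb xb21 yb18 zb9) (kb xb20 yb12 zb25) (kb xb20 yb12 zb36) (kb xb20 yb13 zb13) (kb xb20 yb22 zb35) (kb xb21 yb20 zb1) (kb xb20 yb13 zb15) (kb xb20 yb19 zb38) (kb xb21 yb21 zb13) (kb xb20 yb13 zb33) (kb xb20 yb14 zb1) (kb xb21 yb19 zb13) (kb xb20 yb14 zb20) (kb xb20 yb14 zb30) (kb xb21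 yb19 zb31) (kb xb21 yb7 zb38) (kb xb21 yb8 zb39) (kb xb21 yb2 zb31) (kb xb21 yb21 zb37) (kb xb21 yb19 zb28) (kb xb21 yb2 zb0) (kb xb21 yb9 zb27) (kb xb20 yb14 zb39) (kb xb20 yb15 zb6) (kb xb21 yb19 zb27) (kb xb20 yb15 zb24) (kb xb20 yb15 zb34) (kb xb21 yb19 zb17) (kb xb21 yb8 zb7) (kb xb21 yb9 zb4) (kb xb21 yb3 zb30)) (@D3.rec (fun _ => Pt) (kb xb21 yb21 zb7) (kb xb21 yb19 zb14) (kb xb21 yb0 zb2) (kb xb21 yb9 zb12) (kb xb20 yb16 zb3) (kb xb21 yb19 zb26) (kb xb20 yb16 zb5) (kb xb20 yb17 zb27) (kb xb21 yb8 zb5) (kb xb21 yb14 zb32) (kb xb20 yb16 zb25) (kb xb21 yb10 zb6) (kb xb21 yb19 zb22) (kb xb21 yb18 zb20) (kb xb21 yb19 zb1) (kb xb21 yb23 zb0) (kb xb21 yb24 zb39) (kb xb21 yb18 zb36) (kb xb20 yb17 zb3) (kb xb21 yb19 zb33) (kb xb20 yb17 zb7) (kb xb20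 yb17 zb5) (kb xb21 yb19 zb12) (kb xb21 yb7 zb36) (kb xb21 yb14 zb15) (kb xb21 yb10 zb11) (kb xb21 yb19 zb5) (kb xb21 yb18 zb33) (kb xb21 yb18 zb28) (kb xb21 yb23 zb12) (kb xb21 yb24 zb37) (kb xb21 yb18 zb23) (kb xb20 yb18 zb4) (kb xb21 yb19 zb19) (kb xb20 yb18 zb29) (kb xb20 yb23 zb16) (kb xb21 yb23 zb27) (kb xb21 yb21 zb32) (kb xb20 yb18 zb19) (kb xb20 yb18 zb18)) (@D3.rec (fun _ => Pt) (kb xb21 yb20 zb0) (kb xb21 yb18 zb14) (kb xb20 yb20 zb1) (kb xb21 yb2 zb8) (kb xb20 yb19 zb6) (kb xb21 yb15 zb16) (kb xb21 yb25 zb16) (kb xb21 yb3 zb0) (kb xb20 yb19 zb8) (kb xb20 yb23 zb3) (kb xb21 yb25 zb23) (kb xb20 yb19 zb16) (kb xb21 yb20 zb12) (kb xb20 yb19 zb25) (kb xb21 yb2 zb9) (kb xb21 yb13 zb23) (kb xb21 yb21 zb4) (kb xb21 yb21 zb5) (kb xb21 yb13 zb36) (kb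 xb21 yb2 zb38) (kb xb21 yb25 zb18) (kb xb20 yb20 zb5) (kb xb21 yb21 zb26) (kb xb20 yb20 zb10) (kb xb20 yb20 zb11) (kb xb20 yb23 zb15) (kb xb20 yb22 zb21) (kb xb21 yb15 zb7) (kb xb21 yb15 zb18) (kb xb21 yb7 zb12) (kb xb21 yb25 zb28) (kb xb20 yb20 zb21) (kb xb20 yb20 zb23) (kb xb21 yb23 zb30) (kb xb21 yb21 zb11) (kb xb21 yb15 zb5) (kb xb21 yb20 zb36) (kb xb21 yb25 zb29) (kb xb20 yb20 zb34) (kb xb20 yb20 zb37)) (@D3.rec (fun _ => Pt) (kb xb21 yb2 zb7) (kb xb20 yb21 zb2) (kb xb21 yb21 zb35) (kb xb20 yb21 zb6) (kb xb21 yb20 zb16) (kb xb21 yb20 zb17) (kb xb20 yb21 zb28) (kb xb21 yb19 zb0) (kb xb21 yb14 zb2) (kb xb21 yb3 zb36) (kb xb20 yb21 zb38) (kb xb21 yb20 zb34) (kb xb20 yb21 zb29) (kb xb21 yb18 zb17) (kb xb20 yb22 zb38) (kb xb21 yb0 zb12) (kb xb20 yb22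 zb12) (kb xb21 yb15 zb3) (kb xb21 yb25 zb15) (kb xb21 yb3 zb37) (kb xb20 yb22 zb14) (kb xb21 yb25 zb27) (kb xb20 yb22 zb25) (kb xb21 yb0 zb14) (kb xb21 yb13 zb21) (kb xb21 yb25 zb17) (kb xb21 yb20 zb22) (kb xb20 yb23 zb5) (kb xb20 yb23 zb7) (kb xb21 yb15 zb20) (kb xb21 yb7 zb10) (kb xb21 yb25 zb26) (kb xb21 yb19 zb37) (kb xb21 yb0 zb13) (kb xb20 yb23 zb28) (kb xb21 yb21 zb2) (kb xb20 yb23 zb32) (kb xb21 yb18 zb27) (kb xb20 yb24 zb4) (kb xb21 yb25 zb9)) (@D3.rec (fun _ => Pt) (kb xb21 yb22 zb7) (kb xb20 yb24 zb13) (kb xb20 yb24 zb22) (kb xb21 yb23 zb16) (kb xb21 yb25 zb10) (kb xb20 yb24 zb27) (kb xb20 yb24 zb32) (kb xb21 yb22 zb0) (kb xb20 yb24 zb34) (kb xb21 yb2 zb10) (kb xb21 yb22 zb22) (kb xb21 yb23 zb4) (kb xb20 yb25 zb32) (kb xb20 yb25 zb35) (kb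 xb21 yb0 zb6) (kb xb21 yb0 zb15) (kb xb21 yb0 zb28) (kb xb21 yb22 zb20) (kb xb21 yb1 zb0) (kb xb21 yb1 zb6) (kb xb21 yb22 zb17) (kb xb21 yb1 zb8) (kb xb21 yb22 zb10) (kb xb21 yb1 zb34) (kb xb21 yb2 zb2) (kb xb21 yb2 zb29) (kb xb21 yb22 zb27) (kb xb21 yb22 zb26) (kb xb21 yb3 zb27) (kb xb21 yb14 zb21) (kb xb21 yb14 zb35) (kb xb21 yb25 zb33) (kb xb21 yb5 zb37) (kb xb21 yb15 zb23) (kb xb21 yb6 zb2) (kb xb21 yb25 zb32) (kb xb21 yb6 zb10) (kb xb21 yb15 zb35) (kb xb21 yb6 zb15) (kb xb21 yb6 zb16)) (@D3.rec (fun _ => Pt) (kb xb21 yb19 zb15) (kb xb21 yb25 zb34) (kb xb21 yb6 zb19) (kb xb21 yb14 zb8) (kb xb21 yb22 zb11) (kb xb21 yb23 zb15) (kb xb21 yb6 zb23) (kb xb21 yb23 zb10) (kb xb21 yb23 zb18) (kb xb21 yb25 zb21) (kb xb21 yb23 zb7) (kb xb21 yb6 zb33) (kb xb21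 yb19 zb29) (kb xb21 yb25 zb35) (kb xb21 yb14 zb27) (kb xb21 yb23 zb5) (kb xb21 yb22 zb3) (kb xb21 yb25 zb22) (kb xb21 yb23 zb8) (kb xb21 yb7 zb5) (kb xb21 yb7 zb9) (kb xb21 yb7 zb24) (kb xb21 yb24 zb9) (kb xb21 yb7 zb27) (kb xb21 yb7 zb28) (kb xb21 yb7 zb29) (kb xb21 yb7 zb32) (kb xb21 yb19 zb36) (kb xb21 yb7 zb35) (kb xb21 yb8 zb1) (kb xb21 yb20 zb33) (kb xb21 yb8 zb4) (kb xb21 yb23 zb33) (kb xb21 yb23 zb32) (kb xb21 yb8 zb25) (kb xb21 yb8 zb32) (kb xb21 yb9 zb18) (kb xb21 yb9 zb33) (kb xb21 yb10 zb31) (kb xb21 yb11 zb3)) (@D3.rec (fun _ => Pt) (kb xb21 yb11 zb12) (kb xb21 yb11 zb22) (kb xb21 yb11 zb23) (kb xb21 yb11 zb27) (kb xb21 yb11 zb31) (kb xb21 yb25 zb36) (kb xb21 yb25 zb37) (kb xb21 yb11 zb30) (kb xb21 yb24 zb8) (kb xb21 yb23 zb22) (kb xb21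 yb24 zb10) (kb xb21 yb11 zb35) (kb xb21 yb11 zb39) (kb xb21 yb25 zb39) (kb xb21 yb24 zb28) (kb xb21 yb12 zb1) (kb xb21 yb12 zb2) (kb xb21 yb12 zb4) (kb xb21 yb17 zb17) (kb xb21 yb12 zb8) (kb xb21 yb25 zb1) (kb xb21 yb17 zb28) (kb xb21 yb12 zb22) (kb xb21 yb24 zb38) (kb xb21 yb12 zb38) (kb xb21 yb13 zb4) (kb xb21 yb13 zb6) (kb xb21 yb13 zb12) (kb xb21 yb24 zb14) (kb xb21 yb24 zb29) (kb xb21 yb13 zb20) (kb xb21 yb13 zb32) (kb xb21 yb14 zb1) (kb xb21 yb13 zb35) (kb xb21 yb13 zb39) (kb xb21 yb25 zb7) (kb xb21 yb14 zb10) (kb xb21 yb19 zb30) (kb xb21 yb24 zb23) (kb xb21 yb19 zb16)) (@D3.rec (fun _ => Pt) (kb xb21 yb14 zb20) (kb xb21 yb24 zb20) (kb xb21 yb25 zb5) (kb xb21 yb14 zb29) (kb xb21 yb14 zb34) (kb xb21 yb25 zb2) (kb xb21 yb14 zb39) (kb xb21 yb24 zb35)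 (kb xb21 yb15 zb12) (kb xb21 yb21 zb39) (kb xb21 yb22 zb4) (kb xb21 yb17 zb24) (kb xb21 yb17 zb25) (kb xb21 yb17 zb33) (kb xb21 yb17 zb34) (kb xb21 yb21 zb18) (kb xb21 yb20 zb6) (kb xb21 yb21 zb25) (kb xb21 yb20 zb20) (kb xb21 yb25 zb20) (kb xb21 yb25 zb19) (kb xb21 yb23 zb9) (kb xb21 yb23 zb17) (kb xb21 yb20 zb10) (kb xb21 yb25 zb30) (kb xb21 yb25 zb31) (kb xb21 yb21 zb31) (kb xb21 yb21 zb21) (kb xb21 yb20 zb30) (kb xb21 yb20 zb37) (kb xb21 yb25 zb24) (kb xb21 yb25 zb25) (kb xb21 yb22 zb35) (kb xb21 yb22 zb31) (kb xb21 yb23 zb1) (kb xb21 yb23 zb13) (kb xb21 yb24 zb5) (kb xb21 yb24 zb6) (kb xb21 yb25 zb38) (kb xb21 yb24 zb13))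
def f_b : Pt → Pt := @Pt.rec (fun _ => Pt) (@D1.rec (fun _ => D2 → D3 → Pt) f_b_0 f_b_1 f_b_2 f_b_3 f_b_4 f_b_5 f_b_6 f_b_7 f_b_8 f_b_9 f_b_10 f_b_11 f_b_12 f_b_13 f_b_14 f_b_15 f_b_16 f_b_17 f_b_18 f_b_19 f_b_20 f_b_21)
def fi_b : Pt → Pt := f_b

theorem inv_chk_b : chkInv allPts beqPt f_b fi_b = true := by decide +kernel

end

end Cfsg.Agent.Helper28.S1681
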