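import Cfsg.Agent.Lib.Helper28.S1681.Defs

set_option autoImplicit false
set_option maxRecDepth 100000
set_option linter.all false

namespace Cfsg.Agent.Helper28.S1681

open Cfsg.Agent.Helper28
open Cfsg.Spor.Suz (Gen)

noncomputable section

abbrev ke := Pt.mk
abbrev xe0 := D1.c0
abbrev xe1 := D1.c1
abbrev xe2 := D1.c2
abbrev xe3 := D1.c3
abbrev xe4 := D1.c4
abbrev xe5 := D1.c5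
abbrev xe6 := D1.c6
abbrev xe7 := D1.c7
abbrev xe8 := D1.c8
abbrev xe9 := D1.c9
abbrev xe10 := D1.c10
abbrev xe11 := D1.c11
abbrev xe12 := D1.c12
abbrev xe13 := D1.c13
abbrev xe14 := D1.c14
abbrev xe15 := D1.c15
abbrev xe16 := D1.c16
abbrev xe17 := D1.c17
abbrev xe18 := D1.c18
abbrev xe19 := D1.c19
abbrev xe20 := D1.c20
abbrev xe21 := D1.c21
abbrev ye0 := D2.c0
abbrev ye1 := D2.c1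
abbrev ye2 := D2.c2
abbrev ye3 := D2.c3
abbrev ye4 := D2.c4
abbrev ye5 := D2.c5
abbrev ye6 := D2.c6
abbrev ye7 := D2.c7
abbrev ye8 := D2.c8
abbrev ye9 := D2.c9
abbrev ye10 := D2.c10
abbrev ye11 := D2.c11
abbrev ye12 := D2.c12
abbrev ye13 := D2.c13
abbrev ye14 := D2.c14
abbrev ye15 := D2.c15
abbrev ye16 := D2.c16
abbrev ye17 := D2.c17
abbrev ye18 := D2.c18
abbrev ye19 := D2.c19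
abbrev ye20 := D2.c20
abbrev ye21 := D2.c21
abbrev ye22 := D2.c22
abbrev ye23 := D2.c23
abbrev ye24 := D2.c24
abbrev ye25 := D2.c25
abbrev ze0 := D3.c0
abbrev ze1 := D3.c1
abbrev ze2 := D3.c2
abbrev ze3 := D3.c3
abbrev ze4 := D3.c4
abbrev ze5 := D3.c5
abbrev ze6 := D3.c6
abbrev ze7 := D3.c7
abbrev ze8 := D3.c8
abbrev ze9 := D3.c9
abbrev ze10 := D3.c10
abbrev ze11 := D3.c11
abbrev ze12 := D3.c12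
abbrev ze13 := D3.c13
abbrev ze14 := D3.c14
abbrev ze15 := D3.c15
abbrev ze16 := D3.c16
abbrev ze17 := D3.c17
abbrev ze18 := D3.c18
abbrev ze19 := D3.c19
abbrev ze20 := D3.c20
abbrev ze21 := D3.c21
abbrev ze22 := D3.c22
abbrev ze23 := D3.c23
abbrev ze24 := D3.c24
abbrev ze25 := D3.c25
abbrev ze26 := D3.c26
abbrev ze27 := D3.c27
abbrev ze28 := D3.c28
abbrev ze29 := D3.c29
abbrev ze30 := D3.c30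
abbrev ze31 := D3.c31
abbrev ze32 := D3.c32
abbrev ze33 := D3.c33
abbrev ze34 := D3.c34
abbrev ze35 := D3.c35
abbrev ze36 := D3.c36
abbrev ze37 := D3.c37
abbrev ze38 := D3.c38
abbrev ze39 := D3.c39
def f_e_0 : D2 → D3 → Pt := @D2.rec (fun _ => D3 → Pt) (@D3.rec (fun _ => Pt) (ke xe0 ye0 ze1) (ke xe0 ye0 ze0) (ke xe0 ye0 ze2) (ke xe0 ye0 ze3) (ke xe0 ye0 ze4) (ke xe0 ye0 ze10) (ke xe0 ye0 ze6) (ke xe0 ye0 ze16) (ke xe0 ye0 ze8) (ke xe0 ye0 ze9) (ke xe0 ye0 ze5) (ke xe0 ye0 ze11) (ke xe0 ye0 ze26) (ke xe0 ye0 ze13) (ke xe0 ye0 ze14) (ke xe0 ye0 ze32) (ke xe0 ye0 ze7) (ke xe0 ye0 ze35) (ke xe0 ye0 ze36) (ke xe0 ye0 ze19) (ke xe0 ye0 ze20) (ke xe0 ye0 ze21) (ke xe0 ye1 ze5) (ke xe0 ye0 ze23) (ke xe0 ye0 ze24) (ke xe0 ye1 ze14) (ke xe0 ye0 ze12) (ke xe0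 ye1 ze17) (ke xe0 ye1 ze18) (ke xe0 ye0 ze29) (ke xe0 ye0 ze30) (ke xe0 ye1 ze27) (ke xe0 ye0 ze15) (ke xe0 ye1 ze31) (ke xe0 ye1 ze32) (ke xe0 ye0 ze17) (ke xe0 ye0 ze18) (ke xe0 ye1 ze37) (ke xe0 ye1 ze38) (ke xe0 ye0 ze39)) (@D3.rec (fun _ => Pt) (ke xe0 ye1 ze0) (ke xe0 ye2 ze8) (ke xe0 ye1 ze2) (ke xe0 ye1 ze3) (ke xe0 ye2 ze15) (ke xe0 ye0 ze22) (ke xe0 ye2 ze18) (ke xe0 ye2 ze19) (ke xe0 ye1 ze8) (ke xe0 ye1 ze9) (ke xe0 ye1 ze10) (ke xe0 ye1 ze11) (ke xe0 ye2 ze30) (ke xe0 ye2 ze33) (ke xe0 ye0 ze25) (ke xe0 ye2 ze37) (ke xe0 ye2 ze38) (ke xe0 ye0 ze27) (ke xe0 ye0 ze28) (ke xe0 ye3 ze1) (ke xe0 ye3 ze2) (ke xe0 ye1 ze21) (ke xe0 ye1 ze22) (ke xe0 ye1 ze23) (ke xe0 ye1 ze24) (ke xe0 ye1 ze25) (ke xe0 ye1 ze26) (ke xe0 ye0 ze31) (ke xe0 ye3 ze16)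 (ke xe0 ye3 ze17) (ke xe0 ye3 ze15) (ke xe0 ye0 ze33) (ke xe0 ye0 ze34) (ke xe0 ye3 ze25) (ke xe0 ye3 ze26) (ke xe0 ye3 ze27) (ke xe0 ye3 ze28) (ke xe0 ye0 ze37) (ke xe0 ye0 ze38) (ke xe0 ye3 ze33)) (@D3.rec (fun _ => Pt) (ke xe0 ye3 ze34) (ke xe0 ye2 ze1) (ke xe0 ye2 ze2) (ke xe0 ye2 ze3) (ke xe0 ye2 ze4) (ke xe0 ye2 ze5) (ke xe0 ye2 ze6) (ke xe0 ye4 ze9) (ke xe0 ye1 ze1) (ke xe0 ye4 ze12) (ke xe0 ye4 ze13) (ke xe0 ye2 ze11) (ke xe0 ye2 ze12) (ke xe0 ye4 ze18) (ke xe0 ye4 ze21) (ke xe0 ye1 ze4) (ke xe0 ye4 ze25) (ke xe0 ye4 ze26) (ke xe0 ye1 ze6) (ke xe0 ye1 ze7) (ke xe0 ye4 ze31) (ke xe0 ye4 ze32) (ke xe0 ye4 ze33) (ke xe0 ye4 ze34) (ke xe0 ye2 ze24) (ke xe0 ye2 ze25) (ke xe0 ye2 ze26) (ke xe0 ye2 ze27) (ke xe0 ye5 ze3) (ke xe0 ye5 ze6) (ke xe0 ye1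 ze12) (ke xe0 ye5 ze10) (ke xe0 ye5 ze11) (ke xe0 ye1 ze13) (ke xe0 ye5 ze17) (ke xe0 ye5 ze18) (ke xe0 ye5 ze16) (ke xe0 ye1 ze15) (ke xe0 ye1 ze16) (ke xe0 ye5 ze24)) (@D3.rec (fun _ => Pt) (ke xe0 ye5 ze25) (ke xe0 ye1 ze19) (ke xe0 ye1 ze20) (ke xe0 ye5 ze32) (ke xe0 ye5 ze33) (ke xe0 ye5 ze34) (ke xe0 ye5 ze35) (ke xe0 ye5 ze36) (ke xe0 ye5 ze37) (ke xe0 ye3 ze9) (ke xe0 ye6 ze9) (ke xe0 ye3 ze11) (ke xe0 ye3 ze12) (ke xe0 ye6 ze11) (ke xe0 ye3 ze14) (ke xe0 ye1 ze30) (ke xe0 ye1 ze28) (ke xe0 ye1 ze29) (ke xe0 ye6 ze15) (ke xe0 ye6 ze16) (ke xe0 ye6 ze17) (ke xe0 ye6 ze18) (ke xe0 ye6 ze12) (ke xe0 ye6 ze13) (ke xe0 ye6 ze14) (ke xe0 ye1 ze33) (ke xe0 ye1 ze34) (ke xe0 ye1 ze35) (ke xe0 ye1 ze36) (ke xe0 ye6 ze30) (ke xe0 ye6 ze31) (ke xe0 ye6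 ze32) (ke xe0 ye6 ze33) (ke xe0 ye1 ze39) (ke xe0 ye2 ze0) (ke xe0 ye7 ze0) (ke xe0 ye7 ze1) (ke xe0 ye7 ze2) (ke xe0 ye7 ze3) (ke xe0 ye7 ze4)) (@D3.rec (fun _ => Pt) (ke xe0 ye7 ze5) (ke xe0 ye4 ze1) (ke xe0 ye4 ze2) (ke xe0 ye4 ze3) (ke xe0 ye4 ze4) (ke xe0 ye4 ze5) (ke xe0 ye4 ze6) (ke xe0 ye7 ze15) (ke xe0 ye7 ze16) (ke xe0 ye2 ze7) (ke xe0 ye7 ze20) (ke xe0 ye7 ze21) (ke xe0 ye2 ze9) (ke xe0 ye2 ze10) (ke xe0 ye7 ze22) (ke xe0 ye7 ze23) (ke xe0 ye7 ze25) (ke xe0 ye7 ze28) (ke xe0 ye2 ze13) (ke xe0 ye7 ze32) (ke xe0 ye7 ze33) (ke xe0 ye2 ze14) (ke xe0 ye7 ze39) (ke xe0 ye8 ze0) (ke xe0 ye7 ze38) (ke xe0 ye2 ze16) (ke xe0 ye2 ze17) (ke xe0 ye8 ze8) (ke xe0 ye8 ze9) (ke xe0 ye8 ze10) (ke xe0 ye8 ze11) (ke xe0 ye2 ze20) (ke xe0 ye2 ze21) (ke xe0 ye2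 ze22) (ke xe0 ye2 ze23) (ke xe0 ye8 ze20) (ke xe0 ye8 ze21) (ke xe0 ye8 ze22) (ke xe0 ye8 ze23) (ke xe0 ye8 ze24)) (@D3.rec (fun _ => Pt) (ke xe0 ye8 ze25) (ke xe0 ye8 ze33) (ke xe0 ye8 ze34) (ke xe0 ye2 ze28) (ke xe0 ye8 ze38) (ke xe0 ye8 ze39) (ke xe0 ye2 ze29) (ke xe0 ye9 ze1) (ke xe0 ye9 ze2) (ke xe0 ye9 ze0) (ke xe0 ye2 ze31) (ke xe0 ye2 ze32) (ke xe0 ye9 ze10) (ke xe0 ye9 ze11) (ke xe0 ye9 ze12) (ke xe0 ye9 ze13) (ke xe0 ye2 ze36) (ke xe0 ye2 ze34) (ke xe0 ye2 ze35) (ke xe0 ye9 ze21) (ke xe0 ye9 ze22) (ke xe0 ye9 ze18) (ke xe0 ye9 ze19) (ke xe0 ye9 ze20) (ke xe0 ye2 ze39) (ke xe0 ye3 ze0) (ke xe0 ye9 ze34) (ke xe0 ye9 ze35) (ke xe0 ye9 ze36) (ke xe0 ye9 ze37) (ke xe0 ye9 ze38) (ke xe0 ye9 ze39) (ke xe0 ye3 ze3) (ke xe0 ye3 ze4) (ke xe0 ye3 ze5)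 (ke xe0 ye3 ze6) (ke xe0 ye3 ze7) (ke xe0 ye3 ze8) (ke xe0 ye10 ze8) (ke xe0 ye10 ze9)) (@D3.rec (fun _ => Pt) (ke xe0 ye10 ze19) (ke xe0 ye10 ze11) (ke xe0 ye10 ze12) (ke xe0 ye10 ze13) (ke xe0 ye10 ze14) (ke xe0 ye10 ze24) (ke xe0 ye10 ze16) (ke xe0 ye10 ze17) (ke xe0 ye10 ze30) (ke xe0 ye3 ze10) (ke xe0 ye10 ze33) (ke xe0 ye3 ze13) (ke xe0 ye3 ze22) (ke xe0 ye3 ze23) (ke xe0 ye3 ze24) (ke xe0 ye3 ze18) (ke xe0 ye3 ze19) (ke xe0 ye3 ze20) (ke xe0 ye3 ze21) (ke xe0 ye11 ze2) (ke xe0 ye11 ze3) (ke xe0 ye11 ze4) (ke xe0 ye11 ze5) (ke xe0 ye10 ze34) (ke xe0 ye10 ze36) (ke xe0 ye10 ze37) (ke xe0 ye10 ze38) (ke xe0 ye10 ze39) (ke xe0 ye11 ze0) (ke xe0 ye11 ze1) (ke xe0 ye3 ze29) (ke xe0 ye3 ze30) (ke xe0 ye3 ze31) (ke xe0 ye3 ze32) (ke xe0 ye11 ze21) (ke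 xe0 ye11 ze22) (ke xe0 ye11 ze23) (ke xe0 ye11 ze24) (ke xe0 ye11 ze25) (ke xe0 ye11 ze26)) (@D3.rec (fun _ => Pt) (ke xe0 ye3 ze35) (ke xe0 ye3 ze36) (ke xe0 ye3 ze37) (ke xe0 ye3 ze38) (ke xe0 ye3 ze39) (ke xe0 ye4 ze0) (ke xe0 ye11 ze35) (ke xe0 ye11 ze36) (ke xe0 ye11 ze38) (ke xe0 ye11 ze39) (ke xe0 ye12 ze0) (ke xe0 ye12 ze2) (ke xe0 ye7 ze12) (ke xe0 ye7 ze13) (ke xe0 ye12 ze10) (ke xe0 ye4 ze7) (ke xe0 ye4 ze8) (ke xe0 ye12 ze13) (ke xe0 ye12 ze14) (ke xe0 ye12 ze12) (ke xe0 ye4 ze10) (ke xe0 ye4 ze11) (ke xe0 ye4 ze14) (ke xe0 ye4 ze15) (ke xe0 ye12 ze18) (ke xe0 ye4 ze16) (ke xe0 ye12 ze22) (ke xe0 ye12 ze23) (ke xe0 ye4 ze17) (ke xe0 ye12 ze27) (ke xe0 ye12 ze28) (ke xe0 ye12 ze26) (ke xe0 ye4 ze19) (ke xe0 ye4 ze20) (ke xe0 ye12 ze36) (ke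 xe0 ye12 ze37) (ke xe0 ye12 ze38) (ke xe0 ye12 ze39) (ke xe0 ye4 ze24) (ke xe0 ye4 ze22)) (@D3.rec (fun _ => Pt) (ke xe0 ye4 ze23) (ke xe0 ye13 ze11) (ke xe0 ye13 ze12) (ke xe0 ye13 ze13) (ke xe0 ye13 ze14) (ke xe0 ye13 ze8) (ke xe0 ye13 ze9) (ke xe0 ye13 ze10) (ke xe0 ye4 ze27) (ke xe0 ye4 ze28) (ke xe0 ye4 ze29) (ke xe0 ye4 ze30) (ke xe0 ye13 ze30) (ke xe0 ye13 ze31) (ke xe0 ye13 ze32) (ke xe0 ye13 ze33) (ke xe0 ye13 ze34) (ke xe0 ye13 ze35) (ke xe0 ye13 ze36) (ke xe0 ye13 ze37) (ke xe0 ye4 ze35) (ke xe0 ye4 ze36) (ke xe0 ye4 ze37) (ke xe0 ye4 ze38) (ke xe0 ye4 ze39) (ke xe0 ye5 ze0) (ke xe0 ye14 ze20) (ke xe0 ye14 ze15) (ke xe0 ye14 ze16) (ke xe0 ye14 ze24) (ke xe0 ye14 ze18) (ke xe0 ye14 ze19) (ke xe0 ye14 ze29) (ke xe0 ye5 ze1) (ke xe0 ye5 ze2)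 (ke xe0 ye14 ze32) (ke xe0 ye14 ze33) (ke xe0 ye14 ze31) (ke xe0 ye5 ze4) (ke xe0 ye5 ze5)) (@D3.rec (fun _ => Pt) (ke xe0 ye5 ze9) (ke xe0 ye5 ze7) (ke xe0 ye5 ze8) (ke xe0 ye15 ze0) (ke xe0 ye15 ze1) (ke xe0 ye15 ze2) (ke xe0 ye15 ze3) (ke xe0 ye14 ze37) (ke xe0 ye14 ze38) (ke xe0 ye14 ze39) (ke xe0 ye5 ze12) (ke xe0 ye5 ze13) (ke xe0 ye5 ze14) (ke xe0 ye5 ze15) (ke xe0 ye15 ze14) (ke xe0 ye15 ze15) (ke xe0 ye15 ze16) (ke xe0 ye15 ze17) (ke xe0 ye5 ze21) (ke xe0 ye5 ze22) (ke xe0 ye5 ze23) (ke xe0 ye5 ze19) (ke xe0 ye5 ze20) (ke xe0 ye15 ze30) (ke xe0 ye15 ze31) (ke xe0 ye15 ze32) (ke xe0 ye15 ze33) (ke xe0 ye15 ze34) (ke xe0 ye15 ze35) (ke xe0 ye15 ze24) (ke xe0 ye15 ze26) (ke xe0 ye15 ze27) (ke xe0 ye15 ze28) (ke xe0 ye15 ze29) (ke xe0 ye5 ze26)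 (ke xe0 ye5 ze27) (ke xe0 ye5 ze28) (ke xe0 ye5 ze29) (ke xe0 ye5 ze30) (ke xe0 ye5 ze31)) (@D3.rec (fun _ => Pt) (ke xe0 ye16 ze9) (ke xe0 ye16 ze10) (ke xe0 ye16 ze20) (ke xe0 ye16 ze12) (ke xe0 ye16 ze13) (ke xe0 ye16 ze14) (ke xe0 ye16 ze26) (ke xe0 ye16 ze16) (ke xe0 ye5 ze38) (ke xe0 ye5 ze39) (ke xe0 ye16 ze31) (ke xe0 ye6 ze1) (ke xe0 ye6 ze2) (ke xe0 ye6 ze3) (ke xe0 ye6 ze4) (ke xe0 ye16 ze37) (ke xe0 ye6 ze6) (ke xe0 ye6 ze7) (ke xe0 ye17 ze1) (ke xe0 ye6 ze0) (ke xe0 ye17 ze2) (ke xe0 ye16 ze33) (ke xe0 ye16 ze34) (ke xe0 ye17 ze8) (ke xe0 ye6 ze5) (ke xe0 ye17 ze9) (ke xe0 ye16 ze39) (ke xe0 ye17 ze0) (ke xe0 ye17 ze16) (ke xe0 ye17 ze18) (ke xe0 ye6 ze8) (ke xe0 ye17 ze21) (ke xe0 ye17 ze23) (ke xe0 ye6 ze10) (ke xe0 ye6 ze23) (ke xe0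 ye15 ze25) (ke xe0 ye6 ze24) (ke xe0 ye6 ze25) (ke xe0 ye6 ze26) (ke xe0 ye6 ze27)) (@D3.rec (fun _ => Pt) (ke xe0 ye6 ze28) (ke xe0 ye6 ze29) (ke xe0 ye6 ze19) (ke xe0 ye6 ze20) (ke xe0 ye6 ze21) (ke xe0 ye6 ze22) (ke xe0 ye18 ze1) (ke xe0 ye18 ze2) (ke xe0 ye17 ze25) (ke xe0 ye17 ze27) (ke xe0 ye17 ze28) (ke xe0 ye17 ze31) (ke xe0 ye17 ze32) (ke xe0 ye17 ze33) (ke xe0 ye17 ze34) (ke xe0 ye17 ze35) (ke xe0 ye17 ze36) (ke xe0 ye17 ze37) (ke xe0 ye17 ze38) (ke xe0 ye17 ze39) (ke xe0 ye18 ze0) (ke xe0 ye6 ze34) (ke xe0 ye6 ze35) (ke xe0 ye6 ze36) (ke xe0 ye6 ze37) (ke xe0 ye6 ze38) (ke xe0 ye6 ze39) (ke xe0 ye18 ze30) (ke xe0 ye18 ze31) (ke xe0 ye18 ze32) (ke xe0 ye19 ze3) (ke xe0 ye18 ze34) (ke xe0 ye18 ze35) (ke xe0 ye18 ze36) (ke xe0 ye19 ze9) (ke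 xe0 ye7 ze6) (ke xe0 ye7 ze7) (ke xe0 ye19 ze10) (ke xe0 ye7 ze8) (ke xe0 ye7 ze9)) (@D3.rec (fun _ => Pt) (ke xe0 ye7 ze10) (ke xe0 ye19 ze15) (ke xe0 ye7 ze11) (ke xe0 ye19 ze11) (ke xe0 ye19 ze14) (ke xe0 ye19 ze16) (ke xe0 ye19 ze19) (ke xe0 ye12 ze7) (ke xe0 ye12 ze8) (ke xe0 ye19 ze27) (ke xe0 ye7 ze14) (ke xe0 ye19 ze28) (ke xe0 ye7 ze19) (ke xe0 ye7 ze17) (ke xe0 ye7 ze18) (ke xe0 ye19 ze30) (ke xe0 ye19 ze31) (ke xe0 ye19 ze32) (ke xe0 ye7 ze24) (ke xe0 ye19 ze37) (ke xe0 ye19 ze38) (ke xe0 ye19 ze36) (ke xe0 ye7 ze26) (ke xe0 ye7 ze27) (ke xe0 ye20 ze4) (ke xe0 ye20 ze5) (ke xe0 ye7 ze31) (ke xe0 ye7 ze29) (ke xe0 ye7 ze30) (ke xe0 ye20 ze9) (ke xe0 ye20 ze10) (ke xe0 ye20 ze11) (ke xe0 ye20 ze12) (ke xe0 ye20 ze6) (ke xe0 ye20 ze7) (ke xe0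 ye20 ze8) (ke xe0 ye7 ze34) (ke xe0 ye7 ze35) (ke xe0 ye7 ze36) (ke xe0 ye7 ze37)) (@D3.rec (fun _ => Pt) (ke xe0 ye20 ze25) (ke xe0 ye20 ze26) (ke xe0 ye20 ze27) (ke xe0 ye20 ze28) (ke xe0 ye20 ze29) (ke xe0 ye20 ze30) (ke xe0 ye20 ze31) (ke xe0 ye20 ze32) (ke xe0 ye8 ze5) (ke xe0 ye8 ze6) (ke xe0 ye8 ze7) (ke xe0 ye8 ze1) (ke xe0 ye8 ze2) (ke xe0 ye8 ze3) (ke xe0 ye8 ze4) (ke xe0 ye21 ze9) (ke xe0 ye21 ze10) (ke xe0 ye21 ze11) (ke xe0 ye21 ze12) (ke xe0 ye21 ze13) (ke xe0 ye21 ze14) (ke xe0 ye21 ze15) (ke xe0 ye21 ze16) (ke xe0 ye21 ze1) (ke xe0 ye21 ze3) (ke xe0 ye21 ze4) (ke xe0 ye21 ze5) (ke xe0 ye21 ze6) (ke xe0 ye21 ze7) (ke xe0 ye21 ze8) (ke xe0 ye8 ze12) (ke xe0 ye8 ze13) (ke xe0 ye8 ze14) (ke xe0 ye8 ze15) (ke xe0 ye8 ze16) (ke xe0 ye8 ze17)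 (ke xe0 ye8 ze18) (ke xe0 ye8 ze19) (ke xe0 ye22 ze2) (ke xe0 ye22 ze3)) (@D3.rec (fun _ => Pt) (ke xe0 ye22 ze19) (ke xe0 ye22 ze5) (ke xe0 ye22 ze6) (ke xe0 ye22 ze7) (ke xe0 ye22 ze8) (ke xe0 ye22 ze9) (ke xe0 ye22 ze10) (ke xe0 ye22 ze11) (ke xe0 ye22 ze28) (ke xe0 ye22 ze13) (ke xe0 ye22 ze14) (ke xe0 ye22 ze15) (ke xe0 ye22 ze16) (ke xe0 ye22 ze17) (ke xe0 ye22 ze37) (ke xe0 ye8 ze27) (ke xe0 ye8 ze28) (ke xe0 ye23 ze2) (ke xe0 ye8 ze30) (ke xe0 ye8 ze31) (ke xe0 ye8 ze26) (ke xe0 ye23 ze6) (ke xe0 ye22 ze39) (ke xe0 ye23 ze10) (ke xe0 ye8 ze29) (ke xe0 ye23 ze11) (ke xe0 ye23 ze4) (ke xe0 ye23 ze15) (ke xe0 ye23 ze17) (ke xe0 ye8 ze32) (ke xe0 ye23 ze18) (ke xe0 ye8 ze37) (ke xe0 ye8 ze35) (ke xe0 ye8 ze36) (ke xe0 ye23 ze20) (ke xe0 ye23 ze21)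 (ke xe0 ye23 ze22) (ke xe0 ye9 ze7) (ke xe0 ye9 ze8) (ke xe0 ye9 ze9)) (@D3.rec (fun _ => Pt) (ke xe0 ye9 ze3) (ke xe0 ye9 ze4) (ke xe0 ye9 ze5) (ke xe0 ye9 ze6) (ke xe0 ye23 ze35) (ke xe0 ye23 ze36) (ke xe0 ye23 ze27) (ke xe0 ye24 ze6) (ke xe0 ye23 ze29) (ke xe0 ye23 ze30) (ke xe0 ye23 ze31) (ke xe0 ye23 ze32) (ke xe0 ye23 ze33) (ke xe0 ye23 ze34) (ke xe0 ye9 ze14) (ke xe0 ye9 ze15) (ke xe0 ye9 ze16) (ke xe0 ye9 ze17) (ke xe0 ye24 ze23) (ke xe0 ye24 ze18) (ke xe0 ye24 ze19) (ke xe0 ye24 ze24) (ke xe0 ye24 ze21) (ke xe0 ye24 ze22) (ke xe0 ye9 ze29) (ke xe0 ye10 ze35) (ke xe0 ye9 ze30) (ke xe0 ye9 ze31) (ke xe0 ye9 ze32) (ke xe0 ye9 ze33) (ke xe0 ye9 ze23) (ke xe0 ye9 ze24) (ke xe0 ye9 ze25) (ke xe0 ye9 ze26) (ke xe0 ye9 ze27) (ke xe0 ye9 ze28) (ke xe0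 ye24 ze39) (ke xe0 ye25 ze1) (ke xe0 ye24 ze25) (ke xe0 ye24 ze27)) (@D3.rec (fun _ => Pt) (ke xe0 ye24 ze28) (ke xe0 ye24 ze31) (ke xe0 ye24 ze32) (ke xe0 ye24 ze33) (ke xe0 ye24 ze34) (ke xe0 ye24 ze35) (ke xe0 ye24 ze36) (ke xe0 ye24 ze37) (ke xe0 ye24 ze38) (ke xe0 ye10 ze0) (ke xe0 ye10 ze1) (ke xe0 ye25 ze28) (ke xe0 ye10 ze3) (ke xe0 ye10 ze4) (ke xe0 ye10 ze5) (ke xe0 ye25 ze35) (ke xe0 ye10 ze7) (ke xe0 ye25 ze24) (ke xe0 ye25 ze38) (ke xe0 ye25 ze26) (ke xe0 ye10 ze2) (ke xe0 ye25 ze39) (ke xe0 ye25 ze30) (ke xe0 ye25 ze31) (ke xe1 ye0 ze2) (ke xe0 ye25 ze33) (ke xe0 ye10 ze6) (ke xe1 ye0 ze3) (ke xe0 ye25 ze37) (ke xe1 ye0 ze7) (ke xe1 ye0 ze9) (ke xe0 ye10 ze10) (ke xe1 ye0 ze11) (ke xe0 ye10 ze21) (ke xe0 ye10 ze22) (ke xe1 ye0 ze18) (ke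 xe1 ye0 ze20) (ke xe0 ye10 ze15) (ke xe1 ye0 ze22) (ke xe0 ye10 ze26)) (@D3.rec (fun _ => Pt) (ke xe0 ye10 ze27) (ke xe0 ye10 ze18) (ke xe0 ye10 ze20) (ke xe1 ye0 ze28) (ke xe1 ye0 ze29) (ke xe1 ye0 ze14) (ke xe1 ye0 ze15) (ke xe1 ye0 ze16) (ke xe0 ye10 ze23) (ke xe0 ye10 ze25) (ke xe1 ye0 ze33) (ke xe1 ye0 ze34) (ke xe1 ye0 ze25) (ke xe1 ye0 ze26) (ke xe1 ye0 ze27) (ke xe1 ye0 ze36) (ke xe0 ye10 ze28) (ke xe1 ye0 ze38) (ke xe0 ye10 ze29) (ke xe1 ye0 ze39) (ke xe1 ye1 ze1) (ke xe0 ye10 ze31) (ke xe1 ye1 ze3) (ke xe0 ye10 ze32) (ke xe1 ye1 ze4) (ke xe0 ye11 ze8) (ke xe0 ye24 ze26) (ke xe0 ye11 ze9) (ke xe0 ye11 ze10) (ke xe0 ye24 ze29) (ke xe0 ye24 ze30) (ke xe0 ye11 ze11) (ke xe0 ye11 ze12) (ke xe0 ye11 ze13) (ke xe0 ye11 ze14) (ke xe0 ye11 ze15) (ke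 xe0 ye11 ze16) (ke xe0 ye11 ze17) (ke xe0 ye11 ze18) (ke xe0 ye11 ze19)) (@D3.rec (fun _ => Pt) (ke xe0 ye11 ze20) (ke xe0 ye11 ze6) (ke xe0 ye11 ze7) (ke xe1 ye1 ze37) (ke xe1 ye1 ze38) (ke xe1 ye1 ze6) (ke xe1 ye1 ze8) (ke xe1 ye1 ze9) (ke xe1 ye1 ze13) (ke xe1 ye1 ze14) (ke xe1 ye1 ze15) (ke xe1 ye1 ze16) (ke xe1 ye1 ze21) (ke xe1 ye1 ze22) (ke xe1 ye1 ze23) (ke xe1 ye1 ze24) (ke xe1 ye1 ze25) (ke xe1 ye1 ze26) (ke xe1 ye1 ze27) (ke xe1 ye1 ze28) (ke xe1 ye2 ze37) (ke xe1 ye1 ze30) (ke xe0 ye25 ze0) (ke xe1 ye1 ze31) (ke xe1 ye1 ze32) (ke xe1 ye3 ze4) (ke xe1 ye1 ze34) (ke xe0 ye25 ze2) (ke xe1 ye1 ze35) (ke xe1 ye1 ze36) (ke xe0 ye11 ze27) (ke xe0 ye11 ze28) (ke xe0 ye11 ze29) (ke xe1 ye3 ze17) (ke xe0 ye11 ze31) (ke xe0 ye11 ze32) (ke xe0 ye11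 ze33) (ke xe1 ye3 ze24) (ke xe1 ye3 ze25) (ke xe1 ye3 ze12)) (@D3.rec (fun _ => Pt) (ke xe1 ye3 ze13) (ke xe1 ye3 ze14) (ke xe1 ye3 ze31) (ke xe0 ye11 ze30) (ke xe1 ye3 ze32) (ke xe1 ye3 ze19) (ke xe1 ye3 ze20) (ke xe1 ye3 ze21) (ke xe1 ye3 ze38) (ke xe0 ye11 ze34) (ke xe0 ye11 ze37) (ke xe0 ye12 ze3) (ke xe1 ye3 ze39) (ke xe1 ye4 ze0) (ke xe0 ye12 ze4) (ke xe0 ye12 ze1) (ke xe0 ye12 ze5) (ke xe1 ye4 ze7) (ke xe1 ye4 ze8) (ke xe0 ye12 ze6) (ke xe1 ye4 ze1) (ke xe1 ye4 ze5) (ke xe1 ye4 ze6) (ke xe1 ye4 ze9) (ke xe1 ye4 ze13) (ke xe1 ye4 ze14) (ke xe0 ye23 ze16) (ke xe0 ye12 ze9) (ke xe0 ye12 ze11) (ke xe1 ye4 ze17) (ke xe0 ye12 ze15) (ke xe0 ye12 ze16) (ke xe0 ye12 ze17) (ke xe1 ye4 ze20) (ke xe1 ye4 ze22) (ke xe1 ye4 ze23) (ke xe0 ye12 ze21) (ke xe0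 ye12 ze19) (ke xe0 ye12 ze20) (ke xe1 ye4 ze32)) (@D3.rec (fun _ => Pt) (ke xe1 ye4 ze33) (ke xe1 ye4 ze29) (ke xe1 ye4 ze30) (ke xe1 ye4 ze31) (ke xe0 ye12 ze24) (ke xe0 ye12 ze25) (ke xe0 ye12 ze33) (ke xe0 ye12 ze34) (ke xe0 ye12 ze35) (ke xe0 ye12 ze29) (ke xe0 ye12 ze30) (ke xe0 ye12 ze31) (ke xe0 ye12 ze32) (ke xe1 ye5 ze7) (ke xe1 ye5 ze8) (ke xe1 ye5 ze9) (ke xe1 ye5 ze10) (ke xe1 ye4 ze39) (ke xe1 ye5 ze15) (ke xe1 ye5 ze1) (ke xe1 ye5 ze2) (ke xe1 ye5 ze3) (ke xe1 ye5 ze4) (ke xe1 ye5 ze5) (ke xe1 ye5 ze6) (ke xe0 ye13 ze0) (ke xe0 ye13 ze1) (ke xe0 ye13 ze2) (ke xe0 ye13 ze3) (ke xe0 ye13 ze4) (ke xe0 ye13 ze5) (ke xe0 ye13 ze6) (ke xe0 ye13 ze7) (ke xe1 ye5 ze30) (ke xe1 ye6 ze0) (ke xe1 ye5 ze32) (ke xe1 ye5 ze33) (ke xe1 ye5 ze34) (ke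 xe1 ye6 ze4) (ke xe1 ye5 ze36)) (@D3.rec (fun _ => Pt) (ke xe1 ye5 ze37) (ke xe0 ye13 ze23) (ke xe1 ye4 ze21) (ke xe0 ye13 ze24) (ke xe0 ye13 ze25) (ke xe0 ye13 ze26) (ke xe0 ye13 ze27) (ke xe0 ye13 ze28) (ke xe0 ye13 ze29) (ke xe0 ye13 ze15) (ke xe0 ye13 ze16) (ke xe0 ye13 ze17) (ke xe0 ye13 ze18) (ke xe0 ye13 ze19) (ke xe0 ye13 ze20) (ke xe0 ye13 ze21) (ke xe0 ye13 ze22) (ke xe1 ye6 ze24) (ke xe1 ye6 ze26) (ke xe1 ye6 ze27) (ke xe1 ye6 ze28) (ke xe1 ye6 ze29) (ke xe1 ye6 ze30) (ke xe1 ye6 ze32) (ke xe1 ye6 ze33) (ke xe1 ye6 ze34) (ke xe1 ye6 ze35) (ke xe1 ye6 ze6) (ke xe1 ye6 ze8) (ke xe1 ye6 ze9) (ke xe1 ye6 ze12) (ke xe1 ye6 ze13) (ke xe1 ye6 ze14) (ke xe1 ye6 ze15) (ke xe1 ye6 ze16) (ke xe1 ye6 ze17) (ke xe1 ye6 ze18) (ke xe1 ye6 ze19) (ke xe1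 ye6 ze20) (ke xe1 ye6 ze21)) (@D3.rec (fun _ => Pt) (ke xe1 ye6 ze22) (ke xe1 ye6 ze23) (ke xe0 ye13 ze38) (ke xe0 ye13 ze39) (ke xe1 ye7 ze35) (ke xe0 ye14 ze1) (ke xe0 ye14 ze2) (ke xe0 ye14 ze3) (ke xe0 ye14 ze4) (ke xe0 ye14 ze5) (ke xe0 ye14 ze6) (ke xe0 ye14 ze7) (ke xe1 ye8 ze5) (ke xe0 ye14 ze9) (ke xe0 ye14 ze10) (ke xe0 ye14 ze11) (ke xe0 ye14 ze12) (ke xe0 ye14 ze13) (ke xe1 ye8 ze13) (ke xe0 ye14 ze0) (ke xe1 ye8 ze14) (ke xe1 ye7 ze37) (ke xe1 ye7 ze38) (ke xe1 ye7 ze39) (ke xe1 ye8 ze0) (ke xe1 ye8 ze1) (ke xe1 ye8 ze18) (ke xe1 ye8 ze19) (ke xe0 ye14 ze8) (ke xe1 ye8 ze20) (ke xe1 ye8 ze7) (ke xe1 ye8 ze8) (ke xe1 ye8 ze9) (ke xe1 ye8 ze10) (ke xe1 ye8 ze11) (ke xe1 ye8 ze24) (ke xe1 ye8 ze26) (ke xe0 ye14 ze14) (ke xe1 ye8 ze28) (ke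 xe0 ye14 ze22)) (@D3.rec (fun _ => Pt) (ke xe1 ye8 ze33) (ke xe1 ye8 ze35) (ke xe0 ye14 ze17) (ke xe1 ye8 ze37) (ke xe0 ye14 ze26) (ke xe1 ye9 ze2) (ke xe0 ye14 ze21) (ke xe1 ye9 ze3) (ke xe1 ye8 ze30) (ke xe1 ye8 ze31) (ke xe0 ye14 ze23) (ke xe0 ye14 ze25) (ke xe1 ye9 ze4) (ke xe1 ye8 ze39) (ke xe1 ye9 ze0) (ke xe0 ye14 ze27) (ke xe0 ye19 ze26) (ke xe0 ye14 ze28) (ke xe0 ye14 ze30) (ke xe1 ye9 ze5) (ke xe0 ye14 ze34) (ke xe0 ye14 ze35) (ke xe0 ye14 ze36) (ke xe1 ye9 ze8) (ke xe1 ye9 ze16) (ke xe1 ye9 ze10) (ke xe1 ye9 ze11) (ke xe0 ye15 ze6) (ke xe1 ye9 ze24) (ke xe0 ye15 ze8) (ke xe0 ye15 ze9) (ke xe0 ye15 ze10) (ke xe0 ye15 ze11) (ke xe0 ye15 ze12) (ke xe0 ye15 ze13) (ke xe0 ye15 ze4) (ke xe0 ye15 ze5) (ke xe1 ye9 ze35) (ke xe1 ye9 ze36) (ke xe1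 ye9 ze37)) (@D3.rec (fun _ => Pt) (ke xe1 ye9 ze38) (ke xe1 ye9 ze21) (ke xe1 ye10 ze1) (ke xe1 ye9 ze22) (ke xe1 ye9 ze23) (ke xe1 ye10 ze10) (ke xe0 ye15 ze7) (ke xe1 ye10 ze13) (ke xe1 ye10 ze14) (ke xe1 ye9 ze27) (ke xe1 ye9 ze28) (ke xe1 ye9 ze29) (ke xe1 ye9 ze30) (ke xe1 ye9 ze31) (ke xe1 ye9 ze32) (ke xe1 ye9 ze33) (ke xe1 ye9 ze34) (ke xe1 ye10 ze34) (ke xe0 ye15 ze19) (ke xe0 ye15 ze20) (ke xe1 ye10 ze37) (ke xe0 ye15 ze22) (ke xe0 ye15 ze23) (ke xe0 ye15 ze18) (ke xe0 ye15 ze21) (ke xe0 ye15 ze38) (ke xe0 ye17 ze26) (ke xe0 ye15 ze39) (ke xe0 ye16 ze0) (ke xe0 ye17 ze29) (ke xe0 ye17 ze30) (ke xe0 ye16 ze1) (ke xe0 ye16 ze2) (ke xe0 ye16 ze3) (ke xe0 ye16 ze4) (ke xe0 ye16 ze5) (ke xe0 ye16 ze6) (ke xe0 ye16 ze7) (ke xe0 ye16 ze8) (ke xe0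 ye15 ze36)) (@D3.rec (fun _ => Pt) (ke xe0 ye18 ze22) (ke xe0 ye15 ze37) (ke xe0 ye18 ze27) (ke xe1 ye10 ze39) (ke xe1 ye11 ze1) (ke xe1 ye11 ze2) (ke xe1 ye11 ze6) (ke xe1 ye11 ze7) (ke xe1 ye11 ze8) (ke xe1 ye11 ze9) (ke xe1 ye11 ze12) (ke xe1 ye11 ze13) (ke xe1 ye11 ze14) (ke xe1 ye11 ze15) (ke xe1 ye11 ze16) (ke xe1 ye11 ze17) (ke xe1 ye11 ze18) (ke xe1 ye11 ze19) (ke xe1 ye12 ze18) (ke xe1 ye11 ze21) (ke xe1 ye11 ze22) (ke xe1 ye11 ze23) (ke xe1 ye12 ze25) (ke xe1 ye11 ze25) (ke xe0 ye16 ze17) (ke xe1 ye12 ze30) (ke xe0 ye16 ze19) (ke xe1 ye12 ze34) (ke xe0 ye16 ze11) (ke xe1 ye12 ze36) (ke xe0 ye16 ze22) (ke xe0 ye16 ze23) (ke xe1 ye13 ze1) (ke xe0 ye16 ze25) (ke xe1 ye13 ze5) (ke xe0 ye16 ze15) (ke xe1 ye13 ze7) (ke xe0 ye16 ze28) (ke xe0 ye16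 ze18) (ke xe0 ye16 ze21))
def f_e_1 : D2 → D3 → Pt := @D2.rec (fun _ => D3 → Pt) (@D3.rec (fun _ => Pt) (ke xe1 ye13 ze10) (ke xe1 ye12 ze38) (ke xe0 ye16 ze24) (ke xe0 ye16 ze27) (ke xe1 ye13 ze11) (ke xe1 ye13 ze9) (ke xe1 ye13 ze13) (ke xe0 ye16 ze29) (ke xe1 ye13 ze15) (ke xe0 ye16 ze30) (ke xe1 ye13 ze19) (ke xe0 ye16 ze32) (ke xe1 ye13 ze22) (ke xe1 ye13 ze23) (ke xe0 ye17 ze5) (ke xe0 ye17 ze6) (ke xe0 ye17 ze7) (ke xe1 ye13 ze30) (ke xe0 ye16 ze35) (ke xe1 ye13 ze32) (ke xe0 ye16 ze36) (ke xe1 ye13 ze36) (ke xe0 ye16 ze38) (ke xe1 ye13 ze39) (ke xe1 ye14 ze0) (ke xe0 ye17 ze12) (ke xe0 ye17 ze13) (ke xe0 ye17 ze14) (ke xe0 ye17 ze3) (ke xe0 ye17 ze4) (ke xe1 ye14 ze6) (ke xe1 ye14 ze7) (ke xe1 ye13 ze28) (ke xe0 ye17 ze10) (ke xe0 ye17 ze11)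 (ke xe1 ye14 ze5) (ke xe0 ye17 ze15) (ke xe1 ye14 ze8) (ke xe0 ye17 ze17) (ke xe0 ye17 ze19)) (@D3.rec (fun _ => Pt) (ke xe1 ye14 ze11) (ke xe0 ye17 ze20) (ke xe1 ye14 ze13) (ke xe0 ye17 ze22) (ke xe0 ye17 ze24) (ke xe1 ye14 ze16) (ke xe0 ye18 ze5) (ke xe1 ye11 ze0) (ke xe0 ye18 ze6) (ke xe0 ye18 ze7) (ke xe1 ye11 ze3) (ke xe1 ye11 ze4) (ke xe1 ye11 ze5) (ke xe0 ye18 ze8) (ke xe0 ye18 ze9) (ke xe0 ye18 ze10) (ke xe0 ye18 ze11) (ke xe1 ye11 ze10) (ke xe1 ye1 ze20) (ke xe1 ye11 ze11) (ke xe1 ye1 ze18) (ke xe0 ye18 ze12) (ke xe0 ye18 ze13) (ke xe0 ye18 ze14) (ke xe0 ye18 ze15) (ke xe0 ye18 ze16) (ke xe0 ye18 ze17) (ke xe0 ye18 ze18) (ke xe0 ye18 ze19) (ke xe1 ye15 ze32) (ke xe0 ye18 ze21) (ke xe0 ye18 ze23) (ke xe0 ye18 ze24) (ke xe1 ye15 ze38) (ke xe0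 ye18 ze26) (ke xe0 ye18 ze28) (ke xe0 ye18 ze29) (ke xe0 ye18 ze3) (ke xe0 ye18 ze4) (ke xe1 ye16 ze3)) (@D3.rec (fun _ => Pt) (ke xe1 ye16 ze4) (ke xe1 ye16 ze5) (ke xe1 ye16 ze6) (ke xe1 ye14 ze18) (ke xe1 ye14 ze19) (ke xe1 ye14 ze21) (ke xe1 ye14 ze22) (ke xe1 ye14 ze26) (ke xe1 ye14 ze27) (ke xe1 ye14 ze35) (ke xe1 ye14 ze36) (ke xe1 ye14 ze37) (ke xe1 ye14 ze38) (ke xe1 ye14 ze39) (ke xe1 ye15 ze0) (ke xe1 ye15 ze1) (ke xe1 ye15 ze2) (ke xe1 ye15 ze11) (ke xe1 ye15 ze12) (ke xe1 ye15 ze13) (ke xe1 ye17 ze10) (ke xe1 ye15 ze15) (ke xe1 ye15 ze16) (ke xe1 ye15 ze17) (ke xe1 ye15 ze18) (ke xe1 ye15 ze19) (ke xe1 ye15 ze20) (ke xe1 ye15 ze21) (ke xe1 ye15 ze22) (ke xe1 ye15 ze23) (ke xe1 ye17 ze33) (ke xe1 ye15 ze25) (ke xe1 ye15 ze26) (ke xe1 ye15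 ze27) (ke xe1 ye15 ze28) (ke xe1 ye15 ze29) (ke xe1 ye15 ze30) (ke xe0 ye18 ze20) (ke xe1 ye18 ze7) (ke xe1 ye15 ze33)) (@D3.rec (fun _ => Pt) (ke xe1 ye11 ze26) (ke xe1 ye15 ze34) (ke xe1 ye15 ze35) (ke xe1 ye18 ze18) (ke xe0 ye18 ze25) (ke xe1 ye18 ze19) (ke xe1 ye15 ze39) (ke xe1 ye11 ze27) (ke xe1 ye16 ze0) (ke xe1 ye16 ze1) (ke xe1 ye18 ze30) (ke xe1 ye18 ze32) (ke xe0 ye18 ze39) (ke xe0 ye19 ze0) (ke xe0 ye19 ze1) (ke xe1 ye19 ze0) (ke xe1 ye19 ze3) (ke xe0 ye18 ze33) (ke xe1 ye19 ze5) (ke xe0 ye19 ze5) (ke xe0 ye19 ze6) (ke xe0 ye19 ze7) (ke xe1 ye19 ze13) (ke xe1 ye19 ze16) (ke xe0 ye18 ze37) (ke xe0 ye18 ze38) (ke xe1 ye18 ze33) (ke xe1 ye18 ze34) (ke xe1 ye19 ze17) (ke xe1 ye18 ze36) (ke xe1 ye18 ze38) (ke xe0 ye19 ze2) (ke xe0 ye19 ze4) (ke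 xe1 ye19 ze6) (ke xe1 ye19 ze7) (ke xe1 ye19 ze18) (ke xe1 ye19 ze9) (ke xe1 ye19 ze11) (ke xe0 ye19 ze8) (ke xe0 ye19 ze12)) (@D3.rec (fun _ => Pt) (ke xe0 ye19 ze13) (ke xe0 ye19 ze20) (ke xe1 ye19 ze19) (ke xe1 ye19 ze20) (ke xe1 ye19 ze21) (ke xe0 ye19 ze21) (ke xe0 ye19 ze22) (ke xe0 ye19 ze17) (ke xe0 ye19 ze18) (ke xe0 ye19 ze23) (ke xe1 ye19 ze30) (ke xe1 ye19 ze31) (ke xe1 ye19 ze32) (ke xe0 ye19 ze24) (ke xe0 ye19 ze25) (ke xe1 ye19 ze29) (ke xe1 ye20 ze0) (ke xe0 ye19 ze29) (ke xe1 ye20 ze1) (ke xe1 ye9 ze7) (ke xe0 ye19 ze33) (ke xe0 ye21 ze2) (ke xe0 ye19 ze34) (ke xe0 ye19 ze35) (ke xe1 ye20 ze6) (ke xe1 ye20 ze8) (ke xe1 ye20 ze9) (ke xe1 ye20 ze12) (ke xe1 ye20 ze13) (ke xe0 ye20 ze1) (ke xe0 ye20 ze2) (ke xe0 ye20 ze3) (ke xe0 ye19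 ze39) (ke xe0 ye20 ze0) (ke xe1 ye20 ze25) (ke xe1 ye20 ze26) (ke xe1 ye20 ze27) (ke xe1 ye20 ze28) (ke xe1 ye20 ze29) (ke xe0 ye20 ze17)) (@D3.rec (fun _ => Pt) (ke xe1 ye20 ze30) (ke xe0 ye20 ze19) (ke xe0 ye20 ze20) (ke xe0 ye20 ze21) (ke xe0 ye20 ze22) (ke xe0 ye20 ze23) (ke xe0 ye20 ze24) (ke xe0 ye20 ze13) (ke xe0 ye20 ze14) (ke xe0 ye20 ze15) (ke xe0 ye20 ze16) (ke xe1 ye20 ze37) (ke xe1 ye21 ze18) (ke xe1 ye20 ze39) (ke xe1 ye21 ze0) (ke xe0 ye20 ze18) (ke xe1 ye21 ze25) (ke xe1 ye21 ze26) (ke xe1 ye21 ze3) (ke xe1 ye21 ze4) (ke xe1 ye21 ze5) (ke xe1 ye21 ze6) (ke xe1 ye6 ze25) (ke xe1 ye21 ze7) (ke xe1 ye21 ze8) (ke xe1 ye21 ze9) (ke xe1 ye6 ze31) (ke xe1 ye21 ze10) (ke xe1 ye21 ze11) (ke xe1 ye21 ze12) (ke xe0 ye20 ze33) (ke xe1 ye22 ze10)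 (ke xe0 ye20 ze35) (ke xe0 ye20 ze36) (ke xe0 ye20 ze37) (ke xe1 ye22 ze16) (ke xe0 ye20 ze39) (ke xe0 ye21 ze0) (ke xe1 ye22 ze7) (ke xe1 ye22 ze20)) (@D3.rec (fun _ => Pt) (ke xe0 ye20 ze34) (ke xe1 ye22 ze21) (ke xe1 ye22 ze13) (ke xe1 ye22 ze23) (ke xe0 ye20 ze38) (ke xe1 ye22 ze24) (ke xe0 ye21 ze27) (ke xe1 ye20 ze7) (ke xe0 ye21 ze28) (ke xe0 ye21 ze29) (ke xe1 ye20 ze10) (ke xe1 ye20 ze11) (ke xe0 ye21 ze30) (ke xe0 ye21 ze31) (ke xe0 ye21 ze32) (ke xe0 ye21 ze33) (ke xe0 ye21 ze34) (ke xe0 ye21 ze35) (ke xe0 ye21 ze36) (ke xe0 ye21 ze37) (ke xe0 ye21 ze38) (ke xe0 ye21 ze39) (ke xe0 ye22 ze0) (ke xe0 ye22 ze1) (ke xe0 ye21 ze17) (ke xe1 ye5 ze22) (ke xe0 ye21 ze18) (ke xe0 ye21 ze19) (ke xe0 ye21 ze20) (ke xe0 ye21 ze21) (ke xe0 ye21 ze22)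 (ke xe1 ye5 ze26) (ke xe0 ye21 ze23) (ke xe0 ye21 ze24) (ke xe0 ye21 ze25) (ke xe0 ye21 ze26) (ke xe1 ye23 ze25) (ke xe1 ye23 ze26) (ke xe1 ye23 ze27) (ke xe1 ye23 ze30)) (@D3.rec (fun _ => Pt) (ke xe1 ye23 ze31) (ke xe1 ye23 ze32) (ke xe1 ye22 ze25) (ke xe1 ye22 ze27) (ke xe1 ye22 ze28) (ke xe1 ye22 ze32) (ke xe1 ye22 ze33) (ke xe1 ye22 ze34) (ke xe1 ye22 ze35) (ke xe1 ye23 ze0) (ke xe1 ye23 ze1) (ke xe1 ye23 ze2) (ke xe1 ye23 ze3) (ke xe1 ye23 ze4) (ke xe1 ye23 ze5) (ke xe1 ye23 ze6) (ke xe1 ye23 ze7) (ke xe1 ye23 ze8) (ke xe1 ye23 ze9) (ke xe1 ye24 ze33) (ke xe1 ye23 ze11) (ke xe1 ye23 ze12) (ke xe1 ye23 ze13) (ke xe1 ye23 ze14) (ke xe1 ye23 ze15) (ke xe1 ye23 ze16) (ke xe1 ye23 ze17) (ke xe1 ye25 ze5) (ke xe1 ye23 ze19) (ke xe1 ye23 ze20) (ke xe1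 ye23 ze21) (ke xe1 ye23 ze22) (ke xe1 ye23 ze23) (ke xe1 ye25 ze14) (ke xe1 ye25 ze17) (ke xe0 ye22 ze4) (ke xe1 ye25 ze19) (ke xe0 ye22 ze21) (ke xe0 ye22 ze22) (ke xe0 ye22 ze23)) (@D3.rec (fun _ => Pt) (ke xe0 ye22 ze24) (ke xe0 ye22 ze25) (ke xe1 ye25 ze28) (ke xe1 ye25 ze30) (ke xe1 ye25 ze33) (ke xe0 ye22 ze12) (ke xe1 ye25 ze35) (ke xe0 ye22 ze30) (ke xe0 ye22 ze31) (ke xe0 ye22 ze32) (ke xe0 ye22 ze33) (ke xe0 ye22 ze34) (ke xe2 ye0 ze4) (ke xe0 ye22 ze18) (ke xe0 ye22 ze20) (ke xe1 ye25 ze23) (ke xe1 ye25 ze24) (ke xe1 ye25 ze22) (ke xe0 ye22 ze26) (ke xe0 ye22 ze27) (ke xe0 ye22 ze29) (ke xe1 ye25 ze39) (ke xe2 ye0 ze0) (ke xe1 ye25 ze38) (ke xe0 ye22 ze35) (ke xe2 ye0 ze6) (ke xe0 ye22 ze36) (ke xe2 ye0 ze10) (ke xe0 ye22 ze38) (ke xe2 ye0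 ze12) (ke xe0 ye23 ze8) (ke xe0 ye23 ze9) (ke xe2 ye0 ze17) (ke xe0 ye23 ze0) (ke xe2 ye0 ze19) (ke xe0 ye23 ze1) (ke xe2 ye0 ze23) (ke xe0 ye23 ze3) (ke xe2 ye0 ze25) (ke xe0 ye23 ze13)) (@D3.rec (fun _ => Pt) (ke xe0 ye23 ze14) (ke xe2 ye0 ze30) (ke xe0 ye23 ze5) (ke xe0 ye23 ze7) (ke xe0 ye23 ze12) (ke xe0 ye23 ze19) (ke xe2 ye0 ze31) (ke xe1 ye4 ze19) (ke xe0 ye23 ze23) (ke xe2 ye1 ze0) (ke xe0 ye23 ze25) (ke xe0 ye23 ze26) (ke xe2 ye0 ze36) (ke xe2 ye1 ze10) (ke xe2 ye0 ze38) (ke xe2 ye0 ze39) (ke xe0 ye23 ze24) (ke xe2 ye1 ze17) (ke xe2 ye1 ze18) (ke xe2 ye1 ze3) (ke xe2 ye1 ze4) (ke xe0 ye24 ze1) (ke xe0 ye24 ze3) (ke xe0 ye24 ze4) (ke xe0 ye23 ze28) (ke xe2 ye1 ze31) (ke xe2 ye1 ze32) (ke xe0 ye24 ze9) (ke xe0 ye24 ze10) (ke xe0 ye24 ze11) (ke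 xe0 ye24 ze12) (ke xe0 ye24 ze13) (ke xe0 ye24 ze14) (ke xe0 ye24 ze15) (ke xe0 ye24 ze16) (ke xe0 ye23 ze37) (ke xe0 ye23 ze38) (ke xe0 ye23 ze39) (ke xe0 ye24 ze0) (ke xe2 ye2 ze11)) (@D3.rec (fun _ => Pt) (ke xe2 ye2 ze13) (ke xe0 ye24 ze2) (ke xe2 ye1 ze25) (ke xe2 ye1 ze26) (ke xe2 ye2 ze15) (ke xe2 ye2 ze16) (ke xe2 ye1 ze27) (ke xe2 ye1 ze28) (ke xe2 ye1 ze29) (ke xe2 ye1 ze30) (ke xe0 ye24 ze5) (ke xe2 ye2 ze31) (ke xe2 ye2 ze32) (ke xe0 ye24 ze7) (ke xe0 ye24 ze8) (ke xe2 ye2 ze35) (ke xe2 ye2 ze36) (ke xe2 ye2 ze37) (ke xe2 ye2 ze38) (ke xe2 ye1 ze37) (ke xe2 ye1 ze38) (ke xe2 ye1 ze39) (ke xe2 ye2 ze0) (ke xe2 ye2 ze1) (ke xe2 ye2 ze2) (ke xe2 ye2 ze3) (ke xe2 ye2 ze4) (ke xe2 ye3 ze28) (ke xe2 ye2 ze6) (ke xe2 ye2 ze7) (ke xe2 ye3 ze32)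 (ke xe2 ye2 ze9) (ke xe2 ye2 ze10) (ke xe2 ye3 ze37) (ke xe0 ye24 ze17) (ke xe1 ye25 ze26) (ke xe2 ye4 ze1) (ke xe0 ye24 ze20) (ke xe2 ye0 ze2) (ke xe0 ye25 ze3)) (@D3.rec (fun _ => Pt) (ke xe1 ye1 ze7) (ke xe0 ye25 ze4) (ke xe0 ye25 ze5) (ke xe1 ye1 ze10) (ke xe1 ye1 ze11) (ke xe1 ye1 ze12) (ke xe0 ye25 ze6) (ke xe0 ye25 ze7) (ke xe0 ye25 ze8) (ke xe0 ye25 ze9) (ke xe1 ye1 ze17) (ke xe1 ye1 ze19) (ke xe0 ye25 ze10) (ke xe0 ye25 ze11) (ke xe0 ye25 ze12) (ke xe0 ye25 ze13) (ke xe0 ye25 ze14) (ke xe0 ye25 ze15) (ke xe0 ye25 ze16) (ke xe0 ye25 ze17) (ke xe2 ye5 ze7) (ke xe0 ye25 ze19) (ke xe0 ye25 ze20) (ke xe0 ye25 ze21) (ke xe2 ye5 ze13) (ke xe0 ye25 ze23) (ke xe1 ye3 ze0) (ke xe1 ye3 ze7) (ke xe2 ye4 ze3) (ke xe2 ye0 ze37) (ke xe2 ye4 ze5) (ke xe2 ye4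 ze6) (ke xe2 ye4 ze10) (ke xe2 ye4 ze11) (ke xe2 ye4 ze18) (ke xe2 ye4 ze19) (ke xe2 ye4 ze20) (ke xe2 ye4 ze21) (ke xe2 ye4 ze22) (ke xe2 ye4 ze23)) (@D3.rec (fun _ => Pt) (ke xe2 ye4 ze24) (ke xe2 ye4 ze25) (ke xe2 ye4 ze32) (ke xe2 ye4 ze33) (ke xe2 ye4 ze34) (ke xe2 ye6 ze18) (ke xe2 ye4 ze36) (ke xe2 ye4 ze37) (ke xe2 ye4 ze38) (ke xe2 ye4 ze39) (ke xe2 ye5 ze0) (ke xe2 ye6 ze31) (ke xe2 ye5 ze2) (ke xe2 ye5 ze3) (ke xe2 ye5 ze4) (ke xe2 ye7 ze0) (ke xe2 ye5 ze6) (ke xe2 ye7 ze4) (ke xe0 ye25 ze18) (ke xe2 ye7 ze6) (ke xe2 ye5 ze9) (ke xe2 ye5 ze10) (ke xe2 ye7 ze14) (ke xe2 ye5 ze12) (ke xe2 ye7 ze18) (ke xe0 ye25 ze22) (ke xe2 ye7 ze20) (ke xe2 ye5 ze15) (ke xe1 ye14 ze10) (ke xe2 ye7 ze26) (ke xe0 ye25 ze25) (ke xe1 ye13 ze27) (ke xe2 ye7 ze30)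 (ke xe2 ye7 ze33) (ke xe0 ye25 ze27) (ke xe2 ye7 ze36) (ke xe0 ye25 ze29) (ke xe2 ye7 ze38) (ke xe1 ye0 ze1) (ke xe1 ye14 ze15)) (@D3.rec (fun _ => Pt) (ke xe2 ye8 ze3) (ke xe0 ye25 ze32) (ke xe1 ye14 ze4) (ke xe2 ye8 ze7) (ke xe2 ye8 ze10) (ke xe0 ye25 ze34) (ke xe2 ye8 ze13) (ke xe0 ye25 ze36) (ke xe2 ye8 ze15) (ke xe1 ye0 ze5) (ke xe1 ye0 ze0) (ke xe1 ye0 ze4) (ke xe2 ye8 ze19) (ke xe1 ye0 ze6) (ke xe2 ye8 ze24) (ke xe1 ye0 ze8) (ke xe2 ye8 ze28) (ke xe2 ye8 ze29) (ke xe2 ye8 ze22) (ke xe1 ye0 ze10) (ke xe2 ye8 ze35) (ke xe2 ye8 ze36) (ke xe1 ye0 ze12) (ke xe1 ye0 ze13) (ke xe2 ye9 ze1) (ke xe2 ye9 ze2) (ke xe1 ye18 ze37) (ke xe1 ye12 ze31) (ke xe1 ye0 ze32) (ke xe2 ye9 ze9) (ke xe1 ye0 ze17) (ke xe2 ye9 ze14) (ke xe1 ye0 ze19) (ke xe2 ye9 ze18)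 (ke xe2 ye9 ze19) (ke xe2 ye9 ze12) (ke xe1 ye0 ze21) (ke xe2 ye9 ze25) (ke xe2 ye9 ze26) (ke xe1 ye0 ze23)) (@D3.rec (fun _ => Pt) (ke xe1 ye0 ze24) (ke xe2 ye9 ze31) (ke xe2 ye9 ze32) (ke xe1 ye19 ze10) (ke xe1 ye13 ze2) (ke xe1 ye0 ze35) (ke xe1 ye0 ze30) (ke xe1 ye0 ze31) (ke xe1 ye0 ze37) (ke xe2 ye9 ze38) (ke xe1 ye12 ze28) (ke xe1 ye1 ze0) (ke xe2 ye10 ze2) (ke xe1 ye1 ze2) (ke xe2 ye10 ze6) (ke xe1 ye12 ze39) (ke xe1 ye1 ze5) (ke xe2 ye10 ze10) (ke xe1 ye2 ze3) (ke xe1 ye2 ze4) (ke xe2 ye4 ze4) (ke xe1 ye2 ze5) (ke xe1 ye2 ze6) (ke xe2 ye4 ze7) (ke xe2 ye4 ze8) (ke xe2 ye4 ze9) (ke xe1 ye2 ze7) (ke xe1 ye2 ze8) (ke xe1 ye14 ze28) (ke xe2 ye4 ze12) (ke xe2 ye4 ze13) (ke xe2 ye4 ze14) (ke xe2 ye4 ze15) (ke xe2 ye4 ze16) (ke xe2 ye4 ze17) (ke xe1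 ye2 ze9) (ke xe1 ye2 ze10) (ke xe1 ye2 ze11) (ke xe1 ye2 ze12) (ke xe1 ye2 ze13)) (@D3.rec (fun _ => Pt) (ke xe1 ye2 ze14) (ke xe1 ye2 ze15) (ke xe1 ye2 ze16) (ke xe2 ye4 ze26) (ke xe2 ye4 ze27) (ke xe2 ye4 ze28) (ke xe1 ye15 ze10) (ke xe2 ye4 ze29) (ke xe2 ye4 ze30) (ke xe2 ye4 ze31) (ke xe1 ye15 ze6) (ke xe1 ye2 ze17) (ke xe1 ye2 ze18) (ke xe1 ye2 ze19) (ke xe2 ye12 ze17) (ke xe1 ye2 ze21) (ke xe1 ye2 ze22) (ke xe1 ye2 ze23) (ke xe1 ye2 ze24) (ke xe1 ye2 ze25) (ke xe1 ye2 ze26) (ke xe1 ye2 ze27) (ke xe1 ye2 ze28) (ke xe1 ye2 ze29) (ke xe2 ye13 ze0) (ke xe1 ye2 ze31) (ke xe1 ye2 ze32) (ke xe1 ye2 ze33) (ke xe1 ye2 ze34) (ke xe1 ye2 ze35) (ke xe1 ye2 ze36) (ke xe2 ye13 ze15) (ke xe1 ye1 ze29) (ke xe1 ye2 ze39) (ke xe1 ye3 ze1) (ke xe1 ye3 ze2) (ke xe2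 ye13 ze23) (ke xe2 ye13 ze25) (ke xe1 ye1 ze33) (ke xe1 ye3 ze6)) (@D3.rec (fun _ => Pt) (ke xe1 ye3 ze8) (ke xe1 ye3 ze9) (ke xe2 ye13 ze33) (ke xe1 ye1 ze39) (ke xe1 ye2 ze0) (ke xe1 ye2 ze1) (ke xe1 ye2 ze2) (ke xe2 ye13 ze34) (ke xe2 ye13 ze36) (ke xe2 ye10 ze14) (ke xe2 ye10 ze15) (ke xe2 ye10 ze16) (ke xe2 ye14 ze6) (ke xe2 ye10 ze18) (ke xe2 ye10 ze19) (ke xe2 ye10 ze22) (ke xe2 ye10 ze23) (ke xe2 ye10 ze24) (ke xe2 ye10 ze25) (ke xe2 ye10 ze32) (ke xe2 ye10 ze33) (ke xe2 ye10 ze34) (ke xe2 ye10 ze35) (ke xe2 ye10 ze36) (ke xe2 ye10 ze37) (ke xe2 ye11 ze12) (ke xe2 ye11 ze13) (ke xe2 ye15 ze0) (ke xe2 ye11 ze15) (ke xe2 ye11 ze16) (ke xe2 ye11 ze17) (ke xe2 ye11 ze18) (ke xe2 ye11 ze19) (ke xe2 ye11 ze20) (ke xe2 ye11 ze21) (ke xe2 ye15 ze19)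 (ke xe2 ye11 ze23) (ke xe2 ye11 ze24) (ke xe2 ye11 ze25) (ke xe2 ye11 ze26)) (@D3.rec (fun _ => Pt) (ke xe2 ye11 ze27) (ke xe2 ye12 ze8) (ke xe2 ye12 ze9) (ke xe2 ye12 ze10) (ke xe2 ye12 ze11) (ke xe2 ye12 ze12) (ke xe2 ye16 ze5) (ke xe2 ye12 ze14) (ke xe2 ye12 ze15) (ke xe2 ye16 ze12) (ke xe1 ye2 ze20) (ke xe2 ye16 ze14) (ke xe2 ye12 ze19) (ke xe2 ye12 ze20) (ke xe2 ye12 ze21) (ke xe2 ye12 ze22) (ke xe2 ye12 ze23) (ke xe2 ye12 ze24) (ke xe2 ye12 ze25) (ke xe2 ye12 ze26) (ke xe2 ye12 ze27) (ke xe2 ye16 ze38) (ke xe2 ye12 ze29) (ke xe2 ye12 ze30) (ke xe2 ye12 ze31) (ke xe2 ye12 ze32) (ke xe2 ye12 ze33) (ke xe2 ye12 ze34) (ke xe2 ye12 ze35) (ke xe2 ye17 ze16) (ke xe2 ye12 ze37) (ke xe2 ye12 ze38) (ke xe2 ye17 ze23) (ke xe1 ye2 ze30) (ke xe2 ye17 ze25)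 (ke xe2 ye13 ze2) (ke xe2 ye13 ze3) (ke xe2 ye13 ze4) (ke xe2 ye13 ze5) (ke xe2 ye13 ze6)) (@D3.rec (fun _ => Pt) (ke xe2 ye13 ze7) (ke xe2 ye13 ze8) (ke xe2 ye13 ze9) (ke xe2 ye13 ze10) (ke xe2 ye18 ze9) (ke xe2 ye13 ze12) (ke xe2 ye13 ze13) (ke xe1 ye2 ze38) (ke xe2 ye18 ze13) (ke xe2 ye13 ze16) (ke xe2 ye5 ze16) (ke xe2 ye13 ze17) (ke xe2 ye18 ze22) (ke xe2 ye13 ze18) (ke xe2 ye13 ze19) (ke xe2 ye13 ze20) (ke xe2 ye18 ze30) (ke xe2 ye18 ze32) (ke xe1 ye3 ze3) (ke xe1 ye3 ze5) (ke xe2 ye18 ze33) (ke xe2 ye13 ze26) (ke xe2 ye5 ze18) (ke xe2 ye13 ze27) (ke xe2 ye19 ze2) (ke xe2 ye13 ze28) (ke xe2 ye13 ze29) (ke xe2 ye13 ze30) (ke xe2 ye19 ze10) (ke xe2 ye19 ze12) (ke xe1 ye3 ze10) (ke xe2 ye19 ze14) (ke xe1 ye3 ze11) (ke xe1 ye3 ze26) (ke xe1 ye3 ze27)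 (ke xe2 ye19 ze18) (ke xe1 ye3 ze29) (ke xe1 ye13 ze26) (ke xe1 ye3 ze30) (ke xe2 ye19 ze23)) (@D3.rec (fun _ => Pt) (ke xe1 ye3 ze15) (ke xe2 ye19 ze26) (ke xe2 ye19 ze29) (ke xe1 ye3 ze16) (ke xe2 ye19 ze32) (ke xe1 ye3 ze18) (ke xe1 ye3 ze33) (ke xe1 ye3 ze34) (ke xe2 ye19 ze36) (ke xe1 ye3 ze36) (ke xe1 ye14 ze3) (ke xe1 ye3 ze37) (ke xe2 ye20 ze1) (ke xe1 ye3 ze22) (ke xe2 ye20 ze4) (ke xe2 ye20 ze7) (ke xe1 ye3 ze23) (ke xe1 ye3 ze28) (ke xe1 ye3 ze35) (ke xe1 ye4 ze2) (ke xe1 ye4 ze3) (ke xe1 ye4 ze4) (ke xe2 ye20 ze9) (ke xe2 ye20 ze10) (ke xe1 ye19 ze34) (ke xe2 ye20 ze11) (ke xe2 ye19 ze21) (ke xe2 ye20 ze12) (ke xe2 ye19 ze19) (ke xe1 ye4 ze15) (ke xe1 ye4 ze10) (ke xe1 ye4 ze11) (ke xe1 ye4 ze12) (ke xe2 ye20 ze17) (ke xe1 ye19 ze24) (ke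 xe2 ye20 ze14) (ke xe2 ye20 ze25) (ke xe2 ye19 ze39) (ke xe2 ye20 ze26) (ke xe2 ye19 ze37)) (@D3.rec (fun _ => Pt) (ke xe1 ye4 ze16) (ke xe1 ye4 ze18) (ke xe2 ye20 ze37) (ke xe2 ye0 ze33) (ke xe2 ye20 ze38) (ke xe2 ye20 ze39) (ke xe1 ye4 ze24) (ke xe1 ye6 ze7) (ke xe1 ye4 ze25) (ke xe1 ye4 ze26) (ke xe1 ye6 ze10) (ke xe1 ye6 ze11) (ke xe1 ye4 ze27) (ke xe1 ye4 ze28) (ke xe2 ye21 ze9) (ke xe2 ye21 ze11) (ke xe2 ye21 ze12) (ke xe2 ye21 ze16) (ke xe2 ye21 ze17) (ke xe2 ye21 ze18) (ke xe2 ye21 ze19) (ke xe2 ye21 ze22) (ke xe2 ye21 ze23) (ke xe2 ye21 ze24) (ke xe2 ye21 ze25) (ke xe1 ye4 ze34) (ke xe1 ye4 ze35) (ke xe1 ye4 ze36) (ke xe1 ye4 ze37) (ke xe1 ye4 ze38) (ke xe1 ye5 ze0) (ke xe2 ye22 ze4) (ke xe2 ye22 ze5) (ke xe2 ye22 ze6) (ke xe2 ye22 ze7) (ke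 xe2 ye22 ze8) (ke xe2 ye22 ze9) (ke xe1 ye5 ze11) (ke xe2 ye22 ze10) (ke xe1 ye5 ze13)) (@D3.rec (fun _ => Pt) (ke xe1 ye5 ze14) (ke xe2 ye22 ze11) (ke xe2 ye22 ze12) (ke xe1 ye5 ze18) (ke xe1 ye5 ze19) (ke xe1 ye5 ze20) (ke xe1 ye5 ze21) (ke xe1 ye5 ze23) (ke xe1 ye5 ze24) (ke xe1 ye5 ze25) (ke xe1 ye5 ze27) (ke xe1 ye5 ze28) (ke xe1 ye5 ze29) (ke xe2 ye22 ze25) (ke xe2 ye23 ze17) (ke xe2 ye22 ze27) (ke xe2 ye22 ze28) (ke xe2 ye23 ze23) (ke xe1 ye5 ze12) (ke xe2 ye23 ze26) (ke xe2 ye23 ze27) (ke xe2 ye22 ze31) (ke xe2 ye22 ze32) (ke xe2 ye22 ze33) (ke xe2 ye22 ze34) (ke xe1 ye5 ze16) (ke xe1 ye5 ze17) (ke xe2 ye24 ze0) (ke xe2 ye24 ze1) (ke xe2 ye24 ze2) (ke xe2 ye24 ze3) (ke xe2 ye22 ze39) (ke xe2 ye23 ze0) (ke xe2 ye23 ze1) (ke xe2 ye23 ze2) (ke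 xe2 ye23 ze3) (ke xe2 ye23 ze4) (ke xe2 ye23 ze5) (ke xe2 ye23 ze6) (ke xe1 ye23 ze24)) (@D3.rec (fun _ => Pt) (ke xe2 ye24 ze35) (ke xe2 ye23 ze8) (ke xe2 ye23 ze9) (ke xe1 ye23 ze29) (ke xe2 ye25 ze2) (ke xe2 ye23 ze11) (ke xe2 ye23 ze12) (ke xe1 ye5 ze38) (ke xe2 ye25 ze9) (ke xe2 ye25 ze12) (ke xe1 ye5 ze31) (ke xe2 ye20 ze21) (ke xe2 ye25 ze15) (ke xe1 ye6 ze2) (ke xe2 ye25 ze19) (ke xe2 ye25 ze22) (ke xe1 ye5 ze35) (ke xe2 ye20 ze33) (ke xe2 ye25 ze25) (ke xe2 ye25 ze7) (ke xe1 ye5 ze39) (ke xe1 ye6 ze1) (ke xe2 ye25 ze17) (ke xe1 ye6 ze3) (ke xe1 ye6 ze5) (ke xe1 ye7 ze2) (ke xe2 ye21 ze10) (ke xe1 ye7 ze3) (ke xe1 ye7 ze4) (ke xe2 ye21 ze13) (ke xe2 ye21 ze14) (ke xe2 ye21 ze15) (ke xe1 ye7 ze5) (ke xe1 ye7 ze6) (ke xe1 ye7 ze7) (ke xe1 ye7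 ze8) (ke xe2 ye21 ze20) (ke xe1 ye22 ze39) (ke xe2 ye21 ze21) (ke xe1 ye22 ze37)) (@D3.rec (fun _ => Pt) (ke xe1 ye7 ze9) (ke xe1 ye7 ze10) (ke xe1 ye7 ze11) (ke xe1 ye7 ze12) (ke xe1 ye7 ze13) (ke xe1 ye7 ze14) (ke xe1 ye7 ze15) (ke xe1 ye7 ze16) (ke xe1 ye7 ze17) (ke xe1 ye7 ze18) (ke xe3 ye0 ze39) (ke xe1 ye7 ze20) (ke xe1 ye7 ze21) (ke xe1 ye7 ze22) (ke xe1 ye7 ze23) (ke xe1 ye7 ze24) (ke xe1 ye7 ze25) (ke xe1 ye7 ze26) (ke xe3 ye1 ze10) (ke xe1 ye7 ze28) (ke xe1 ye7 ze29) (ke xe1 ye7 ze30) (ke xe1 ye7 ze31) (ke xe1 ye7 ze32) (ke xe1 ye21 ze39) (ke xe1 ye6 ze36) (ke xe1 ye6 ze37) (ke xe1 ye6 ze38) (ke xe2 ye2 ze12) (ke xe1 ye22 ze3) (ke xe1 ye6 ze39) (ke xe1 ye7 ze0) (ke xe1 ye7 ze1) (ke xe2 ye2 ze14) (ke xe3 ye1 ze20) (ke xe3 ye1 ze26) (ke xe2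 ye25 ze26) (ke xe2 ye25 ze28) (ke xe2 ye25 ze29) (ke xe2 ye25 ze32)) (@D3.rec (fun _ => Pt) (ke xe2 ye25 ze33) (ke xe3 ye0 ze0) (ke xe3 ye0 ze1) (ke xe3 ye0 ze2) (ke xe3 ye0 ze3) (ke xe3 ye0 ze4) (ke xe3 ye0 ze5) (ke xe3 ye0 ze6) (ke xe3 ye0 ze7) (ke xe3 ye0 ze16) (ke xe3 ye0 ze17) (ke xe3 ye0 ze18) (ke xe3 ye2 ze28) (ke xe3 ye0 ze20) (ke xe3 ye0 ze21) (ke xe3 ye0 ze22) (ke xe3 ye0 ze23) (ke xe3 ye0 ze24) (ke xe3 ye0 ze25) (ke xe3 ye0 ze26) (ke xe3 ye0 ze27) (ke xe3 ye0 ze28) (ke xe3 ye3 ze10) (ke xe3 ye0 ze30) (ke xe3 ye0 ze31) (ke xe3 ye0 ze32) (ke xe3 ye0 ze33) (ke xe3 ye0 ze34) (ke xe3 ye0 ze35) (ke xe3 ye0 ze36) (ke xe3 ye0 ze37) (ke xe3 ye3 ze30) (ke xe3 ye3 ze32) (ke xe1 ye7 ze19) (ke xe3 ye3 ze34) (ke xe3 ye1 ze1) (ke xe3 ye1 ze2) (ke xe3 ye1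 ze3) (ke xe3 ye1 ze4) (ke xe3 ye1 ze5)) (@D3.rec (fun _ => Pt) (ke xe3 ye4 ze6) (ke xe3 ye1 ze7) (ke xe3 ye1 ze8) (ke xe3 ye4 ze13) (ke xe3 ye4 ze15) (ke xe1 ye7 ze27) (ke xe3 ye4 ze17) (ke xe3 ye1 ze12) (ke xe3 ye1 ze13) (ke xe3 ye1 ze14) (ke xe3 ye1 ze15) (ke xe3 ye1 ze16) (ke xe3 ye4 ze29) (ke xe3 ye4 ze31) (ke xe1 ye7 ze33) (ke xe3 ye4 ze34) (ke xe3 ye4 ze37) (ke xe1 ye7 ze34) (ke xe3 ye5 ze0) (ke xe1 ye7 ze36) (ke xe3 ye5 ze3) (ke xe3 ye5 ze4) (ke xe1 ye8 ze17) (ke xe1 ye8 ze15) (ke xe1 ye8 ze16) (ke xe2 ye19 ze15) (ke xe1 ye10 ze35) (ke xe3 ye5 ze11) (ke xe1 ye8 ze2) (ke xe3 ye5 ze13) (ke xe1 ye8 ze3) (ke xe3 ye5 ze16) (ke xe3 ye5 ze19) (ke xe1 ye8 ze4) (ke xe3 ye5 ze22) (ke xe1 ye8 ze6) (ke xe3 ye5 ze25) (ke xe3 ye5 ze26) (ke xe1 ye8 ze23) (ke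 xe1 ye8 ze21))
def f_e_2 : D2 → D3 → Pt := @D2.rec (fun _ => D3 → Pt) (@D3.rec (fun _ => Pt) (ke xe1 ye8 ze22) (ke xe2 ye19 ze33) (ke xe1 ye10 ze38) (ke xe3 ye5 ze33) (ke xe1 ye8 ze12) (ke xe3 ye5 ze35) (ke xe1 ye8 ze25) (ke xe3 ye5 ze39) (ke xe3 ye6 ze0) (ke xe2 ye8 ze33) (ke xe1 ye8 ze27) (ke xe3 ye6 ze5) (ke xe1 ye8 ze29) (ke xe2 ye0 ze15) (ke xe3 ye6 ze9) (ke xe2 ye0 ze13) (ke xe3 ye6 ze14) (ke xe1 ye8 ze32) (ke xe3 ye6 ze19) (ke xe1 ye8 ze34) (ke xe3 ye6 ze23) (ke xe3 ye6 ze24) (ke xe2 ye9 ze23) (ke xe1 ye8 ze36) (ke xe3 ye6 ze29) (ke xe1 ye8 ze38) (ke xe2 ye0 ze28) (ke xe3 ye6 ze33) (ke xe2 ye0 ze26) (ke xe3 ye6 ze38) (ke xe1 ye9 ze1) (ke xe1 ye9 ze6) (ke xe3 ye7 ze2) (ke xe1 ye20 ze3) (ke xe3 ye7 ze3) (ke xe3 ye7 ze4) (ke xe1 ye9 ze12) (ke xe1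 ye11 ze29) (ke xe1 ye9 ze14) (ke xe1 ye9 ze15)) (@D3.rec (fun _ => Pt) (ke xe1 ye9 ze9) (ke xe3 ye7 ze22) (ke xe3 ye7 ze23) (ke xe1 ye9 ze19) (ke xe1 ye9 ze20) (ke xe3 ye7 ze13) (ke xe3 ye7 ze30) (ke xe3 ye7 ze14) (ke xe3 ye7 ze15) (ke xe3 ye7 ze39) (ke xe1 ye9 ze13) (ke xe3 ye8 ze2) (ke xe3 ye8 ze3) (ke xe3 ye7 ze18) (ke xe3 ye7 ze19) (ke xe3 ye7 ze20) (ke xe3 ye7 ze21) (ke xe1 ye9 ze17) (ke xe1 ye9 ze18) (ke xe3 ye8 ze14) (ke xe3 ye8 ze15) (ke xe3 ye7 ze26) (ke xe3 ye7 ze27) (ke xe3 ye7 ze28) (ke xe3 ye7 ze29) (ke xe1 ye10 ze2) (ke xe1 ye10 ze3) (ke xe1 ye10 ze6) (ke xe1 ye10 ze7) (ke xe1 ye10 ze8) (ke xe1 ye10 ze9) (ke xe1 ye9 ze25) (ke xe1 ye9 ze26) (ke xe3 ye8 ze38) (ke xe3 ye8 ze39) (ke xe3 ye9 ze0) (ke xe3 ye9 ze1) (ke xe1 ye10 ze19) (ke xe1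 ye10 ze20) (ke xe1 ye10 ze21)) (@D3.rec (fun _ => Pt) (ke xe1 ye10 ze22) (ke xe1 ye10 ze23) (ke xe1 ye10 ze24) (ke xe1 ye10 ze25) (ke xe1 ye10 ze26) (ke xe3 ye9 ze30) (ke xe1 ye10 ze28) (ke xe1 ye10 ze29) (ke xe3 ye9 ze33) (ke xe1 ye10 ze31) (ke xe1 ye10 ze32) (ke xe1 ye9 ze39) (ke xe1 ye23 ze28) (ke xe1 ye10 ze0) (ke xe1 ye23 ze33) (ke xe1 ye10 ze4) (ke xe1 ye10 ze5) (ke xe3 ye8 ze28) (ke xe3 ye8 ze29) (ke xe3 ye10 ze0) (ke xe2 ye2 ze22) (ke xe3 ye10 ze1) (ke xe2 ye2 ze20) (ke xe3 ye8 ze30) (ke xe3 ye8 ze31) (ke xe3 ye8 ze32) (ke xe3 ye8 ze33) (ke xe3 ye8 ze34) (ke xe3 ye8 ze35) (ke xe3 ye8 ze36) (ke xe3 ye8 ze37) (ke xe1 ye10 ze11) (ke xe1 ye10 ze12) (ke xe3 ye10 ze32) (ke xe3 ye10 ze33) (ke xe1 ye10 ze15) (ke xe1 ye10 ze16) (ke xe1 ye10 ze17) (ke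 xe1 ye10 ze18) (ke xe3 ye11 ze0)) (@D3.rec (fun _ => Pt) (ke xe3 ye11 ze1) (ke xe3 ye11 ze2) (ke xe3 ye11 ze3) (ke xe3 ye11 ze4) (ke xe3 ye11 ze5) (ke xe3 ye11 ze6) (ke xe3 ye11 ze7) (ke xe3 ye9 ze10) (ke xe3 ye9 ze11) (ke xe3 ye9 ze12) (ke xe3 ye11 ze37) (ke xe3 ye9 ze14) (ke xe3 ye9 ze15) (ke xe3 ye9 ze16) (ke xe3 ye9 ze17) (ke xe3 ye9 ze18) (ke xe3 ye9 ze19) (ke xe3 ye9 ze20) (ke xe3 ye9 ze21) (ke xe3 ye9 ze22) (ke xe3 ye12 ze19) (ke xe3 ye9 ze24) (ke xe3 ye9 ze25) (ke xe3 ye9 ze26) (ke xe3 ye9 ze27) (ke xe3 ye9 ze28) (ke xe3 ye9 ze29) (ke xe3 ye12 ze33) (ke xe1 ye10 ze27) (ke xe3 ye9 ze31) (ke xe3 ye12 ze37) (ke xe3 ye12 ze39) (ke xe1 ye10 ze30) (ke xe3 ye9 ze34) (ke xe3 ye13 ze3) (ke xe3 ye13 ze6) (ke xe3 ye13 ze9) (ke xe1 ye10 ze33) (ke xe3 ye5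 ze8) (ke xe3 ye13 ze15)) (@D3.rec (fun _ => Pt) (ke xe3 ye13 ze18) (ke xe1 ye10 ze36) (ke xe3 ye5 ze30) (ke xe1 ye11 ze28) (ke xe1 ye14 ze20) (ke xe1 ye11 ze30) (ke xe1 ye11 ze31) (ke xe1 ye14 ze23) (ke xe1 ye14 ze24) (ke xe1 ye14 ze25) (ke xe1 ye11 ze32) (ke xe1 ye11 ze33) (ke xe1 ye14 ze29) (ke xe1 ye14 ze30) (ke xe1 ye14 ze31) (ke xe1 ye14 ze32) (ke xe1 ye14 ze33) (ke xe1 ye14 ze34) (ke xe1 ye11 ze34) (ke xe1 ye11 ze35) (ke xe1 ye11 ze36) (ke xe1 ye11 ze37) (ke xe1 ye11 ze38) (ke xe1 ye11 ze39) (ke xe1 ye12 ze0) (ke xe1 ye12 ze1) (ke xe1 ye15 ze3) (ke xe1 ye15 ze4) (ke xe1 ye15 ze5) (ke xe1 ye15 ze7) (ke xe1 ye15 ze8) (ke xe1 ye15 ze9) (ke xe1 ye12 ze2) (ke xe1 ye12 ze3) (ke xe1 ye12 ze4) (ke xe3 ye15 ze9) (ke xe1 ye12 ze6) (ke xe1 ye12 ze7) (ke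 xe1 ye12 ze8) (ke xe1 ye12 ze9)) (@D3.rec (fun _ => Pt) (ke xe1 ye12 ze10) (ke xe3 ye15 ze22) (ke xe1 ye12 ze12) (ke xe1 ye12 ze13) (ke xe1 ye12 ze14) (ke xe3 ye15 ze31) (ke xe1 ye12 ze16) (ke xe1 ye11 ze20) (ke xe3 ye15 ze33) (ke xe1 ye12 ze20) (ke xe1 ye12 ze21) (ke xe3 ye16 ze1) (ke xe1 ye12 ze23) (ke xe1 ye11 ze24) (ke xe3 ye16 ze3) (ke xe1 ye12 ze27) (ke xe1 ye18 ze10) (ke xe3 ye16 ze11) (ke xe1 ye18 ze22) (ke xe3 ye16 ze16) (ke xe3 ye13 ze22) (ke xe3 ye13 ze23) (ke xe3 ye7 ze16) (ke xe3 ye7 ze17) (ke xe3 ye13 ze26) (ke xe3 ye13 ze27) (ke xe3 ye13 ze28) (ke xe3 ye13 ze29) (ke xe3 ye13 ze35) (ke xe3 ye13 ze36) (ke xe3 ye13 ze37) (ke xe3 ye13 ze38) (ke xe3 ye13 ze39) (ke xe3 ye14 ze0) (ke xe3 ye14 ze13) (ke xe3 ye14 ze14) (ke xe3 ye17 ze0) (ke xe3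 ye14 ze16) (ke xe3 ye14 ze17) (ke xe3 ye14 ze18)) (@D3.rec (fun _ => Pt) (ke xe3 ye14 ze19) (ke xe3 ye14 ze20) (ke xe3 ye14 ze21) (ke xe3 ye14 ze22) (ke xe3 ye17 ze19) (ke xe3 ye14 ze24) (ke xe3 ye14 ze25) (ke xe3 ye14 ze26) (ke xe3 ye14 ze27) (ke xe3 ye14 ze28) (ke xe3 ye15 ze1) (ke xe3 ye15 ze2) (ke xe3 ye15 ze3) (ke xe3 ye15 ze4) (ke xe3 ye17 ze39) (ke xe3 ye15 ze6) (ke xe3 ye15 ze7) (ke xe3 ye18 ze6) (ke xe1 ye12 ze5) (ke xe3 ye18 ze8) (ke xe3 ye15 ze11) (ke xe3 ye15 ze12) (ke xe3 ye15 ze13) (ke xe3 ye15 ze14) (ke xe3 ye15 ze15) (ke xe3 ye15 ze16) (ke xe3 ye15 ze17) (ke xe3 ye18 ze25) (ke xe3 ye15 ze19) (ke xe3 ye15 ze20) (ke xe3 ye18 ze32) (ke xe1 ye12 ze11) (ke xe3 ye18 ze34) (ke xe3 ye15 ze24) (ke xe3 ye15 ze25) (ke xe3 ye15 ze26) (ke xe3 ye15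 ze27) (ke xe3 ye19 ze8) (ke xe3 ye15 ze29) (ke xe3 ye15 ze30)) (@D3.rec (fun _ => Pt) (ke xe1 ye12 ze15) (ke xe3 ye19 ze14) (ke xe3 ye15 ze32) (ke xe3 ye19 ze19) (ke xe1 ye12 ze17) (ke xe3 ye19 ze23) (ke xe1 ye12 ze19) (ke xe3 ye19 ze25) (ke xe3 ye15 ze35) (ke xe3 ye15 ze36) (ke xe3 ye15 ze37) (ke xe3 ye19 ze37) (ke xe3 ye15 ze39) (ke xe3 ye16 ze0) (ke xe1 ye12 ze22) (ke xe3 ye20 ze3) (ke xe3 ye16 ze2) (ke xe3 ye20 ze8) (ke xe1 ye12 ze24) (ke xe3 ye20 ze11) (ke xe1 ye12 ze26) (ke xe3 ye20 ze13) (ke xe3 ye16 ze5) (ke xe3 ye16 ze6) (ke xe2 ye10 ze1) (ke xe2 ye23 ze18) (ke xe1 ye12 ze29) (ke xe2 ye9 ze7) (ke xe3 ye20 ze26) (ke xe3 ye20 ze29) (ke xe1 ye12 ze32) (ke xe3 ye20 ze33) (ke xe3 ye20 ze34) (ke xe1 ye12 ze33) (ke xe3 ye20 ze39) (ke xe3 ye20 ze38)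 (ke xe1 ye12 ze35) (ke xe3 ye21 ze3) (ke xe1 ye12 ze37) (ke xe2 ye19 ze34)) (@D3.rec (fun _ => Pt) (ke xe3 ye21 ze7) (ke xe2 ye10 ze9) (ke xe2 ye23 ze19) (ke xe1 ye13 ze0) (ke xe2 ye9 ze37) (ke xe3 ye21 ze16) (ke xe3 ye21 ze19) (ke xe1 ye13 ze3) (ke xe3 ye21 ze23) (ke xe3 ye21 ze24) (ke xe1 ye13 ze4) (ke xe3 ye21 ze29) (ke xe3 ye21 ze28) (ke xe1 ye13 ze6) (ke xe3 ye21 ze33) (ke xe1 ye13 ze8) (ke xe2 ye19 ze16) (ke xe3 ye21 ze37) (ke xe2 ye8 ze20) (ke xe1 ye13 ze12) (ke xe2 ye8 ze18) (ke xe3 ye22 ze2) (ke xe1 ye13 ze18) (ke xe3 ye22 ze6) (ke xe1 ye13 ze14) (ke xe2 ye8 ze27) (ke xe3 ye22 ze9) (ke xe2 ye8 ze25) (ke xe1 ye13 ze16) (ke xe1 ye13 ze17) (ke xe3 ye22 ze13) (ke xe3 ye22 ze14) (ke xe3 ye22 ze12) (ke xe2 ye0 ze9) (ke xe3 ye7 ze1) (ke xe1 ye13 ze20)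 (ke xe1 ye13 ze21) (ke xe3 ye22 ze22) (ke xe3 ye22 ze23) (ke xe3 ye22 ze24)) (@D3.rec (fun _ => Pt) (ke xe3 ye22 ze25) (ke xe1 ye13 ze24) (ke xe1 ye13 ze25) (ke xe3 ye5 ze5) (ke xe3 ye22 ze36) (ke xe3 ye23 ze2) (ke xe2 ye19 ze20) (ke xe2 ye7 ze27) (ke xe2 ye9 ze11) (ke xe1 ye13 ze29) (ke xe3 ye23 ze8) (ke xe2 ye9 ze8) (ke xe1 ye13 ze35) (ke xe3 ye23 ze12) (ke xe1 ye13 ze31) (ke xe3 ye23 ze15) (ke xe2 ye9 ze17) (ke xe2 ye9 ze16) (ke xe1 ye13 ze33) (ke xe1 ye13 ze34) (ke xe3 ye23 ze19) (ke xe3 ye23 ze18) (ke xe3 ye23 ze20) (ke xe2 ye0 ze22) (ke xe3 ye6 ze17) (ke xe1 ye13 ze37) (ke xe1 ye13 ze38) (ke xe3 ye23 ze28) (ke xe3 ye23 ze29) (ke xe3 ye23 ze30) (ke xe3 ye23 ze31) (ke xe1 ye14 ze1) (ke xe1 ye14 ze2) (ke xe3 ye5 ze27) (ke xe3 ye24 ze2) (ke xe3 ye24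 ze8) (ke xe2 ye19 ze38) (ke xe2 ye8 ze4) (ke xe1 ye14 ze9) (ke xe3 ye24 ze12)) (@D3.rec (fun _ => Pt) (ke xe3 ye24 ze18) (ke xe2 ye7 ze24) (ke xe1 ye14 ze12) (ke xe3 ye24 ze21) (ke xe3 ye22 ze0) (ke xe3 ye24 ze22) (ke xe1 ye14 ze14) (ke xe3 ye24 ze28) (ke xe3 ye24 ze34) (ke xe2 ye8 ze1) (ke xe1 ye14 ze17) (ke xe3 ye24 ze37) (ke xe3 ye24 ze38) (ke xe3 ye23 ze6) (ke xe1 ye16 ze9) (ke xe1 ye16 ze10) (ke xe1 ye16 ze11) (ke xe3 ye25 ze9) (ke xe1 ye16 ze13) (ke xe1 ye16 ze14) (ke xe3 ye13 ze24) (ke xe3 ye13 ze25) (ke xe1 ye16 ze15) (ke xe1 ye16 ze16) (ke xe1 ye16 ze17) (ke xe1 ye16 ze18) (ke xe3 ye13 ze30) (ke xe2 ye10 ze27) (ke xe3 ye13 ze31) (ke xe3 ye13 ze32) (ke xe3 ye13 ze33) (ke xe3 ye13 ze34) (ke xe1 ye16 ze19) (ke xe1 ye16 ze20) (ke xe1 ye16 ze21)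 (ke xe1 ye16 ze22) (ke xe1 ye16 ze23) (ke xe1 ye16 ze24) (ke xe2 ye10 ze38) (ke xe2 ye10 ze39)) (@D3.rec (fun _ => Pt) (ke xe3 ye14 ze1) (ke xe3 ye14 ze2) (ke xe3 ye14 ze3) (ke xe3 ye14 ze4) (ke xe3 ye14 ze5) (ke xe3 ye14 ze6) (ke xe3 ye14 ze7) (ke xe3 ye14 ze8) (ke xe3 ye14 ze9) (ke xe3 ye14 ze10) (ke xe3 ye14 ze11) (ke xe3 ye14 ze12) (ke xe1 ye16 ze25) (ke xe1 ye16 ze26) (ke xe4 ye1 ze5) (ke xe1 ye16 ze28) (ke xe1 ye16 ze29) (ke xe1 ye16 ze30) (ke xe1 ye16 ze31) (ke xe1 ye16 ze32) (ke xe1 ye16 ze33) (ke xe1 ye16 ze34) (ke xe4 ye1 ze22) (ke xe1 ye16 ze36) (ke xe1 ye16 ze37) (ke xe1 ye16 ze38) (ke xe1 ye16 ze39) (ke xe1 ye17 ze0) (ke xe3 ye14 ze29) (ke xe3 ye14 ze30) (ke xe3 ye14 ze31) (ke xe4 ye2 ze1) (ke xe3 ye14 ze33) (ke xe2 ye12 ze7) (ke xe3 ye14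 ze34) (ke xe2 ye12 ze5) (ke xe2 ye12 ze6) (ke xe2 ye12 ze3) (ke xe3 ye14 ze35) (ke xe3 ye14 ze36)) (@D3.rec (fun _ => Pt) (ke xe3 ye14 ze37) (ke xe4 ye2 ze22) (ke xe3 ye14 ze39) (ke xe2 ye11 ze37) (ke xe3 ye15 ze0) (ke xe2 ye11 ze35) (ke xe2 ye11 ze36) (ke xe2 ye11 ze33) (ke xe1 ye17 ze1) (ke xe1 ye17 ze2) (ke xe1 ye17 ze3) (ke xe1 ye17 ze4) (ke xe1 ye17 ze5) (ke xe4 ye3 ze10) (ke xe1 ye17 ze7) (ke xe1 ye17 ze8) (ke xe4 ye3 ze18) (ke xe1 ye15 ze14) (ke xe4 ye3 ze20) (ke xe1 ye17 ze12) (ke xe1 ye17 ze13) (ke xe1 ye17 ze14) (ke xe1 ye17 ze15) (ke xe1 ye17 ze16) (ke xe1 ye17 ze17) (ke xe1 ye17 ze18) (ke xe1 ye17 ze19) (ke xe1 ye17 ze20) (ke xe4 ye4 ze3) (ke xe1 ye17 ze22) (ke xe1 ye17 ze23) (ke xe1 ye17 ze24) (ke xe1 ye17 ze25) (ke xe1 ye17 ze26) (ke xe1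 ye17 ze27) (ke xe1 ye17 ze28) (ke xe4 ye4 ze21) (ke xe1 ye17 ze30) (ke xe1 ye17 ze31) (ke xe4 ye4 ze29)) (@D3.rec (fun _ => Pt) (ke xe1 ye15 ze24) (ke xe4 ye4 ze31) (ke xe1 ye17 ze35) (ke xe1 ye17 ze36) (ke xe1 ye17 ze37) (ke xe1 ye17 ze38) (ke xe1 ye17 ze39) (ke xe1 ye18 ze0) (ke xe1 ye18 ze1) (ke xe1 ye18 ze2) (ke xe1 ye18 ze3) (ke xe4 ye5 ze14) (ke xe1 ye18 ze5) (ke xe1 ye18 ze6) (ke xe4 ye5 ze19) (ke xe1 ye15 ze31) (ke xe1 ye18 ze9) (ke xe1 ye18 ze11) (ke xe1 ye18 ze13) (ke xe1 ye18 ze14) (ke xe1 ye18 ze15) (ke xe4 ye5 ze31) (ke xe4 ye5 ze33) (ke xe1 ye15 ze36) (ke xe4 ye5 ze35) (ke xe1 ye15 ze37) (ke xe1 ye18 ze21) (ke xe1 ye18 ze23) (ke xe1 ye18 ze25) (ke xe1 ye18 ze26) (ke xe1 ye18 ze27) (ke xe4 ye6 ze7) (ke xe4 ye6 ze9) (ke xe1 ye16 ze2) (ke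 xe1 ye16 ze7) (ke xe3 ye1 ze21) (ke xe1 ye16 ze8) (ke xe3 ye1 ze27) (ke xe4 ye6 ze10) (ke xe4 ye6 ze13)) (@D3.rec (fun _ => Pt) (ke xe4 ye6 ze17) (ke xe3 ye25 ze5) (ke xe3 ye25 ze6) (ke xe3 ye25 ze7) (ke xe3 ye25 ze8) (ke xe4 ye6 ze30) (ke xe1 ye16 ze12) (ke xe4 ye6 ze33) (ke xe4 ye6 ze34) (ke xe3 ye25 ze12) (ke xe3 ye25 ze13) (ke xe3 ye25 ze14) (ke xe3 ye25 ze15) (ke xe3 ye25 ze20) (ke xe3 ye25 ze21) (ke xe3 ye25 ze22) (ke xe3 ye25 ze23) (ke xe3 ye25 ze24) (ke xe3 ye25 ze25) (ke xe3 ye25 ze26) (ke xe3 ye25 ze27) (ke xe4 ye0 ze2) (ke xe4 ye0 ze3) (ke xe4 ye0 ze4) (ke xe4 ye7 ze29) (ke xe4 ye0 ze6) (ke xe4 ye0 ze7) (ke xe4 ye0 ze8) (ke xe4 ye0 ze9) (ke xe4 ye0 ze10) (ke xe4 ye8 ze1) (ke xe4 ye0 ze12) (ke xe4 ye0 ze13) (ke xe3 ye9 ze3) (ke xe3 ye9 ze2)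 (ke xe4 ye1 ze0) (ke xe4 ye1 ze1) (ke xe4 ye1 ze2) (ke xe4 ye8 ze15) (ke xe4 ye8 ze18)) (@D3.rec (fun _ => Pt) (ke xe1 ye16 ze27) (ke xe4 ye8 ze20) (ke xe4 ye1 ze7) (ke xe4 ye1 ze8) (ke xe4 ye1 ze9) (ke xe4 ye1 ze10) (ke xe4 ye1 ze11) (ke xe4 ye1 ze12) (ke xe4 ye1 ze13) (ke xe4 ye8 ze35) (ke xe4 ye1 ze15) (ke xe4 ye1 ze16) (ke xe3 ye9 ze7) (ke xe3 ye9 ze6) (ke xe4 ye1 ze17) (ke xe4 ye1 ze18) (ke xe4 ye1 ze19) (ke xe4 ye9 ze10) (ke xe4 ye9 ze13) (ke xe1 ye16 ze35) (ke xe4 ye9 ze15) (ke xe4 ye1 ze24) (ke xe4 ye1 ze25) (ke xe4 ye1 ze26) (ke xe4 ye1 ze27) (ke xe4 ye1 ze28) (ke xe4 ye1 ze29) (ke xe4 ye1 ze30) (ke xe4 ye9 ze30) (ke xe4 ye1 ze32) (ke xe4 ye1 ze33) (ke xe4 ye2 ze36) (ke xe4 ye2 ze37) (ke xe4 ye2 ze38) (ke xe4 ye9 ze38) (ke xe4 ye3 ze0) (ke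 xe4 ye3 ze1) (ke xe4 ye3 ze2) (ke xe4 ye3 ze3) (ke xe4 ye3 ze4)) (@D3.rec (fun _ => Pt) (ke xe4 ye3 ze5) (ke xe4 ye10 ze12) (ke xe4 ye3 ze7) (ke xe4 ye3 ze8) (ke xe4 ye10 ze19) (ke xe1 ye17 ze6) (ke xe4 ye10 ze21) (ke xe4 ye3 ze12) (ke xe4 ye3 ze13) (ke xe4 ye3 ze14) (ke xe4 ye3 ze15) (ke xe4 ye10 ze31) (ke xe1 ye17 ze9) (ke xe4 ye10 ze34) (ke xe1 ye17 ze11) (ke xe4 ye10 ze37) (ke xe4 ye10 ze38) (ke xe4 ye3 ze23) (ke xe3 ye16 ze10) (ke xe4 ye3 ze24) (ke xe4 ye3 ze25) (ke xe4 ye3 ze26) (ke xe4 ye3 ze27) (ke xe4 ye11 ze18) (ke xe4 ye3 ze29) (ke xe4 ye3 ze30) (ke xe4 ye3 ze31) (ke xe4 ye3 ze32) (ke xe4 ye3 ze33) (ke xe4 ye3 ze34) (ke xe4 ye3 ze35) (ke xe4 ye3 ze36) (ke xe4 ye3 ze37) (ke xe4 ye3 ze38) (ke xe4 ye12 ze3) (ke xe4 ye4 ze0) (ke xe4 ye4 ze1)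 (ke xe4 ye12 ze9) (ke xe1 ye17 ze21) (ke xe4 ye12 ze11)) (@D3.rec (fun _ => Pt) (ke xe4 ye4 ze5) (ke xe4 ye4 ze6) (ke xe4 ye4 ze7) (ke xe4 ye4 ze8) (ke xe4 ye4 ze9) (ke xe4 ye12 ze20) (ke xe4 ye4 ze11) (ke xe4 ye4 ze12) (ke xe4 ye4 ze13) (ke xe4 ye4 ze14) (ke xe4 ye4 ze15) (ke xe4 ye4 ze16) (ke xe4 ye12 ze33) (ke xe4 ye4 ze18) (ke xe4 ye4 ze19) (ke xe4 ye13 ze0) (ke xe1 ye17 ze29) (ke xe4 ye13 ze2) (ke xe4 ye4 ze23) (ke xe4 ye4 ze24) (ke xe4 ye4 ze25) (ke xe4 ye4 ze26) (ke xe4 ye13 ze11) (ke xe1 ye17 ze32) (ke xe4 ye13 ze14) (ke xe1 ye17 ze34) (ke xe4 ye13 ze17) (ke xe4 ye13 ze18) (ke xe4 ye4 ze34) (ke xe3 ye16 ze14) (ke xe4 ye4 ze35) (ke xe4 ye4 ze36) (ke xe4 ye4 ze37) (ke xe4 ye4 ze38) (ke xe4 ye13 ze38) (ke xe4 ye5 ze0) (ke xe4 ye5 ze1) (ke xe4 ye5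 ze2) (ke xe4 ye5 ze3) (ke xe4 ye5 ze4)) (@D3.rec (fun _ => Pt) (ke xe4 ye5 ze5) (ke xe4 ye5 ze6) (ke xe4 ye5 ze7) (ke xe4 ye5 ze8) (ke xe4 ye5 ze9) (ke xe4 ye14 ze22) (ke xe4 ye5 ze11) (ke xe4 ye5 ze12) (ke xe4 ye14 ze27) (ke xe1 ye18 ze4) (ke xe4 ye14 ze29) (ke xe4 ye5 ze16) (ke xe4 ye5 ze17) (ke xe1 ye18 ze8) (ke xe4 ye14 ze35) (ke xe4 ye14 ze36) (ke xe4 ye5 ze21) (ke xe3 ye16 ze7) (ke xe4 ye5 ze22) (ke xe4 ye15 ze6) (ke xe3 ye16 ze9) (ke xe4 ye5 ze23) (ke xe1 ye18 ze12) (ke xe4 ye5 ze24) (ke xe4 ye5 ze25) (ke xe4 ye15 ze17) (ke xe4 ye5 ze27) (ke xe4 ye15 ze23) (ke xe4 ye5 ze29) (ke xe4 ye5 ze30) (ke xe1 ye18 ze16) (ke xe4 ye15 ze29) (ke xe1 ye18 ze17) (ke xe1 ye18 ze20) (ke xe4 ye15 ze33) (ke xe4 ye15 ze34) (ke xe4 ye5 ze37) (ke xe3 ye16 ze12) (ke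 xe4 ye5 ze38) (ke xe4 ye16 ze4)) (@D3.rec (fun _ => Pt) (ke xe3 ye16 ze15) (ke xe4 ye5 ze39) (ke xe1 ye18 ze24) (ke xe4 ye6 ze0) (ke xe4 ye6 ze1) (ke xe4 ye16 ze15) (ke xe4 ye6 ze3) (ke xe4 ye16 ze21) (ke xe4 ye6 ze5) (ke xe4 ye6 ze6) (ke xe1 ye18 ze28) (ke xe4 ye16 ze27) (ke xe1 ye18 ze29) (ke xe4 ye16 ze31) (ke xe1 ye18 ze31) (ke xe1 ye25 ze25) (ke xe2 ye8 ze16) (ke xe4 ye16 ze38) (ke xe1 ye18 ze35) (ke xe1 ye19 ze28) (ke xe2 ye9 ze6) (ke xe1 ye19 ze26) (ke xe4 ye17 ze4) (ke xe1 ye18 ze39) (ke xe4 ye17 ze10) (ke xe4 ye17 ze14) (ke xe1 ye19 ze1) (ke xe4 ye17 ze18) (ke xe2 ye20 ze5) (ke xe1 ye19 ze2) (ke xe4 ye17 ze20) (ke xe4 ye17 ze21) (ke xe1 ye19 ze4) (ke xe2 ye0 ze1) (ke xe2 ye7 ze39) (ke xe4 ye17 ze27) (ke xe1 ye19 ze8) (ke xe1 ye19 ze39) (ke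 xe2 ye9 ze36) (ke xe1 ye19 ze37)) (@D3.rec (fun _ => Pt) (ke xe4 ye17 ze33) (ke xe1 ye19 ze12) (ke xe4 ye17 ze19) (ke xe4 ye18 ze1) (ke xe1 ye19 ze14) (ke xe2 ye19 ze28) (ke xe4 ye17 ze11) (ke xe1 ye19 ze15) (ke xe4 ye18 ze5) (ke xe1 ye19 ze22) (ke xe1 ye19 ze23) (ke xe1 ye19 ze25) (ke xe1 ye19 ze27) (ke xe4 ye18 ze6) (ke xe1 ye19 ze35) (ke xe2 ye20 ze28) (ke xe4 ye18 ze7) (ke xe1 ye19 ze33) (ke xe4 ye18 ze8) (ke xe4 ye18 ze9) (ke xe4 ye18 ze10) (ke xe1 ye22 ze11) (ke xe4 ye17 ze2) (ke xe4 ye18 ze26) (ke xe4 ye16 ze39) (ke xe1 ye19 ze36) (ke xe1 ye19 ze38) (ke xe4 ye18 ze18) (ke xe2 ye20 ze15) (ke xe4 ye18 ze14) (ke xe4 ye18 ze29) (ke xe4 ye18 ze30) (ke xe4 ye18 ze31) (ke xe1 ye22 ze17) (ke xe4 ye17 ze31) (ke xe4 ye19 ze5) (ke xe4 ye17 ze28) (ke xe1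 ye20 ze2) (ke xe1 ye20 ze4) (ke xe1 ye20 ze5)) (@D3.rec (fun _ => Pt) (ke xe3 ye25 ze4) (ke xe3 ye7 ze5) (ke xe4 ye19 ze8) (ke xe4 ye19 ze9) (ke xe3 ye7 ze8) (ke xe3 ye7 ze9) (ke xe3 ye7 ze10) (ke xe4 ye19 ze10) (ke xe4 ye19 ze11) (ke xe1 ye20 ze14) (ke xe1 ye22 ze26) (ke xe1 ye20 ze15) (ke xe1 ye20 ze16) (ke xe1 ye22 ze29) (ke xe1 ye22 ze30) (ke xe1 ye22 ze31) (ke xe1 ye20 ze17) (ke xe1 ye20 ze18) (ke xe1 ye20 ze19) (ke xe1 ye20 ze20) (ke xe1 ye22 ze36) (ke xe1 ye22 ze38) (ke xe1 ye20 ze21) (ke xe1 ye20 ze22) (ke xe1 ye20 ze23) (ke xe1 ye20 ze24) (ke xe4 ye19 ze20) (ke xe4 ye19 ze21) (ke xe4 ye19 ze23) (ke xe4 ye19 ze24) (ke xe4 ye19 ze27) (ke xe4 ye19 ze28) (ke xe4 ye19 ze35) (ke xe4 ye19 ze36) (ke xe4 ye19 ze37) (ke xe4 ye19 ze38) (ke xe4 ye19 ze39)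 (ke xe4 ye20 ze0) (ke xe4 ye1 ze4) (ke xe4 ye20 ze7)) (@D3.rec (fun _ => Pt) (ke xe4 ye20 ze8) (ke xe4 ye1 ze21) (ke xe4 ye20 ze9) (ke xe4 ye20 ze10) (ke xe1 ye20 ze31) (ke xe1 ye20 ze32) (ke xe1 ye20 ze33) (ke xe1 ye20 ze34) (ke xe1 ye20 ze35) (ke xe1 ye20 ze36) (ke xe1 ye20 ze38) (ke xe1 ye21 ze1) (ke xe1 ye21 ze2) (ke xe4 ye20 ze37) (ke xe2 ye22 ze38) (ke xe4 ye20 ze38) (ke xe2 ye22 ze36) (ke xe4 ye20 ze39) (ke xe4 ye21 ze0) (ke xe4 ye21 ze1) (ke xe4 ye21 ze2) (ke xe4 ye21 ze3) (ke xe4 ye21 ze4) (ke xe4 ye21 ze27) (ke xe4 ye21 ze28) (ke xe1 ye21 ze13) (ke xe3 ye19 ze20) (ke xe1 ye21 ze15) (ke xe1 ye21 ze16) (ke xe3 ye19 ze18) (ke xe3 ye20 ze7) (ke xe1 ye21 ze21) (ke xe1 ye21 ze22) (ke xe1 ye21 ze23) (ke xe1 ye21 ze24) (ke xe4 ye21 ze7) (ke xe2 ye22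 ze16) (ke xe4 ye21 ze8) (ke xe2 ye22 ze14) (ke xe1 ye21 ze31)) (@D3.rec (fun _ => Pt) (ke xe1 ye21 ze32) (ke xe1 ye21 ze33) (ke xe1 ye21 ze34) (ke xe1 ye21 ze35) (ke xe1 ye21 ze36) (ke xe1 ye21 ze37) (ke xe1 ye21 ze38) (ke xe4 ye22 ze31) (ke xe1 ye22 ze1) (ke xe1 ye22 ze2) (ke xe4 ye22 ze35) (ke xe1 ye22 ze5) (ke xe1 ye22 ze6) (ke xe4 ye16 ze32) (ke xe4 ye21 ze29) (ke xe4 ye21 ze30) (ke xe4 ye23 ze1) (ke xe1 ye21 ze14) (ke xe2 ye7 ze25) (ke xe2 ye8 ze2) (ke xe3 ye19 ze22) (ke xe3 ye20 ze10) (ke xe4 ye23 ze2) (ke xe1 ye21 ze17) (ke xe4 ye23 ze6) (ke xe4 ye23 ze7) (ke xe1 ye21 ze19) (ke xe1 ye21 ze20) (ke xe4 ye23 ze12) (ke xe3 ye21 ze12) (ke xe4 ye23 ze13) (ke xe3 ye20 ze22) (ke xe4 ye21 ze35) (ke xe4 ye21 ze36) (ke xe4 ye21 ze37) (ke xe4 ye21 ze38)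 (ke xe4 ye21 ze39) (ke xe4 ye22 ze0) (ke xe4 ye22 ze1) (ke xe4 ye22 ze2)) (@D3.rec (fun _ => Pt) (ke xe1 ye21 ze27) (ke xe1 ye21 ze28) (ke xe1 ye21 ze29) (ke xe1 ye21 ze30) (ke xe4 ye23 ze36) (ke xe4 ye23 ze37) (ke xe4 ye23 ze38) (ke xe4 ye23 ze39) (ke xe4 ye24 ze0) (ke xe4 ye24 ze1) (ke xe4 ye24 ze2) (ke xe4 ye24 ze3) (ke xe4 ye22 ze11) (ke xe4 ye22 ze12) (ke xe4 ye22 ze13) (ke xe4 ye24 ze23) (ke xe4 ye22 ze15) (ke xe4 ye22 ze16) (ke xe4 ye22 ze17) (ke xe4 ye22 ze18) (ke xe4 ye22 ze19) (ke xe4 ye22 ze20) (ke xe4 ye22 ze21) (ke xe4 ye22 ze22) (ke xe4 ye22 ze23) (ke xe4 ye25 ze2) (ke xe4 ye22 ze25) (ke xe4 ye22 ze26) (ke xe4 ye22 ze27) (ke xe4 ye22 ze28) (ke xe4 ye22 ze29) (ke xe4 ye22 ze30) (ke xe3 ye1 ze18) (ke xe4 ye25 ze18) (ke xe4 ye25 ze20) (ke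 xe1 ye22 ze0) (ke xe4 ye25 ze22) (ke xe4 ye22 ze33) (ke xe4 ye25 ze26) (ke xe3 ye1 ze24)) (@D3.rec (fun _ => Pt) (ke xe4 ye25 ze29) (ke xe4 ye25 ze31) (ke xe1 ye22 ze4) (ke xe4 ye25 ze33) (ke xe4 ye22 ze37) (ke xe4 ye25 ze37) (ke xe4 ye25 ze38) (ke xe1 ye22 ze19) (ke xe4 ye25 ze39) (ke xe1 ye22 ze8) (ke xe3 ye10 ze8) (ke xe5 ye0 ze1) (ke xe1 ye22 ze9) (ke xe4 ye18 ze24) (ke xe5 ye0 ze5) (ke xe1 ye22 ze12) (ke xe5 ye0 ze6) (ke xe1 ye22 ze22) (ke xe5 ye0 ze7) (ke xe1 ye22 ze14) (ke xe3 ye10 ze12) (ke xe5 ye0 ze9) (ke xe1 ye22 ze15) (ke xe4 ye19 ze3) (ke xe5 ye0 ze13) (ke xe1 ye22 ze18) (ke xe1 ye23 ze36) (ke xe4 ye19 ze22) (ke xe1 ye23 ze37) (ke xe1 ye23 ze38) (ke xe4 ye19 ze25) (ke xe4 ye19 ze26) (ke xe1 ye23 ze39) (ke xe1 ye24 ze0) (ke xe4 ye19 ze29)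 (ke xe4 ye19 ze30) (ke xe4 ye19 ze31) (ke xe4 ye19 ze32) (ke xe4 ye19 ze33) (ke xe4 ye19 ze34))
def f_e_3 : D2 → D3 → Pt := @D2.rec (fun _ => D3 → Pt) (@D3.rec (fun _ => Pt) (ke xe1 ye24 ze1) (ke xe1 ye24 ze2) (ke xe1 ye24 ze3) (ke xe1 ye24 ze4) (ke xe1 ye24 ze5) (ke xe1 ye24 ze6) (ke xe1 ye24 ze7) (ke xe1 ye24 ze8) (ke xe4 ye20 ze1) (ke xe4 ye20 ze2) (ke xe4 ye20 ze3) (ke xe3 ye0 ze15) (ke xe4 ye20 ze4) (ke xe4 ye20 ze5) (ke xe4 ye20 ze6) (ke xe3 ye0 ze11) (ke xe1 ye24 ze9) (ke xe1 ye24 ze10) (ke xe1 ye24 ze11) (ke xe5 ye2 ze1) (ke xe1 ye24 ze13) (ke xe1 ye24 ze14) (ke xe1 ye24 ze15) (ke xe1 ye24 ze16) (ke xe1 ye24 ze17) (ke xe1 ye24 ze18) (ke xe1 ye24 ze19) (ke xe1 ye24 ze20) (ke xe1 ye24 ze21) (ke xe5 ye2 ze23) (ke xe1 ye24 ze23) (ke xe1 ye24 ze24)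 (ke xe1 ye24 ze25) (ke xe1 ye24 ze26) (ke xe1 ye24 ze27) (ke xe1 ye24 ze28) (ke xe1 ye24 ze29) (ke xe1 ye24 ze30) (ke xe5 ye3 ze3) (ke xe1 ye23 ze10)) (@D3.rec (fun _ => Pt) (ke xe5 ye3 ze4) (ke xe1 ye24 ze35) (ke xe1 ye24 ze36) (ke xe1 ye24 ze37) (ke xe1 ye24 ze38) (ke xe1 ye24 ze39) (ke xe5 ye3 ze16) (ke xe1 ye25 ze1) (ke xe1 ye25 ze2) (ke xe5 ye3 ze23) (ke xe1 ye23 ze18) (ke xe5 ye3 ze24) (ke xe1 ye25 ze7) (ke xe1 ye25 ze8) (ke xe1 ye25 ze9) (ke xe1 ye25 ze10) (ke xe1 ye25 ze11) (ke xe5 ye3 ze36) (ke xe2 ye24 ze32) (ke xe5 ye4 ze0) (ke xe1 ye23 ze34) (ke xe2 ye13 ze35) (ke xe3 ye9 ze36) (ke xe3 ye9 ze37) (ke xe2 ye24 ze39) (ke xe5 ye4 ze10) (ke xe1 ye23 ze35) (ke xe2 ye13 ze37) (ke xe3 ye9 ze38) (ke xe3 ye9 ze39) (ke xe5 ye4 ze1) (ke xe5 ye4 ze11)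 (ke xe5 ye0 ze15) (ke xe5 ye0 ze16) (ke xe5 ye0 ze19) (ke xe5 ye0 ze20) (ke xe5 ye0 ze21) (ke xe5 ye0 ze22) (ke xe5 ye0 ze25) (ke xe5 ye0 ze26)) (@D3.rec (fun _ => Pt) (ke xe5 ye0 ze27) (ke xe5 ye0 ze28) (ke xe5 ye0 ze29) (ke xe5 ye0 ze30) (ke xe5 ye1 ze1) (ke xe5 ye1 ze2) (ke xe5 ye5 ze1) (ke xe5 ye1 ze4) (ke xe5 ye1 ze5) (ke xe5 ye1 ze6) (ke xe5 ye1 ze7) (ke xe5 ye1 ze8) (ke xe5 ye1 ze9) (ke xe5 ye1 ze10) (ke xe5 ye5 ze17) (ke xe5 ye1 ze12) (ke xe5 ye1 ze13) (ke xe5 ye1 ze14) (ke xe5 ye1 ze15) (ke xe5 ye1 ze16) (ke xe5 ye1 ze33) (ke xe5 ye1 ze34) (ke xe5 ye1 ze35) (ke xe5 ye1 ze36) (ke xe5 ye1 ze37) (ke xe5 ye6 ze2) (ke xe5 ye1 ze39) (ke xe5 ye2 ze0) (ke xe1 ye24 ze12) (ke xe5 ye6 ze8) (ke xe5 ye2 ze3) (ke xe5 ye2 ze4) (ke xe5 ye2 ze5) (ke xe5 ye2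 ze6) (ke xe5 ye2 ze7) (ke xe5 ye2 ze8) (ke xe5 ye2 ze9) (ke xe5 ye2 ze10) (ke xe5 ye2 ze11) (ke xe5 ye6 ze31)) (@D3.rec (fun _ => Pt) (ke xe5 ye2 ze13) (ke xe5 ye2 ze14) (ke xe5 ye2 ze15) (ke xe5 ye2 ze16) (ke xe5 ye2 ze17) (ke xe5 ye2 ze18) (ke xe5 ye2 ze19) (ke xe5 ye7 ze6) (ke xe5 ye2 ze21) (ke xe5 ye2 ze22) (ke xe1 ye24 ze22) (ke xe5 ye7 ze12) (ke xe5 ye2 ze25) (ke xe5 ye2 ze26) (ke xe5 ye2 ze27) (ke xe5 ye2 ze28) (ke xe5 ye2 ze29) (ke xe5 ye2 ze30) (ke xe5 ye2 ze31) (ke xe5 ye2 ze32) (ke xe5 ye2 ze33) (ke xe5 ye7 ze31) (ke xe5 ye2 ze35) (ke xe5 ye2 ze36) (ke xe5 ye2 ze37) (ke xe5 ye7 ze37) (ke xe5 ye2 ze39) (ke xe5 ye8 ze1) (ke xe5 ye3 ze1) (ke xe5 ye3 ze2) (ke xe1 ye24 ze31) (ke xe5 ye8 ze5) (ke xe1 ye24 ze32) (ke xe5 ye8 ze9) (ke xe1 ye24 ze34)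 (ke xe5 ye8 ze11) (ke xe5 ye8 ze12) (ke xe5 ye3 ze7) (ke xe5 ye3 ze8) (ke xe5 ye3 ze9)) (@D3.rec (fun _ => Pt) (ke xe5 ye3 ze10) (ke xe5 ye3 ze11) (ke xe5 ye8 ze29) (ke xe5 ye3 ze13) (ke xe5 ye8 ze34) (ke xe5 ye8 ze36) (ke xe1 ye25 ze0) (ke xe5 ye3 ze17) (ke xe5 ye9 ze1) (ke xe5 ye3 ze19) (ke xe5 ye9 ze5) (ke xe5 ye3 ze21) (ke xe5 ye3 ze22) (ke xe1 ye25 ze3) (ke xe5 ye9 ze9) (ke xe1 ye25 ze4) (ke xe5 ye9 ze13) (ke xe1 ye25 ze6) (ke xe5 ye9 ze15) (ke xe5 ye9 ze16) (ke xe5 ye3 ze27) (ke xe5 ye3 ze28) (ke xe5 ye3 ze29) (ke xe5 ye3 ze30) (ke xe5 ye3 ze31) (ke xe5 ye9 ze33) (ke xe5 ye3 ze33) (ke xe5 ye9 ze38) (ke xe5 ye10 ze0) (ke xe1 ye25 ze12) (ke xe5 ye10 ze2) (ke xe1 ye25 ze13) (ke xe5 ye10 ze7) (ke xe5 ye10 ze10) (ke xe1 ye25 ze15) (ke xe3 ye11 ze8)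 (ke xe5 ye10 ze12) (ke xe1 ye25 ze16) (ke xe5 ye10 ze17) (ke xe5 ye10 ze16)) (@D3.rec (fun _ => Pt) (ke xe1 ye25 ze18) (ke xe5 ye10 ze20) (ke xe5 ye10 ze21) (ke xe1 ye25 ze20) (ke xe1 ye25 ze21) (ke xe2 ye9 ze3) (ke xe5 ye10 ze26) (ke xe4 ye16 ze34) (ke xe2 ye3 ze38) (ke xe5 ye10 ze34) (ke xe5 ye10 ze37) (ke xe1 ye25 ze27) (ke xe5 ye10 ze39) (ke xe1 ye25 ze29) (ke xe5 ye11 ze4) (ke xe5 ye11 ze7) (ke xe1 ye25 ze31) (ke xe5 ye10 ze14) (ke xe3 ye11 ze18) (ke xe1 ye25 ze32) (ke xe5 ye11 ze11) (ke xe5 ye11 ze10) (ke xe1 ye25 ze34) (ke xe5 ye10 ze15) (ke xe5 ye11 ze14) (ke xe1 ye25 ze36) (ke xe1 ye25 ze37) (ke xe2 ye9 ze33) (ke xe5 ye11 ze19) (ke xe4 ye17 ze23) (ke xe2 ye4 ze2) (ke xe5 ye11 ze27) (ke xe5 ye11 ze30) (ke xe2 ye0 ze3) (ke xe5 ye11 ze32) (ke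 xe2 ye0 ze5) (ke xe5 ye11 ze34) (ke xe5 ye11 ze35) (ke xe3 ye22 ze7) (ke xe2 ye0 ze7)) (@D3.rec (fun _ => Pt) (ke xe2 ye0 ze8) (ke xe5 ye11 ze38) (ke xe5 ye11 ze39) (ke xe5 ye11 ze16) (ke xe3 ye22 ze20) (ke xe2 ye0 ze11) (ke xe5 ye12 ze5) (ke xe5 ye12 ze6) (ke xe5 ye12 ze7) (ke xe2 ye0 ze14) (ke xe3 ye6 ze12) (ke xe5 ye12 ze18) (ke xe3 ye6 ze10) (ke xe5 ye12 ze22) (ke xe2 ye0 ze16) (ke xe5 ye12 ze26) (ke xe5 ye12 ze27) (ke xe2 ye9 ze24) (ke xe5 ye12 ze31) (ke xe2 ye0 ze18) (ke xe5 ye12 ze33) (ke xe5 ye12 ze34) (ke xe3 ye23 ze14) (ke xe2 ye0 ze20) (ke xe2 ye0 ze21) (ke xe5 ye12 ze2) (ke xe5 ye10 ze23) (ke xe5 ye12 ze37) (ke xe3 ye23 ze26) (ke xe2 ye0 ze24) (ke xe5 ye13 ze1) (ke xe5 ye12 ze3) (ke xe5 ye13 ze2) (ke xe2 ye0 ze27) (ke xe3 ye6 ze36) (ke xe5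 ye13 ze11) (ke xe3 ye6 ze34) (ke xe5 ye13 ze15) (ke xe2 ye0 ze29) (ke xe5 ye13 ze19)) (@D3.rec (fun _ => Pt) (ke xe5 ye13 ze20) (ke xe2 ye8 ze34) (ke xe2 ye0 ze32) (ke xe2 ye0 ze34) (ke xe2 ye0 ze35) (ke xe2 ye21 ze1) (ke xe5 ye13 ze23) (ke xe5 ye13 ze24) (ke xe2 ye21 ze4) (ke xe2 ye21 ze5) (ke xe2 ye21 ze6) (ke xe5 ye13 ze25) (ke xe5 ye13 ze26) (ke xe2 ye1 ze5) (ke xe2 ye1 ze7) (ke xe2 ye1 ze8) (ke xe2 ye5 ze22) (ke xe2 ye5 ze23) (ke xe2 ye1 ze13) (ke xe2 ye1 ze14) (ke xe2 ye1 ze15) (ke xe2 ye1 ze16) (ke xe2 ye1 ze1) (ke xe2 ye1 ze2) (ke xe5 ye14 ze12) (ke xe5 ye14 ze13) (ke xe2 ye1 ze21) (ke xe2 ye1 ze22) (ke xe2 ye1 ze23) (ke xe2 ye1 ze24) (ke xe2 ye1 ze6) (ke xe5 ye13 ze38) (ke xe5 ye13 ze39) (ke xe4 ye6 ze29) (ke xe5 ye14 ze26) (ke xe5 ye14 ze27)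 (ke xe5 ye14 ze0) (ke xe5 ye14 ze1) (ke xe5 ye14 ze39) (ke xe2 ye1 ze9)) (@D3.rec (fun _ => Pt) (ke xe5 ye15 ze2) (ke xe5 ye15 ze3) (ke xe2 ye1 ze11) (ke xe2 ye1 ze12) (ke xe5 ye15 ze6) (ke xe5 ye15 ze7) (ke xe5 ye15 ze8) (ke xe5 ye15 ze9) (ke xe5 ye14 ze6) (ke xe5 ye14 ze7) (ke xe5 ye14 ze8) (ke xe5 ye14 ze9) (ke xe5 ye14 ze10) (ke xe5 ye14 ze11) (ke xe2 ye1 ze19) (ke xe2 ye1 ze20) (ke xe5 ye15 ze22) (ke xe5 ye15 ze23) (ke xe5 ye15 ze24) (ke xe5 ye15 ze25) (ke xe5 ye15 ze26) (ke xe5 ye15 ze27) (ke xe5 ye14 ze20) (ke xe5 ye14 ze21) (ke xe5 ye14 ze22) (ke xe5 ye14 ze23) (ke xe5 ye14 ze24) (ke xe5 ye14 ze25) (ke xe2 ye2 ze17) (ke xe2 ye2 ze18) (ke xe2 ye2 ze23) (ke xe2 ye2 ze24) (ke xe2 ye2 ze25) (ke xe2 ye2 ze26) (ke xe2 ye2 ze27) (ke xe2 ye2 ze28) (ke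 xe2 ye2 ze29) (ke xe2 ye2 ze30) (ke xe2 ye1 ze33) (ke xe2 ye1 ze34)) (@D3.rec (fun _ => Pt) (ke xe2 ye1 ze35) (ke xe2 ye1 ze36) (ke xe2 ye14 ze34) (ke xe2 ye14 ze33) (ke xe5 ye16 ze28) (ke xe5 ye16 ze29) (ke xe2 ye15 ze13) (ke xe2 ye15 ze12) (ke xe5 ye16 ze30) (ke xe5 ye16 ze31) (ke xe2 ye3 ze7) (ke xe2 ye3 ze8) (ke xe2 ye3 ze9) (ke xe5 ye17 ze19) (ke xe2 ye3 ze11) (ke xe2 ye3 ze12) (ke xe2 ye3 ze13) (ke xe2 ye3 ze14) (ke xe2 ye3 ze15) (ke xe2 ye3 ze16) (ke xe2 ye3 ze17) (ke xe2 ye3 ze18) (ke xe2 ye3 ze19) (ke xe5 ye18 ze1) (ke xe2 ye3 ze21) (ke xe2 ye3 ze22) (ke xe2 ye3 ze23) (ke xe2 ye3 ze24) (ke xe2 ye3 ze25) (ke xe2 ye3 ze26) (ke xe2 ye2 ze5) (ke xe2 ye3 ze29) (ke xe5 ye18 ze17) (ke xe2 ye2 ze8) (ke xe2 ye3 ze33) (ke xe5 ye18 ze21) (ke xe3 ye1 ze22)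 (ke xe3 ye1 ze23) (ke xe3 ye1 ze28) (ke xe3 ye1 ze29)) (@D3.rec (fun _ => Pt) (ke xe2 ye2 ze19) (ke xe2 ye2 ze21) (ke xe5 ye16 ze6) (ke xe5 ye16 ze7) (ke xe5 ye16 ze8) (ke xe5 ye16 ze9) (ke xe5 ye16 ze10) (ke xe5 ye16 ze11) (ke xe2 ye25 ze10) (ke xe3 ye13 ze4) (ke xe5 ye18 ze28) (ke xe3 ye10 ze15) (ke xe2 ye25 ze20) (ke xe3 ye13 ze13) (ke xe5 ye18 ze29) (ke xe3 ye10 ze11) (ke xe5 ye16 ze12) (ke xe5 ye16 ze13) (ke xe5 ye19 ze5) (ke xe5 ye16 ze15) (ke xe5 ye16 ze16) (ke xe5 ye16 ze17) (ke xe5 ye16 ze18) (ke xe5 ye16 ze19) (ke xe5 ye16 ze20) (ke xe5 ye16 ze21) (ke xe5 ye19 ze20) (ke xe5 ye16 ze23) (ke xe5 ye16 ze24) (ke xe5 ye16 ze25) (ke xe5 ye16 ze26) (ke xe5 ye16 ze27) (ke xe2 ye2 ze33) (ke xe2 ye2 ze34) (ke xe3 ye10 ze35) (ke xe3 ye10 ze34) (ke xe5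 ye19 ze32) (ke xe3 ye10 ze38) (ke xe3 ye10 ze37) (ke xe5 ye19 ze33)) (@D3.rec (fun _ => Pt) (ke xe2 ye2 ze39) (ke xe2 ye3 ze0) (ke xe2 ye3 ze1) (ke xe2 ye3 ze2) (ke xe2 ye3 ze3) (ke xe2 ye3 ze4) (ke xe2 ye3 ze5) (ke xe2 ye3 ze6) (ke xe3 ye4 ze35) (ke xe3 ye13 ze7) (ke xe5 ye19 ze38) (ke xe5 ye20 ze12) (ke xe5 ye19 ze39) (ke xe5 ye20 ze0) (ke xe5 ye0 ze0) (ke xe5 ye20 ze1) (ke xe5 ye20 ze2) (ke xe5 ye20 ze3) (ke xe3 ye5 ze18) (ke xe3 ye13 ze17) (ke xe5 ye20 ze4) (ke xe5 ye20 ze28) (ke xe5 ye20 ze5) (ke xe5 ye20 ze6) (ke xe5 ye0 ze8) (ke xe5 ye20 ze7) (ke xe5 ye20 ze8) (ke xe5 ye20 ze9) (ke xe5 ye17 ze10) (ke xe5 ye17 ze11) (ke xe5 ye17 ze12) (ke xe5 ye17 ze13) (ke xe5 ye17 ze14) (ke xe5 ye21 ze8) (ke xe5 ye17 ze16) (ke xe5 ye17 ze17) (ke xe5 ye21 ze14)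 (ke xe2 ye3 ze10) (ke xe5 ye21 ze16) (ke xe5 ye17 ze21)) (@D3.rec (fun _ => Pt) (ke xe5 ye17 ze22) (ke xe5 ye17 ze23) (ke xe5 ye17 ze24) (ke xe5 ye17 ze25) (ke xe5 ye17 ze26) (ke xe5 ye17 ze27) (ke xe5 ye17 ze28) (ke xe5 ye21 ze36) (ke xe5 ye17 ze30) (ke xe5 ye17 ze31) (ke xe5 ye17 ze32) (ke xe5 ye17 ze33) (ke xe5 ye17 ze34) (ke xe5 ye17 ze35) (ke xe5 ye17 ze36) (ke xe5 ye22 ze6) (ke xe5 ye17 ze38) (ke xe5 ye17 ze39) (ke xe5 ye22 ze12) (ke xe2 ye3 ze20) (ke xe5 ye22 ze14) (ke xe5 ye18 ze3) (ke xe5 ye18 ze4) (ke xe5 ye18 ze5) (ke xe5 ye18 ze6) (ke xe5 ye18 ze7) (ke xe5 ye18 ze8) (ke xe5 ye18 ze9) (ke xe5 ye18 ze10) (ke xe5 ye22 ze34) (ke xe5 ye18 ze12) (ke xe5 ye18 ze13) (ke xe5 ye22 ze38) (ke xe2 ye3 ze27) (ke xe5 ye18 ze14) (ke xe5 ye23 ze4) (ke xe5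 ye23 ze6) (ke xe2 ye3 ze30) (ke xe5 ye23 ze7) (ke xe2 ye3 ze31)) (@D3.rec (fun _ => Pt) (ke xe5 ye18 ze18) (ke xe5 ye23 ze13) (ke xe5 ye23 ze15) (ke xe2 ye3 ze34) (ke xe3 ye10 ze9) (ke xe5 ye23 ze19) (ke xe2 ye3 ze35) (ke xe3 ye11 ze9) (ke xe5 ye20 ze15) (ke xe2 ye3 ze36) (ke xe5 ye23 ze23) (ke xe5 ye10 ze31) (ke xe5 ye23 ze28) (ke xe3 ye10 ze13) (ke xe5 ye23 ze32) (ke xe2 ye3 ze39) (ke xe5 ye20 ze31) (ke xe3 ye11 ze19) (ke xe2 ye4 ze0) (ke xe5 ye23 ze36) (ke xe5 ye11 ze24) (ke xe5 ye24 ze1) (ke xe2 ye5 ze20) (ke xe2 ye5 ze21) (ke xe2 ye10 ze20) (ke xe2 ye10 ze21) (ke xe2 ye5 ze24) (ke xe2 ye5 ze25) (ke xe2 ye5 ze26) (ke xe2 ye5 ze27) (ke xe2 ye10 ze26) (ke xe2 ye10 ze28) (ke xe2 ye10 ze29) (ke xe2 ye10 ze30) (ke xe2 ye10 ze31) (ke xe2 ye5 ze28) (ke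 xe2 ye5 ze29) (ke xe2 ye5 ze30) (ke xe2 ye5 ze31) (ke xe2 ye5 ze32)) (@D3.rec (fun _ => Pt) (ke xe2 ye5 ze33) (ke xe2 ye11 ze0) (ke xe2 ye11 ze1) (ke xe2 ye11 ze2) (ke xe2 ye11 ze3) (ke xe2 ye11 ze4) (ke xe2 ye11 ze5) (ke xe2 ye11 ze6) (ke xe2 ye11 ze7) (ke xe2 ye11 ze8) (ke xe2 ye11 ze9) (ke xe2 ye11 ze10) (ke xe2 ye11 ze11) (ke xe2 ye5 ze34) (ke xe2 ye5 ze35) (ke xe5 ye25 ze20) (ke xe2 ye5 ze37) (ke xe2 ye5 ze38) (ke xe2 ye5 ze39) (ke xe2 ye6 ze0) (ke xe2 ye6 ze1) (ke xe2 ye6 ze2) (ke xe2 ye6 ze3) (ke xe5 ye25 ze39) (ke xe2 ye6 ze5) (ke xe2 ye6 ze6) (ke xe2 ye6 ze7) (ke xe2 ye6 ze8) (ke xe2 ye6 ze9) (ke xe2 ye11 ze28) (ke xe2 ye11 ze29) (ke xe2 ye11 ze30) (ke xe6 ye0 ze18) (ke xe2 ye11 ze32) (ke xe2 ye11 ze34) (ke xe2 ye11 ze38) (ke xe2 ye11 ze39)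 (ke xe2 ye12 ze0) (ke xe6 ye0 ze30) (ke xe2 ye12 ze2)) (@D3.rec (fun _ => Pt) (ke xe2 ye12 ze4) (ke xe2 ye6 ze10) (ke xe2 ye6 ze11) (ke xe2 ye6 ze12) (ke xe2 ye6 ze13) (ke xe6 ye1 ze4) (ke xe2 ye6 ze15) (ke xe2 ye6 ze16) (ke xe6 ye1 ze11) (ke xe2 ye4 ze35) (ke xe6 ye1 ze13) (ke xe2 ye6 ze20) (ke xe2 ye6 ze21) (ke xe2 ye6 ze22) (ke xe2 ye6 ze23) (ke xe2 ye6 ze24) (ke xe2 ye6 ze25) (ke xe2 ye6 ze26) (ke xe6 ye1 ze31) (ke xe2 ye6 ze28) (ke xe2 ye6 ze29) (ke xe6 ye1 ze38) (ke xe2 ye5 ze1) (ke xe6 ye2 ze0) (ke xe2 ye6 ze33) (ke xe2 ye6 ze34) (ke xe2 ye6 ze35) (ke xe2 ye6 ze36) (ke xe6 ye2 ze14) (ke xe2 ye6 ze38) (ke xe2 ye6 ze39) (ke xe2 ye5 ze5) (ke xe2 ye7 ze2) (ke xe2 ye5 ze8) (ke xe6 ye2 ze22) (ke xe2 ye7 ze8) (ke xe2 ye7 ze9) (ke xe2 ye7 ze10) (ke xe6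 ye2 ze34) (ke xe2 ye7 ze12)) (@D3.rec (fun _ => Pt) (ke xe2 ye7 ze13) (ke xe2 ye5 ze11) (ke xe2 ye7 ze16) (ke xe2 ye5 ze14) (ke xe6 ye3 ze2) (ke xe2 ye7 ze22) (ke xe2 ye7 ze23) (ke xe2 ye18 ze17) (ke xe6 ye3 ze14) (ke xe2 ye18 ze20) (ke xe2 ye16 ze18) (ke xe2 ye5 ze17) (ke xe2 ye18 ze37) (ke xe6 ye3 ze24) (ke xe2 ye17 ze29) (ke xe2 ye19 ze0) (ke xe2 ye5 ze19) (ke xe5 ye24 ze2) (ke xe5 ye24 ze3) (ke xe5 ye14 ze2) (ke xe5 ye14 ze3) (ke xe5 ye14 ze4) (ke xe5 ye14 ze5) (ke xe5 ye24 ze8) (ke xe5 ye24 ze9) (ke xe5 ye24 ze10) (ke xe5 ye24 ze11) (ke xe5 ye24 ze23) (ke xe5 ye24 ze24) (ke xe5 ye24 ze26) (ke xe5 ye24 ze27) (ke xe5 ye24 ze28) (ke xe5 ye24 ze30) (ke xe5 ye25 ze13) (ke xe5 ye25 ze14) (ke xe5 ye25 ze15) (ke xe5 ye25 ze16) (ke xe5 ye25 ze17) (ke xe6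 ye4 ze16) (ke xe6 ye4 ze17)) (@D3.rec (fun _ => Pt) (ke xe2 ye5 ze36) (ke xe6 ye4 ze19) (ke xe5 ye25 ze22) (ke xe5 ye25 ze23) (ke xe5 ye25 ze24) (ke xe5 ye25 ze25) (ke xe5 ye25 ze26) (ke xe5 ye25 ze27) (ke xe5 ye25 ze28) (ke xe6 ye4 ze33) (ke xe5 ye25 ze30) (ke xe5 ye25 ze31) (ke xe5 ye25 ze32) (ke xe5 ye25 ze33) (ke xe5 ye25 ze34) (ke xe5 ye25 ze35) (ke xe5 ye25 ze36) (ke xe6 ye5 ze7) (ke xe6 ye5 ze8) (ke xe2 ye6 ze4) (ke xe6 ye5 ze10) (ke xe6 ye0 ze1) (ke xe6 ye0 ze2) (ke xe6 ye0 ze3) (ke xe6 ye0 ze4) (ke xe6 ye0 ze5) (ke xe6 ye0 ze6) (ke xe6 ye0 ze7) (ke xe6 ye5 ze24) (ke xe6 ye0 ze9) (ke xe6 ye0 ze10) (ke xe6 ye0 ze35) (ke xe6 ye0 ze36) (ke xe6 ye0 ze37) (ke xe6 ye0 ze38) (ke xe6 ye0 ze39) (ke xe6 ye5 ze30) (ke xe6 ye1 ze1) (ke xe6 ye1 ze2) (ke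 xe2 ye6 ze14)) (@D3.rec (fun _ => Pt) (ke xe6 ye5 ze33) (ke xe6 ye1 ze6) (ke xe6 ye1 ze7) (ke xe6 ye1 ze8) (ke xe6 ye1 ze9) (ke xe6 ye6 ze4) (ke xe2 ye6 ze17) (ke xe6 ye6 ze7) (ke xe2 ye6 ze19) (ke xe6 ye6 ze9) (ke xe6 ye6 ze10) (ke xe6 ye1 ze16) (ke xe6 ye1 ze17) (ke xe6 ye1 ze18) (ke xe6 ye1 ze19) (ke xe6 ye1 ze20) (ke xe6 ye1 ze21) (ke xe6 ye1 ze22) (ke xe6 ye1 ze23) (ke xe6 ye1 ze24) (ke xe6 ye1 ze25) (ke xe6 ye1 ze26) (ke xe6 ye6 ze24) (ke xe6 ye1 ze28) (ke xe6 ye1 ze29) (ke xe2 ye6 ze27) (ke xe6 ye6 ze27) (ke xe6 ye1 ze33) (ke xe6 ye1 ze34) (ke xe6 ye1 ze35) (ke xe6 ye1 ze36) (ke xe6 ye6 ze37) (ke xe2 ye6 ze30) (ke xe6 ye7 ze0) (ke xe2 ye6 ze32) (ke xe6 ye7 ze2) (ke xe6 ye7 ze3) (ke xe6 ye2 ze3) (ke xe6 ye2 ze4) (ke xe6 ye2 ze5)) (@D3.rec (fun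 _ => Pt) (ke xe6 ye2 ze6) (ke xe6 ye2 ze7) (ke xe6 ye2 ze8) (ke xe6 ye2 ze9) (ke xe6 ye7 ze17) (ke xe6 ye2 ze11) (ke xe6 ye2 ze12) (ke xe6 ye7 ze22) (ke xe2 ye6 ze37) (ke xe6 ye7 ze24) (ke xe6 ye7 ze25) (ke xe6 ye2 ze17) (ke xe6 ye2 ze18) (ke xe6 ye2 ze19) (ke xe2 ye7 ze1) (ke xe6 ye7 ze33) (ke xe6 ye2 ze20) (ke xe6 ye2 ze21) (ke xe2 ye22 ze29) (ke xe2 ye7 ze3) (ke xe2 ye22 ze26) (ke xe4 ye21 ze34) (ke xe2 ye23 ze20) (ke xe2 ye7 ze5) (ke xe6 ye8 ze1) (ke xe2 ye7 ze7) (ke xe6 ye8 ze5) (ke xe6 ye8 ze6) (ke xe6 ye8 ze7) (ke xe6 ye2 ze26) (ke xe6 ye2 ze27) (ke xe6 ye2 ze28) (ke xe6 ye2 ze29) (ke xe6 ye8 ze16) (ke xe6 ye2 ze31) (ke xe6 ye2 ze32) (ke xe6 ye8 ze21) (ke xe2 ye7 ze11) (ke xe6 ye8 ze23) (ke xe6 ye8 ze24)) (@D3.rec (fun _ => Pt) (ke xe6 ye2 ze37)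 (ke xe6 ye2 ze38) (ke xe6 ye2 ze39) (ke xe2 ye7 ze15) (ke xe6 ye8 ze32) (ke xe6 ye3 ze0) (ke xe6 ye3 ze1) (ke xe2 ye22 ze30) (ke xe2 ye7 ze17) (ke xe4 ye21 ze32) (ke xe2 ye23 ze21) (ke xe2 ye7 ze19) (ke xe6 ye9 ze0) (ke xe2 ye7 ze21) (ke xe6 ye9 ze4) (ke xe6 ye9 ze5) (ke xe6 ye9 ze6) (ke xe6 ye3 ze6) (ke xe6 ye3 ze7) (ke xe6 ye3 ze8) (ke xe3 ye24 ze20) (ke xe6 ye9 ze13) (ke xe2 ye23 ze31) (ke xe3 ye22 ze34) (ke xe6 ye9 ze18) (ke xe6 ye9 ze21) (ke xe2 ye7 ze28) (ke xe3 ye22 ze11) (ke xe6 ye9 ze24) (ke xe2 ye7 ze29) (ke xe6 ye9 ze26) (ke xe6 ye9 ze27) (ke xe6 ye9 ze25) (ke xe2 ye7 ze31) (ke xe2 ye7 ze32) (ke xe6 ye9 ze33) (ke xe6 ye9 ze34) (ke xe6 ye9 ze35) (ke xe2 ye7 ze35) (ke xe2 ye7 ze34)) (@D3.rec (fun _ => Pt) (ke xe6 ye10 ze2) (ke xe5 ye22 ze39)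 (ke xe6 ye10 ze1) (ke xe2 ye7 ze37) (ke xe6 ye10 ze6) (ke xe6 ye10 ze7) (ke xe6 ye10 ze8) (ke xe2 ye8 ze0) (ke xe4 ye17 ze24) (ke xe6 ye10 ze18) (ke xe3 ye24 ze36) (ke xe6 ye10 ze21) (ke xe2 ye23 ze29) (ke xe3 ye24 ze0) (ke xe6 ye10 ze26) (ke xe6 ye10 ze29) (ke xe2 ye8 ze5) (ke xe6 ye10 ze32) (ke xe3 ye23 ze17) (ke xe2 ye8 ze6) (ke xe6 ye10 ze34) (ke xe6 ye10 ze35) (ke xe6 ye10 ze33) (ke xe2 ye8 ze8) (ke xe2 ye8 ze9) (ke xe6 ye11 ze1) (ke xe6 ye11 ze2) (ke xe6 ye9 ze36) (ke xe2 ye8 ze12) (ke xe2 ye8 ze11) (ke xe6 ye11 ze7) (ke xe5 ye23 ze8) (ke xe6 ye11 ze6) (ke xe2 ye8 ze14) (ke xe6 ye11 ze11) (ke xe6 ye11 ze12) (ke xe6 ye11 ze13) (ke xe2 ye8 ze17) (ke xe4 ye16 ze35) (ke xe6 ye11 ze20)) (@D3.rec (fun _ => Pt) (ke xe2 ye10 ze4) (ke xe3 ye22 ze3) (ke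 xe2 ye8 ze21) (ke xe3 ye22 ze1) (ke xe4 ye23 ze15) (ke xe4 ye23 ze14) (ke xe2 ye8 ze23) (ke xe3 ye5 ze38) (ke xe6 ye11 ze29) (ke xe2 ye8 ze26) (ke xe6 ye11 ze33) (ke xe3 ye20 ze27) (ke xe2 ye8 ze32) (ke xe2 ye8 ze30) (ke xe2 ye8 ze31) (ke xe6 ye11 ze38) (ke xe6 ye11 ze39) (ke xe6 ye12 ze0) (ke xe6 ye12 ze1) (ke xe6 ye11 ze37) (ke xe3 ye6 ze4) (ke xe5 ye13 ze18) (ke xe2 ye8 ze37) (ke xe2 ye8 ze38) (ke xe2 ye8 ze39) (ke xe2 ye9 ze0) (ke xe6 ye12 ze16) (ke xe6 ye12 ze17) (ke xe6 ye12 ze18) (ke xe6 ye12 ze32) (ke xe6 ye12 ze20) (ke xe6 ye12 ze21) (ke xe5 ye12 ze8) (ke xe6 ye12 ze22) (ke xe3 ye20 ze23) (ke xe6 ye12 ze23) (ke xe2 ye9 ze4) (ke xe6 ye13 ze3) (ke xe5 ye10 ze27) (ke xe6 ye13 ze1)) (@D3.rec (fun _ => Pt) (ke xe6 ye13 ze10) (ke xe6 ye13 ze12) (ke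 xe2 ye9 ze5) (ke xe6 ye13 ze13) (ke xe4 ye17 ze0) (ke xe6 ye8 ze0) (ke xe2 ye10 ze13) (ke xe3 ye23 ze9) (ke xe2 ye9 ze10) (ke xe3 ye23 ze7) (ke xe4 ye23 ze19) (ke xe4 ye23 ze18) (ke xe2 ye9 ze13) (ke xe6 ye13 ze25) (ke xe3 ye6 ze22) (ke xe2 ye9 ze15) (ke xe6 ye13 ze29) (ke xe3 ye21 ze18) (ke xe2 ye9 ze21) (ke xe2 ye9 ze20) (ke xe2 ye9 ze22) (ke xe6 ye13 ze34) (ke xe6 ye13 ze35) (ke xe6 ye13 ze36) (ke xe6 ye13 ze33) (ke xe6 ye12 ze3) (ke xe3 ye6 ze28) (ke xe5 ye12 ze25) (ke xe2 ye9 ze27) (ke xe2 ye9 ze28) (ke xe2 ye9 ze29) (ke xe2 ye9 ze30) (ke xe6 ye14 ze10) (ke xe6 ye14 ze11) (ke xe6 ye14 ze12) (ke xe6 ye14 ze26) (ke xe6 ye14 ze14) (ke xe6 ye14 ze15) (ke xe5 ye13 ze3) (ke xe6 ye14 ze16)) (@D3.rec (fun _ => Pt) (ke xe3 ye21 ze13) (ke xe6 ye14 ze17)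 (ke xe2 ye9 ze34) (ke xe6 ye14 ze37) (ke xe5 ye11 ze20) (ke xe6 ye14 ze35) (ke xe6 ye15 ze4) (ke xe6 ye15 ze6) (ke xe2 ye9 ze35) (ke xe6 ye15 ze7) (ke xe4 ye17 ze29) (ke xe6 ye8 ze39) (ke xe2 ye9 ze39) (ke xe6 ye15 ze14) (ke xe6 ye15 ze11) (ke xe6 ye15 ze18) (ke xe6 ye11 ze22) (ke xe6 ye15 ze13) (ke xe2 ye10 ze0) (ke xe6 ye15 ze23) (ke xe3 ye20 ze20) (ke xe2 ye10 ze3) (ke xe2 ye10 ze5) (ke xe6 ye15 ze24) (ke xe6 ye11 ze21) (ke xe6 ye15 ze25) (ke xe6 ye11 ze23) (ke xe6 ye15 ze26) (ke xe2 ye10 ze7) (ke xe6 ye15 ze35) (ke xe6 ye15 ze32) (ke xe6 ye15 ze39) (ke xe6 ye15 ze34) (ke xe6 ye13 ze18) (ke xe2 ye10 ze8) (ke xe6 ye16 ze4) (ke xe3 ye21 ze10) (ke xe2 ye10 ze11) (ke xe2 ye10 ze12) (ke xe6 ye16 ze5)) (@D3.rec (fun _ => Pt) (ke xe6 ye16 ze6) (ke xe6 ye13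 ze17) (ke xe6 ye16 ze7) (ke xe6 ye13 ze19) (ke xe2 ye21 ze0) (ke xe2 ye14 ze1) (ke xe2 ye14 ze2) (ke xe2 ye14 ze3) (ke xe2 ye14 ze4) (ke xe2 ye10 ze17) (ke xe6 ye6 ze3) (ke xe6 ye6 ze36) (ke xe2 ye14 ze9) (ke xe2 ye14 ze10) (ke xe2 ye14 ze11) (ke xe2 ye14 ze12) (ke xe5 ye24 ze4) (ke xe5 ye24 ze5) (ke xe5 ye24 ze6) (ke xe5 ye24 ze7) (ke xe2 ye14 ze13) (ke xe2 ye14 ze14) (ke xe2 ye14 ze15) (ke xe2 ye14 ze16) (ke xe2 ye14 ze17) (ke xe2 ye14 ze18) (ke xe2 ye14 ze19) (ke xe2 ye14 ze20) (ke xe5 ye24 ze12) (ke xe3 ye25 ze29) (ke xe5 ye24 ze13) (ke xe5 ye24 ze14) (ke xe3 ye25 ze32) (ke xe3 ye25 ze33) (ke xe5 ye24 ze15) (ke xe5 ye24 ze16) (ke xe5 ye24 ze17) (ke xe5 ye24 ze18) (ke xe5 ye24 ze19) (ke xe5 ye24 ze20))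
def f_e_4 : D2 → D3 → Pt := @D2.rec (fun _ => D3 → Pt) (@D3.rec (fun _ => Pt) (ke xe5 ye24 ze21) (ke xe5 ye24 ze22) (ke xe2 ye14 ze21) (ke xe2 ye14 ze22) (ke xe2 ye14 ze23) (ke xe6 ye18 ze10) (ke xe2 ye14 ze25) (ke xe2 ye14 ze26) (ke xe2 ye14 ze27) (ke xe2 ye14 ze28) (ke xe2 ye14 ze29) (ke xe6 ye18 ze21) (ke xe2 ye14 ze31) (ke xe2 ye14 ze32) (ke xe4 ye0 ze14) (ke xe4 ye0 ze15) (ke xe4 ye0 ze16) (ke xe4 ye0 ze17) (ke xe5 ye24 ze31) (ke xe5 ye24 ze32) (ke xe5 ye24 ze33) (ke xe5 ye24 ze34) (ke xe5 ye24 ze35) (ke xe5 ye24 ze36) (ke xe5 ye24 ze37) (ke xe5 ye24 ze38) (ke xe6 ye19 ze3) (ke xe5 ye25 ze0) (ke xe5 ye25 ze1) (ke xe5 ye25 ze2) (ke xe5 ye25 ze3) (ke xe5 ye25 ze4) (ke xe5 ye25 ze5) (ke xe5 ye25 ze6) (ke xe6 ye19 ze19) (ke xe5 ye25 ze8) (ke xe5 ye25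 ze9) (ke xe5 ye25 ze10) (ke xe5 ye25 ze11) (ke xe5 ye25 ze12)) (@D3.rec (fun _ => Pt) (ke xe2 ye14 ze35) (ke xe2 ye14 ze36) (ke xe2 ye14 ze37) (ke xe6 ye19 ze38) (ke xe2 ye21 ze38) (ke xe2 ye11 ze14) (ke xe6 ye20 ze1) (ke xe2 ye15 ze2) (ke xe2 ye15 ze3) (ke xe2 ye15 ze4) (ke xe2 ye15 ze5) (ke xe2 ye15 ze6) (ke xe2 ye15 ze7) (ke xe2 ye15 ze8) (ke xe6 ye20 ze14) (ke xe2 ye15 ze10) (ke xe2 ye15 ze11) (ke xe2 ye15 ze14) (ke xe2 ye15 ze15) (ke xe2 ye15 ze16) (ke xe6 ye20 ze26) (ke xe2 ye22 ze1) (ke xe2 ye11 ze22) (ke xe6 ye20 ze29) (ke xe2 ye15 ze21) (ke xe2 ye15 ze22) (ke xe2 ye15 ze23) (ke xe2 ye15 ze24) (ke xe2 ye15 ze25) (ke xe2 ye15 ze26) (ke xe2 ye15 ze27) (ke xe6 ye21 ze2) (ke xe2 ye15 ze29) (ke xe2 ye15 ze30) (ke xe6 ye0 ze11) (ke xe6 ye0 ze12) (ke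 xe6 ye0 ze13) (ke xe6 ye21 ze11) (ke xe6 ye0 ze15) (ke xe6 ye0 ze16)) (@D3.rec (fun _ => Pt) (ke xe6 ye21 ze19) (ke xe2 ye11 ze31) (ke xe6 ye21 ze21) (ke xe6 ye0 ze20) (ke xe6 ye0 ze21) (ke xe4 ye2 ze32) (ke xe4 ye2 ze34) (ke xe4 ye2 ze35) (ke xe6 ye0 ze22) (ke xe4 ye2 ze30) (ke xe4 ye2 ze31) (ke xe4 ye2 ze26) (ke xe6 ye22 ze2) (ke xe4 ye2 ze27) (ke xe4 ye2 ze28) (ke xe6 ye0 ze23) (ke xe6 ye0 ze24) (ke xe6 ye0 ze25) (ke xe6 ye22 ze12) (ke xe6 ye0 ze27) (ke xe6 ye0 ze28) (ke xe6 ye22 ze19) (ke xe2 ye12 ze1) (ke xe6 ye22 ze21) (ke xe6 ye0 ze32) (ke xe6 ye0 ze33) (ke xe4 ye2 ze11) (ke xe4 ye2 ze13) (ke xe4 ye2 ze14) (ke xe6 ye0 ze34) (ke xe4 ye2 ze9) (ke xe4 ye2 ze10) (ke xe4 ye2 ze5) (ke xe6 ye23 ze2) (ke xe4 ye2 ze6) (ke xe4 ye2 ze7) (ke xe2 ye15 ze31)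 (ke xe2 ye15 ze32) (ke xe2 ye15 ze33) (ke xe6 ye23 ze11)) (@D3.rec (fun _ => Pt) (ke xe2 ye15 ze35) (ke xe2 ye15 ze36) (ke xe2 ye15 ze37) (ke xe2 ye15 ze38) (ke xe2 ye15 ze39) (ke xe2 ye16 ze0) (ke xe6 ye23 ze24) (ke xe2 ye16 ze2) (ke xe2 ye16 ze3) (ke xe6 ye23 ze31) (ke xe2 ye12 ze13) (ke xe6 ye23 ze33) (ke xe2 ye16 ze7) (ke xe2 ye16 ze8) (ke xe2 ye16 ze9) (ke xe2 ye16 ze10) (ke xe6 ye24 ze5) (ke xe6 ye24 ze8) (ke xe2 ye12 ze16) (ke xe6 ye24 ze10) (ke xe2 ye12 ze18) (ke xe6 ye24 ze13) (ke xe6 ye24 ze14) (ke xe2 ye16 ze17) (ke xe2 ye16 ze19) (ke xe2 ye16 ze20) (ke xe2 ye16 ze21) (ke xe2 ye16 ze22) (ke xe6 ye24 ze30) (ke xe2 ye16 ze24) (ke xe2 ye16 ze25) (ke xe2 ye16 ze26) (ke xe2 ye16 ze27) (ke xe2 ye16 ze28) (ke xe2 ye16 ze29) (ke xe2 ye16 ze30) (ke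 xe2 ye16 ze31) (ke xe2 ye16 ze32) (ke xe2 ye16 ze33) (ke xe6 ye25 ze15)) (@D3.rec (fun _ => Pt) (ke xe2 ye16 ze35) (ke xe2 ye16 ze36) (ke xe6 ye25 ze21) (ke xe2 ye12 ze28) (ke xe6 ye25 ze23) (ke xe2 ye17 ze0) (ke xe2 ye17 ze1) (ke xe2 ye17 ze2) (ke xe2 ye17 ze3) (ke xe2 ye17 ze4) (ke xe6 ye25 ze33) (ke xe2 ye17 ze6) (ke xe2 ye17 ze7) (ke xe2 ye17 ze8) (ke xe2 ye17 ze9) (ke xe2 ye17 ze10) (ke xe2 ye17 ze11) (ke xe7 ye0 ze5) (ke xe2 ye17 ze13) (ke xe2 ye17 ze14) (ke xe7 ye0 ze12) (ke xe2 ye12 ze36) (ke xe7 ye0 ze14) (ke xe2 ye17 ze18) (ke xe2 ye17 ze19) (ke xe2 ye17 ze20) (ke xe2 ye17 ze21) (ke xe7 ye0 ze25) (ke xe7 ye0 ze28) (ke xe2 ye12 ze39) (ke xe7 ye0 ze30) (ke xe2 ye13 ze1) (ke xe7 ye0 ze33) (ke xe7 ye0 ze34) (ke xe2 ye17 ze28) (ke xe2 ye17 ze30)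 (ke xe2 ye17 ze31) (ke xe2 ye17 ze32) (ke xe2 ye17 ze33) (ke xe7 ye1 ze10)) (@D3.rec (fun _ => Pt) (ke xe2 ye17 ze35) (ke xe2 ye17 ze36) (ke xe2 ye17 ze37) (ke xe2 ye17 ze38) (ke xe2 ye17 ze39) (ke xe2 ye18 ze0) (ke xe2 ye18 ze1) (ke xe2 ye18 ze2) (ke xe2 ye18 ze3) (ke xe2 ye18 ze4) (ke xe7 ye1 ze35) (ke xe2 ye18 ze6) (ke xe2 ye18 ze7) (ke xe7 ye2 ze1) (ke xe2 ye13 ze11) (ke xe7 ye2 ze3) (ke xe2 ye18 ze11) (ke xe2 ye18 ze12) (ke xe7 ye2 ze10) (ke xe2 ye13 ze14) (ke xe7 ye2 ze12) (ke xe2 ye18 ze16) (ke xe2 ye18 ze18) (ke xe2 ye18 ze21) (ke xe2 ye18 ze23) (ke xe2 ye18 ze24) (ke xe7 ye2 ze25) (ke xe2 ye18 ze26) (ke xe7 ye2 ze31) (ke xe2 ye18 ze28) (ke xe2 ye18 ze29) (ke xe2 ye13 ze21) (ke xe7 ye2 ze37) (ke xe2 ye13 ze22) (ke xe7 ye3 ze1) (ke xe2 ye13 ze24)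 (ke xe7 ye3 ze3) (ke xe2 ye18 ze36) (ke xe2 ye18 ze38) (ke xe2 ye19 ze1)) (@D3.rec (fun _ => Pt) (ke xe2 ye19 ze3) (ke xe2 ye19 ze4) (ke xe7 ye3 ze16) (ke xe2 ye19 ze6) (ke xe7 ye3 ze22) (ke xe2 ye19 ze8) (ke xe2 ye19 ze9) (ke xe2 ye13 ze31) (ke xe7 ye3 ze28) (ke xe2 ye13 ze32) (ke xe2 ye13 ze38) (ke xe5 ye4 ze2) (ke xe5 ye4 ze3) (ke xe2 ye13 ze39) (ke xe5 ye4 ze12) (ke xe5 ye4 ze13) (ke xe7 ye3 ze39) (ke xe2 ye14 ze0) (ke xe4 ye10 ze18) (ke xe4 ye12 ze39) (ke xe6 ye6 ze6) (ke xe6 ye6 ze39) (ke xe6 ye16 ze13) (ke xe6 ye16 ze14) (ke xe6 ye16 ze15) (ke xe6 ye16 ze16) (ke xe6 ye16 ze17) (ke xe6 ye16 ze18) (ke xe7 ye4 ze13) (ke xe3 ye7 ze33) (ke xe2 ye14 ze5) (ke xe7 ye4 ze17) (ke xe7 ye4 ze18) (ke xe2 ye14 ze7) (ke xe2 ye14 ze8) (ke xe7 ye4 ze21) (ke xe7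 ye4 ze22) (ke xe7 ye4 ze23) (ke xe7 ye4 ze24) (ke xe6 ye16 ze23)) (@D3.rec (fun _ => Pt) (ke xe6 ye16 ze24) (ke xe6 ye16 ze25) (ke xe6 ye16 ze26) (ke xe6 ye16 ze27) (ke xe6 ye16 ze28) (ke xe6 ye16 ze37) (ke xe6 ye16 ze38) (ke xe7 ye5 ze1) (ke xe6 ye17 ze0) (ke xe6 ye17 ze1) (ke xe6 ye17 ze2) (ke xe6 ye17 ze3) (ke xe6 ye17 ze4) (ke xe6 ye17 ze5) (ke xe6 ye17 ze6) (ke xe7 ye5 ze10) (ke xe6 ye17 ze8) (ke xe6 ye17 ze9) (ke xe6 ye17 ze10) (ke xe6 ye17 ze11) (ke xe6 ye17 ze12) (ke xe5 ye14 ze15) (ke xe5 ye14 ze14) (ke xe6 ye18 ze3) (ke xe6 ye18 ze4) (ke xe6 ye18 ze5) (ke xe7 ye5 ze22) (ke xe6 ye18 ze7) (ke xe6 ye18 ze8) (ke xe2 ye14 ze24) (ke xe7 ye5 ze26) (ke xe6 ye18 ze12) (ke xe6 ye18 ze13) (ke xe5 ye14 ze18) (ke xe5 ye14 ze17) (ke xe6 ye18 ze14) (ke xe6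 ye18 ze15) (ke xe6 ye18 ze16) (ke xe7 ye5 ze36) (ke xe6 ye18 ze18)) (@D3.rec (fun _ => Pt) (ke xe6 ye18 ze19) (ke xe2 ye14 ze30) (ke xe7 ye6 ze0) (ke xe6 ye18 ze23) (ke xe6 ye18 ze24) (ke xe5 ye16 ze35) (ke xe5 ye16 ze32) (ke xe5 ye16 ze33) (ke xe6 ye19 ze31) (ke xe6 ye19 ze32) (ke xe6 ye19 ze33) (ke xe7 ye6 ze13) (ke xe6 ye19 ze35) (ke xe6 ye19 ze36) (ke xe7 ye6 ze18) (ke xe2 ye14 ze38) (ke xe7 ye4 ze25) (ke xe7 ye6 ze20) (ke xe2 ye14 ze39) (ke xe7 ye4 ze26) (ke xe2 ye15 ze1) (ke xe7 ye6 ze21) (ke xe6 ye20 ze3) (ke xe6 ye20 ze4) (ke xe6 ye20 ze5) (ke xe6 ye20 ze6) (ke xe7 ye6 ze31) (ke xe6 ye20 ze8) (ke xe5 ye17 ze8) (ke xe5 ye17 ze7) (ke xe6 ye20 ze9) (ke xe6 ye20 ze10) (ke xe7 ye7 ze0) (ke xe6 ye20 ze12) (ke xe4 ye22 ze10) (ke xe2 ye15 ze9) (ke xe7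 ye7 ze4) (ke xe6 ye20 ze16) (ke xe6 ye20 ze17) (ke xe6 ye20 ze18)) (@D3.rec (fun _ => Pt) (ke xe5 ye17 ze4) (ke xe5 ye17 ze1) (ke xe5 ye17 ze2) (ke xe6 ye20 ze19) (ke xe6 ye20 ze20) (ke xe6 ye20 ze21) (ke xe7 ye7 ze18) (ke xe6 ye20 ze23) (ke xe6 ye20 ze24) (ke xe7 ye7 ze23) (ke xe2 ye15 ze17) (ke xe7 ye4 ze27) (ke xe7 ye7 ze25) (ke xe2 ye15 ze18) (ke xe7 ye4 ze28) (ke xe2 ye15 ze20) (ke xe7 ye7 ze26) (ke xe6 ye20 ze31) (ke xe6 ye20 ze32) (ke xe6 ye20 ze33) (ke xe6 ye20 ze34) (ke xe7 ye7 ze36) (ke xe6 ye20 ze36) (ke xe5 ye16 ze39) (ke xe5 ye16 ze38) (ke xe6 ye20 ze37) (ke xe6 ye20 ze38) (ke xe7 ye8 ze5) (ke xe6 ye21 ze0) (ke xe4 ye22 ze6) (ke xe2 ye15 ze28) (ke xe7 ye8 ze9) (ke xe6 ye21 ze4) (ke xe6 ye21 ze5) (ke xe6 ye21 ze6) (ke xe6 ye23 ze7) (ke xe6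 ye23 ze8) (ke xe6 ye23 ze10) (ke xe2 ye15 ze34) (ke xe7 ye8 ze19)) (@D3.rec (fun _ => Pt) (ke xe6 ye23 ze14) (ke xe6 ye23 ze15) (ke xe6 ye23 ze16) (ke xe6 ye23 ze17) (ke xe6 ye23 ze18) (ke xe6 ye23 ze19) (ke xe6 ye23 ze20) (ke xe6 ye23 ze21) (ke xe7 ye8 ze33) (ke xe6 ye23 ze22) (ke xe6 ye23 ze23) (ke xe7 ye8 ze39) (ke xe2 ye16 ze1) (ke xe7 ye9 ze2) (ke xe7 ye9 ze3) (ke xe6 ye23 ze27) (ke xe6 ye23 ze28) (ke xe6 ye23 ze29) (ke xe4 ye6 ze18) (ke xe2 ye16 ze4) (ke xe7 ye9 ze10) (ke xe2 ye16 ze6) (ke xe7 ye9 ze11) (ke xe6 ye23 ze35) (ke xe6 ye23 ze36) (ke xe6 ye23 ze37) (ke xe6 ye23 ze38) (ke xe6 ye23 ze39) (ke xe6 ye24 ze0) (ke xe7 ye9 ze25) (ke xe6 ye24 ze2) (ke xe2 ye16 ze11) (ke xe7 ye9 ze29) (ke xe7 ye9 ze28) (ke xe2 ye16 ze13) (ke xe7 ye9 ze32) (ke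 xe7 ye9 ze33) (ke xe2 ye16 ze15) (ke xe2 ye16 ze16) (ke xe7 ye9 ze38)) (@D3.rec (fun _ => Pt) (ke xe7 ye9 ze39) (ke xe7 ye10 ze0) (ke xe7 ye10 ze1) (ke xe6 ye24 ze18) (ke xe6 ye3 ze12) (ke xe7 ye10 ze14) (ke xe6 ye3 ze18) (ke xe6 ye24 ze19) (ke xe6 ye24 ze20) (ke xe6 ye24 ze21) (ke xe6 ye24 ze22) (ke xe6 ye24 ze23) (ke xe6 ye24 ze24) (ke xe6 ye24 ze25) (ke xe6 ye24 ze26) (ke xe6 ye24 ze27) (ke xe7 ye10 ze33) (ke xe7 ye10 ze36) (ke xe2 ye16 ze23) (ke xe7 ye10 ze38) (ke xe6 ye24 ze32) (ke xe6 ye24 ze33) (ke xe6 ye24 ze34) (ke xe6 ye24 ze35) (ke xe6 ye24 ze36) (ke xe6 ye24 ze37) (ke xe7 ye11 ze9) (ke xe6 ye24 ze39) (ke xe6 ye25 ze0) (ke xe6 ye25 ze1) (ke xe6 ye25 ze2) (ke xe6 ye25 ze3) (ke xe6 ye25 ze4) (ke xe7 ye11 ze20) (ke xe6 ye25 ze6) (ke xe6 ye25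 ze7) (ke xe6 ye25 ze8) (ke xe6 ye25 ze9) (ke xe6 ye25 ze10) (ke xe7 ye11 ze30)) (@D3.rec (fun _ => Pt) (ke xe6 ye25 ze12) (ke xe6 ye25 ze13) (ke xe7 ye11 ze37) (ke xe2 ye16 ze34) (ke xe7 ye11 ze39) (ke xe6 ye25 ze17) (ke xe6 ye25 ze18) (ke xe7 ye12 ze5) (ke xe7 ye12 ze8) (ke xe2 ye16 ze37) (ke xe7 ye12 ze11) (ke xe2 ye16 ze39) (ke xe7 ye12 ze13) (ke xe6 ye25 ze25) (ke xe6 ye25 ze26) (ke xe6 ye25 ze27) (ke xe6 ye25 ze28) (ke xe6 ye25 ze29) (ke xe6 ye25 ze30) (ke xe6 ye25 ze32) (ke xe2 ye17 ze5) (ke xe7 ye12 ze25) (ke xe6 ye25 ze36) (ke xe6 ye25 ze37) (ke xe6 ye25 ze38) (ke xe6 ye25 ze39) (ke xe7 ye0 ze0) (ke xe7 ye0 ze1) (ke xe7 ye0 ze2) (ke xe7 ye12 ze38) (ke xe7 ye0 ze3) (ke xe7 ye0 ze4) (ke xe7 ye13 ze4) (ke xe2 ye17 ze12) (ke xe7 ye13 ze7) (ke xe7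 ye13 ze8) (ke xe7 ye0 ze8) (ke xe7 ye0 ze9) (ke xe7 ye0 ze10) (ke xe4 ye6 ze19)) (@D3.rec (fun _ => Pt) (ke xe2 ye17 ze15) (ke xe7 ye13 ze15) (ke xe2 ye17 ze17) (ke xe7 ye13 ze16) (ke xe7 ye0 ze16) (ke xe7 ye0 ze17) (ke xe7 ye0 ze18) (ke xe7 ye0 ze19) (ke xe7 ye0 ze20) (ke xe7 ye13 ze29) (ke xe7 ye0 ze22) (ke xe2 ye17 ze22) (ke xe7 ye13 ze33) (ke xe7 ye13 ze32) (ke xe2 ye17 ze24) (ke xe7 ye13 ze36) (ke xe7 ye13 ze37) (ke xe2 ye17 ze26) (ke xe2 ye17 ze27) (ke xe7 ye14 ze2) (ke xe7 ye14 ze3) (ke xe7 ye14 ze4) (ke xe7 ye14 ze5) (ke xe7 ye0 ze38) (ke xe6 ye3 ze21) (ke xe7 ye14 ze18) (ke xe6 ye3 ze27) (ke xe7 ye0 ze39) (ke xe7 ye1 ze0) (ke xe7 ye1 ze1) (ke xe7 ye1 ze2) (ke xe7 ye1 ze3) (ke xe7 ye1 ze4) (ke xe7 ye1 ze5) (ke xe7 ye1 ze6) (ke xe7 ye1 ze7) (ke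 xe7 ye14 ze36) (ke xe7 ye14 ze38) (ke xe2 ye17 ze34) (ke xe7 ye15 ze0)) (@D3.rec (fun _ => Pt) (ke xe7 ye1 ze12) (ke xe7 ye1 ze13) (ke xe7 ye1 ze14) (ke xe7 ye1 ze15) (ke xe7 ye1 ze16) (ke xe7 ye1 ze17) (ke xe7 ye15 ze11) (ke xe7 ye1 ze19) (ke xe7 ye1 ze20) (ke xe7 ye1 ze21) (ke xe7 ye1 ze22) (ke xe7 ye1 ze23) (ke xe7 ye1 ze24) (ke xe7 ye15 ze21) (ke xe7 ye1 ze26) (ke xe7 ye1 ze27) (ke xe7 ye1 ze28) (ke xe7 ye1 ze29) (ke xe7 ye1 ze30) (ke xe7 ye15 ze30) (ke xe7 ye1 ze32) (ke xe7 ye1 ze33) (ke xe2 ye18 ze5) (ke xe7 ye15 ze36) (ke xe7 ye1 ze37) (ke xe7 ye1 ze38) (ke xe7 ye16 ze1) (ke xe2 ye18 ze8) (ke xe7 ye16 ze5) (ke xe2 ye18 ze10) (ke xe7 ye16 ze7) (ke xe7 ye2 ze5) (ke xe7 ye2 ze6) (ke xe7 ye2 ze7) (ke xe7 ye2 ze8) (ke xe2 ye18 ze14) (ke xe2 ye18 ze15)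 (ke xe7 ye16 ze15) (ke xe7 ye16 ze16) (ke xe7 ye2 ze14)) (@D3.rec (fun _ => Pt) (ke xe7 ye2 ze15) (ke xe7 ye2 ze16) (ke xe6 ye3 ze9) (ke xe7 ye16 ze24) (ke xe6 ye3 ze11) (ke xe7 ye16 ze25) (ke xe2 ye18 ze19) (ke xe7 ye16 ze26) (ke xe6 ye3 ze17) (ke xe7 ye2 ze17) (ke xe7 ye2 ze18) (ke xe7 ye16 ze35) (ke xe7 ye2 ze20) (ke xe7 ye17 ze0) (ke xe7 ye2 ze22) (ke xe7 ye2 ze23) (ke xe7 ye17 ze6) (ke xe2 ye18 ze25) (ke xe7 ye2 ze26) (ke xe7 ye17 ze11) (ke xe7 ye2 ze28) (ke xe7 ye2 ze29) (ke xe7 ye17 ze17) (ke xe2 ye18 ze27) (ke xe7 ye17 ze19) (ke xe7 ye17 ze20) (ke xe7 ye2 ze34) (ke xe7 ye2 ze35) (ke xe7 ye17 ze25) (ke xe2 ye18 ze31) (ke xe7 ye17 ze29) (ke xe7 ye17 ze30) (ke xe4 ye17 ze7) (ke xe2 ye18 ze34) (ke xe2 ye18 ze35) (ke xe7 ye17 ze33) (ke xe7 ye17 ze34)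 (ke xe7 ye3 ze5) (ke xe7 ye3 ze6) (ke xe7 ye3 ze7)) (@D3.rec (fun _ => Pt) (ke xe6 ye3 ze19) (ke xe7 ye18 ze2) (ke xe6 ye3 ze22) (ke xe7 ye18 ze3) (ke xe2 ye18 ze39) (ke xe7 ye18 ze4) (ke xe6 ye3 ze28) (ke xe7 ye3 ze8) (ke xe7 ye3 ze9) (ke xe7 ye18 ze13) (ke xe7 ye3 ze11) (ke xe7 ye18 ze18) (ke xe7 ye3 ze13) (ke xe7 ye3 ze14) (ke xe7 ye18 ze24) (ke xe2 ye19 ze5) (ke xe7 ye3 ze17) (ke xe7 ye18 ze29) (ke xe7 ye3 ze19) (ke xe7 ye3 ze20) (ke xe7 ye18 ze35) (ke xe2 ye19 ze7) (ke xe7 ye18 ze37) (ke xe7 ye18 ze38) (ke xe7 ye3 ze25) (ke xe7 ye3 ze26) (ke xe7 ye19 ze3) (ke xe2 ye19 ze11) (ke xe7 ye19 ze7) (ke xe7 ye19 ze8) (ke xe4 ye17 ze36) (ke xe2 ye19 ze13) (ke xe2 ye23 ze13) (ke xe4 ye17 ze22) (ke xe3 ye5 ze7) (ke xe3 ye21 ze38) (ke xe7 ye19 ze14) (ke xe7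 ye19 ze17) (ke xe2 ye19 ze17) (ke xe2 ye20 ze24)) (@D3.rec (fun _ => Pt) (ke xe3 ye23 ze4) (ke xe7 ye19 ze24) (ke xe2 ye20 ze22) (ke xe7 ye19 ze27) (ke xe2 ye19 ze22) (ke xe7 ye19 ze31) (ke xe7 ye19 ze32) (ke xe4 ye15 ze32) (ke xe7 ye19 ze36) (ke xe7 ye19 ze39) (ke xe2 ye19 ze24) (ke xe2 ye20 ze6) (ke xe4 ye17 ze39) (ke xe7 ye20 ze5) (ke xe2 ye19 ze25) (ke xe7 ye20 ze9) (ke xe7 ye20 ze10) (ke xe7 ye20 ze8) (ke xe2 ye19 ze27) (ke xe2 ye20 ze2) (ke xe2 ye19 ze30) (ke xe2 ye19 ze31) (ke xe4 ye16 ze33) (ke xe3 ye5 ze29) (ke xe3 ye21 ze8) (ke xe7 ye20 ze18) (ke xe7 ye20 ze21) (ke xe2 ye19 ze35) (ke xe2 ye20 ze36) (ke xe3 ye24 ze10) (ke xe7 ye20 ze28) (ke xe2 ye20 ze34) (ke xe7 ye20 ze31) (ke xe2 ye20 ze0) (ke xe7 ye20 ze35) (ke xe7 ye20 ze36) (ke xe4 ye16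 ze30) (ke xe7 ye20 ze14) (ke xe7 ye21 ze2) (ke xe4 ye17 ze12)) (@D3.rec (fun _ => Pt) (ke xe7 ye21 ze6) (ke xe2 ye20 ze3) (ke xe7 ye21 ze10) (ke xe7 ye21 ze11) (ke xe7 ye21 ze9) (ke xe2 ye20 ze8) (ke xe2 ye20 ze13) (ke xe2 ye20 ze16) (ke xe2 ye20 ze18) (ke xe2 ye20 ze19) (ke xe2 ye20 ze20) (ke xe7 ye21 ze22) (ke xe7 ye21 ze13) (ke xe7 ye21 ze14) (ke xe2 ye20 ze29) (ke xe4 ye18 ze35) (ke xe7 ye21 ze15) (ke xe7 ye21 ze16) (ke xe2 ye20 ze27) (ke xe7 ye21 ze17) (ke xe7 ye21 ze18) (ke xe7 ye22 ze1) (ke xe7 ye21 ze20) (ke xe7 ye21 ze21) (ke xe2 ye25 ze13) (ke xe7 ye19 ze26) (ke xe2 ye20 ze23) (ke xe7 ye22 ze10) (ke xe7 ye19 ze18) (ke xe2 ye20 ze30) (ke xe2 ye20 ze31) (ke xe2 ye20 ze32) (ke xe7 ye22 ze17) (ke xe7 ye21 ze34) (ke xe7 ye21 ze25) (ke xe4 ye18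 ze15) (ke xe7 ye21 ze26) (ke xe7 ye21 ze27) (ke xe7 ye21 ze30) (ke xe7 ye22 ze13)) (@D3.rec (fun _ => Pt) (ke xe7 ye22 ze31) (ke xe7 ye22 ze15) (ke xe7 ye22 ze16) (ke xe2 ye25 ze23) (ke xe7 ye20 ze30) (ke xe2 ye20 ze35) (ke xe7 ye23 ze0) (ke xe7 ye20 ze22) (ke xe2 ye21 ze2) (ke xe2 ye21 ze3) (ke xe2 ye21 ze7) (ke xe2 ye21 ze8) (ke xe5 ye13 ze27) (ke xe5 ye13 ze28) (ke xe5 ye13 ze32) (ke xe5 ye13 ze33) (ke xe5 ye13 ze34) (ke xe5 ye13 ze35) (ke xe7 ye23 ze3) (ke xe7 ye23 ze4) (ke xe2 ye21 ze26) (ke xe2 ye21 ze27) (ke xe2 ye25 ze27) (ke xe2 ye21 ze28) (ke xe2 ye21 ze29) (ke xe2 ye25 ze30) (ke xe2 ye25 ze31) (ke xe2 ye21 ze30) (ke xe2 ye21 ze31) (ke xe2 ye25 ze34) (ke xe2 ye25 ze35) (ke xe2 ye25 ze36) (ke xe2 ye25 ze37) (ke xe2 ye25 ze38) (ke xe2 ye25 ze39)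 (ke xe2 ye21 ze32) (ke xe2 ye21 ze33) (ke xe2 ye21 ze34) (ke xe2 ye21 ze35) (ke xe2 ye21 ze36)) (@D3.rec (fun _ => Pt) (ke xe2 ye21 ze37) (ke xe3 ye0 ze8) (ke xe3 ye0 ze9) (ke xe3 ye0 ze10) (ke xe3 ye0 ze12) (ke xe3 ye0 ze13) (ke xe3 ye0 ze14) (ke xe2 ye21 ze39) (ke xe2 ye22 ze0) (ke xe2 ye22 ze2) (ke xe2 ye22 ze3) (ke xe7 ye23 ze12) (ke xe7 ye23 ze13) (ke xe7 ye23 ze16) (ke xe7 ye23 ze17) (ke xe7 ye23 ze20) (ke xe7 ye23 ze21) (ke xe7 ye23 ze22) (ke xe7 ye23 ze23) (ke xe6 ye24 ze6) (ke xe7 ye23 ze34) (ke xe7 ye23 ze35) (ke xe7 ye23 ze36) (ke xe7 ye23 ze37) (ke xe7 ye0 ze27) (ke xe7 ye23 ze38) (ke xe7 ye23 ze39) (ke xe7 ye24 ze0) (ke xe7 ye24 ze1) (ke xe6 ye19 ze37) (ke xe6 ye20 ze0) (ke xe7 ye24 ze8) (ke xe7 ye24 ze9) (ke xe6 ye20 ze25) (ke xe6 ye20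 ze28) (ke xe7 ye24 ze10) (ke xe7 ye24 ze11) (ke xe2 ye22 ze13) (ke xe2 ye22 ze15) (ke xe2 ye22 ze17)) (@D3.rec (fun _ => Pt) (ke xe2 ye22 ze18) (ke xe2 ye22 ze19) (ke xe2 ye22 ze20) (ke xe2 ye22 ze21) (ke xe2 ye22 ze22) (ke xe7 ye25 ze38) (ke xe7 ye25 ze39) (ke xe2 ye22 ze35) (ke xe2 ye22 ze37) (ke xe7 ye25 ze20) (ke xe7 ye25 ze21) (ke xe7 ye25 ze22) (ke xe7 ye25 ze23) (ke xe7 ye25 ze24) (ke xe7 ye25 ze25) (ke xe7 ye25 ze26) (ke xe7 ye25 ze27) (ke xe7 ye25 ze28) (ke xe8 ye0 ze16) (ke xe7 ye25 ze30) (ke xe7 ye25 ze31) (ke xe7 ye25 ze32) (ke xe7 ye25 ze33) (ke xe7 ye25 ze34) (ke xe8 ye0 ze24) (ke xe7 ye25 ze36) (ke xe7 ye25 ze37) (ke xe2 ye22 ze23) (ke xe2 ye22 ze24) (ke xe2 ye23 ze14) (ke xe2 ye23 ze15) (ke xe6 ye7 ze38) (ke xe3 ye20 ze9) (ke xe6 ye8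 ze37) (ke xe3 ye19 ze21) (ke xe2 ye23 ze32) (ke xe2 ye23 ze33) (ke xe2 ye23 ze34) (ke xe2 ye23 ze35) (ke xe2 ye23 ze36)) (@D3.rec (fun _ => Pt) (ke xe2 ye23 ze37) (ke xe2 ye23 ze38) (ke xe2 ye23 ze39) (ke xe8 ye0 ze0) (ke xe8 ye0 ze1) (ke xe8 ye0 ze2) (ke xe4 ye9 ze29) (ke xe8 ye0 ze3) (ke xe8 ye0 ze4) (ke xe8 ye0 ze5) (ke xe4 ye8 ze34) (ke xe2 ye24 ze12) (ke xe2 ye24 ze13) (ke xe2 ye24 ze14) (ke xe8 ye1 ze33) (ke xe2 ye24 ze16) (ke xe2 ye24 ze17) (ke xe2 ye24 ze18) (ke xe2 ye24 ze19) (ke xe2 ye24 ze20) (ke xe2 ye24 ze21) (ke xe2 ye24 ze22) (ke xe2 ye24 ze23) (ke xe2 ye24 ze24) (ke xe8 ye2 ze12) (ke xe2 ye24 ze26) (ke xe2 ye24 ze27) (ke xe2 ye24 ze28) (ke xe2 ye24 ze29) (ke xe2 ye24 ze30) (ke xe2 ye24 ze31) (ke xe2 ye23 ze7) (ke xe8 ye2 ze26) (ke xe2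 ye24 ze37) (ke xe8 ye2 ze30) (ke xe2 ye23 ze10) (ke xe8 ye2 ze31) (ke xe2 ye25 ze4) (ke xe8 ye2 ze35) (ke xe8 ye0 ze28)) (@D3.rec (fun _ => Pt) (ke xe8 ye0 ze29) (ke xe2 ye23 ze16) (ke xe2 ye23 ze22) (ke xe8 ye2 ze37) (ke xe8 ye2 ze38) (ke xe5 ye14 ze38) (ke xe2 ye23 ze24) (ke xe2 ye23 ze25) (ke xe8 ye3 ze1) (ke xe6 ye10 ze20) (ke xe8 ye3 ze2) (ke xe6 ye9 ze12) (ke xe2 ye23 ze28) (ke xe2 ye23 ze30) (ke xe3 ye22 ze5) (ke xe3 ye22 ze4) (ke xe8 ye3 ze3) (ke xe6 ye10 ze22) (ke xe3 ye23 ze11) (ke xe3 ye23 ze10) (ke xe8 ye3 ze4) (ke xe6 ye9 ze14) (ke xe8 ye0 ze38) (ke xe8 ye0 ze39) (ke xe8 ye1 ze1) (ke xe8 ye1 ze2) (ke xe8 ye1 ze3) (ke xe8 ye1 ze4) (ke xe8 ye1 ze5) (ke xe8 ye1 ze6) (ke xe8 ye1 ze7) (ke xe8 ye1 ze9) (ke xe8 ye1 ze10) (ke xe8 ye1 ze11) (ke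 xe8 ye1 ze12) (ke xe8 ye1 ze13) (ke xe2 ye24 ze4) (ke xe2 ye24 ze5) (ke xe2 ye24 ze6) (ke xe2 ye24 ze7)) (@D3.rec (fun _ => Pt) (ke xe2 ye24 ze8) (ke xe2 ye24 ze9) (ke xe2 ye24 ze10) (ke xe2 ye24 ze11) (ke xe8 ye3 ze33) (ke xe6 ye11 ze32) (ke xe8 ye3 ze34) (ke xe6 ye11 ze28) (ke xe6 ye5 ze23) (ke xe6 ye5 ze21) (ke xe8 ye3 ze35) (ke xe8 ye3 ze36) (ke xe6 ye13 ze27) (ke xe8 ye3 ze37) (ke xe6 ye13 ze24) (ke xe6 ye4 ze32) (ke xe6 ye4 ze30) (ke xe8 ye3 ze38) (ke xe8 ye1 ze28) (ke xe8 ye1 ze29) (ke xe8 ye4 ze17) (ke xe8 ye1 ze31) (ke xe8 ye1 ze32) (ke xe2 ye24 ze15) (ke xe8 ye4 ze22) (ke xe8 ye1 ze35) (ke xe8 ye1 ze36) (ke xe8 ye1 ze37) (ke xe8 ye1 ze38) (ke xe8 ye1 ze39) (ke xe8 ye2 ze0) (ke xe8 ye2 ze1) (ke xe8 ye2 ze2) (ke xe8 ye2 ze3) (ke xe8 ye5 ze0)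 (ke xe8 ye2 ze5) (ke xe8 ye2 ze6) (ke xe8 ye2 ze7) (ke xe8 ye2 ze8) (ke xe8 ye5 ze6)) (@D3.rec (fun _ => Pt) (ke xe8 ye2 ze10) (ke xe8 ye2 ze11) (ke xe2 ye24 ze25) (ke xe8 ye5 ze11) (ke xe8 ye2 ze14) (ke xe8 ye2 ze15) (ke xe8 ye2 ze16) (ke xe8 ye2 ze17) (ke xe8 ye2 ze18) (ke xe8 ye2 ze19) (ke xe8 ye2 ze20) (ke xe8 ye2 ze21) (ke xe8 ye2 ze22) (ke xe8 ye5 ze29) (ke xe8 ye2 ze24) (ke xe8 ye2 ze25) (ke xe5 ye3 ze37) (ke xe5 ye3 ze39) (ke xe2 ye24 ze33) (ke xe8 ye5 ze34) (ke xe2 ye24 ze34) (ke xe8 ye5 ze36) (ke xe2 ye24 ze36) (ke xe8 ye5 ze37) (ke xe8 ye2 ze28) (ke xe8 ye2 ze29) (ke xe2 ye24 ze38) (ke xe5 ye4 ze7) (ke xe5 ye4 ze9) (ke xe2 ye25 ze0) (ke xe8 ye6 ze3) (ke xe2 ye25 ze1) (ke xe8 ye6 ze5) (ke xe2 ye25 ze3) (ke xe8 ye6 ze6) (ke xe8 ye2 ze33) (ke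 xe8 ye2 ze34) (ke xe2 ye25 ze5) (ke xe2 ye25 ze6) (ke xe2 ye25 ze8))
def f_e_5 : D2 → D3 → Pt := @D2.rec (fun _ => D3 → Pt) (@D3.rec (fun _ => Pt) (ke xe3 ye11 ze14) (ke xe2 ye25 ze11) (ke xe8 ye6 ze12) (ke xe7 ye22 ze6) (ke xe8 ye6 ze17) (ke xe2 ye25 ze14) (ke xe2 ye25 ze16) (ke xe2 ye25 ze18) (ke xe3 ye11 ze24) (ke xe2 ye25 ze21) (ke xe8 ye6 ze21) (ke xe7 ye22 ze36) (ke xe8 ye6 ze26) (ke xe2 ye25 ze24) (ke xe7 ye23 ze11) (ke xe3 ye1 ze32) (ke xe3 ye1 ze33) (ke xe7 ye23 ze14) (ke xe7 ye23 ze15) (ke xe3 ye1 ze34) (ke xe3 ye1 ze35) (ke xe3 ye1 ze36) (ke xe3 ye1 ze37) (ke xe7 ye23 ze18) (ke xe7 ye23 ze19) (ke xe3 ye1 ze38) (ke xe3 ye1 ze39) (ke xe3 ye2 ze0) (ke xe3 ye2 ze1) (ke xe3 ye2 ze2) (ke xe3 ye2 ze3) (ke xe7 ye23 ze24) (ke xe7 ye23 ze25) (ke xe7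 ye23 ze26) (ke xe7 ye23 ze27) (ke xe7 ye23 ze28) (ke xe7 ye23 ze29) (ke xe7 ye23 ze30) (ke xe7 ye23 ze31) (ke xe7 ye23 ze32)) (@D3.rec (fun _ => Pt) (ke xe7 ye23 ze33) (ke xe3 ye2 ze4) (ke xe3 ye2 ze5) (ke xe8 ye8 ze2) (ke xe3 ye2 ze7) (ke xe3 ye2 ze8) (ke xe3 ye2 ze9) (ke xe3 ye2 ze10) (ke xe3 ye2 ze11) (ke xe3 ye2 ze12) (ke xe3 ye2 ze13) (ke xe8 ye8 ze18) (ke xe3 ye2 ze15) (ke xe3 ye2 ze16) (ke xe3 ye2 ze17) (ke xe3 ye2 ze18) (ke xe3 ye2 ze19) (ke xe6 ye19 ze39) (ke xe7 ye24 ze2) (ke xe7 ye24 ze3) (ke xe5 ye1 ze32) (ke xe7 ye24 ze4) (ke xe5 ye1 ze30) (ke xe5 ye1 ze31) (ke xe5 ye1 ze28) (ke xe6 ye20 ze27) (ke xe7 ye24 ze5) (ke xe7 ye24 ze6) (ke xe5 ye1 ze24) (ke xe7 ye24 ze7) (ke xe5 ye1 ze22) (ke xe5 ye1 ze23) (ke xe5 ye1 ze20) (ke xe3 ye2 ze20) (ke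 xe3 ye2 ze21) (ke xe3 ye2 ze22) (ke xe3 ye2 ze23) (ke xe3 ye2 ze24) (ke xe8 ye9 ze26) (ke xe3 ye2 ze26)) (@D3.rec (fun _ => Pt) (ke xe3 ye2 ze27) (ke xe3 ye0 ze19) (ke xe8 ye9 ze32) (ke xe3 ye2 ze30) (ke xe3 ye2 ze31) (ke xe3 ye2 ze32) (ke xe3 ye2 ze33) (ke xe3 ye2 ze34) (ke xe3 ye2 ze35) (ke xe3 ye2 ze36) (ke xe3 ye2 ze37) (ke xe3 ye2 ze38) (ke xe8 ye10 ze15) (ke xe3 ye3 ze0) (ke xe3 ye3 ze1) (ke xe3 ye3 ze2) (ke xe3 ye3 ze3) (ke xe3 ye3 ze4) (ke xe3 ye3 ze5) (ke xe3 ye3 ze6) (ke xe8 ye10 ze31) (ke xe3 ye3 ze8) (ke xe3 ye3 ze9) (ke xe3 ye0 ze29) (ke xe8 ye10 ze37) (ke xe3 ye3 ze12) (ke xe3 ye3 ze13) (ke xe3 ye3 ze14) (ke xe3 ye3 ze15) (ke xe3 ye3 ze16) (ke xe3 ye3 ze17) (ke xe3 ye3 ze18) (ke xe3 ye3 ze19) (ke xe3 ye3 ze20) (ke xe8 ye11 ze20) (ke xe3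 ye3 ze22) (ke xe3 ye3 ze23) (ke xe3 ye3 ze24) (ke xe7 ye6 ze8) (ke xe3 ye3 ze26)) (@D3.rec (fun _ => Pt) (ke xe8 ye11 ze29) (ke xe3 ye3 ze28) (ke xe3 ye3 ze29) (ke xe3 ye0 ze38) (ke xe3 ye1 ze0) (ke xe8 ye11 ze34) (ke xe8 ye11 ze35) (ke xe3 ye3 ze37) (ke xe3 ye3 ze38) (ke xe3 ye3 ze39) (ke xe3 ye4 ze0) (ke xe3 ye4 ze1) (ke xe8 ye12 ze12) (ke xe3 ye4 ze3) (ke xe8 ye12 ze17) (ke xe8 ye12 ze19) (ke xe3 ye1 ze6) (ke xe3 ye4 ze7) (ke xe7 ye7 ze13) (ke xe3 ye4 ze9) (ke xe8 ye12 ze26) (ke xe3 ye4 ze11) (ke xe3 ye4 ze12) (ke xe3 ye1 ze9) (ke xe3 ye1 ze11) (ke xe8 ye12 ze31) (ke xe8 ye12 ze32) (ke xe3 ye4 ze20) (ke xe3 ye4 ze21) (ke xe3 ye4 ze22) (ke xe3 ye4 ze23) (ke xe3 ye4 ze24) (ke xe8 ye13 ze9) (ke xe3 ye4 ze26) (ke xe8 ye13 ze14) (ke xe8 ye13 ze16) (ke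 xe3 ye1 ze17) (ke xe4 ye25 ze16) (ke xe6 ye23 ze12) (ke xe4 ye25 ze17)) (@D3.rec (fun _ => Pt) (ke xe3 ye1 ze19) (ke xe3 ye1 ze30) (ke xe4 ye6 ze11) (ke xe4 ye6 ze12) (ke xe5 ye18 ze22) (ke xe5 ye18 ze23) (ke xe8 ye13 ze30) (ke xe4 ye25 ze27) (ke xe6 ye25 ze35) (ke xe4 ye25 ze28) (ke xe3 ye1 ze25) (ke xe3 ye1 ze31) (ke xe4 ye6 ze14) (ke xe4 ye6 ze15) (ke xe5 ye18 ze25) (ke xe5 ye18 ze26) (ke xe8 ye14 ze3) (ke xe8 ye6 ze31) (ke xe8 ye6 ze32) (ke xe8 ye6 ze37) (ke xe8 ye6 ze38) (ke xe8 ye6 ze39) (ke xe8 ye7 ze0) (ke xe8 ye7 ze1) (ke xe8 ye7 ze2) (ke xe8 ye7 ze3) (ke xe8 ye7 ze4) (ke xe8 ye7 ze11) (ke xe8 ye7 ze12) (ke xe8 ye7 ze13) (ke xe8 ye7 ze14) (ke xe8 ye7 ze15) (ke xe8 ye7 ze16) (ke xe8 ye7 ze17) (ke xe8 ye7 ze18) (ke xe8 ye7 ze19) (ke xe8 ye7 ze20)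 (ke xe8 ye7 ze37) (ke xe8 ye7 ze38) (ke xe8 ye7 ze39)) (@D3.rec (fun _ => Pt) (ke xe8 ye8 ze0) (ke xe3 ye2 ze6) (ke xe8 ye14 ze37) (ke xe8 ye8 ze4) (ke xe8 ye8 ze5) (ke xe8 ye8 ze6) (ke xe8 ye8 ze7) (ke xe8 ye8 ze8) (ke xe8 ye8 ze9) (ke xe8 ye8 ze10) (ke xe6 ye7 ze12) (ke xe8 ye8 ze11) (ke xe8 ye8 ze12) (ke xe8 ye8 ze13) (ke xe8 ye8 ze14) (ke xe8 ye8 ze15) (ke xe8 ye8 ze16) (ke xe3 ye2 ze14) (ke xe8 ye15 ze13) (ke xe8 ye8 ze20) (ke xe8 ye8 ze21) (ke xe8 ye8 ze22) (ke xe8 ye8 ze23) (ke xe8 ye8 ze24) (ke xe8 ye8 ze25) (ke xe8 ye8 ze26) (ke xe6 ye6 ze19) (ke xe8 ye8 ze27) (ke xe8 ye8 ze28) (ke xe8 ye9 ze13) (ke xe8 ye9 ze14) (ke xe8 ye9 ze15) (ke xe8 ye9 ze16) (ke xe8 ye15 ze33) (ke xe8 ye9 ze18) (ke xe8 ye9 ze19) (ke xe8 ye9 ze20) (ke xe8 ye9 ze21) (ke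 xe8 ye9 ze22) (ke xe8 ye16 ze3)) (@D3.rec (fun _ => Pt) (ke xe8 ye9 ze24) (ke xe8 ye9 ze25) (ke xe3 ye2 ze25) (ke xe8 ye16 ze8) (ke xe8 ye9 ze28) (ke xe8 ye9 ze29) (ke xe8 ye9 ze30) (ke xe8 ye9 ze31) (ke xe3 ye2 ze29) (ke xe8 ye16 ze18) (ke xe8 ye16 ze19) (ke xe8 ye9 ze35) (ke xe8 ye9 ze36) (ke xe8 ye9 ze37) (ke xe8 ye9 ze38) (ke xe8 ye9 ze39) (ke xe8 ye10 ze0) (ke xe8 ye11 ze5) (ke xe8 ye10 ze2) (ke xe8 ye10 ze3) (ke xe8 ye10 ze4) (ke xe8 ye10 ze5) (ke xe8 ye10 ze6) (ke xe8 ye10 ze7) (ke xe8 ye10 ze8) (ke xe8 ye10 ze9) (ke xe8 ye10 ze10) (ke xe8 ye10 ze11) (ke xe8 ye11 ze7) (ke xe8 ye10 ze13) (ke xe8 ye10 ze14) (ke xe3 ye2 ze39) (ke xe8 ye10 ze17) (ke xe8 ye10 ze18) (ke xe8 ye10 ze19) (ke xe8 ye10 ze20) (ke xe8 ye10 ze21) (ke xe8 ye17 ze20) (ke xe8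 ye10 ze23) (ke xe8 ye10 ze24)) (@D3.rec (fun _ => Pt) (ke xe8 ye10 ze25) (ke xe8 ye10 ze26) (ke xe8 ye10 ze27) (ke xe8 ye17 ze29) (ke xe8 ye10 ze29) (ke xe8 ye10 ze30) (ke xe3 ye3 ze7) (ke xe8 ye17 ze34) (ke xe8 ye10 ze33) (ke xe8 ye10 ze34) (ke xe8 ye10 ze35) (ke xe8 ye10 ze36) (ke xe3 ye3 ze11) (ke xe8 ye18 ze3) (ke xe8 ye18 ze4) (ke xe8 ye11 ze0) (ke xe8 ye11 ze1) (ke xe8 ye11 ze2) (ke xe8 ye11 ze3) (ke xe8 ye11 ze4) (ke xe8 ye11 ze8) (ke xe8 ye11 ze9) (ke xe8 ye11 ze10) (ke xe8 ye11 ze11) (ke xe8 ye11 ze12) (ke xe8 ye11 ze13) (ke xe8 ye11 ze14) (ke xe8 ye11 ze15) (ke xe8 ye11 ze16) (ke xe8 ye11 ze18) (ke xe8 ye11 ze19) (ke xe3 ye3 ze21) (ke xe8 ye11 ze22) (ke xe6 ye19 ze34) (ke xe7 ye6 ze9) (ke xe8 ye11 ze23) (ke xe8 ye11 ze24) (ke xe3 ye3 ze25)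 (ke xe8 ye19 ze1) (ke xe8 ye11 ze26)) (@D3.rec (fun _ => Pt) (ke xe8 ye11 ze27) (ke xe3 ye3 ze27) (ke xe8 ye19 ze3) (ke xe8 ye11 ze32) (ke xe8 ye11 ze33) (ke xe3 ye3 ze31) (ke xe8 ye19 ze6) (ke xe8 ye19 ze7) (ke xe5 ye10 ze4) (ke xe3 ye3 ze33) (ke xe8 ye19 ze12) (ke xe3 ye3 ze35) (ke xe3 ye3 ze36) (ke xe8 ye19 ze13) (ke xe8 ye19 ze14) (ke xe8 ye19 ze15) (ke xe8 ye19 ze16) (ke xe8 ye12 ze0) (ke xe8 ye12 ze1) (ke xe8 ye12 ze2) (ke xe8 ye19 ze24) (ke xe8 ye12 ze4) (ke xe8 ye12 ze5) (ke xe8 ye12 ze6) (ke xe8 ye12 ze7) (ke xe8 ye12 ze8) (ke xe8 ye12 ze9) (ke xe8 ye19 ze35) (ke xe8 ye19 ze37) (ke xe3 ye4 ze2) (ke xe8 ye12 ze13) (ke xe8 ye20 ze2) (ke xe8 ye12 ze15) (ke xe8 ye12 ze16) (ke xe3 ye4 ze4) (ke xe8 ye20 ze6) (ke xe3 ye4 ze5) (ke xe6 ye20 ze22) (ke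 xe7 ye7 ze14) (ke xe8 ye12 ze20)) (@D3.rec (fun _ => Pt) (ke xe8 ye12 ze21) (ke xe3 ye4 ze8) (ke xe8 ye20 ze15) (ke xe8 ye12 ze23) (ke xe8 ye12 ze24) (ke xe3 ye4 ze10) (ke xe8 ye20 ze17) (ke xe8 ye12 ze29) (ke xe8 ye12 ze30) (ke xe3 ye4 ze14) (ke xe8 ye20 ze21) (ke xe8 ye20 ze20) (ke xe5 ye11 ze1) (ke xe3 ye4 ze16) (ke xe8 ye20 ze26) (ke xe3 ye4 ze18) (ke xe3 ye4 ze19) (ke xe8 ye20 ze27) (ke xe8 ye20 ze28) (ke xe8 ye20 ze29) (ke xe8 ye20 ze30) (ke xe8 ye12 ze37) (ke xe8 ye12 ze38) (ke xe8 ye12 ze39) (ke xe8 ye20 ze38) (ke xe8 ye13 ze1) (ke xe8 ye13 ze2) (ke xe8 ye13 ze3) (ke xe8 ye13 ze4) (ke xe8 ye13 ze5) (ke xe8 ye13 ze6) (ke xe8 ye21 ze9) (ke xe8 ye21 ze11) (ke xe3 ye4 ze25) (ke xe8 ye13 ze10) (ke xe8 ye21 ze16) (ke xe8 ye13 ze12) (ke xe8 ye13 ze13)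 (ke xe3 ye4 ze27) (ke xe8 ye21 ze20)) (@D3.rec (fun _ => Pt) (ke xe3 ye4 ze28) (ke xe8 ye21 ze22) (ke xe3 ye4 ze30) (ke xe8 ye21 ze24) (ke xe5 ye8 ze8) (ke xe8 ye21 ze26) (ke xe8 ye21 ze27) (ke xe3 ye4 ze32) (ke xe5 ye11 ze17) (ke xe8 ye21 ze29) (ke xe3 ye4 ze33) (ke xe8 ye21 ze32) (ke xe3 ye4 ze36) (ke xe5 ye11 ze15) (ke xe3 ye5 ze17) (ke xe3 ye5 ze23) (ke xe3 ye4 ze39) (ke xe3 ye4 ze38) (ke xe8 ye21 ze37) (ke xe8 ye21 ze36) (ke xe3 ye5 ze1) (ke xe3 ye5 ze2) (ke xe5 ye11 ze9) (ke xe3 ye6 ze26) (ke xe5 ye11 ze6) (ke xe8 ye21 ze39) (ke xe3 ye5 ze6) (ke xe3 ye22 ze38) (ke xe8 ye22 ze4) (ke xe7 ye19 ze11) (ke xe8 ye22 ze9) (ke xe3 ye13 ze11) (ke xe8 ye22 ze14) (ke xe8 ye22 ze17) (ke xe3 ye5 ze9) (ke xe8 ye22 ze19) (ke xe8 ye22 ze20) (ke xe3 ye5 ze10) (ke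 xe8 ye22 ze22) (ke xe3 ye5 ze12)) (@D3.rec (fun _ => Pt) (ke xe8 ye22 ze24) (ke xe5 ye9 ze12) (ke xe8 ye22 ze26) (ke xe8 ye22 ze27) (ke xe3 ye5 ze14) (ke xe8 ye21 ze35) (ke xe5 ye10 ze24) (ke xe3 ye5 ze15) (ke xe8 ye22 ze31) (ke xe5 ye10 ze22) (ke xe3 ye5 ze21) (ke xe3 ye5 ze20) (ke xe8 ye22 ze34) (ke xe8 ye22 ze33) (ke xe3 ye5 ze24) (ke xe5 ye10 ze13) (ke xe3 ye6 ze3) (ke xe5 ye10 ze8) (ke xe8 ye22 ze35) (ke xe3 ye5 ze28) (ke xe3 ye24 ze4) (ke xe8 ye23 ze0) (ke xe7 ye20 ze15) (ke xe8 ye23 ze5) (ke xe3 ye13 ze20) (ke xe8 ye23 ze10) (ke xe8 ye23 ze13) (ke xe3 ye5 ze31) (ke xe8 ye23 ze15) (ke xe8 ye23 ze16) (ke xe3 ye5 ze32) (ke xe8 ye23 ze18) (ke xe3 ye5 ze34) (ke xe8 ye23 ze20) (ke xe3 ye5 ze36) (ke xe3 ye5 ze37) (ke xe8 ye23 ze23) (ke xe6 ye11 ze30)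 (ke xe3 ye6 ze1) (ke xe3 ye6 ze2)) (@D3.rec (fun _ => Pt) (ke xe8 ye23 ze28) (ke xe8 ye23 ze29) (ke xe3 ye6 ze25) (ke xe3 ye6 ze31) (ke xe6 ye12 ze12) (ke xe3 ye6 ze6) (ke xe3 ye6 ze7) (ke xe3 ye6 ze8) (ke xe3 ye22 ze32) (ke xe5 ye13 ze8) (ke xe5 ye13 ze7) (ke xe8 ye24 ze3) (ke xe5 ye13 ze5) (ke xe5 ye13 ze4) (ke xe8 ye24 ze7) (ke xe5 ye12 ze20) (ke xe8 ye24 ze12) (ke xe8 ye24 ze14) (ke xe3 ye6 ze11) (ke xe8 ye24 ze15) (ke xe5 ye12 ze15) (ke xe8 ye24 ze18) (ke xe3 ye6 ze13) (ke xe8 ye24 ze22) (ke xe8 ye24 ze23) (ke xe3 ye23 ze27) (ke xe3 ye6 ze15) (ke xe3 ye6 ze16) (ke xe8 ye24 ze28) (ke xe8 ye24 ze29) (ke xe8 ye24 ze31) (ke xe3 ye6 ze18) (ke xe8 ye24 ze33) (ke xe3 ye6 ze20) (ke xe3 ye6 ze21) (ke xe8 ye24 ze36) (ke xe6 ye13 ze28) (ke xe3 ye6 ze27) (ke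 xe8 ye23 ze34) (ke xe8 ye25 ze0)) (@D3.rec (fun _ => Pt) (ke xe6 ye14 ze6) (ke xe3 ye6 ze30) (ke xe3 ye6 ze32) (ke xe3 ye23 ze38) (ke xe5 ye12 ze13) (ke xe5 ye12 ze12) (ke xe8 ye25 ze10) (ke xe5 ye12 ze10) (ke xe5 ye12 ze9) (ke xe8 ye25 ze14) (ke xe5 ye13 ze13) (ke xe3 ye6 ze35) (ke xe8 ye25 ze17) (ke xe5 ye13 ze10) (ke xe8 ye25 ze20) (ke xe3 ye6 ze37) (ke xe8 ye25 ze24) (ke xe8 ye25 ze25) (ke xe3 ye22 ze21) (ke xe3 ye6 ze39) (ke xe3 ye7 ze0) (ke xe8 ye25 ze30) (ke xe8 ye25 ze31) (ke xe3 ye7 ze6) (ke xe3 ye7 ze7) (ke xe3 ye7 ze11) (ke xe3 ye7 ze12) (ke xe4 ye19 ze12) (ke xe4 ye19 ze13) (ke xe8 ye25 ze32) (ke xe8 ye25 ze33) (ke xe8 ye2 ze36) (ke xe4 ye19 ze14) (ke xe4 ye19 ze15) (ke xe4 ye19 ze16) (ke xe4 ye19 ze17) (ke xe8 ye25 ze34) (ke xe8 ye25 ze35)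 (ke xe3 ye7 ze31) (ke xe3 ye7 ze32)) (@D3.rec (fun _ => Pt) (ke xe3 ye7 ze36) (ke xe3 ye7 ze37) (ke xe3 ye16 ze19) (ke xe3 ye16 ze20) (ke xe3 ye16 ze21) (ke xe3 ye16 ze22) (ke xe3 ye8 ze8) (ke xe3 ye8 ze9) (ke xe3 ye8 ze10) (ke xe3 ye8 ze11) (ke xe3 ye8 ze12) (ke xe3 ye8 ze13) (ke xe3 ye7 ze24) (ke xe3 ye7 ze25) (ke xe4 ye7 ze22) (ke xe4 ye7 ze21) (ke xe9 ye0 ze28) (ke xe4 ye7 ze34) (ke xe4 ye7 ze33) (ke xe9 ye0 ze29) (ke xe3 ye8 ze22) (ke xe3 ye8 ze23) (ke xe3 ye8 ze24) (ke xe3 ye8 ze25) (ke xe3 ye8 ze26) (ke xe3 ye8 ze27) (ke xe3 ye7 ze34) (ke xe3 ye7 ze35) (ke xe9 ye0 ze8) (ke xe9 ye0 ze9) (ke xe7 ye4 ze12) (ke xe7 ye4 ze16) (ke xe7 ye4 ze14) (ke xe7 ye4 ze15) (ke xe9 ye0 ze10) (ke xe9 ye0 ze11) (ke xe9 ye0 ze12) (ke xe9 ye0 ze13) (ke xe4 ye23 ze5)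 (ke xe3 ye7 ze38)) (@D3.rec (fun _ => Pt) (ke xe9 ye1 ze17) (ke xe9 ye1 ze18) (ke xe3 ye8 ze0) (ke xe3 ye8 ze1) (ke xe9 ye1 ze21) (ke xe9 ye1 ze22) (ke xe3 ye8 ze4) (ke xe3 ye8 ze5) (ke xe3 ye8 ze6) (ke xe3 ye8 ze7) (ke xe9 ye1 ze25) (ke xe9 ye1 ze26) (ke xe9 ye1 ze27) (ke xe9 ye1 ze28) (ke xe9 ye0 ze20) (ke xe9 ye0 ze21) (ke xe9 ye0 ze22) (ke xe9 ye0 ze23) (ke xe9 ye0 ze24) (ke xe9 ye0 ze25) (ke xe9 ye0 ze26) (ke xe9 ye0 ze27) (ke xe3 ye8 ze16) (ke xe3 ye8 ze17) (ke xe3 ye8 ze18) (ke xe3 ye8 ze19) (ke xe3 ye8 ze20) (ke xe3 ye8 ze21) (ke xe9 ye2 ze15) (ke xe9 ye2 ze16) (ke xe9 ye2 ze17) (ke xe9 ye2 ze18) (ke xe9 ye2 ze19) (ke xe9 ye2 ze20) (ke xe9 ye2 ze21) (ke xe9 ye2 ze22) (ke xe9 ye2 ze23) (ke xe9 ye2 ze24) (ke xe9 ye1 ze0) (ke xe9 ye1 ze1)) (@D3.rec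 (fun _ => Pt) (ke xe9 ye1 ze2) (ke xe9 ye1 ze3) (ke xe9 ye1 ze4) (ke xe9 ye1 ze5) (ke xe9 ye1 ze6) (ke xe9 ye1 ze7) (ke xe3 ye10 ze2) (ke xe3 ye10 ze3) (ke xe3 ye10 ze4) (ke xe3 ye10 ze5) (ke xe3 ye10 ze6) (ke xe3 ye10 ze7) (ke xe3 ye10 ze16) (ke xe3 ye10 ze17) (ke xe9 ye3 ze17) (ke xe3 ye10 ze19) (ke xe3 ye10 ze20) (ke xe3 ye10 ze21) (ke xe3 ye10 ze22) (ke xe3 ye10 ze23) (ke xe3 ye10 ze24) (ke xe3 ye10 ze25) (ke xe9 ye3 ze33) (ke xe3 ye10 ze27) (ke xe3 ye10 ze28) (ke xe3 ye10 ze29) (ke xe3 ye10 ze30) (ke xe3 ye10 ze31) (ke xe3 ye9 ze4) (ke xe3 ye9 ze5) (ke xe3 ye9 ze8) (ke xe3 ye9 ze9) (ke xe4 ye8 ze6) (ke xe4 ye8 ze7) (ke xe9 ye4 ze11) (ke xe4 ye8 ze5) (ke xe9 ye4 ze5) (ke xe5 ye18 ze30) (ke xe4 ye9 ze24) (ke xe4 ye9 ze23)) (@D3.rec (fun _ => Pt)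 (ke xe6 ye5 ze28) (ke xe4 ye9 ze1) (ke xe4 ye9 ze2) (ke xe9 ye4 ze24) (ke xe4 ye9 ze0) (ke xe9 ye4 ze6) (ke xe5 ye18 ze31) (ke xe4 ye8 ze29) (ke xe4 ye8 ze28) (ke xe6 ye6 ze23) (ke xe3 ye11 ze28) (ke xe3 ye11 ze29) (ke xe3 ye11 ze30) (ke xe3 ye11 ze31) (ke xe3 ye11 ze32) (ke xe9 ye5 ze0) (ke xe3 ye11 ze34) (ke xe3 ye11 ze35) (ke xe9 ye5 ze6) (ke xe3 ye9 ze13) (ke xe9 ye5 ze8) (ke xe3 ye11 ze39) (ke xe3 ye12 ze0) (ke xe3 ye12 ze1) (ke xe3 ye12 ze2) (ke xe3 ye12 ze3) (ke xe3 ye12 ze4) (ke xe3 ye12 ze5) (ke xe3 ye12 ze6) (ke xe9 ye5 ze27) (ke xe3 ye12 ze8) (ke xe3 ye12 ze9) (ke xe3 ye12 ze10) (ke xe3 ye12 ze11) (ke xe3 ye12 ze12) (ke xe3 ye12 ze13) (ke xe3 ye12 ze14) (ke xe9 ye5 ze38) (ke xe3 ye12 ze16) (ke xe3 ye12 ze17)) (@D3.rec (fun _ => Pt) (ke xe9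 ye6 ze4) (ke xe3 ye9 ze23) (ke xe9 ye6 ze6) (ke xe3 ye12 ze21) (ke xe3 ye12 ze22) (ke xe3 ye12 ze23) (ke xe3 ye12 ze24) (ke xe3 ye12 ze25) (ke xe3 ye12 ze26) (ke xe3 ye12 ze27) (ke xe3 ye12 ze28) (ke xe9 ye6 ze25) (ke xe3 ye12 ze30) (ke xe3 ye12 ze31) (ke xe3 ye12 ze34) (ke xe9 ye6 ze33) (ke xe9 ye6 ze35) (ke xe3 ye9 ze32) (ke xe3 ye13 ze0) (ke xe9 ye7 ze0) (ke xe9 ye7 ze2) (ke xe3 ye9 ze35) (ke xe5 ye4 ze4) (ke xe5 ye4 ze5) (ke xe9 ye7 ze8) (ke xe5 ye4 ze14) (ke xe5 ye4 ze15) (ke xe9 ye7 ze13) (ke xe3 ye10 ze10) (ke xe3 ye10 ze14) (ke xe5 ye16 ze37) (ke xe5 ye17 ze6) (ke xe5 ye23 ze17) (ke xe5 ye19 ze1) (ke xe5 ye18 ze39) (ke xe5 ye19 ze0) (ke xe5 ye18 ze38) (ke xe5 ye23 ze30) (ke xe5 ye18 ze36) (ke xe5 ye18 ze34)) (@D3.rec (fun _ => Pt) (ke xe5 ye18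 ze35) (ke xe5 ye18 ze33) (ke xe9 ye3 ze13) (ke xe9 ye3 ze14) (ke xe9 ye7 ze31) (ke xe3 ye10 ze18) (ke xe9 ye7 ze32) (ke xe9 ye3 ze19) (ke xe9 ye3 ze20) (ke xe9 ye3 ze21) (ke xe9 ye3 ze22) (ke xe9 ye3 ze23) (ke xe9 ye3 ze24) (ke xe9 ye3 ze25) (ke xe9 ye8 ze8) (ke xe9 ye3 ze27) (ke xe9 ye3 ze28) (ke xe9 ye3 ze29) (ke xe9 ye3 ze30) (ke xe9 ye8 ze13) (ke xe3 ye10 ze26) (ke xe9 ye8 ze14) (ke xe9 ye3 ze35) (ke xe9 ye3 ze36) (ke xe9 ye3 ze37) (ke xe9 ye3 ze38) (ke xe9 ye3 ze39) (ke xe9 ye4 ze0) (ke xe9 ye4 ze1) (ke xe9 ye8 ze30) (ke xe9 ye4 ze3) (ke xe9 ye4 ze4) (ke xe3 ye10 ze36) (ke xe3 ye10 ze39) (ke xe5 ye19 ze35) (ke xe5 ye19 ze34) (ke xe5 ye19 ze37) (ke xe5 ye19 ze36) (ke xe3 ye11 ze10) (ke xe3 ye11 ze12)) (@D3.rec (fun _ => Pt) (ke xe3 ye11 ze13) (ke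 xe3 ye11 ze15) (ke xe3 ye11 ze16) (ke xe3 ye11 ze17) (ke xe3 ye11 ze20) (ke xe3 ye11 ze22) (ke xe3 ye11 ze23) (ke xe3 ye11 ze25) (ke xe3 ye11 ze26) (ke xe3 ye11 ze27) (ke xe5 ye23 ze22) (ke xe9 ye8 ze34) (ke xe3 ye11 ze11) (ke xe9 ye9 ze12) (ke xe7 ye20 ze33) (ke xe3 ye13 ze8) (ke xe9 ye8 ze35) (ke xe9 ye8 ze36) (ke xe9 ye8 ze37) (ke xe8 ye6 ze11) (ke xe9 ye8 ze38) (ke xe9 ye8 ze39) (ke xe9 ye9 ze0) (ke xe9 ye9 ze27) (ke xe9 ye9 ze1) (ke xe6 ye6 ze1) (ke xe5 ye23 ze35) (ke xe9 ye9 ze2) (ke xe3 ye11 ze21) (ke xe9 ye9 ze32) (ke xe7 ye19 ze28) (ke xe3 ye13 ze16) (ke xe9 ye9 ze3) (ke xe9 ye9 ze4) (ke xe9 ye9 ze5) (ke xe8 ye6 ze20) (ke xe9 ye9 ze6) (ke xe9 ye9 ze7) (ke xe9 ye9 ze8) (ke xe9 ye10 ze7)) (@D3.rec (fun _ => Pt) (ke xe9 ye9 ze9) (ke xe6 ye6 ze34)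 (ke xe9 ye4 ze33) (ke xe9 ye4 ze34) (ke xe9 ye4 ze35) (ke xe9 ye4 ze36) (ke xe9 ye4 ze37) (ke xe9 ye10 ze13) (ke xe3 ye11 ze33) (ke xe9 ye10 ze14) (ke xe9 ye5 ze2) (ke xe9 ye5 ze3) (ke xe9 ye5 ze4) (ke xe9 ye5 ze5) (ke xe3 ye11 ze36) (ke xe9 ye10 ze22) (ke xe3 ye11 ze38) (ke xe9 ye10 ze24) (ke xe9 ye5 ze10) (ke xe9 ye5 ze11) (ke xe9 ye5 ze12) (ke xe9 ye10 ze36) (ke xe9 ye5 ze14) (ke xe9 ye5 ze15) (ke xe9 ye5 ze16) (ke xe9 ye5 ze17) (ke xe9 ye5 ze18) (ke xe9 ye5 ze19) (ke xe9 ye5 ze20) (ke xe9 ye5 ze21) (ke xe9 ye5 ze22) (ke xe9 ye5 ze23) (ke xe9 ye11 ze13) (ke xe9 ye5 ze25) (ke xe9 ye4 ze31) (ke xe9 ye11 ze18) (ke xe3 ye12 ze7) (ke xe9 ye11 ze19) (ke xe9 ye5 ze29) (ke xe9 ye5 ze30)) (@D3.rec (fun _ => Pt) (ke xe9 ye5 ze31) (ke xe9 ye5 ze32) (ke xe9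 ye5 ze33) (ke xe9 ye5 ze34) (ke xe9 ye5 ze35) (ke xe9 ye11 ze27) (ke xe3 ye12 ze15) (ke xe9 ye11 ze28) (ke xe9 ye6 ze0) (ke xe9 ye6 ze1) (ke xe9 ye6 ze2) (ke xe9 ye6 ze3) (ke xe3 ye12 ze18) (ke xe9 ye11 ze35) (ke xe3 ye12 ze20) (ke xe9 ye11 ze37) (ke xe9 ye6 ze8) (ke xe9 ye6 ze9) (ke xe9 ye6 ze10) (ke xe9 ye12 ze9) (ke xe9 ye6 ze12) (ke xe9 ye6 ze13) (ke xe9 ye6 ze14) (ke xe9 ye6 ze15) (ke xe9 ye6 ze16) (ke xe9 ye6 ze17) (ke xe9 ye6 ze18) (ke xe9 ye6 ze19) (ke xe9 ye6 ze20) (ke xe9 ye6 ze21) (ke xe9 ye12 ze26) (ke xe9 ye6 ze23) (ke xe9 ye4 ze18) (ke xe9 ye12 ze31) (ke xe3 ye12 ze29) (ke xe9 ye12 ze32) (ke xe9 ye6 ze27) (ke xe9 ye6 ze28) (ke xe3 ye12 ze32) (ke xe3 ye21 ze1)) (@D3.rec (fun _ => Pt) (ke xe9 ye6 ze29) (ke xe9 ye13 ze2) (ke xe9 ye6 ze31)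 (ke xe9 ye6 ze32) (ke xe3 ye12 ze35) (ke xe9 ye13 ze6) (ke xe3 ye12 ze36) (ke xe3 ye12 ze38) (ke xe3 ye21 ze31) (ke xe9 ye6 ze36) (ke xe9 ye13 ze11) (ke xe9 ye6 ze38) (ke xe9 ye6 ze39) (ke xe3 ye13 ze1) (ke xe9 ye13 ze13) (ke xe3 ye13 ze2) (ke xe9 ye13 ze17) (ke xe5 ye18 ze32) (ke xe9 ye13 ze20) (ke xe3 ye13 ze5) (ke xe9 ye13 ze22) (ke xe9 ye13 ze23) (ke xe5 ye20 ze10) (ke xe3 ye13 ze10) (ke xe8 ye22 ze10) (ke xe9 ye13 ze29) (ke xe8 ye22 ze11) (ke xe7 ye22 ze8) (ke xe3 ye13 ze12) (ke xe9 ye13 ze34) (ke xe5 ye18 ze37) (ke xe9 ye13 ze37) (ke xe3 ye13 ze14) (ke xe9 ye13 ze39) (ke xe9 ye14 ze0) (ke xe5 ye20 ze26) (ke xe3 ye13 ze19) (ke xe8 ye23 ze6) (ke xe9 ye14 ze6) (ke xe7 ye22 ze39)) (@D3.rec (fun _ => Pt) (ke xe8 ye23 ze7) (ke xe3 ye13 ze21) (ke xe3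 ye16 ze17) (ke xe3 ye16 ze18) (ke xe3 ye25 ze16) (ke xe3 ye25 ze17) (ke xe3 ye25 ze18) (ke xe3 ye25 ze19) (ke xe3 ye16 ze23) (ke xe3 ye16 ze24) (ke xe3 ye16 ze25) (ke xe3 ye16 ze26) (ke xe3 ye25 ze28) (ke xe3 ye25 ze30) (ke xe3 ye25 ze31) (ke xe3 ye25 ze34) (ke xe3 ye25 ze35) (ke xe3 ye25 ze36) (ke xe3 ye25 ze37) (ke xe3 ye25 ze38) (ke xe3 ye25 ze39) (ke xe4 ye0 ze0) (ke xe4 ye0 ze1) (ke xe3 ye16 ze27) (ke xe3 ye16 ze28) (ke xe6 ye16 ze29) (ke xe3 ye16 ze29) (ke xe3 ye16 ze30) (ke xe3 ye16 ze31) (ke xe6 ye16 ze33) (ke xe3 ye16 ze32) (ke xe4 ye0 ze18) (ke xe4 ye0 ze19) (ke xe4 ye0 ze20) (ke xe4 ye0 ze21) (ke xe4 ye0 ze22) (ke xe4 ye0 ze23) (ke xe4 ye0 ze24) (ke xe4 ye0 ze25) (ke xe9 ye15 ze27)) (@D3.rec (fun _ => Pt) (ke xe4 ye0 ze27) (ke xe4 ye0 ze28)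 (ke xe4 ye0 ze29) (ke xe4 ye0 ze30) (ke xe4 ye0 ze31) (ke xe4 ye0 ze32) (ke xe4 ye0 ze33) (ke xe9 ye16 ze4) (ke xe4 ye0 ze35) (ke xe4 ye0 ze36) (ke xe4 ye0 ze37) (ke xe4 ye0 ze38) (ke xe4 ye0 ze39) (ke xe3 ye16 ze33) (ke xe3 ye16 ze34) (ke xe3 ye16 ze35) (ke xe3 ye16 ze36) (ke xe3 ye16 ze37) (ke xe9 ye16 ze27) (ke xe9 ye16 ze30) (ke xe3 ye14 ze15) (ke xe9 ye16 ze32) (ke xe3 ye17 ze2) (ke xe3 ye17 ze3) (ke xe3 ye17 ze4) (ke xe3 ye17 ze5) (ke xe3 ye17 ze6) (ke xe3 ye17 ze7) (ke xe3 ye17 ze8) (ke xe9 ye17 ze6) (ke xe3 ye17 ze10) (ke xe3 ye17 ze11) (ke xe3 ye17 ze12) (ke xe3 ye17 ze13) (ke xe3 ye17 ze14) (ke xe3 ye17 ze15) (ke xe3 ye17 ze16) (ke xe9 ye17 ze21) (ke xe9 ye17 ze24) (ke xe3 ye14 ze23))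
def f_e_6 : D2 → D3 → Pt := @D2.rec (fun _ => D3 → Pt) (@D3.rec (fun _ => Pt) (ke xe9 ye17 ze26) (ke xe3 ye17 ze21) (ke xe3 ye17 ze22) (ke xe3 ye17 ze23) (ke xe3 ye17 ze24) (ke xe3 ye17 ze25) (ke xe3 ye17 ze26) (ke xe3 ye17 ze27) (ke xe9 ye18 ze0) (ke xe3 ye17 ze29) (ke xe3 ye17 ze30) (ke xe4 ye1 ze34) (ke xe4 ye1 ze35) (ke xe4 ye1 ze36) (ke xe9 ye15 ze24) (ke xe4 ye1 ze38) (ke xe4 ye1 ze39) (ke xe9 ye18 ze12) (ke xe3 ye14 ze32) (ke xe9 ye18 ze14) (ke xe4 ye2 ze3) (ke xe4 ye2 ze4) (ke xe4 ye2 ze8) (ke xe4 ye2 ze15) (ke xe4 ye2 ze16) (ke xe4 ye2 ze17) (ke xe9 ye16 ze1) (ke xe4 ye2 ze19) (ke xe4 ye2 ze20) (ke xe9 ye18 ze31) (ke xe3 ye14 ze38) (ke xe9 ye18 ze33) (ke xe4 ye2 ze24) (ke xe4 ye2 ze25) (ke xe4 ye2 ze29) (ke xe3 ye17 ze31) (ke xe3 ye17 ze32)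 (ke xe3 ye17 ze33) (ke xe3 ye17 ze34) (ke xe3 ye17 ze35)) (@D3.rec (fun _ => Pt) (ke xe9 ye19 ze1) (ke xe3 ye17 ze37) (ke xe3 ye17 ze38) (ke xe9 ye19 ze6) (ke xe3 ye15 ze5) (ke xe9 ye19 ze8) (ke xe3 ye18 ze1) (ke xe3 ye18 ze2) (ke xe3 ye18 ze3) (ke xe3 ye18 ze4) (ke xe9 ye19 ze14) (ke xe3 ye15 ze8) (ke xe9 ye19 ze17) (ke xe3 ye15 ze10) (ke xe9 ye19 ze20) (ke xe9 ye19 ze21) (ke xe3 ye18 ze11) (ke xe3 ye18 ze12) (ke xe3 ye18 ze13) (ke xe3 ye18 ze14) (ke xe3 ye18 ze15) (ke xe3 ye18 ze16) (ke xe3 ye18 ze17) (ke xe3 ye18 ze18) (ke xe3 ye18 ze19) (ke xe3 ye18 ze20) (ke xe3 ye18 ze21) (ke xe9 ye19 ze34) (ke xe3 ye18 ze23) (ke xe3 ye18 ze24) (ke xe9 ye19 ze39) (ke xe3 ye15 ze18) (ke xe9 ye20 ze1) (ke xe3 ye18 ze27) (ke xe3 ye18 ze28) (ke xe3 ye18 ze29) (ke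 xe3 ye18 ze30) (ke xe9 ye20 ze7) (ke xe3 ye15 ze21) (ke xe9 ye20 ze10)) (@D3.rec (fun _ => Pt) (ke xe3 ye15 ze23) (ke xe9 ye20 ze13) (ke xe9 ye20 ze14) (ke xe3 ye18 ze37) (ke xe3 ye18 ze38) (ke xe3 ye18 ze39) (ke xe3 ye19 ze0) (ke xe3 ye19 ze1) (ke xe3 ye19 ze2) (ke xe3 ye19 ze3) (ke xe9 ye20 ze30) (ke xe3 ye19 ze5) (ke xe3 ye19 ze6) (ke xe9 ye20 ze36) (ke xe3 ye15 ze28) (ke xe9 ye20 ze39) (ke xe9 ye21 ze0) (ke xe3 ye19 ze11) (ke xe3 ye19 ze12) (ke xe3 ye19 ze13) (ke xe3 ye19 ze16) (ke xe3 ye19 ze17) (ke xe3 ye15 ze34) (ke xe9 ye21 ze10) (ke xe9 ye21 ze11) (ke xe9 ye21 ze12) (ke xe3 ye19 ze29) (ke xe3 ye19 ze30) (ke xe3 ye19 ze31) (ke xe3 ye19 ze32) (ke xe9 ye21 ze25) (ke xe3 ye19 ze34) (ke xe3 ye19 ze35) (ke xe9 ye21 ze31) (ke xe3 ye15 ze38) (ke xe9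 ye21 ze34) (ke xe9 ye21 ze35) (ke xe3 ye20 ze0) (ke xe3 ye20 ze1) (ke xe3 ye20 ze2)) (@D3.rec (fun _ => Pt) (ke xe3 ye20 ze5) (ke xe3 ye20 ze6) (ke xe3 ye16 ze4) (ke xe9 ye22 ze5) (ke xe9 ye22 ze6) (ke xe9 ye22 ze7) (ke xe3 ye20 ze17) (ke xe3 ye20 ze18) (ke xe3 ye20 ze19) (ke xe4 ye15 ze2) (ke xe9 ye22 ze20) (ke xe4 ye15 ze4) (ke xe4 ye11 ze4) (ke xe9 ye22 ze26) (ke xe3 ye16 ze8) (ke xe9 ye22 ze29) (ke xe9 ye22 ze30) (ke xe4 ye15 ze8) (ke xe4 ye11 ze6) (ke xe4 ye16 ze0) (ke xe9 ye22 ze38) (ke xe4 ye13 ze24) (ke xe4 ye16 ze2) (ke xe9 ye23 ze4) (ke xe3 ye16 ze13) (ke xe9 ye23 ze7) (ke xe9 ye23 ze8) (ke xe4 ye13 ze26) (ke xe4 ye16 ze6) (ke xe9 ye14 ze10) (ke xe9 ye14 ze11) (ke xe9 ye14 ze12) (ke xe9 ye14 ze13) (ke xe9 ye0 ze14) (ke xe9 ye0 ze15) (ke xe9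 ye0 ze16) (ke xe9 ye0 ze17) (ke xe9 ye0 ze18) (ke xe9 ye0 ze19) (ke xe9 ye14 ze20)) (@D3.rec (fun _ => Pt) (ke xe9 ye14 ze21) (ke xe9 ye14 ze22) (ke xe9 ye14 ze23) (ke xe9 ye15 ze9) (ke xe9 ye15 ze11) (ke xe9 ye16 ze15) (ke xe9 ye16 ze16) (ke xe9 ye23 ze23) (ke xe9 ye16 ze18) (ke xe9 ye16 ze19) (ke xe9 ye16 ze20) (ke xe9 ye16 ze21) (ke xe9 ye16 ze22) (ke xe9 ye23 ze31) (ke xe9 ye16 ze24) (ke xe9 ye16 ze25) (ke xe3 ye16 ze38) (ke xe3 ye16 ze39) (ke xe9 ye23 ze34) (ke xe3 ye17 ze1) (ke xe9 ye23 ze35) (ke xe9 ye16 ze34) (ke xe9 ye16 ze35) (ke xe9 ye16 ze36) (ke xe9 ye16 ze37) (ke xe9 ye16 ze38) (ke xe7 ye20 ze39) (ke xe9 ye17 ze0) (ke xe9 ye17 ze1) (ke xe9 ye17 ze2) (ke xe4 ye24 ze16) (ke xe9 ye17 ze4) (ke xe4 ye24 ze15) (ke xe3 ye17 ze9) (ke xe9 ye24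 ze15) (ke xe9 ye17 ze8) (ke xe9 ye17 ze9) (ke xe9 ye17 ze10) (ke xe9 ye24 ze20) (ke xe9 ye17 ze12)) (@D3.rec (fun _ => Pt) (ke xe9 ye17 ze13) (ke xe9 ye17 ze14) (ke xe9 ye17 ze15) (ke xe9 ye17 ze16) (ke xe9 ye24 ze28) (ke xe9 ye17 ze18) (ke xe9 ye17 ze19) (ke xe3 ye17 ze17) (ke xe3 ye17 ze18) (ke xe9 ye24 ze31) (ke xe3 ye17 ze20) (ke xe9 ye24 ze32) (ke xe9 ye17 ze28) (ke xe9 ye17 ze29) (ke xe9 ye17 ze30) (ke xe9 ye17 ze31) (ke xe9 ye17 ze32) (ke xe7 ye19 ze35) (ke xe9 ye17 ze34) (ke xe9 ye17 ze35) (ke xe9 ye17 ze36) (ke xe4 ye24 ze9) (ke xe9 ye17 ze38) (ke xe4 ye24 ze8) (ke xe3 ye17 ze28) (ke xe9 ye25 ze10) (ke xe9 ye18 ze2) (ke xe9 ye0 ze38) (ke xe5 ye17 ze0) (ke xe9 ye4 ze27) (ke xe3 ye17 ze36) (ke xe8 ye13 ze20) (ke xe9 ye19 ze4) (ke xe3 ye18 ze0)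 (ke xe9 ye25 ze15) (ke xe9 ye19 ze10) (ke xe9 ye19 ze11) (ke xe9 ye19 ze12) (ke xe9 ye19 ze13) (ke xe9 ye4 ze15)) (@D3.rec (fun _ => Pt) (ke xe9 ye4 ze14) (ke xe5 ye20 ze25) (ke xe9 ye4 ze13) (ke xe3 ye25 ze10) (ke xe3 ye18 ze5) (ke xe6 ye16 ze22) (ke xe4 ye6 ze20) (ke xe3 ye18 ze7) (ke xe9 ye25 ze27) (ke xe3 ye18 ze9) (ke xe3 ye18 ze10) (ke xe9 ye25 ze28) (ke xe9 ye25 ze29) (ke xe9 ye19 ze26) (ke xe9 ye19 ze27) (ke xe9 ye19 ze28) (ke xe9 ye19 ze29) (ke xe9 ye19 ze30) (ke xe9 ye19 ze31) (ke xe5 ye5 ze26) (ke xe9 ye19 ze32) (ke xe9 ye19 ze33) (ke xe9 ye0 ze33) (ke xe5 ye17 ze9) (ke xe3 ye18 ze22) (ke xe8 ye13 ze34) (ke xe9 ye19 ze37) (ke xe3 ye18 ze26) (ke xe10 ye0 ze9) (ke xe9 ye20 ze3) (ke xe9 ye20 ze4) (ke xe9 ye20 ze5) (ke xe9 ye20 ze6) (ke xe9 ye4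 ze28) (ke xe5 ye21 ze1) (ke xe9 ye4 ze26) (ke xe3 ye25 ze11) (ke xe3 ye18 ze31) (ke xe6 ye16 ze20) (ke xe4 ye6 ze21)) (@D3.rec (fun _ => Pt) (ke xe3 ye18 ze33) (ke xe10 ye0 ze21) (ke xe3 ye18 ze35) (ke xe3 ye18 ze36) (ke xe10 ye0 ze22) (ke xe10 ye0 ze23) (ke xe9 ye20 ze19) (ke xe9 ye20 ze20) (ke xe9 ye20 ze21) (ke xe9 ye20 ze22) (ke xe9 ye20 ze23) (ke xe9 ye20 ze24) (ke xe5 ye5 ze10) (ke xe9 ye20 ze25) (ke xe9 ye20 ze26) (ke xe9 ye20 ze28) (ke xe10 ye1 ze2) (ke xe3 ye19 ze4) (ke xe10 ye1 ze4) (ke xe10 ye1 ze5) (ke xe9 ye20 ze33) (ke xe9 ye20 ze34) (ke xe3 ye19 ze7) (ke xe10 ye1 ze10) (ke xe3 ye19 ze9) (ke xe3 ye19 ze10) (ke xe10 ye1 ze12) (ke xe10 ye1 ze13) (ke xe10 ye1 ze14) (ke xe9 ye21 ze3) (ke xe9 ye21 ze4) (ke xe9 ye21 ze5) (ke xe9 ye21 ze6) (ke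 xe3 ye19 ze15) (ke xe10 ye1 ze23) (ke xe9 ye21 ze7) (ke xe9 ye21 ze8) (ke xe9 ye21 ze9) (ke xe4 ye21 ze31) (ke xe8 ye0 ze37)) (@D3.rec (fun _ => Pt) (ke xe3 ye23 ze5) (ke xe3 ye19 ze24) (ke xe10 ye1 ze32) (ke xe10 ye1 ze33) (ke xe10 ye1 ze34) (ke xe3 ye19 ze26) (ke xe3 ye19 ze27) (ke xe3 ye19 ze28) (ke xe10 ye1 ze38) (ke xe10 ye1 ze39) (ke xe10 ye2 ze1) (ke xe9 ye21 ze19) (ke xe9 ye21 ze20) (ke xe9 ye21 ze21) (ke xe9 ye21 ze23) (ke xe10 ye2 ze12) (ke xe3 ye19 ze33) (ke xe10 ye2 ze14) (ke xe10 ye2 ze15) (ke xe9 ye21 ze28) (ke xe9 ye21 ze29) (ke xe3 ye19 ze36) (ke xe10 ye2 ze20) (ke xe3 ye19 ze38) (ke xe3 ye19 ze39) (ke xe10 ye2 ze22) (ke xe10 ye2 ze23) (ke xe10 ye2 ze24) (ke xe9 ye21 ze38) (ke xe9 ye21 ze39) (ke xe9 ye22 ze0) (ke xe9 ye22 ze1) (ke xe3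 ye20 ze4) (ke xe10 ye2 ze33) (ke xe9 ye22 ze2) (ke xe9 ye22 ze3) (ke xe9 ye22 ze4) (ke xe4 ye21 ze33) (ke xe8 ye0 ze33) (ke xe3 ye24 ze11)) (@D3.rec (fun _ => Pt) (ke xe3 ye20 ze12) (ke xe10 ye3 ze2) (ke xe10 ye3 ze3) (ke xe10 ye3 ze4) (ke xe3 ye20 ze14) (ke xe3 ye20 ze15) (ke xe3 ye20 ze16) (ke xe10 ye3 ze8) (ke xe9 ye22 ze14) (ke xe9 ye22 ze15) (ke xe9 ye22 ze16) (ke xe8 ye25 ze36) (ke xe4 ye23 ze11) (ke xe3 ye20 ze21) (ke xe4 ye23 ze21) (ke xe6 ye12 ze38) (ke xe6 ye12 ze35) (ke xe6 ye9 ze19) (ke xe3 ye20 ze24) (ke xe6 ye9 ze17) (ke xe9 ye13 ze36) (ke xe3 ye20 ze25) (ke xe10 ye3 ze26) (ke xe10 ye3 ze25) (ke xe3 ye20 ze28) (ke xe3 ye20 ze32) (ke xe3 ye20 ze30) (ke xe3 ye20 ze31) (ke xe10 ye3 ze31) (ke xe10 ye3 ze32) (ke xe10 ye3 ze28) (ke xe10 ye3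 ze29) (ke xe10 ye3 ze30) (ke xe3 ye20 ze35) (ke xe3 ye20 ze36) (ke xe3 ye20 ze37) (ke xe3 ye21 ze27) (ke xe10 ye3 ze38) (ke xe10 ye3 ze39) (ke xe10 ye4 ze0)) (@D3.rec (fun _ => Pt) (ke xe10 ye4 ze1) (ke xe3 ye21 ze2) (ke xe3 ye21 ze0) (ke xe10 ye4 ze8) (ke xe10 ye4 ze9) (ke xe10 ye4 ze7) (ke xe3 ye21 ze4) (ke xe3 ye21 ze5) (ke xe3 ye21 ze6) (ke xe10 ye4 ze13) (ke xe10 ye4 ze14) (ke xe10 ye4 ze21) (ke xe10 ye4 ze16) (ke xe8 ye4 ze11) (ke xe10 ye4 ze24) (ke xe7 ye20 ze16) (ke xe10 ye4 ze29) (ke xe10 ye4 ze31) (ke xe3 ye21 ze9) (ke xe8 ye25 ze37) (ke xe4 ye23 ze9) (ke xe3 ye21 ze11) (ke xe4 ye23 ze17) (ke xe6 ye14 ze32) (ke xe6 ye14 ze29) (ke xe6 ye10 ze28) (ke xe3 ye21 ze14) (ke xe9 ye13 ze19) (ke xe6 ye10 ze25) (ke xe3 ye21 ze15) (ke xe10 ye5 ze1) (ke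 xe10 ye5 ze0) (ke xe3 ye21 ze17) (ke xe3 ye21 ze22) (ke xe3 ye21 ze20) (ke xe3 ye21 ze21) (ke xe10 ye5 ze6) (ke xe10 ye5 ze7) (ke xe10 ye5 ze3) (ke xe10 ye5 ze4)) (@D3.rec (fun _ => Pt) (ke xe10 ye5 ze5) (ke xe3 ye21 ze25) (ke xe3 ye21 ze26) (ke xe10 ye5 ze11) (ke xe10 ye5 ze12) (ke xe10 ye5 ze13) (ke xe3 ye21 ze32) (ke xe3 ye21 ze30) (ke xe10 ye5 ze19) (ke xe10 ye5 ze20) (ke xe10 ye5 ze18) (ke xe3 ye21 ze34) (ke xe3 ye21 ze35) (ke xe3 ye21 ze36) (ke xe10 ye5 ze24) (ke xe10 ye5 ze30) (ke xe10 ye5 ze26) (ke xe8 ye4 ze3) (ke xe10 ye5 ze33) (ke xe7 ye19 ze12) (ke xe3 ye21 ze39) (ke xe3 ye24 ze24) (ke xe3 ye24 ze16) (ke xe3 ye24 ze26) (ke xe6 ye11 ze25) (ke xe6 ye11 ze24) (ke xe8 ye3 ze5) (ke xe8 ye0 ze30) (ke xe4 ye24 ze7) (ke xe3 ye22 ze8) (ke xe5 ye11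 ze37) (ke xe10 ye6 ze9) (ke xe4 ye24 ze5) (ke xe3 ye22 ze10) (ke xe6 ye12 ze26) (ke xe6 ye12 ze24) (ke xe8 ye1 ze14) (ke xe3 ye22 ze19) (ke xe3 ye22 ze15) (ke xe3 ye22 ze16)) (@D3.rec (fun _ => Pt) (ke xe3 ye22 ze17) (ke xe3 ye22 ze18) (ke xe8 ye25 ze21) (ke xe3 ye23 ze25) (ke xe8 ye25 ze3) (ke xe10 ye6 ze16) (ke xe7 ye16 ze13) (ke xe10 ye6 ze23) (ke xe10 ye0 ze5) (ke xe7 ye11 ze8) (ke xe10 ye6 ze15) (ke xe7 ye11 ze4) (ke xe5 ye12 ze4) (ke xe8 ye25 ze23) (ke xe8 ye25 ze28) (ke xe8 ye25 ze29) (ke xe3 ye22 ze26) (ke xe3 ye22 ze27) (ke xe3 ye22 ze28) (ke xe10 ye6 ze38) (ke xe3 ye22 ze30) (ke xe3 ye22 ze31) (ke xe3 ye22 ze33) (ke xe3 ye22 ze35) (ke xe6 ye11 ze35) (ke xe10 ye0 ze15) (ke xe6 ye11 ze34) (ke xe10 ye6 ze12) (ke xe10 ye0 ze17) (ke xe10 ye7 ze7)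 (ke xe10 ye6 ze36) (ke xe10 ye6 ze37) (ke xe3 ye22 ze29) (ke xe7 ye19 ze22) (ke xe10 ye6 ze39) (ke xe6 ye9 ze16) (ke xe8 ye23 ze33) (ke xe10 ye6 ze24) (ke xe6 ye9 ze15) (ke xe10 ye7 ze0)) (@D3.rec (fun _ => Pt) (ke xe10 ye7 ze1) (ke xe3 ye22 ze39) (ke xe10 ye7 ze20) (ke xe3 ye22 ze37) (ke xe8 ye22 ze2) (ke xe10 ye7 ze25) (ke xe10 ye7 ze16) (ke xe10 ye7 ze30) (ke xe10 ye7 ze18) (ke xe10 ye7 ze19) (ke xe3 ye23 ze0) (ke xe10 ye7 ze35) (ke xe3 ye23 ze1) (ke xe3 ye23 ze3) (ke xe10 ye7 ze38) (ke xe7 ye19 ze20) (ke xe7 ye19 ze23) (ke xe3 ye25 ze1) (ke xe3 ye24 ze33) (ke xe3 ye25 ze3) (ke xe6 ye13 ze21) (ke xe6 ye13 ze20) (ke xe8 ye3 ze8) (ke xe8 ye0 ze34) (ke xe4 ye24 ze14) (ke xe3 ye23 ze13) (ke xe10 ye8 ze14) (ke xe4 ye24 ze12) (ke xe5 ye12 ze36) (ke xe3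 ye23 ze16) (ke xe6 ye14 ze21) (ke xe6 ye14 ze18) (ke xe8 ye1 ze21) (ke xe3 ye23 ze24) (ke xe3 ye23 ze21) (ke xe3 ye23 ze22) (ke xe3 ye23 ze23) (ke xe10 ye8 ze20) (ke xe7 ye12 ze19) (ke xe10 ye8 ze25)) (@D3.rec (fun _ => Pt) (ke xe10 ye0 ze39) (ke xe7 ye15 ze10) (ke xe10 ye8 ze19) (ke xe7 ye15 ze6) (ke xe8 ye24 ze20) (ke xe8 ye23 ze31) (ke xe5 ye13 ze0) (ke xe8 ye24 ze21) (ke xe8 ye24 ze26) (ke xe8 ye24 ze27) (ke xe3 ye23 ze32) (ke xe3 ye23 ze33) (ke xe3 ye23 ze34) (ke xe10 ye9 ze2) (ke xe3 ye23 ze36) (ke xe3 ye23 ze37) (ke xe3 ye23 ze39) (ke xe3 ye24 ze1) (ke xe6 ye13 ze31) (ke xe9 ye25 ze21) (ke xe10 ye8 ze16) (ke xe6 ye13 ze30) (ke xe9 ye25 ze23) (ke xe10 ye9 ze11) (ke xe10 ye9 ze0) (ke xe10 ye9 ze1) (ke xe3 ye23 ze35) (ke xe7 ye20 ze27) (ke xe10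 ye9 ze3) (ke xe6 ye10 ze24) (ke xe8 ye25 ze1) (ke xe10 ye8 ze26) (ke xe6 ye10 ze23) (ke xe10 ye9 ze4) (ke xe10 ye9 ze5) (ke xe3 ye24 ze5) (ke xe10 ye9 ze24) (ke xe3 ye24 ze3) (ke xe8 ye22 ze38) (ke xe10 ye9 ze27)) (@D3.rec (fun _ => Pt) (ke xe10 ye9 ze20) (ke xe10 ye9 ze32) (ke xe10 ye9 ze22) (ke xe10 ye9 ze23) (ke xe3 ye24 ze6) (ke xe10 ye9 ze36) (ke xe3 ye24 ze7) (ke xe3 ye24 ze9) (ke xe10 ye9 ze39) (ke xe7 ye20 ze24) (ke xe7 ye20 ze26) (ke xe3 ye24 ze14) (ke xe7 ye8 ze32) (ke xe3 ye24 ze17) (ke xe3 ye24 ze13) (ke xe7 ye8 ze38) (ke xe10 ye10 ze5) (ke xe8 ye18 ze37) (ke xe3 ye24 ze15) (ke xe8 ye18 ze36) (ke xe10 ye10 ze11) (ke xe10 ye5 ze38) (ke xe10 ye10 ze7) (ke xe3 ye24 ze19) (ke xe3 ye24 ze23) (ke xe3 ye24 ze25) (ke xe3 ye24 ze27) (ke xe10 ye10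 ze15) (ke xe10 ye10 ze16) (ke xe10 ye10 ze17) (ke xe10 ye5 ze39) (ke xe10 ye10 ze18) (ke xe3 ye24 ze30) (ke xe7 ye12 ze37) (ke xe3 ye24 ze32) (ke xe3 ye24 ze29) (ke xe7 ye13 ze3) (ke xe10 ye10 ze26) (ke xe8 ye20 ze12) (ke xe3 ye24 ze31)) (@D3.rec (fun _ => Pt) (ke xe10 ye10 ze32) (ke xe8 ye20 ze10) (ke xe10 ye10 ze28) (ke xe10 ye8 ze5) (ke xe3 ye24 ze35) (ke xe3 ye24 ze39) (ke xe3 ye25 ze0) (ke xe3 ye25 ze2) (ke xe10 ye10 ze36) (ke xe10 ye10 ze37) (ke xe10 ye10 ze38) (ke xe10 ye10 ze39) (ke xe10 ye8 ze6) (ke xe4 ye6 ze22) (ke xe4 ye6 ze23) (ke xe4 ye6 ze24) (ke xe4 ye6 ze25) (ke xe4 ye6 ze26) (ke xe4 ye6 ze27) (ke xe9 ye25 ze24) (ke xe6 ye6 ze38) (ke xe10 ye0 ze18) (ke xe6 ye6 ze5) (ke xe4 ye6 ze39) (ke xe4 ye7 ze0) (ke xe4 ye7 ze1) (ke xe4 ye7 ze2)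 (ke xe4 ye7 ze3) (ke xe4 ye7 ze4) (ke xe5 ye24 ze25) (ke xe9 ye14 ze14) (ke xe9 ye14 ze15) (ke xe9 ye14 ze16) (ke xe5 ye24 ze29) (ke xe9 ye14 ze17) (ke xe9 ye14 ze18) (ke xe9 ye14 ze19) (ke xe4 ye7 ze5) (ke xe4 ye7 ze6) (ke xe9 ye23 ze30)) (@D3.rec (fun _ => Pt) (ke xe4 ye7 ze8) (ke xe4 ye7 ze9) (ke xe4 ye7 ze10) (ke xe4 ye7 ze11) (ke xe4 ye7 ze12) (ke xe4 ye7 ze13) (ke xe4 ye7 ze14) (ke xe9 ye24 ze27) (ke xe4 ye7 ze16) (ke xe4 ye7 ze17) (ke xe4 ye7 ze18) (ke xe4 ye7 ze19) (ke xe4 ye7 ze20) (ke xe9 ye14 ze24) (ke xe6 ye17 ze14) (ke xe9 ye14 ze25) (ke xe9 ye14 ze26) (ke xe6 ye17 ze17) (ke xe6 ye17 ze18) (ke xe9 ye14 ze27) (ke xe9 ye14 ze28) (ke xe9 ye14 ze29) (ke xe9 ye14 ze30) (ke xe6 ye17 ze23) (ke xe6 ye17 ze24) (ke xe9 ye14 ze31) (ke xe9 ye14 ze32)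 (ke xe9 ye14 ze33) (ke xe9 ye14 ze34) (ke xe9 ye14 ze35) (ke xe9 ye14 ze36) (ke xe9 ye14 ze37) (ke xe9 ye14 ze38) (ke xe9 ye14 ze39) (ke xe10 ye13 ze8) (ke xe9 ye15 ze1) (ke xe9 ye15 ze2) (ke xe9 ye15 ze3) (ke xe9 ye15 ze4) (ke xe9 ye15 ze5)) (@D3.rec (fun _ => Pt) (ke xe10 ye13 ze18) (ke xe9 ye15 ze7) (ke xe9 ye15 ze8) (ke xe4 ye7 ze23) (ke xe4 ye7 ze24) (ke xe4 ye7 ze25) (ke xe8 ye0 ze13) (ke xe4 ye7 ze27) (ke xe4 ye7 ze28) (ke xe8 ye5 ze33) (ke xe4 ye0 ze5) (ke xe10 ye13 ze29) (ke xe4 ye7 ze31) (ke xe4 ye7 ze32) (ke xe4 ye7 ze35) (ke xe4 ye7 ze36) (ke xe4 ye7 ze37) (ke xe8 ye0 ze21) (ke xe4 ye7 ze39) (ke xe4 ye8 ze0) (ke xe8 ye6 ze2) (ke xe4 ye0 ze11) (ke xe10 ye14 ze1) (ke xe4 ye8 ze3) (ke xe4 ye8 ze4) (ke xe6 ye18 ze25) (ke xe6 ye18 ze26) (ke xe6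 ye18 ze27) (ke xe6 ye18 ze28) (ke xe10 ye14 ze8) (ke xe9 ye15 ze13) (ke xe9 ye15 ze14) (ke xe9 ye15 ze15) (ke xe9 ye15 ze16) (ke xe10 ye14 ze13) (ke xe9 ye15 ze17) (ke xe9 ye15 ze18) (ke xe9 ye15 ze19) (ke xe9 ye15 ze20) (ke xe9 ye15 ze21)) (@D3.rec (fun _ => Pt) (ke xe9 ye15 ze22) (ke xe9 ye15 ze23) (ke xe8 ye8 ze29) (ke xe4 ye0 ze26) (ke xe10 ye14 ze23) (ke xe9 ye15 ze28) (ke xe9 ye15 ze29) (ke xe9 ye15 ze30) (ke xe9 ye15 ze31) (ke xe9 ye15 ze32) (ke xe9 ye15 ze33) (ke xe9 ye15 ze34) (ke xe10 ye14 ze37) (ke xe9 ye15 ze36) (ke xe9 ye15 ze37) (ke xe9 ye15 ze38) (ke xe9 ye15 ze39) (ke xe9 ye16 ze0) (ke xe8 ye9 ze1) (ke xe4 ye0 ze34) (ke xe10 ye15 ze7) (ke xe9 ye16 ze5) (ke xe9 ye16 ze6) (ke xe9 ye16 ze7) (ke xe9 ye16 ze8) (ke xe9 ye16 ze9) (ke xe9 ye16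 ze10) (ke xe9 ye16 ze11) (ke xe10 ye15 ze21) (ke xe9 ye16 ze13) (ke xe9 ye16 ze14) (ke xe4 ye8 ze8) (ke xe4 ye8 ze9) (ke xe4 ye8 ze10) (ke xe5 ye7 ze33) (ke xe4 ye8 ze12) (ke xe4 ye8 ze13) (ke xe4 ye20 ze29) (ke xe4 ye1 ze3) (ke xe5 ye1 ze17)) (@D3.rec (fun _ => Pt) (ke xe4 ye20 ze30) (ke xe4 ye1 ze6) (ke xe10 ye15 ze34) (ke xe4 ye8 ze22) (ke xe4 ye8 ze23) (ke xe4 ye8 ze24) (ke xe4 ye8 ze25) (ke xe10 ye16 ze4) (ke xe4 ye8 ze27) (ke xe4 ye8 ze30) (ke xe4 ye8 ze31) (ke xe10 ye16 ze12) (ke xe4 ye8 ze33) (ke xe10 ye16 ze16) (ke xe4 ye1 ze14) (ke xe10 ye16 ze18) (ke xe4 ye8 ze37) (ke xe4 ye8 ze38) (ke xe4 ye8 ze39) (ke xe4 ye9 ze3) (ke xe4 ye9 ze4) (ke xe4 ye9 ze5) (ke xe5 ye8 ze37) (ke xe4 ye9 ze7) (ke xe4 ye9 ze8) (ke xe4 ye20 ze33) (ke xe4 ye1 ze20) (ke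 xe5 ye1 ze25) (ke xe4 ye20 ze34) (ke xe4 ye1 ze23) (ke xe10 ye16 ze32) (ke xe4 ye9 ze17) (ke xe4 ye9 ze18) (ke xe4 ye9 ze19) (ke xe4 ye9 ze20) (ke xe10 ye17 ze2) (ke xe4 ye9 ze22) (ke xe4 ye9 ze25) (ke xe4 ye9 ze26) (ke xe10 ye17 ze10)) (@D3.rec (fun _ => Pt) (ke xe4 ye9 ze28) (ke xe10 ye17 ze14) (ke xe4 ye1 ze31) (ke xe10 ye17 ze16) (ke xe4 ye9 ze32) (ke xe4 ye9 ze33) (ke xe4 ye9 ze34) (ke xe9 ye18 ze3) (ke xe9 ye18 ze4) (ke xe9 ye18 ze5) (ke xe9 ye15 ze25) (ke xe4 ye1 ze37) (ke xe6 ye21 ze23) (ke xe10 ye17 ze28) (ke xe9 ye18 ze7) (ke xe9 ye18 ze8) (ke xe9 ye18 ze9) (ke xe9 ye18 ze10) (ke xe10 ye18 ze0) (ke xe4 ye2 ze0) (ke xe10 ye18 ze2) (ke xe4 ye2 ze2) (ke xe10 ye18 ze4) (ke xe6 ye21 ze12) (ke xe6 ye23 ze4) (ke xe9 ye18 ze17) (ke xe9 ye18 ze18)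 (ke xe6 ye23 ze0) (ke xe6 ye22 ze39) (ke xe10 ye18 ze21) (ke xe6 ye23 ze5) (ke xe6 ye23 ze6) (ke xe9 ye18 ze19) (ke xe9 ye18 ze20) (ke xe9 ye18 ze21) (ke xe6 ye22 ze35) (ke xe6 ye22 ze36) (ke xe6 ye22 ze37) (ke xe10 ye18 ze38) (ke xe6 ye22 ze28)) (@D3.rec (fun _ => Pt) (ke xe6 ye22 ze27) (ke xe10 ye19 ze3) (ke xe4 ye2 ze12) (ke xe10 ye19 ze5) (ke xe6 ye22 ze24) (ke xe6 ye22 ze30) (ke xe6 ye22 ze31) (ke xe9 ye18 ze22) (ke xe9 ye18 ze23) (ke xe9 ye18 ze24) (ke xe9 ye16 ze2) (ke xe6 ye22 ze23) (ke xe4 ye2 ze18) (ke xe10 ye19 ze19) (ke xe9 ye18 ze26) (ke xe9 ye18 ze27) (ke xe9 ye18 ze28) (ke xe9 ye18 ze29) (ke xe10 ye19 ze29) (ke xe4 ye2 ze21) (ke xe10 ye19 ze31) (ke xe4 ye2 ze23) (ke xe10 ye19 ze33) (ke xe6 ye22 ze11) (ke xe6 ye22 ze4) (ke xe9 ye18 ze36)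 (ke xe9 ye18 ze37) (ke xe6 ye22 ze0) (ke xe6 ye21 ze39) (ke xe10 ye20 ze10) (ke xe6 ye22 ze5) (ke xe6 ye22 ze6) (ke xe9 ye18 ze38) (ke xe9 ye18 ze39) (ke xe9 ye19 ze0) (ke xe6 ye21 ze35) (ke xe6 ye21 ze36) (ke xe6 ye21 ze37) (ke xe10 ye20 ze27) (ke xe6 ye21 ze28)) (@D3.rec (fun _ => Pt) (ke xe6 ye21 ze27) (ke xe10 ye20 ze32) (ke xe4 ye2 ze33) (ke xe10 ye20 ze34) (ke xe6 ye21 ze24) (ke xe6 ye21 ze30) (ke xe6 ye21 ze31) (ke xe4 ye9 ze35) (ke xe4 ye9 ze36) (ke xe8 ye11 ze30) (ke xe4 ye9 ze37) (ke xe4 ye2 ze39) (ke xe5 ye3 ze38) (ke xe10 ye21 ze6) (ke xe4 ye10 ze0) (ke xe4 ye10 ze1) (ke xe4 ye10 ze2) (ke xe4 ye10 ze3) (ke xe4 ye10 ze4) (ke xe4 ye10 ze5) (ke xe4 ye10 ze6) (ke xe4 ye10 ze7) (ke xe4 ye10 ze9) (ke xe4 ye10 ze10) (ke xe4 ye3 ze6) (ke xe10 ye6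 ze6) (ke xe10 ye21 ze21) (ke xe4 ye10 ze15) (ke xe4 ye10 ze16) (ke xe4 ye10 ze17) (ke xe8 ye14 ze4) (ke xe4 ye3 ze9) (ke xe7 ye25 ze4) (ke xe4 ye3 ze11) (ke xe10 ye21 ze31) (ke xe4 ye10 ze23) (ke xe4 ye10 ze24) (ke xe4 ye10 ze25) (ke xe4 ye10 ze26) (ke xe4 ye10 ze27)) (@D3.rec (fun _ => Pt) (ke xe4 ye10 ze28) (ke xe10 ye22 ze6) (ke xe4 ye10 ze30) (ke xe8 ye14 ze8) (ke xe10 ye22 ze13) (ke xe4 ye3 ze16) (ke xe4 ye20 ze19) (ke xe10 ye22 ze16) (ke xe4 ye3 ze17) (ke xe10 ye22 ze20) (ke xe4 ye3 ze19) (ke xe8 ye15 ze10) (ke xe7 ye25 ze2) (ke xe4 ye3 ze21) (ke xe4 ye3 ze22) (ke xe10 ye22 ze23) (ke xe10 ye22 ze24) (ke xe10 ye22 ze25) (ke xe4 ye11 ze3) (ke xe4 ye11 ze7) (ke xe4 ye11 ze8) (ke xe4 ye11 ze9) (ke xe4 ye11 ze10) (ke xe4 ye11 ze11) (ke xe4 ye11 ze12)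 (ke xe4 ye11 ze13) (ke xe4 ye11 ze14) (ke xe4 ye11 ze15) (ke xe10 ye23 ze12) (ke xe10 ye23 ze15) (ke xe4 ye3 ze28) (ke xe10 ye23 ze17) (ke xe4 ye11 ze20) (ke xe4 ye11 ze21) (ke xe4 ye11 ze22) (ke xe4 ye11 ze23) (ke xe4 ye11 ze24) (ke xe4 ye11 ze25) (ke xe10 ye23 ze28) (ke xe4 ye11 ze27)) (@D3.rec (fun _ => Pt) (ke xe4 ye11 ze28) (ke xe4 ye11 ze29) (ke xe4 ye11 ze30) (ke xe4 ye11 ze31) (ke xe4 ye11 ze32) (ke xe10 ye24 ze0) (ke xe4 ye11 ze34) (ke xe4 ye11 ze35) (ke xe4 ye11 ze36) (ke xe4 ye11 ze37) (ke xe4 ye11 ze38) (ke xe10 ye24 ze11) (ke xe4 ye12 ze0) (ke xe4 ye12 ze1) (ke xe10 ye24 ze18) (ke xe4 ye3 ze39) (ke xe10 ye24 ze20) (ke xe4 ye12 ze5) (ke xe4 ye12 ze6) (ke xe10 ye24 ze27) (ke xe10 ye24 ze30) (ke xe4 ye4 ze2) (ke xe10 ye24 ze33) (ke xe4 ye4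 ze4) (ke xe10 ye24 ze36) (ke xe4 ye12 ze13) (ke xe4 ye12 ze14) (ke xe4 ye12 ze15) (ke xe4 ye12 ze16) (ke xe4 ye12 ze17) (ke xe4 ye12 ze18) (ke xe8 ye12 ze28) (ke xe4 ye12 ze19) (ke xe4 ye4 ze10) (ke xe10 ye25 ze7) (ke xe5 ye4 ze8) (ke xe4 ye12 ze22) (ke xe4 ye12 ze23) (ke xe4 ye12 ze24) (ke xe4 ye12 ze25))
def f_e_7 : D2 → D3 → Pt := @D2.rec (fun _ => D3 → Pt) (@D3.rec (fun _ => Pt) (ke xe4 ye12 ze26) (ke xe4 ye12 ze27) (ke xe4 ye12 ze28) (ke xe4 ye12 ze30) (ke xe4 ye12 ze31) (ke xe4 ye4 ze17) (ke xe10 ye25 ze21) (ke xe10 ye8 ze11) (ke xe4 ye12 ze36) (ke xe4 ye12 ze37) (ke xe4 ye12 ze38) (ke xe8 ye14 ze6) (ke xe4 ye4 ze20) (ke xe7 ye25 ze13) (ke xe4 ye4 ze22) (ke xe10 ye25 ze31) (ke xe4 ye13 ze4) (ke xe4 ye13 ze5) (ke xe4 ye13 ze6) (ke xe4 ye13 ze7)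 (ke xe4 ye13 ze8) (ke xe11 ye0 ze5) (ke xe4 ye13 ze10) (ke xe8 ye14 ze14) (ke xe11 ye0 ze12) (ke xe4 ye4 ze27) (ke xe11 ye0 ze15) (ke xe4 ye20 ze24) (ke xe4 ye4 ze28) (ke xe11 ye0 ze19) (ke xe4 ye4 ze30) (ke xe8 ye14 ze34) (ke xe7 ye25 ze11) (ke xe4 ye4 ze32) (ke xe4 ye4 ze33) (ke xe11 ye0 ze22) (ke xe11 ye0 ze23) (ke xe11 ye0 ze24) (ke xe4 ye13 ze23) (ke xe4 ye13 ze27)) (@D3.rec (fun _ => Pt) (ke xe4 ye13 ze28) (ke xe4 ye13 ze29) (ke xe4 ye13 ze30) (ke xe4 ye13 ze31) (ke xe4 ye13 ze32) (ke xe4 ye13 ze33) (ke xe4 ye13 ze34) (ke xe4 ye13 ze35) (ke xe11 ye1 ze11) (ke xe11 ye1 ze14) (ke xe4 ye4 ze39) (ke xe11 ye1 ze16) (ke xe4 ye14 ze0) (ke xe4 ye14 ze1) (ke xe4 ye14 ze2) (ke xe4 ye14 ze3) (ke xe4 ye14 ze4) (ke xe4 ye14 ze5) (ke xe11 ye1 ze27) (ke xe4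 ye14 ze7) (ke xe4 ye14 ze8) (ke xe4 ye14 ze9) (ke xe4 ye14 ze10) (ke xe4 ye14 ze11) (ke xe4 ye14 ze12) (ke xe11 ye1 ze39) (ke xe4 ye14 ze14) (ke xe4 ye14 ze15) (ke xe4 ye14 ze16) (ke xe4 ye14 ze17) (ke xe4 ye14 ze18) (ke xe11 ye2 ze10) (ke xe4 ye14 ze20) (ke xe4 ye14 ze21) (ke xe11 ye2 ze17) (ke xe4 ye5 ze10) (ke xe11 ye2 ze19) (ke xe4 ye14 ze24) (ke xe4 ye14 ze25) (ke xe11 ye2 ze26)) (@D3.rec (fun _ => Pt) (ke xe11 ye2 ze29) (ke xe4 ye5 ze13) (ke xe11 ye2 ze32) (ke xe4 ye5 ze15) (ke xe11 ye2 ze35) (ke xe4 ye14 ze31) (ke xe4 ye14 ze32) (ke xe4 ye14 ze33) (ke xe4 ye14 ze34) (ke xe8 ye0 ze6) (ke xe4 ye5 ze18) (ke xe11 ye3 ze3) (ke xe4 ye5 ze20) (ke xe11 ye3 ze4) (ke xe4 ye14 ze39) (ke xe4 ye15 ze0) (ke xe4 ye15 ze1) (ke xe4 ye15 ze9) (ke xe4 ye15 ze10)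 (ke xe11 ye3 ze15) (ke xe4 ye15 ze12) (ke xe11 ye3 ze20) (ke xe4 ye15 ze14) (ke xe4 ye15 ze15) (ke xe11 ye3 ze26) (ke xe4 ye5 ze26) (ke xe4 ye15 ze18) (ke xe11 ye3 ze31) (ke xe4 ye15 ze20) (ke xe4 ye15 ze21) (ke xe11 ye3 ze37) (ke xe4 ye5 ze28) (ke xe11 ye4 ze0) (ke xe11 ye4 ze1) (ke xe4 ye15 ze26) (ke xe4 ye15 ze27) (ke xe11 ye4 ze7) (ke xe4 ye5 ze32) (ke xe11 ye4 ze10) (ke xe11 ye4 ze11)) (@D3.rec (fun _ => Pt) (ke xe8 ye0 ze9) (ke xe4 ye5 ze34) (ke xe11 ye4 ze15) (ke xe4 ye5 ze36) (ke xe11 ye4 ze16) (ke xe4 ye15 ze37) (ke xe4 ye15 ze38) (ke xe4 ye15 ze39) (ke xe4 ye16 ze7) (ke xe4 ye16 ze8) (ke xe11 ye4 ze27) (ke xe4 ye16 ze10) (ke xe11 ye4 ze32) (ke xe4 ye16 ze12) (ke xe4 ye16 ze13) (ke xe11 ye4 ze38) (ke xe4 ye6 ze2) (ke xe4 ye16 ze16) (ke xe11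 ye5 ze3) (ke xe4 ye16 ze18) (ke xe4 ye16 ze19) (ke xe11 ye5 ze9) (ke xe4 ye6 ze4) (ke xe11 ye5 ze12) (ke xe11 ye5 ze13) (ke xe4 ye16 ze24) (ke xe4 ye16 ze25) (ke xe11 ye5 ze19) (ke xe4 ye6 ze8) (ke xe11 ye5 ze22) (ke xe11 ye5 ze23) (ke xe8 ye13 ze21) (ke xe8 ye13 ze22) (ke xe8 ye13 ze23) (ke xe11 ye5 ze32) (ke xe8 ye13 ze35) (ke xe8 ye13 ze36) (ke xe8 ye13 ze37) (ke xe11 ye5 ze39) (ke xe4 ye6 ze16)) (@D3.rec (fun _ => Pt) (ke xe7 ye8 ze37) (ke xe7 ye13 ze2) (ke xe9 ye25 ze25) (ke xe9 ye25 ze26) (ke xe10 ye0 ze19) (ke xe10 ye0 ze20) (ke xe10 ye11 ze7) (ke xe11 ye6 ze2) (ke xe10 ye11 ze9) (ke xe10 ye11 ze10) (ke xe11 ye6 ze5) (ke xe10 ye11 ze12) (ke xe5 ye14 ze30) (ke xe4 ye6 ze28) (ke xe5 ye14 ze32) (ke xe5 ye14 ze33) (ke xe5 ye14 ze31) (ke xe4 ye6 ze31)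 (ke xe4 ye6 ze32) (ke xe11 ye6 ze9) (ke xe11 ye6 ze10) (ke xe4 ye6 ze35) (ke xe4 ye6 ze36) (ke xe4 ye6 ze37) (ke xe4 ye6 ze38) (ke xe4 ye8 ze16) (ke xe4 ye8 ze19) (ke xe4 ye9 ze11) (ke xe4 ye9 ze14) (ke xe11 ye6 ze13) (ke xe10 ye11 ze18) (ke xe10 ye11 ze19) (ke xe10 ye11 ze20) (ke xe10 ye11 ze21) (ke xe11 ye6 ze15) (ke xe10 ye11 ze23) (ke xe10 ye11 ze24) (ke xe10 ye11 ze25) (ke xe10 ye11 ze26) (ke xe9 ye22 ze23)) (@D3.rec (fun _ => Pt) (ke xe11 ye6 ze17) (ke xe4 ye7 ze7) (ke xe11 ye6 ze18) (ke xe10 ye12 ze5) (ke xe10 ye12 ze6) (ke xe11 ye6 ze21) (ke xe10 ye12 ze8) (ke xe10 ye12 ze9) (ke xe9 ye23 ze2) (ke xe11 ye6 ze23) (ke xe4 ye7 ze15) (ke xe11 ye6 ze24) (ke xe10 ye12 ze12) (ke xe10 ye12 ze13) (ke xe11 ye6 ze27) (ke xe10 ye12 ze15) (ke xe10 ye12 ze16)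 (ke xe9 ye0 ze30) (ke xe9 ye0 ze31) (ke xe7 ye25 ze29) (ke xe8 ye0 ze14) (ke xe10 ye13 ze22) (ke xe4 ye7 ze26) (ke xe11 ye6 ze30) (ke xe10 ye13 ze25) (ke xe10 ye13 ze26) (ke xe4 ye7 ze30) (ke xe11 ye6 ze33) (ke xe11 ye6 ze34) (ke xe10 ye13 ze32) (ke xe10 ye13 ze33) (ke xe9 ye0 ze35) (ke xe9 ye0 ze36) (ke xe7 ye25 ze35) (ke xe8 ye0 ze22) (ke xe10 ye13 ze34) (ke xe4 ye7 ze38) (ke xe11 ye6 ze39) (ke xe10 ye13 ze37) (ke xe10 ye13 ze38)) (@D3.rec (fun _ => Pt) (ke xe4 ye8 ze2) (ke xe11 ye7 ze2) (ke xe11 ye7 ze3) (ke xe10 ye14 ze4) (ke xe10 ye14 ze5) (ke xe9 ye4 ze7) (ke xe9 ye4 ze8) (ke xe9 ye4 ze9) (ke xe5 ye2 ze38) (ke xe5 ye7 ze34) (ke xe10 ye15 ze26) (ke xe10 ye15 ze27) (ke xe11 ye7 ze8) (ke xe4 ye8 ze11) (ke xe11 ye7 ze9) (ke xe11 ye7 ze10) (ke xe10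 ye15 ze30) (ke xe10 ye15 ze31) (ke xe4 ye8 ze14) (ke xe10 ye11 ze14) (ke xe4 ye8 ze17) (ke xe4 ye8 ze21) (ke xe11 ye6 ze11) (ke xe11 ye7 ze14) (ke xe11 ye7 ze18) (ke xe10 ye15 ze38) (ke xe10 ye15 ze39) (ke xe10 ye16 ze0) (ke xe10 ye16 ze1) (ke xe11 ye7 ze25) (ke xe8 ye1 ze27) (ke xe4 ye8 ze26) (ke xe11 ye7 ze27) (ke xe10 ye16 ze6) (ke xe9 ye4 ze30) (ke xe10 ye16 ze7) (ke xe11 ye7 ze33) (ke xe10 ye16 ze9) (ke xe10 ye16 ze10) (ke xe8 ye1 ze26)) (@D3.rec (fun _ => Pt) (ke xe4 ye8 ze32) (ke xe11 ye7 ze37) (ke xe10 ye16 ze14) (ke xe8 ye1 ze24) (ke xe4 ye8 ze36) (ke xe11 ye8 ze2) (ke xe11 ye8 ze3) (ke xe10 ye16 ze21) (ke xe10 ye16 ze22) (ke xe10 ye16 ze23) (ke xe9 ye4 ze20) (ke xe9 ye4 ze21) (ke xe9 ye4 ze22) (ke xe5 ye3 ze18) (ke xe5 ye8 ze38) (ke xe10 ye16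 ze24) (ke xe10 ye16 ze25) (ke xe11 ye8 ze11) (ke xe4 ye9 ze6) (ke xe11 ye8 ze12) (ke xe11 ye8 ze13) (ke xe10 ye16 ze28) (ke xe10 ye16 ze29) (ke xe4 ye9 ze9) (ke xe10 ye11 ze16) (ke xe4 ye9 ze12) (ke xe4 ye9 ze16) (ke xe11 ye6 ze12) (ke xe11 ye8 ze17) (ke xe11 ye8 ze21) (ke xe10 ye16 ze36) (ke xe10 ye16 ze37) (ke xe10 ye16 ze38) (ke xe10 ye16 ze39) (ke xe11 ye8 ze28) (ke xe8 ye1 ze20) (ke xe4 ye9 ze21) (ke xe11 ye8 ze30) (ke xe10 ye17 ze4) (ke xe9 ye4 ze17)) (@D3.rec (fun _ => Pt) (ke xe10 ye17 ze5) (ke xe11 ye8 ze36) (ke xe10 ye17 ze7) (ke xe10 ye17 ze8) (ke xe8 ye1 ze19) (ke xe4 ye9 ze27) (ke xe11 ye9 ze0) (ke xe10 ye17 ze12) (ke xe8 ye1 ze17) (ke xe4 ye9 ze31) (ke xe11 ye9 ze5) (ke xe11 ye9 ze6) (ke xe10 ye17 ze19) (ke xe10 ye17 ze20) (ke xe10 ye17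 ze21) (ke xe10 ye21 ze2) (ke xe9 ye0 ze39) (ke xe10 ye21 ze4) (ke xe10 ye21 ze5) (ke xe4 ye9 ze39) (ke xe11 ye9 ze17) (ke xe8 ye13 ze18) (ke xe10 ye21 ze10) (ke xe10 ye21 ze11) (ke xe10 ye21 ze12) (ke xe10 ye21 ze13) (ke xe10 ye21 ze14) (ke xe10 ye21 ze15) (ke xe10 ye21 ze16) (ke xe11 ye9 ze35) (ke xe10 ye21 ze18) (ke xe10 ye21 ze19) (ke xe6 ye15 ze12) (ke xe4 ye10 ze8) (ke xe11 ye10 ze1) (ke xe11 ye10 ze2) (ke xe10 ye21 ze20) (ke xe7 ye4 ze0) (ke xe6 ye15 ze15) (ke xe4 ye10 ze11)) (@D3.rec (fun _ => Pt) (ke xe11 ye10 ze8) (ke xe11 ye10 ze9) (ke xe4 ye10 ze13) (ke xe4 ye10 ze14) (ke xe11 ye10 ze12) (ke xe11 ye10 ze13) (ke xe11 ye10 ze14) (ke xe10 ye21 ze25) (ke xe10 ye21 ze26) (ke xe10 ye21 ze27) (ke xe4 ye10 ze20) (ke xe4 ye10 ze22) (ke xe11 ye10 ze21)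 (ke xe11 ye10 ze22) (ke xe10 ye21 ze35) (ke xe10 ye21 ze36) (ke xe10 ye21 ze37) (ke xe11 ye10 ze31) (ke xe10 ye21 ze39) (ke xe10 ye22 ze0) (ke xe10 ye22 ze1) (ke xe10 ye22 ze2) (ke xe11 ye10 ze34) (ke xe10 ye22 ze4) (ke xe11 ye10 ze39) (ke xe4 ye10 ze29) (ke xe11 ye11 ze0) (ke xe10 ye22 ze8) (ke xe4 ye10 ze33) (ke xe4 ye10 ze32) (ke xe11 ye11 ze4) (ke xe11 ye11 ze3) (ke xe4 ye10 ze35) (ke xe4 ye10 ze36) (ke xe9 ye0 ze0) (ke xe11 ye11 ze7) (ke xe11 ye11 ze8) (ke xe11 ye11 ze9) (ke xe4 ye10 ze39) (ke xe4 ye11 ze0)) (@D3.rec (fun _ => Pt) (ke xe4 ye11 ze1) (ke xe4 ye11 ze2) (ke xe11 ye11 ze13) (ke xe11 ye11 ze14) (ke xe11 ye11 ze15) (ke xe11 ye11 ze16) (ke xe11 ye11 ze17) (ke xe10 ye22 ze31) (ke xe10 ye22 ze32) (ke xe10 ye22 ze33) (ke xe10 ye22 ze34) (ke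 xe9 ye22 ze24) (ke xe11 ye11 ze30) (ke xe11 ye11 ze32) (ke xe4 ye11 ze5) (ke xe9 ye22 ze34) (ke xe10 ye22 ze35) (ke xe10 ye22 ze36) (ke xe10 ye22 ze37) (ke xe10 ye22 ze38) (ke xe11 ye12 ze0) (ke xe10 ye23 ze0) (ke xe10 ye23 ze1) (ke xe10 ye23 ze2) (ke xe10 ye23 ze3) (ke xe11 ye12 ze10) (ke xe10 ye23 ze5) (ke xe10 ye23 ze6) (ke xe10 ye23 ze7) (ke xe11 ye12 ze15) (ke xe10 ye23 ze9) (ke xe10 ye23 ze10) (ke xe11 ye12 ze19) (ke xe4 ye11 ze16) (ke xe11 ye12 ze21) (ke xe11 ye12 ze24) (ke xe4 ye11 ze17) (ke xe11 ye12 ze26) (ke xe4 ye11 ze19) (ke xe11 ye12 ze28)) (@D3.rec (fun _ => Pt) (ke xe10 ye23 ze19) (ke xe10 ye23 ze20) (ke xe10 ye23 ze21) (ke xe10 ye23 ze22) (ke xe6 ye12 ze11) (ke xe10 ye23 ze24) (ke xe11 ye12 ze39) (ke xe10 ye23 ze26) (ke xe6 ye12 ze9)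 (ke xe4 ye11 ze26) (ke xe11 ye13 ze1) (ke xe10 ye23 ze30) (ke xe10 ye23 ze31) (ke xe10 ye23 ze32) (ke xe10 ye23 ze34) (ke xe10 ye23 ze35) (ke xe10 ye23 ze36) (ke xe11 ye13 ze9) (ke xe10 ye23 ze38) (ke xe10 ye23 ze39) (ke xe4 ye11 ze33) (ke xe11 ye1 ze34) (ke xe10 ye24 ze3) (ke xe10 ye24 ze4) (ke xe10 ye24 ze5) (ke xe10 ye24 ze6) (ke xe11 ye13 ze20) (ke xe10 ye24 ze8) (ke xe10 ye24 ze9) (ke xe11 ye13 ze24) (ke xe4 ye11 ze39) (ke xe11 ye13 ze26) (ke xe11 ye13 ze27) (ke xe10 ye24 ze14) (ke xe10 ye24 ze15) (ke xe10 ye24 ze16) (ke xe11 ye13 ze33) (ke xe4 ye12 ze2) (ke xe11 ye13 ze37) (ke xe4 ye12 ze4)) (@D3.rec (fun _ => Pt) (ke xe10 ye24 ze22) (ke xe10 ye24 ze23) (ke xe11 ye14 ze0) (ke xe11 ye14 ze3) (ke xe11 ye14 ze7) (ke xe4 ye12 ze7) (ke xe11 ye14 ze11)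 (ke xe11 ye14 ze12) (ke xe4 ye12 ze8) (ke xe11 ye14 ze16) (ke xe11 ye14 ze15) (ke xe4 ye12 ze10) (ke xe11 ye14 ze19) (ke xe4 ye12 ze12) (ke xe11 ye14 ze21) (ke xe10 ye24 ze38) (ke xe10 ye24 ze39) (ke xe10 ye25 ze0) (ke xe10 ye25 ze1) (ke xe6 ye13 ze38) (ke xe10 ye25 ze2) (ke xe9 ye0 ze34) (ke xe10 ye25 ze3) (ke xe10 ye25 ze5) (ke xe10 ye25 ze6) (ke xe4 ye12 ze21) (ke xe11 ye14 ze32) (ke xe8 ye13 ze32) (ke xe10 ye25 ze11) (ke xe10 ye25 ze12) (ke xe10 ye25 ze13) (ke xe10 ye25 ze14) (ke xe10 ye25 ze15) (ke xe10 ye25 ze16) (ke xe11 ye15 ze9) (ke xe10 ye25 ze18) (ke xe10 ye25 ze19) (ke xe6 ye15 ze33) (ke xe4 ye12 ze29) (ke xe11 ye15 ze14)) (@D3.rec (fun _ => Pt) (ke xe11 ye15 ze15) (ke xe10 ye25 ze20) (ke xe7 ye4 ze1) (ke xe6 ye15 ze36) (ke xe4 ye12 ze32)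 (ke xe11 ye15 ze21) (ke xe11 ye15 ze22) (ke xe4 ye12 ze34) (ke xe4 ye12 ze35) (ke xe11 ye15 ze25) (ke xe11 ye15 ze26) (ke xe11 ye15 ze27) (ke xe10 ye25 ze25) (ke xe10 ye25 ze26) (ke xe10 ye25 ze27) (ke xe4 ye13 ze1) (ke xe4 ye13 ze3) (ke xe11 ye15 ze34) (ke xe11 ye15 ze35) (ke xe10 ye25 ze35) (ke xe10 ye25 ze36) (ke xe10 ye25 ze37) (ke xe11 ye16 ze2) (ke xe10 ye25 ze39) (ke xe11 ye0 ze0) (ke xe11 ye0 ze1) (ke xe11 ye0 ze2) (ke xe11 ye16 ze5) (ke xe11 ye16 ze8) (ke xe4 ye13 ze9) (ke xe11 ye16 ze9) (ke xe11 ye0 ze7) (ke xe4 ye13 ze13) (ke xe4 ye13 ze12) (ke xe11 ye16 ze13) (ke xe11 ye16 ze12) (ke xe4 ye13 ze15) (ke xe4 ye13 ze16) (ke xe9 ye0 ze1) (ke xe11 ye16 ze16)) (@D3.rec (fun _ => Pt) (ke xe11 ye16 ze17) (ke xe11 ye16 ze18) (ke xe4 ye13 ze19) (ke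 xe4 ye13 ze20) (ke xe4 ye13 ze21) (ke xe4 ye13 ze22) (ke xe11 ye16 ze22) (ke xe11 ye16 ze23) (ke xe11 ye16 ze24) (ke xe11 ye16 ze25) (ke xe11 ye16 ze26) (ke xe11 ye0 ze30) (ke xe11 ye0 ze31) (ke xe11 ye0 ze32) (ke xe11 ye0 ze33) (ke xe9 ye23 ze1) (ke xe11 ye16 ze36) (ke xe11 ye16 ze38) (ke xe4 ye13 ze25) (ke xe9 ye23 ze11) (ke xe11 ye0 ze34) (ke xe11 ye0 ze35) (ke xe11 ye0 ze36) (ke xe11 ye0 ze37) (ke xe11 ye17 ze6) (ke xe11 ye0 ze39) (ke xe11 ye1 ze0) (ke xe11 ye1 ze1) (ke xe11 ye1 ze2) (ke xe11 ye17 ze15) (ke xe11 ye1 ze4) (ke xe11 ye1 ze5) (ke xe11 ye1 ze6) (ke xe11 ye17 ze20) (ke xe11 ye1 ze8) (ke xe11 ye1 ze9) (ke xe4 ye13 ze36) (ke xe11 ye17 ze25) (ke xe4 ye13 ze37) (ke xe11 ye17 ze29)) (@D3.rec (fun _ => Pt) (ke xe4 ye13 ze39) (ke xe11 ye17 ze31)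 (ke xe11 ye1 ze18) (ke xe11 ye1 ze19) (ke xe11 ye1 ze20) (ke xe11 ye1 ze21) (ke xe6 ye14 ze3) (ke xe11 ye1 ze23) (ke xe11 ye18 ze2) (ke xe11 ye1 ze25) (ke xe6 ye14 ze1) (ke xe4 ye14 ze6) (ke xe11 ye18 ze4) (ke xe11 ye1 ze29) (ke xe11 ye1 ze30) (ke xe11 ye1 ze31) (ke xe11 ye1 ze33) (ke xe11 ye1 ze35) (ke xe11 ye18 ze11) (ke xe11 ye1 ze37) (ke xe11 ye1 ze38) (ke xe4 ye14 ze13) (ke xe11 ye2 ze2) (ke xe11 ye2 ze3) (ke xe11 ye2 ze4) (ke xe11 ye2 ze5) (ke xe11 ye18 ze18) (ke xe11 ye2 ze7) (ke xe11 ye2 ze8) (ke xe11 ye18 ze21) (ke xe4 ye14 ze19) (ke xe11 ye18 ze23) (ke xe11 ye18 ze24) (ke xe11 ye2 ze13) (ke xe11 ye2 ze14) (ke xe11 ye2 ze15) (ke xe4 ye14 ze23) (ke xe11 ye2 ze21) (ke xe11 ye2 ze22) (ke xe11 ye18 ze30)) (@D3.rec (fun _ => Pt) (ke xe11 ye18 ze32)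 (ke xe4 ye14 ze26) (ke xe11 ye18 ze36) (ke xe11 ye18 ze37) (ke xe11 ye13 ze36) (ke xe4 ye14 ze28) (ke xe11 ye19 ze2) (ke xe4 ye14 ze30) (ke xe11 ye19 ze4) (ke xe11 ye2 ze37) (ke xe11 ye2 ze38) (ke xe11 ye2 ze39) (ke xe11 ye3 ze0) (ke xe6 ye12 ze6) (ke xe11 ye3 ze1) (ke xe4 ye14 ze37) (ke xe4 ye14 ze38) (ke xe8 ye0 ze7) (ke xe11 ye19 ze13) (ke xe11 ye3 ze6) (ke xe8 ye21 ze30) (ke xe11 ye3 ze7) (ke xe11 ye3 ze8) (ke xe9 ye22 ze18) (ke xe4 ye15 ze3) (ke xe4 ye15 ze5) (ke xe4 ye15 ze7) (ke xe11 ye19 ze17) (ke xe9 ye22 ze33) (ke xe11 ye3 ze9) (ke xe11 ye3 ze10) (ke xe11 ye3 ze11) (ke xe11 ye19 ze25) (ke xe11 ye3 ze13) (ke xe11 ye3 ze14) (ke xe4 ye15 ze11) (ke xe11 ye19 ze26) (ke xe11 ye3 ze17) (ke xe11 ye3 ze18) (ke xe11 ye19 ze28)) (@D3.rec (fun _ => Pt)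 (ke xe4 ye15 ze13) (ke xe11 ye19 ze30) (ke xe11 ye19 ze31) (ke xe11 ye3 ze23) (ke xe11 ye3 ze24) (ke xe11 ye19 ze32) (ke xe4 ye15 ze16) (ke xe11 ye19 ze36) (ke xe11 ye3 ze28) (ke xe11 ye3 ze29) (ke xe11 ye20 ze4) (ke xe4 ye15 ze19) (ke xe11 ye20 ze6) (ke xe11 ye20 ze7) (ke xe11 ye3 ze34) (ke xe11 ye3 ze35) (ke xe11 ye20 ze9) (ke xe4 ye15 ze22) (ke xe11 ye20 ze12) (ke xe4 ye15 ze24) (ke xe4 ye15 ze25) (ke xe11 ye20 ze15) (ke xe11 ye20 ze16) (ke xe11 ye4 ze4) (ke xe11 ye4 ze5) (ke xe4 ye15 ze28) (ke xe11 ye20 ze25) (ke xe11 ye20 ze26) (ke xe7 ye19 ze30) (ke xe4 ye15 ze30) (ke xe4 ye15 ze31) (ke xe11 ye20 ze30) (ke xe11 ye20 ze31) (ke xe4 ye15 ze35) (ke xe4 ye15 ze36) (ke xe8 ye0 ze10) (ke xe11 ye20 ze32) (ke xe11 ye4 ze18) (ke xe8 ye22 ze30) (ke xe11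 ye4 ze19)) (@D3.rec (fun _ => Pt) (ke xe11 ye4 ze20) (ke xe9 ye22 ze36) (ke xe4 ye16 ze1) (ke xe4 ye16 ze3) (ke xe4 ye16 ze5) (ke xe11 ye20 ze36) (ke xe9 ye23 ze12) (ke xe11 ye4 ze21) (ke xe11 ye4 ze22) (ke xe11 ye4 ze23) (ke xe11 ye21 ze4) (ke xe11 ye4 ze25) (ke xe11 ye4 ze26) (ke xe4 ye16 ze9) (ke xe11 ye21 ze5) (ke xe11 ye4 ze29) (ke xe11 ye4 ze30) (ke xe11 ye21 ze7) (ke xe4 ye16 ze11) (ke xe11 ye21 ze9) (ke xe11 ye21 ze10) (ke xe11 ye4 ze35) (ke xe11 ye4 ze36) (ke xe11 ye21 ze11) (ke xe4 ye16 ze14) (ke xe11 ye21 ze15) (ke xe11 ye5 ze0) (ke xe11 ye5 ze1) (ke xe11 ye21 ze23) (ke xe4 ye16 ze17) (ke xe11 ye21 ze25) (ke xe11 ye21 ze26) (ke xe11 ye5 ze6) (ke xe11 ye5 ze7) (ke xe11 ye21 ze28) (ke xe4 ye16 ze20) (ke xe11 ye21 ze31) (ke xe4 ye16 ze22) (ke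 xe4 ye16 ze23) (ke xe11 ye21 ze34)) (@D3.rec (fun _ => Pt) (ke xe11 ye21 ze35) (ke xe11 ye5 ze16) (ke xe11 ye5 ze17) (ke xe4 ye16 ze26) (ke xe11 ye22 ze4) (ke xe11 ye22 ze5) (ke xe7 ye20 ze34) (ke xe4 ye16 ze28) (ke xe4 ye16 ze29) (ke xe11 ye22 ze9) (ke xe11 ye22 ze10) (ke xe5 ye10 ze29) (ke xe6 ye11 ze19) (ke xe11 ye22 ze14) (ke xe4 ye16 ze36) (ke xe11 ye22 ze15) (ke xe10 ye4 ze27) (ke xe4 ye16 ze37) (ke xe4 ye18 ze28) (ke xe11 ye22 ze19) (ke xe6 ye13 ze15) (ke xe11 ye22 ze23) (ke xe6 ye12 ze33) (ke xe6 ye13 ze16) (ke xe4 ye17 ze1) (ke xe10 ye9 ze38) (ke xe4 ye18 ze25) (ke xe4 ye17 ze3) (ke xe5 ye20 ze30) (ke xe11 ye22 ze28) (ke xe7 ye17 ze28) (ke xe4 ye17 ze5) (ke xe4 ye17 ze6) (ke xe11 ye22 ze32) (ke xe9 ye9 ze35) (ke xe6 ye5 ze17) (ke xe4 ye17 ze8)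 (ke xe11 ye22 ze35) (ke xe11 ye22 ze38) (ke xe4 ye17 ze9)) (@D3.rec (fun _ => Pt) (ke xe11 ye23 ze2) (ke xe11 ye23 ze3) (ke xe11 ye23 ze1) (ke xe7 ye21 ze4) (ke xe11 ye23 ze6) (ke xe4 ye17 ze13) (ke xe11 ye23 ze9) (ke xe11 ye23 ze10) (ke xe4 ye17 ze17) (ke xe4 ye17 ze15) (ke xe4 ye17 ze16) (ke xe11 ye23 ze14) (ke xe11 ye23 ze12) (ke xe11 ye23 ze13) (ke xe4 ye17 ze37) (ke xe5 ye11 ze22) (ke xe6 ye10 ze15) (ke xe11 ye23 ze20) (ke xe4 ye17 ze25) (ke xe10 ye5 ze36) (ke xe11 ye23 ze21) (ke xe4 ye17 ze26) (ke xe4 ye19 ze7) (ke xe11 ye23 ze25) (ke xe6 ye15 ze9) (ke xe11 ye23 ze29) (ke xe6 ye15 ze10) (ke xe6 ye14 ze27) (ke xe4 ye17 ze30) (ke xe10 ye7 ze37) (ke xe4 ye19 ze4) (ke xe4 ye17 ze32) (ke xe11 ye23 ze34) (ke xe5 ye20 ze14) (ke xe7 ye19 ze6) (ke xe4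 ye17 ze34) (ke xe4 ye17 ze35) (ke xe9 ye9 ze15) (ke xe11 ye23 ze38) (ke xe6 ye4 ze26)) (@D3.rec (fun _ => Pt) (ke xe11 ye23 ze16) (ke xe11 ye24 ze3) (ke xe4 ye17 ze38) (ke xe11 ye24 ze4) (ke xe7 ye20 ze3) (ke xe11 ye24 ze7) (ke xe4 ye18 ze0) (ke xe11 ye24 ze9) (ke xe11 ye24 ze10) (ke xe4 ye18 ze4) (ke xe4 ye18 ze2) (ke xe4 ye18 ze3) (ke xe11 ye24 ze12) (ke xe4 ye18 ze12) (ke xe4 ye18 ze13) (ke xe4 ye18 ze16) (ke xe4 ye18 ze17) (ke xe4 ye18 ze19) (ke xe4 ye18 ze20) (ke xe11 ye24 ze21) (ke xe4 ye18 ze22) (ke xe4 ye18 ze23) (ke xe4 ye18 ze11) (ke xe11 ye24 ze24) (ke xe11 ye24 ze13) (ke xe4 ye18 ze34) (ke xe4 ye18 ze36) (ke xe4 ye18 ze37) (ke xe7 ye22 ze20) (ke xe7 ye22 ze21) (ke xe4 ye18 ze38) (ke xe11 ye24 ze14) (ke xe11 ye24 ze15) (ke xe11 ye25 ze3)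 (ke xe4 ye18 ze33) (ke xe11 ye24 ze17) (ke xe11 ye24 ze18) (ke xe11 ye24 ze19) (ke xe11 ye24 ze20) (ke xe11 ye25 ze12)) (@D3.rec (fun _ => Pt) (ke xe11 ye25 ze13) (ke xe4 ye18 ze21) (ke xe11 ye25 ze14) (ke xe11 ye22 ze16) (ke xe11 ye24 ze22) (ke xe11 ye24 ze23) (ke xe5 ye0 ze3) (ke xe9 ye13 ze32) (ke xe5 ye23 ze27) (ke xe9 ye13 ze27) (ke xe4 ye18 ze27) (ke xe11 ye25 ze24) (ke xe11 ye22 ze18) (ke xe4 ye18 ze39) (ke xe11 ye25 ze26) (ke xe4 ye19 ze1) (ke xe4 ye19 ze2) (ke xe4 ye18 ze32) (ke xe11 ye25 ze29) (ke xe11 ye24 ze27) (ke xe7 ye21 ze28) (ke xe7 ye21 ze29) (ke xe11 ye24 ze28) (ke xe11 ye24 ze29) (ke xe11 ye25 ze39) (ke xe11 ye24 ze33) (ke xe11 ye24 ze34) (ke xe11 ye24 ze35) (ke xe11 ye25 ze25) (ke xe12 ye0 ze8) (ke xe12 ye0 ze9) (ke xe4 ye19 ze0)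 (ke xe12 ye0 ze10) (ke xe11 ye23 ze22) (ke xe11 ye25 ze27) (ke xe11 ye25 ze28) (ke xe5 ye0 ze11) (ke xe9 ye14 ze9) (ke xe9 ye14 ze4) (ke xe5 ye23 ze39)) (@D3.rec (fun _ => Pt) (ke xe4 ye19 ze6) (ke xe12 ye0 ze18) (ke xe11 ye23 ze24) (ke xe4 ye19 ze18) (ke xe4 ye19 ze19) (ke xe8 ye25 ze38) (ke xe8 ye25 ze39) (ke xe12 ye0 ze19) (ke xe12 ye0 ze20) (ke xe12 ye0 ze21) (ke xe12 ye0 ze22) (ke xe5 ye0 ze14) (ke xe4 ye20 ze11) (ke xe4 ye20 ze12) (ke xe5 ye0 ze17) (ke xe5 ye0 ze18) (ke xe4 ye20 ze13) (ke xe4 ye20 ze14) (ke xe5 ye0 ze23) (ke xe5 ye0 ze24) (ke xe4 ye20 ze15) (ke xe4 ye20 ze16) (ke xe4 ye20 ze17) (ke xe4 ye20 ze18) (ke xe5 ye0 ze31) (ke xe5 ye0 ze32) (ke xe5 ye0 ze33) (ke xe5 ye0 ze34) (ke xe5 ye0 ze35) (ke xe5 ye0 ze36) (ke xe5 ye0 ze37) (ke xe5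 ye0 ze38) (ke xe5 ye0 ze39) (ke xe5 ye1 ze0) (ke xe4 ye20 ze20) (ke xe4 ye20 ze21) (ke xe4 ye20 ze22) (ke xe4 ye20 ze23) (ke xe4 ye20 ze25) (ke xe4 ye20 ze26)) (@D3.rec (fun _ => Pt) (ke xe4 ye20 ze27) (ke xe4 ye20 ze28) (ke xe5 ye1 ze18) (ke xe5 ye1 ze19) (ke xe5 ye1 ze21) (ke xe5 ye1 ze26) (ke xe5 ye1 ze27) (ke xe5 ye1 ze29) (ke xe4 ye20 ze31) (ke xe4 ye20 ze32) (ke xe4 ye20 ze35) (ke xe4 ye20 ze36) (ke xe12 ye0 ze27) (ke xe12 ye0 ze28) (ke xe12 ye0 ze35) (ke xe12 ye0 ze36) (ke xe12 ye0 ze37) (ke xe12 ye0 ze38) (ke xe12 ye0 ze39) (ke xe12 ye1 ze0) (ke xe10 ye22 ze10) (ke xe10 ye22 ze17) (ke xe12 ye1 ze11) (ke xe12 ye1 ze12) (ke xe12 ye1 ze13) (ke xe12 ye1 ze14) (ke xe12 ye1 ze15) (ke xe12 ye1 ze16) (ke xe12 ye2 ze14) (ke xe12 ye1 ze18) (ke xe12 ye1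 ze19) (ke xe11 ye0 ze10) (ke xe11 ye0 ze18) (ke xe12 ye1 ze20) (ke xe12 ye1 ze21) (ke xe12 ye1 ze22) (ke xe12 ye1 ze23) (ke xe12 ye1 ze24) (ke xe12 ye1 ze25) (ke xe12 ye2 ze20)) (@D3.rec (fun _ => Pt) (ke xe12 ye1 ze27) (ke xe12 ye1 ze28) (ke xe6 ye24 ze12) (ke xe10 ye15 ze33) (ke xe6 ye23 ze32) (ke xe12 ye1 ze35) (ke xe12 ye1 ze36) (ke xe12 ye1 ze37) (ke xe12 ye1 ze38) (ke xe12 ye1 ze39) (ke xe12 ye2 ze0) (ke xe7 ye0 ze32) (ke xe10 ye16 ze31) (ke xe7 ye0 ze13) (ke xe12 ye2 ze1) (ke xe12 ye2 ze2) (ke xe12 ye2 ze3) (ke xe12 ye2 ze4) (ke xe12 ye2 ze5) (ke xe12 ye2 ze6) (ke xe4 ye21 ze9) (ke xe4 ye21 ze10) (ke xe4 ye21 ze11) (ke xe4 ye21 ze12) (ke xe4 ye21 ze13) (ke xe4 ye21 ze14) (ke xe4 ye21 ze15) (ke xe4 ye21 ze16) (ke xe4 ye21 ze17) (ke xe7 ye5 ze19)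 (ke xe4 ye21 ze19) (ke xe4 ye21 ze20) (ke xe4 ye21 ze21) (ke xe4 ye21 ze22) (ke xe4 ye21 ze23) (ke xe7 ye5 ze33) (ke xe4 ye21 ze25) (ke xe4 ye21 ze26) (ke xe4 ye21 ze5) (ke xe4 ye21 ze6))
def f_e_8 : D2 → D3 → Pt := @D2.rec (fun _ => D3 → Pt) (@D3.rec (fun _ => Pt) (ke xe4 ye22 ze3) (ke xe4 ye22 ze4) (ke xe4 ye22 ze5) (ke xe4 ye22 ze7) (ke xe4 ye22 ze8) (ke xe4 ye22 ze9) (ke xe7 ye2 ze9) (ke xe7 ye16 ze17) (ke xe12 ye2 ze33) (ke xe7 ye3 ze0) (ke xe7 ye17 ze35) (ke xe12 ye2 ze34) (ke xe12 ye2 ze35) (ke xe6 ye18 ze6) (ke xe7 ye5 ze20) (ke xe12 ye2 ze36) (ke xe4 ye21 ze18) (ke xe11 ye19 ze15) (ke xe11 ye3 ze2) (ke xe11 ye22 ze3) (ke xe12 ye2 ze37) (ke xe6 ye18 ze17) (ke xe7 ye5 ze34) (ke xe12 ye2 ze38) (ke xe4 ye21 ze24) (ke xe11 ye20 ze34) (ke xe11 ye4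 ze14) (ke xe11 ye20 ze24) (ke xe4 ye22 ze39) (ke xe4 ye23 ze0) (ke xe6 ye11 ze27) (ke xe10 ye1 ze28) (ke xe10 ye1 ze29) (ke xe6 ye8 ze38) (ke xe6 ye13 ze23) (ke xe10 ye2 ze38) (ke xe10 ye2 ze39) (ke xe6 ye7 ze39) (ke xe4 ye23 ze22) (ke xe4 ye23 ze23)) (@D3.rec (fun _ => Pt) (ke xe8 ye11 ze28) (ke xe4 ye23 ze24) (ke xe4 ye23 ze25) (ke xe4 ye23 ze26) (ke xe4 ye23 ze27) (ke xe4 ye23 ze28) (ke xe4 ye23 ze29) (ke xe4 ye23 ze30) (ke xe8 ye12 ze25) (ke xe4 ye23 ze31) (ke xe4 ye23 ze32) (ke xe4 ye23 ze33) (ke xe4 ye23 ze34) (ke xe4 ye23 ze35) (ke xe6 ye11 ze36) (ke xe12 ye2 ze39) (ke xe12 ye3 ze0) (ke xe7 ye8 ze8) (ke xe10 ye6 ze7) (ke xe7 ye8 ze4) (ke xe7 ye7 ze35) (ke xe6 ye13 ze32) (ke xe12 ye3 ze1) (ke xe12 ye3 ze2) (ke xe7 ye7 ze3) (ke xe10 ye8 ze12) (ke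 xe7 ye6 ze39) (ke xe7 ye6 ze30) (ke xe4 ye24 ze18) (ke xe4 ye24 ze19) (ke xe12 ye4 ze24) (ke xe4 ye24 ze21) (ke xe4 ye24 ze22) (ke xe4 ye22 ze14) (ke xe12 ye4 ze29) (ke xe4 ye24 ze25) (ke xe4 ye24 ze26) (ke xe4 ye24 ze27) (ke xe4 ye24 ze28) (ke xe4 ye24 ze29)) (@D3.rec (fun _ => Pt) (ke xe4 ye24 ze30) (ke xe4 ye24 ze31) (ke xe4 ye24 ze32) (ke xe4 ye24 ze33) (ke xe12 ye5 ze6) (ke xe4 ye24 ze35) (ke xe4 ye24 ze36) (ke xe4 ye24 ze37) (ke xe4 ye24 ze38) (ke xe12 ye5 ze13) (ke xe4 ye25 ze0) (ke xe4 ye25 ze1) (ke xe4 ye22 ze24) (ke xe12 ye5 ze18) (ke xe4 ye25 ze4) (ke xe4 ye25 ze5) (ke xe4 ye25 ze6) (ke xe4 ye25 ze7) (ke xe4 ye25 ze8) (ke xe4 ye25 ze9) (ke xe4 ye25 ze10) (ke xe4 ye25 ze11) (ke xe4 ye25 ze12) (ke xe12 ye5 ze35) (ke xe4 ye25 ze14) (ke xe4 ye25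 ze15) (ke xe4 ye22 ze32) (ke xe12 ye5 ze39) (ke xe4 ye25 ze24) (ke xe4 ye25 ze25) (ke xe4 ye22 ze34) (ke xe4 ye22 ze36) (ke xe12 ye6 ze6) (ke xe4 ye25 ze35) (ke xe4 ye25 ze36) (ke xe4 ye22 ze38) (ke xe5 ye13 ze31) (ke xe4 ye23 ze3) (ke xe4 ye23 ze4) (ke xe9 ye1 ze15)) (@D3.rec (fun _ => Pt) (ke xe9 ye1 ze16) (ke xe4 ye23 ze8) (ke xe4 ye23 ze10) (ke xe4 ye23 ze16) (ke xe4 ye23 ze20) (ke xe6 ye11 ze26) (ke xe10 ye4 ze35) (ke xe10 ye4 ze34) (ke xe6 ye13 ze22) (ke xe10 ye3 ze20) (ke xe10 ye3 ze19) (ke xe10 ye1 ze9) (ke xe12 ye3 ze21) (ke xe12 ye3 ze24) (ke xe12 ye3 ze25) (ke xe12 ye3 ze26) (ke xe12 ye3 ze27) (ke xe12 ye3 ze28) (ke xe12 ye3 ze29) (ke xe10 ye0 ze35) (ke xe12 ye3 ze30) (ke xe12 ye3 ze31) (ke xe10 ye2 ze19) (ke xe12 ye3 ze32) (ke xe12 ye3 ze35)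 (ke xe12 ye3 ze36) (ke xe12 ye3 ze37) (ke xe12 ye3 ze38) (ke xe12 ye3 ze39) (ke xe12 ye4 ze0) (ke xe10 ye0 ze1) (ke xe12 ye4 ze1) (ke xe12 ye4 ze2) (ke xe4 ye24 ze4) (ke xe4 ye24 ze6) (ke xe4 ye24 ze10) (ke xe4 ye24 ze11) (ke xe4 ye24 ze13) (ke xe4 ye24 ze17) (ke xe8 ye25 ze15)) (@D3.rec (fun _ => Pt) (ke xe9 ye25 ze9) (ke xe9 ye25 ze7) (ke xe10 ye6 ze8) (ke xe6 ye11 ze17) (ke xe9 ye17 ze37) (ke xe9 ye25 ze1) (ke xe11 ye22 ze29) (ke xe8 ye24 ze8) (ke xe9 ye24 ze14) (ke xe9 ye24 ze12) (ke xe10 ye8 ze13) (ke xe6 ye10 ze13) (ke xe9 ye17 ze3) (ke xe9 ye24 ze4) (ke xe11 ye23 ze35) (ke xe12 ye4 ze21) (ke xe12 ye4 ze23) (ke xe4 ye24 ze20) (ke xe12 ye7 ze0) (ke xe12 ye4 ze26) (ke xe12 ye4 ze27) (ke xe12 ye4 ze28) (ke xe4 ye24 ze24) (ke xe12 ye7 ze3) (ke xe12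 ye4 ze32) (ke xe12 ye4 ze33) (ke xe9 ye17 ze39) (ke xe12 ye4 ze34) (ke xe12 ye7 ze7) (ke xe12 ye4 ze36) (ke xe12 ye4 ze37) (ke xe12 ye4 ze17) (ke xe9 ye4 ze2) (ke xe12 ye4 ze38) (ke xe12 ye4 ze39) (ke xe12 ye5 ze0) (ke xe12 ye5 ze1) (ke xe12 ye5 ze2) (ke xe12 ye5 ze4) (ke xe12 ye7 ze18)) (@D3.rec (fun _ => Pt) (ke xe4 ye24 ze34) (ke xe12 ye7 ze20) (ke xe12 ye5 ze8) (ke xe12 ye5 ze9) (ke xe12 ye5 ze10) (ke xe12 ye5 ze12) (ke xe4 ye24 ze39) (ke xe12 ye7 ze25) (ke xe12 ye5 ze15) (ke xe12 ye5 ze16) (ke xe12 ye5 ze17) (ke xe4 ye25 ze3) (ke xe12 ye7 ze28) (ke xe12 ye5 ze21) (ke xe12 ye5 ze22) (ke xe9 ye17 ze5) (ke xe12 ye5 ze23) (ke xe12 ye7 ze32) (ke xe12 ye5 ze25) (ke xe12 ye5 ze26) (ke xe12 ye4 ze8) (ke xe9 ye3 ze26) (ke xe12 ye5 ze27) (ke xe12 ye5 ze28)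 (ke xe12 ye5 ze29) (ke xe12 ye5 ze30) (ke xe12 ye5 ze31) (ke xe12 ye5 ze33) (ke xe12 ye8 ze3) (ke xe4 ye25 ze13) (ke xe12 ye8 ze5) (ke xe12 ye5 ze37) (ke xe12 ye5 ze38) (ke xe6 ye18 ze9) (ke xe4 ye25 ze19) (ke xe12 ye8 ze10) (ke xe4 ye25 ze21) (ke xe4 ye25 ze23) (ke xe12 ye8 ze11) (ke xe12 ye6 ze3)) (@D3.rec (fun _ => Pt) (ke xe12 ye6 ze4) (ke xe12 ye6 ze5) (ke xe6 ye18 ze20) (ke xe4 ye25 ze30) (ke xe12 ye8 ze14) (ke xe4 ye25 ze32) (ke xe4 ye25 ze34) (ke xe12 ye8 ze15) (ke xe12 ye6 ze10) (ke xe12 ye6 ze11) (ke xe12 ye6 ze12) (ke xe5 ye20 ze19) (ke xe5 ye0 ze2) (ke xe12 ye8 ze17) (ke xe11 ye25 ze20) (ke xe11 ye25 ze21) (ke xe9 ye9 ze20) (ke xe5 ye0 ze4) (ke xe9 ye9 ze21) (ke xe8 ye20 ze25) (ke xe5 ye20 ze35) (ke xe5 ye0 ze10) (ke xe12 ye8 ze19) (ke xe12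 ye0 ze14) (ke xe12 ye0 ze15) (ke xe9 ye10 ze0) (ke xe5 ye0 ze12) (ke xe9 ye10 ze1) (ke xe8 ye19 ze11) (ke xe12 ye0 ze23) (ke xe12 ye0 ze24) (ke xe5 ye4 ze17) (ke xe5 ye4 ze18) (ke xe9 ye10 ze21) (ke xe12 ye0 ze25) (ke xe9 ye11 ze34) (ke xe12 ye0 ze26) (ke xe5 ye4 ze19) (ke xe5 ye4 ze20) (ke xe5 ye4 ze21)) (@D3.rec (fun _ => Pt) (ke xe5 ye4 ze22) (ke xe5 ye4 ze23) (ke xe5 ye4 ze24) (ke xe5 ye4 ze25) (ke xe5 ye4 ze26) (ke xe12 ye0 ze29) (ke xe12 ye0 ze30) (ke xe12 ye0 ze31) (ke xe12 ye0 ze32) (ke xe12 ye0 ze33) (ke xe12 ye0 ze34) (ke xe5 ye4 ze27) (ke xe5 ye4 ze28) (ke xe5 ye4 ze29) (ke xe5 ye4 ze30) (ke xe5 ye4 ze31) (ke xe5 ye4 ze32) (ke xe5 ye4 ze33) (ke xe5 ye4 ze34) (ke xe5 ye4 ze35) (ke xe5 ye4 ze36) (ke xe8 ye7 ze22) (ke xe8 ye7 ze21) (ke xe12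 ye1 ze1) (ke xe8 ye7 ze25) (ke xe8 ye7 ze24) (ke xe12 ye1 ze2) (ke xe10 ye22 ze14) (ke xe12 ye1 ze3) (ke xe12 ye1 ze4) (ke xe12 ye1 ze5) (ke xe12 ye1 ze6) (ke xe11 ye0 ze14) (ke xe12 ye1 ze7) (ke xe12 ye1 ze8) (ke xe12 ye1 ze9) (ke xe12 ye1 ze10) (ke xe5 ye4 ze37) (ke xe5 ye4 ze38) (ke xe5 ye4 ze39)) (@D3.rec (fun _ => Pt) (ke xe5 ye5 ze0) (ke xe9 ye4 ze38) (ke xe5 ye1 ze3) (ke xe12 ye10 ze13) (ke xe5 ye5 ze3) (ke xe5 ye5 ze4) (ke xe5 ye5 ze5) (ke xe5 ye5 ze6) (ke xe5 ye5 ze7) (ke xe5 ye5 ze8) (ke xe5 ye5 ze9) (ke xe5 ye5 ze11) (ke xe5 ye5 ze12) (ke xe5 ye5 ze13) (ke xe5 ye5 ze14) (ke xe5 ye5 ze15) (ke xe5 ye5 ze16) (ke xe9 ye5 ze36) (ke xe5 ye1 ze11) (ke xe12 ye10 ze28) (ke xe5 ye5 ze19) (ke xe5 ye5 ze20) (ke xe5 ye5 ze21) (ke xe5 ye5 ze22) (ke xe5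 ye5 ze23) (ke xe5 ye5 ze24) (ke xe5 ye5 ze25) (ke xe5 ye5 ze27) (ke xe5 ye5 ze28) (ke xe6 ye19 ze2) (ke xe10 ye15 ze32) (ke xe12 ye1 ze29) (ke xe12 ye1 ze30) (ke xe8 ye9 ze10) (ke xe8 ye9 ze11) (ke xe8 ye9 ze12) (ke xe12 ye1 ze31) (ke xe8 ye9 ze9) (ke xe8 ye9 ze5) (ke xe8 ye9 ze6)) (@D3.rec (fun _ => Pt) (ke xe8 ye9 ze7) (ke xe6 ye19 ze18) (ke xe10 ye16 ze30) (ke xe12 ye1 ze32) (ke xe12 ye1 ze33) (ke xe8 ye8 ze38) (ke xe8 ye8 ze39) (ke xe8 ye9 ze0) (ke xe12 ye1 ze34) (ke xe8 ye8 ze37) (ke xe8 ye8 ze33) (ke xe8 ye8 ze34) (ke xe8 ye8 ze35) (ke xe5 ye5 ze29) (ke xe5 ye5 ze30) (ke xe5 ye5 ze31) (ke xe5 ye5 ze32) (ke xe12 ye12 ze1) (ke xe5 ye5 ze34) (ke xe5 ye5 ze35) (ke xe5 ye5 ze36) (ke xe5 ye5 ze37) (ke xe5 ye5 ze38) (ke xe12 ye12 ze11) (ke xe5 ye6 ze0)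 (ke xe5 ye6 ze1) (ke xe5 ye1 ze38) (ke xe12 ye12 ze17) (ke xe5 ye6 ze4) (ke xe5 ye6 ze5) (ke xe5 ye6 ze6) (ke xe5 ye6 ze7) (ke xe5 ye2 ze2) (ke xe12 ye12 ze27) (ke xe12 ye12 ze28) (ke xe5 ye6 ze11) (ke xe5 ye6 ze12) (ke xe5 ye6 ze13) (ke xe5 ye6 ze14) (ke xe5 ye6 ze15)) (@D3.rec (fun _ => Pt) (ke xe5 ye6 ze16) (ke xe12 ye13 ze7) (ke xe5 ye6 ze18) (ke xe5 ye6 ze19) (ke xe5 ye6 ze20) (ke xe5 ye6 ze21) (ke xe5 ye6 ze22) (ke xe5 ye6 ze23) (ke xe5 ye6 ze24) (ke xe5 ye6 ze25) (ke xe5 ye6 ze26) (ke xe5 ye6 ze27) (ke xe12 ye13 ze25) (ke xe5 ye6 ze29) (ke xe5 ye6 ze30) (ke xe5 ye2 ze12) (ke xe8 ye11 ze21) (ke xe5 ye6 ze32) (ke xe5 ye6 ze33) (ke xe5 ye6 ze34) (ke xe5 ye6 ze35) (ke xe5 ye6 ze36) (ke xe12 ye13 ze37) (ke xe5 ye6 ze38) (ke xe5 ye6 ze39) (ke xe5 ye7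 ze0) (ke xe5 ye7 ze1) (ke xe5 ye7 ze2) (ke xe12 ye14 ze6) (ke xe5 ye7 ze4) (ke xe5 ye7 ze5) (ke xe5 ye2 ze20) (ke xe12 ye14 ze12) (ke xe5 ye7 ze8) (ke xe5 ye7 ze9) (ke xe5 ye7 ze10) (ke xe5 ye7 ze11) (ke xe5 ye2 ze24) (ke xe12 ye14 ze21) (ke xe12 ye14 ze22)) (@D3.rec (fun _ => Pt) (ke xe5 ye7 ze15) (ke xe5 ye7 ze16) (ke xe5 ye7 ze17) (ke xe5 ye7 ze18) (ke xe5 ye7 ze19) (ke xe5 ye6 ze17) (ke xe12 ye13 ze6) (ke xe5 ye6 ze28) (ke xe5 ye7 ze20) (ke xe5 ye7 ze21) (ke xe5 ye7 ze22) (ke xe5 ye7 ze23) (ke xe5 ye7 ze24) (ke xe5 ye7 ze25) (ke xe5 ye7 ze26) (ke xe5 ye7 ze27) (ke xe5 ye7 ze28) (ke xe12 ye13 ze8) (ke xe5 ye7 ze29) (ke xe5 ye7 ze30) (ke xe5 ye2 ze34) (ke xe8 ye10 ze16) (ke xe5 ye7 ze32) (ke xe5 ye7 ze35) (ke xe5 ye7 ze36) (ke xe12 ye15 ze21) (ke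 xe5 ye7 ze39) (ke xe5 ye8 ze0) (ke xe8 ye1 ze0) (ke xe5 ye3 ze0) (ke xe6 ye23 ze9) (ke xe12 ye15 ze26) (ke xe5 ye8 ze3) (ke xe5 ye8 ze4) (ke xe5 ye3 ze5) (ke xe5 ye3 ze6) (ke xe12 ye15 ze31) (ke xe12 ye15 ze32) (ke xe12 ye15 ze33) (ke xe12 ye15 ze34)) (@D3.rec (fun _ => Pt) (ke xe5 ye8 ze17) (ke xe5 ye8 ze18) (ke xe5 ye8 ze19) (ke xe12 ye16 ze9) (ke xe5 ye8 ze21) (ke xe5 ye8 ze22) (ke xe5 ye8 ze23) (ke xe5 ye8 ze24) (ke xe5 ye8 ze25) (ke xe5 ye8 ze26) (ke xe12 ye16 ze21) (ke xe12 ye16 ze23) (ke xe5 ye3 ze12) (ke xe5 ye8 ze30) (ke xe12 ye16 ze29) (ke xe5 ye8 ze32) (ke xe5 ye8 ze33) (ke xe5 ye3 ze14) (ke xe12 ye16 ze35) (ke xe5 ye3 ze15) (ke xe5 ye8 ze39) (ke xe5 ye9 ze0) (ke xe12 ye17 ze0) (ke xe5 ye9 ze3) (ke xe5 ye9 ze4) (ke xe8 ye1 ze8) (ke xe5 ye3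 ze20) (ke xe12 ye17 ze5) (ke xe6 ye25 ze31) (ke xe5 ye9 ze7) (ke xe5 ye9 ze8) (ke xe5 ye3 ze25) (ke xe5 ye3 ze26) (ke xe12 ye17 ze10) (ke xe12 ye17 ze11) (ke xe12 ye17 ze12) (ke xe12 ye17 ze13) (ke xe5 ye9 ze21) (ke xe5 ye9 ze22) (ke xe5 ye9 ze23)) (@D3.rec (fun _ => Pt) (ke xe12 ye17 ze28) (ke xe5 ye9 ze25) (ke xe5 ye9 ze26) (ke xe5 ye9 ze27) (ke xe5 ye9 ze28) (ke xe5 ye9 ze29) (ke xe5 ye9 ze30) (ke xe12 ye18 ze0) (ke xe12 ye18 ze2) (ke xe5 ye3 ze32) (ke xe5 ye9 ze34) (ke xe12 ye18 ze8) (ke xe5 ye9 ze36) (ke xe5 ye9 ze37) (ke xe5 ye3 ze34) (ke xe12 ye18 ze14) (ke xe5 ye3 ze35) (ke xe9 ye19 ze2) (ke xe7 ye8 ze21) (ke xe10 ye21 ze7) (ke xe6 ye5 ze31) (ke xe7 ye3 ze31) (ke xe7 ye3 ze32) (ke xe7 ye3 ze33) (ke xe12 ye18 ze27) (ke xe9 ye7 ze3) (ke xe9 ye7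 ze4) (ke xe12 ye18 ze34) (ke xe9 ye7 ze6) (ke xe9 ye7 ze7) (ke xe5 ye4 ze6) (ke xe9 ye19 ze36) (ke xe7 ye12 ze27) (ke xe10 ye25 ze10) (ke xe6 ye6 ze25) (ke xe7 ye3 ze35) (ke xe7 ye3 ze36) (ke xe7 ye3 ze37) (ke xe12 ye19 ze7) (ke xe9 ye7 ze9)) (@D3.rec (fun _ => Pt) (ke xe9 ye7 ze10) (ke xe12 ye19 ze13) (ke xe9 ye7 ze12) (ke xe5 ye4 ze16) (ke xe6 ye23 ze30) (ke xe12 ye8 ze21) (ke xe7 ye0 ze11) (ke xe12 ye8 ze22) (ke xe6 ye24 ze3) (ke xe12 ye8 ze31) (ke xe12 ye8 ze32) (ke xe12 ye8 ze33) (ke xe12 ye8 ze34) (ke xe12 ye8 ze35) (ke xe7 ye0 ze23) (ke xe12 ye8 ze36) (ke xe12 ye8 ze37) (ke xe12 ye8 ze38) (ke xe12 ye8 ze39) (ke xe12 ye9 ze0) (ke xe12 ye9 ze13) (ke xe12 ye9 ze14) (ke xe12 ye9 ze15) (ke xe12 ye9 ze16) (ke xe12 ye9 ze17) (ke xe12 ye9 ze18) (ke xe11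 ye20 ze29) (ke xe12 ye9 ze19) (ke xe12 ye9 ze20) (ke xe12 ye9 ze21) (ke xe12 ye9 ze22) (ke xe12 ye9 ze23) (ke xe12 ye9 ze24) (ke xe11 ye22 ze7) (ke xe7 ye0 ze31) (ke xe12 ye10 ze12) (ke xe11 ye0 ze16) (ke xe5 ye5 ze2) (ke xe12 ye19 ze17) (ke xe12 ye10 ze15)) (@D3.rec (fun _ => Pt) (ke xe12 ye10 ze16) (ke xe12 ye10 ze17) (ke xe12 ye10 ze18) (ke xe12 ye10 ze19) (ke xe12 ye10 ze20) (ke xe12 ye10 ze21) (ke xe12 ye10 ze22) (ke xe12 ye10 ze23) (ke xe12 ye10 ze24) (ke xe12 ye10 ze25) (ke xe6 ye24 ze11) (ke xe12 ye10 ze27) (ke xe10 ye22 ze18) (ke xe5 ye5 ze18) (ke xe12 ye19 ze30) (ke xe12 ye10 ze30) (ke xe12 ye10 ze31) (ke xe12 ye10 ze32) (ke xe12 ye10 ze33) (ke xe12 ye10 ze34) (ke xe12 ye10 ze35) (ke xe12 ye10 ze36) (ke xe12 ye10 ze37) (ke xe12 ye10 ze38)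 (ke xe12 ye10 ze39) (ke xe12 ye11 ze0) (ke xe12 ye20 ze3) (ke xe12 ye11 ze34) (ke xe12 ye11 ze35) (ke xe10 ye21 ze28) (ke xe12 ye11 ze36) (ke xe12 ye11 ze38) (ke xe12 ye11 ze39) (ke xe5 ye5 ze33) (ke xe12 ye20 ze4) (ke xe12 ye12 ze4) (ke xe12 ye12 ze5) (ke xe12 ye12 ze6) (ke xe11 ye0 ze17) (ke xe12 ye12 ze7)) (@D3.rec (fun _ => Pt) (ke xe12 ye12 ze8) (ke xe12 ye12 ze9) (ke xe12 ye12 ze10) (ke xe5 ye5 ze39) (ke xe12 ye20 ze10) (ke xe12 ye12 ze14) (ke xe12 ye12 ze15) (ke xe12 ye12 ze16) (ke xe5 ye6 ze3) (ke xe12 ye20 ze18) (ke xe12 ye12 ze19) (ke xe12 ye12 ze20) (ke xe12 ye12 ze21) (ke xe12 ye12 ze22) (ke xe12 ye12 ze23) (ke xe12 ye12 ze24) (ke xe12 ye20 ze27) (ke xe12 ye12 ze26) (ke xe5 ye6 ze9) (ke xe5 ye6 ze10) (ke xe12 ye20 ze29) (ke xe12 ye20 ze30)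 (ke xe12 ye20 ze31) (ke xe12 ye12 ze33) (ke xe12 ye12 ze34) (ke xe12 ye14 ze39) (ke xe12 ye12 ze36) (ke xe12 ye12 ze37) (ke xe12 ye12 ze38) (ke xe12 ye12 ze39) (ke xe12 ye13 ze0) (ke xe12 ye13 ze1) (ke xe12 ye13 ze2) (ke xe12 ye13 ze3) (ke xe12 ye13 ze4) (ke xe12 ye13 ze5) (ke xe12 ye13 ze9) (ke xe12 ye13 ze10) (ke xe12 ye13 ze11) (ke xe12 ye13 ze12)) (@D3.rec (fun _ => Pt) (ke xe12 ye13 ze13) (ke xe12 ye13 ze14) (ke xe12 ye13 ze16) (ke xe12 ye13 ze17) (ke xe12 ye13 ze18) (ke xe12 ye13 ze19) (ke xe12 ye13 ze20) (ke xe12 ye13 ze21) (ke xe12 ye13 ze22) (ke xe12 ye15 ze0) (ke xe12 ye13 ze24) (ke xe12 ye13 ze27) (ke xe12 ye13 ze28) (ke xe12 ye21 ze24) (ke xe12 ye13 ze30) (ke xe12 ye13 ze31) (ke xe12 ye13 ze32) (ke xe10 ye25 ze29) (ke xe12 ye13 ze34) (ke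 xe12 ye13 ze35) (ke xe5 ye6 ze37) (ke xe12 ye21 ze25) (ke xe12 ye14 ze0) (ke xe12 ye14 ze1) (ke xe12 ye14 ze2) (ke xe12 ye14 ze3) (ke xe12 ye14 ze4) (ke xe12 ye14 ze5) (ke xe10 ye22 ze19) (ke xe5 ye7 ze3) (ke xe12 ye21 ze30) (ke xe12 ye14 ze9) (ke xe12 ye14 ze10) (ke xe12 ye14 ze11) (ke xe5 ye7 ze7) (ke xe12 ye21 ze38) (ke xe12 ye14 ze14) (ke xe12 ye14 ze15) (ke xe12 ye14 ze16) (ke xe12 ye14 ze17)) (@D3.rec (fun _ => Pt) (ke xe12 ye14 ze18) (ke xe12 ye22 ze6) (ke xe12 ye14 ze20) (ke xe5 ye7 ze13) (ke xe5 ye7 ze14) (ke xe12 ye22 ze8) (ke xe12 ye22 ze9) (ke xe12 ye22 ze10) (ke xe12 ye14 ze27) (ke xe12 ye14 ze28) (ke xe12 ye14 ze30) (ke xe12 ye14 ze31) (ke xe12 ye14 ze32) (ke xe12 ye14 ze33) (ke xe12 ye14 ze34) (ke xe12 ye14 ze35) (ke xe12 ye14 ze36) (ke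 xe12 ye14 ze37) (ke xe12 ye14 ze38) (ke xe12 ye15 ze1) (ke xe12 ye15 ze2) (ke xe12 ye15 ze3) (ke xe12 ye15 ze4) (ke xe12 ye15 ze5) (ke xe12 ye15 ze7) (ke xe12 ye15 ze8) (ke xe12 ye15 ze9) (ke xe12 ye15 ze10) (ke xe12 ye15 ze11) (ke xe12 ye15 ze12) (ke xe12 ye15 ze13) (ke xe12 ye15 ze15) (ke xe12 ye15 ze17) (ke xe12 ye15 ze18) (ke xe10 ye15 ze28) (ke xe10 ye15 ze29) (ke xe6 ye15 ze19) (ke xe6 ye15 ze17) (ke xe11 ye7 ze7) (ke xe12 ye15 ze19)) (@D3.rec (fun _ => Pt) (ke xe12 ye15 ze20) (ke xe5 ye7 ze38) (ke xe12 ye15 ze24) (ke xe5 ye8 ze2) (ke xe12 ye15 ze29) (ke xe12 ye15 ze30) (ke xe5 ye8 ze6) (ke xe5 ye8 ze7) (ke xe12 ye22 ze37) (ke xe12 ye22 ze38) (ke xe12 ye22 ze39) (ke xe8 ye6 ze28) (ke xe5 ye8 ze10) (ke xe5 ye8 ze13) (ke xe5 ye8 ze14) (ke xe5 ye8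 ze15) (ke xe5 ye8 ze16) (ke xe12 ye23 ze2) (ke xe12 ye23 ze3) (ke xe12 ye23 ze4) (ke xe12 ye23 ze7) (ke xe12 ye16 ze6) (ke xe12 ye16 ze7) (ke xe12 ye23 ze13) (ke xe5 ye8 ze20) (ke xe12 ye16 ze11) (ke xe12 ye16 ze12) (ke xe12 ye16 ze13) (ke xe12 ye16 ze14) (ke xe12 ye16 ze15) (ke xe12 ye16 ze16) (ke xe12 ye16 ze17) (ke xe12 ye16 ze18) (ke xe12 ye23 ze22) (ke xe12 ye16 ze20) (ke xe5 ye8 ze27) (ke xe12 ye23 ze25) (ke xe5 ye8 ze28) (ke xe12 ye16 ze24) (ke xe12 ye23 ze30)) (@D3.rec (fun _ => Pt) (ke xe12 ye16 ze26) (ke xe12 ye16 ze27) (ke xe5 ye8 ze31) (ke xe12 ye16 ze32) (ke xe12 ye16 ze33) (ke xe12 ye23 ze36) (ke xe5 ye8 ze35) (ke xe12 ye23 ze38) (ke xe10 ye16 ze26) (ke xe10 ye16 ze27) (ke xe6 ye16 ze1) (ke xe11 ye8 ze10) (ke xe6 ye15 ze38) (ke xe12 ye16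 ze38) (ke xe12 ye16 ze39) (ke xe5 ye9 ze2) (ke xe12 ye17 ze3) (ke xe5 ye9 ze6) (ke xe12 ye17 ze8) (ke xe12 ye17 ze9) (ke xe5 ye9 ze11) (ke xe5 ye9 ze10) (ke xe12 ye24 ze10) (ke xe12 ye24 ze11) (ke xe12 ye24 ze9) (ke xe8 ye6 ze19) (ke xe5 ye9 ze14) (ke xe5 ye9 ze17) (ke xe5 ye9 ze18) (ke xe5 ye9 ze19) (ke xe5 ye9 ze20) (ke xe12 ye24 ze14) (ke xe12 ye24 ze15) (ke xe12 ye24 ze16) (ke xe12 ye24 ze19) (ke xe12 ye17 ze25) (ke xe12 ye17 ze26) (ke xe12 ye24 ze25) (ke xe5 ye9 ze24) (ke xe12 ye17 ze30)) (@D3.rec (fun _ => Pt) (ke xe12 ye17 ze31) (ke xe12 ye17 ze32) (ke xe12 ye17 ze33) (ke xe12 ye17 ze34) (ke xe12 ye17 ze35) (ke xe12 ye17 ze36) (ke xe12 ye17 ze37) (ke xe12 ye24 ze34) (ke xe12 ye17 ze39) (ke xe5 ye9 ze31) (ke xe12 ye24 ze37) (ke xe5 ye9 ze32) (ke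 xe12 ye18 ze3) (ke xe12 ye25 ze2) (ke xe12 ye18 ze5) (ke xe12 ye18 ze6) (ke xe5 ye9 ze35) (ke xe12 ye18 ze11) (ke xe12 ye18 ze12) (ke xe12 ye25 ze8) (ke xe5 ye9 ze39) (ke xe12 ye25 ze10) (ke xe5 ye10 ze1) (ke xe8 ye21 ze25) (ke xe5 ye10 ze3) (ke xe8 ye21 ze23) (ke xe5 ye10 ze5) (ke xe5 ye10 ze6) (ke xe12 ye25 ze12) (ke xe5 ye10 ze9) (ke xe7 ye16 ze20) (ke xe12 ye25 ze13) (ke xe5 ye10 ze11) (ke xe12 ye25 ze16) (ke xe8 ye22 ze36) (ke xe5 ye11 ze5) (ke xe5 ye10 ze19) (ke xe5 ye10 ze18) (ke xe12 ye25 ze19) (ke xe5 ye10 ze25)) (@D3.rec (fun _ => Pt) (ke xe8 ye22 ze32) (ke xe12 ye25 ze20) (ke xe6 ye13 ze4) (ke xe12 ye25 ze22) (ke xe5 ye10 ze28) (ke xe11 ye22 ze11) (ke xe12 ye25 ze26) (ke xe11 ye22 ze12) (ke xe11 ye22 ze13) (ke xe5 ye10 ze30) (ke xe5 ye23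 ze24) (ke xe5 ye23 ze26) (ke xe12 ye25 ze32) (ke xe12 ye25 ze34) (ke xe5 ye10 ze32) (ke xe12 ye25 ze35) (ke xe12 ye25 ze36) (ke xe5 ye10 ze33) (ke xe12 ye25 ze38) (ke xe5 ye10 ze35) (ke xe5 ye10 ze36) (ke xe12 ye25 ze39) (ke xe5 ye10 ze38) (ke xe8 ye22 ze25) (ke xe5 ye11 ze0) (ke xe8 ye22 ze23) (ke xe5 ye11 ze2) (ke xe5 ye11 ze3) (ke xe13 ye0 ze2) (ke xe12 ye25 ze18) (ke xe7 ye17 ze38) (ke xe5 ye11 ze8) (ke xe8 ye22 ze0) (ke xe5 ye11 ze13) (ke xe5 ye11 ze12) (ke xe5 ye11 ze18) (ke xe8 ye21 ze34) (ke xe13 ye0 ze4) (ke xe6 ye14 ze38) (ke xe13 ye0 ze6)) (@D3.rec (fun _ => Pt) (ke xe5 ye11 ze21) (ke xe11 ye23 ze17) (ke xe13 ye0 ze10) (ke xe11 ye23 ze18) (ke xe11 ye23 ze19) (ke xe5 ye11 ze23) (ke xe5 ye23 ze37) (ke xe5 ye24 ze0) (ke xe13 ye0 ze16) (ke xe13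 ye0 ze18) (ke xe5 ye11 ze25) (ke xe13 ye0 ze19) (ke xe13 ye0 ze20) (ke xe5 ye11 ze26) (ke xe13 ye0 ze22) (ke xe5 ye11 ze28) (ke xe5 ye11 ze29) (ke xe13 ye0 ze23) (ke xe5 ye11 ze31) (ke xe8 ye23 ze22) (ke xe5 ye11 ze33) (ke xe13 ye0 ze26) (ke xe8 ye23 ze19) (ke xe5 ye11 ze36) (ke xe8 ye25 ze18) (ke xe13 ye0 ze30) (ke xe13 ye0 ze31) (ke xe10 ye6 ze10) (ke xe5 ye12 ze0) (ke xe5 ye12 ze1) (ke xe13 ye0 ze34) (ke xe6 ye14 ze5) (ke xe8 ye25 ze22) (ke xe6 ye12 ze36) (ke xe5 ye12 ze38) (ke xe10 ye8 ze17) (ke xe10 ye6 ze29) (ke xe10 ye6 ze30) (ke xe10 ye6 ze31) (ke xe8 ye25 ze13)) (@D3.rec (fun _ => Pt) (ke xe10 ye9 ze19) (ke xe8 ye25 ze12) (ke xe13 ye0 ze38) (ke xe5 ye12 ze11) (ke xe13 ye0 ze39) (ke xe8 ye24 ze10) (ke xe8 ye25 ze7) (ke xe5 ye12 ze14) (ke xe8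 ye4 ze7) (ke xe10 ye11 ze1) (ke xe8 ye24 ze5) (ke xe8 ye24 ze17) (ke xe5 ye12 ze16) (ke xe10 ye10 ze20) (ke xe5 ye12 ze17) (ke xe5 ye12 ze19) (ke xe8 ye24 ze37) (ke xe8 ye24 ze11) (ke xe5 ye12 ze21) (ke xe8 ye25 ze4) (ke xe6 ye14 ze4) (ke xe6 ye14 ze7) (ke xe5 ye12 ze23) (ke xe5 ye12 ze24) (ke xe13 ye1 ze10) (ke xe13 ye1 ze11) (ke xe6 ye14 ze8) (ke xe6 ye14 ze9) (ke xe5 ye12 ze28) (ke xe5 ye12 ze29) (ke xe10 ye8 ze33) (ke xe5 ye12 ze30) (ke xe8 ye24 ze35) (ke xe5 ye12 ze32) (ke xe13 ye1 ze17) (ke xe8 ye24 ze32) (ke xe5 ye12 ze35) (ke xe8 ye24 ze16) (ke xe13 ye1 ze5) (ke xe13 ye1 ze4)) (@D3.rec (fun _ => Pt) (ke xe5 ye12 ze39) (ke xe6 ye14 ze30) (ke xe13 ye1 ze8) (ke xe6 ye12 ze4) (ke xe8 ye24 ze19) (ke xe10 ye8 ze34) (ke xe10 ye8 ze35) (ke xe8 ye24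 ze6) (ke xe10 ye7 ze15) (ke xe13 ye1 ze24) (ke xe5 ye13 ze6) (ke xe13 ye1 ze25) (ke xe8 ye24 ze1) (ke xe8 ye23 ze39) (ke xe5 ye13 ze9) (ke xe8 ye3 ze39) (ke xe8 ye25 ze19) (ke xe5 ye13 ze12) (ke xe8 ye23 ze24) (ke xe8 ye25 ze16) (ke xe5 ye13 ze14) (ke xe6 ye12 ze2) (ke xe8 ye23 ze32) (ke xe6 ye12 ze13) (ke xe5 ye13 ze16) (ke xe5 ye13 ze17) (ke xe13 ye1 ze32) (ke xe13 ye0 ze33) (ke xe6 ye12 ze14) (ke xe6 ye12 ze15) (ke xe5 ye13 ze21) (ke xe5 ye13 ze22) (ke xe5 ye13 ze29) (ke xe5 ye13 ze30) (ke xe5 ye13 ze36) (ke xe5 ye13 ze37) (ke xe6 ye9 ze11) (ke xe6 ye10 ze19) (ke xe7 ye23 ze5) (ke xe7 ye23 ze6))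
def f_e_9 : D2 → D3 → Pt := @D2.rec (fun _ => D3 → Pt) (@D3.rec (fun _ => Pt) (ke xe7 ye9 ze34) (ke xe7 ye13 ze38) (ke xe13 ye1 ze37) (ke xe13 ye1 ze38) (ke xe13 ye1 ze39) (ke xe13 ye2 ze0) (ke xe13 ye2 ze1) (ke xe13 ye2 ze2) (ke xe5 ye14 ze28) (ke xe5 ye14 ze29) (ke xe5 ye14 ze34) (ke xe5 ye14 ze35) (ke xe5 ye14 ze36) (ke xe5 ye14 ze37) (ke xe6 ye3 ze33) (ke xe6 ye3 ze34) (ke xe6 ye3 ze35) (ke xe6 ye3 ze36) (ke xe6 ye3 ze37) (ke xe6 ye3 ze38) (ke xe5 ye15 ze14) (ke xe5 ye15 ze15) (ke xe5 ye15 ze16) (ke xe5 ye15 ze17) (ke xe5 ye15 ze18) (ke xe5 ye15 ze19) (ke xe5 ye15 ze20) (ke xe5 ye15 ze21) (ke xe5 ye14 ze16) (ke xe5 ye14 ze19) (ke xe7 ye5 ze17) (ke xe7 ye5 ze18) (ke xe10 ye13 ze2) (ke xe6 ye6 ze22) (ke xe7 ye12 ze21) (ke xe7 ye5 ze31) (ke xe7 ye5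 ze32) (ke xe10 ye13 ze13) (ke xe6 ye5 ze27) (ke xe7 ye8 ze16)) (@D3.rec (fun _ => Pt) (ke xe5 ye15 ze38) (ke xe5 ye15 ze39) (ke xe5 ye16 ze0) (ke xe5 ye16 ze1) (ke xe5 ye16 ze2) (ke xe5 ye16 ze3) (ke xe5 ye16 ze4) (ke xe5 ye16 ze5) (ke xe13 ye2 ze15) (ke xe13 ye2 ze16) (ke xe11 ye6 ze8) (ke xe10 ye3 ze17) (ke xe10 ye4 ze32) (ke xe13 ye2 ze18) (ke xe13 ye2 ze20) (ke xe8 ye2 ze39) (ke xe8 ye3 ze0) (ke xe5 ye15 ze0) (ke xe5 ye15 ze1) (ke xe13 ye3 ze23) (ke xe13 ye3 ze24) (ke xe5 ye15 ze4) (ke xe5 ye15 ze5) (ke xe13 ye3 ze27) (ke xe13 ye3 ze28) (ke xe5 ye15 ze10) (ke xe5 ye15 ze11) (ke xe5 ye15 ze12) (ke xe5 ye15 ze13) (ke xe13 ye3 ze31) (ke xe13 ye3 ze32) (ke xe13 ye3 ze33) (ke xe13 ye0 ze1) (ke xe13 ye3 ze34) (ke xe13 ye3 ze35) (ke xe13 ye3 ze36) (ke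 xe12 ye25 ze11) (ke xe13 ye2 ze29) (ke xe13 ye2 ze30) (ke xe13 ye2 ze31)) (@D3.rec (fun _ => Pt) (ke xe13 ye2 ze32) (ke xe13 ye2 ze33) (ke xe13 ye2 ze34) (ke xe11 ye25 ze7) (ke xe13 ye2 ze36) (ke xe13 ye2 ze37) (ke xe13 ye2 ze38) (ke xe13 ye2 ze39) (ke xe13 ye3 ze0) (ke xe13 ye3 ze1) (ke xe13 ye3 ze2) (ke xe13 ye3 ze3) (ke xe12 ye0 ze3) (ke xe13 ye3 ze5) (ke xe13 ye3 ze6) (ke xe5 ye15 ze28) (ke xe5 ye15 ze29) (ke xe5 ye15 ze30) (ke xe5 ye15 ze31) (ke xe5 ye15 ze32) (ke xe5 ye15 ze33) (ke xe5 ye15 ze34) (ke xe5 ye15 ze35) (ke xe5 ye15 ze36) (ke xe5 ye15 ze37) (ke xe13 ye4 ze21) (ke xe11 ye25 ze6) (ke xe13 ye0 ze37) (ke xe13 ye4 ze22) (ke xe9 ye9 ze30) (ke xe13 ye4 ze23) (ke xe12 ye0 ze2) (ke xe13 ye1 ze1) (ke xe13 ye4 ze24) (ke xe9 ye9 ze10) (ke xe13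 ye3 ze11) (ke xe13 ye3 ze12) (ke xe13 ye3 ze7) (ke xe13 ye3 ze10) (ke xe13 ye3 ze13)) (@D3.rec (fun _ => Pt) (ke xe13 ye3 ze14) (ke xe13 ye3 ze15) (ke xe13 ye3 ze16) (ke xe13 ye3 ze17) (ke xe13 ye3 ze9) (ke xe13 ye3 ze18) (ke xe13 ye3 ze8) (ke xe13 ye3 ze19) (ke xe13 ye3 ze20) (ke xe13 ye3 ze21) (ke xe13 ye3 ze22) (ke xe10 ye11 ze27) (ke xe10 ye11 ze35) (ke xe5 ye19 ze2) (ke xe5 ye19 ze3) (ke xe13 ye5 ze4) (ke xe13 ye5 ze6) (ke xe5 ye16 ze14) (ke xe13 ye5 ze8) (ke xe5 ye19 ze7) (ke xe5 ye19 ze8) (ke xe5 ye19 ze9) (ke xe5 ye19 ze10) (ke xe5 ye19 ze11) (ke xe5 ye19 ze12) (ke xe5 ye19 ze13) (ke xe8 ye5 ze21) (ke xe5 ye19 ze15) (ke xe5 ye19 ze16) (ke xe5 ye19 ze17) (ke xe5 ye19 ze18) (ke xe13 ye5 ze29) (ke xe13 ye5 ze31) (ke xe5 ye16 ze22) (ke xe13 ye5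 ze33) (ke xe5 ye19 ze22) (ke xe5 ye19 ze23) (ke xe5 ye19 ze24) (ke xe5 ye19 ze25) (ke xe5 ye19 ze26)) (@D3.rec (fun _ => Pt) (ke xe5 ye19 ze27) (ke xe5 ye19 ze28) (ke xe8 ye4 ze32) (ke xe5 ye19 ze30) (ke xe5 ye19 ze31) (ke xe5 ye16 ze36) (ke xe5 ye17 ze5) (ke xe7 ye6 ze5) (ke xe7 ye6 ze6) (ke xe7 ye6 ze7) (ke xe13 ye6 ze12) (ke xe5 ye16 ze34) (ke xe10 ye19 ze16) (ke xe6 ye6 ze2) (ke xe6 ye6 ze0) (ke xe6 ye5 ze39) (ke xe9 ye7 ze14) (ke xe7 ye7 ze39) (ke xe5 ye22 ze32) (ke xe10 ye17 ze25) (ke xe7 ye7 ze10) (ke xe7 ye7 ze11) (ke xe7 ye7 ze12) (ke xe13 ye6 ze20) (ke xe5 ye17 ze3) (ke xe10 ye17 ze22) (ke xe6 ye6 ze35) (ke xe6 ye5 ze29) (ke xe6 ye6 ze33) (ke xe9 ye7 ze15) (ke xe7 ye6 ze34) (ke xe5 ye21 ze34) (ke xe10 ye19 ze15) (ke xe5 ye21 ze2) (ke xe5 ye21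 ze3) (ke xe5 ye21 ze4) (ke xe5 ye21 ze5) (ke xe5 ye21 ze6) (ke xe8 ye8 ze1) (ke xe13 ye6 ze30)) (@D3.rec (fun _ => Pt) (ke xe5 ye17 ze15) (ke xe13 ye6 ze32) (ke xe5 ye21 ze10) (ke xe5 ye21 ze11) (ke xe5 ye21 ze12) (ke xe5 ye21 ze13) (ke xe5 ye17 ze18) (ke xe13 ye7 ze1) (ke xe5 ye17 ze20) (ke xe13 ye7 ze4) (ke xe5 ye21 ze18) (ke xe5 ye21 ze19) (ke xe5 ye21 ze20) (ke xe13 ye7 ze14) (ke xe5 ye21 ze22) (ke xe5 ye21 ze23) (ke xe5 ye21 ze24) (ke xe5 ye21 ze25) (ke xe5 ye21 ze26) (ke xe5 ye21 ze27) (ke xe5 ye21 ze28) (ke xe5 ye21 ze29) (ke xe5 ye21 ze30) (ke xe5 ye21 ze31) (ke xe13 ye7 ze27) (ke xe5 ye21 ze33) (ke xe13 ye7 ze31) (ke xe5 ye17 ze29) (ke xe13 ye7 ze33) (ke xe5 ye21 ze38) (ke xe5 ye21 ze39) (ke xe5 ye22 ze0) (ke xe5 ye22 ze1) (ke xe5 ye22 ze2)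 (ke xe5 ye22 ze3) (ke xe5 ye22 ze4) (ke xe8 ye8 ze17) (ke xe13 ye8 ze0) (ke xe5 ye17 ze37) (ke xe13 ye8 ze2)) (@D3.rec (fun _ => Pt) (ke xe5 ye22 ze8) (ke xe5 ye22 ze9) (ke xe5 ye22 ze10) (ke xe5 ye22 ze11) (ke xe5 ye18 ze0) (ke xe13 ye8 ze10) (ke xe5 ye18 ze2) (ke xe13 ye8 ze13) (ke xe5 ye22 ze16) (ke xe5 ye22 ze17) (ke xe5 ye22 ze18) (ke xe13 ye8 ze23) (ke xe5 ye22 ze20) (ke xe5 ye22 ze21) (ke xe5 ye22 ze22) (ke xe5 ye22 ze23) (ke xe5 ye22 ze24) (ke xe5 ye22 ze25) (ke xe5 ye22 ze26) (ke xe5 ye22 ze27) (ke xe5 ye22 ze28) (ke xe5 ye22 ze29) (ke xe13 ye8 ze36) (ke xe5 ye22 ze31) (ke xe13 ye9 ze0) (ke xe5 ye18 ze11) (ke xe13 ye9 ze2) (ke xe5 ye22 ze36) (ke xe5 ye22 ze37) (ke xe5 ye23 ze0) (ke xe13 ye9 ze12) (ke xe5 ye23 ze2) (ke xe5 ye23 ze3) (ke xe5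 ye18 ze15) (ke xe13 ye9 ze17) (ke xe5 ye18 ze16) (ke xe5 ye23 ze9) (ke xe13 ye9 ze25) (ke xe5 ye23 ze11) (ke xe5 ye23 ze12)) (@D3.rec (fun _ => Pt) (ke xe5 ye18 ze19) (ke xe13 ye9 ze30) (ke xe5 ye18 ze20) (ke xe8 ye13 ze25) (ke xe8 ye13 ze26) (ke xe13 ye9 ze39) (ke xe8 ye13 ze28) (ke xe8 ye13 ze29) (ke xe5 ye18 ze24) (ke xe8 ye13 ze39) (ke xe8 ye14 ze0) (ke xe13 ye10 ze7) (ke xe8 ye14 ze2) (ke xe5 ye18 ze27) (ke xe9 ye4 ze16) (ke xe9 ye4 ze29) (ke xe9 ye7 ze26) (ke xe9 ye7 ze28) (ke xe9 ye7 ze29) (ke xe9 ye7 ze23) (ke xe13 ye10 ze11) (ke xe9 ye7 ze24) (ke xe9 ye7 ze25) (ke xe9 ye7 ze19) (ke xe9 ye7 ze21) (ke xe9 ye7 ze22) (ke xe9 ye7 ze16) (ke xe13 ye10 ze14) (ke xe9 ye7 ze17) (ke xe9 ye7 ze18) (ke xe13 ye5 ze2) (ke xe5 ye19 ze4) (ke xe5 ye19 ze6) (ke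 xe13 ye10 ze15) (ke xe13 ye5 ze10) (ke xe13 ye5 ze11) (ke xe13 ye5 ze12) (ke xe13 ye5 ze13) (ke xe13 ye5 ze14) (ke xe11 ye25 ze31)) (@D3.rec (fun _ => Pt) (ke xe13 ye5 ze16) (ke xe13 ye5 ze17) (ke xe13 ye5 ze18) (ke xe13 ye5 ze19) (ke xe13 ye5 ze20) (ke xe13 ye10 ze30) (ke xe13 ye5 ze22) (ke xe13 ye10 ze34) (ke xe5 ye19 ze14) (ke xe13 ye10 ze36) (ke xe13 ye5 ze24) (ke xe13 ye5 ze25) (ke xe13 ye5 ze27) (ke xe5 ye19 ze19) (ke xe5 ye19 ze21) (ke xe13 ye10 ze39) (ke xe13 ye5 ze35) (ke xe13 ye5 ze36) (ke xe13 ye5 ze37) (ke xe13 ye5 ze38) (ke xe13 ye5 ze39) (ke xe11 ye24 ze26) (ke xe13 ye6 ze1) (ke xe13 ye6 ze2) (ke xe13 ye6 ze3) (ke xe13 ye6 ze4) (ke xe13 ye6 ze5) (ke xe13 ye11 ze11) (ke xe13 ye6 ze7) (ke xe13 ye10 ze20) (ke xe5 ye19 ze29) (ke xe13 ye11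 ze16) (ke xe13 ye6 ze9) (ke xe13 ye6 ze10) (ke xe5 ye20 ze11) (ke xe5 ye20 ze16) (ke xe5 ye20 ze17) (ke xe5 ye20 ze18) (ke xe5 ye20 ze20) (ke xe5 ye20 ze21)) (@D3.rec (fun _ => Pt) (ke xe5 ye20 ze22) (ke xe5 ye20 ze24) (ke xe5 ye20 ze27) (ke xe5 ye20 ze32) (ke xe5 ye20 ze33) (ke xe5 ye20 ze34) (ke xe5 ye20 ze36) (ke xe5 ye20 ze37) (ke xe5 ye20 ze38) (ke xe5 ye21 ze0) (ke xe9 ye2 ze34) (ke xe13 ye0 ze3) (ke xe5 ye20 ze13) (ke xe13 ye11 ze27) (ke xe11 ye23 ze27) (ke xe7 ye20 ze37) (ke xe13 ye4 ze6) (ke xe13 ye11 ze19) (ke xe13 ye11 ze31) (ke xe11 ye10 ze38) (ke xe8 ye6 ze16) (ke xe8 ye6 ze18) (ke xe12 ye0 ze17) (ke xe13 ye11 ze20) (ke xe13 ye11 ze39) (ke xe13 ye11 ze21) (ke xe13 ye12 ze2) (ke xe5 ye20 ze23) (ke xe13 ye12 ze4) (ke xe13 ye11 ze22) (ke xe9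 ye2 ze29) (ke xe12 ye25 ze14) (ke xe5 ye20 ze29) (ke xe13 ye12 ze6) (ke xe11 ye22 ze20) (ke xe7 ye19 ze34) (ke xe13 ye3 ze37) (ke xe13 ye11 ze23) (ke xe13 ye12 ze10) (ke xe11 ye16 ze7)) (@D3.rec (fun _ => Pt) (ke xe8 ye6 ze25) (ke xe8 ye6 ze27) (ke xe11 ye25 ze23) (ke xe13 ye11 ze24) (ke xe13 ye12 ze18) (ke xe13 ye11 ze25) (ke xe13 ye12 ze21) (ke xe5 ye20 ze39) (ke xe13 ye12 ze23) (ke xe13 ye11 ze26) (ke xe13 ye6 ze27) (ke xe13 ye6 ze28) (ke xe13 ye6 ze29) (ke xe5 ye21 ze7) (ke xe5 ye21 ze9) (ke xe13 ye6 ze34) (ke xe13 ye6 ze35) (ke xe13 ye6 ze36) (ke xe13 ye6 ze37) (ke xe13 ye12 ze32) (ke xe13 ye6 ze39) (ke xe8 ye6 ze33) (ke xe5 ye21 ze15) (ke xe13 ye12 ze36) (ke xe5 ye21 ze17) (ke xe13 ye12 ze37) (ke xe13 ye7 ze6) (ke xe13 ye7 ze7) (ke xe13 ye7 ze8)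 (ke xe13 ye2 ze25) (ke xe13 ye7 ze9) (ke xe13 ye2 ze26) (ke xe13 ye7 ze10) (ke xe13 ye7 ze11) (ke xe13 ye13 ze10) (ke xe13 ye13 ze12) (ke xe5 ye21 ze21) (ke xe13 ye13 ze14) (ke xe13 ye7 ze16) (ke xe12 ye24 ze12)) (@D3.rec (fun _ => Pt) (ke xe13 ye7 ze17) (ke xe13 ye6 ze25) (ke xe13 ye7 ze19) (ke xe13 ye6 ze24) (ke xe13 ye7 ze20) (ke xe13 ye13 ze18) (ke xe13 ye7 ze22) (ke xe13 ye7 ze23) (ke xe12 ye15 ze38) (ke xe13 ye13 ze25) (ke xe13 ye7 ze24) (ke xe13 ye7 ze25) (ke xe13 ye13 ze29) (ke xe5 ye21 ze32) (ke xe13 ye13 ze30) (ke xe13 ye7 ze29) (ke xe13 ye13 ze33) (ke xe13 ye13 ze35) (ke xe5 ye21 ze35) (ke xe5 ye21 ze37) (ke xe13 ye13 ze37) (ke xe13 ye7 ze35) (ke xe13 ye6 ze11) (ke xe13 ye7 ze36) (ke xe13 ye7 ze37) (ke xe13 ye7 ze38) (ke xe13 ye7 ze39) (ke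 xe5 ye22 ze5) (ke xe5 ye22 ze7) (ke xe13 ye8 ze4) (ke xe13 ye8 ze5) (ke xe13 ye8 ze6) (ke xe13 ye14 ze9) (ke xe13 ye8 ze8) (ke xe8 ye6 ze35) (ke xe5 ye22 ze13) (ke xe13 ye14 ze13) (ke xe5 ye22 ze15) (ke xe13 ye14 ze14) (ke xe13 ye8 ze15)) (@D3.rec (fun _ => Pt) (ke xe13 ye8 ze16) (ke xe13 ye8 ze17) (ke xe13 ye2 ze21) (ke xe13 ye8 ze18) (ke xe13 ye8 ze19) (ke xe13 ye2 ze22) (ke xe13 ye8 ze20) (ke xe13 ye14 ze24) (ke xe13 ye14 ze26) (ke xe5 ye22 ze19) (ke xe13 ye14 ze28) (ke xe13 ye8 ze25) (ke xe12 ye23 ze0) (ke xe13 ye8 ze26) (ke xe13 ye6 ze17) (ke xe13 ye8 ze28) (ke xe13 ye6 ze16) (ke xe13 ye8 ze29) (ke xe13 ye14 ze31) (ke xe13 ye8 ze31) (ke xe13 ye8 ze32) (ke xe12 ye17 ze17) (ke xe13 ye14 ze38) (ke xe13 ye8 ze33) (ke xe13 ye8 ze34) (ke xe13 ye15 ze0)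 (ke xe5 ye22 ze30) (ke xe13 ye15 ze1) (ke xe13 ye8 ze38) (ke xe13 ye15 ze4) (ke xe13 ye15 ze6) (ke xe5 ye22 ze33) (ke xe5 ye22 ze35) (ke xe13 ye15 ze8) (ke xe13 ye9 ze4) (ke xe13 ye6 ze19) (ke xe13 ye9 ze5) (ke xe13 ye9 ze6) (ke xe13 ye9 ze7) (ke xe13 ye9 ze28)) (@D3.rec (fun _ => Pt) (ke xe13 ye9 ze9) (ke xe13 ye9 ze10) (ke xe5 ye23 ze1) (ke xe13 ye9 ze22) (ke xe13 ye9 ze15) (ke xe13 ye15 ze18) (ke xe5 ye23 ze5) (ke xe13 ye15 ze21) (ke xe13 ye15 ze22) (ke xe13 ye9 ze20) (ke xe13 ye9 ze23) (ke xe5 ye23 ze10) (ke xe13 ye15 ze27) (ke xe5 ye23 ze14) (ke xe13 ye15 ze30) (ke xe13 ye15 ze31) (ke xe13 ye15 ze33) (ke xe5 ye23 ze16) (ke xe13 ye15 ze34) (ke xe6 ye10 ze27) (ke xe5 ye23 ze18) (ke xe13 ye15 ze36) (ke xe5 ye23 ze20) (ke xe5 ye23 ze21) (ke xe13 ye15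 ze38) (ke xe12 ye25 ze28) (ke xe13 ye16 ze5) (ke xe7 ye22 ze9) (ke xe13 ye16 ze8) (ke xe5 ye23 ze25) (ke xe13 ye16 ze10) (ke xe13 ye16 ze11) (ke xe7 ye22 ze7) (ke xe13 ye16 ze14) (ke xe5 ye23 ze29) (ke xe13 ye16 ze15) (ke xe6 ye9 ze20) (ke xe5 ye23 ze31) (ke xe13 ye16 ze17) (ke xe5 ye23 ze33)) (@D3.rec (fun _ => Pt) (ke xe5 ye23 ze34) (ke xe13 ye16 ze19) (ke xe13 ye0 ze12) (ke xe13 ye16 ze26) (ke xe7 ye22 ze38) (ke xe13 ye16 ze29) (ke xe5 ye23 ze38) (ke xe13 ye16 ze31) (ke xe13 ye16 ze32) (ke xe7 ye22 ze37) (ke xe6 ye3 ze29) (ke xe6 ye3 ze30) (ke xe6 ye3 ze31) (ke xe6 ye3 ze32) (ke xe6 ye16 ze30) (ke xe6 ye16 ze31) (ke xe6 ye16 ze32) (ke xe6 ye16 ze34) (ke xe6 ye16 ze35) (ke xe6 ye16 ze36) (ke xe6 ye3 ze39) (ke xe6 ye4 ze0) (ke xe6 ye4 ze1) (ke xe6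 ye4 ze2) (ke xe6 ye17 ze13) (ke xe6 ye17 ze15) (ke xe6 ye17 ze16) (ke xe6 ye17 ze19) (ke xe6 ye17 ze20) (ke xe6 ye17 ze21) (ke xe6 ye17 ze22) (ke xe6 ye17 ze25) (ke xe6 ye17 ze26) (ke xe6 ye17 ze27) (ke xe6 ye17 ze28) (ke xe6 ye17 ze29) (ke xe6 ye17 ze30) (ke xe6 ye17 ze31) (ke xe6 ye17 ze32) (ke xe6 ye17 ze33)) (@D3.rec (fun _ => Pt) (ke xe13 ye17 ze23) (ke xe6 ye17 ze35) (ke xe6 ye17 ze36) (ke xe6 ye17 ze37) (ke xe6 ye17 ze38) (ke xe6 ye17 ze39) (ke xe13 ye17 ze29) (ke xe6 ye18 ze1) (ke xe6 ye18 ze2) (ke xe6 ye4 ze3) (ke xe10 ye11 ze28) (ke xe6 ye4 ze4) (ke xe10 ye11 ze36) (ke xe6 ye18 ze30) (ke xe6 ye18 ze31) (ke xe6 ye18 ze32) (ke xe6 ye18 ze33) (ke xe6 ye18 ze35) (ke xe6 ye18 ze36) (ke xe6 ye18 ze37) (ke xe6 ye18 ze38) (ke xe6 ye18 ze39) (ke xe6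 ye19 ze0) (ke xe6 ye19 ze1) (ke xe6 ye0 ze14) (ke xe6 ye21 ze10) (ke xe13 ye18 ze10) (ke xe5 ye24 ze39) (ke xe6 ye19 ze5) (ke xe6 ye19 ze6) (ke xe6 ye19 ze7) (ke xe6 ye19 ze8) (ke xe6 ye19 ze9) (ke xe6 ye19 ze10) (ke xe6 ye19 ze11) (ke xe13 ye18 ze21) (ke xe6 ye19 ze13) (ke xe6 ye19 ze14) (ke xe6 ye19 ze15) (ke xe6 ye19 ze16)) (@D3.rec (fun _ => Pt) (ke xe6 ye19 ze17) (ke xe6 ye0 ze26) (ke xe6 ye22 ze10) (ke xe13 ye18 ze30) (ke xe5 ye25 ze7) (ke xe6 ye19 ze21) (ke xe6 ye19 ze22) (ke xe6 ye19 ze23) (ke xe6 ye19 ze24) (ke xe6 ye19 ze25) (ke xe6 ye19 ze26) (ke xe6 ye19 ze27) (ke xe13 ye19 ze1) (ke xe6 ye19 ze29) (ke xe6 ye19 ze30) (ke xe6 ye4 ze5) (ke xe6 ye4 ze6) (ke xe13 ye19 ze9) (ke xe6 ye4 ze8) (ke xe6 ye4 ze9) (ke xe6 ye4 ze10) (ke xe6 ye4 ze11)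 (ke xe6 ye4 ze12) (ke xe13 ye19 ze18) (ke xe6 ye4 ze14) (ke xe6 ye4 ze15) (ke xe13 ye19 ze23) (ke xe5 ye25 ze18) (ke xe13 ye19 ze26) (ke xe10 ye17 ze27) (ke xe5 ye25 ze19) (ke xe13 ye19 ze30) (ke xe5 ye25 ze21) (ke xe13 ye19 ze32) (ke xe6 ye4 ze21) (ke xe6 ye4 ze22) (ke xe6 ye4 ze23) (ke xe6 ye4 ze24) (ke xe6 ye4 ze25) (ke xe11 ye23 ze39)) (@D3.rec (fun _ => Pt) (ke xe6 ye4 ze27) (ke xe6 ye4 ze28) (ke xe6 ye4 ze29) (ke xe8 ye4 ze12) (ke xe6 ye4 ze31) (ke xe8 ye5 ze15) (ke xe5 ye25 ze29) (ke xe13 ye20 ze17) (ke xe6 ye4 ze35) (ke xe6 ye4 ze36) (ke xe6 ye4 ze37) (ke xe13 ye20 ze24) (ke xe6 ye4 ze39) (ke xe6 ye5 ze0) (ke xe6 ye5 ze1) (ke xe6 ye5 ze2) (ke xe6 ye5 ze3) (ke xe13 ye20 ze33) (ke xe6 ye5 ze5) (ke xe6 ye5 ze6) (ke xe13 ye20 ze38) (ke xe5 ye25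 ze37) (ke xe13 ye21 ze1) (ke xe10 ye19 ze17) (ke xe5 ye25 ze38) (ke xe13 ye21 ze5) (ke xe6 ye0 ze0) (ke xe13 ye21 ze7) (ke xe6 ye5 ze12) (ke xe6 ye5 ze13) (ke xe6 ye5 ze14) (ke xe6 ye5 ze15) (ke xe6 ye5 ze16) (ke xe11 ye22 ze33) (ke xe6 ye5 ze18) (ke xe6 ye5 ze19) (ke xe6 ye5 ze20) (ke xe8 ye4 ze4) (ke xe6 ye5 ze22) (ke xe8 ye4 ze26)) (@D3.rec (fun _ => Pt) (ke xe6 ye0 ze8) (ke xe13 ye21 ze32) (ke xe6 ye5 ze26) (ke xe6 ye21 ze7) (ke xe6 ye21 ze8) (ke xe6 ye21 ze9) (ke xe10 ye14 ze26) (ke xe6 ye21 ze14) (ke xe6 ye21 ze15) (ke xe6 ye21 ze16) (ke xe6 ye21 ze17) (ke xe13 ye22 ze2) (ke xe6 ye0 ze17) (ke xe13 ye22 ze6) (ke xe6 ye0 ze19) (ke xe13 ye22 ze8) (ke xe10 ye14 ze24) (ke xe6 ye21 ze25) (ke xe6 ye21 ze26) (ke xe6 ye21 ze32) (ke xe6 ye21 ze33) (ke xe6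 ye21 ze34) (ke xe6 ye22 ze7) (ke xe6 ye22 ze8) (ke xe6 ye22 ze9) (ke xe10 ye15 ze10) (ke xe6 ye22 ze14) (ke xe6 ye22 ze15) (ke xe6 ye22 ze16) (ke xe6 ye22 ze17) (ke xe13 ye22 ze24) (ke xe6 ye0 ze29) (ke xe13 ye22 ze28) (ke xe6 ye0 ze31) (ke xe13 ye22 ze30) (ke xe10 ye15 ze8) (ke xe6 ye22 ze25) (ke xe6 ye22 ze26) (ke xe6 ye22 ze32) (ke xe6 ye22 ze33)) (@D3.rec (fun _ => Pt) (ke xe6 ye22 ze34) (ke xe6 ye1 ze0) (ke xe8 ye13 ze17) (ke xe12 ye18 ze19) (ke xe6 ye5 ze32) (ke xe13 ye23 ze2) (ke xe6 ye1 ze3) (ke xe13 ye23 ze6) (ke xe6 ye1 ze5) (ke xe13 ye23 ze8) (ke xe6 ye5 ze35) (ke xe6 ye5 ze36) (ke xe6 ye5 ze37) (ke xe6 ye5 ze38) (ke xe6 ye1 ze10) (ke xe13 ye23 ze16) (ke xe13 ye23 ze15) (ke xe6 ye1 ze12) (ke xe13 ye23 ze20) (ke xe13 ye23 ze21) (ke xe6 ye1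 ze14) (ke xe6 ye1 ze15) (ke xe13 ye23 ze25) (ke xe13 ye23 ze26) (ke xe10 ye3 ze9) (ke xe13 ye23 ze27) (ke xe6 ye6 ze13) (ke xe6 ye6 ze14) (ke xe6 ye6 ze15) (ke xe6 ye6 ze16) (ke xe6 ye6 ze17) (ke xe6 ye6 ze18) (ke xe6 ye6 ze20) (ke xe6 ye6 ze21) (ke xe6 ye1 ze27) (ke xe12 ye18 ze39) (ke xe8 ye13 ze31) (ke xe6 ye6 ze26) (ke xe13 ye24 ze11) (ke xe6 ye1 ze30)) (@D3.rec (fun _ => Pt) (ke xe13 ye24 ze15) (ke xe6 ye1 ze32) (ke xe13 ye24 ze17) (ke xe6 ye6 ze29) (ke xe6 ye6 ze30) (ke xe6 ye6 ze31) (ke xe6 ye6 ze32) (ke xe6 ye1 ze37) (ke xe13 ye24 ze25) (ke xe13 ye24 ze24) (ke xe6 ye1 ze39) (ke xe13 ye24 ze29) (ke xe13 ye24 ze30) (ke xe6 ye2 ze1) (ke xe6 ye2 ze2) (ke xe13 ye24 ze34) (ke xe13 ye24 ze35) (ke xe10 ye2 ze0) (ke xe13 ye24 ze36) (ke xe6 ye7 ze6) (ke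 xe6 ye7 ze7) (ke xe6 ye7 ze8) (ke xe6 ye7 ze9) (ke xe6 ye7 ze10) (ke xe6 ye7 ze11) (ke xe6 ye7 ze13) (ke xe6 ye7 ze14) (ke xe12 ye15 ze22) (ke xe6 ye7 ze15) (ke xe13 ye25 ze21) (ke xe6 ye2 ze10) (ke xe13 ye25 ze24) (ke xe13 ye25 ze25) (ke xe6 ye7 ze20) (ke xe6 ye7 ze21) (ke xe13 ye25 ze29) (ke xe6 ye2 ze13) (ke xe13 ye25 ze31) (ke xe13 ye25 ze32) (ke xe6 ye2 ze15)) (@D3.rec (fun _ => Pt) (ke xe6 ye2 ze16) (ke xe13 ye25 ze36) (ke xe13 ye25 ze37) (ke xe6 ye7 ze29) (ke xe6 ye7 ze30) (ke xe6 ye7 ze31) (ke xe6 ye7 ze32) (ke xe6 ye7 ze35) (ke xe6 ye7 ze36) (ke xe6 ye7 ze37) (ke xe6 ye2 ze23) (ke xe6 ye2 ze24) (ke xe6 ye2 ze25) (ke xe14 ye0 ze7) (ke xe14 ye0 ze8) (ke xe12 ye15 ze35) (ke xe14 ye0 ze19) (ke xe14 ye0 ze10) (ke xe14 ye0 ze11) (ke xe6 ye8 ze11)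 (ke xe6 ye8 ze12) (ke xe6 ye8 ze13) (ke xe12 ye17 ze2) (ke xe6 ye8 ze14) (ke xe14 ye0 ze32) (ke xe6 ye2 ze30) (ke xe14 ye0 ze35) (ke xe14 ye0 ze36) (ke xe6 ye8 ze19) (ke xe6 ye8 ze20) (ke xe14 ye1 ze0) (ke xe6 ye2 ze33) (ke xe14 ye1 ze3) (ke xe14 ye1 ze2) (ke xe6 ye2 ze35) (ke xe6 ye2 ze36) (ke xe14 ye1 ze7) (ke xe14 ye1 ze8) (ke xe6 ye8 ze28) (ke xe6 ye8 ze29)) (@D3.rec (fun _ => Pt) (ke xe6 ye8 ze30) (ke xe6 ye8 ze31) (ke xe6 ye8 ze34) (ke xe6 ye8 ze35) (ke xe6 ye8 ze36) (ke xe6 ye3 ze3) (ke xe6 ye3 ze4) (ke xe6 ye3 ze5) (ke xe14 ye1 ze18) (ke xe14 ye1 ze19) (ke xe12 ye17 ze14) (ke xe14 ye1 ze28) (ke xe14 ye1 ze21) (ke xe14 ye1 ze22) (ke xe6 ye9 ze8) (ke xe6 ye9 ze9) (ke xe6 ye9 ze10) (ke xe12 ye3 ze22) (ke xe7 ye16 ze23) (ke xe14 ye1 ze39) (ke xe6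 ye3 ze10) (ke xe11 ye19 ze16) (ke xe14 ye2 ze2) (ke xe7 ye4 ze39) (ke xe7 ye10 ze11) (ke xe14 ye2 ze7) (ke xe6 ye3 ze13) (ke xe14 ye2 ze11) (ke xe14 ye2 ze12) (ke xe6 ye3 ze15) (ke xe6 ye3 ze16) (ke xe14 ye2 ze17) (ke xe14 ye2 ze18) (ke xe7 ye16 ze28) (ke xe7 ye10 ze15) (ke xe12 ye3 ze33) (ke xe7 ye18 ze1) (ke xe14 ye2 ze28) (ke xe6 ye3 ze20) (ke xe14 ye2 ze31)) (@D3.rec (fun _ => Pt) (ke xe11 ye20 ze35) (ke xe7 ye14 ze15) (ke xe7 ye5 ze8) (ke xe14 ye2 ze36) (ke xe6 ye3 ze23) (ke xe14 ye3 ze0) (ke xe14 ye3 ze1) (ke xe6 ye3 ze25) (ke xe6 ye3 ze26) (ke xe14 ye3 ze6) (ke xe14 ye3 ze7) (ke xe7 ye14 ze19) (ke xe7 ye18 ze6) (ke xe14 ye3 ze15) (ke xe13 ye16 ze36) (ke xe14 ye3 ze17) (ke xe13 ye16 ze38) (ke xe13 ye2 ze23) (ke xe13 ye2 ze24) (ke xe13 ye2 ze27)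 (ke xe13 ye2 ze28) (ke xe10 ye13 ze23) (ke xe13 ye19 ze7) (ke xe6 ye4 ze7) (ke xe14 ye3 ze23) (ke xe13 ye19 ze12) (ke xe13 ye19 ze13) (ke xe13 ye19 ze14) (ke xe14 ye3 ze25) (ke xe13 ye19 ze16) (ke xe6 ye16 ze39) (ke xe6 ye4 ze13) (ke xe14 ye3 ze28) (ke xe13 ye19 ze21) (ke xe6 ye4 ze18) (ke xe6 ye4 ze20) (ke xe14 ye3 ze29) (ke xe13 ye19 ze36) (ke xe13 ye19 ze37) (ke xe13 ye19 ze38)) (@D3.rec (fun _ => Pt) (ke xe13 ye19 ze39) (ke xe13 ye20 ze0) (ke xe13 ye20 ze1) (ke xe13 ye20 ze2) (ke xe8 ye4 ze13) (ke xe11 ye24 ze0) (ke xe13 ye20 ze6) (ke xe13 ye20 ze7) (ke xe13 ye21 ze22) (ke xe13 ye20 ze9) (ke xe13 ye20 ze10) (ke xe13 ye20 ze11) (ke xe8 ye4 ze9) (ke xe13 ye20 ze14) (ke xe8 ye4 ze8) (ke xe6 ye4 ze34) (ke xe12 ye6 ze38) (ke xe13 ye20 ze19) (ke xe10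 ye13 ze35) (ke xe13 ye20 ze22) (ke xe6 ye4 ze38) (ke xe14 ye4 ze2) (ke xe13 ye20 ze27) (ke xe13 ye20 ze28) (ke xe13 ye20 ze29) (ke xe14 ye4 ze4) (ke xe13 ye20 ze31) (ke xe6 ye17 ze7) (ke xe6 ye5 ze4) (ke xe14 ye4 ze7) (ke xe13 ye20 ze36) (ke xe6 ye5 ze9) (ke xe6 ye5 ze11) (ke xe14 ye4 ze8) (ke xe13 ye21 ze11) (ke xe13 ye21 ze12) (ke xe13 ye21 ze13) (ke xe13 ye21 ze14) (ke xe13 ye21 ze15) (ke xe13 ye21 ze16)) (@D3.rec (fun _ => Pt) (ke xe13 ye21 ze17) (ke xe8 ye4 ze5) (ke xe11 ye22 ze34) (ke xe13 ye21 ze21) (ke xe13 ye21 ze24) (ke xe13 ye21 ze25) (ke xe13 ye21 ze26) (ke xe8 ye4 ze1) (ke xe13 ye21 ze29) (ke xe8 ye4 ze0) (ke xe6 ye5 ze25) (ke xe12 ye6 ze34) (ke xe13 ye21 ze34) (ke xe12 ye18 ze20) (ke xe13 ye23 ze0) (ke xe6 ye5 ze34) (ke xe14 ye4 ze20)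 (ke xe14 ye4 ze21) (ke xe14 ye4 ze22) (ke xe13 ye23 ze12) (ke xe13 ye23 ze13) (ke xe6 ye14 ze19) (ke xe13 ye23 ze14) (ke xe6 ye14 ze22) (ke xe6 ye16 ze19) (ke xe7 ye4 ze2) (ke xe7 ye4 ze3) (ke xe6 ye6 ze8) (ke xe6 ye6 ze11) (ke xe6 ye6 ze12) (ke xe14 ye4 ze28) (ke xe14 ye4 ze29) (ke xe14 ye4 ze30) (ke xe13 ye23 ze36) (ke xe13 ye23 ze37) (ke xe13 ye23 ze38) (ke xe13 ye23 ze39) (ke xe13 ye24 ze0) (ke xe13 ye24 ze1) (ke xe13 ye24 ze2))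
def f_e_10 : D2 → D3 → Pt := @D2.rec (fun _ => D3 → Pt) (@D3.rec (fun _ => Pt) (ke xe13 ye24 ze3) (ke xe8 ye3 ze30) (ke xe13 ye24 ze4) (ke xe13 ye24 ze5) (ke xe13 ye24 ze6) (ke xe6 ye12 ze8) (ke xe13 ye24 ze7) (ke xe12 ye19 ze0) (ke xe13 ye24 ze9) (ke xe6 ye6 ze28) (ke xe14 ye5 ze1) (ke xe14 ye5 ze2) (ke xe14 ye5 ze3) (ke xe13 ye24 ze21) (ke xe13 ye24 ze22) (ke xe6 ye12 ze25) (ke xe13 ye24 ze23) (ke xe6 ye12 ze28) (ke xe6 ye16 ze21) (ke xe7 ye4 ze4) (ke xe7 ye4 ze5) (ke xe6 ye7 ze1) (ke xe6 ye7 ze4) (ke xe6 ye7 ze5) (ke xe14 ye5 ze9) (ke xe14 ye5 ze10) (ke xe14 ye5 ze11) (ke xe13 ye25 ze5) (ke xe13 ye25 ze6) (ke xe13 ye25 ze7) (ke xe13 ye25 ze8) (ke xe13 ye25 ze9) (ke xe13 ye25 ze10) (ke xe13 ye25 ze11) (ke xe13 ye25 ze12) (ke xe8 ye3 ze19) (ke xe13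 ye25 ze13) (ke xe13 ye25 ze14) (ke xe13 ye25 ze15) (ke xe6 ye14 ze0)) (@D3.rec (fun _ => Pt) (ke xe13 ye25 ze16) (ke xe13 ye25 ze18) (ke xe6 ye7 ze16) (ke xe14 ye5 ze21) (ke xe6 ye7 ze18) (ke xe6 ye7 ze19) (ke xe14 ye5 ze22) (ke xe13 ye25 ze27) (ke xe13 ye25 ze28) (ke xe8 ye3 ze11) (ke xe6 ye7 ze23) (ke xe14 ye5 ze24) (ke xe6 ye7 ze26) (ke xe6 ye7 ze27) (ke xe6 ye7 ze28) (ke xe14 ye5 ze25) (ke xe14 ye5 ze26) (ke xe14 ye5 ze27) (ke xe14 ye5 ze28) (ke xe14 ye0 ze0) (ke xe14 ye0 ze1) (ke xe14 ye0 ze2) (ke xe14 ye0 ze3) (ke xe6 ye7 ze34) (ke xe14 ye5 ze33) (ke xe14 ye0 ze4) (ke xe14 ye0 ze5) (ke xe14 ye0 ze6) (ke xe8 ye0 ze31) (ke xe8 ye0 ze32) (ke xe12 ye3 ze20) (ke xe12 ye3 ze19) (ke xe6 ye8 ze2) (ke xe6 ye8 ze3) (ke xe6 ye8 ze4) (ke xe14 ye6 ze1) (ke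 xe14 ye6 ze2) (ke xe14 ye6 ze4) (ke xe6 ye8 ze8) (ke xe6 ye8 ze9)) (@D3.rec (fun _ => Pt) (ke xe9 ye20 ze17) (ke xe6 ye8 ze10) (ke xe14 ye6 ze5) (ke xe14 ye6 ze6) (ke xe14 ye6 ze7) (ke xe14 ye6 ze9) (ke xe14 ye0 ze24) (ke xe13 ye6 ze23) (ke xe14 ye0 ze25) (ke xe14 ye0 ze26) (ke xe14 ye0 ze27) (ke xe14 ye0 ze29) (ke xe6 ye8 ze15) (ke xe14 ye6 ze15) (ke xe6 ye8 ze17) (ke xe6 ye8 ze18) (ke xe14 ye6 ze16) (ke xe14 ye0 ze38) (ke xe14 ye0 ze39) (ke xe8 ye3 ze22) (ke xe6 ye8 ze22) (ke xe14 ye6 ze18) (ke xe6 ye8 ze25) (ke xe6 ye8 ze26) (ke xe6 ye8 ze27) (ke xe14 ye6 ze19) (ke xe14 ye6 ze20) (ke xe14 ye6 ze21) (ke xe14 ye6 ze22) (ke xe14 ye1 ze11) (ke xe14 ye1 ze12) (ke xe14 ye1 ze13) (ke xe14 ye1 ze14) (ke xe6 ye8 ze33) (ke xe14 ye6 ze25) (ke xe14 ye1 ze15)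 (ke xe14 ye1 ze16) (ke xe14 ye1 ze17) (ke xe8 ye0 ze35) (ke xe8 ye0 ze36)) (@D3.rec (fun _ => Pt) (ke xe12 ye3 ze18) (ke xe12 ye3 ze17) (ke xe6 ye9 ze1) (ke xe6 ye9 ze2) (ke xe6 ye9 ze3) (ke xe14 ye6 ze33) (ke xe14 ye6 ze34) (ke xe14 ye6 ze36) (ke xe6 ye9 ze7) (ke xe9 ye19 ze24) (ke xe14 ye6 ze37) (ke xe14 ye6 ze38) (ke xe13 ye6 ze15) (ke xe14 ye1 ze33) (ke xe14 ye1 ze34) (ke xe14 ye1 ze35) (ke xe14 ye1 ze36) (ke xe9 ye1 ze11) (ke xe13 ye2 ze3) (ke xe8 ye3 ze10) (ke xe8 ye3 ze9) (ke xe10 ye4 ze2) (ke xe10 ye7 ze14) (ke xe10 ye3 ze24) (ke xe10 ye3 ze23) (ke xe6 ye9 ze23) (ke xe6 ye9 ze22) (ke xe14 ye7 ze3) (ke xe6 ye9 ze30) (ke xe6 ye9 ze31) (ke xe6 ye9 ze32) (ke xe6 ye9 ze28) (ke xe6 ye9 ze29) (ke xe14 ye7 ze8) (ke xe14 ye7 ze5) (ke xe14 ye7 ze6) (ke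 xe14 ye7 ze7) (ke xe12 ye4 ze3) (ke xe6 ye9 ze37) (ke xe6 ye9 ze38)) (@D3.rec (fun _ => Pt) (ke xe6 ye9 ze39) (ke xe6 ye10 ze0) (ke xe10 ye3 ze21) (ke xe14 ye7 ze10) (ke xe14 ye7 ze15) (ke xe14 ye7 ze11) (ke xe11 ye12 ze34) (ke xe6 ye10 ze5) (ke xe6 ye10 ze3) (ke xe6 ye10 ze4) (ke xe12 ye4 ze18) (ke xe12 ye4 ze13) (ke xe14 ye7 ze19) (ke xe6 ye10 ze9) (ke xe6 ye10 ze10) (ke xe14 ye7 ze22) (ke xe6 ye10 ze12) (ke xe14 ye4 ze34) (ke xe14 ye7 ze24) (ke xe11 ye17 ze37) (ke xe14 ye7 ze28) (ke xe6 ye10 ze11) (ke xe14 ye7 ze30) (ke xe12 ye6 ze36) (ke xe6 ye10 ze14) (ke xe11 ye11 ze39) (ke xe14 ye7 ze33) (ke xe7 ye19 ze16) (ke xe11 ye17 ze7) (ke xe6 ye10 ze16) (ke xe14 ye7 ze35) (ke xe6 ye10 ze17) (ke xe9 ye1 ze12) (ke xe13 ye2 ze4) (ke xe8 ye3 ze7) (ke xe8 ye3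 ze6) (ke xe10 ye5 ze14) (ke xe10 ye9 ze18) (ke xe10 ye4 ze39) (ke xe10 ye4 ze38)) (@D3.rec (fun _ => Pt) (ke xe6 ye10 ze31) (ke xe6 ye10 ze30) (ke xe14 ye7 ze37) (ke xe6 ye10 ze38) (ke xe6 ye10 ze39) (ke xe6 ye11 ze0) (ke xe6 ye10 ze36) (ke xe6 ye10 ze37) (ke xe14 ye7 ze39) (ke xe14 ye8 ze0) (ke xe12 ye4 ze12) (ke xe6 ye11 ze3) (ke xe6 ye11 ze4) (ke xe6 ye11 ze5) (ke xe10 ye4 ze36) (ke xe14 ye8 ze2) (ke xe14 ye8 ze7) (ke xe14 ye8 ze3) (ke xe6 ye11 ze10) (ke xe6 ye11 ze8) (ke xe6 ye11 ze9) (ke xe12 ye4 ze9) (ke xe12 ye4 ze4) (ke xe14 ye8 ze10) (ke xe6 ye11 ze14) (ke xe14 ye8 ze13) (ke xe6 ye11 ze16) (ke xe14 ye5 ze15) (ke xe14 ye8 ze15) (ke xe14 ye8 ze17) (ke xe6 ye11 ze15) (ke xe14 ye8 ze19) (ke xe12 ye6 ze32) (ke xe6 ye11 ze18) (ke xe11 ye17 ze5) (ke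 xe11 ye12 ze1) (ke xe7 ye20 ze19) (ke xe11 ye9 ze39) (ke xe6 ye15 ze21) (ke xe6 ye15 ze30)) (@D3.rec (fun _ => Pt) (ke xe10 ye6 ze3) (ke xe10 ye6 ze4) (ke xe10 ye6 ze5) (ke xe10 ye6 ze0) (ke xe10 ye6 ze1) (ke xe10 ye6 ze2) (ke xe6 ye23 ze25) (ke xe8 ye1 ze18) (ke xe8 ye4 ze2) (ke xe6 ye11 ze31) (ke xe8 ye23 ze27) (ke xe10 ye7 ze5) (ke xe6 ye12 ze27) (ke xe10 ye7 ze4) (ke xe10 ye7 ze2) (ke xe6 ye12 ze10) (ke xe6 ye12 ze5) (ke xe13 ye1 ze30) (ke xe13 ye1 ze22) (ke xe13 ye1 ze28) (ke xe14 ye8 ze28) (ke xe13 ye1 ze27) (ke xe11 ye19 ze9) (ke xe6 ye12 ze7) (ke xe6 ye12 ze37) (ke xe10 ye6 ze34) (ke xe14 ye8 ze27) (ke xe11 ye12 ze37) (ke xe10 ye23 ze23) (ke xe8 ye23 ze36) (ke xe8 ye23 ze37) (ke xe8 ye23 ze38) (ke xe13 ye1 ze29) (ke xe13 ye1 ze31) (ke xe10 ye6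 ze25) (ke xe13 ye1 ze36) (ke xe6 ye12 ze30) (ke xe6 ye12 ze31) (ke xe6 ye12 ze19) (ke xe6 ye12 ze34)) (@D3.rec (fun _ => Pt) (ke xe6 ye12 ze39) (ke xe6 ye13 ze0) (ke xe10 ye6 ze14) (ke xe13 ye4 ze0) (ke xe10 ye6 ze13) (ke xe10 ye6 ze11) (ke xe14 ye9 ze4) (ke xe6 ye12 ze29) (ke xe14 ye9 ze1) (ke xe13 ye4 ze26) (ke xe14 ye9 ze2) (ke xe14 ye8 ze39) (ke xe11 ye22 ze25) (ke xe14 ye8 ze36) (ke xe10 ye3 ze22) (ke xe8 ye25 ze8) (ke xe6 ye13 ze6) (ke xe14 ye9 ze8) (ke xe6 ye13 ze8) (ke xe6 ye13 ze9) (ke xe6 ye13 ze2) (ke xe10 ye11 ze6) (ke xe10 ye9 ze6) (ke xe10 ye8 ze10) (ke xe10 ye11 ze4) (ke xe6 ye13 ze5) (ke xe14 ye9 ze6) (ke xe14 ye9 ze14) (ke xe14 ye9 ze7) (ke xe10 ye11 ze5) (ke xe6 ye13 ze7) (ke xe14 ye9 ze18) (ke xe10 ye8 ze9) (ke xe11 ye18 ze5) (ke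 xe14 ye9 ze20) (ke xe6 ye13 ze11) (ke xe14 ye9 ze22) (ke xe7 ye20 ze29) (ke xe6 ye13 ze14) (ke xe14 ye9 ze23)) (@D3.rec (fun _ => Pt) (ke xe14 ye9 ze24) (ke xe14 ye9 ze25) (ke xe11 ye22 ze21) (ke xe11 ye22 ze26) (ke xe11 ye15 ze13) (ke xe6 ye16 ze3) (ke xe6 ye16 ze12) (ke xe10 ye8 ze8) (ke xe10 ye8 ze7) (ke xe10 ye7 ze32) (ke xe10 ye7 ze23) (ke xe7 ye0 ze7) (ke xe8 ye1 ze25) (ke xe8 ye4 ze10) (ke xe6 ye13 ze26) (ke xe10 ye9 ze9) (ke xe6 ye14 ze20) (ke xe8 ye23 ze35) (ke xe10 ye9 ze8) (ke xe6 ye14 ze2) (ke xe6 ye13 ze37) (ke xe13 ye1 ze3) (ke xe14 ye9 ze36) (ke xe13 ye1 ze2) (ke xe11 ye14 ze26) (ke xe6 ye13 ze39) (ke xe6 ye14 ze31) (ke xe10 ye8 ze38) (ke xe14 ye9 ze35) (ke xe11 ye18 ze0) (ke xe11 ye1 ze22) (ke xe13 ye1 ze7) (ke xe13 ye0 ze35) (ke xe8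 ye24 ze30) (ke xe8 ye25 ze5) (ke xe8 ye25 ze6) (ke xe13 ye1 ze6) (ke xe13 ye1 ze9) (ke xe10 ye8 ze27) (ke xe13 ye1 ze15)) (@D3.rec (fun _ => Pt) (ke xe6 ye14 ze24) (ke xe6 ye14 ze25) (ke xe6 ye14 ze13) (ke xe6 ye14 ze28) (ke xe6 ye14 ze33) (ke xe6 ye14 ze34) (ke xe10 ye7 ze22) (ke xe13 ye4 ze9) (ke xe10 ye8 ze18) (ke xe10 ye8 ze15) (ke xe14 ye10 ze12) (ke xe6 ye14 ze23) (ke xe14 ye10 ze9) (ke xe13 ye4 ze28) (ke xe14 ye10 ze10) (ke xe14 ye10 ze7) (ke xe11 ye23 ze32) (ke xe14 ye10 ze3) (ke xe10 ye4 ze37) (ke xe8 ye24 ze0) (ke xe6 ye15 ze0) (ke xe14 ye10 ze16) (ke xe6 ye15 ze2) (ke xe6 ye15 ze3) (ke xe6 ye14 ze36) (ke xe10 ye10 ze25) (ke xe10 ye10 ze23) (ke xe6 ye14 ze39) (ke xe14 ye10 ze14) (ke xe14 ye10 ze22) (ke xe10 ye10 ze24) (ke xe14 ye10 ze15) (ke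 xe6 ye15 ze1) (ke xe14 ye10 ze26) (ke xe11 ye13 ze2) (ke xe14 ye10 ze28) (ke xe6 ye15 ze5) (ke xe14 ye10 ze30) (ke xe7 ye19 ze25) (ke xe6 ye15 ze8)) (@D3.rec (fun _ => Pt) (ke xe14 ye10 ze31) (ke xe14 ye10 ze32) (ke xe14 ye10 ze33) (ke xe11 ye23 ze26) (ke xe11 ye23 ze31) (ke xe6 ye15 ze16) (ke xe11 ye10 ze0) (ke xe6 ye15 ze22) (ke xe11 ye10 ze7) (ke xe14 ye10 ze37) (ke xe12 ye22 ze29) (ke xe6 ye15 ze20) (ke xe12 ye22 ze28) (ke xe14 ye11 ze2) (ke xe14 ye8 ze22) (ke xe6 ye15 ze27) (ke xe6 ye15 ze28) (ke xe6 ye15 ze29) (ke xe6 ye15 ze31) (ke xe14 ye9 ze5) (ke xe8 ye24 ze13) (ke xe14 ye11 ze6) (ke xe14 ye10 ze17) (ke xe10 ye9 ze26) (ke xe10 ye9 ze30) (ke xe10 ye9 ze25) (ke xe6 ye15 ze37) (ke xe11 ye15 ze12) (ke xe6 ye16 ze2) (ke xe11 ye15 ze20) (ke xe14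 ye11 ze11) (ke xe12 ye24 ze2) (ke xe6 ye16 ze0) (ke xe14 ye11 ze15) (ke xe12 ye24 ze0) (ke xe14 ye9 ze30) (ke xe6 ye16 ze8) (ke xe6 ye16 ze9) (ke xe6 ye16 ze10) (ke xe6 ye16 ze11)) (@D3.rec (fun _ => Pt) (ke xe14 ye10 ze13) (ke xe8 ye24 ze9) (ke xe14 ye11 ze18) (ke xe14 ye9 ze9) (ke xe10 ye7 ze24) (ke xe10 ye7 ze29) (ke xe10 ye7 ze21) (ke xe7 ye4 ze6) (ke xe14 ye11 ze24) (ke xe7 ye4 ze8) (ke xe7 ye4 ze9) (ke xe14 ye11 ze28) (ke xe7 ye4 ze11) (ke xe14 ye4 ze25) (ke xe7 ye6 ze19) (ke xe14 ye5 ze6) (ke xe7 ye7 ze24) (ke xe11 ye7 ze13) (ke xe7 ye4 ze30) (ke xe7 ye4 ze31) (ke xe7 ye4 ze32) (ke xe7 ye4 ze33) (ke xe11 ye8 ze16) (ke xe7 ye4 ze35) (ke xe7 ye4 ze36) (ke xe7 ye4 ze37) (ke xe7 ye4 ze38) (ke xe9 ye3 ze11) (ke xe9 ye15 ze10) (ke xe14 ye11 ze37) (ke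 xe13 ye17 ze0) (ke xe13 ye17 ze1) (ke xe10 ye18 ze16) (ke xe13 ye17 ze2) (ke xe10 ye18 ze14) (ke xe9 ye3 ze12) (ke xe9 ye15 ze12) (ke xe14 ye12 ze9) (ke xe13 ye17 ze4) (ke xe13 ye17 ze5)) (@D3.rec (fun _ => Pt) (ke xe10 ye20 ze6) (ke xe13 ye17 ze6) (ke xe10 ye20 ze3) (ke xe12 ye3 ze5) (ke xe14 ye3 ze27) (ke xe7 ye5 ze3) (ke xe7 ye5 ze4) (ke xe14 ye12 ze20) (ke xe7 ye5 ze6) (ke xe7 ye5 ze7) (ke xe12 ye3 ze12) (ke xe14 ye4 ze6) (ke xe7 ye5 ze12) (ke xe7 ye5 ze13) (ke xe14 ye12 ze25) (ke xe7 ye5 ze15) (ke xe7 ye5 ze16) (ke xe10 ye12 ze17) (ke xe10 ye12 ze18) (ke xe10 ye12 ze19) (ke xe10 ye12 ze20) (ke xe10 ye12 ze21) (ke xe10 ye12 ze22) (ke xe10 ye12 ze23) (ke xe13 ye17 ze9) (ke xe13 ye17 ze10) (ke xe13 ye17 ze11) (ke xe13 ye17 ze12) (ke xe10 ye12 ze28)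 (ke xe10 ye12 ze29) (ke xe10 ye12 ze30) (ke xe10 ye12 ze31) (ke xe10 ye12 ze32) (ke xe10 ye12 ze33) (ke xe13 ye17 ze13) (ke xe13 ye17 ze14) (ke xe14 ye13 ze0) (ke xe13 ye17 ze16) (ke xe13 ye17 ze17) (ke xe13 ye17 ze18)) (@D3.rec (fun _ => Pt) (ke xe14 ye13 ze5) (ke xe13 ye17 ze20) (ke xe9 ye0 ze32) (ke xe12 ye11 ze22) (ke xe14 ye13 ze8) (ke xe13 ye17 ze22) (ke xe10 ye18 ze33) (ke xe13 ye19 ze6) (ke xe6 ye17 ze34) (ke xe14 ye13 ze12) (ke xe13 ye17 ze25) (ke xe13 ye17 ze26) (ke xe12 ye11 ze6) (ke xe9 ye0 ze37) (ke xe14 ye13 ze18) (ke xe13 ye17 ze28) (ke xe10 ye20 ze21) (ke xe13 ye20 ze21) (ke xe6 ye18 ze0) (ke xe14 ye13 ze22) (ke xe13 ye17 ze31) (ke xe13 ye17 ze32) (ke xe7 ye5 ze21) (ke xe9 ye23 ze21) (ke xe12 ye3 ze6) (ke xe7 ye5 ze24) (ke xe7 ye5 ze25)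 (ke xe13 ye19 ze19) (ke xe12 ye8 ze9) (ke xe6 ye18 ze11) (ke xe14 ye13 ze35) (ke xe14 ye13 ze36) (ke xe7 ye5 ze29) (ke xe7 ye5 ze30) (ke xe7 ye5 ze35) (ke xe9 ye24 ze18) (ke xe12 ye3 ze11) (ke xe7 ye5 ze38) (ke xe7 ye5 ze39) (ke xe13 ye20 ze35)) (@D3.rec (fun _ => Pt) (ke xe12 ye8 ze13) (ke xe6 ye18 ze22) (ke xe14 ye14 ze7) (ke xe14 ye14 ze8) (ke xe7 ye6 ze3) (ke xe7 ye6 ze4) (ke xe10 ye14 ze6) (ke xe10 ye14 ze7) (ke xe6 ye18 ze29) (ke xe13 ye17 ze37) (ke xe13 ye17 ze38) (ke xe13 ye17 ze39) (ke xe14 ye14 ze20) (ke xe6 ye18 ze34) (ke xe13 ye18 ze1) (ke xe13 ye18 ze2) (ke xe13 ye18 ze3) (ke xe14 ye14 ze27) (ke xe13 ye18 ze6) (ke xe13 ye18 ze7) (ke xe13 ye18 ze8) (ke xe13 ye18 ze9) (ke xe12 ye11 ze1) (ke xe6 ye19 ze4) (ke xe9 ye18 ze16) (ke xe13 ye18 ze11)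 (ke xe9 ye18 ze6) (ke xe13 ye18 ze12) (ke xe13 ye18 ze13) (ke xe14 ye15 ze0) (ke xe13 ye18 ze15) (ke xe13 ye18 ze16) (ke xe10 ye19 ze13) (ke xe13 ye18 ze17) (ke xe14 ye15 ze9) (ke xe13 ye18 ze19) (ke xe14 ye15 ze13) (ke xe6 ye19 ze12) (ke xe14 ye15 ze15) (ke xe13 ye18 ze23)) (@D3.rec (fun _ => Pt) (ke xe13 ye18 ze24) (ke xe10 ye18 ze28) (ke xe13 ye18 ze26) (ke xe13 ye18 ze27) (ke xe13 ye18 ze28) (ke xe13 ye18 ze29) (ke xe12 ye11 ze17) (ke xe6 ye19 ze20) (ke xe9 ye18 ze35) (ke xe13 ye18 ze31) (ke xe9 ye18 ze25) (ke xe13 ye18 ze32) (ke xe13 ye18 ze33) (ke xe14 ye15 ze34) (ke xe13 ye18 ze35) (ke xe13 ye18 ze36) (ke xe10 ye17 ze23) (ke xe13 ye18 ze37) (ke xe14 ye16 ze3) (ke xe13 ye18 ze39) (ke xe14 ye16 ze7) (ke xe6 ye19 ze28) (ke xe14 ye16 ze9) (ke xe13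 ye19 ze3) (ke xe13 ye19 ze4) (ke xe10 ye20 ze17) (ke xe7 ye6 ze10) (ke xe7 ye6 ze11) (ke xe8 ye18 ze34) (ke xe8 ye18 ze35) (ke xe7 ye6 ze16) (ke xe7 ye6 ze17) (ke xe8 ye8 ze30) (ke xe7 ye25 ze3) (ke xe6 ye20 ze2) (ke xe14 ye16 ze19) (ke xe14 ye16 ze20) (ke xe14 ye16 ze24) (ke xe7 ye6 ze25) (ke xe7 ye6 ze26)) (@D3.rec (fun _ => Pt) (ke xe7 ye6 ze27) (ke xe7 ye6 ze28) (ke xe14 ye16 ze32) (ke xe14 ye16 ze35) (ke xe6 ye20 ze7) (ke xe14 ye16 ze37) (ke xe7 ye6 ze33) (ke xe7 ye6 ze35) (ke xe14 ye17 ze4) (ke xe7 ye6 ze37) (ke xe7 ye6 ze38) (ke xe14 ye17 ze9) (ke xe6 ye20 ze11) (ke xe14 ye17 ze11) (ke xe7 ye7 ze2) (ke xe14 ye17 ze15) (ke xe6 ye20 ze13) (ke xe14 ye17 ze18) (ke xe6 ye20 ze15) (ke xe14 ye17 ze21) (ke xe14 ye17 ze22) (ke xe7 ye7 ze7) (ke xe7 ye7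 ze8) (ke xe7 ye7 ze9) (ke xe7 ye7 ze15) (ke xe7 ye7 ze16) (ke xe8 ye20 ze8) (ke xe8 ye20 ze9) (ke xe7 ye7 ze21) (ke xe7 ye7 ze22) (ke xe8 ye9 ze2) (ke xe7 ye25 ze12) (ke xe6 ye20 ze30) (ke xe14 ye17 ze32) (ke xe14 ye17 ze33) (ke xe14 ye17 ze37) (ke xe7 ye7 ze30) (ke xe7 ye7 ze31) (ke xe7 ye7 ze32) (ke xe7 ye7 ze33)) (@D3.rec (fun _ => Pt) (ke xe14 ye18 ze5) (ke xe14 ye18 ze8) (ke xe6 ye20 ze35) (ke xe14 ye18 ze10) (ke xe7 ye7 ze38) (ke xe7 ye8 ze0) (ke xe14 ye18 ze17) (ke xe7 ye8 ze2) (ke xe7 ye8 ze3) (ke xe14 ye18 ze22) (ke xe6 ye20 ze39) (ke xe14 ye18 ze24) (ke xe7 ye8 ze7) (ke xe14 ye18 ze28) (ke xe6 ye21 ze1) (ke xe14 ye18 ze31) (ke xe6 ye21 ze3) (ke xe14 ye18 ze34) (ke xe14 ye18 ze35) (ke xe7 ye8 ze12) (ke xe7 ye8 ze13) (ke xe7 ye8 ze14) (ke xe9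 ye4 ze25) (ke xe10 ye15 ze16) (ke xe13 ye21 ze35) (ke xe9 ye4 ze19) (ke xe13 ye6 ze22) (ke xe9 ye16 ze29) (ke xe6 ye21 ze13) (ke xe10 ye18 ze7) (ke xe14 ye19 ze7) (ke xe13 ye21 ze36) (ke xe13 ye21 ze37) (ke xe10 ye18 ze13) (ke xe12 ye9 ze26) (ke xe13 ye21 ze38) (ke xe13 ye6 ze14) (ke xe14 ye19 ze18) (ke xe13 ye22 ze0) (ke xe14 ye7 ze4)) (@D3.rec (fun _ => Pt) (ke xe6 ye21 ze18) (ke xe14 ye19 ze22) (ke xe6 ye21 ze20) (ke xe14 ye19 ze25) (ke xe6 ye21 ze22) (ke xe14 ye19 ze29) (ke xe14 ye19 ze30) (ke xe10 ye17 ze29) (ke xe14 ye19 ze35) (ke xe10 ye20 ze37) (ke xe13 ye22 ze12) (ke xe13 ye22 ze13) (ke xe13 ye22 ze14) (ke xe10 ye17 ze33) (ke xe10 ye11 ze34) (ke xe10 ye20 ze30) (ke xe10 ye11 ze32) (ke xe10 ye20 ze22) (ke xe10 ye20 ze29) (ke xe14 ye20 ze12)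 (ke xe14 ye20 ze14) (ke xe6 ye21 ze29) (ke xe14 ye20 ze16) (ke xe10 ye20 ze38) (ke xe10 ye20 ze39) (ke xe10 ye21 ze0) (ke xe10 ye21 ze1) (ke xe12 ye10 ze8) (ke xe10 ye15 ze1) (ke xe14 ye20 ze27) (ke xe13 ye22 ze15) (ke xe13 ye22 ze16) (ke xe10 ye20 ze5) (ke xe10 ye13 ze6) (ke xe10 ye20 ze23) (ke xe14 ye20 ze37) (ke xe10 ye20 ze25) (ke xe10 ye20 ze26) (ke xe6 ye21 ze38) (ke xe14 ye21 ze3)) (@D3.rec (fun _ => Pt) (ke xe10 ye20 ze7) (ke xe10 ye20 ze4) (ke xe14 ye21 ze10) (ke xe6 ye22 ze1) (ke xe14 ye21 ze14) (ke xe6 ye22 ze3) (ke xe14 ye21 ze17) (ke xe14 ye21 ze18) (ke xe10 ye19 ze38) (ke xe10 ye20 ze12) (ke xe10 ye20 ze13) (ke xe10 ye20 ze14) (ke xe10 ye20 ze15) (ke xe10 ye14 ze32) (ke xe13 ye22 ze17) (ke xe9 ye4 ze32) (ke xe9 ye4 ze12) (ke xe9 ye17 ze23)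 (ke xe10 ye19 ze36) (ke xe6 ye22 ze13) (ke xe14 ye21 ze33) (ke xe13 ye22 ze18) (ke xe13 ye22 ze19) (ke xe10 ye20 ze2) (ke xe12 ye9 ze25) (ke xe13 ye22 ze20) (ke xe14 ye22 ze2) (ke xe13 ye22 ze22) (ke xe14 ye7 ze38) (ke xe6 ye22 ze18) (ke xe14 ye22 ze6) (ke xe6 ye22 ze20) (ke xe14 ye22 ze9) (ke xe6 ye22 ze22) (ke xe14 ye22 ze13) (ke xe14 ye22 ze14) (ke xe10 ye19 ze18) (ke xe14 ye22 ze19) (ke xe10 ye19 ze8) (ke xe13 ye22 ze34)) (@D3.rec (fun _ => Pt) (ke xe13 ye22 ze35) (ke xe13 ye22 ze36) (ke xe10 ye19 ze23) (ke xe10 ye12 ze2) (ke xe10 ye19 ze1) (ke xe10 ye18 ze32) (ke xe10 ye12 ze0) (ke xe10 ye19 ze0) (ke xe14 ye22 ze36) (ke xe14 ye22 ze38) (ke xe6 ye22 ze29) (ke xe14 ye23 ze0) (ke xe10 ye19 ze9) (ke xe10 ye19 ze10) (ke xe10 ye19 ze11) (ke xe10 ye19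 ze12) (ke xe12 ye9 ze36) (ke xe10 ye15 ze25) (ke xe14 ye23 ze11) (ke xe13 ye22 ze37) (ke xe13 ye22 ze38) (ke xe10 ye13 ze16) (ke xe10 ye18 ze17) (ke xe10 ye18 ze34) (ke xe14 ye23 ze21) (ke xe10 ye18 ze36) (ke xe10 ye18 ze37) (ke xe6 ye22 ze38) (ke xe14 ye23 ze27) (ke xe10 ye18 ze18) (ke xe10 ye18 ze15) (ke xe14 ye23 ze34) (ke xe6 ye23 ze1) (ke xe14 ye23 ze37) (ke xe6 ye23 ze3) (ke xe14 ye24 ze0) (ke xe14 ye24 ze1) (ke xe10 ye18 ze9) (ke xe10 ye18 ze23) (ke xe10 ye18 ze24)) (@D3.rec (fun _ => Pt) (ke xe10 ye18 ze25) (ke xe10 ye18 ze26) (ke xe7 ye8 ze15) (ke xe12 ye15 ze27) (ke xe7 ye8 ze17) (ke xe7 ye8 ze18) (ke xe6 ye23 ze13) (ke xe8 ye13 ze19) (ke xe14 ye24 ze17) (ke xe12 ye18 ze17) (ke xe7 ye8 ze22) (ke xe7 ye8 ze23) (ke xe7 ye8 ze24) (ke xe7 ye8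 ze25) (ke xe7 ye8 ze26) (ke xe7 ye8 ze27) (ke xe7 ye8 ze28) (ke xe14 ye24 ze37) (ke xe7 ye8 ze30) (ke xe7 ye8 ze31) (ke xe7 ye8 ze36) (ke xe6 ye23 ze26) (ke xe14 ye8 ze25) (ke xe14 ye25 ze4) (ke xe14 ye6 ze0) (ke xe7 ye9 ze7) (ke xe7 ye9 ze8) (ke xe7 ye9 ze9) (ke xe8 ye15 ze29) (ke xe12 ye2 ze30) (ke xe12 ye2 ze23) (ke xe6 ye23 ze34) (ke xe14 ye25 ze12) (ke xe12 ye24 ze39) (ke xe14 ye25 ze13) (ke xe7 ye9 ze14) (ke xe7 ye9 ze15) (ke xe7 ye9 ze16) (ke xe14 ye25 ze25) (ke xe7 ye9 ze18)) (@D3.rec (fun _ => Pt) (ke xe7 ye9 ze19) (ke xe7 ye9 ze20) (ke xe7 ye9 ze21) (ke xe14 ye25 ze30) (ke xe7 ye9 ze23) (ke xe14 ye25 ze35) (ke xe6 ye24 ze1) (ke xe14 ye25 ze37) (ke xe7 ye9 ze27) (ke xe12 ye10 ze11) (ke xe7 ye24 ze20) (ke xe12 ye2 ze9) (ke xe13 ye19 ze25) (ke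 xe6 ye24 ze4) (ke xe8 ye7 ze27) (ke xe15 ye0 ze5) (ke xe6 ye24 ze7) (ke xe7 ye24 ze21) (ke xe8 ye15 ze12) (ke xe8 ye17 ze28) (ke xe6 ye24 ze9) (ke xe15 ye0 ze9) (ke xe12 ye2 ze21) (ke xe6 ye24 ze15) (ke xe6 ye24 ze16) (ke xe6 ye24 ze17) (ke xe15 ye0 ze12) (ke xe15 ye0 ze13) (ke xe15 ye0 ze14) (ke xe15 ye0 ze15) (ke xe12 ye22 ze27) (ke xe7 ye10 ze7) (ke xe7 ye10 ze8) (ke xe7 ye10 ze9) (ke xe7 ye10 ze10) (ke xe7 ye10 ze16) (ke xe7 ye10 ze17) (ke xe7 ye10 ze18) (ke xe7 ye10 ze19) (ke xe12 ye24 ze36)) (@D3.rec (fun _ => Pt) (ke xe7 ye10 ze21) (ke xe7 ye10 ze22) (ke xe7 ye10 ze23) (ke xe7 ye10 ze24) (ke xe15 ye1 ze4) (ke xe7 ye10 ze26) (ke xe7 ye10 ze27) (ke xe7 ye10 ze28) (ke xe15 ye1 ze11) (ke xe7 ye10 ze30) (ke xe7 ye10 ze31) (ke xe15 ye1 ze16) (ke xe6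 ye24 ze28) (ke xe15 ye1 ze19) (ke xe15 ye1 ze22) (ke xe6 ye24 ze29) (ke xe15 ye1 ze24) (ke xe6 ye24 ze31) (ke xe15 ye1 ze26) (ke xe7 ye11 ze0) (ke xe7 ye11 ze1) (ke xe7 ye11 ze2) (ke xe7 ye11 ze3) (ke xe10 ye6 ze28) (ke xe7 ye11 ze5) (ke xe15 ye2 ze0) (ke xe7 ye11 ze7) (ke xe12 ye24 ze28) (ke xe6 ye24 ze38) (ke xe15 ye2 ze5) (ke xe7 ye11 ze11) (ke xe7 ye11 ze12) (ke xe7 ye11 ze13) (ke xe14 ye13 ze31) (ke xe7 ye11 ze14) (ke xe7 ye11 ze15) (ke xe7 ye11 ze16) (ke xe15 ye2 ze19) (ke xe7 ye11 ze18) (ke xe7 ye11 ze19)) (@D3.rec (fun _ => Pt) (ke xe6 ye25 ze5) (ke xe15 ye2 ze25) (ke xe11 ye2 ze0) (ke xe7 ye11 ze22) (ke xe7 ye11 ze23) (ke xe7 ye11 ze24) (ke xe7 ye11 ze25) (ke xe15 ye2 ze34) (ke xe7 ye11 ze27) (ke xe7 ye11 ze28) (ke xe15 ye2 ze39) (ke xe6 ye25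 ze11) (ke xe15 ye3 ze2) (ke xe15 ye3 ze3) (ke xe7 ye11 ze33) (ke xe7 ye11 ze34) (ke xe7 ye11 ze35) (ke xe15 ye3 ze9) (ke xe6 ye25 ze14) (ke xe15 ye3 ze13) (ke xe6 ye25 ze16) (ke xe12 ye5 ze32) (ke xe7 ye12 ze0) (ke xe7 ye12 ze1) (ke xe15 ye3 ze20) (ke xe15 ye3 ze23) (ke xe15 ye3 ze27) (ke xe6 ye25 ze19) (ke xe15 ye3 ze31) (ke xe15 ye3 ze32) (ke xe6 ye25 ze20) (ke xe15 ye3 ze37) (ke xe15 ye3 ze36) (ke xe6 ye25 ze22) (ke xe15 ye4 ze1) (ke xe15 ye4 ze2) (ke xe6 ye25 ze24) (ke xe15 ye4 ze5) (ke xe7 ye12 ze15) (ke xe7 ye12 ze16)) (@D3.rec (fun _ => Pt) (ke xe7 ye12 ze17) (ke xe7 ye12 ze18) (ke xe7 ye12 ze20) (ke xe7 ye12 ze22) (ke xe12 ye17 ze7) (ke xe7 ye12 ze23) (ke xe7 ye12 ze24) (ke xe6 ye25 ze34) (ke xe15 ye4 ze19) (ke xe12 ye18 ze37) (ke xe8 ye13 ze33)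 (ke xe7 ye12 ze28) (ke xe7 ye12 ze29) (ke xe7 ye12 ze30) (ke xe7 ye12 ze31) (ke xe7 ye12 ze32) (ke xe7 ye12 ze33) (ke xe15 ye4 ze37) (ke xe7 ye12 ze35) (ke xe7 ye12 ze36) (ke xe7 ye13 ze1) (ke xe7 ye0 ze6) (ke xe15 ye5 ze4) (ke xe14 ye6 ze32) (ke xe14 ye9 ze33) (ke xe7 ye13 ze12) (ke xe7 ye13 ze13) (ke xe7 ye13 ze14) (ke xe12 ye2 ze24) (ke xe8 ye17 ze17) (ke xe12 ye2 ze26) (ke xe7 ye0 ze15) (ke xe15 ye5 ze12) (ke xe12 ye23 ze27) (ke xe15 ye5 ze13) (ke xe7 ye13 ze19) (ke xe7 ye13 ze20) (ke xe7 ye13 ze21) (ke xe15 ye5 ze25) (ke xe7 ye13 ze23))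
def f_e_11 : D2 → D3 → Pt := @D2.rec (fun _ => D3 → Pt) (@D3.rec (fun _ => Pt) (ke xe7 ye13 ze24) (ke xe7 ye13 ze25) (ke xe7 ye13 ze26) (ke xe15 ye5 ze30) (ke xe15 ye5 ze33) (ke xe7 ye0 ze21) (ke xe15 ye5 ze35) (ke xe7 ye13 ze31) (ke xe12 ye10 ze26) (ke xe12 ye2 ze15) (ke xe7 ye24 ze31) (ke xe13 ye21 ze0) (ke xe7 ye0 ze24) (ke xe15 ye0 ze7) (ke xe8 ye7 ze32) (ke xe7 ye0 ze26) (ke xe8 ye14 ze36) (ke xe8 ye15 ze38) (ke xe7 ye24 ze32) (ke xe7 ye0 ze29) (ke xe15 ye0 ze8) (ke xe12 ye2 ze28) (ke xe7 ye0 ze35) (ke xe7 ye0 ze36) (ke xe7 ye0 ze37) (ke xe15 ye6 ze6) (ke xe15 ye6 ze7) (ke xe15 ye6 ze8) (ke xe15 ye6 ze9) (ke xe12 ye23 ze39) (ke xe7 ye14 ze11) (ke xe7 ye14 ze12) (ke xe7 ye14 ze13) (ke xe7 ye14 ze14) (ke xe7 ye14 ze20) (ke xe7 ye14 ze21) (ke xe7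 ye14 ze22) (ke xe7 ye14 ze23) (ke xe12 ye23 ze24) (ke xe7 ye14 ze25)) (@D3.rec (fun _ => Pt) (ke xe7 ye14 ze26) (ke xe7 ye14 ze27) (ke xe7 ye14 ze28) (ke xe15 ye6 ze38) (ke xe7 ye14 ze30) (ke xe7 ye14 ze31) (ke xe7 ye14 ze32) (ke xe15 ye1 ze10) (ke xe7 ye14 ze34) (ke xe7 ye14 ze35) (ke xe15 ye1 ze15) (ke xe7 ye1 ze8) (ke xe15 ye7 ze9) (ke xe15 ye7 ze12) (ke xe7 ye1 ze9) (ke xe15 ye7 ze14) (ke xe7 ye1 ze11) (ke xe15 ye7 ze16) (ke xe7 ye15 ze2) (ke xe7 ye15 ze3) (ke xe7 ye15 ze4) (ke xe7 ye15 ze5) (ke xe10 ye8 ze30) (ke xe7 ye15 ze7) (ke xe15 ye7 ze30) (ke xe7 ye15 ze9) (ke xe12 ye23 ze16) (ke xe7 ye1 ze18) (ke xe15 ye7 ze35) (ke xe7 ye15 ze13) (ke xe7 ye15 ze14) (ke xe7 ye15 ze15) (ke xe14 ye14 ze3) (ke xe7 ye15 ze16) (ke xe7 ye11 ze21) (ke xe7 ye15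 ze17) (ke xe15 ye8 ze8) (ke xe7 ye15 ze19) (ke xe7 ye15 ze20) (ke xe7 ye1 ze25)) (@D3.rec (fun _ => Pt) (ke xe10 ye24 ze2) (ke xe15 ye2 ze13) (ke xe7 ye15 ze22) (ke xe7 ye15 ze23) (ke xe7 ye15 ze24) (ke xe7 ye15 ze25) (ke xe15 ye8 ze20) (ke xe7 ye15 ze27) (ke xe7 ye15 ze28) (ke xe15 ye8 ze25) (ke xe7 ye1 ze31) (ke xe15 ye8 ze28) (ke xe15 ye8 ze29) (ke xe7 ye15 ze33) (ke xe7 ye15 ze34) (ke xe7 ye15 ze35) (ke xe15 ye8 ze35) (ke xe7 ye1 ze34) (ke xe15 ye8 ze38) (ke xe7 ye1 ze36) (ke xe12 ye5 ze3) (ke xe7 ye15 ze37) (ke xe7 ye15 ze38) (ke xe15 ye9 ze5) (ke xe15 ye9 ze8) (ke xe15 ye9 ze12) (ke xe7 ye1 ze39) (ke xe15 ye9 ze16) (ke xe15 ye9 ze17) (ke xe7 ye2 ze0) (ke xe15 ye9 ze22) (ke xe15 ye9 ze21) (ke xe7 ye2 ze2) (ke xe15 ye9 ze26) (ke xe15 ye9 ze27) (ke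 xe7 ye2 ze4) (ke xe15 ye9 ze30) (ke xe7 ye16 ze9) (ke xe7 ye16 ze10) (ke xe7 ye16 ze11)) (@D3.rec (fun _ => Pt) (ke xe7 ye16 ze12) (ke xe7 ye16 ze14) (ke xe8 ye0 ze18) (ke xe7 ye2 ze11) (ke xe7 ye2 ze13) (ke xe15 ye10 ze0) (ke xe7 ye16 ze19) (ke xe7 ye16 ze21) (ke xe7 ye16 ze22) (ke xe7 ye16 ze29) (ke xe7 ye16 ze30) (ke xe7 ye16 ze31) (ke xe15 ye10 ze7) (ke xe7 ye16 ze33) (ke xe7 ye16 ze34) (ke xe7 ye2 ze19) (ke xe15 ye10 ze12) (ke xe7 ye16 ze37) (ke xe7 ye16 ze38) (ke xe15 ye10 ze17) (ke xe7 ye2 ze21) (ke xe15 ye10 ze20) (ke xe15 ye10 ze21) (ke xe7 ye17 ze3) (ke xe7 ye17 ze4) (ke xe15 ye10 ze25) (ke xe7 ye2 ze24) (ke xe15 ye10 ze29) (ke xe7 ye17 ze8) (ke xe7 ye17 ze9) (ke xe15 ye10 ze37) (ke xe7 ye2 ze27) (ke xe15 ye11 ze0) (ke xe15 ye11 ze1) (ke xe7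 ye17 ze14) (ke xe7 ye17 ze15) (ke xe15 ye11 ze6) (ke xe7 ye2 ze30) (ke xe15 ye11 ze10) (ke xe15 ye11 ze11)) (@D3.rec (fun _ => Pt) (ke xe7 ye2 ze32) (ke xe7 ye2 ze33) (ke xe15 ye11 ze16) (ke xe15 ye11 ze17) (ke xe7 ye17 ze23) (ke xe7 ye17 ze24) (ke xe15 ye11 ze25) (ke xe7 ye2 ze36) (ke xe15 ye11 ze28) (ke xe15 ye11 ze29) (ke xe7 ye2 ze38) (ke xe7 ye2 ze39) (ke xe15 ye11 ze32) (ke xe15 ye11 ze33) (ke xe8 ye0 ze26) (ke xe7 ye3 ze2) (ke xe7 ye3 ze4) (ke xe15 ye11 ze36) (ke xe7 ye17 ze37) (ke xe7 ye17 ze39) (ke xe7 ye18 ze0) (ke xe7 ye18 ze7) (ke xe7 ye18 ze8) (ke xe7 ye18 ze9) (ke xe15 ye12 ze3) (ke xe7 ye18 ze11) (ke xe7 ye18 ze12) (ke xe7 ye3 ze10) (ke xe15 ye12 ze8) (ke xe7 ye18 ze15) (ke xe7 ye18 ze16) (ke xe15 ye12 ze13) (ke xe7 ye3 ze12) (ke xe15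 ye12 ze16) (ke xe15 ye12 ze17) (ke xe7 ye18 ze21) (ke xe7 ye18 ze22) (ke xe15 ye12 ze21) (ke xe7 ye3 ze15) (ke xe15 ye12 ze25)) (@D3.rec (fun _ => Pt) (ke xe7 ye18 ze26) (ke xe7 ye18 ze27) (ke xe15 ye12 ze33) (ke xe7 ye3 ze18) (ke xe15 ye12 ze36) (ke xe15 ye12 ze37) (ke xe7 ye18 ze32) (ke xe7 ye18 ze33) (ke xe15 ye13 ze2) (ke xe7 ye3 ze21) (ke xe15 ye13 ze6) (ke xe15 ye13 ze7) (ke xe7 ye3 ze23) (ke xe7 ye3 ze24) (ke xe15 ye13 ze12) (ke xe15 ye13 ze13) (ke xe7 ye19 ze1) (ke xe7 ye19 ze2) (ke xe15 ye13 ze21) (ke xe7 ye3 ze27) (ke xe15 ye13 ze24) (ke xe15 ye13 ze25) (ke xe7 ye3 ze29) (ke xe7 ye3 ze30) (ke xe15 ye13 ze28) (ke xe15 ye13 ze29) (ke xe12 ye18 ze21) (ke xe12 ye18 ze22) (ke xe12 ye18 ze23) (ke xe15 ye14 ze2) (ke xe12 ye18 ze25) (ke xe12 ye18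 ze26) (ke xe7 ye3 ze34) (ke xe12 ye19 ze1) (ke xe12 ye19 ze2) (ke xe12 ye19 ze3) (ke xe15 ye14 ze17) (ke xe12 ye19 ze5) (ke xe12 ye19 ze6) (ke xe7 ye3 ze38)) (@D3.rec (fun _ => Pt) (ke xe14 ye4 ze27) (ke xe14 ye5 ze8) (ke xe7 ye4 ze7) (ke xe15 ye6 ze5) (ke xe14 ye11 ze26) (ke xe7 ye4 ze10) (ke xe15 ye0 ze11) (ke xe14 ye11 ze30) (ke xe9 ye1 ze10) (ke xe7 ye4 ze19) (ke xe7 ye4 ze20) (ke xe7 ye6 ze22) (ke xe7 ye7 ze27) (ke xe7 ye4 ze29) (ke xe15 ye14 ze26) (ke xe7 ye4 ze34) (ke xe15 ye14 ze27) (ke xe7 ye5 ze0) (ke xe7 ye5 ze2) (ke xe15 ye14 ze28) (ke xe15 ye14 ze29) (ke xe7 ye5 ze5) (ke xe15 ye14 ze30) (ke xe7 ye5 ze9) (ke xe7 ye5 ze11) (ke xe15 ye14 ze31) (ke xe15 ye14 ze32) (ke xe7 ye5 ze14) (ke xe15 ye14 ze33) (ke xe12 ye3 ze7) (ke xe7 ye5 ze23) (ke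 xe15 ye14 ze34) (ke xe14 ye13 ze30) (ke xe7 ye5 ze27) (ke xe7 ye5 ze28) (ke xe15 ye14 ze22) (ke xe15 ye14 ze35) (ke xe15 ye14 ze36) (ke xe12 ye3 ze13) (ke xe7 ye5 ze37)) (@D3.rec (fun _ => Pt) (ke xe15 ye14 ze39) (ke xe14 ye14 ze2) (ke xe7 ye6 ze1) (ke xe7 ye6 ze2) (ke xe15 ye14 ze24) (ke xe15 ye15 ze0) (ke xe15 ye15 ze1) (ke xe8 ye18 ze38) (ke xe7 ye6 ze12) (ke xe7 ye6 ze14) (ke xe7 ye6 ze15) (ke xe12 ye22 ze30) (ke xe14 ye16 ze16) (ke xe10 ye11 ze17) (ke xe7 ye6 ze23) (ke xe13 ye3 ze26) (ke xe15 ye14 ze23) (ke xe15 ye15 ze8) (ke xe7 ye6 ze24) (ke xe15 ye15 ze10) (ke xe14 ye16 ze26) (ke xe15 ye15 ze12) (ke xe14 ye16 ze29) (ke xe14 ye16 ze30) (ke xe12 ye4 ze19) (ke xe7 ye6 ze29) (ke xe12 ye4 ze20) (ke xe7 ye6 ze32) (ke xe15 ye15 ze14) (ke xe14 ye16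 ze39) (ke xe14 ye17 ze0) (ke xe15 ye15 ze18) (ke xe14 ye17 ze2) (ke xe7 ye6 ze36) (ke xe15 ye15 ze19) (ke xe14 ye17 ze7) (ke xe12 ye4 ze15) (ke xe7 ye7 ze1) (ke xe15 ye15 ze21) (ke xe14 ye17 ze13)) (@D3.rec (fun _ => Pt) (ke xe14 ye17 ze14) (ke xe12 ye4 ze16) (ke xe7 ye7 ze5) (ke xe7 ye7 ze6) (ke xe12 ye4 ze14) (ke xe15 ye15 ze26) (ke xe15 ye15 ze27) (ke xe14 ye17 ze26) (ke xe14 ye17 ze27) (ke xe14 ye17 ze28) (ke xe8 ye20 ze11) (ke xe7 ye7 ze17) (ke xe7 ye7 ze19) (ke xe7 ye7 ze20) (ke xe12 ye24 ze1) (ke xe14 ye17 ze29) (ke xe10 ye11 ze22) (ke xe7 ye7 ze28) (ke xe13 ye3 ze25) (ke xe15 ye14 ze25) (ke xe15 ye15 ze38) (ke xe7 ye7 ze29) (ke xe15 ye16 ze0) (ke xe14 ye17 ze39) (ke xe15 ye16 ze2) (ke xe14 ye18 ze2) (ke xe14 ye18 ze3) (ke xe12 ye4 ze10) (ke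 xe7 ye7 ze34) (ke xe12 ye4 ze11) (ke xe7 ye7 ze37) (ke xe15 ye16 ze4) (ke xe14 ye18 ze12) (ke xe14 ye18 ze13) (ke xe15 ye16 ze8) (ke xe14 ye18 ze15) (ke xe7 ye8 ze1) (ke xe15 ye16 ze9) (ke xe14 ye18 ze20) (ke xe12 ye4 ze6)) (@D3.rec (fun _ => Pt) (ke xe7 ye8 ze6) (ke xe15 ye16 ze11) (ke xe14 ye18 ze26) (ke xe14 ye18 ze27) (ke xe12 ye4 ze7) (ke xe7 ye8 ze10) (ke xe7 ye8 ze11) (ke xe12 ye4 ze5) (ke xe15 ye16 ze16) (ke xe15 ye16 ze17) (ke xe14 ye18 ze39) (ke xe14 ye19 ze0) (ke xe14 ye19 ze1) (ke xe15 ye16 ze24) (ke xe14 ye24 ze14) (ke xe14 ye24 ze15) (ke xe14 ye24 ze16) (ke xe7 ye8 ze20) (ke xe15 ye16 ze27) (ke xe15 ye16 ze28) (ke xe15 ye16 ze29) (ke xe12 ye18 ze18) (ke xe14 ye24 ze23) (ke xe14 ye24 ze24) (ke xe14 ye24 ze25) (ke xe14 ye24 ze26) (ke xe14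 ye24 ze27) (ke xe14 ye24 ze28) (ke xe15 ye16 ze38) (ke xe14 ye24 ze30) (ke xe14 ye24 ze31) (ke xe14 ye24 ze32) (ke xe14 ye24 ze33) (ke xe15 ye17 ze0) (ke xe15 ye17 ze1) (ke xe7 ye8 ze29) (ke xe15 ye17 ze2) (ke xe14 ye24 ze39) (ke xe15 ye17 ze5) (ke xe10 ye5 ze37)) (@D3.rec (fun _ => Pt) (ke xe10 ye10 ze6) (ke xe7 ye8 ze34) (ke xe7 ye8 ze35) (ke xe15 ye15 ze5) (ke xe14 ye25 ze1) (ke xe14 ye25 ze2) (ke xe14 ye25 ze3) (ke xe10 ye10 ze8) (ke xe7 ye9 ze0) (ke xe7 ye9 ze1) (ke xe14 ye10 ze38) (ke xe14 ye8 ze21) (ke xe7 ye9 ze4) (ke xe7 ye9 ze5) (ke xe7 ye9 ze6) (ke xe15 ye17 ze10) (ke xe15 ye17 ze11) (ke xe14 ye25 ze8) (ke xe14 ye25 ze9) (ke xe14 ye25 ze10) (ke xe15 ye2 ze11) (ke xe7 ye9 ze12) (ke xe7 ye9 ze13) (ke xe15 ye17 ze13) (ke xe15 ye17 ze14) (ke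 xe15 ye17 ze15) (ke xe14 ye25 ze20) (ke xe14 ye25 ze21) (ke xe15 ye12 ze6) (ke xe14 ye25 ze23) (ke xe15 ye10 ze10) (ke xe7 ye9 ze17) (ke xe15 ye17 ze22) (ke xe15 ye4 ze14) (ke xe7 ye9 ze22) (ke xe15 ye17 ze23) (ke xe14 ye25 ze32) (ke xe15 ye17 ze25) (ke xe9 ye9 ze19) (ke xe7 ye9 ze24)) (@D3.rec (fun _ => Pt) (ke xe7 ye9 ze26) (ke xe14 ye25 ze39) (ke xe15 ye0 ze0) (ke xe7 ye9 ze31) (ke xe7 ye9 ze30) (ke xe15 ye17 ze28) (ke xe15 ye17 ze29) (ke xe7 ye9 ze35) (ke xe7 ye9 ze36) (ke xe7 ye9 ze37) (ke xe13 ye2 ze5) (ke xe15 ye17 ze30) (ke xe15 ye17 ze31) (ke xe7 ye10 ze2) (ke xe7 ye10 ze3) (ke xe7 ye10 ze4) (ke xe7 ye10 ze5) (ke xe7 ye10 ze6) (ke xe15 ye17 ze32) (ke xe15 ye17 ze33) (ke xe15 ye17 ze34) (ke xe15 ye17 ze35) (ke xe15 ye17 ze36) (ke xe15 ye17 ze37)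 (ke xe15 ye17 ze38) (ke xe15 ye0 ze27) (ke xe15 ye0 ze29) (ke xe14 ye2 ze5) (ke xe13 ye21 ze31) (ke xe14 ye2 ze6) (ke xe7 ye10 ze12) (ke xe15 ye18 ze5) (ke xe7 ye10 ze13) (ke xe14 ye2 ze23) (ke xe14 ye2 ze24) (ke xe14 ye2 ze25) (ke xe15 ye0 ze30) (ke xe14 ye8 ze9) (ke xe15 ye0 ze32) (ke xe10 ye4 ze25)) (@D3.rec (fun _ => Pt) (ke xe7 ye10 ze20) (ke xe10 ye5 ze35) (ke xe15 ye0 ze35) (ke xe15 ye0 ze36) (ke xe15 ye0 ze37) (ke xe15 ye8 ze13) (ke xe15 ye0 ze39) (ke xe15 ye18 ze7) (ke xe15 ye1 ze1) (ke xe15 ye1 ze2) (ke xe7 ye10 ze25) (ke xe15 ye1 ze7) (ke xe15 ye18 ze11) (ke xe15 ye1 ze9) (ke xe15 ye18 ze12) (ke xe7 ye10 ze29) (ke xe15 ye18 ze14) (ke xe15 ye18 ze15) (ke xe15 ye1 ze14) (ke xe7 ye10 ze32) (ke xe15 ye18 ze18) (ke xe7 ye10 ze34) (ke xe15 ye18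 ze21) (ke xe15 ye18 ze22) (ke xe7 ye10 ze35) (ke xe15 ye18 ze25) (ke xe7 ye10 ze37) (ke xe15 ye18 ze28) (ke xe7 ye10 ze39) (ke xe15 ye18 ze30) (ke xe15 ye18 ze31) (ke xe15 ye1 ze30) (ke xe15 ye1 ze31) (ke xe15 ye1 ze32) (ke xe10 ye4 ze6) (ke xe15 ye1 ze34) (ke xe15 ye1 ze35) (ke xe10 ye6 ze27) (ke xe15 ye1 ze38) (ke xe7 ye11 ze6)) (@D3.rec (fun _ => Pt) (ke xe15 ye2 ze2) (ke xe7 ye11 ze10) (ke xe10 ye9 ze34) (ke xe15 ye2 ze8) (ke xe15 ye2 ze9) (ke xe15 ye2 ze12) (ke xe15 ye2 ze15) (ke xe15 ye2 ze16) (ke xe15 ye2 ze18) (ke xe7 ye11 ze17) (ke xe15 ye2 ze22) (ke xe15 ye2 ze23) (ke xe15 ye2 ze24) (ke xe15 ye8 ze5) (ke xe15 ye2 ze28) (ke xe15 ye2 ze29) (ke xe15 ye2 ze30) (ke xe15 ye19 ze1) (ke xe15 ye6 ze19) (ke xe15 ye2 ze33) (ke xe7 ye11 ze26) (ke xe15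 ye19 ze3) (ke xe15 ye2 ze37) (ke xe15 ye19 ze5) (ke xe7 ye11 ze29) (ke xe15 ye19 ze8) (ke xe7 ye11 ze31) (ke xe7 ye11 ze32) (ke xe15 ye19 ze9) (ke xe15 ye19 ze10) (ke xe14 ye2 ze34) (ke xe15 ye3 ze7) (ke xe15 ye19 ze14) (ke xe7 ye11 ze36) (ke xe15 ye19 ze18) (ke xe15 ye19 ze19) (ke xe7 ye16 ze4) (ke xe7 ye11 ze38) (ke xe13 ye20 ze12) (ke xe15 ye3 ze18)) (@D3.rec (fun _ => Pt) (ke xe7 ye12 ze2) (ke xe15 ye19 ze26) (ke xe15 ye19 ze30) (ke xe7 ye12 ze3) (ke xe15 ye19 ze34) (ke xe15 ye19 ze35) (ke xe15 ye19 ze36) (ke xe7 ye12 ze4) (ke xe15 ye19 ze39) (ke xe15 ye20 ze0) (ke xe15 ye19 ze38) (ke xe7 ye12 ze6) (ke xe7 ye12 ze7) (ke xe15 ye20 ze5) (ke xe15 ye20 ze6) (ke xe7 ye12 ze10) (ke xe7 ye12 ze9) (ke xe15 ye20 ze8) (ke xe15 ye20 ze9) (ke xe7 ye12 ze12)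 (ke xe15 ye20 ze12) (ke xe7 ye12 ze14) (ke xe15 ye20 ze13) (ke xe15 ye20 ze14) (ke xe15 ye4 ze9) (ke xe15 ye4 ze10) (ke xe10 ye8 ze24) (ke xe15 ye4 ze11) (ke xe15 ye4 ze12) (ke xe15 ye4 ze13) (ke xe15 ye20 ze21) (ke xe15 ye4 ze18) (ke xe7 ye12 ze26) (ke xe15 ye20 ze22) (ke xe15 ye20 ze23) (ke xe15 ye20 ze24) (ke xe12 ye18 ze38) (ke xe15 ye4 ze25) (ke xe15 ye4 ze26) (ke xe15 ye4 ze27)) (@D3.rec (fun _ => Pt) (ke xe15 ye20 ze33) (ke xe15 ye4 ze29) (ke xe15 ye4 ze30) (ke xe15 ye4 ze31) (ke xe15 ye4 ze32) (ke xe15 ye4 ze33) (ke xe15 ye4 ze34) (ke xe15 ye20 ze35) (ke xe15 ye20 ze36) (ke xe7 ye12 ze34) (ke xe15 ye20 ze37) (ke xe15 ye4 ze39) (ke xe10 ye10 ze27) (ke xe10 ye8 ze4) (ke xe7 ye12 ze39) (ke xe7 ye13 ze0) (ke xe15 ye15 ze28) (ke xe15 ye5 ze1) (ke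 xe15 ye5 ze2) (ke xe15 ye5 ze3) (ke xe10 ye10 ze29) (ke xe7 ye13 ze5) (ke xe7 ye13 ze6) (ke xe14 ye9 ze29) (ke xe14 ye11 ze12) (ke xe7 ye13 ze9) (ke xe7 ye13 ze10) (ke xe7 ye13 ze11) (ke xe15 ye21 ze4) (ke xe15 ye21 ze5) (ke xe15 ye5 ze8) (ke xe15 ye5 ze9) (ke xe15 ye8 ze2) (ke xe15 ye5 ze11) (ke xe7 ye13 ze17) (ke xe7 ye13 ze18) (ke xe15 ye21 ze6) (ke xe15 ye21 ze7) (ke xe15 ye21 ze8) (ke xe15 ye5 ze20)) (@D3.rec (fun _ => Pt) (ke xe15 ye5 ze21) (ke xe15 ye5 ze23) (ke xe7 ye13 ze22) (ke xe15 ye21 ze12) (ke xe15 ye9 ze39) (ke xe7 ye13 ze27) (ke xe15 ye21 ze14) (ke xe9 ye9 ze39) (ke xe7 ye13 ze28) (ke xe7 ye13 ze30) (ke xe15 ye5 ze37) (ke xe15 ye5 ze38) (ke xe7 ye13 ze35) (ke xe7 ye13 ze34) (ke xe15 ye21 ze17) (ke xe15 ye21 ze18) (ke xe7 ye13 ze39) (ke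 xe7 ye14 ze0) (ke xe7 ye14 ze1) (ke xe13 ye2 ze6) (ke xe15 ye21 ze19) (ke xe15 ye21 ze20) (ke xe7 ye14 ze6) (ke xe7 ye14 ze7) (ke xe7 ye14 ze8) (ke xe7 ye14 ze9) (ke xe7 ye14 ze10) (ke xe15 ye21 ze21) (ke xe15 ye21 ze22) (ke xe15 ye21 ze23) (ke xe15 ye21 ze24) (ke xe15 ye21 ze25) (ke xe15 ye6 ze21) (ke xe15 ye6 ze23) (ke xe13 ye20 ze16) (ke xe14 ye2 ze35) (ke xe7 ye14 ze16) (ke xe15 ye21 ze29) (ke xe7 ye14 ze17) (ke xe14 ye3 ze10)) (@D3.rec (fun _ => Pt) (ke xe14 ye3 ze11) (ke xe14 ye3 ze12) (ke xe15 ye6 ze24) (ke xe14 ye7 ze17) (ke xe15 ye6 ze26) (ke xe10 ye5 ze34) (ke xe7 ye14 ze24) (ke xe10 ye4 ze28) (ke xe15 ye6 ze29) (ke xe15 ye6 ze30) (ke xe15 ye6 ze31) (ke xe15 ye6 ze33) (ke xe15 ye21 ze30) (ke xe15 ye6 ze35) (ke xe15 ye6 ze36) (ke xe7 ye14 ze29)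 (ke xe15 ye7 ze1) (ke xe15 ye21 ze33) (ke xe15 ye7 ze3) (ke xe15 ye21 ze34) (ke xe7 ye14 ze33) (ke xe15 ye21 ze36) (ke xe15 ye21 ze37) (ke xe15 ye7 ze6) (ke xe15 ye21 ze39) (ke xe7 ye14 ze37) (ke xe15 ye22 ze2) (ke xe15 ye22 ze3) (ke xe15 ye19 ze23) (ke xe7 ye14 ze39) (ke xe15 ye22 ze8) (ke xe7 ye15 ze1) (ke xe15 ye22 ze10) (ke xe15 ye22 ze11) (ke xe15 ye7 ze20) (ke xe15 ye7 ze21) (ke xe15 ye7 ze22) (ke xe10 ye4 ze19) (ke xe15 ye7 ze24) (ke xe15 ye7 ze25)) (@D3.rec (fun _ => Pt) (ke xe10 ye8 ze29) (ke xe15 ye7 ze28) (ke xe7 ye15 ze8) (ke xe15 ye7 ze32) (ke xe7 ye15 ze12) (ke xe10 ye7 ze33) (ke xe15 ye7 ze38) (ke xe15 ye7 ze39) (ke xe15 ye8 ze1) (ke xe15 ye8 ze4) (ke xe15 ye8 ze7) (ke xe7 ye15 ze18) (ke xe15 ye8 ze11) (ke xe15 ye8 ze12) (ke xe15 ye8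 ze16) (ke xe15 ye22 ze18) (ke xe15 ye0 ze25) (ke xe15 ye8 ze19) (ke xe7 ye15 ze26) (ke xe15 ye22 ze20) (ke xe15 ye8 ze23) (ke xe7 ye15 ze29) (ke xe15 ye22 ze22) (ke xe7 ye15 ze31) (ke xe7 ye15 ze32) (ke xe15 ye22 ze23) (ke xe15 ye22 ze24) (ke xe15 ye8 ze33) (ke xe13 ye21 ze27) (ke xe15 ye9 ze3) (ke xe7 ye15 ze39) (ke xe15 ye22 ze26) (ke xe7 ye16 ze0) (ke xe15 ye22 ze30) (ke xe15 ye22 ze31) (ke xe15 ye19 ze17) (ke xe7 ye16 ze2) (ke xe7 ye16 ze3) (ke xe15 ye22 ze34) (ke xe15 ye22 ze35)) (@D3.rec (fun _ => Pt) (ke xe15 ye19 ze22) (ke xe15 ye18 ze17) (ke xe7 ye16 ze6) (ke xe15 ye22 ze39) (ke xe7 ye16 ze8) (ke xe15 ye23 ze0) (ke xe15 ye23 ze1) (ke xe15 ye9 ze34) (ke xe15 ye9 ze35) (ke xe10 ye6 ze22) (ke xe15 ye9 ze36) (ke xe15 ye9 ze37) (ke xe15 ye9 ze38)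 (ke xe7 ye16 ze18) (ke xe12 ye3 ze3) (ke xe8 ye0 ze17) (ke xe9 ye22 ze21) (ke xe7 ye16 ze27) (ke xe15 ye7 ze29) (ke xe14 ye2 ze21) (ke xe12 ye1 ze17) (ke xe14 ye2 ze22) (ke xe15 ye10 ze4) (ke xe11 ye25 ze17) (ke xe15 ye10 ze5) (ke xe7 ye16 ze32) (ke xe7 ye16 ze36) (ke xe15 ye23 ze10) (ke xe7 ye16 ze39) (ke xe15 ye23 ze13) (ke xe7 ye17 ze1) (ke xe7 ye17 ze2) (ke xe7 ye17 ze5) (ke xe15 ye23 ze14) (ke xe15 ye23 ze15) (ke xe15 ye6 ze17) (ke xe7 ye17 ze7) (ke xe15 ye6 ze16) (ke xe15 ye23 ze18) (ke xe15 ye10 ze32)) (@D3.rec (fun _ => Pt) (ke xe15 ye10 ze33) (ke xe15 ye10 ze34) (ke xe15 ye23 ze22) (ke xe15 ye23 ze24) (ke xe7 ye17 ze10) (ke xe15 ye23 ze27) (ke xe7 ye17 ze12) (ke xe7 ye17 ze13) (ke xe15 ye11 ze4) (ke xe7 ye17 ze16) (ke xe15 ye23 ze29) (ke xe15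 ye23 ze28) (ke xe7 ye17 ze18) (ke xe15 ye23 ze33) (ke xe15 ye23 ze34) (ke xe7 ye17 ze21) (ke xe7 ye17 ze22) (ke xe15 ye23 ze35) (ke xe15 ye23 ze36) (ke xe15 ye11 ze20) (ke xe15 ye11 ze21) (ke xe15 ye11 ze22) (ke xe15 ye11 ze23) (ke xe15 ye11 ze24) (ke xe8 ye0 ze27) (ke xe7 ye17 ze26) (ke xe7 ye17 ze27) (ke xe11 ye22 ze30) (ke xe11 ye22 ze31) (ke xe8 ye14 ze26) (ke xe7 ye17 ze31) (ke xe7 ye17 ze32) (ke xe7 ye17 ze36) (ke xe12 ye3 ze4) (ke xe8 ye0 ze25) (ke xe9 ye23 ze0) (ke xe7 ye18 ze5) (ke xe15 ye1 ze39) (ke xe14 ye3 ze13) (ke xe12 ye1 ze26)) (@D3.rec (fun _ => Pt) (ke xe14 ye3 ze14) (ke xe15 ye12 ze0) (ke xe12 ye0 ze13) (ke xe15 ye12 ze1) (ke xe7 ye18 ze10) (ke xe7 ye18 ze14) (ke xe15 ye24 ze5) (ke xe7 ye18 ze17) (ke xe15 ye24 ze8) (ke xe7 ye18 ze19)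 (ke xe7 ye18 ze20) (ke xe7 ye18 ze23) (ke xe15 ye24 ze9) (ke xe15 ye24 ze10) (ke xe15 ye0 ze23) (ke xe7 ye18 ze25) (ke xe15 ye24 ze13) (ke xe15 ye0 ze22) (ke xe15 ye12 ze28) (ke xe15 ye12 ze29) (ke xe15 ye12 ze30) (ke xe15 ye24 ze17) (ke xe15 ye24 ze19) (ke xe7 ye18 ze28) (ke xe15 ye24 ze22) (ke xe7 ye18 ze30) (ke xe7 ye18 ze31) (ke xe15 ye13 ze0) (ke xe7 ye18 ze34) (ke xe15 ye24 ze24) (ke xe15 ye24 ze23) (ke xe7 ye18 ze36) (ke xe15 ye24 ze28) (ke xe15 ye24 ze29) (ke xe7 ye18 ze39) (ke xe7 ye19 ze0) (ke xe15 ye24 ze30) (ke xe15 ye24 ze31) (ke xe15 ye13 ze16) (ke xe15 ye13 ze17)) (@D3.rec (fun _ => Pt) (ke xe15 ye13 ze18) (ke xe15 ye13 ze19) (ke xe15 ye13 ze20) (ke xe8 ye0 ze19) (ke xe7 ye19 ze4) (ke xe7 ye19 ze5) (ke xe11 ye23 ze36) (ke xe8 ye14 ze33)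 (ke xe11 ye23 ze37) (ke xe7 ye19 ze9) (ke xe7 ye19 ze10) (ke xe8 ye22 ze5) (ke xe8 ye22 ze7) (ke xe8 ye22 ze8) (ke xe7 ye19 ze13) (ke xe7 ye19 ze15) (ke xe7 ye22 ze3) (ke xe15 ye24 ze39) (ke xe7 ye22 ze12) (ke xe7 ye19 ze19) (ke xe9 ye9 ze34) (ke xe10 ye8 ze2) (ke xe15 ye25 ze1) (ke xe7 ye19 ze21) (ke xe15 ye25 ze2) (ke xe10 ye7 ze12) (ke xe10 ye8 ze3) (ke xe14 ye10 ze29) (ke xe7 ye19 ze29) (ke xe8 ye4 ze6) (ke xe11 ye20 ze27) (ke xe11 ye20 ze28) (ke xe7 ye19 ze33) (ke xe9 ye17 ze33) (ke xe9 ye25 ze2) (ke xe7 ye19 ze37) (ke xe11 ye24 ze6) (ke xe15 ye25 ze4) (ke xe7 ye19 ze38) (ke xe15 ye25 ze6)) (@D3.rec (fun _ => Pt) (ke xe15 ye25 ze7) (ke xe7 ye20 ze2) (ke xe7 ye20 ze0) (ke xe7 ye20 ze1) (ke xe15 ye25 ze10) (ke xe11 ye24 ze1) (ke xe7 ye20 ze4) (ke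 xe15 ye25 ze12) (ke xe15 ye25 ze11) (ke xe7 ye20 ze6) (ke xe7 ye20 ze7) (ke xe15 ye25 ze17) (ke xe7 ye20 ze12) (ke xe7 ye20 ze13) (ke xe7 ye20 ze11) (ke xe15 ye25 ze19) (ke xe7 ye21 ze0) (ke xe8 ye23 ze1) (ke xe8 ye23 ze3) (ke xe8 ye23 ze4) (ke xe7 ye20 ze17) (ke xe7 ye20 ze20) (ke xe7 ye22 ze33) (ke xe15 ye25 ze22) (ke xe7 ye23 ze2) (ke xe7 ye20 ze23) (ke xe10 ye10 ze3) (ke xe9 ye9 ze14) (ke xe15 ye25 ze24) (ke xe7 ye20 ze25) (ke xe15 ye25 ze25) (ke xe10 ye10 ze4) (ke xe10 ye9 ze16) (ke xe14 ye9 ze21) (ke xe7 ye20 ze32) (ke xe8 ye4 ze14) (ke xe11 ye22 ze6) (ke xe11 ye22 ze8) (ke xe7 ye20 ze38) (ke xe9 ye16 ze39)) (@D3.rec (fun _ => Pt) (ke xe9 ye24 ze5) (ke xe11 ye23 ze5) (ke xe15 ye25 ze27) (ke xe7 ye21 ze1) (ke xe7 ye21 ze3) (ke xe15 ye25 ze29) (ke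 xe11 ye22 ze36) (ke xe7 ye21 ze5) (ke xe15 ye25 ze30) (ke xe7 ye21 ze7) (ke xe7 ye21 ze8) (ke xe15 ye25 ze34) (ke xe7 ye21 ze12) (ke xe7 ye21 ze24) (ke xe7 ye21 ze31) (ke xe7 ye21 ze32) (ke xe15 ye25 ze38) (ke xe7 ye21 ze35) (ke xe7 ye21 ze36) (ke xe7 ye21 ze37) (ke xe7 ye21 ze38) (ke xe7 ye21 ze19) (ke xe7 ye22 ze4) (ke xe7 ye22 ze5) (ke xe7 ye21 ze23) (ke xe16 ye0 ze1) (ke xe9 ye8 ze21) (ke xe7 ye22 ze19) (ke xe7 ye22 ze22) (ke xe7 ye22 ze23) (ke xe16 ye0 ze3) (ke xe11 ye25 ze32) (ke xe11 ye25 ze33) (ke xe7 ye22 ze25) (ke xe7 ye22 ze26) (ke xe7 ye22 ze27) (ke xe11 ye24 ze39) (ke xe14 ye8 ze29) (ke xe15 ye25 ze36) (ke xe11 ye24 ze36)) (@D3.rec (fun _ => Pt) (ke xe15 ye25 ze37) (ke xe16 ye0 ze9) (ke xe16 ye0 ze10) (ke xe7 ye21 ze33) (ke xe15 ye25 ze39)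 (ke xe13 ye3 ze39) (ke xe9 ye2 ze26) (ke xe9 ye2 ze3) (ke xe16 ye0 ze12) (ke xe13 ye3 ze38) (ke xe14 ye4 ze12) (ke xe16 ye0 ze16) (ke xe7 ye21 ze39) (ke xe7 ye22 ze0) (ke xe7 ye22 ze2) (ke xe16 ye0 ze18) (ke xe16 ye0 ze19) (ke xe11 ye19 ze23) (ke xe16 ye0 ze0) (ke xe11 ye25 ze35) (ke xe8 ye6 ze14) (ke xe8 ye6 ze15) (ke xe13 ye16 ze13) (ke xe9 ye10 ze2) (ke xe7 ye22 ze11) (ke xe7 ye22 ze28) (ke xe7 ye22 ze14) (ke xe7 ye22 ze34) (ke xe7 ye22 ze35) (ke xe7 ye22 ze18) (ke xe16 ye0 ze22) (ke xe9 ye7 ze39) (ke xe11 ye24 ze31) (ke xe11 ye24 ze32) (ke xe14 ye10 ze4) (ke xe11 ye25 ze19) (ke xe16 ye0 ze2) (ke xe16 ye0 ze27) (ke xe16 ye0 ze28) (ke xe7 ye22 ze24))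
def f_e_12 : D2 → D3 → Pt := @D2.rec (fun _ => D3 → Pt) (@D3.rec (fun _ => Pt) (ke xe16 ye0 ze4) (ke xe13 ye4 ze8) (ke xe9 ye2 ze31) (ke xe9 ye2 ze12) (ke xe16 ye0 ze30) (ke xe14 ye3 ze33) (ke xe13 ye4 ze7) (ke xe16 ye0 ze34) (ke xe7 ye22 ze29) (ke xe7 ye22 ze30) (ke xe7 ye22 ze32) (ke xe16 ye0 ze36) (ke xe16 ye0 ze37) (ke xe11 ye21 ze2) (ke xe8 ye6 ze23) (ke xe8 ye6 ze24) (ke xe13 ye16 ze34) (ke xe9 ye9 ze22) (ke xe7 ye23 ze1) (ke xe7 ye23 ze7) (ke xe7 ye23 ze8) (ke xe7 ye23 ze9) (ke xe7 ye23 ze10) (ke xe8 ye6 ze29) (ke xe8 ye6 ze30) (ke xe8 ye6 ze34) (ke xe8 ye6 ze36) (ke xe7 ye24 ze12) (ke xe7 ye24 ze13) (ke xe8 ye7 ze5) (ke xe8 ye7 ze6) (ke xe8 ye7 ze7) (ke xe8 ye7 ze8) (ke xe8 ye7 ze9) (ke xe8 ye7 ze10) (ke xe7 ye24 ze14) (ke xe7 ye24 ze15) (ke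 xe7 ye24 ze16) (ke xe7 ye24 ze17) (ke xe7 ye24 ze18)) (@D3.rec (fun _ => Pt) (ke xe7 ye24 ze19) (ke xe8 ye7 ze23) (ke xe8 ye7 ze26) (ke xe8 ye7 ze28) (ke xe8 ye7 ze29) (ke xe8 ye7 ze30) (ke xe8 ye7 ze31) (ke xe8 ye7 ze33) (ke xe8 ye7 ze34) (ke xe8 ye7 ze35) (ke xe8 ye7 ze36) (ke xe7 ye24 ze22) (ke xe7 ye24 ze23) (ke xe7 ye24 ze24) (ke xe7 ye24 ze25) (ke xe7 ye24 ze26) (ke xe7 ye24 ze27) (ke xe11 ye19 ze20) (ke xe7 ye24 ze29) (ke xe7 ye24 ze30) (ke xe7 ye24 ze33) (ke xe7 ye24 ze34) (ke xe7 ye24 ze35) (ke xe7 ye24 ze36) (ke xe7 ye24 ze37) (ke xe7 ye24 ze38) (ke xe11 ye20 ze39) (ke xe7 ye25 ze0) (ke xe7 ye25 ze1) (ke xe8 ye8 ze31) (ke xe8 ye8 ze32) (ke xe8 ye8 ze36) (ke xe8 ye9 ze3) (ke xe8 ye9 ze4) (ke xe8 ye9 ze8) (ke xe7 ye25 ze5) (ke xe7 ye25 ze6)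 (ke xe7 ye25 ze7) (ke xe7 ye25 ze8) (ke xe7 ye25 ze9)) (@D3.rec (fun _ => Pt) (ke xe7 ye25 ze10) (ke xe7 ye25 ze14) (ke xe7 ye25 ze15) (ke xe7 ye25 ze16) (ke xe7 ye25 ze17) (ke xe7 ye25 ze18) (ke xe7 ye25 ze19) (ke xe16 ye1 ze14) (ke xe16 ye1 ze15) (ke xe10 ye22 ze11) (ke xe16 ye1 ze34) (ke xe16 ye1 ze35) (ke xe16 ye1 ze36) (ke xe16 ye1 ze37) (ke xe7 ye24 ze28) (ke xe11 ye0 ze9) (ke xe16 ye2 ze0) (ke xe16 ye2 ze1) (ke xe16 ye2 ze2) (ke xe16 ye2 ze3) (ke xe7 ye24 ze39) (ke xe10 ye22 ze22) (ke xe14 ye16 ze18) (ke xe10 ye21 ze30) (ke xe10 ye25 ze28) (ke xe16 ye2 ze14) (ke xe10 ye25 ze30) (ke xe16 ye2 ze16) (ke xe11 ye0 ze21) (ke xe14 ye17 ze31) (ke xe10 ye21 ze29) (ke xe16 ye2 ze17) (ke xe16 ye2 ze19) (ke xe8 ye0 ze8) (ke xe8 ye0 ze11) (ke xe8 ye0 ze12)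 (ke xe8 ye0 ze15) (ke xe8 ye0 ze20) (ke xe8 ye0 ze23) (ke xe8 ye1 ze15)) (@D3.rec (fun _ => Pt) (ke xe8 ye1 ze16) (ke xe8 ye1 ze22) (ke xe8 ye1 ze23) (ke xe11 ye19 ze14) (ke xe11 ye20 ze33) (ke xe10 ye12 ze3) (ke xe10 ye13 ze24) (ke xe11 ye6 ze29) (ke xe14 ye25 ze16) (ke xe15 ye0 ze19) (ke xe15 ye24 ze34) (ke xe10 ye13 ze36) (ke xe10 ye12 ze10) (ke xe11 ye6 ze38) (ke xe15 ye5 ze16) (ke xe15 ye6 ze12) (ke xe15 ye23 ze39) (ke xe10 ye3 ze1) (ke xe10 ye3 ze0) (ke xe10 ye1 ze31) (ke xe10 ye1 ze30) (ke xe8 ye3 ze12) (ke xe9 ye22 ze17) (ke xe12 ye15 ze25) (ke xe8 ye3 ze13) (ke xe8 ye3 ze14) (ke xe8 ye3 ze15) (ke xe8 ye3 ze16) (ke xe8 ye3 ze17) (ke xe8 ye3 ze18) (ke xe8 ye3 ze20) (ke xe8 ye3 ze21) (ke xe8 ye3 ze23) (ke xe9 ye22 ze35) (ke xe12 ye17 ze4) (ke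 xe8 ye3 ze24) (ke xe8 ye3 ze25) (ke xe8 ye3 ze26) (ke xe8 ye3 ze27) (ke xe8 ye3 ze28)) (@D3.rec (fun _ => Pt) (ke xe8 ye3 ze29) (ke xe8 ye3 ze31) (ke xe8 ye3 ze32) (ke xe10 ye3 ze37) (ke xe10 ye5 ze22) (ke xe11 ye9 ze7) (ke xe11 ye8 ze39) (ke xe11 ye9 ze4) (ke xe8 ye5 ze20) (ke xe10 ye5 ze21) (ke xe11 ye8 ze27) (ke xe11 ye8 ze29) (ke xe10 ye5 ze10) (ke xe10 ye4 ze11) (ke xe11 ye8 ze4) (ke xe11 ye7 ze36) (ke xe11 ye8 ze1) (ke xe8 ye4 ze31) (ke xe10 ye4 ze10) (ke xe11 ye7 ze24) (ke xe11 ye7 ze26) (ke xe8 ye4 ze15) (ke xe13 ye19 ze5) (ke xe8 ye4 ze16) (ke xe8 ye1 ze30) (ke xe16 ye3 ze20) (ke xe8 ye4 ze19) (ke xe8 ye4 ze20) (ke xe8 ye4 ze21) (ke xe8 ye1 ze34) (ke xe16 ye3 ze23) (ke xe14 ye1 ze37) (ke xe8 ye4 ze24) (ke xe8 ye4 ze25) (ke xe8 ye4 ze27) (ke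 xe16 ye3 ze30) (ke xe8 ye4 ze29) (ke xe8 ye4 ze30) (ke xe8 ye4 ze33) (ke xe8 ye4 ze34)) (@D3.rec (fun _ => Pt) (ke xe8 ye4 ze35) (ke xe8 ye4 ze36) (ke xe8 ye4 ze37) (ke xe11 ye2 ze20) (ke xe8 ye4 ze38) (ke xe16 ye3 ze38) (ke xe8 ye2 ze4) (ke xe16 ye4 ze0) (ke xe8 ye5 ze2) (ke xe8 ye5 ze3) (ke xe8 ye5 ze4) (ke xe13 ye20 ze20) (ke xe8 ye5 ze5) (ke xe8 ye2 ze9) (ke xe16 ye4 ze6) (ke xe8 ye5 ze8) (ke xe8 ye5 ze9) (ke xe8 ye5 ze10) (ke xe8 ye2 ze13) (ke xe16 ye4 ze9) (ke xe14 ye2 ze26) (ke xe8 ye5 ze13) (ke xe8 ye5 ze14) (ke xe8 ye5 ze16) (ke xe16 ye4 ze16) (ke xe8 ye5 ze18) (ke xe8 ye5 ze19) (ke xe8 ye5 ze22) (ke xe8 ye5 ze23) (ke xe8 ye5 ze24) (ke xe8 ye5 ze25) (ke xe8 ye5 ze26) (ke xe10 ye24 ze21) (ke xe8 ye5 ze27) (ke xe16 ye4 ze24) (ke xe8 ye2 ze23)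 (ke xe16 ye4 ze26) (ke xe8 ye5 ze31) (ke xe8 ye5 ze32) (ke xe8 ye2 ze27)) (@D3.rec (fun _ => Pt) (ke xe15 ye11 ze30) (ke xe16 ye4 ze30) (ke xe15 ye6 ze22) (ke xe8 ye5 ze39) (ke xe8 ye6 ze0) (ke xe8 ye6 ze1) (ke xe8 ye2 ze32) (ke xe15 ye13 ze27) (ke xe16 ye4 ze37) (ke xe15 ye0 ze28) (ke xe8 ye6 ze8) (ke xe8 ye6 ze9) (ke xe8 ye6 ze10) (ke xe16 ye2 ze33) (ke xe16 ye2 ze34) (ke xe16 ye2 ze35) (ke xe16 ye2 ze36) (ke xe14 ye5 ze13) (ke xe16 ye2 ze37) (ke xe16 ye2 ze38) (ke xe14 ye5 ze17) (ke xe16 ye2 ze39) (ke xe16 ye3 ze1) (ke xe16 ye3 ze2) (ke xe16 ye3 ze3) (ke xe16 ye3 ze4) (ke xe14 ye4 ze32) (ke xe16 ye3 ze5) (ke xe16 ye3 ze6) (ke xe14 ye4 ze36) (ke xe16 ye3 ze7) (ke xe13 ye21 ze28) (ke xe10 ye5 ze32) (ke xe13 ye21 ze18) (ke xe9 ye25 ze11) (ke xe13 ye20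 ze13) (ke xe10 ye4 ze23) (ke xe13 ye20 ze3) (ke xe9 ye24 ze16) (ke xe16 ye3 ze19)) (@D3.rec (fun _ => Pt) (ke xe8 ye4 ze18) (ke xe16 ye5 ze12) (ke xe16 ye5 ze13) (ke xe8 ye4 ze23) (ke xe16 ye5 ze14) (ke xe16 ye3 ze27) (ke xe13 ye21 ze19) (ke xe8 ye4 ze28) (ke xe16 ye3 ze32) (ke xe16 ye3 ze17) (ke xe13 ye6 ze0) (ke xe13 ye6 ze6) (ke xe16 ye3 ze16) (ke xe13 ye6 ze8) (ke xe16 ye3 ze33) (ke xe16 ye3 ze8) (ke xe16 ye3 ze35) (ke xe16 ye3 ze36) (ke xe8 ye4 ze39) (ke xe16 ye5 ze20) (ke xe8 ye5 ze1) (ke xe16 ye4 ze2) (ke xe16 ye4 ze3) (ke xe15 ye24 ze2) (ke xe16 ye4 ze5) (ke xe8 ye5 ze7) (ke xe16 ye5 ze21) (ke xe16 ye5 ze22) (ke xe8 ye5 ze12) (ke xe16 ye5 ze23) (ke xe16 ye4 ze13) (ke xe13 ye20 ze4) (ke xe8 ye5 ze17) (ke xe16 ye4 ze18) (ke xe16 ye3 ze12) (ke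 xe13 ye5 ze15) (ke xe13 ye5 ze21) (ke xe16 ye3 ze11) (ke xe13 ye5 ze23) (ke xe16 ye4 ze19)) (@D3.rec (fun _ => Pt) (ke xe16 ye3 ze13) (ke xe16 ye4 ze21) (ke xe16 ye4 ze22) (ke xe8 ye5 ze28) (ke xe16 ye5 ze29) (ke xe8 ye5 ze30) (ke xe16 ye4 ze28) (ke xe16 ye4 ze29) (ke xe15 ye24 ze37) (ke xe10 ye13 ze28) (ke xe8 ye5 ze35) (ke xe8 ye5 ze38) (ke xe16 ye4 ze36) (ke xe10 ye14 ze0) (ke xe8 ye6 ze4) (ke xe8 ye6 ze7) (ke xe16 ye5 ze3) (ke xe8 ye6 ze13) (ke xe13 ye4 ze5) (ke xe8 ye6 ze22) (ke xe13 ye4 ze14) (ke xe8 ye14 ze5) (ke xe8 ye14 ze7) (ke xe13 ye12 ze27) (ke xe13 ye12 ze34) (ke xe13 ye12 ze35) (ke xe16 ye1 ze0) (ke xe13 ye14 ze4) (ke xe13 ye14 ze11) (ke xe13 ye14 ze12) (ke xe16 ye1 ze1) (ke xe8 ye14 ze9) (ke xe8 ye14 ze10) (ke xe8 ye14 ze11) (ke xe8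 ye14 ze12) (ke xe8 ye14 ze13) (ke xe8 ye14 ze15) (ke xe8 ye14 ze16) (ke xe8 ye14 ze17) (ke xe8 ye14 ze18)) (@D3.rec (fun _ => Pt) (ke xe8 ye14 ze19) (ke xe16 ye1 ze2) (ke xe16 ye1 ze3) (ke xe16 ye1 ze4) (ke xe16 ye6 ze13) (ke xe16 ye1 ze6) (ke xe16 ye1 ze7) (ke xe16 ye1 ze8) (ke xe16 ye1 ze9) (ke xe16 ye1 ze10) (ke xe16 ye6 ze24) (ke xe16 ye1 ze12) (ke xe16 ye1 ze13) (ke xe8 ye14 ze20) (ke xe8 ye14 ze21) (ke xe8 ye14 ze22) (ke xe8 ye14 ze23) (ke xe8 ye14 ze24) (ke xe8 ye14 ze25) (ke xe8 ye14 ze27) (ke xe8 ye14 ze28) (ke xe8 ye14 ze29) (ke xe8 ye14 ze30) (ke xe8 ye14 ze31) (ke xe8 ye14 ze32) (ke xe10 ye19 ze24) (ke xe10 ye17 ze34) (ke xe15 ye0 ze1) (ke xe15 ye0 ze3) (ke xe15 ye0 ze6) (ke xe16 ye1 ze16) (ke xe16 ye1 ze17) (ke xe16 ye1 ze18) (ke xe16 ye1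 ze19) (ke xe16 ye1 ze20) (ke xe16 ye1 ze21) (ke xe10 ye20 ze16) (ke xe16 ye1 ze23) (ke xe16 ye1 ze24) (ke xe15 ye6 ze0)) (@D3.rec (fun _ => Pt) (ke xe15 ye6 ze2) (ke xe15 ye6 ze3) (ke xe16 ye1 ze25) (ke xe16 ye1 ze26) (ke xe16 ye1 ze27) (ke xe16 ye1 ze28) (ke xe16 ye1 ze29) (ke xe16 ye1 ze30) (ke xe10 ye18 ze27) (ke xe16 ye1 ze32) (ke xe16 ye1 ze33) (ke xe10 ye22 ze9) (ke xe8 ye14 ze35) (ke xe8 ye8 ze3) (ke xe16 ye7 ze16) (ke xe8 ye14 ze39) (ke xe8 ye15 ze0) (ke xe8 ye15 ze1) (ke xe8 ye15 ze2) (ke xe8 ye15 ze3) (ke xe8 ye15 ze4) (ke xe8 ye15 ze5) (ke xe8 ye15 ze6) (ke xe8 ye15 ze7) (ke xe8 ye15 ze8) (ke xe8 ye15 ze9) (ke xe11 ye0 ze8) (ke xe8 ye15 ze11) (ke xe8 ye8 ze19) (ke xe16 ye7 ze31) (ke xe8 ye15 ze15) (ke xe8 ye15 ze16) (ke xe8 ye15 ze17) (ke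 xe8 ye15 ze18) (ke xe8 ye15 ze19) (ke xe8 ye15 ze20) (ke xe8 ye15 ze21) (ke xe8 ye15 ze22) (ke xe8 ye15 ze23) (ke xe8 ye15 ze24)) (@D3.rec (fun _ => Pt) (ke xe8 ye15 ze25) (ke xe10 ye14 ze22) (ke xe14 ye16 ze17) (ke xe14 ye22 ze7) (ke xe16 ye2 ze6) (ke xe14 ye22 ze10) (ke xe10 ye13 ze12) (ke xe12 ye11 ze31) (ke xe12 ye11 ze32) (ke xe16 ye2 ze7) (ke xe16 ye2 ze8) (ke xe16 ye2 ze9) (ke xe12 ye11 ze28) (ke xe12 ye11 ze29) (ke xe12 ye11 ze30) (ke xe12 ye11 ze23) (ke xe12 ye11 ze24) (ke xe10 ye15 ze6) (ke xe14 ye17 ze30) (ke xe14 ye19 ze23) (ke xe16 ye2 ze10) (ke xe14 ye19 ze26) (ke xe10 ye13 ze3) (ke xe12 ye11 ze15) (ke xe12 ye11 ze16) (ke xe16 ye2 ze11) (ke xe16 ye2 ze12) (ke xe16 ye2 ze13) (ke xe12 ye11 ze12) (ke xe12 ye11 ze13) (ke xe12 ye11 ze14) (ke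 xe12 ye11 ze7) (ke xe12 ye11 ze8) (ke xe16 ye9 ze16) (ke xe8 ye15 ze27) (ke xe8 ye15 ze28) (ke xe8 ye15 ze30) (ke xe13 ye2 ze17) (ke xe8 ye15 ze31) (ke xe8 ye15 ze32)) (@D3.rec (fun _ => Pt) (ke xe16 ye9 ze21) (ke xe8 ye9 ze17) (ke xe14 ye4 ze26) (ke xe16 ye9 ze22) (ke xe8 ye15 ze35) (ke xe8 ye15 ze36) (ke xe8 ye15 ze37) (ke xe8 ye15 ze39) (ke xe8 ye16 ze0) (ke xe8 ye16 ze1) (ke xe8 ye16 ze2) (ke xe8 ye9 ze23) (ke xe13 ye5 ze1) (ke xe16 ye9 ze31) (ke xe8 ye16 ze5) (ke xe8 ye16 ze6) (ke xe8 ye16 ze7) (ke xe8 ye9 ze27) (ke xe16 ye10 ze0) (ke xe8 ye16 ze10) (ke xe8 ye16 ze11) (ke xe8 ye16 ze12) (ke xe8 ye16 ze13) (ke xe8 ye16 ze14) (ke xe8 ye16 ze15) (ke xe16 ye10 ze12) (ke xe8 ye16 ze17) (ke xe8 ye9 ze33) (ke xe8 ye9 ze34) (ke xe16 ye10 ze15) (ke xe16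 ye10 ze16) (ke xe16 ye10 ze17) (ke xe16 ye10 ze18) (ke xe8 ye16 ze23) (ke xe8 ye16 ze24) (ke xe16 ye10 ze31) (ke xe8 ye16 ze26) (ke xe8 ye16 ze27) (ke xe8 ye16 ze28) (ke xe8 ye16 ze29)) (@D3.rec (fun _ => Pt) (ke xe8 ye16 ze30) (ke xe8 ye16 ze31) (ke xe8 ye16 ze32) (ke xe8 ye16 ze33) (ke xe8 ye16 ze34) (ke xe8 ye16 ze35) (ke xe8 ye11 ze6) (ke xe8 ye10 ze1) (ke xe8 ye11 ze17) (ke xe8 ye16 ze36) (ke xe8 ye16 ze37) (ke xe8 ye16 ze38) (ke xe8 ye16 ze39) (ke xe8 ye17 ze0) (ke xe8 ye17 ze1) (ke xe13 ye7 ze18) (ke xe8 ye17 ze2) (ke xe8 ye17 ze3) (ke xe8 ye17 ze4) (ke xe8 ye17 ze5) (ke xe8 ye17 ze6) (ke xe8 ye17 ze7) (ke xe8 ye17 ze8) (ke xe16 ye11 ze25) (ke xe8 ye17 ze10) (ke xe8 ye10 ze12) (ke xe12 ye15 ze16) (ke xe8 ye17 ze11) (ke xe8 ye17 ze12) (ke xe16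 ye11 ze27) (ke xe8 ye17 ze14) (ke xe8 ye17 ze15) (ke xe8 ye17 ze16) (ke xe13 ye2 ze19) (ke xe8 ye17 ze18) (ke xe8 ye17 ze19) (ke xe16 ye11 ze32) (ke xe8 ye10 ze22) (ke xe16 ye11 ze33) (ke xe14 ye5 ze7)) (@D3.rec (fun _ => Pt) (ke xe8 ye17 ze22) (ke xe8 ye17 ze23) (ke xe8 ye17 ze24) (ke xe8 ye17 ze25) (ke xe8 ye17 ze26) (ke xe8 ye17 ze27) (ke xe8 ye10 ze28) (ke xe16 ye12 ze1) (ke xe13 ye5 ze26) (ke xe8 ye17 ze31) (ke xe8 ye17 ze32) (ke xe8 ye17 ze33) (ke xe8 ye10 ze32) (ke xe16 ye12 ze10) (ke xe8 ye17 ze36) (ke xe8 ye17 ze37) (ke xe8 ye17 ze38) (ke xe8 ye17 ze39) (ke xe8 ye18 ze0) (ke xe16 ye12 ze21) (ke xe8 ye18 ze2) (ke xe8 ye10 ze38) (ke xe8 ye10 ze39) (ke xe16 ye12 ze24) (ke xe16 ye12 ze25) (ke xe16 ye12 ze26) (ke xe16 ye12 ze27) (ke xe8 ye18 ze8)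 (ke xe8 ye18 ze9) (ke xe16 ye11 ze9) (ke xe8 ye18 ze10) (ke xe8 ye18 ze11) (ke xe8 ye18 ze12) (ke xe8 ye18 ze13) (ke xe8 ye18 ze14) (ke xe8 ye18 ze15) (ke xe8 ye18 ze16) (ke xe8 ye18 ze17) (ke xe8 ye18 ze18) (ke xe8 ye16 ze25)) (@D3.rec (fun _ => Pt) (ke xe8 ye17 ze9) (ke xe8 ye18 ze19) (ke xe8 ye18 ze20) (ke xe8 ye18 ze21) (ke xe8 ye18 ze22) (ke xe8 ye18 ze23) (ke xe13 ye8 ze27) (ke xe8 ye18 ze24) (ke xe8 ye18 ze25) (ke xe8 ye18 ze26) (ke xe8 ye18 ze27) (ke xe8 ye18 ze28) (ke xe8 ye18 ze29) (ke xe8 ye18 ze30) (ke xe16 ye11 ze11) (ke xe8 ye18 ze31) (ke xe12 ye13 ze26) (ke xe8 ye18 ze32) (ke xe8 ye18 ze33) (ke xe8 ye18 ze39) (ke xe8 ye19 ze0) (ke xe8 ye11 ze25) (ke xe9 ye20 ze27) (ke xe14 ye24 ze13) (ke xe8 ye19 ze2) (ke xe12 ye3 ze23) (ke xe8 ye11 ze31)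 (ke xe10 ye21 ze3) (ke xe13 ye25 ze17) (ke xe8 ye19 ze4) (ke xe8 ye19 ze5) (ke xe8 ye11 ze36) (ke xe8 ye11 ze37) (ke xe8 ye11 ze38) (ke xe8 ye11 ze39) (ke xe9 ye21 ze15) (ke xe16 ye13 ze33) (ke xe12 ye23 ze1) (ke xe9 ye11 ze8) (ke xe16 ye13 ze35)) (@D3.rec (fun _ => Pt) (ke xe16 ye13 ze36) (ke xe16 ye13 ze37) (ke xe15 ye11 ze2) (ke xe16 ye13 ze38) (ke xe14 ye24 ze18) (ke xe16 ye14 ze14) (ke xe8 ye19 ze21) (ke xe8 ye19 ze22) (ke xe16 ye14 ze20) (ke xe8 ye12 ze3) (ke xe16 ye14 ze22) (ke xe8 ye19 ze25) (ke xe8 ye19 ze26) (ke xe8 ye19 ze27) (ke xe8 ye19 ze28) (ke xe8 ye19 ze29) (ke xe8 ye19 ze30) (ke xe8 ye19 ze31) (ke xe8 ye19 ze32) (ke xe16 ye14 ze32) (ke xe8 ye19 ze34) (ke xe8 ye12 ze10) (ke xe16 ye14 ze35) (ke xe8 ye12 ze11) (ke xe8 ye19 ze38) (ke xe16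 ye15 ze2) (ke xe8 ye20 ze0) (ke xe8 ye20 ze1) (ke xe16 ye15 ze8) (ke xe8 ye12 ze14) (ke xe16 ye2 ze15) (ke xe16 ye8 ze2) (ke xe8 ye20 ze3) (ke xe8 ye20 ze4) (ke xe16 ye15 ze15) (ke xe8 ye12 ze18) (ke xe16 ye15 ze18) (ke xe16 ye15 ze19) (ke xe8 ye20 ze13) (ke xe8 ye20 ze14)) (@D3.rec (fun _ => Pt) (ke xe8 ye12 ze22) (ke xe15 ye4 ze17) (ke xe9 ye21 ze22) (ke xe8 ye20 ze16) (ke xe12 ye3 ze34) (ke xe8 ye12 ze27) (ke xe14 ye0 ze28) (ke xe10 ye25 ze4) (ke xe8 ye20 ze18) (ke xe8 ye20 ze19) (ke xe8 ye12 ze33) (ke xe8 ye12 ze34) (ke xe8 ye12 ze35) (ke xe8 ye12 ze36) (ke xe9 ye22 ze10) (ke xe16 ye15 ze29) (ke xe12 ye24 ze13) (ke xe9 ye12 ze21) (ke xe16 ye15 ze31) (ke xe16 ye15 ze32) (ke xe16 ye15 ze33) (ke xe15 ye12 ze39) (ke xe16 ye15 ze34) (ke xe15 ye4 ze24)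 (ke xe16 ye16 ze10) (ke xe8 ye20 ze35) (ke xe8 ye20 ze36) (ke xe16 ye16 ze16) (ke xe8 ye13 ze0) (ke xe16 ye16 ze18) (ke xe8 ye20 ze39) (ke xe8 ye21 ze0) (ke xe8 ye21 ze1) (ke xe8 ye21 ze2) (ke xe8 ye21 ze3) (ke xe8 ye21 ze4) (ke xe8 ye21 ze5) (ke xe8 ye21 ze6) (ke xe16 ye16 ze28) (ke xe8 ye21 ze8)) (@D3.rec (fun _ => Pt) (ke xe8 ye13 ze7) (ke xe16 ye16 ze31) (ke xe8 ye13 ze8) (ke xe8 ye21 ze12) (ke xe16 ye16 ze38) (ke xe8 ye21 ze14) (ke xe8 ye21 ze15) (ke xe16 ye17 ze4) (ke xe8 ye13 ze11) (ke xe16 ye7 ze27) (ke xe16 ye2 ze18) (ke xe8 ye21 ze17) (ke xe8 ye21 ze18) (ke xe16 ye17 ze11) (ke xe8 ye13 ze15) (ke xe16 ye17 ze14) (ke xe16 ye17 ze15) (ke xe10 ye21 ze9) (ke xe11 ye9 ze21) (ke xe9 ye19 ze3) (ke xe9 ye25 ze13) (ke xe11 ye5 ze26) (ke xe11 ye5 ze27)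 (ke xe11 ye5 ze28) (ke xe16 ye17 ze27) (ke xe11 ye5 ze30) (ke xe11 ye5 ze31) (ke xe8 ye13 ze24) (ke xe13 ye9 ze33) (ke xe13 ye9 ze34) (ke xe13 ye9 ze35) (ke xe16 ye17 ze37) (ke xe13 ye9 ze37) (ke xe16 ye18 ze1) (ke xe8 ye13 ze27) (ke xe16 ye18 ze4) (ke xe16 ye18 ze5) (ke xe10 ye25 ze9) (ke xe11 ye14 ze36) (ke xe9 ye19 ze35)) (@D3.rec (fun _ => Pt) (ke xe10 ye0 ze7) (ke xe11 ye5 ze33) (ke xe11 ye5 ze34) (ke xe11 ye5 ze35) (ke xe16 ye18 ze15) (ke xe11 ye5 ze37) (ke xe11 ye5 ze38) (ke xe8 ye13 ze38) (ke xe13 ye10 ze2) (ke xe13 ye10 ze3) (ke xe13 ye10 ze4) (ke xe16 ye18 ze25) (ke xe16 ye18 ze27) (ke xe8 ye14 ze1) (ke xe16 ye18 ze29) (ke xe16 ye6 ze29) (ke xe16 ye6 ze31) (ke xe8 ye14 ze38) (ke xe16 ye18 ze30) (ke xe16 ye7 ze20) (ke xe16 ye7 ze21) (ke xe16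 ye7 ze22) (ke xe16 ye7 ze23) (ke xe16 ye7 ze24) (ke xe16 ye7 ze25) (ke xe16 ye7 ze26) (ke xe16 ye7 ze28) (ke xe16 ye7 ze29) (ke xe15 ye0 ze31) (ke xe16 ye7 ze30) (ke xe8 ye15 ze14) (ke xe16 ye18 ze34) (ke xe16 ye7 ze35) (ke xe16 ye7 ze36) (ke xe16 ye7 ze37) (ke xe16 ye7 ze38) (ke xe16 ye7 ze39) (ke xe16 ye8 ze0) (ke xe16 ye8 ze1) (ke xe16 ye8 ze3)) (@D3.rec (fun _ => Pt) (ke xe15 ye6 ze25) (ke xe16 ye8 ze4) (ke xe16 ye8 ze5) (ke xe8 ye15 ze26) (ke xe8 ye15 ze34) (ke xe15 ye6 ze15) (ke xe16 ye9 ze26) (ke xe16 ye9 ze27) (ke xe16 ye9 ze28) (ke xe16 ye9 ze30) (ke xe8 ye16 ze4) (ke xe16 ye18 ze38) (ke xe16 ye18 ze39) (ke xe16 ye9 ze35) (ke xe16 ye9 ze36) (ke xe16 ye9 ze37) (ke xe16 ye9 ze38) (ke xe16 ye9 ze39) (ke xe8 ye16 ze9) (ke xe16 ye19 ze1) (ke xe16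 ye19 ze2) (ke xe16 ye19 ze3) (ke xe16 ye10 ze4) (ke xe16 ye10 ze5) (ke xe16 ye10 ze7) (ke xe16 ye10 ze8) (ke xe16 ye10 ze10) (ke xe8 ye16 ze16) (ke xe16 ye10 ze14) (ke xe8 ye16 ze20) (ke xe8 ye16 ze21) (ke xe8 ye16 ze22) (ke xe16 ye19 ze4) (ke xe16 ye10 ze27) (ke xe16 ye10 ze28) (ke xe16 ye13 ze13) (ke xe16 ye13 ze9) (ke xe16 ye13 ze14) (ke xe16 ye10 ze33) (ke xe16 ye10 ze34)) (@D3.rec (fun _ => Pt) (ke xe16 ye10 ze35) (ke xe16 ye10 ze36) (ke xe16 ye10 ze37) (ke xe16 ye10 ze38) (ke xe16 ye10 ze39) (ke xe16 ye11 ze1) (ke xe16 ye11 ze2) (ke xe16 ye11 ze3) (ke xe16 ye11 ze4) (ke xe16 ye16 ze23) (ke xe16 ye11 ze6) (ke xe16 ye11 ze7) (ke xe16 ye11 ze8) (ke xe16 ye11 ze10) (ke xe16 ye11 ze12) (ke xe16 ye11 ze13) (ke xe16 ye11 ze14) (ke xe16 ye11 ze16) (ke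 xe16 ye11 ze20) (ke xe16 ye11 ze21) (ke xe16 ye11 ze22) (ke xe16 ye13 ze15) (ke xe16 ye13 ze16) (ke xe16 ye12 ze39) (ke xe8 ye17 ze13) (ke xe8 ye17 ze21) (ke xe16 ye11 ze37) (ke xe16 ye11 ze38) (ke xe16 ye11 ze39) (ke xe15 ye0 ze21) (ke xe8 ye17 ze30) (ke xe16 ye19 ze16) (ke xe16 ye19 ze17) (ke xe16 ye12 ze5) (ke xe16 ye12 ze6) (ke xe16 ye12 ze7) (ke xe16 ye12 ze8) (ke xe16 ye12 ze9) (ke xe8 ye17 ze35) (ke xe16 ye19 ze19)) (@D3.rec (fun _ => Pt) (ke xe16 ye19 ze20) (ke xe16 ye19 ze21) (ke xe16 ye12 ze14) (ke xe16 ye12 ze15) (ke xe16 ye12 ze17) (ke xe16 ye12 ze18) (ke xe8 ye18 ze1) (ke xe16 ye12 ze23) (ke xe8 ye18 ze5) (ke xe8 ye18 ze6) (ke xe8 ye18 ze7) (ke xe16 ye19 ze22) (ke xe16 ye12 ze34) (ke xe16 ye12 ze35) (ke xe16 ye13 ze0) (ke xe16 ye13 ze1)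 (ke xe16 ye13 ze2) (ke xe16 ye13 ze3) (ke xe16 ye13 ze4) (ke xe16 ye13 ze5) (ke xe16 ye13 ze7) (ke xe16 ye13 ze8) (ke xe16 ye14 ze27) (ke xe16 ye13 ze11) (ke xe16 ye13 ze12) (ke xe16 ye13 ze21) (ke xe16 ye13 ze22) (ke xe10 ye22 ze30) (ke xe10 ye10 ze12) (ke xe10 ye10 ze10) (ke xe11 ye7 ze11) (ke xe15 ye10 ze1) (ke xe16 ye13 ze26) (ke xe16 ye13 ze31) (ke xe13 ye2 ze35) (ke xe16 ye13 ze32) (ke xe15 ye17 ze27) (ke xe8 ye19 ze8) (ke xe8 ye19 ze9) (ke xe8 ye19 ze10)) (@D3.rec (fun _ => Pt) (ke xe9 ye12 ze12) (ke xe12 ye15 ze37) (ke xe8 ye19 ze17) (ke xe8 ye19 ze18) (ke xe8 ye19 ze19) (ke xe16 ye19 ze37) (ke xe16 ye19 ze39) (ke xe8 ye19 ze20) (ke xe16 ye14 ze16) (ke xe16 ye14 ze17) (ke xe16 ye14 ze18) (ke xe16 ye14 ze19) (ke xe16 ye20 ze1) (ke xe8 ye19 ze23)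 (ke xe16 ye14 ze25) (ke xe16 ye14 ze26) (ke xe11 ye1 ze26) (ke xe16 ye14 ze28) (ke xe16 ye14 ze29) (ke xe16 ye14 ze30) (ke xe16 ye20 ze3) (ke xe16 ye14 ze31) (ke xe8 ye19 ze33) (ke xe16 ye14 ze34) (ke xe11 ye0 ze38) (ke xe8 ye19 ze36) (ke xe16 ye20 ze4) (ke xe10 ye25 ze33) (ke xe16 ye14 ze39) (ke xe16 ye15 ze0) (ke xe8 ye19 ze39) (ke xe16 ye15 ze5) (ke xe16 ye15 ze6) (ke xe16 ye15 ze13) (ke xe15 ye0 ze33) (ke xe15 ye6 ze11) (ke xe8 ye20 ze5) (ke xe16 ye20 ze13) (ke xe8 ye20 ze7) (ke xe11 ye0 ze29)) (@D3.rec (fun _ => Pt) (ke xe10 ye10 ze34) (ke xe11 ye8 ze14) (ke xe10 ye10 ze31) (ke xe16 ye15 ze22) (ke xe15 ye11 ze37) (ke xe15 ye21 ze16) (ke xe16 ye15 ze27) (ke xe13 ye3 ze4) (ke xe16 ye15 ze28) (ke xe8 ye20 ze24) (ke xe8 ye20 ze22) (ke xe8 ye20 ze23)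 (ke xe9 ye10 ze39) (ke xe12 ye17 ze16) (ke xe8 ye20 ze31) (ke xe8 ye20 ze32) (ke xe8 ye20 ze33) (ke xe16 ye20 ze22) (ke xe16 ye20 ze24) (ke xe8 ye20 ze34) (ke xe16 ye16 ze12) (ke xe16 ye16 ze13) (ke xe16 ye16 ze14) (ke xe16 ye16 ze15) (ke xe16 ye20 ze26) (ke xe8 ye20 ze37) (ke xe16 ye16 ze21) (ke xe16 ye16 ze22) (ke xe10 ye23 ze27) (ke xe16 ye16 ze24) (ke xe16 ye16 ze25) (ke xe16 ye16 ze26) (ke xe16 ye20 ze28) (ke xe16 ye16 ze27) (ke xe8 ye21 ze7) (ke xe16 ye16 ze30) (ke xe10 ye22 ze39) (ke xe8 ye21 ze10) (ke xe16 ye20 ze29) (ke xe10 ye21 ze33)) (@D3.rec (fun _ => Pt) (ke xe16 ye16 ze35) (ke xe16 ye16 ze36) (ke xe8 ye21 ze13) (ke xe16 ye17 ze1) (ke xe16 ye17 ze2) (ke xe15 ye6 ze27) (ke xe16 ye17 ze9) (ke xe15 ye0 ze17) (ke xe8 ye21 ze19) (ke xe16 ye20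 ze38) (ke xe8 ye21 ze21) (ke xe9 ye1 ze36) (ke xe8 ye21 ze28) (ke xe8 ye21 ze31) (ke xe9 ye9 ze31) (ke xe12 ye25 ze21) (ke xe8 ye21 ze33) (ke xe13 ye0 ze5) (ke xe8 ye22 ze29) (ke xe8 ye21 ze38) (ke xe8 ye22 ze1) (ke xe12 ye25 ze15) (ke xe8 ye22 ze3) (ke xe16 ye21 ze1) (ke xe15 ye24 ze38) (ke xe16 ye21 ze2) (ke xe8 ye22 ze6) (ke xe16 ye21 ze3) (ke xe9 ye13 ze25) (ke xe14 ye11 ze10) (ke xe13 ye0 ze32) (ke xe16 ye21 ze5) (ke xe8 ye22 ze12) (ke xe14 ye11 ze8) (ke xe8 ye22 ze13) (ke xe8 ye22 ze15) (ke xe8 ye22 ze16) (ke xe16 ye21 ze6) (ke xe8 ye22 ze18) (ke xe8 ye22 ze21))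
def f_e_13 : D2 → D3 → Pt := @D2.rec (fun _ => D3 → Pt) (@D3.rec (fun _ => Pt) (ke xe16 ye21 ze7) (ke xe9 ye1 ze32) (ke xe8 ye22 ze28) (ke xe9 ye9 ze11) (ke xe8 ye22 ze37) (ke xe12 ye25 ze17) (ke xe8 ye22 ze39) (ke xe16 ye21 ze10) (ke xe15 ye25 ze21) (ke xe16 ye21 ze11) (ke xe8 ye23 ze2) (ke xe16 ye21 ze12) (ke xe9 ye14 ze2) (ke xe14 ye11 ze22) (ke xe13 ye1 ze21) (ke xe16 ye21 ze14) (ke xe8 ye23 ze8) (ke xe14 ye11 ze20) (ke xe8 ye23 ze9) (ke xe8 ye23 ze11) (ke xe8 ye23 ze12) (ke xe16 ye21 ze15) (ke xe8 ye23 ze14) (ke xe8 ye23 ze17) (ke xe16 ye21 ze16) (ke xe13 ye0 ze29) (ke xe8 ye23 ze21) (ke xe13 ye1 ze26) (ke xe13 ye1 ze34) (ke xe13 ye0 ze25) (ke xe8 ye23 ze25) (ke xe8 ye23 ze26) (ke xe12 ye25 ze30) (ke xe8 ye25 ze27) (ke xe8 ye23 ze30) (ke xe10 ye8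 ze32) (ke xe14 ye8 ze37) (ke xe9 ye2 ze27) (ke xe8 ye24 ze2) (ke xe8 ye24 ze4)) (@D3.rec (fun _ => Pt) (ke xe13 ye1 ze18) (ke xe9 ye2 ze32) (ke xe10 ye8 ze23) (ke xe10 ye8 ze21) (ke xe8 ye24 ze39) (ke xe8 ye24 ze38) (ke xe10 ye8 ze36) (ke xe10 ye8 ze31) (ke xe8 ye25 ze2) (ke xe10 ye8 ze37) (ke xe8 ye24 ze24) (ke xe8 ye24 ze25) (ke xe13 ye1 ze19) (ke xe13 ye4 ze27) (ke xe15 ye7 ze27) (ke xe10 ye8 ze39) (ke xe13 ye1 ze20) (ke xe8 ye24 ze34) (ke xe13 ye1 ze0) (ke xe13 ye1 ze12) (ke xe13 ye1 ze16) (ke xe13 ye0 ze14) (ke xe10 ye6 ze18) (ke xe14 ye10 ze5) (ke xe8 ye25 ze9) (ke xe8 ye25 ze11) (ke xe13 ye0 ze27) (ke xe10 ye6 ze21) (ke xe10 ye6 ze19) (ke xe10 ye6 ze32) (ke xe10 ye6 ze17) (ke xe10 ye6 ze33) (ke xe8 ye25 ze26) (ke xe13 ye4 ze25) (ke xe13 ye0 ze28)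 (ke xe15 ye1 ze37) (ke xe10 ye6 ze35) (ke xe9 ye0 ze2) (ke xe9 ye0 ze3) (ke xe9 ye0 ze4)) (@D3.rec (fun _ => Pt) (ke xe9 ye0 ze5) (ke xe9 ye0 ze6) (ke xe9 ye0 ze7) (ke xe10 ye3 ze18) (ke xe10 ye4 ze33) (ke xe11 ye11 ze10) (ke xe11 ye16 ze19) (ke xe16 ye21 ze28) (ke xe16 ye21 ze29) (ke xe16 ye0 ze11) (ke xe16 ye21 ze31) (ke xe16 ye21 ze32) (ke xe16 ye21 ze33) (ke xe16 ye0 ze29) (ke xe16 ye21 ze35) (ke xe9 ye1 ze8) (ke xe9 ye1 ze9) (ke xe12 ye11 ze37) (ke xe9 ye1 ze13) (ke xe12 ye13 ze33) (ke xe9 ye1 ze14) (ke xe9 ye12 ze2) (ke xe9 ye12 ze5) (ke xe9 ye23 ze17) (ke xe9 ye23 ze18) (ke xe9 ye10 ze29) (ke xe9 ye10 ze31) (ke xe9 ye23 ze19) (ke xe9 ye23 ze20) (ke xe9 ye1 ze37) (ke xe9 ye1 ze38) (ke xe9 ye1 ze39) (ke xe9 ye2 ze0) (ke xe9 ye2 ze1) (ke xe9 ye2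 ze2) (ke xe12 ye22 ze34) (ke xe9 ye2 ze4) (ke xe9 ye2 ze5) (ke xe9 ye2 ze6) (ke xe9 ye2 ze7)) (@D3.rec (fun _ => Pt) (ke xe9 ye2 ze8) (ke xe9 ye2 ze9) (ke xe9 ye2 ze10) (ke xe9 ye2 ze11) (ke xe12 ye24 ze7) (ke xe9 ye2 ze13) (ke xe9 ye2 ze14) (ke xe9 ye2 ze37) (ke xe9 ye3 ze6) (ke xe9 ye3 ze4) (ke xe9 ye2 ze38) (ke xe9 ye2 ze35) (ke xe9 ye2 ze36) (ke xe9 ye2 ze39) (ke xe9 ye3 ze0) (ke xe9 ye3 ze1) (ke xe9 ye3 ze2) (ke xe9 ye3 ze3) (ke xe9 ye3 ze5) (ke xe9 ye3 ze7) (ke xe9 ye3 ze8) (ke xe9 ye3 ze9) (ke xe9 ye3 ze10) (ke xe9 ye1 ze19) (ke xe9 ye1 ze20) (ke xe11 ye8 ze18) (ke xe11 ye7 ze15) (ke xe9 ye1 ze23) (ke xe9 ye1 ze24) (ke xe16 ye22 ze34) (ke xe16 ye22 ze35) (ke xe9 ye1 ze29) (ke xe9 ye1 ze30) (ke xe9 ye1 ze31) (ke xe9 ye1 ze33) (ke xe9 ye1 ze34)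 (ke xe9 ye1 ze35) (ke xe9 ye9 ze36) (ke xe11 ye25 ze9) (ke xe11 ye25 ze5)) (@D3.rec (fun _ => Pt) (ke xe10 ye7 ze3) (ke xe16 ye0 ze14) (ke xe13 ye10 ze9) (ke xe16 ye22 ze14) (ke xe15 ye16 ze33) (ke xe12 ye8 ze18) (ke xe9 ye9 ze16) (ke xe12 ye0 ze6) (ke xe12 ye0 ze1) (ke xe10 ye9 ze7) (ke xe16 ye0 ze32) (ke xe13 ye10 ze12) (ke xe16 ye22 ze18) (ke xe15 ye20 ze28) (ke xe12 ye8 ze20) (ke xe16 ye22 ze15) (ke xe13 ye12 ze7) (ke xe16 ye22 ze17) (ke xe16 ye22 ze19) (ke xe13 ye11 ze28) (ke xe16 ye22 ze21) (ke xe9 ye2 ze25) (ke xe9 ye2 ze28) (ke xe9 ye2 ze30) (ke xe9 ye2 ze33) (ke xe13 ye1 ze33) (ke xe10 ye7 ze9) (ke xe13 ye1 ze13) (ke xe10 ye9 ze13) (ke xe16 ye22 ze24) (ke xe16 ye22 ze22) (ke xe16 ye22 ze23) (ke xe16 ye22 ze26) (ke xe16 ye22 ze27) (ke xe16 ye22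 ze28) (ke xe16 ye22 ze29) (ke xe16 ye22 ze31) (ke xe16 ye22 ze32) (ke xe16 ye22 ze33) (ke xe14 ye11 ze33)) (@D3.rec (fun _ => Pt) (ke xe14 ye12 ze5) (ke xe12 ye12 ze12) (ke xe9 ye7 ze30) (ke xe16 ye23 ze5) (ke xe9 ye3 ze15) (ke xe16 ye23 ze6) (ke xe9 ye3 ze16) (ke xe16 ye23 ze9) (ke xe9 ye3 ze18) (ke xe16 ye23 ze11) (ke xe9 ye7 ze34) (ke xe9 ye7 ze35) (ke xe9 ye7 ze36) (ke xe9 ye7 ze37) (ke xe9 ye7 ze38) (ke xe12 ye7 ze35) (ke xe9 ye8 ze0) (ke xe9 ye8 ze1) (ke xe9 ye8 ze2) (ke xe9 ye8 ze3) (ke xe9 ye8 ze4) (ke xe12 ye7 ze36) (ke xe9 ye8 ze6) (ke xe12 ye7 ze38) (ke xe9 ye8 ze10) (ke xe9 ye8 ze11) (ke xe12 ye14 ze8) (ke xe9 ye8 ze12) (ke xe16 ye23 ze33) (ke xe9 ye3 ze31) (ke xe16 ye23 ze34) (ke xe9 ye3 ze32) (ke xe16 ye23 ze37) (ke xe9 ye3 ze34) (ke xe16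 ye23 ze39) (ke xe9 ye8 ze16) (ke xe9 ye8 ze17) (ke xe9 ye8 ze18) (ke xe9 ye8 ze19) (ke xe9 ye8 ze20)) (@D3.rec (fun _ => Pt) (ke xe12 ye7 ze10) (ke xe9 ye8 ze22) (ke xe9 ye8 ze23) (ke xe9 ye8 ze24) (ke xe9 ye8 ze25) (ke xe9 ye8 ze26) (ke xe12 ye7 ze11) (ke xe9 ye8 ze28) (ke xe12 ye7 ze13) (ke xe9 ye8 ze32) (ke xe9 ye8 ze33) (ke xe9 ye11 ze22) (ke xe9 ye4 ze10) (ke xe14 ye21 ze31) (ke xe10 ye17 ze36) (ke xe10 ye3 ze12) (ke xe9 ye12 ze16) (ke xe9 ye12 ze14) (ke xe14 ye19 ze5) (ke xe9 ye12 ze35) (ke xe9 ye4 ze23) (ke xe14 ye19 ze2) (ke xe10 ye17 ze26) (ke xe10 ye2 ze7) (ke xe9 ye11 ze3) (ke xe9 ye11 ze1) (ke xe14 ye21 ze30) (ke xe9 ye10 ze10) (ke xe9 ye10 ze11) (ke xe9 ye10 ze12) (ke xe9 ye4 ze39) (ke xe16 ye24 ze29) (ke xe9 ye5 ze1) (ke xe16 ye10 ze26)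 (ke xe9 ye10 ze15) (ke xe9 ye10 ze16) (ke xe9 ye10 ze17) (ke xe9 ye10 ze18) (ke xe16 ye24 ze38) (ke xe9 ye10 ze20)) (@D3.rec (fun _ => Pt) (ke xe13 ye18 ze5) (ke xe9 ye5 ze7) (ke xe16 ye25 ze2) (ke xe16 ye25 ze3) (ke xe9 ye5 ze9) (ke xe16 ye25 ze7) (ke xe9 ye10 ze26) (ke xe9 ye10 ze27) (ke xe9 ye10 ze28) (ke xe9 ye10 ze30) (ke xe9 ye10 ze32) (ke xe9 ye10 ze33) (ke xe16 ye25 ze24) (ke xe16 ye25 ze26) (ke xe9 ye5 ze13) (ke xe16 ye25 ze27) (ke xe9 ye10 ze38) (ke xe9 ye11 ze0) (ke xe12 ye13 ze15) (ke xe9 ye11 ze2) (ke xe9 ye11 ze4) (ke xe16 ye25 ze34) (ke xe9 ye11 ze6) (ke xe9 ye11 ze7) (ke xe9 ye11 ze10) (ke xe9 ye11 ze11) (ke xe16 ye25 ze39) (ke xe9 ye5 ze24) (ke xe17 ye0 ze1) (ke xe9 ye11 ze15) (ke xe17 ye0 ze4) (ke xe9 ye5 ze26) (ke xe17 ye0 ze8) (ke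 xe9 ye5 ze28) (ke xe17 ye0 ze11) (ke xe9 ye11 ze21) (ke xe9 ye11 ze23) (ke xe9 ye11 ze24) (ke xe9 ye11 ze25) (ke xe9 ye11 ze26)) (@D3.rec (fun _ => Pt) (ke xe9 ye5 ze37) (ke xe17 ye0 ze21) (ke xe9 ye5 ze39) (ke xe16 ye12 ze33) (ke xe9 ye11 ze29) (ke xe9 ye11 ze30) (ke xe9 ye11 ze31) (ke xe17 ye0 ze30) (ke xe9 ye11 ze33) (ke xe13 ye18 ze25) (ke xe9 ye6 ze5) (ke xe17 ye0 ze34) (ke xe17 ye0 ze35) (ke xe9 ye6 ze7) (ke xe17 ye0 ze39) (ke xe9 ye11 ze39) (ke xe9 ye12 ze0) (ke xe9 ye12 ze1) (ke xe9 ye12 ze3) (ke xe9 ye12 ze4) (ke xe9 ye12 ze6) (ke xe17 ye1 ze13) (ke xe17 ye1 ze15) (ke xe9 ye6 ze11) (ke xe17 ye1 ze16) (ke xe9 ye12 ze11) (ke xe9 ye12 ze13) (ke xe12 ye15 ze6) (ke xe9 ye12 ze15) (ke xe9 ye12 ze17) (ke xe17 ye1 ze22) (ke xe9 ye12 ze19) (ke xe9 ye12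 ze20) (ke xe9 ye12 ze23) (ke xe9 ye12 ze24) (ke xe17 ye1 ze27) (ke xe9 ye6 ze22) (ke xe17 ye1 ze29) (ke xe9 ye12 ze28) (ke xe17 ye1 ze32)) (@D3.rec (fun _ => Pt) (ke xe9 ye6 ze24) (ke xe17 ye1 ze36) (ke xe9 ye6 ze26) (ke xe17 ye1 ze39) (ke xe9 ye12 ze34) (ke xe9 ye12 ze36) (ke xe9 ye12 ze37) (ke xe9 ye12 ze38) (ke xe17 ye2 ze8) (ke xe9 ye13 ze0) (ke xe9 ye13 ze1) (ke xe17 ye2 ze13) (ke xe9 ye6 ze30) (ke xe13 ye9 ze27) (ke xe17 ye2 ze16) (ke xe9 ye13 ze4) (ke xe17 ye2 ze19) (ke xe9 ye6 ze34) (ke xe17 ye2 ze22) (ke xe17 ye2 ze23) (ke xe9 ye13 ze9) (ke xe17 ye2 ze17) (ke xe9 ye13 ze3) (ke xe9 ye13 ze10) (ke xe17 ye2 ze31) (ke xe9 ye6 ze37) (ke xe17 ye2 ze10) (ke xe13 ye9 ze13) (ke xe9 ye12 ze39) (ke xe17 ye2 ze35) (ke xe9 ye7 ze1) (ke xe17 ye2 ze38) (ke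 xe17 ye2 ze39) (ke xe12 ye18 ze28) (ke xe12 ye18 ze29) (ke xe12 ye18 ze30) (ke xe17 ye3 ze8) (ke xe12 ye18 ze32) (ke xe17 ye3 ze12) (ke xe9 ye7 ze5)) (@D3.rec (fun _ => Pt) (ke xe17 ye3 ze15) (ke xe17 ye3 ze16) (ke xe12 ye19 ze8) (ke xe12 ye19 ze9) (ke xe12 ye19 ze10) (ke xe17 ye3 ze23) (ke xe17 ye3 ze25) (ke xe9 ye7 ze11) (ke xe17 ye3 ze27) (ke xe13 ye4 ze2) (ke xe16 ye24 ze16) (ke xe9 ye7 ze20) (ke xe13 ye4 ze11) (ke xe16 ye23 ze28) (ke xe9 ye7 ze27) (ke xe9 ye7 ze33) (ke xe17 ye3 ze30) (ke xe16 ye23 ze15) (ke xe16 ye22 ze6) (ke xe13 ye12 ze1) (ke xe9 ye8 ze29) (ke xe16 ye23 ze18) (ke xe16 ye23 ze19) (ke xe16 ye23 ze20) (ke xe16 ye24 ze7) (ke xe16 ye23 ze22) (ke xe16 ye23 ze23) (ke xe17 ye3 ze33) (ke xe16 ye23 ze25) (ke xe13 ye11 ze17) (ke xe9 ye8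 ze5) (ke xe13 ye11 ze15) (ke xe16 ye23 ze27) (ke xe16 ye24 ze5) (ke xe9 ye8 ze7) (ke xe13 ye11 ze12) (ke xe9 ye8 ze9) (ke xe13 ye11 ze10) (ke xe16 ye23 ze29) (ke xe9 ye8 ze15)) (@D3.rec (fun _ => Pt) (ke xe17 ye4 ze0) (ke xe16 ye24 ze3) (ke xe16 ye22 ze10) (ke xe13 ye12 ze20) (ke xe16 ye24 ze6) (ke xe16 ye24 ze8) (ke xe16 ye24 ze10) (ke xe16 ye24 ze11) (ke xe17 ye4 ze3) (ke xe16 ye24 ze13) (ke xe13 ye10 ze37) (ke xe9 ye8 ze27) (ke xe13 ye10 ze35) (ke xe16 ye24 ze15) (ke xe16 ye23 ze17) (ke xe13 ye10 ze31) (ke xe9 ye8 ze31) (ke xe13 ye10 ze29) (ke xe16 ye24 ze17) (ke xe9 ye9 ze17) (ke xe9 ye9 ze23) (ke xe9 ye9 ze25) (ke xe9 ye9 ze29) (ke xe9 ye9 ze37) (ke xe9 ye10 ze3) (ke xe9 ye10 ze5) (ke xe9 ye10 ze9) (ke xe9 ye9 ze13) (ke xe13 ye4 ze19) (ke xe15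 ye20 ze19) (ke xe17 ye4 ze14) (ke xe9 ye9 ze18) (ke xe13 ye16 ze0) (ke xe16 ye0 ze39) (ke xe17 ye4 ze16) (ke xe17 ye4 ze10) (ke xe17 ye4 ze19) (ke xe17 ye3 ze38) (ke xe17 ye4 ze11) (ke xe9 ye9 ze24)) (@D3.rec (fun _ => Pt) (ke xe17 ye4 ze22) (ke xe13 ye10 ze19) (ke xe9 ye9 ze26) (ke xe17 ye4 ze24) (ke xe9 ye9 ze28) (ke xe17 ye4 ze25) (ke xe9 ye9 ze33) (ke xe13 ye4 ze16) (ke xe15 ye23 ze6) (ke xe17 ye4 ze26) (ke xe9 ye9 ze38) (ke xe13 ye16 ze21) (ke xe16 ye0 ze21) (ke xe17 ye4 ze28) (ke xe17 ye4 ze12) (ke xe17 ye4 ze31) (ke xe17 ye4 ze13) (ke xe17 ye4 ze8) (ke xe9 ye10 ze4) (ke xe17 ye4 ze34) (ke xe13 ye11 ze3) (ke xe9 ye10 ze6) (ke xe17 ye4 ze36) (ke xe9 ye10 ze8) (ke xe17 ye4 ze37) (ke xe16 ye24 ze26) (ke xe16 ye24 ze27) (ke xe12 ye8 ze23) (ke xe16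 ye24 ze34) (ke xe16 ye24 ze35) (ke xe16 ye24 ze37) (ke xe15 ye7 ze36) (ke xe9 ye10 ze19) (ke xe17 ye4 ze39) (ke xe12 ye8 ze24) (ke xe12 ye8 ze25) (ke xe9 ye10 ze23) (ke xe9 ye10 ze25) (ke xe16 ye25 ze11) (ke xe16 ye25 ze12)) (@D3.rec (fun _ => Pt) (ke xe16 ye25 ze14) (ke xe16 ye25 ze15) (ke xe16 ye25 ze16) (ke xe16 ye22 ze11) (ke xe16 ye25 ze18) (ke xe16 ye25 ze19) (ke xe17 ye1 ze25) (ke xe16 ye25 ze21) (ke xe16 ye25 ze22) (ke xe17 ye5 ze5) (ke xe9 ye10 ze34) (ke xe17 ye5 ze6) (ke xe9 ye10 ze35) (ke xe17 ye5 ze8) (ke xe9 ye10 ze37) (ke xe16 ye25 ze29) (ke xe17 ye5 ze10) (ke xe16 ye25 ze33) (ke xe9 ye11 ze5) (ke xe17 ye5 ze11) (ke xe16 ye4 ze33) (ke xe16 ye13 ze34) (ke xe16 ye14 ze2) (ke xe16 ye10 ze21) (ke xe17 ye5 ze13) (ke xe9 ye11 ze9) (ke xe17 ye1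 ze10) (ke xe16 ye25 ze37) (ke xe16 ye25 ze38) (ke xe9 ye11 ze12) (ke xe9 ye11 ze14) (ke xe17 ye5 ze15) (ke xe17 ye5 ze16) (ke xe9 ye11 ze16) (ke xe17 ye5 ze18) (ke xe9 ye11 ze17) (ke xe17 ye5 ze19) (ke xe9 ye11 ze20) (ke xe17 ye0 ze13) (ke xe17 ye0 ze14)) (@D3.rec (fun _ => Pt) (ke xe17 ye0 ze15) (ke xe17 ye0 ze17) (ke xe17 ye0 ze18) (ke xe17 ye0 ze19) (ke xe12 ye8 ze27) (ke xe17 ye0 ze26) (ke xe17 ye0 ze27) (ke xe17 ye0 ze29) (ke xe15 ye2 ze6) (ke xe9 ye11 ze32) (ke xe17 ye5 ze23) (ke xe12 ye8 ze28) (ke xe12 ye8 ze29) (ke xe9 ye11 ze36) (ke xe9 ye11 ze38) (ke xe17 ye1 ze1) (ke xe17 ye1 ze2) (ke xe17 ye1 ze4) (ke xe17 ye1 ze5) (ke xe17 ye1 ze7) (ke xe16 ye22 ze7) (ke xe17 ye1 ze8) (ke xe17 ye1 ze11) (ke xe17 ye5 ze28) (ke xe9 ye12 ze7) (ke xe17 ye5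 ze29) (ke xe9 ye12 ze8) (ke xe17 ye5 ze31) (ke xe9 ye12 ze10) (ke xe17 ye5 ze32) (ke xe17 ye1 ze21) (ke xe9 ye12 ze18) (ke xe17 ye5 ze33) (ke xe16 ye5 ze0) (ke xe16 ye15 ze30) (ke xe16 ye12 ze30) (ke xe16 ye15 ze38) (ke xe17 ye5 ze35) (ke xe9 ye12 ze22) (ke xe17 ye1 ze26)) (@D3.rec (fun _ => Pt) (ke xe9 ye12 ze25) (ke xe9 ye12 ze27) (ke xe17 ye5 ze37) (ke xe17 ye5 ze38) (ke xe9 ye12 ze29) (ke xe17 ye6 ze0) (ke xe9 ye12 ze30) (ke xe17 ye6 ze1) (ke xe9 ye12 ze33) (ke xe17 ye2 ze1) (ke xe17 ye2 ze2) (ke xe17 ye2 ze3) (ke xe17 ye2 ze5) (ke xe17 ye2 ze34) (ke xe17 ye2 ze6) (ke xe17 ye2 ze11) (ke xe17 ye2 ze18) (ke xe17 ye6 ze7) (ke xe9 ye13 ze5) (ke xe17 ye6 ze8) (ke xe16 ye1 ze39) (ke xe9 ye13 ze7) (ke xe9 ye13 ze8) (ke xe16 ye1 ze38) (ke xe17 ye2 ze26)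 (ke xe17 ye2 ze29) (ke xe17 ye6 ze10) (ke xe9 ye13 ze12) (ke xe16 ye2 ze5) (ke xe17 ye6 ze11) (ke xe9 ye13 ze14) (ke xe9 ye13 ze15) (ke xe16 ye2 ze4) (ke xe9 ye13 ze16) (ke xe9 ye13 ze18) (ke xe14 ye2 ze3) (ke xe9 ye13 ze21) (ke xe17 ye6 ze13) (ke xe9 ye13 ze24) (ke xe14 ye10 ze18)) (@D3.rec (fun _ => Pt) (ke xe13 ye11 ze32) (ke xe17 ye6 ze15) (ke xe14 ye9 ze28) (ke xe14 ye9 ze12) (ke xe17 ye6 ze16) (ke xe9 ye13 ze26) (ke xe17 ye6 ze17) (ke xe17 ye6 ze18) (ke xe9 ye13 ze28) (ke xe17 ye6 ze19) (ke xe9 ye13 ze30) (ke xe9 ye13 ze31) (ke xe17 ye6 ze20) (ke xe11 ye25 ze22) (ke xe9 ye13 ze33) (ke xe9 ye13 ze35) (ke xe14 ye2 ze33) (ke xe9 ye13 ze38) (ke xe17 ye6 ze23) (ke xe9 ye14 ze1) (ke xe14 ye9 ze10) (ke xe13 ye12 ze11) (ke xe17 ye6 ze25) (ke xe14 ye10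 ze21) (ke xe14 ye10 ze36) (ke xe17 ye6 ze26) (ke xe9 ye14 ze3) (ke xe17 ye6 ze27) (ke xe17 ye6 ze28) (ke xe9 ye14 ze5) (ke xe17 ye6 ze29) (ke xe9 ye14 ze7) (ke xe9 ye14 ze8) (ke xe17 ye6 ze30) (ke xe12 ye0 ze16) (ke xe17 ye6 ze32) (ke xe9 ye23 ze14) (ke xe17 ye6 ze34) (ke xe9 ye23 ze16) (ke xe17 ye6 ze36)) (@D3.rec (fun _ => Pt) (ke xe10 ye11 ze30) (ke xe10 ye11 ze31) (ke xe10 ye11 ze33) (ke xe17 ye7 ze1) (ke xe10 ye11 ze38) (ke xe10 ye11 ze39) (ke xe10 ye12 ze1) (ke xe15 ye8 ze10) (ke xe15 ye2 ze20) (ke xe10 ye12 ze24) (ke xe10 ye12 ze25) (ke xe10 ye12 ze26) (ke xe10 ye12 ze27) (ke xe10 ye12 ze34) (ke xe10 ye12 ze35) (ke xe17 ye7 ze15) (ke xe10 ye12 ze37) (ke xe10 ye12 ze38) (ke xe10 ye12 ze39) (ke xe17 ye7 ze21) (ke xe10 ye13 ze1) (ke xe17 ye7 ze24)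 (ke xe10 ye13 ze5) (ke xe9 ye15 ze0) (ke xe17 ye7 ze26) (ke xe10 ye13 ze10) (ke xe10 ye13 ze11) (ke xe17 ye7 ze32) (ke xe10 ye13 ze15) (ke xe9 ye15 ze6) (ke xe17 ye7 ze34) (ke xe10 ye13 ze20) (ke xe10 ye13 ze21) (ke xe14 ye11 ze34) (ke xe17 ye8 ze3) (ke xe14 ye12 ze6) (ke xe17 ye8 ze7) (ke xe10 ye14 ze9) (ke xe10 ye14 ze10) (ke xe10 ye14 ze11)) (@D3.rec (fun _ => Pt) (ke xe17 ye8 ze13) (ke xe10 ye14 ze14) (ke xe10 ye14 ze15) (ke xe10 ye14 ze16) (ke xe17 ye8 ze19) (ke xe13 ye7 ze0) (ke xe10 ye14 ze18) (ke xe10 ye14 ze19) (ke xe10 ye14 ze20) (ke xe10 ye14 ze21) (ke xe9 ye15 ze26) (ke xe10 ye14 ze25) (ke xe10 ye14 ze27) (ke xe10 ye14 ze28) (ke xe17 ye8 ze30) (ke xe10 ye14 ze30) (ke xe10 ye14 ze31) (ke xe10 ye14 ze33) (ke xe17 ye8 ze39) (ke xe10 ye14 ze35)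 (ke xe15 ye3 ze17) (ke xe9 ye15 ze35) (ke xe17 ye9 ze3) (ke xe10 ye14 ze39) (ke xe10 ye15 ze0) (ke xe13 ye8 ze9) (ke xe10 ye15 ze2) (ke xe10 ye15 ze3) (ke xe10 ye15 ze4) (ke xe10 ye15 ze5) (ke xe9 ye16 ze3) (ke xe10 ye15 ze9) (ke xe10 ye15 ze11) (ke xe10 ye15 ze12) (ke xe17 ye9 ze19) (ke xe10 ye15 ze14) (ke xe10 ye15 ze15) (ke xe10 ye15 ze17) (ke xe17 ye9 ze28) (ke xe10 ye15 ze19)) (@D3.rec (fun _ => Pt) (ke xe15 ye9 ze2) (ke xe9 ye16 ze12) (ke xe17 ye9 ze32) (ke xe10 ye15 ze23) (ke xe10 ye15 ze24) (ke xe12 ye4 ze22) (ke xe10 ye13 ze7) (ke xe9 ye23 ze22) (ke xe16 ye5 ze33) (ke xe9 ye16 ze17) (ke xe16 ye6 ze12) (ke xe17 ye10 ze4) (ke xe9 ye23 ze25) (ke xe9 ye23 ze26) (ke xe9 ye23 ze27) (ke xe14 ye11 ze36) (ke xe9 ye23 ze29) (ke xe14 ye11 ze35) (ke xe9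 ye16 ze23) (ke xe10 ye13 ze27) (ke xe17 ye10 ze11) (ke xe9 ye23 ze33) (ke xe17 ye10 ze13) (ke xe9 ye16 ze26) (ke xe14 ye2 ze10) (ke xe10 ye22 ze12) (ke xe9 ye16 ze28) (ke xe17 ye10 ze16) (ke xe14 ye14 ze33) (ke xe14 ye1 ze38) (ke xe9 ye16 ze31) (ke xe17 ye10 ze21) (ke xe9 ye16 ze33) (ke xe17 ye10 ze25) (ke xe17 ye10 ze26) (ke xe16 ye0 ze35) (ke xe9 ye23 ze37) (ke xe9 ye23 ze38) (ke xe9 ye23 ze39) (ke xe9 ye24 ze0)) (@D3.rec (fun _ => Pt) (ke xe9 ye24 ze1) (ke xe9 ye24 ze2) (ke xe9 ye24 ze3) (ke xe12 ye6 ze37) (ke xe12 ye7 ze31) (ke xe15 ye25 ze26) (ke xe9 ye24 ze6) (ke xe9 ye24 ze7) (ke xe17 ye11 ze2) (ke xe9 ye24 ze9) (ke xe9 ye24 ze10) (ke xe9 ye24 ze11) (ke xe11 ye13 ze38) (ke xe12 ye6 ze35) (ke xe9 ye24 ze13) (ke xe16 ye5 ze28) (ke xe11 ye16 ze34)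 (ke xe9 ye17 ze7) (ke xe16 ye5 ze10) (ke xe9 ye24 ze17) (ke xe12 ye5 ze11) (ke xe10 ye13 ze17) (ke xe9 ye24 ze19) (ke xe16 ye6 ze0) (ke xe9 ye17 ze11) (ke xe17 ye11 ze18) (ke xe16 ye6 ze23) (ke xe9 ye24 ze22) (ke xe9 ye24 ze23) (ke xe9 ye24 ze24) (ke xe14 ye12 ze8) (ke xe9 ye24 ze26) (ke xe14 ye12 ze7) (ke xe9 ye17 ze17) (ke xe17 ye11 ze25) (ke xe10 ye13 ze39) (ke xe9 ye24 ze30) (ke xe17 ye11 ze27) (ke xe9 ye17 ze20) (ke xe14 ye2 ze39)) (@D3.rec (fun _ => Pt) (ke xe11 ye0 ze11) (ke xe9 ye17 ze22) (ke xe17 ye11 ze30) (ke xe14 ye15 ze27) (ke xe14 ye2 ze27) (ke xe9 ye17 ze25) (ke xe17 ye11 ze35) (ke xe9 ye17 ze27) (ke xe17 ye11 ze39) (ke xe17 ye12 ze0) (ke xe16 ye0 ze17) (ke xe9 ye24 ze34) (ke xe9 ye24 ze35) (ke xe9 ye24 ze36) (ke xe9 ye24 ze37) (ke xe9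 ye24 ze38) (ke xe9 ye24 ze39) (ke xe9 ye25 ze0) (ke xe12 ye6 ze33) (ke xe12 ye7 ze6) (ke xe15 ye25 ze3) (ke xe9 ye25 ze3) (ke xe9 ye24 ze8) (ke xe17 ye11 ze0) (ke xe9 ye25 ze4) (ke xe9 ye25 ze5) (ke xe9 ye25 ze6) (ke xe11 ye18 ze28) (ke xe12 ye6 ze31) (ke xe9 ye25 ze8) (ke xe16 ye5 ze19) (ke xe11 ye11 ze28) (ke xe9 ye18 ze1) (ke xe16 ye5 ze8) (ke xe9 ye25 ze12) (ke xe10 ye17 ze24) (ke xe10 ye17 ze31) (ke xe10 ye17 ze32) (ke xe10 ye17 ze35) (ke xe17 ye12 ze26)) (@D3.rec (fun _ => Pt) (ke xe10 ye17 ze38) (ke xe13 ye22 ze3) (ke xe9 ye18 ze11) (ke xe13 ye22 ze1) (ke xe17 ye12 ze30) (ke xe13 ye23 ze5) (ke xe9 ye18 ze13) (ke xe17 ye12 ze34) (ke xe9 ye18 ze15) (ke xe17 ye12 ze38) (ke xe17 ye12 ze39) (ke xe14 ye14 ze32) (ke xe10 ye18 ze10) (ke xe10 ye18 ze11)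 (ke xe10 ye18 ze12) (ke xe10 ye18 ze30) (ke xe10 ye18 ze31) (ke xe10 ye19 ze14) (ke xe10 ye19 ze21) (ke xe10 ye19 ze22) (ke xe10 ye19 ze25) (ke xe17 ye13 ze11) (ke xe10 ye19 ze27) (ke xe13 ye22 ze26) (ke xe9 ye18 ze30) (ke xe17 ye13 ze15) (ke xe13 ye22 ze23) (ke xe13 ye24 ze14) (ke xe9 ye18 ze32) (ke xe17 ye13 ze19) (ke xe9 ye18 ze34) (ke xe17 ye13 ze23) (ke xe17 ye13 ze24) (ke xe14 ye15 ze26) (ke xe10 ye19 ze39) (ke xe10 ye20 ze0) (ke xe10 ye20 ze1) (ke xe10 ye20 ze19) (ke xe10 ye20 ze20) (ke xe16 ye17 ze20)) (@D3.rec (fun _ => Pt) (ke xe9 ye25 ze14) (ke xe16 ye22 ze2) (ke xe9 ye19 ze5) (ke xe16 ye23 ze2) (ke xe17 ye13 ze37) (ke xe13 ye22 ze5) (ke xe9 ye19 ze7) (ke xe17 ye14 ze2) (ke xe9 ye19 ze9) (ke xe17 ye14 ze6) (ke xe17 ye0 ze31) (ke xe17 ye14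 ze7) (ke xe9 ye25 ze19) (ke xe9 ye25 ze20) (ke xe9 ye25 ze22) (ke xe9 ye19 ze16) (ke xe9 ye19 ze15) (ke xe17 ye14 ze14) (ke xe16 ye9 ze17) (ke xe17 ye14 ze13) (ke xe9 ye19 ze18) (ke xe9 ye19 ze19) (ke xe17 ye14 ze20) (ke xe17 ye14 ze21) (ke xe17 ye14 ze22) (ke xe9 ye19 ze22) (ke xe9 ye19 ze23) (ke xe9 ye19 ze25) (ke xe17 ye14 ze29) (ke xe17 ye14 ze30) (ke xe17 ye14 ze39) (ke xe14 ye6 ze39) (ke xe14 ye6 ze35) (ke xe13 ye25 ze3) (ke xe13 ye25 ze2) (ke xe17 ye14 ze32) (ke xe9 ye25 ze33) (ke xe9 ye25 ze34) (ke xe9 ye25 ze35) (ke xe9 ye25 ze36)) (@D3.rec (fun _ => Pt) (ke xe9 ye25 ze37) (ke xe9 ye25 ze38) (ke xe9 ye25 ze39) (ke xe10 ye0 ze0) (ke xe10 ye0 ze2) (ke xe10 ye0 ze3) (ke xe10 ye0 ze4) (ke xe10 ye0 ze6) (ke xe16 ye18 ze8) (ke xe10 ye0 ze8) (ke xe16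 ye22 ze4) (ke xe9 ye19 ze38) (ke xe17 ye15 ze16) (ke xe16 ye23 ze30) (ke xe13 ye22 ze27) (ke xe9 ye20 ze0) (ke xe17 ye15 ze21) (ke xe9 ye20 ze2) (ke xe17 ye15 ze25) (ke xe16 ye24 ze39) (ke xe17 ye14 ze11) (ke xe10 ye0 ze13) (ke xe10 ye0 ze14) (ke xe10 ye0 ze16) (ke xe9 ye20 ze9) (ke xe9 ye20 ze8) (ke xe17 ye15 ze31) (ke xe16 ye11 ze29) (ke xe17 ye15 ze30) (ke xe9 ye20 ze11) (ke xe9 ye20 ze12) (ke xe17 ye15 ze37) (ke xe17 ye15 ze38) (ke xe17 ye15 ze39) (ke xe9 ye20 ze15) (ke xe9 ye20 ze16) (ke xe9 ye20 ze18) (ke xe17 ye16 ze6) (ke xe17 ye16 ze7) (ke xe17 ye16 ze16)) (@D3.rec (fun _ => Pt) (ke xe14 ye6 ze8) (ke xe14 ye6 ze3) (ke xe13 ye23 ze34) (ke xe13 ye23 ze33) (ke xe17 ye16 ze9) (ke xe10 ye0 ze27) (ke xe10 ye0 ze28) (ke xe10 ye0 ze29) (ke xe10 ye0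 ze30) (ke xe10 ye0 ze31) (ke xe10 ye0 ze32) (ke xe10 ye0 ze33) (ke xe10 ye0 ze34) (ke xe10 ye0 ze36) (ke xe10 ye0 ze37) (ke xe10 ye0 ze38) (ke xe10 ye1 ze0) (ke xe12 ye15 ze28) (ke xe10 ye1 ze1) (ke xe17 ye9 ze38) (ke xe17 ye16 ze32) (ke xe9 ye20 ze29) (ke xe17 ye16 ze34) (ke xe17 ye16 ze35) (ke xe9 ye20 ze31) (ke xe9 ye20 ze32) (ke xe17 ye16 ze37) (ke xe10 ye1 ze7) (ke xe10 ye1 ze8) (ke xe9 ye20 ze35) (ke xe17 ye17 ze1) (ke xe9 ye20 ze37) (ke xe9 ye20 ze38) (ke xe17 ye17 ze4) (ke xe17 ye17 ze5) (ke xe17 ye17 ze6) (ke xe9 ye21 ze1) (ke xe9 ye21 ze2) (ke xe17 ye17 ze11) (ke xe17 ye17 ze12))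
def f_e_14 : D2 → D3 → Pt := @D2.rec (fun _ => D3 → Pt) (@D3.rec (fun _ => Pt) (ke xe10 ye1 ze19) (ke xe10 ye1 ze20) (ke xe10 ye1 ze21) (ke xe10 ye1 ze22) (ke xe10 ye1 ze25) (ke xe10 ye1 ze26) (ke xe10 ye1 ze27) (ke xe9 ye21 ze13) (ke xe9 ye21 ze14) (ke xe17 ye17 ze28) (ke xe9 ye21 ze17) (ke xe9 ye21 ze18) (ke xe17 ye17 ze23) (ke xe16 ye14 ze1) (ke xe17 ye17 ze24) (ke xe17 ye17 ze25) (ke xe17 ye18 ze1) (ke xe16 ye13 ze39) (ke xe17 ye18 ze3) (ke xe9 ye21 ze16) (ke xe17 ye18 ze4) (ke xe17 ye17 ze30) (ke xe17 ye17 ze31) (ke xe17 ye17 ze32) (ke xe10 ye2 ze6) (ke xe10 ye2 ze8) (ke xe10 ye2 ze9) (ke xe10 ye2 ze10) (ke xe12 ye17 ze6) (ke xe10 ye2 ze11) (ke xe17 ye11 ze12) (ke xe17 ye18 ze14) (ke xe9 ye21 ze24) (ke xe17 ye18 ze17) (ke xe17 ye18 ze16) (ke xe9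 ye21 ze26) (ke xe9 ye21 ze27) (ke xe17 ye18 ze19) (ke xe10 ye2 ze17) (ke xe10 ye2 ze18)) (@D3.rec (fun _ => Pt) (ke xe9 ye21 ze30) (ke xe17 ye18 ze23) (ke xe9 ye21 ze33) (ke xe9 ye21 ze32) (ke xe17 ye18 ze27) (ke xe17 ye18 ze28) (ke xe17 ye18 ze26) (ke xe9 ye21 ze36) (ke xe9 ye21 ze37) (ke xe17 ye18 ze33) (ke xe17 ye18 ze34) (ke xe10 ye2 ze29) (ke xe10 ye2 ze30) (ke xe10 ye2 ze31) (ke xe10 ye2 ze32) (ke xe10 ye2 ze35) (ke xe10 ye2 ze36) (ke xe10 ye2 ze37) (ke xe9 ye22 ze8) (ke xe9 ye22 ze9) (ke xe17 ye19 ze10) (ke xe9 ye22 ze12) (ke xe9 ye22 ze13) (ke xe17 ye19 ze5) (ke xe17 ye19 ze6) (ke xe16 ye15 ze37) (ke xe17 ye19 ze7) (ke xe16 ye15 ze35) (ke xe9 ye22 ze11) (ke xe17 ye19 ze22) (ke xe17 ye19 ze12) (ke xe17 ye19 ze13) (ke xe17 ye19 ze14) (ke xe10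 ye3 ze13) (ke xe10 ye3 ze14) (ke xe10 ye3 ze15) (ke xe10 ye3 ze16) (ke xe12 ye4 ze31) (ke xe13 ye19 ze29) (ke xe9 ye22 ze19)) (@D3.rec (fun _ => Pt) (ke xe15 ye23 ze8) (ke xe17 ye19 ze31) (ke xe9 ye22 ze22) (ke xe13 ye15 ze35) (ke xe17 ye12 ze20) (ke xe11 ye11 ze27) (ke xe11 ye11 ze29) (ke xe9 ye22 ze25) (ke xe16 ye6 ze32) (ke xe17 ye19 ze38) (ke xe13 ye19 ze24) (ke xe9 ye22 ze27) (ke xe9 ye22 ze28) (ke xe17 ye20 ze2) (ke xe17 ye20 ze4) (ke xe17 ye20 ze5) (ke xe17 ye20 ze6) (ke xe9 ye22 ze31) (ke xe9 ye22 ze32) (ke xe14 ye23 ze10) (ke xe17 ye20 ze11) (ke xe11 ye19 ze19) (ke xe11 ye19 ze21) (ke xe11 ye11 ze33) (ke xe11 ye11 ze34) (ke xe11 ye11 ze35) (ke xe12 ye5 ze20) (ke xe13 ye21 ze4) (ke xe9 ye22 ze37) (ke xe17 ye20 ze19) (ke xe15 ye24 ze3) (ke xe9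 ye22 ze39) (ke xe17 ye11 ze8) (ke xe13 ye16 ze16) (ke xe11 ye13 ze30) (ke xe11 ye16 ze35) (ke xe9 ye23 ze3) (ke xe17 ye20 ze26) (ke xe16 ye7 ze4) (ke xe13 ye20 ze39)) (@D3.rec (fun _ => Pt) (ke xe9 ye23 ze5) (ke xe9 ye23 ze6) (ke xe17 ye20 ze32) (ke xe17 ye20 ze33) (ke xe17 ye20 ze30) (ke xe17 ye20 ze34) (ke xe9 ye23 ze9) (ke xe9 ye23 ze10) (ke xe17 ye20 ze39) (ke xe14 ye20 ze26) (ke xe11 ye16 ze39) (ke xe11 ye17 ze0) (ke xe11 ye17 ze1) (ke xe11 ye20 ze38) (ke xe11 ye21 ze0) (ke xe9 ye23 ze13) (ke xe17 ye21 ze6) (ke xe9 ye23 ze15) (ke xe17 ye21 ze7) (ke xe16 ye22 ze9) (ke xe16 ye22 ze13) (ke xe14 ye13 ze28) (ke xe17 ye10 ze0) (ke xe9 ye23 ze24) (ke xe17 ye21 ze8) (ke xe9 ye23 ze28) (ke xe14 ye13 ze34) (ke xe10 ye12 ze4) (ke xe9 ye23 ze32) (ke xe9 ye23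 ze36) (ke xe17 ye10 ze32) (ke xe17 ye10 ze33) (ke xe17 ye10 ze35) (ke xe12 ye0 ze5) (ke xe17 ye11 ze3) (ke xe17 ye11 ze4) (ke xe17 ye11 ze5) (ke xe17 ye11 ze7) (ke xe16 ye5 ze11) (ke xe17 ye11 ze11)) (@D3.rec (fun _ => Pt) (ke xe14 ye14 ze0) (ke xe17 ye11 ze14) (ke xe9 ye24 ze21) (ke xe17 ye21 ze10) (ke xe9 ye24 ze25) (ke xe14 ye14 ze6) (ke xe10 ye12 ze11) (ke xe9 ye24 ze29) (ke xe9 ye24 ze33) (ke xe17 ye12 ze6) (ke xe17 ye12 ze7) (ke xe17 ye12 ze9) (ke xe11 ye25 ze10) (ke xe17 ye12 ze15) (ke xe17 ye12 ze16) (ke xe17 ye12 ze17) (ke xe17 ye12 ze19) (ke xe16 ye5 ze9) (ke xe17 ye12 ze23) (ke xe16 ye17 ze21) (ke xe9 ye25 ze16) (ke xe9 ye25 ze17) (ke xe9 ye25 ze18) (ke xe17 ye21 ze12) (ke xe17 ye21 ze13) (ke xe10 ye11 ze13) (ke xe12 ye12 ze2) (ke xe11 ye6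 ze0) (ke xe9 ye25 ze30) (ke xe9 ye25 ze31) (ke xe9 ye25 ze32) (ke xe17 ye12 ze10) (ke xe12 ye6 ze26) (ke xe17 ye15 ze9) (ke xe10 ye4 ze17) (ke xe17 ye15 ze10) (ke xe12 ye6 ze29) (ke xe15 ye24 ze0) (ke xe17 ye15 ze11) (ke xe17 ye15 ze12)) (@D3.rec (fun _ => Pt) (ke xe16 ye18 ze9) (ke xe10 ye0 ze10) (ke xe10 ye0 ze11) (ke xe10 ye0 ze12) (ke xe17 ye21 ze16) (ke xe17 ye21 ze17) (ke xe10 ye11 ze15) (ke xe12 ye13 ze39) (ke xe11 ye6 ze1) (ke xe10 ye0 ze24) (ke xe10 ye0 ze25) (ke xe10 ye0 ze26) (ke xe17 ye10 ze36) (ke xe12 ye6 ze17) (ke xe17 ye16 ze26) (ke xe10 ye5 ze27) (ke xe17 ye16 ze27) (ke xe12 ye6 ze20) (ke xe15 ye24 ze35) (ke xe17 ye16 ze28) (ke xe17 ye16 ze29) (ke xe10 ye1 ze3) (ke xe10 ye1 ze6) (ke xe17 ye17 ze0) (ke xe10 ye1 ze11) (ke xe10 ye1 ze15)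 (ke xe10 ye1 ze16) (ke xe10 ye1 ze17) (ke xe10 ye1 ze18) (ke xe15 ye7 ze26) (ke xe17 ye21 ze20) (ke xe17 ye21 ze21) (ke xe17 ye17 ze18) (ke xe10 ye1 ze24) (ke xe17 ye21 ze22) (ke xe17 ye21 ze23) (ke xe17 ye17 ze19) (ke xe17 ye17 ze20) (ke xe17 ye17 ze21) (ke xe17 ye17 ze22)) (@D3.rec (fun _ => Pt) (ke xe10 ye21 ze24) (ke xe10 ye1 ze35) (ke xe10 ye1 ze36) (ke xe13 ye25 ze1) (ke xe10 ye1 ze37) (ke xe10 ye2 ze2) (ke xe10 ye2 ze3) (ke xe10 ye2 ze4) (ke xe13 ye25 ze0) (ke xe10 ye2 ze5) (ke xe17 ye19 ze0) (ke xe17 ye21 ze25) (ke xe17 ye18 ze10) (ke xe14 ye10 ze0) (ke xe17 ye18 ze11) (ke xe10 ye2 ze13) (ke xe10 ye2 ze16) (ke xe17 ye18 ze22) (ke xe10 ye2 ze21) (ke xe10 ye2 ze25) (ke xe10 ye2 ze26) (ke xe10 ye2 ze27) (ke xe10 ye2 ze28) (ke xe17 ye21 ze29) (ke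 xe15 ye1 ze36) (ke xe10 ye2 ze34) (ke xe17 ye21 ze30) (ke xe17 ye21 ze31) (ke xe17 ye19 ze1) (ke xe17 ye19 ze2) (ke xe17 ye19 ze3) (ke xe17 ye19 ze4) (ke xe10 ye25 ze23) (ke xe10 ye3 ze5) (ke xe10 ye3 ze6) (ke xe13 ye23 ze32) (ke xe10 ye3 ze7) (ke xe10 ye3 ze10) (ke xe10 ye3 ze11) (ke xe13 ye23 ze31)) (@D3.rec (fun _ => Pt) (ke xe17 ye19 ze28) (ke xe14 ye8 ze33) (ke xe17 ye19 ze29) (ke xe10 ye3 ze27) (ke xe10 ye17 ze39) (ke xe10 ye3 ze34) (ke xe10 ye3 ze35) (ke xe10 ye3 ze36) (ke xe10 ye3 ze33) (ke xe17 ye21 ze36) (ke xe10 ye4 ze3) (ke xe10 ye4 ze5) (ke xe17 ye21 ze37) (ke xe17 ye21 ze39) (ke xe17 ye22 ze0) (ke xe10 ye4 ze4) (ke xe17 ye21 ze5) (ke xe11 ye17 ze3) (ke xe15 ye1 ze33) (ke xe10 ye4 ze12) (ke xe16 ye9 ze0) (ke xe16 ye3 ze14) (ke xe10 ye4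 ze15) (ke xe17 ye22 ze3) (ke xe10 ye4 ze18) (ke xe15 ye7 ze23) (ke xe17 ye22 ze4) (ke xe17 ye22 ze5) (ke xe10 ye4 ze20) (ke xe17 ye22 ze7) (ke xe10 ye4 ze22) (ke xe17 ye22 ze8) (ke xe17 ye22 ze9) (ke xe10 ye4 ze26) (ke xe15 ye6 ze28) (ke xe10 ye4 ze30) (ke xe15 ye0 ze34) (ke xe10 ye5 ze2) (ke xe10 ye19 ze28) (ke xe10 ye5 ze8)) (@D3.rec (fun _ => Pt) (ke xe10 ye5 ze9) (ke xe17 ye22 ze10) (ke xe10 ye5 ze15) (ke xe10 ye5 ze17) (ke xe17 ye22 ze11) (ke xe17 ye22 ze13) (ke xe17 ye22 ze14) (ke xe10 ye5 ze16) (ke xe17 ye20 ze17) (ke xe11 ye11 ze37) (ke xe10 ye5 ze23) (ke xe16 ye8 ze16) (ke xe16 ye3 ze9) (ke xe10 ye5 ze25) (ke xe17 ye22 ze17) (ke xe10 ye5 ze28) (ke xe17 ye22 ze18) (ke xe10 ye5 ze29) (ke xe17 ye22 ze20) (ke xe10 ye5 ze31) (ke xe17 ye22 ze21)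 (ke xe11 ye10 ze11) (ke xe10 ye10 ze14) (ke xe14 ye8 ze24) (ke xe14 ye8 ze23) (ke xe10 ye21 ze22) (ke xe14 ye9 ze3) (ke xe10 ye6 ze26) (ke xe10 ye6 ze20) (ke xe11 ye24 ze37) (ke xe15 ye23 ze5) (ke xe17 ye22 ze23) (ke xe15 ye23 ze3) (ke xe14 ye7 ze1) (ke xe16 ye0 ze5) (ke xe16 ye0 ze6) (ke xe10 ye7 ze13) (ke xe13 ye0 ze36) (ke xe16 ye21 ze24) (ke xe10 ye7 ze11)) (@D3.rec (fun _ => Pt) (ke xe16 ye21 ze27) (ke xe10 ye7 ze8) (ke xe10 ye7 ze10) (ke xe14 ye8 ze26) (ke xe10 ye7 ze6) (ke xe10 ye10 ze19) (ke xe10 ye7 ze26) (ke xe10 ye7 ze28) (ke xe10 ye7 ze17) (ke xe10 ye11 ze3) (ke xe13 ye16 ze20) (ke xe17 ye22 ze28) (ke xe13 ye16 ze3) (ke xe17 ye6 ze14) (ke xe10 ye7 ze27) (ke xe17 ye2 ze4) (ke xe17 ye22 ze27) (ke xe14 ye11 ze17) (ke xe10 ye7 ze31) (ke xe15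 ye11 ze38) (ke xe10 ye7 ze34) (ke xe11 ye23 ze33) (ke xe10 ye7 ze36) (ke xe10 ye7 ze39) (ke xe10 ye8 ze0) (ke xe10 ye8 ze1) (ke xe15 ye24 ze1) (ke xe15 ye25 ze0) (ke xe13 ye16 ze2) (ke xe11 ye15 ze23) (ke xe10 ye10 ze35) (ke xe14 ye9 ze32) (ke xe14 ye9 ze31) (ke xe10 ye25 ze24) (ke xe14 ye10 ze11) (ke xe10 ye8 ze28) (ke xe10 ye8 ze22) (ke xe15 ye20 ze18) (ke xe17 ye22 ze34) (ke xe15 ye20 ze16)) (@D3.rec (fun _ => Pt) (ke xe14 ye6 ze13) (ke xe16 ye0 ze23) (ke xe16 ye0 ze24) (ke xe10 ye9 ze17) (ke xe11 ye25 ze34) (ke xe13 ye1 ze23) (ke xe16 ye21 ze19) (ke xe10 ye9 ze15) (ke xe16 ye21 ze22) (ke xe10 ye9 ze12) (ke xe10 ye9 ze14) (ke xe14 ye9 ze34) (ke xe10 ye9 ze10) (ke xe10 ye11 ze0) (ke xe10 ye9 ze28) (ke xe10 ye9 ze31) (ke xe10 ye9 ze21) (ke xe10 ye10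 ze22) (ke xe13 ye15 ze39) (ke xe17 ye22 ze37) (ke xe17 ye6 ze24) (ke xe13 ye16 ze23) (ke xe10 ye9 ze29) (ke xe17 ye0 ze16) (ke xe14 ye11 ze4) (ke xe17 ye22 ze26) (ke xe10 ye9 ze33) (ke xe15 ye10 ze2) (ke xe10 ye9 ze35) (ke xe11 ye22 ze27) (ke xe10 ye9 ze37) (ke xe10 ye10 ze0) (ke xe10 ye10 ze1) (ke xe10 ye10 ze2) (ke xe15 ye24 ze36) (ke xe15 ye25 ze23) (ke xe13 ye16 ze24) (ke xe10 ye10 ze9) (ke xe11 ye10 ze10) (ke xe15 ye15 ze36)) (@D3.rec (fun _ => Pt) (ke xe17 ye22 ze33) (ke xe17 ye23 ze2) (ke xe10 ye10 ze13) (ke xe15 ye14 ze37) (ke xe14 ye10 ze24) (ke xe17 ye22 ze22) (ke xe10 ye10 ze21) (ke xe16 ye0 ze8) (ke xe12 ye25 ze33) (ke xe17 ye23 ze7) (ke xe12 ye25 ze29) (ke xe10 ye10 ze30) (ke xe11 ye15 ze24) (ke xe15 ye15 ze6) (ke xe17 ye23 ze8) (ke xe10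 ye10 ze33) (ke xe15 ye15 ze2) (ke xe14 ye9 ze17) (ke xe10 ye11 ze2) (ke xe16 ye0 ze26) (ke xe13 ye0 ze17) (ke xe17 ye23 ze11) (ke xe13 ye0 ze13) (ke xe16 ye6 ze28) (ke xe10 ye11 ze8) (ke xe17 ye23 ze12) (ke xe11 ye6 ze4) (ke xe16 ye6 ze30) (ke xe10 ye11 ze11) (ke xe17 ye23 ze14) (ke xe11 ye6 ze7) (ke xe16 ye9 ze18) (ke xe16 ye11 ze28) (ke xe13 ye4 ze39) (ke xe13 ye17 ze33) (ke xe13 ye19 ze17) (ke xe13 ye19 ze15) (ke xe10 ye11 ze29) (ke xe17 ye23 ze21) (ke xe17 ye6 ze38)) (@D3.rec (fun _ => Pt) (ke xe17 ye6 ze39) (ke xe14 ye20 ze6) (ke xe14 ye20 ze23) (ke xe14 ye20 ze3) (ke xe14 ye15 ze30) (ke xe13 ye5 ze0) (ke xe13 ye17 ze35) (ke xe13 ye20 ze32) (ke xe13 ye20 ze30) (ke xe10 ye11 ze37) (ke xe17 ye23 ze36) (ke xe17 ye7 ze3) (ke xe17 ye7 ze4) (ke xe14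 ye22 ze31) (ke xe14 ye23 ze7) (ke xe14 ye22 ze27) (ke xe14 ye14 ze36) (ke xe16 ye13 ze27) (ke xe17 ye24 ze7) (ke xe17 ye24 ze9) (ke xe10 ye12 ze7) (ke xe17 ye24 ze11) (ke xe16 ye15 ze23) (ke xe17 ye24 ze13) (ke xe17 ye24 ze15) (ke xe10 ye12 ze14) (ke xe17 ye24 ze17) (ke xe14 ye12 ze27) (ke xe14 ye12 ze28) (ke xe14 ye12 ze29) (ke xe17 ye10 ze1) (ke xe17 ye7 ze7) (ke xe17 ye7 ze8) (ke xe17 ye11 ze15) (ke xe17 ye7 ze10) (ke xe17 ye7 ze11) (ke xe14 ye12 ze36) (ke xe14 ye12 ze37) (ke xe17 ye24 ze26) (ke xe17 ye7 ze13)) (@D3.rec (fun _ => Pt) (ke xe10 ye12 ze36) (ke xe17 ye24 ze28) (ke xe17 ye7 ze17) (ke xe17 ye24 ze31) (ke xe17 ye7 ze19) (ke xe10 ye13 ze0) (ke xe17 ye24 ze33) (ke xe17 ye7 ze23) (ke xe10 ye13 ze4) (ke xe17 ye24 ze36) (ke xe16 ye9 ze3) (ke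 xe17 ye9 ze39) (ke xe10 ye13 ze9) (ke xe17 ye25 ze1) (ke xe17 ye10 ze10) (ke xe17 ye7 ze29) (ke xe17 ye7 ze30) (ke xe17 ye7 ze31) (ke xe10 ye13 ze14) (ke xe17 ye25 ze7) (ke xe16 ye8 ze18) (ke xe17 ye11 ze13) (ke xe10 ye13 ze19) (ke xe17 ye25 ze12) (ke xe17 ye11 ze24) (ke xe17 ye7 ze37) (ke xe17 ye7 ze38) (ke xe17 ye7 ze39) (ke xe14 ye3 ze21) (ke xe16 ye2 ze26) (ke xe11 ye6 ze32) (ke xe10 ye23 ze33) (ke xe17 ye10 ze12) (ke xe15 ye16 ze37) (ke xe14 ye3 ze26) (ke xe10 ye13 ze30) (ke xe10 ye13 ze31) (ke xe15 ye24 ze18) (ke xe15 ye24 ze11) (ke xe15 ye24 ze12)) (@D3.rec (fun _ => Pt) (ke xe14 ye4 ze0) (ke xe16 ye2 ze29) (ke xe11 ye7 ze1) (ke xe11 ye1 ze32) (ke xe17 ye11 ze26) (ke xe15 ye20 ze32) (ke xe14 ye4 ze5) (ke xe10 ye14 ze2) (ke xe10 ye14 ze3) (ke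 xe15 ye23 ze23) (ke xe15 ye23 ze16) (ke xe15 ye23 ze17) (ke xe14 ye14 ze12) (ke xe14 ye14 ze13) (ke xe17 ye25 ze36) (ke xe17 ye8 ze8) (ke xe17 ye8 ze9) (ke xe17 ye8 ze10) (ke xe18 ye0 ze4) (ke xe18 ye0 ze6) (ke xe10 ye14 ze12) (ke xe18 ye0 ze7) (ke xe17 ye8 ze14) (ke xe17 ye8 ze15) (ke xe17 ye8 ze16) (ke xe18 ye0 ze15) (ke xe18 ye0 ze17) (ke xe10 ye14 ze17) (ke xe17 ye8 ze23) (ke xe17 ye8 ze24) (ke xe17 ye8 ze25) (ke xe16 ye8 ze6) (ke xe13 ye22 ze11) (ke xe13 ye19 ze28) (ke xe17 ye14 ze19) (ke xe17 ye8 ze26) (ke xe14 ye12 ze16) (ke xe17 ye8 ze27) (ke xe18 ye0 ze29) (ke xe18 ye0 ze31)) (@D3.rec (fun _ => Pt) (ke xe10 ye14 ze29) (ke xe18 ye0 ze33) (ke xe17 ye8 ze32) (ke xe17 ye8 ze33) (ke xe14 ye21 ze28) (ke xe17 ye8 ze35) (ke xe18 ye1 ze2) (ke xe17 ye8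 ze37) (ke xe17 ye8 ze38) (ke xe10 ye14 ze34) (ke xe18 ye1 ze8) (ke xe17 ye9 ze1) (ke xe18 ye1 ze12) (ke xe10 ye14 ze36) (ke xe18 ye1 ze15) (ke xe10 ye14 ze38) (ke xe18 ye1 ze18) (ke xe18 ye1 ze19) (ke xe17 ye9 ze6) (ke xe17 ye9 ze7) (ke xe17 ye9 ze8) (ke xe14 ye20 ze25) (ke xe17 ye9 ze12) (ke xe17 ye9 ze13) (ke xe17 ye9 ze14) (ke xe16 ye8 ze31) (ke xe13 ye22 ze33) (ke xe13 ye21 ze3) (ke xe17 ye15 ze36) (ke xe17 ye9 ze15) (ke xe14 ye12 ze4) (ke xe17 ye9 ze16) (ke xe18 ye2 ze0) (ke xe18 ye2 ze2) (ke xe10 ye15 ze13) (ke xe18 ye2 ze4) (ke xe17 ye9 ze21) (ke xe17 ye9 ze22) (ke xe14 ye19 ze3) (ke xe17 ye9 ze24)) (@D3.rec (fun _ => Pt) (ke xe18 ye2 ze13) (ke xe17 ye9 ze26) (ke xe17 ye9 ze27) (ke xe10 ye15 ze18) (ke xe18 ye2 ze19) (ke xe17 ye9 ze30) (ke xe18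 ye2 ze23) (ke xe10 ye15 ze20) (ke xe18 ye2 ze26) (ke xe10 ye15 ze22) (ke xe18 ye2 ze29) (ke xe18 ye2 ze30) (ke xe17 ye9 ze35) (ke xe17 ye9 ze36) (ke xe17 ye9 ze37) (ke xe14 ye23 ze9) (ke xe11 ye7 ze12) (ke xe12 ye11 ze2) (ke xe12 ye2 ze22) (ke xe10 ye15 ze35) (ke xe10 ye15 ze36) (ke xe18 ye3 ze3) (ke xe15 ye24 ze15) (ke xe18 ye3 ze7) (ke xe10 ye15 ze37) (ke xe18 ye3 ze9) (ke xe11 ye7 ze20) (ke xe15 ye2 ze17) (ke xe18 ye3 ze12) (ke xe11 ye7 ze22) (ke xe11 ye7 ze23) (ke xe18 ye3 ze16) (ke xe10 ye16 ze2) (ke xe15 ye14 ze20) (ke xe18 ye3 ze18) (ke xe10 ye16 ze3) (ke xe18 ye3 ze20) (ke xe10 ye16 ze5) (ke xe18 ye3 ze22) (ke xe11 ye7 ze29)) (@D3.rec (fun _ => Pt) (ke xe11 ye7 ze30) (ke xe15 ye14 ze7) (ke xe11 ye7 ze32) (ke xe15 ye14 ze9) (ke xe10 ye16 ze8)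 (ke xe18 ye3 ze29) (ke xe16 ye11 ze15) (ke xe11 ye7 ze35) (ke xe16 ye14 ze11) (ke xe10 ye16 ze11) (ke xe18 ye3 ze33) (ke xe10 ye16 ze13) (ke xe18 ye3 ze35) (ke xe11 ye7 ze39) (ke xe11 ye8 ze0) (ke xe10 ye16 ze15) (ke xe18 ye4 ze0) (ke xe15 ye3 ze15) (ke xe10 ye16 ze17) (ke xe18 ye4 ze3) (ke xe18 ye4 ze4) (ke xe10 ye16 ze19) (ke xe10 ye16 ze20) (ke xe18 ye4 ze9) (ke xe18 ye4 ze10) (ke xe18 ye4 ze11) (ke xe11 ye8 ze7) (ke xe11 ye8 ze8) (ke xe11 ye8 ze9) (ke xe11 ye8 ze15) (ke xe12 ye11 ze18) (ke xe12 ye2 ze29) (ke xe10 ye16 ze33) (ke xe10 ye16 ze34) (ke xe18 ye4 ze18) (ke xe15 ye23 ze20) (ke xe18 ye4 ze22) (ke xe10 ye16 ze35) (ke xe18 ye4 ze24) (ke xe11 ye8 ze23)) (@D3.rec (fun _ => Pt) (ke xe15 ye8 ze6) (ke xe18 ye4 ze27) (ke xe11 ye8 ze25) (ke xe11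 ye8 ze26) (ke xe18 ye4 ze31) (ke xe10 ye17 ze0) (ke xe15 ye14 ze6) (ke xe18 ye4 ze33) (ke xe10 ye17 ze1) (ke xe18 ye4 ze35) (ke xe10 ye17 ze3) (ke xe18 ye4 ze37) (ke xe11 ye8 ze32) (ke xe11 ye8 ze33) (ke xe15 ye13 ze32) (ke xe11 ye8 ze35) (ke xe15 ye13 ze34) (ke xe10 ye17 ze6) (ke xe16 ye13 ze17) (ke xe18 ye5 ze4) (ke xe11 ye8 ze38) (ke xe16 ye16 ze7) (ke xe10 ye17 ze9) (ke xe18 ye5 ze8) (ke xe10 ye17 ze11) (ke xe18 ye5 ze10) (ke xe11 ye9 ze2) (ke xe11 ye9 ze3) (ke xe10 ye17 ze13) (ke xe18 ye5 ze15) (ke xe15 ye9 ze0) (ke xe10 ye17 ze15) (ke xe18 ye5 ze18) (ke xe18 ye5 ze19) (ke xe10 ye17 ze17) (ke xe10 ye17 ze18) (ke xe18 ye5 ze24) (ke xe18 ye5 ze25) (ke xe18 ye5 ze26) (ke xe11 ye9 ze10)) (@D3.rec (fun _ => Pt) (ke xe11 ye9 ze11) (ke xe11 ye9 ze12)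 (ke xe13 ye6 ze21) (ke xe14 ye15 ze38) (ke xe18 ye5 ze34) (ke xe13 ye6 ze18) (ke xe16 ye24 ze23) (ke xe10 ye17 ze30) (ke xe14 ye19 ze33) (ke xe18 ye5 ze38) (ke xe18 ye5 ze39) (ke xe17 ye12 ze24) (ke xe14 ye20 ze0) (ke xe18 ye6 ze7) (ke xe14 ye20 ze2) (ke xe18 ye6 ze10) (ke xe16 ye24 ze19) (ke xe18 ye6 ze13) (ke xe10 ye17 ze37) (ke xe18 ye6 ze15) (ke xe17 ye12 ze27) (ke xe14 ye19 ze24) (ke xe10 ye18 ze1) (ke xe12 ye11 ze19) (ke xe14 ye19 ze21) (ke xe10 ye18 ze3) (ke xe12 ye11 ze21) (ke xe18 ye6 ze20) (ke xe16 ye8 ze34) (ke xe10 ye18 ze5) (ke xe10 ye18 ze6) (ke xe18 ye6 ze26) (ke xe18 ye6 ze25) (ke xe14 ye19 ze8) (ke xe18 ye6 ze30) (ke xe10 ye18 ze8) (ke xe18 ye6 ze32) (ke xe14 ye24 ze5) (ke xe17 ye13 ze5) (ke xe17 ye13 ze6)) (@D3.rec (fun _ => Pt) (ke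 xe14 ye19 ze12) (ke xe18 ye6 ze38) (ke xe14 ye19 ze14) (ke xe14 ye12 ze3) (ke xe14 ye23 ze30) (ke xe18 ye7 ze6) (ke xe14 ye12 ze1) (ke xe14 ye23 ze15) (ke xe14 ye23 ze29) (ke xe18 ye7 ze13) (ke xe14 ye23 ze31) (ke xe14 ye23 ze25) (ke xe10 ye18 ze19) (ke xe18 ye7 ze16) (ke xe10 ye18 ze20) (ke xe18 ye7 ze19) (ke xe10 ye18 ze22) (ke xe18 ye7 ze21) (ke xe14 ye24 ze6) (ke xe14 ye24 ze7) (ke xe14 ye24 ze8) (ke xe17 ye18 ze39) (ke xe14 ye24 ze10) (ke xe14 ye12 ze2) (ke xe16 ye1 ze31) (ke xe14 ye15 ze21) (ke xe14 ye3 ze9) (ke xe10 ye18 ze29) (ke xe18 ye7 ze36) (ke xe17 ye13 ze7) (ke xe17 ye13 ze8) (ke xe14 ye22 ze30) (ke xe14 ye23 ze16) (ke xe18 ye8 ze1) (ke xe14 ye23 ze18) (ke xe14 ye23 ze19) (ke xe18 ye8 ze5) (ke xe10 ye18 ze35) (ke xe18 ye8 ze8) (ke xe18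 ye8 ze9)) (@D3.rec (fun _ => Pt) (ke xe14 ye22 ze34) (ke xe14 ye23 ze24) (ke xe14 ye23 ze26) (ke xe10 ye18 ze39) (ke xe18 ye8 ze16) (ke xe14 ye22 ze32) (ke xe14 ye22 ze28) (ke xe14 ye22 ze35) (ke xe18 ye8 ze25) (ke xe18 ye8 ze27) (ke xe10 ye19 ze2) (ke xe18 ye8 ze30) (ke xe18 ye8 ze31) (ke xe15 ye3 ze12) (ke xe10 ye19 ze4) (ke xe18 ye8 ze35) (ke xe18 ye8 ze36) (ke xe10 ye19 ze6) (ke xe10 ye19 ze7) (ke xe18 ye9 ze1) (ke xe18 ye9 ze2) (ke xe18 ye9 ze3) (ke xe14 ye22 ze21) (ke xe14 ye23 ze2) (ke xe14 ye23 ze3) (ke xe14 ye23 ze4) (ke xe18 ye9 ze9) (ke xe14 ye23 ze6) (ke xe14 ye15 ze4) (ke xe18 ye9 ze14) (ke xe13 ye6 ze26) (ke xe13 ye6 ze13) (ke xe14 ye22 ze17) (ke xe10 ye19 ze20) (ke xe18 ye9 ze19) (ke xe18 ye9 ze20) (ke xe17 ye13 ze9) (ke xe14 ye22 ze24)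 (ke xe18 ye9 ze27) (ke xe14 ye22 ze26)) (@D3.rec (fun _ => Pt) (ke xe18 ye9 ze30) (ke xe18 ye9 ze32) (ke xe10 ye19 ze26) (ke xe18 ye9 ze34) (ke xe17 ye13 ze12) (ke xe14 ye22 ze8) (ke xe10 ye19 ze30) (ke xe12 ye11 ze3) (ke xe14 ye22 ze5) (ke xe10 ye19 ze32) (ke xe12 ye11 ze5) (ke xe18 ye9 ze39) (ke xe16 ye8 ze9) (ke xe10 ye19 ze34) (ke xe10 ye19 ze35) (ke xe18 ye10 ze5) (ke xe18 ye10 ze4) (ke xe14 ye21 ze32) (ke xe18 ye10 ze9) (ke xe10 ye19 ze37) (ke xe18 ye10 ze11) (ke xe14 ye21 ze22) (ke xe17 ye13 ze30) (ke xe17 ye13 ze31) (ke xe14 ye21 ze37) (ke xe18 ye10 ze17) (ke xe14 ye21 ze39) (ke xe14 ye12 ze15) (ke xe14 ye21 ze6) (ke xe18 ye10 ze25) (ke xe14 ye20 ze31) (ke xe14 ye12 ze13) (ke xe14 ye21 ze5) (ke xe18 ye10 ze32) (ke xe14 ye21 ze0) (ke xe14 ye21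 ze7) (ke xe10 ye20 ze8) (ke xe18 ye7 ze18) (ke xe10 ye20 ze9) (ke xe18 ye10 ze36)) (@D3.rec (fun _ => Pt) (ke xe10 ye20 ze11) (ke xe18 ye10 ze38) (ke xe14 ye21 ze23) (ke xe14 ye21 ze24) (ke xe14 ye21 ze25) (ke xe17 ye17 ze14) (ke xe14 ye21 ze27) (ke xe14 ye12 ze14) (ke xe16 ye1 ze22) (ke xe14 ye16 ze15) (ke xe14 ye2 ze19) (ke xe10 ye20 ze18) (ke xe18 ye11 ze13) (ke xe17 ye13 ze32) (ke xe17 ye13 ze33) (ke xe14 ye20 ze7) (ke xe14 ye20 ze32) (ke xe18 ye11 ze18) (ke xe14 ye20 ze34) (ke xe14 ye20 ze35) (ke xe18 ye11 ze22) (ke xe10 ye20 ze24) (ke xe18 ye11 ze25) (ke xe18 ye11 ze26) (ke xe14 ye21 ze1) (ke xe14 ye20 ze11) (ke xe14 ye21 ze2) (ke xe10 ye20 ze28) (ke xe18 ye11 ze33) (ke xe14 ye20 ze8) (ke xe14 ye20 ze4) (ke xe14 ye20 ze10) (ke xe18 ye12 ze2) (ke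 xe18 ye12 ze4) (ke xe10 ye20 ze31) (ke xe18 ye12 ze6) (ke xe15 ye8 ze37) (ke xe10 ye20 ze33) (ke xe18 ye12 ze9) (ke xe18 ye12 ze10)) (@D3.rec (fun _ => Pt) (ke xe10 ye20 ze35) (ke xe10 ye20 ze36) (ke xe18 ye12 ze15) (ke xe18 ye12 ze16) (ke xe18 ye12 ze17) (ke xe14 ye19 ze37) (ke xe14 ye20 ze18) (ke xe14 ye20 ze19) (ke xe14 ye20 ze20) (ke xe18 ye12 ze23) (ke xe14 ye20 ze22) (ke xe17 ye23 ze19) (ke xe16 ye13 ze29) (ke xe12 ye15 ze23) (ke xe11 ye9 ze14) (ke xe11 ye9 ze15) (ke xe11 ye9 ze16) (ke xe10 ye21 ze8) (ke xe12 ye16 ze4) (ke xe18 ye12 ze30) (ke xe17 ye1 ze6) (ke xe18 ye12 ze31) (ke xe16 ye17 ze18) (ke xe11 ye9 ze22) (ke xe11 ye9 ze23) (ke xe11 ye9 ze24) (ke xe11 ye9 ze25) (ke xe11 ye9 ze26) (ke xe11 ye9 ze27) (ke xe18 ye13 ze2) (ke xe11 ye9 ze29)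 (ke xe11 ye9 ze30) (ke xe11 ye9 ze31) (ke xe11 ye9 ze32) (ke xe16 ye4 ze4) (ke xe18 ye13 ze7) (ke xe18 ye13 ze10) (ke xe10 ye21 ze17) (ke xe18 ye13 ze12) (ke xe11 ye9 ze37)) (@D3.rec (fun _ => Pt) (ke xe18 ye13 ze16) (ke xe11 ye10 ze4) (ke xe11 ye10 ze5) (ke xe11 ye10 ze6) (ke xe10 ye21 ze23) (ke xe16 ye19 ze35) (ke xe18 ye13 ze20) (ke xe16 ye20 ze30) (ke xe11 ye10 ze17) (ke xe11 ye10 ze18) (ke xe11 ye10 ze19) (ke xe18 ye13 ze27) (ke xe10 ye21 ze32) (ke xe10 ye21 ze34) (ke xe15 ye15 ze9) (ke xe15 ye22 ze27) (ke xe12 ye3 ze8) (ke xe16 ye16 ze34) (ke xe15 ye22 ze25) (ke xe16 ye20 ze6) (ke xe11 ye10 ze26) (ke xe11 ye10 ze27) (ke xe18 ye13 ze35) (ke xe11 ye10 ze29) (ke xe18 ye14 ze0) (ke xe10 ye21 ze38) (ke xe15 ye12 ze5) (ke xe18 ye14 ze2) (ke xe15 ye1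 ze5) (ke xe18 ye14 ze4) (ke xe10 ye22 ze3) (ke xe18 ye14 ze6) (ke xe11 ye10 ze36) (ke xe18 ye14 ze10) (ke xe18 ye14 ze13) (ke xe10 ye22 ze5) (ke xe18 ye14 ze16) (ke xe10 ye22 ze7) (ke xe15 ye12 ze19) (ke xe11 ye11 ze1))
def f_e_15 : D2 → D3 → Pt := @D2.rec (fun _ => D3 → Pt) (@D3.rec (fun _ => Pt) (ke xe11 ye11 ze2) (ke xe12 ye9 ze27) (ke xe16 ye6 ze34) (ke xe12 ye9 ze28) (ke xe17 ye10 ze15) (ke xe10 ye22 ze15) (ke xe12 ye9 ze29) (ke xe11 ye0 ze13) (ke xe11 ye0 ze20) (ke xe10 ye22 ze21) (ke xe17 ye20 ze29) (ke xe11 ye6 ze6) (ke xe10 ye22 ze26) (ke xe10 ye22 ze27) (ke xe10 ye22 ze28) (ke xe10 ye22 ze29) (ke xe18 ye14 ze22) (ke xe12 ye25 ze7) (ke xe18 ye14 ze23) (ke xe12 ye3 ze9) (ke xe18 ye14 ze24) (ke xe12 ye21 ze29) (ke xe11 ye21 ze17) (ke xe11 ye21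 ze14) (ke xe17 ye23 ze15) (ke xe11 ye18 ze16) (ke xe15 ye21 ze26) (ke xe11 ye11 ze25) (ke xe12 ye6 ze9) (ke xe11 ye11 ze26) (ke xe11 ye11 ze36) (ke xe12 ye19 ze28) (ke xe11 ye11 ze38) (ke xe12 ye23 ze34) (ke xe14 ye7 ze36) (ke xe11 ye12 ze2) (ke xe11 ye12 ze3) (ke xe11 ye12 ze4) (ke xe18 ye15 ze1) (ke xe11 ye12 ze6)) (@D3.rec (fun _ => Pt) (ke xe18 ye15 ze4) (ke xe11 ye12 ze8) (ke xe11 ye12 ze9) (ke xe16 ye15 ze20) (ke xe10 ye23 ze4) (ke xe14 ye25 ze28) (ke xe15 ye8 ze9) (ke xe11 ye12 ze11) (ke xe18 ye15 ze14) (ke xe11 ye12 ze13) (ke xe11 ye1 ze7) (ke xe10 ye23 ze8) (ke xe18 ye15 ze18) (ke xe18 ye15 ze19) (ke xe11 ye12 ze18) (ke xe11 ye1 ze10) (ke xe10 ye23 ze11) (ke xe18 ye15 ze22) (ke xe18 ye15 ze26) (ke xe10 ye23 ze13) (ke xe18 ye15 ze29) (ke xe18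 ye15 ze30) (ke xe10 ye23 ze14) (ke xe18 ye15 ze34) (ke xe10 ye23 ze16) (ke xe18 ye15 ze37) (ke xe10 ye23 ze18) (ke xe18 ye16 ze1) (ke xe18 ye16 ze2) (ke xe18 ye16 ze3) (ke xe11 ye12 ze31) (ke xe11 ye12 ze32) (ke xe11 ye12 ze33) (ke xe14 ye7 ze18) (ke xe11 ye12 ze35) (ke xe11 ye12 ze36) (ke xe14 ye6 ze24) (ke xe13 ye1 ze35) (ke xe11 ye12 ze38) (ke xe11 ye20 ze37)) (@D3.rec (fun _ => Pt) (ke xe10 ye23 ze25) (ke xe16 ye21 ze26) (ke xe11 ye13 ze0) (ke xe17 ye21 ze3) (ke xe16 ye20 ze27) (ke xe10 ye23 ze29) (ke xe13 ye14 ze8) (ke xe16 ye21 ze25) (ke xe11 ye13 ze3) (ke xe11 ye13 ze4) (ke xe17 ye25 ze20) (ke xe11 ye10 ze20) (ke xe11 ye13 ze5) (ke xe11 ye2 ze1) (ke xe15 ye8 ze3) (ke xe11 ye13 ze6) (ke xe11 ye13 ze7) (ke xe14 ye16 ze27) (ke xe11 ye13 ze8) (ke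 xe10 ye23 ze37) (ke xe13 ye17 ze8) (ke xe15 ye6 ze39) (ke xe11 ye13 ze10) (ke xe11 ye13 ze11) (ke xe11 ye13 ze12) (ke xe10 ye24 ze1) (ke xe18 ye16 ze29) (ke xe15 ye8 ze14) (ke xe11 ye13 ze14) (ke xe11 ye13 ze15) (ke xe11 ye13 ze16) (ke xe18 ye16 ze34) (ke xe18 ye16 ze35) (ke xe11 ye13 ze19) (ke xe10 ye24 ze7) (ke xe18 ye16 ze37) (ke xe18 ye16 ze38) (ke xe11 ye13 ze22) (ke xe18 ye17 ze1) (ke xe10 ye24 ze10)) (@D3.rec (fun _ => Pt) (ke xe18 ye17 ze5) (ke xe18 ye17 ze6) (ke xe10 ye24 ze12) (ke xe10 ye24 ze13) (ke xe16 ye4 ze14) (ke xe18 ye17 ze10) (ke xe18 ye17 ze11) (ke xe11 ye13 ze31) (ke xe18 ye17 ze15) (ke xe10 ye24 ze17) (ke xe18 ye17 ze18) (ke xe15 ye9 ze29) (ke xe14 ye21 ze13) (ke xe10 ye24 ze19) (ke xe17 ye3 ze7) (ke xe14 ye17 ze17) (ke xe16 ye4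 ze23) (ke xe13 ye18 ze20) (ke xe11 ye13 ze39) (ke xe18 ye17 ze25) (ke xe10 ye24 ze24) (ke xe18 ye17 ze28) (ke xe18 ye17 ze30) (ke xe10 ye24 ze25) (ke xe18 ye11 ze21) (ke xe18 ye17 ze33) (ke xe18 ye17 ze35) (ke xe10 ye24 ze26) (ke xe18 ye17 ze39) (ke xe18 ye18 ze0) (ke xe18 ye17 ze38) (ke xe10 ye24 ze28) (ke xe10 ye24 ze29) (ke xe18 ye18 ze4) (ke xe18 ye18 ze5) (ke xe18 ye18 ze6) (ke xe10 ye24 ze32) (ke xe10 ye24 ze31) (ke xe18 ye18 ze10) (ke xe18 ye18 ze8)) (@D3.rec (fun _ => Pt) (ke xe18 ye18 ze9) (ke xe10 ye24 ze34) (ke xe10 ye24 ze35) (ke xe18 ye17 ze14) (ke xe15 ye8 ze36) (ke xe10 ye24 ze37) (ke xe18 ye18 ze15) (ke xe18 ye18 ze16) (ke xe18 ye18 ze17) (ke xe11 ye14 ze24) (ke xe11 ye14 ze25) (ke xe11 ye14 ze27) (ke xe11 ye14 ze28) (ke xe11 ye14 ze29)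 (ke xe11 ye10 ze33) (ke xe17 ye23 ze34) (ke xe16 ye15 ze26) (ke xe12 ye17 ze1) (ke xe11 ye14 ze31) (ke xe10 ye25 ze8) (ke xe18 ye18 ze27) (ke xe16 ye25 ze17) (ke xe18 ye18 ze28) (ke xe16 ye18 ze6) (ke xe12 ye17 ze23) (ke xe11 ye14 ze37) (ke xe11 ye14 ze38) (ke xe11 ye14 ze39) (ke xe18 ye18 ze38) (ke xe11 ye15 ze1) (ke xe11 ye15 ze2) (ke xe11 ye15 ze3) (ke xe11 ye15 ze4) (ke xe11 ye15 ze5) (ke xe11 ye15 ze6) (ke xe18 ye19 ze2) (ke xe18 ye19 ze4) (ke xe10 ye25 ze17) (ke xe18 ye19 ze6) (ke xe11 ye15 ze11)) (@D3.rec (fun _ => Pt) (ke xe16 ye3 ze18) (ke xe11 ye15 ze17) (ke xe11 ye15 ze18) (ke xe11 ye15 ze19) (ke xe10 ye25 ze22) (ke xe18 ye19 ze13) (ke xe16 ye20 ze5) (ke xe16 ye20 ze18) (ke xe11 ye15 ze30) (ke xe11 ye15 ze31) (ke xe18 ye19 ze19) (ke xe11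 ye15 ze33) (ke xe10 ye25 ze32) (ke xe10 ye25 ze34) (ke xe15 ye15 ze39) (ke xe15 ye19 ze28) (ke xe12 ye3 ze14) (ke xe16 ye14 ze38) (ke xe15 ye19 ze24) (ke xe16 ye20 ze31) (ke xe11 ye15 ze39) (ke xe11 ye16 ze0) (ke xe18 ye19 ze28) (ke xe11 ye16 ze1) (ke xe18 ye19 ze32) (ke xe10 ye25 ze38) (ke xe15 ye10 ze8) (ke xe18 ye19 ze34) (ke xe15 ye7 ze0) (ke xe18 ye19 ze36) (ke xe11 ye0 ze3) (ke xe18 ye19 ze39) (ke xe18 ye20 ze1) (ke xe11 ye0 ze4) (ke xe18 ye20 ze4) (ke xe11 ye0 ze6) (ke xe15 ye10 ze22) (ke xe11 ye16 ze10) (ke xe11 ye16 ze11) (ke xe16 ye7 ze6)) (@D3.rec (fun _ => Pt) (ke xe12 ye9 ze39) (ke xe17 ye11 ze29) (ke xe12 ye10 ze0) (ke xe12 ye10 ze1) (ke xe17 ye19 ze39) (ke xe11 ye6 ze3) (ke xe11 ye0 ze25) (ke xe11 ye0 ze26) (ke xe11 ye0 ze27) (ke xe11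 ye0 ze28) (ke xe18 ye20 ze10) (ke xe12 ye23 ze35) (ke xe12 ye3 ze15) (ke xe18 ye20 ze11) (ke xe18 ye20 ze12) (ke xe12 ye20 ze5) (ke xe11 ye19 ze37) (ke xe11 ye19 ze35) (ke xe17 ye23 ze13) (ke xe11 ye13 ze18) (ke xe15 ye17 ze39) (ke xe11 ye16 ze32) (ke xe12 ye6 ze2) (ke xe11 ye16 ze33) (ke xe11 ye17 ze2) (ke xe12 ye20 ze0) (ke xe11 ye17 ze4) (ke xe12 ye25 ze5) (ke xe14 ye7 ze34) (ke xe11 ye17 ze8) (ke xe11 ye17 ze9) (ke xe11 ye17 ze10) (ke xe18 ye16 ze27) (ke xe11 ye17 ze11) (ke xe18 ye20 ze30) (ke xe11 ye17 ze13) (ke xe11 ye17 ze14) (ke xe16 ye17 ze17) (ke xe11 ye1 ze3) (ke xe15 ye2 ze21)) (@D3.rec (fun _ => Pt) (ke xe15 ye5 ze28) (ke xe11 ye17 ze16) (ke xe18 ye15 ze13) (ke xe11 ye17 ze18) (ke xe18 ye15 ze16) (ke xe18 ye15 ze17) (ke xe11 ye17 ze23)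 (ke xe18 ye21 ze2) (ke xe18 ye21 ze5) (ke xe11 ye1 ze12) (ke xe18 ye21 ze8) (ke xe18 ye15 ze31) (ke xe11 ye1 ze13) (ke xe18 ye21 ze10) (ke xe11 ye1 ze15) (ke xe18 ye15 ze32) (ke xe11 ye1 ze17) (ke xe18 ye21 ze16) (ke xe18 ye21 ze17) (ke xe18 ye21 ze18) (ke xe11 ye17 ze34) (ke xe11 ye17 ze35) (ke xe11 ye17 ze36) (ke xe14 ye7 ze25) (ke xe11 ye17 ze38) (ke xe11 ye17 ze39) (ke xe14 ye5 ze29) (ke xe13 ye1 ze14) (ke xe11 ye18 ze1) (ke xe11 ye19 ze18) (ke xe11 ye1 ze24) (ke xe16 ye21 ze21) (ke xe11 ye18 ze3) (ke xe17 ye20 ze12) (ke xe16 ye20 ze2) (ke xe11 ye1 ze28) (ke xe13 ye12 ze31) (ke xe16 ye21 ze20) (ke xe11 ye18 ze6) (ke xe11 ye18 ze7)) (@D3.rec (fun _ => Pt) (ke xe17 ye25 ze27) (ke xe11 ye18 ze8) (ke xe11 ye15 ze32) (ke xe15 ye2 ze14) (ke xe11 ye18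 ze9) (ke xe11 ye13 ze13) (ke xe14 ye18 ze0) (ke xe11 ye18 ze10) (ke xe11 ye1 ze36) (ke xe15 ye1 ze6) (ke xe13 ye17 ze7) (ke xe11 ye18 ze12) (ke xe11 ye18 ze13) (ke xe11 ye12 ze5) (ke xe15 ye2 ze27) (ke xe18 ye16 ze22) (ke xe11 ye18 ze14) (ke xe18 ye22 ze1) (ke xe18 ye14 ze33) (ke xe11 ye18 ze17) (ke xe11 ye2 ze6) (ke xe18 ye22 ze3) (ke xe18 ye22 ze4) (ke xe11 ye18 ze20) (ke xe18 ye22 ze7) (ke xe11 ye2 ze9) (ke xe18 ye22 ze10) (ke xe18 ye22 ze11) (ke xe11 ye2 ze11) (ke xe11 ye2 ze12) (ke xe18 ye22 ze15) (ke xe16 ye3 ze28) (ke xe18 ye22 ze16) (ke xe11 ye18 ze27) (ke xe18 ye22 ze20) (ke xe11 ye2 ze16) (ke xe15 ye4 ze4) (ke xe14 ye23 ze36) (ke xe11 ye2 ze18) (ke xe17 ye3 ze22)) (@D3.rec (fun _ => Pt) (ke xe14 ye18 ze30) (ke xe16 ye3 ze37) (ke xe13 ye19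 ze0) (ke xe11 ye18 ze29) (ke xe18 ye22 ze26) (ke xe11 ye2 ze23) (ke xe18 ye22 ze29) (ke xe18 ye22 ze31) (ke xe11 ye2 ze24) (ke xe18 ye22 ze34) (ke xe18 ye8 ze4) (ke xe18 ye22 ze36) (ke xe11 ye2 ze25) (ke xe18 ye23 ze0) (ke xe18 ye23 ze1) (ke xe18 ye22 ze39) (ke xe11 ye2 ze27) (ke xe11 ye2 ze28) (ke xe18 ye23 ze5) (ke xe18 ye23 ze6) (ke xe18 ye23 ze7) (ke xe11 ye2 ze31) (ke xe11 ye2 ze30) (ke xe18 ye23 ze10) (ke xe18 ye23 ze8) (ke xe18 ye23 ze9) (ke xe11 ye2 ze33) (ke xe11 ye2 ze34) (ke xe18 ye22 ze19) (ke xe15 ye3 ze11) (ke xe11 ye2 ze36) (ke xe18 ye23 ze15) (ke xe18 ye23 ze16) (ke xe18 ye23 ze17) (ke xe11 ye19 ze7) (ke xe11 ye19 ze8) (ke xe11 ye19 ze10) (ke xe11 ye19 ze11) (ke xe11 ye19 ze12) (ke xe11 ye16 ze4)) (@D3.rec (fun _ => Pt) (ke xe11 ye3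 ze5) (ke xe12 ye22 ze31) (ke xe14 ye10 ze27) (ke xe18 ye23 ze25) (ke xe11 ye19 ze22) (ke xe11 ye19 ze24) (ke xe18 ye23 ze27) (ke xe11 ye3 ze12) (ke xe15 ye5 ze26) (ke xe18 ye19 ze17) (ke xe11 ye10 ze30) (ke xe18 ye23 ze31) (ke xe11 ye3 ze16) (ke xe17 ye1 ze17) (ke xe18 ye20 ze8) (ke xe18 ye23 ze36) (ke xe17 ye23 ze25) (ke xe11 ye3 ze19) (ke xe18 ye24 ze0) (ke xe18 ye24 ze1) (ke xe11 ye3 ze21) (ke xe11 ye3 ze22) (ke xe15 ye5 ze36) (ke xe18 ye20 ze6) (ke xe18 ye24 ze4) (ke xe11 ye3 ze25) (ke xe18 ye24 ze7) (ke xe18 ye24 ze8) (ke xe18 ye24 ze12) (ke xe11 ye3 ze27) (ke xe18 ye20 ze19) (ke xe18 ye24 ze15) (ke xe11 ye19 ze39) (ke xe11 ye20 ze0) (ke xe11 ye20 ze1) (ke xe18 ye24 ze21) (ke xe18 ye24 ze24) (ke xe11 ye3 ze30) (ke xe18 ye24 ze28) (ke xe18 ye24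 ze29)) (@D3.rec (fun _ => Pt) (ke xe11 ye3 ze32) (ke xe11 ye3 ze33) (ke xe12 ye16 ze2) (ke xe18 ye24 ze32) (ke xe11 ye20 ze8) (ke xe18 ye24 ze37) (ke xe11 ye3 ze36) (ke xe18 ye25 ze1) (ke xe18 ye25 ze2) (ke xe18 ye25 ze0) (ke xe11 ye3 ze38) (ke xe11 ye3 ze39) (ke xe17 ye25 ze39) (ke xe18 ye25 ze7) (ke xe18 ye25 ze8) (ke xe18 ye25 ze9) (ke xe11 ye4 ze2) (ke xe11 ye4 ze3) (ke xe18 ye25 ze13) (ke xe18 ye25 ze14) (ke xe11 ye20 ze19) (ke xe11 ye20 ze20) (ke xe11 ye20 ze21) (ke xe11 ye20 ze22) (ke xe11 ye20 ze23) (ke xe11 ye4 ze6) (ke xe18 ye25 ze22) (ke xe18 ye25 ze23) (ke xe11 ye4 ze8) (ke xe11 ye4 ze9) (ke xe12 ye6 ze0) (ke xe18 ye25 ze27) (ke xe11 ye4 ze12) (ke xe11 ye4 ze13) (ke xe18 ye25 ze32) (ke xe18 ye25 ze33) (ke xe11 ye4 ze17) (ke xe12 ye24 ze4)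 (ke xe14 ye9 ze19) (ke xe18 ye25 ze39)) (@D3.rec (fun _ => Pt) (ke xe11 ye21 ze1) (ke xe11 ye21 ze3) (ke xe19 ye0 ze1) (ke xe11 ye4 ze24) (ke xe18 ye13 ze25) (ke xe14 ye25 ze26) (ke xe11 ye10 ze28) (ke xe19 ye0 ze5) (ke xe11 ye4 ze28) (ke xe18 ye14 ze20) (ke xe16 ye25 ze28) (ke xe19 ye0 ze10) (ke xe17 ye24 ze0) (ke xe11 ye4 ze31) (ke xe19 ye0 ze14) (ke xe19 ye0 ze15) (ke xe11 ye4 ze33) (ke xe11 ye4 ze34) (ke xe18 ye14 ze18) (ke xe14 ye25 ze38) (ke xe19 ye0 ze18) (ke xe11 ye4 ze37) (ke xe19 ye0 ze21) (ke xe19 ye0 ze22) (ke xe19 ye0 ze26) (ke xe11 ye4 ze39) (ke xe19 ye0 ze29) (ke xe18 ye14 ze31) (ke xe11 ye21 ze18) (ke xe11 ye21 ze19) (ke xe11 ye21 ze20) (ke xe19 ye0 ze35) (ke xe19 ye0 ze38) (ke xe11 ye5 ze2) (ke xe19 ye1 ze2) (ke xe19 ye1 ze3) (ke xe11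 ye5 ze4) (ke xe11 ye5 ze5) (ke xe19 ye1 ze6) (ke xe12 ye17 ze21)) (@D3.rec (fun _ => Pt) (ke xe11 ye21 ze27) (ke xe19 ye1 ze11) (ke xe11 ye5 ze8) (ke xe19 ye1 ze15) (ke xe19 ye1 ze16) (ke xe19 ye1 ze14) (ke xe11 ye5 ze10) (ke xe11 ye5 ze11) (ke xe19 ye1 ze21) (ke xe19 ye1 ze22) (ke xe18 ye0 ze10) (ke xe19 ye1 ze23) (ke xe11 ye5 ze14) (ke xe11 ye5 ze15) (ke xe19 ye1 ze27) (ke xe19 ye1 ze28) (ke xe11 ye21 ze38) (ke xe11 ye21 ze39) (ke xe11 ye22 ze0) (ke xe11 ye22 ze1) (ke xe11 ye22 ze2) (ke xe11 ye5 ze18) (ke xe19 ye1 ze36) (ke xe19 ye1 ze37) (ke xe11 ye5 ze20) (ke xe11 ye5 ze21) (ke xe19 ye2 ze1) (ke xe12 ye6 ze7) (ke xe11 ye5 ze24) (ke xe11 ye5 ze25) (ke xe19 ye2 ze6) (ke xe19 ye2 ze7) (ke xe14 ye18 ze14) (ke xe15 ye16 ze7) (ke xe14 ye18 ze16) (ke xe16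 ye17 ze22) (ke xe16 ye17 ze23) (ke xe16 ye17 ze24) (ke xe18 ye17 ze4) (ke xe16 ye17 ze25)) (@D3.rec (fun _ => Pt) (ke xe16 ye17 ze26) (ke xe19 ye2 ze24) (ke xe11 ye5 ze29) (ke xe19 ye2 ze27) (ke xe19 ye2 ze28) (ke xe16 ye17 ze30) (ke xe14 ye18 ze6) (ke xe14 ye17 ze1) (ke xe15 ye15 ze17) (ke xe14 ye17 ze3) (ke xe16 ye18 ze10) (ke xe16 ye18 ze11) (ke xe16 ye18 ze12) (ke xe18 ye22 ze9) (ke xe16 ye18 ze13) (ke xe16 ye18 ze14) (ke xe19 ye3 ze2) (ke xe11 ye5 ze36) (ke xe19 ye3 ze5) (ke xe19 ye3 ze6) (ke xe14 ye16 ze33) (ke xe16 ye18 ze18) (ke xe11 ye6 ze35) (ke xe11 ye7 ze16) (ke xe11 ye7 ze4) (ke xe11 ye8 ze19) (ke xe11 ye6 ze14) (ke xe11 ye6 ze16) (ke xe11 ye6 ze19) (ke xe11 ye6 ze20) (ke xe11 ye6 ze22) (ke xe11 ye6 ze25) (ke xe11 ye6 ze26) (ke xe11 ye6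 ze28) (ke xe11 ye6 ze31) (ke xe11 ye6 ze36) (ke xe11 ye6 ze37) (ke xe14 ye11 ze3) (ke xe19 ye3 ze10) (ke xe11 ye7 ze0)) (@D3.rec (fun _ => Pt) (ke xe11 ye7 ze5) (ke xe11 ye7 ze6) (ke xe14 ye11 ze16) (ke xe19 ye3 ze11) (ke xe16 ye19 ze30) (ke xe11 ye10 ze3) (ke xe14 ye11 ze13) (ke xe15 ye17 ze6) (ke xe11 ye7 ze17) (ke xe14 ye25 ze14) (ke xe11 ye7 ze19) (ke xe19 ye3 ze15) (ke xe11 ye7 ze21) (ke xe19 ye3 ze16) (ke xe11 ye7 ze28) (ke xe19 ye3 ze17) (ke xe19 ye3 ze18) (ke xe15 ye14 ze8) (ke xe11 ye7 ze31) (ke xe11 ye7 ze34) (ke xe19 ye3 ze19) (ke xe11 ye7 ze38) (ke xe19 ye3 ze20) (ke xe19 ye3 ze21) (ke xe19 ye3 ze22) (ke xe18 ye3 ze39) (ke xe11 ye8 ze5) (ke xe11 ye8 ze6) (ke xe11 ye15 ze16) (ke xe16 ye3 ze15) (ke xe19 ye3 ze24) (ke xe19 ye3 ze25) (ke xe19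 ye3 ze26) (ke xe18 ye4 ze14) (ke xe18 ye4 ze15) (ke xe16 ye20 ze15) (ke xe14 ye10 ze39) (ke xe15 ye21 ze0) (ke xe11 ye8 ze20) (ke xe15 ye5 ze14)) (@D3.rec (fun _ => Pt) (ke xe11 ye8 ze22) (ke xe19 ye3 ze28) (ke xe11 ye8 ze24) (ke xe19 ye3 ze29) (ke xe11 ye8 ze31) (ke xe19 ye3 ze30) (ke xe19 ye3 ze31) (ke xe15 ye13 ze33) (ke xe11 ye8 ze34) (ke xe11 ye8 ze37) (ke xe19 ye3 ze32) (ke xe11 ye9 ze1) (ke xe19 ye3 ze33) (ke xe19 ye3 ze34) (ke xe19 ye3 ze35) (ke xe18 ye5 ze14) (ke xe11 ye9 ze8) (ke xe11 ye9 ze9) (ke xe16 ye3 ze10) (ke xe19 ye3 ze37) (ke xe19 ye3 ze38) (ke xe19 ye3 ze39) (ke xe18 ye5 ze28) (ke xe18 ye5 ze29) (ke xe11 ye9 ze13) (ke xe18 ye12 ze28) (ke xe18 ye16 ze21) (ke xe11 ye9 ze18) (ke xe11 ye9 ze19) (ke xe11 ye9 ze20) (ke xe19 ye4 ze0) (ke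 xe17 ye12 ze13) (ke xe19 ye4 ze1) (ke xe13 ye4 ze4) (ke xe19 ye4 ze2) (ke xe19 ye4 ze3) (ke xe16 ye17 ze19) (ke xe14 ye13 ze33) (ke xe11 ye9 ze28) (ke xe18 ye13 ze3)) (@D3.rec (fun _ => Pt) (ke xe11 ye9 ze33) (ke xe11 ye9 ze34) (ke xe11 ye9 ze36) (ke xe19 ye4 ze6) (ke xe18 ye13 ze14) (ke xe11 ye9 ze38) (ke xe15 ye15 ze7) (ke xe19 ye3 ze14) (ke xe18 ye13 ze17) (ke xe18 ye13 ze19) (ke xe11 ye10 ze15) (ke xe11 ye10 ze16) (ke xe19 ye4 ze7) (ke xe11 ye10 ze23) (ke xe11 ye10 ze24) (ke xe11 ye10 ze25) (ke xe19 ye3 ze12) (ke xe18 ye13 ze31) (ke xe19 ye4 ze8) (ke xe19 ye0 ze3) (ke xe18 ye13 ze37) (ke xe18 ye23 ze29) (ke xe11 ye10 ze32) (ke xe11 ye10 ze35) (ke xe19 ye4 ze9) (ke xe11 ye10 ze37) (ke xe19 ye4 ze11) (ke xe12 ye22 ze36) (ke xe11 ye11 ze5) (ke xe11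 ye11 ze6) (ke xe11 ye11 ze11) (ke xe11 ye11 ze12) (ke xe11 ye11 ze18) (ke xe11 ye11 ze19) (ke xe11 ye11 ze20) (ke xe11 ye11 ze21) (ke xe11 ye11 ze22) (ke xe11 ye11 ze23) (ke xe11 ye11 ze24) (ke xe15 ye6 ze20)) (@D3.rec (fun _ => Pt) (ke xe19 ye4 ze12) (ke xe17 ye12 ze18) (ke xe17 ye19 ze37) (ke xe17 ye12 ze21) (ke xe19 ye4 ze13) (ke xe11 ye11 ze31) (ke xe18 ye20 ze34) (ke xe11 ye12 ze7) (ke xe18 ye15 ze7) (ke xe18 ye15 ze8) (ke xe19 ye4 ze14) (ke xe11 ye12 ze12) (ke xe11 ye12 ze14) (ke xe19 ye4 ze16) (ke xe11 ye12 ze16) (ke xe11 ye12 ze17) (ke xe17 ye25 ze22) (ke xe11 ye19 ze1) (ke xe11 ye12 ze20) (ke xe19 ye4 ze18) (ke xe16 ye3 ze34) (ke xe11 ye12 ze22) (ke xe11 ye12 ze23) (ke xe19 ye4 ze22) (ke xe19 ye4 ze23) (ke xe11 ye12 ze25) (ke xe18 ye17 ze26)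 (ke xe15 ye22 ze7) (ke xe11 ye12 ze27) (ke xe19 ye4 ze26) (ke xe11 ye12 ze29) (ke xe11 ye12 ze30) (ke xe19 ye4 ze27) (ke xe19 ye4 ze28) (ke xe18 ye16 ze10) (ke xe18 ye16 ze13) (ke xe18 ye16 ze17) (ke xe18 ye16 ze18) (ke xe18 ye16 ze24) (ke xe18 ye21 ze36)) (@D3.rec (fun _ => Pt) (ke xe18 ye16 ze31) (ke xe11 ye13 ze17) (ke xe18 ye20 ze21) (ke xe11 ye13 ze21) (ke xe19 ye4 ze29) (ke xe11 ye13 ze23) (ke xe19 ye4 ze31) (ke xe17 ye10 ze34) (ke xe11 ye13 ze25) (ke xe11 ye13 ze28) (ke xe11 ye13 ze29) (ke xe17 ye11 ze6) (ke xe17 ye20 ze25) (ke xe19 ye4 ze33) (ke xe11 ye13 ze32) (ke xe19 ye4 ze35) (ke xe19 ye4 ze36) (ke xe11 ye18 ze35) (ke xe11 ye13 ze34) (ke xe11 ye13 ze35) (ke xe19 ye4 ze39) (ke xe19 ye5 ze0) (ke xe11 ye19 ze0) (ke xe11 ye17 ze28) (ke xe15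 ye5 ze18) (ke xe19 ye5 ze1) (ke xe11 ye14 ze1) (ke xe17 ye25 ze26) (ke xe15 ye5 ze15) (ke xe19 ye5 ze3) (ke xe11 ye14 ze2) (ke xe19 ye5 ze5) (ke xe19 ye5 ze6) (ke xe19 ye5 ze4) (ke xe11 ye14 ze4) (ke xe11 ye14 ze5) (ke xe11 ye14 ze6) (ke xe19 ye5 ze10) (ke xe11 ye14 ze10) (ke xe11 ye14 ze8)) (@D3.rec (fun _ => Pt) (ke xe11 ye14 ze9) (ke xe19 ye5 ze13) (ke xe19 ye5 ze14) (ke xe19 ye5 ze11) (ke xe19 ye5 ze12) (ke xe11 ye14 ze13) (ke xe11 ye14 ze14) (ke xe19 ye5 ze17) (ke xe11 ye14 ze17) (ke xe11 ye14 ze18) (ke xe18 ye8 ze33) (ke xe15 ye22 ze38) (ke xe11 ye14 ze20) (ke xe11 ye14 ze22) (ke xe11 ye14 ze23) (ke xe19 ye5 ze19) (ke xe14 ye9 ze39) (ke xe18 ye18 ze23) (ke xe14 ye9 ze37) (ke xe13 ye11 ze29) (ke xe18 ye18 ze24) (ke xe11 ye14 ze30) (ke xe11 ye14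 ze33) (ke xe11 ye14 ze34) (ke xe11 ye14 ze35) (ke xe19 ye5 ze21) (ke xe17 ye10 ze39) (ke xe19 ye5 ze22) (ke xe13 ye4 ze13) (ke xe19 ye5 ze23) (ke xe19 ye5 ze24) (ke xe16 ye18 ze7) (ke xe14 ye14 ze5) (ke xe11 ye15 ze0) (ke xe18 ye18 ze39) (ke xe11 ye15 ze7) (ke xe11 ye15 ze8) (ke xe11 ye15 ze10) (ke xe19 ye5 ze27) (ke xe18 ye19 ze8)) (@D3.rec (fun _ => Pt) (ke xe15 ye15 ze37) (ke xe19 ye3 ze27) (ke xe18 ye19 ze10) (ke xe18 ye19 ze12) (ke xe11 ye15 ze28) (ke xe11 ye15 ze29) (ke xe11 ye15 ze36) (ke xe11 ye15 ze37) (ke xe11 ye15 ze38) (ke xe19 ye3 ze13) (ke xe18 ye19 ze24) (ke xe19 ye5 ze28) (ke xe11 ye16 ze3) (ke xe19 ye5 ze29) (ke xe11 ye16 ze6) (ke xe19 ye5 ze31) (ke xe12 ye24 ze5) (ke xe11 ye16 ze14) (ke xe11 ye16 ze15) (ke xe11 ye16 ze20) (ke xe11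 ye16 ze21) (ke xe11 ye16 ze27) (ke xe11 ye16 ze28) (ke xe11 ye16 ze29) (ke xe11 ye16 ze30) (ke xe11 ye16 ze31) (ke xe15 ye0 ze26) (ke xe17 ye11 ze9) (ke xe19 ye5 ze32) (ke xe11 ye16 ze37) (ke xe11 ye17 ze12) (ke xe18 ye20 ze33) (ke xe19 ye5 ze33) (ke xe11 ye17 ze17) (ke xe11 ye17 ze19) (ke xe19 ye5 ze35) (ke xe11 ye17 ze21) (ke xe11 ye17 ze22) (ke xe17 ye25 ze29) (ke xe11 ye17 ze24)) (@D3.rec (fun _ => Pt) (ke xe19 ye5 ze37) (ke xe16 ye4 ze20) (ke xe11 ye17 ze26) (ke xe11 ye17 ze27) (ke xe19 ye6 ze1) (ke xe19 ye6 ze2) (ke xe18 ye22 ze27) (ke xe15 ye18 ze27) (ke xe11 ye17 ze30) (ke xe19 ye6 ze5) (ke xe11 ye17 ze32) (ke xe11 ye17 ze33) (ke xe19 ye6 ze6) (ke xe19 ye6 ze7) (ke xe18 ye21 ze25) (ke xe18 ye21 ze28) (ke xe18 ye21 ze32) (ke xe18 ye21 ze33) (ke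 xe11 ye18 ze15) (ke xe18 ye14 ze34) (ke xe11 ye18 ze19) (ke xe17 ye12 ze8) (ke xe11 ye18 ze22) (ke xe11 ye18 ze25) (ke xe11 ye18 ze26) (ke xe14 ye25 ze18) (ke xe11 ye18 ze31) (ke xe14 ye25 ze15) (ke xe17 ye25 ze19) (ke xe19 ye4 ze34) (ke xe11 ye18 ze33) (ke xe11 ye18 ze34) (ke xe19 ye4 ze37) (ke xe19 ye4 ze38) (ke xe11 ye18 ze38) (ke xe11 ye18 ze39) (ke xe19 ye6 ze14) (ke xe18 ye12 ze7) (ke xe15 ye20 ze11) (ke xe11 ye19 ze3)) (@D3.rec (fun _ => Pt) (ke xe11 ye19 ze5) (ke xe11 ye19 ze6) (ke xe19 ye6 ze16) (ke xe14 ye8 ze32) (ke xe18 ye23 ze23) (ke xe14 ye8 ze30) (ke xe13 ye12 ze8) (ke xe18 ye23 ze24) (ke xe14 ye2 ze0) (ke xe18 ye21 ze26) (ke xe11 ye19 ze27) (ke xe19 ye6 ze19) (ke xe19 ye6 ze18) (ke xe11 ye19 ze29) (ke xe11 ye19 ze33) (ke xe11 ye19 ze34)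 (ke xe14 ye14 ze10) (ke xe14 ye14 ze11) (ke xe11 ye19 ze38) (ke xe18 ye20 ze17) (ke xe14 ye17 ze35) (ke xe19 ye6 ze23) (ke xe11 ye20 ze2) (ke xe14 ye14 ze9) (ke xe11 ye20 ze3) (ke xe19 ye6 ze26) (ke xe19 ye6 ze25) (ke xe11 ye20 ze5) (ke xe11 ye20 ze11) (ke xe11 ye20 ze10) (ke xe19 ye6 ze31) (ke xe19 ye6 ze29) (ke xe19 ye6 ze30) (ke xe11 ye20 ze13) (ke xe11 ye20 ze14) (ke xe11 ye20 ze17) (ke xe11 ye20 ze18) (ke xe18 ye25 ze19) (ke xe18 ye25 ze21) (ke xe12 ye3 ze16)) (@D3.rec (fun _ => Pt) (ke xe14 ye4 ze37) (ke xe14 ye9 ze26) (ke xe12 ye7 ze23) (ke xe14 ye2 ze30) (ke xe18 ye16 ze11) (ke xe11 ye21 ze6) (ke xe19 ye6 ze39) (ke xe19 ye6 ze38) (ke xe11 ye21 ze8) (ke xe11 ye21 ze12) (ke xe11 ye21 ze13) (ke xe14 ye13 ze38) (ke xe14 ye13 ze39) (ke xe11 ye21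 ze16) (ke xe18 ye14 ze29) (ke xe14 ye16 ze22) (ke xe19 ye7 ze3) (ke xe11 ye21 ze21) (ke xe14 ye13 ze37) (ke xe11 ye21 ze22) (ke xe19 ye7 ze6) (ke xe19 ye7 ze5) (ke xe11 ye21 ze24) (ke xe11 ye21 ze30) (ke xe11 ye21 ze29) (ke xe19 ye7 ze11) (ke xe19 ye7 ze9) (ke xe19 ye7 ze10) (ke xe11 ye21 ze32) (ke xe11 ye21 ze33) (ke xe11 ye21 ze36) (ke xe11 ye21 ze37) (ke xe19 ye1 ze33) (ke xe19 ye1 ze35) (ke xe12 ye3 ze10) (ke xe14 ye5 ze18) (ke xe14 ye10 ze34) (ke xe12 ye8 ze8) (ke xe12 ye25 ze24) (ke xe11 ye22 ze17)) (@D3.rec (fun _ => Pt) (ke xe14 ye9 ze27) (ke xe11 ye22 ze22) (ke xe11 ye22 ze24) (ke xe13 ye21 ze20) (ke xe11 ye22 ze37) (ke xe15 ye25 ze18) (ke xe11 ye22 ze39) (ke xe11 ye23 ze0) (ke xe19 ye7 ze23) (ke xe19 ye7 ze24) (ke xe11 ye23 ze4) (ke xe11 ye23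 ze8) (ke xe11 ye23 ze7) (ke xe19 ye7 ze27) (ke xe19 ye7 ze25) (ke xe15 ye25 ze33) (ke xe19 ye7 ze26) (ke xe11 ye23 ze11) (ke xe15 ye25 ze5) (ke xe11 ye23 ze15) (ke xe19 ye7 ze34) (ke xe13 ye0 ze8) (ke xe11 ye23 ze23) (ke xe14 ye10 ze35) (ke xe11 ye23 ze28) (ke xe11 ye23 ze30) (ke xe13 ye20 ze5) (ke xe11 ye24 ze2) (ke xe15 ye25 ze35) (ke xe11 ye24 ze5) (ke xe11 ye24 ze8) (ke xe19 ye7 ze38) (ke xe19 ye7 ze22) (ke xe15 ye25 ze15) (ke xe11 ye24 ze11) (ke xe15 ye25 ze28) (ke xe11 ye24 ze38) (ke xe11 ye25 ze0) (ke xe11 ye24 ze16) (ke xe11 ye25 ze4))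
def f_e_16 : D2 → D3 → Pt := @D2.rec (fun _ => D3 → Pt) (@D3.rec (fun _ => Pt) (ke xe11 ye25 ze18) (ke xe11 ye24 ze25) (ke xe11 ye25 ze36) (ke xe11 ye24 ze30) (ke xe12 ye0 ze0) (ke xe14 ye8 ze34) (ke xe14 ye8 ze35) (ke xe19 ye8 ze4) (ke xe14 ye11 ze7) (ke xe11 ye25 ze1) (ke xe11 ye25 ze2) (ke xe13 ye2 ze9) (ke xe11 ye25 ze8) (ke xe19 ye8 ze8) (ke xe13 ye4 ze1) (ke xe19 ye8 ze9) (ke xe11 ye25 ze11) (ke xe13 ye21 ze10) (ke xe11 ye25 ze15) (ke xe11 ye25 ze16) (ke xe17 ye6 ze21) (ke xe13 ye12 ze12) (ke xe11 ye25 ze30) (ke xe14 ye10 ze1) (ke xe14 ye10 ze2) (ke xe19 ye8 ze12) (ke xe14 ye11 ze19) (ke xe11 ye25 ze37) (ke xe11 ye25 ze38) (ke xe13 ye2 ze13) (ke xe12 ye0 ze4) (ke xe19 ye8 ze16) (ke xe13 ye4 ze10) (ke xe19 ye8 ze17) (ke xe12 ye0 ze7) (ke xe13 ye19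 ze35) (ke xe12 ye0 ze11) (ke xe12 ye0 ze12) (ke xe17 ye6 ze31) (ke xe13 ye11 ze33)) (@D3.rec (fun _ => Pt) (ke xe12 ye8 ze26) (ke xe12 ye8 ze30) (ke xe12 ye9 ze1) (ke xe12 ye9 ze2) (ke xe12 ye9 ze3) (ke xe19 ye8 ze26) (ke xe12 ye9 ze5) (ke xe12 ye9 ze6) (ke xe12 ye9 ze7) (ke xe12 ye9 ze8) (ke xe12 ye9 ze9) (ke xe19 ye8 ze34) (ke xe12 ye9 ze11) (ke xe12 ye9 ze12) (ke xe12 ye2 ze7) (ke xe12 ye2 ze8) (ke xe12 ye9 ze30) (ke xe12 ye9 ze31) (ke xe12 ye9 ze32) (ke xe12 ye9 ze33) (ke xe12 ye9 ze34) (ke xe12 ye9 ze35) (ke xe14 ye23 ze8) (ke xe12 ye9 ze37) (ke xe12 ye9 ze38) (ke xe12 ye10 ze2) (ke xe12 ye10 ze3) (ke xe12 ye10 ze4) (ke xe12 ye10 ze5) (ke xe12 ye10 ze6) (ke xe12 ye10 ze7) (ke xe14 ye20 ze24) (ke xe12 ye10 ze9) (ke xe12 ye10 ze10) (ke xe12 ye2 ze10)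 (ke xe12 ye2 ze11) (ke xe12 ye2 ze12) (ke xe12 ye2 ze13) (ke xe13 ye15 ze23) (ke xe13 ye15 ze20)) (@D3.rec (fun _ => Pt) (ke xe12 ye2 ze16) (ke xe12 ye2 ze17) (ke xe12 ye2 ze18) (ke xe12 ye2 ze19) (ke xe13 ye15 ze32) (ke xe13 ye15 ze28) (ke xe12 ye11 ze4) (ke xe12 ye11 ze9) (ke xe12 ye11 ze10) (ke xe12 ye11 ze11) (ke xe12 ye11 ze20) (ke xe12 ye11 ze25) (ke xe12 ye11 ze26) (ke xe12 ye11 ze27) (ke xe12 ye2 ze25) (ke xe12 ye16 ze30) (ke xe12 ye2 ze27) (ke xe12 ye2 ze31) (ke xe12 ye18 ze10) (ke xe12 ye2 ze32) (ke xe19 ye9 ze13) (ke xe19 ye9 ze14) (ke xe19 ye9 ze16) (ke xe19 ye9 ze17) (ke xe19 ye9 ze26) (ke xe19 ye9 ze29) (ke xe14 ye13 ze29) (ke xe18 ye13 ze21) (ke xe18 ye14 ze27) (ke xe14 ye14 ze1) (ke xe18 ye19 ze14) (ke xe18 ye20 ze14) (ke xe16 ye13 ze28)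 (ke xe12 ye6 ze13) (ke xe12 ye6 ze14) (ke xe12 ye6 ze15) (ke xe12 ye6 ze16) (ke xe12 ye6 ze18) (ke xe12 ye6 ze19) (ke xe12 ye6 ze21)) (@D3.rec (fun _ => Pt) (ke xe16 ye15 ze24) (ke xe12 ye6 ze22) (ke xe12 ye6 ze23) (ke xe12 ye6 ze24) (ke xe12 ye6 ze25) (ke xe12 ye6 ze27) (ke xe12 ye6 ze28) (ke xe12 ye6 ze30) (ke xe12 ye7 ze15) (ke xe14 ye8 ze12) (ke xe15 ye16 ze18) (ke xe12 ye7 ze37) (ke xe12 ye7 ze34) (ke xe12 ye8 ze0) (ke xe14 ye7 ze21) (ke xe15 ye15 ze29) (ke xe12 ye7 ze12) (ke xe12 ye7 ze9) (ke xe15 ye5 ze0) (ke xe12 ye6 ze39) (ke xe12 ye4 ze25) (ke xe19 ye10 ze5) (ke xe19 ye10 ze8) (ke xe12 ye4 ze30) (ke xe18 ye25 ze29) (ke xe19 ye10 ze9) (ke xe18 ye19 ze20) (ke xe12 ye7 ze5) (ke xe15 ye8 ze31) (ke xe19 ye10 ze12) (ke xe12 ye4 ze35) (ke xe18 ye22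 ze25) (ke xe12 ye7 ze8) (ke xe12 ye7 ze14) (ke xe15 ye18 ze20) (ke xe12 ye7 ze16) (ke xe12 ye7 ze17) (ke xe15 ye9 ze1) (ke xe12 ye5 ze5) (ke xe19 ye10 ze17)) (@D3.rec (fun _ => Pt) (ke xe12 ye5 ze7) (ke xe18 ye22 ze18) (ke xe12 ye7 ze21) (ke xe12 ye7 ze22) (ke xe14 ye24 ze34) (ke xe12 ye7 ze24) (ke xe12 ye5 ze14) (ke xe19 ye10 ze22) (ke xe19 ye10 ze25) (ke xe12 ye5 ze19) (ke xe19 ye2 ze5) (ke xe19 ye10 ze26) (ke xe18 ye13 ze24) (ke xe12 ye7 ze30) (ke xe15 ye3 ze4) (ke xe19 ye10 ze29) (ke xe12 ye5 ze24) (ke xe18 ye17 ze23) (ke xe12 ye7 ze33) (ke xe12 ye7 ze39) (ke xe15 ye22 ze1) (ke xe12 ye8 ze1) (ke xe12 ye8 ze2) (ke xe15 ye3 ze16) (ke xe12 ye5 ze34) (ke xe19 ye10 ze34) (ke xe12 ye5 ze36) (ke xe18 ye17 ze13) (ke xe12 ye8 ze6) (ke xe12 ye8 ze7) (ke xe12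 ye6 ze1) (ke xe18 ye25 ze28) (ke xe18 ye20 ze23) (ke xe13 ye13 ze20) (ke xe18 ye20 ze24) (ke xe17 ye10 ze27) (ke xe12 ye8 ze12) (ke xe12 ye6 ze8) (ke xe19 ye2 ze4) (ke xe18 ye14 ze36)) (@D3.rec (fun _ => Pt) (ke xe13 ye14 ze33) (ke xe18 ye14 ze37) (ke xe17 ye12 ze1) (ke xe12 ye8 ze16) (ke xe19 ye9 ze35) (ke xe19 ye9 ze36) (ke xe19 ye10 ze0) (ke xe19 ye10 ze1) (ke xe13 ye21 ze33) (ke xe14 ye4 ze17) (ke xe13 ye20 ze18) (ke xe14 ye3 ze38) (ke xe12 ye7 ze1) (ke xe12 ye7 ze2) (ke xe12 ye7 ze4) (ke xe17 ye12 ze12) (ke xe16 ye24 ze4) (ke xe16 ye24 ze12) (ke xe16 ye24 ze14) (ke xe13 ye21 ze30) (ke xe12 ye7 ze19) (ke xe12 ye7 ze26) (ke xe12 ye7 ze27) (ke xe12 ye7 ze29) (ke xe17 ye10 ze38) (ke xe16 ye23 ze16) (ke xe16 ye23 ze24) (ke xe16 ye23 ze26) (ke xe13 ye20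 ze15) (ke xe12 ye8 ze4) (ke xe19 ye11 ze1) (ke xe19 ye11 ze5) (ke xe17 ye4 ze38) (ke xe13 ye19 ze8) (ke xe17 ye5 ze1) (ke xe17 ye5 ze2) (ke xe16 ye8 ze15) (ke xe19 ye8 ze20) (ke xe16 ye8 ze13) (ke xe17 ye5 ze22)) (@D3.rec (fun _ => Pt) (ke xe13 ye20 ze23) (ke xe17 ye5 ze25) (ke xe17 ye5 ze26) (ke xe16 ye9 ze1) (ke xe19 ye8 ze21) (ke xe16 ye8 ze38) (ke xe16 ye6 ze7) (ke xe16 ye6 ze6) (ke xe19 ye8 ze22) (ke xe17 ye19 ze33) (ke xe19 ye8 ze24) (ke xe16 ye8 ze27) (ke xe13 ye19 ze10) (ke xe12 ye9 ze4) (ke xe19 ye11 ze22) (ke xe19 ye8 ze28) (ke xe19 ye8 ze29) (ke xe16 ye6 ze19) (ke xe19 ye8 ze30) (ke xe16 ye6 ze17) (ke xe17 ye20 ze24) (ke xe19 ye8 ze32) (ke xe16 ye9 ze12) (ke xe13 ye20 ze26) (ke xe12 ye9 ze10) (ke xe19 ye11 ze29) (ke xe19 ye8 ze36) (ke xe19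 ye8 ze37) (ke xe14 ye11 ze23) (ke xe12 ye19 ze15) (ke xe14 ye11 ze27) (ke xe12 ye19 ze16) (ke xe14 ye2 ze8) (ke xe17 ye20 ze1) (ke xe15 ye0 ze2) (ke xe19 ye8 ze38) (ke xe19 ye9 ze0) (ke xe19 ye9 ze1) (ke xe16 ye8 ze32) (ke xe19 ye9 ze2)) (@D3.rec (fun _ => Pt) (ke xe19 ye9 ze3) (ke xe19 ye1 ze18) (ke xe19 ye9 ze4) (ke xe16 ye8 ze21) (ke xe14 ye2 ze38) (ke xe17 ye20 ze28) (ke xe15 ye5 ze39) (ke xe19 ye9 ze5) (ke xe19 ye9 ze7) (ke xe19 ye9 ze8) (ke xe16 ye8 ze7) (ke xe19 ye9 ze9) (ke xe19 ye9 ze10) (ke xe18 ye25 ze5) (ke xe19 ye9 ze11) (ke xe16 ye9 ze6) (ke xe12 ye10 ze14) (ke xe18 ye16 ze39) (ke xe19 ye12 ze20) (ke xe19 ye12 ze21) (ke xe12 ye19 ze19) (ke xe12 ye19 ze20) (ke xe12 ye19 ze21) (ke xe12 ye19 ze22) (ke xe12 ye19 ze23) (ke xe12 ye19 ze24) (ke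 xe12 ye19 ze25) (ke xe12 ye18 ze9) (ke xe12 ye19 ze26) (ke xe12 ye19 ze27) (ke xe12 ye19 ze29) (ke xe12 ye10 ze29) (ke xe18 ye22 ze5) (ke xe19 ye12 ze31) (ke xe19 ye12 ze32) (ke xe12 ye19 ze32) (ke xe12 ye19 ze33) (ke xe12 ye19 ze34) (ke xe12 ye19 ze35) (ke xe12 ye19 ze36)) (@D3.rec (fun _ => Pt) (ke xe12 ye19 ze37) (ke xe12 ye19 ze38) (ke xe12 ye16 ze31) (ke xe12 ye19 ze39) (ke xe12 ye20 ze1) (ke xe12 ye20 ze2) (ke xe14 ye14 ze31) (ke xe16 ye7 ze10) (ke xe18 ye3 ze0) (ke xe14 ye22 ze12) (ke xe18 ye9 ze38) (ke xe19 ye13 ze7) (ke xe18 ye10 ze0) (ke xe16 ye5 ze38) (ke xe16 ye9 ze13) (ke xe16 ye5 ze36) (ke xe14 ye8 ze11) (ke xe16 ye9 ze14) (ke xe14 ye13 ze20) (ke xe16 ye9 ze15) (ke xe19 ye9 ze19) (ke xe16 ye7 ze3) (ke xe19 ye13 ze18) (ke xe19 ye9 ze20)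 (ke xe19 ye9 ze21) (ke xe16 ye9 ze10) (ke xe16 ye9 ze11) (ke xe16 ye6 ze11) (ke xe16 ye8 ze39) (ke xe16 ye9 ze2) (ke xe16 ye9 ze4) (ke xe14 ye15 ze25) (ke xe16 ye6 ze38) (ke xe18 ye4 ze16) (ke xe14 ye19 ze28) (ke xe18 ye6 ze19) (ke xe19 ye13 ze27) (ke xe18 ye6 ze21) (ke xe16 ye6 ze5) (ke xe16 ye8 ze28)) (@D3.rec (fun _ => Pt) (ke xe14 ye7 ze20) (ke xe16 ye6 ze3) (ke xe16 ye8 ze29) (ke xe14 ye13 ze10) (ke xe16 ye8 ze30) (ke xe19 ye9 ze23) (ke xe16 ye7 ze15) (ke xe19 ye13 ze38) (ke xe19 ye9 ze24) (ke xe19 ye9 ze25) (ke xe16 ye8 ze25) (ke xe16 ye8 ze26) (ke xe16 ye6 ze22) (ke xe16 ye8 ze14) (ke xe16 ye8 ze17) (ke xe16 ye8 ze19) (ke xe12 ye11 ze33) (ke xe13 ye23 ze18) (ke xe14 ye11 ze31) (ke xe16 ye22 ze0) (ke xe16 ye22 ze3) (ke xe12 ye12 ze0) (ke xe12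 ye12 ze3) (ke xe17 ye21 ze15) (ke xe17 ye18 ze7) (ke xe17 ye14 ze17) (ke xe12 ye20 ze6) (ke xe12 ye20 ze7) (ke xe12 ye20 ze8) (ke xe17 ye14 ze35) (ke xe12 ye20 ze9) (ke xe12 ye12 ze13) (ke xe16 ye23 ze3) (ke xe19 ye14 ze7) (ke xe19 ye14 ze8) (ke xe12 ye20 ze13) (ke xe12 ye20 ze14) (ke xe12 ye20 ze15) (ke xe12 ye20 ze16) (ke xe12 ye20 ze17)) (@D3.rec (fun _ => Pt) (ke xe12 ye12 ze18) (ke xe18 ye25 ze31) (ke xe17 ye0 ze28) (ke xe18 ye25 ze30) (ke xe12 ye20 ze22) (ke xe12 ye20 ze23) (ke xe18 ye25 ze16) (ke xe12 ye20 ze24) (ke xe12 ye20 ze25) (ke xe18 ye19 ze0) (ke xe12 ye20 ze26) (ke xe19 ye14 ze22) (ke xe12 ye12 ze25) (ke xe19 ye1 ze9) (ke xe12 ye20 ze28) (ke xe12 ye12 ze29) (ke xe12 ye12 ze30) (ke xe12 ye12 ze31) (ke xe12 ye12 ze32) (ke xe17 ye15 ze4)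 (ke xe19 ye14 ze25) (ke xe13 ye13 ze23) (ke xe19 ye14 ze26) (ke xe19 ye14 ze27) (ke xe19 ye14 ze28) (ke xe19 ye14 ze29) (ke xe13 ye6 ze33) (ke xe12 ye20 ze33) (ke xe12 ye20 ze34) (ke xe19 ye14 ze39) (ke xe19 ye15 ze0) (ke xe12 ye12 ze35) (ke xe19 ye15 ze1) (ke xe12 ye20 ze38) (ke xe12 ye20 ze39) (ke xe12 ye21 ze0) (ke xe12 ye21 ze1) (ke xe12 ye21 ze2) (ke xe12 ye21 ze3) (ke xe12 ye21 ze4)) (@D3.rec (fun _ => Pt) (ke xe16 ye25 ze13) (ke xe12 ye21 ze5) (ke xe12 ye21 ze6) (ke xe12 ye21 ze7) (ke xe12 ye21 ze8) (ke xe19 ye15 ze14) (ke xe12 ye21 ze10) (ke xe12 ye21 ze11) (ke xe12 ye21 ze12) (ke xe12 ye14 ze29) (ke xe12 ye21 ze13) (ke xe12 ye15 ze14) (ke xe12 ye21 ze14) (ke xe12 ye21 ze15) (ke xe12 ye21 ze16) (ke xe14 ye17 ze6) (ke xe12 ye21 ze17) (ke xe16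 ye25 ze30) (ke xe16 ye25 ze31) (ke xe16 ye25 ze32) (ke xe12 ye21 ze18) (ke xe12 ye21 ze19) (ke xe12 ye21 ze20) (ke xe19 ye15 ze28) (ke xe19 ye15 ze29) (ke xe12 ye13 ze23) (ke xe19 ye15 ze31) (ke xe12 ye13 ze29) (ke xe14 ye11 ze32) (ke xe13 ye24 ze27) (ke xe16 ye22 ze5) (ke xe16 ye22 ze1) (ke xe12 ye13 ze36) (ke xe12 ye13 ze38) (ke xe17 ye19 ze25) (ke xe17 ye15 ze34) (ke xe17 ye21 ze19) (ke xe12 ye21 ze26) (ke xe12 ye21 ze27) (ke xe12 ye21 ze28)) (@D3.rec (fun _ => Pt) (ke xe17 ye16 ze12) (ke xe12 ye14 ze7) (ke xe19 ye15 ze36) (ke xe19 ye15 ze37) (ke xe16 ye23 ze31) (ke xe12 ye21 ze33) (ke xe12 ye21 ze34) (ke xe12 ye21 ze35) (ke xe12 ye21 ze36) (ke xe12 ye21 ze37) (ke xe12 ye14 ze13) (ke xe19 ye2 ze3) (ke xe16 ye24 ze36) (ke xe19 ye2 ze2) (ke xe12 ye22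 ze2) (ke xe12 ye22 ze3) (ke xe19 ye1 ze29) (ke xe12 ye22 ze4) (ke xe12 ye22 ze5) (ke xe18 ye13 ze0) (ke xe19 ye16 ze4) (ke xe12 ye14 ze19) (ke xe18 ye24 ze35) (ke xe12 ye22 ze7) (ke xe12 ye14 ze23) (ke xe12 ye14 ze24) (ke xe12 ye14 ze25) (ke xe12 ye14 ze26) (ke xe17 ye16 ze21) (ke xe19 ye14 ze31) (ke xe13 ye14 ze35) (ke xe19 ye16 ze7) (ke xe19 ye16 ze8) (ke xe13 ye8 ze3) (ke xe12 ye22 ze12) (ke xe12 ye22 ze13) (ke xe19 ye15 ze18) (ke xe19 ye15 ze19) (ke xe19 ye15 ze20) (ke xe12 ye21 ze23)) (@D3.rec (fun _ => Pt) (ke xe12 ye22 ze14) (ke xe12 ye22 ze15) (ke xe12 ye22 ze16) (ke xe12 ye22 ze17) (ke xe12 ye22 ze18) (ke xe12 ye22 ze19) (ke xe17 ye1 ze3) (ke xe12 ye22 ze20) (ke xe12 ye22 ze21) (ke xe12 ye20 ze36) (ke xe19 ye16 ze21) (ke xe12 ye22 ze23) (ke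 xe12 ye22 ze24) (ke xe12 ye20 ze35) (ke xe12 ye20 ze37) (ke xe12 ye21 ze21) (ke xe12 ye21 ze22) (ke xe14 ye18 ze18) (ke xe17 ye1 ze18) (ke xe17 ye1 ze19) (ke xe17 ye1 ze20) (ke xe12 ye22 ze25) (ke xe12 ye22 ze26) (ke xe19 ye15 ze21) (ke xe19 ye15 ze22) (ke xe19 ye15 ze2) (ke xe12 ye22 ze32) (ke xe14 ye12 ze17) (ke xe16 ye2 ze32) (ke xe14 ye24 ze12) (ke xe17 ye16 ze30) (ke xe12 ye22 ze33) (ke xe12 ye22 ze35) (ke xe12 ye15 ze36) (ke xe13 ye13 ze21) (ke xe12 ye15 ze39) (ke xe12 ye16 ze0) (ke xe12 ye16 ze1) (ke xe12 ye16 ze3) (ke xe14 ye0 ze17)) (@D3.rec (fun _ => Pt) (ke xe16 ye19 ze36) (ke xe14 ye0 ze13) (ke xe13 ye13 ze22) (ke xe19 ye16 ze35) (ke xe17 ye1 ze9) (ke xe18 ye24 ze16) (ke xe19 ye16 ze36) (ke xe19 ye16 ze37) (ke xe17 ye17 ze13) (ke xe18 ye24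 ze33) (ke xe18 ye12 ze32) (ke xe14 ye17 ze8) (ke xe18 ye12 ze33) (ke xe18 ye12 ze34) (ke xe12 ye16 ze5) (ke xe19 ye17 ze10) (ke xe12 ye23 ze8) (ke xe12 ye23 ze9) (ke xe12 ye23 ze10) (ke xe12 ye23 ze11) (ke xe12 ye16 ze8) (ke xe19 ye17 ze13) (ke xe12 ye16 ze10) (ke xe18 ye20 ze20) (ke xe19 ye16 ze19) (ke xe12 ye23 ze14) (ke xe12 ye23 ze15) (ke xe12 ye22 ze22) (ke xe12 ye23 ze17) (ke xe12 ye23 ze18) (ke xe12 ye23 ze19) (ke xe12 ye23 ze21) (ke xe12 ye16 ze19) (ke xe19 ye12 ze39) (ke xe12 ye23 ze23) (ke xe12 ye16 ze22) (ke xe19 ye17 ze17) (ke xe19 ye17 ze18) (ke xe15 ye5 ze17) (ke xe12 ye23 ze28)) (@D3.rec (fun _ => Pt) (ke xe12 ye23 ze29) (ke xe19 ye17 ze24) (ke xe12 ye16 ze25) (ke xe19 ye9 ze27) (ke xe19 ye12 ze38) (ke xe12 ye23 ze31) (ke xe12 ye23 ze32)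 (ke xe19 ye17 ze29) (ke xe12 ye16 ze28) (ke xe19 ye9 ze28) (ke xe19 ye13 ze0) (ke xe18 ye3 ze1) (ke xe19 ye13 ze1) (ke xe12 ye23 ze33) (ke xe19 ye18 ze0) (ke xe12 ye16 ze34) (ke xe19 ye18 ze3) (ke xe18 ye15 ze11) (ke xe12 ye16 ze36) (ke xe12 ye16 ze37) (ke xe15 ye1 ze3) (ke xe18 ye15 ze0) (ke xe12 ye24 ze3) (ke xe14 ye12 ze22) (ke xe16 ye3 ze0) (ke xe17 ye18 ze12) (ke xe15 ye4 ze16) (ke xe12 ye24 ze6) (ke xe12 ye24 ze8) (ke xe12 ye17 ze15) (ke xe13 ye14 ze34) (ke xe12 ye17 ze18) (ke xe12 ye17 ze19) (ke xe12 ye17 ze20) (ke xe12 ye17 ze22) (ke xe14 ye1 ze27) (ke xe16 ye20 ze21) (ke xe14 ye1 ze25) (ke xe13 ye14 ze36) (ke xe19 ye18 ze13)) (@D3.rec (fun _ => Pt) (ke xe16 ye25 ze20) (ke xe19 ye0 ze31) (ke xe19 ye18 ze14) (ke xe19 ye18 ze15) (ke xe17 ye18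 ze38) (ke xe19 ye1 ze8) (ke xe18 ye18 ze34) (ke xe14 ye18 ze21) (ke xe18 ye18 ze35) (ke xe18 ye18 ze36) (ke xe12 ye17 ze24) (ke xe19 ye18 ze28) (ke xe12 ye24 ze20) (ke xe12 ye24 ze21) (ke xe12 ye24 ze22) (ke xe12 ye24 ze23) (ke xe12 ye17 ze27) (ke xe19 ye18 ze31) (ke xe12 ye17 ze29) (ke xe18 ye14 ze32) (ke xe19 ye15 ze12) (ke xe12 ye24 ze26) (ke xe12 ye24 ze27) (ke xe12 ye21 ze9) (ke xe12 ye24 ze29) (ke xe12 ye24 ze30) (ke xe12 ye24 ze31) (ke xe12 ye24 ze33) (ke xe12 ye17 ze38) (ke xe19 ye12 ze28) (ke xe12 ye24 ze35) (ke xe12 ye18 ze1) (ke xe19 ye18 ze35) (ke xe19 ye18 ze36) (ke xe14 ye25 ze17) (ke xe12 ye25 ze0) (ke xe12 ye25 ze1) (ke xe19 ye19 ze2) (ke xe12 ye18 ze4) (ke xe19 ye12 ze27)) (@D3.rec (fun _ => Pt) (ke xe19 ye9 ze30) (ke xe12 ye25 ze3)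 (ke xe12 ye25 ze4) (ke xe19 ye19 ze7) (ke xe12 ye18 ze7) (ke xe19 ye12 ze29) (ke xe19 ye9 ze31) (ke xe19 ye12 ze30) (ke xe18 ye4 ze17) (ke xe12 ye25 ze6) (ke xe19 ye19 ze18) (ke xe12 ye18 ze13) (ke xe18 ye20 ze37) (ke xe19 ye19 ze21) (ke xe12 ye18 ze15) (ke xe12 ye18 ze16) (ke xe18 ye20 ze27) (ke xe15 ye6 ze37) (ke xe14 ye24 ze22) (ke xe15 ye16 ze36) (ke xe13 ye22 ze39) (ke xe14 ye4 ze19) (ke xe15 ye13 ze35) (ke xe15 ye13 ze36) (ke xe15 ye13 ze37) (ke xe15 ye13 ze39) (ke xe15 ye14 ze0) (ke xe12 ye18 ze24) (ke xe19 ye19 ze31) (ke xe19 ye19 ze32) (ke xe15 ye14 ze5) (ke xe17 ye3 ze2) (ke xe17 ye3 ze3) (ke xe17 ye3 ze4) (ke xe17 ye3 ze5) (ke xe17 ye3 ze6) (ke xe19 ye19 ze38) (ke xe12 ye18 ze31) (ke xe19 ye20 ze0) (ke xe17 ye3 ze10)) (@D3.rec (fun _ => Pt)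 (ke xe19 ye19 ze26) (ke xe12 ye18 ze33) (ke xe19 ye20 ze6) (ke xe19 ye20 ze7) (ke xe12 ye18 ze35) (ke xe12 ye18 ze36) (ke xe15 ye4 ze23) (ke xe15 ye20 ze31) (ke xe13 ye24 ze8) (ke xe14 ye5 ze0) (ke xe15 ye14 ze10) (ke xe15 ye14 ze11) (ke xe15 ye14 ze12) (ke xe15 ye14 ze14) (ke xe15 ye14 ze15) (ke xe12 ye19 ze4) (ke xe19 ye20 ze16) (ke xe19 ye20 ze17) (ke xe15 ye14 ze21) (ke xe17 ye3 ze17) (ke xe17 ye3 ze18) (ke xe17 ye3 ze19) (ke xe17 ye3 ze20) (ke xe17 ye3 ze21) (ke xe19 ye20 ze23) (ke xe12 ye19 ze11) (ke xe19 ye20 ze12) (ke xe12 ye19 ze12) (ke xe19 ye20 ze25) (ke xe12 ye19 ze14) (ke xe12 ye19 ze18) (ke xe16 ye22 ze20) (ke xe19 ye12 ze26) (ke xe18 ye14 ze38) (ke xe12 ye19 ze31) (ke xe16 ye22 ze16) (ke xe19 ye12 ze37) (ke xe18 ye20 ze25) (ke xe12 ye20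 ze11) (ke xe12 ye20 ze12)) (@D3.rec (fun _ => Pt) (ke xe18 ye21 ze30) (ke xe12 ye20 ze19) (ke xe12 ye20 ze20) (ke xe12 ye20 ze21) (ke xe12 ye20 ze32) (ke xe19 ye15 ze3) (ke xe19 ye15 ze5) (ke xe19 ye15 ze6) (ke xe19 ye15 ze8) (ke xe19 ye15 ze10) (ke xe19 ye18 ze33) (ke xe19 ye15 ze17) (ke xe19 ye15 ze24) (ke xe19 ye15 ze26) (ke xe17 ye25 ze18) (ke xe18 ye4 ze20) (ke xe12 ye21 ze31) (ke xe12 ye21 ze32) (ke xe18 ye16 ze15) (ke xe12 ye21 ze39) (ke xe12 ye22 ze0) (ke xe12 ye22 ze1) (ke xe12 ye22 ze11) (ke xe19 ye16 ze13) (ke xe19 ye16 ze15) (ke xe19 ye16 ze16) (ke xe19 ye17 ze15) (ke xe19 ye16 ze24) (ke xe17 ye25 ze25) (ke xe18 ye3 ze5) (ke xe15 ye15 ze4) (ke xe16 ye21 ze30) (ke xe18 ye14 ze35) (ke xe18 ye14 ze28) (ke xe19 ye4 ze10) (ke xe14 ye25 ze5) (ke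 xe16 ye14 ze0) (ke xe12 ye23 ze5) (ke xe19 ye14 ze6) (ke xe12 ye23 ze6)) (@D3.rec (fun _ => Pt) (ke xe17 ye25 ze30) (ke xe12 ye23 ze12) (ke xe15 ye7 ze34) (ke xe12 ye23 ze20) (ke xe12 ye23 ze26) (ke xe15 ye5 ze6) (ke xe14 ye25 ze19) (ke xe18 ye13 ze22) (ke xe19 ye17 ze37) (ke xe19 ye17 ze38) (ke xe19 ye17 ze39) (ke xe18 ye20 ze13) (ke xe18 ye20 ze15) (ke xe12 ye23 ze37) (ke xe19 ye20 ze29) (ke xe15 ye15 ze35) (ke xe18 ye20 ze16) (ke xe19 ye5 ze30) (ke xe15 ye5 ze7) (ke xe16 ye21 ze34) (ke xe18 ye20 ze22) (ke xe16 ye15 ze36) (ke xe12 ye24 ze17) (ke xe19 ye14 ze20) (ke xe12 ye24 ze18) (ke xe17 ye25 ze23) (ke xe12 ye24 ze24) (ke xe15 ye2 ze4) (ke xe12 ye24 ze32) (ke xe12 ye24 ze38) (ke xe14 ye25 ze7) (ke xe15 ye5 ze19) (ke xe18 ye19 ze15) (ke xe19 ye19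 ze15) (ke xe19 ye19 ze16) (ke xe19 ye19 ze17) (ke xe18 ye14 ze25) (ke xe18 ye14 ze26) (ke xe12 ye25 ze9) (ke xe19 ye20 ze33)) (@D3.rec (fun _ => Pt) (ke xe19 ye20 ze35) (ke xe12 ye25 ze23) (ke xe12 ye25 ze25) (ke xe12 ye25 ze27) (ke xe19 ye20 ze36) (ke xe12 ye25 ze31) (ke xe12 ye25 ze37) (ke xe13 ye0 ze0) (ke xe19 ye6 ze17) (ke xe19 ye20 ze37) (ke xe13 ye0 ze7) (ke xe13 ye0 ze9) (ke xe13 ye0 ze11) (ke xe19 ye20 ze38) (ke xe13 ye0 ze15) (ke xe13 ye0 ze21) (ke xe13 ye0 ze24) (ke xe19 ye5 ze20) (ke xe17 ye22 ze25) (ke xe14 ye10 ze6) (ke xe15 ye7 ze37) (ke xe15 ye7 ze31) (ke xe14 ye10 ze8) (ke xe17 ye22 ze36) (ke xe14 ye8 ze38) (ke xe15 ye2 ze7) (ke xe15 ye2 ze1) (ke xe14 ye9 ze0) (ke xe13 ye2 ze7) (ke xe13 ye2 ze8) (ke xe16 ye19 ze31) (ke xe13 ye2 ze10)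 (ke xe13 ye2 ze11) (ke xe13 ye2 ze12) (ke xe16 ye20 ze19) (ke xe13 ye2 ze14) (ke xe19 ye20 ze39) (ke xe19 ye8 ze7) (ke xe19 ye21 ze1) (ke xe19 ye8 ze15)) (@D3.rec (fun _ => Pt) (ke xe16 ye9 ze19) (ke xe16 ye11 ze31) (ke xe13 ye23 ze1) (ke xe16 ye9 ze20) (ke xe13 ye24 ze10) (ke xe16 ye11 ze30) (ke xe13 ye10 ze18) (ke xe13 ye14 ze20) (ke xe18 ye22 ze0) (ke xe14 ye3 ze19) (ke xe13 ye11 ze2) (ke xe13 ye13 ze3) (ke xe18 ye16 ze26) (ke xe14 ye3 ze20) (ke xe13 ye4 ze3) (ke xe13 ye4 ze15) (ke xe16 ye18 ze35) (ke xe13 ye4 ze17) (ke xe13 ye4 ze12) (ke xe13 ye4 ze18) (ke xe16 ye18 ze31) (ke xe13 ye4 ze20) (ke xe13 ye4 ze30) (ke xe13 ye4 ze31) (ke xe13 ye4 ze29) (ke xe16 ye22 ze30) (ke xe13 ye4 ze32) (ke xe13 ye4 ze33) (ke xe13 ye4 ze34) (ke xe13 ye4 ze35) (ke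 xe16 ye22 ze25) (ke xe13 ye4 ze36) (ke xe13 ye4 ze37) (ke xe13 ye4 ze38) (ke xe13 ye3 ze29) (ke xe13 ye3 ze30) (ke xe19 ye21 ze7) (ke xe19 ye21 ze10) (ke xe19 ye21 ze8) (ke xe19 ye21 ze11)) (@D3.rec (fun _ => Pt) (ke xe17 ye8 ze1) (ke xe17 ye8 ze6) (ke xe13 ye23 ze3) (ke xe16 ye9 ze32) (ke xe19 ye21 ze23) (ke xe13 ye5 ze3) (ke xe13 ye5 ze5) (ke xe19 ye21 ze24) (ke xe17 ye8 ze21) (ke xe13 ye5 ze7) (ke xe19 ye21 ze27) (ke xe13 ye5 ze9) (ke xe19 ye10 ze31) (ke xe19 ye21 ze31) (ke xe19 ye21 ze32) (ke xe13 ye10 ze17) (ke xe16 ye5 ze25) (ke xe13 ye11 ze14) (ke xe13 ye10 ze21) (ke xe13 ye10 ze22) (ke xe13 ye10 ze23) (ke xe19 ye21 ze39) (ke xe13 ye10 ze25) (ke xe13 ye10 ze26) (ke xe16 ye5 ze26) (ke xe13 ye10 ze28) (ke xe16 ye5 ze27) (ke xe13 ye10 ze32) (ke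 xe13 ye10 ze13) (ke xe13 ye10 ze38) (ke xe13 ye24 ze13) (ke xe16 ye12 ze4) (ke xe19 ye22 ze10) (ke xe13 ye5 ze28) (ke xe13 ye5 ze30) (ke xe19 ye22 ze11) (ke xe17 ye9 ze11) (ke xe13 ye5 ze32) (ke xe19 ye22 ze14) (ke xe13 ye5 ze34)) (@D3.rec (fun _ => Pt) (ke xe19 ye10 ze14) (ke xe19 ye22 ze18) (ke xe19 ye22 ze19) (ke xe13 ye11 ze1) (ke xe16 ye5 ze16) (ke xe13 ye10 ze33) (ke xe13 ye11 ze4) (ke xe13 ye10 ze24) (ke xe13 ye11 ze5) (ke xe19 ye21 ze35) (ke xe13 ye11 ze6) (ke xe13 ye11 ze7) (ke xe16 ye5 ze17) (ke xe13 ye11 ze9) (ke xe16 ye5 ze18) (ke xe13 ye11 ze13) (ke xe13 ye10 ze10) (ke xe13 ye11 ze18) (ke xe16 ye24 ze28) (ke xe14 ye19 ze16) (ke xe19 ye22 ze33) (ke xe18 ye5 ze36) (ke xe17 ye0 ze20) (ke xe14 ye19 ze6) (ke xe19 ye22 ze34) (ke xe18 ye9 ze16)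 (ke xe13 ye12 ze25) (ke xe13 ye12 ze26) (ke xe16 ye24 ze18) (ke xe13 ye6 ze31) (ke xe19 ye22 ze36) (ke xe19 ye14 ze36) (ke xe19 ye14 ze37) (ke xe19 ye14 ze38) (ke xe13 ye12 ze28) (ke xe13 ye12 ze29) (ke xe16 ye12 ze12) (ke xe13 ye12 ze30) (ke xe13 ye6 ze38) (ke xe13 ye24 ze19)) (@D3.rec (fun _ => Pt) (ke xe17 ye8 ze20) (ke xe17 ye8 ze22) (ke xe13 ye7 ze2) (ke xe13 ye7 ze3) (ke xe19 ye23 ze2) (ke xe19 ye23 ze3) (ke xe19 ye23 ze4) (ke xe13 ye7 ze5) (ke xe19 ye14 ze18) (ke xe19 ye16 ze1) (ke xe19 ye14 ze9) (ke xe13 ye12 ze38) (ke xe13 ye12 ze39) (ke xe16 ye11 ze0) (ke xe13 ye13 ze0) (ke xe13 ye13 ze1) (ke xe13 ye13 ze2) (ke xe15 ye4 ze21) (ke xe13 ye13 ze4) (ke xe13 ye13 ze5) (ke xe16 ye16 ze0) (ke xe13 ye13 ze7) (ke xe13 ye13 ze8) (ke xe19 ye23 ze12)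 (ke xe13 ye7 ze12) (ke xe19 ye23 ze13) (ke xe13 ye7 ze13) (ke xe13 ye7 ze15) (ke xe15 ye12 ze10) (ke xe13 ye13 ze15) (ke xe16 ye11 ze17) (ke xe16 ye11 ze18) (ke xe16 ye11 ze19) (ke xe13 ye13 ze17) (ke xe13 ye7 ze21) (ke xe19 ye16 ze38) (ke xe19 ye23 ze18) (ke xe13 ye13 ze27) (ke xe13 ye13 ze28) (ke xe13 ye7 ze26))
def f_e_17 : D2 → D3 → Pt := @D2.rec (fun _ => D3 → Pt) (@D3.rec (fun _ => Pt) (ke xe19 ye23 ze20) (ke xe13 ye7 ze28) (ke xe18 ye16 ze25) (ke xe18 ye24 ze30) (ke xe13 ye7 ze30) (ke xe19 ye23 ze22) (ke xe18 ye7 ze7) (ke xe17 ye9 ze23) (ke xe13 ye7 ze32) (ke xe19 ye23 ze26) (ke xe19 ye23 ze27) (ke xe13 ye7 ze34) (ke xe18 ye13 ze18) (ke xe13 ye13 ze38) (ke xe13 ye13 ze39) (ke xe13 ye14 ze0) (ke xe14 ye10 ze23) (ke xe13 ye14 ze1) (ke xe13 ye14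 ze2) (ke xe13 ye14 ze3) (ke xe16 ye24 ze22) (ke xe13 ye8 ze1) (ke xe19 ye23 ze33) (ke xe19 ye14 ze34) (ke xe19 ye14 ze33) (ke xe19 ye16 ze12) (ke xe13 ye14 ze5) (ke xe13 ye14 ze6) (ke xe16 ye10 ze2) (ke xe13 ye14 ze7) (ke xe13 ye8 ze7) (ke xe13 ye23 ze10) (ke xe17 ye9 ze9) (ke xe17 ye9 ze10) (ke xe13 ye8 ze11) (ke xe13 ye8 ze12) (ke xe19 ye23 ze39) (ke xe19 ye24 ze0) (ke xe19 ye24 ze1) (ke xe13 ye8 ze14)) (@D3.rec (fun _ => Pt) (ke xe19 ye14 ze17) (ke xe13 ye14 ze15) (ke xe13 ye14 ze16) (ke xe16 ye13 ze6) (ke xe13 ye14 ze17) (ke xe13 ye14 ze18) (ke xe14 ye24 ze20) (ke xe13 ye14 ze19) (ke xe13 ye14 ze21) (ke xe16 ye14 ze4) (ke xe13 ye13 ze26) (ke xe13 ye14 ze22) (ke xe19 ye24 ze7) (ke xe13 ye8 ze21) (ke xe19 ye24 ze8) (ke xe13 ye8 ze22) (ke xe13 ye8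 ze24) (ke xe15 ye10 ze13) (ke xe16 ye13 ze18) (ke xe16 ye13 ze19) (ke xe16 ye13 ze20) (ke xe13 ye14 ze30) (ke xe13 ye8 ze30) (ke xe19 ye24 ze11) (ke xe19 ye18 ze16) (ke xe13 ye13 ze6) (ke xe13 ye14 ze39) (ke xe13 ye8 ze35) (ke xe19 ye24 ze13) (ke xe13 ye8 ze37) (ke xe18 ye21 ze38) (ke xe19 ye1 ze5) (ke xe13 ye8 ze39) (ke xe18 ye10 ze27) (ke xe19 ye24 ze15) (ke xe17 ye8 ze34) (ke xe13 ye9 ze1) (ke xe19 ye24 ze19) (ke xe19 ye24 ze20) (ke xe13 ye9 ze3)) (@D3.rec (fun _ => Pt) (ke xe18 ye19 ze11) (ke xe13 ye15 ze9) (ke xe13 ye15 ze10) (ke xe13 ye15 ze11) (ke xe14 ye9 ze15) (ke xe13 ye15 ze12) (ke xe13 ye15 ze14) (ke xe18 ye17 ze34) (ke xe13 ye9 ze8) (ke xe17 ye2 ze28) (ke xe13 ye9 ze26) (ke xe13 ye15 ze15) (ke xe19 ye24 ze28) (ke xe13 ye9 ze11) (ke xe17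 ye2 ze33) (ke xe19 ye24 ze32) (ke xe13 ye9 ze14) (ke xe13 ye9 ze21) (ke xe13 ye15 ze16) (ke xe13 ye9 ze16) (ke xe19 ye24 ze35) (ke xe19 ye24 ze36) (ke xe13 ye9 ze18) (ke xe13 ye9 ze19) (ke xe18 ye15 ze10) (ke xe18 ye7 ze5) (ke xe13 ye15 ze24) (ke xe18 ye22 ze35) (ke xe17 ye2 ze9) (ke xe13 ye15 ze25) (ke xe19 ye25 ze0) (ke xe13 ye9 ze24) (ke xe19 ye24 ze26) (ke xe17 ye2 ze14) (ke xe13 ye15 ze13) (ke xe13 ye9 ze29) (ke xe19 ye25 ze6) (ke xe19 ye25 ze7) (ke xe13 ye9 ze31) (ke xe13 ye9 ze32)) (@D3.rec (fun _ => Pt) (ke xe18 ye10 ze24) (ke xe18 ye20 ze36) (ke xe16 ye17 ze31) (ke xe16 ye17 ze32) (ke xe16 ye17 ze33) (ke xe16 ye17 ze34) (ke xe16 ye17 ze35) (ke xe15 ye3 ze14) (ke xe13 ye9 ze36) (ke xe19 ye25 ze15) (ke xe16 ye17 ze39) (ke xe19 ye25 ze19) (ke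 xe13 ye9 ze38) (ke xe19 ye25 ze22) (ke xe18 ye22 ze23) (ke xe13 ye10 ze0) (ke xe13 ye10 ze1) (ke xe16 ye18 ze19) (ke xe16 ye18 ze20) (ke xe16 ye18 ze21) (ke xe16 ye18 ze22) (ke xe16 ye18 ze23) (ke xe15 ye8 ze39) (ke xe13 ye10 ze5) (ke xe19 ye25 ze29) (ke xe13 ye10 ze6) (ke xe18 ye17 ze21) (ke xe13 ye10 ze8) (ke xe19 ye22 ze31) (ke xe19 ye22 ze6) (ke xe13 ye10 ze16) (ke xe19 ye21 ze37) (ke xe19 ye22 ze1) (ke xe13 ye10 ze27) (ke xe19 ye22 ze2) (ke xe19 ye22 ze3) (ke xe19 ye22 ze4) (ke xe19 ye22 ze5) (ke xe13 ye11 ze37) (ke xe19 ye22 ze7)) (@D3.rec (fun _ => Pt) (ke xe13 ye11 ze0) (ke xe19 ye22 ze23) (ke xe19 ye22 ze26) (ke xe13 ye11 ze8) (ke xe19 ye22 ze27) (ke xe19 ye22 ze28) (ke xe19 ye22 ze29) (ke xe19 ye22 ze30) (ke xe13 ye12 ze17) (ke xe19 ye22 ze32)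 (ke xe13 ye11 ze35) (ke xe13 ye11 ze38) (ke xe13 ye12 ze14) (ke xe13 ye12 ze16) (ke xe13 ye11 ze30) (ke xe17 ye4 ze21) (ke xe13 ye11 ze34) (ke xe19 ye25 ze31) (ke xe18 ye21 ze31) (ke xe13 ye11 ze36) (ke xe19 ye25 ze32) (ke xe17 ye4 ze15) (ke xe13 ye12 ze0) (ke xe17 ye5 ze14) (ke xe13 ye12 ze3) (ke xe13 ye12 ze5) (ke xe13 ye12 ze9) (ke xe17 ye4 ze33) (ke xe13 ye12 ze13) (ke xe19 ye25 ze35) (ke xe18 ye16 ze16) (ke xe13 ye12 ze15) (ke xe19 ye25 ze36) (ke xe17 ye4 ze27) (ke xe13 ye12 ze19) (ke xe17 ye5 ze36) (ke xe13 ye12 ze22) (ke xe13 ye12 ze24) (ke xe16 ye5 ze32) (ke xe13 ye12 ze33)) (@D3.rec (fun _ => Pt) (ke xe17 ye10 ze2) (ke xe16 ye5 ze34) (ke xe16 ye5 ze35) (ke xe19 ye23 ze9) (ke xe19 ye21 ze6) (ke xe13 ye13 ze9) (ke xe13 ye13 ze11) (ke xe20 ye0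 ze2) (ke xe13 ye13 ze13) (ke xe19 ye23 ze16) (ke xe13 ye13 ze16) (ke xe13 ye13 ze19) (ke xe19 ye10 ze38) (ke xe13 ye13 ze24) (ke xe17 ye4 ze23) (ke xe13 ye13 ze31) (ke xe13 ye13 ze32) (ke xe20 ye0 ze5) (ke xe13 ye13 ze34) (ke xe13 ye13 ze36) (ke xe20 ye0 ze8) (ke xe19 ye23 ze31) (ke xe16 ye5 ze39) (ke xe13 ye14 ze10) (ke xe17 ye11 ze16) (ke xe16 ye6 ze1) (ke xe16 ye6 ze2) (ke xe19 ye21 ze5) (ke xe13 ye14 ze23) (ke xe13 ye14 ze25) (ke xe20 ye0 ze12) (ke xe13 ye14 ze27) (ke xe13 ye14 ze29) (ke xe13 ye14 ze32) (ke xe19 ye11 ze2) (ke xe13 ye14 ze37) (ke xe17 ye4 ze35) (ke xe13 ye15 ze2) (ke xe13 ye15 ze3) (ke xe20 ye0 ze15)) (@D3.rec (fun _ => Pt) (ke xe13 ye15 ze5) (ke xe13 ye15 ze7) (ke xe20 ye0 ze18) (ke xe19 ye24 ze24) (ke xe19 ye25 ze5) (ke xe19 ye24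 ze34) (ke xe20 ye0 ze19) (ke xe13 ye15 ze17) (ke xe13 ye15 ze19) (ke xe20 ye0 ze20) (ke xe13 ye15 ze26) (ke xe13 ye15 ze29) (ke xe17 ye10 ze7) (ke xe13 ye15 ze37) (ke xe14 ye9 ze13) (ke xe13 ye16 ze1) (ke xe13 ye16 ze4) (ke xe13 ye16 ze6) (ke xe13 ye16 ze7) (ke xe13 ye16 ze9) (ke xe13 ye16 ze12) (ke xe16 ye0 ze20) (ke xe17 ye11 ze20) (ke xe13 ye16 ze18) (ke xe14 ye10 ze20) (ke xe13 ye16 ze22) (ke xe13 ye16 ze25) (ke xe13 ye16 ze27) (ke xe13 ye16 ze28) (ke xe13 ye16 ze30) (ke xe13 ye16 ze33) (ke xe16 ye0 ze38) (ke xe13 ye16 ze35) (ke xe20 ye0 ze23) (ke xe13 ye16 ze37) (ke xe20 ye0 ze24) (ke xe13 ye16 ze39) (ke xe20 ye0 ze25) (ke xe14 ye11 ze39) (ke xe14 ye12 ze0)) (@D3.rec (fun _ => Pt) (ke xe18 ye7 ze31) (ke xe13 ye17 ze3) (ke xe20 ye0 ze26) (ke xe14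 ye12 ze11) (ke xe14 ye12 ze12) (ke xe18 ye11 ze8) (ke xe20 ye0 ze28) (ke xe14 ye12 ze31) (ke xe14 ye12 ze32) (ke xe20 ye0 ze30) (ke xe14 ye12 ze34) (ke xe14 ye12 ze35) (ke xe19 ye21 ze21) (ke xe14 ye12 ze39) (ke xe18 ye20 ze0) (ke xe13 ye17 ze15) (ke xe18 ye19 ze30) (ke xe14 ye13 ze2) (ke xe19 ye22 ze8) (ke xe14 ye13 ze4) (ke xe18 ye14 ze11) (ke xe13 ye17 ze19) (ke xe18 ye13 ze38) (ke xe14 ye13 ze7) (ke xe13 ye17 ze21) (ke xe20 ye0 ze37) (ke xe13 ye17 ze24) (ke xe18 ye19 ze33) (ke xe20 ye0 ze38) (ke xe14 ye13 ze15) (ke xe14 ye13 ze16) (ke xe14 ye13 ze17) (ke xe13 ye17 ze27) (ke xe20 ye1 ze1) (ke xe13 ye17 ze30) (ke xe18 ye14 ze1) (ke xe20 ye1 ze2) (ke xe14 ye13 ze25) (ke xe14 ye13 ze26) (ke xe14 ye13 ze27)) (@D3.rec (fun _ => Pt) (ke xe20 ye0 ze27)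 (ke xe16 ye23 ze0) (ke xe17 ye23 ze18) (ke xe13 ye17 ze34) (ke xe20 ye0 ze29) (ke xe17 ye23 ze33) (ke xe16 ye23 ze1) (ke xe13 ye17 ze36) (ke xe14 ye14 ze15) (ke xe14 ye14 ze16) (ke xe14 ye14 ze17) (ke xe20 ye1 ze13) (ke xe18 ye17 ze24) (ke xe13 ye18 ze0) (ke xe14 ye14 ze22) (ke xe14 ye14 ze23) (ke xe14 ye14 ze24) (ke xe20 ye1 ze20) (ke xe18 ye14 ze12) (ke xe13 ye18 ze4) (ke xe16 ye25 ze0) (ke xe16 ye23 ze8) (ke xe16 ye25 ze1) (ke xe14 ye14 ze28) (ke xe14 ye14 ze29) (ke xe14 ye14 ze30) (ke xe14 ye14 ze35) (ke xe14 ye14 ze37) (ke xe20 ye1 ze29) (ke xe17 ye16 ze22) (ke xe13 ye18 ze14) (ke xe20 ye1 ze31) (ke xe14 ye15 ze2) (ke xe14 ye15 ze3) (ke xe17 ye1 ze35) (ke xe14 ye15 ze5) (ke xe19 ye18 ze6) (ke xe14 ye15 ze7) (ke xe14 ye15 ze8) (ke xe13 ye18 ze18))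 (@D3.rec (fun _ => Pt) (ke xe17 ye20 ze22) (ke xe14 ye15 ze11) (ke xe17 ye20 ze21) (ke xe13 ye18 ze22) (ke xe18 ye19 ze18) (ke xe20 ye2 ze2) (ke xe14 ye15 ze18) (ke xe14 ye15 ze19) (ke xe14 ye15 ze20) (ke xe17 ye0 ze32) (ke xe17 ye0 ze33) (ke xe16 ye23 ze36) (ke xe14 ye15 ze22) (ke xe14 ye15 ze23) (ke xe14 ye15 ze24) (ke xe14 ye15 ze29) (ke xe14 ye15 ze31) (ke xe20 ye2 ze13) (ke xe17 ye15 ze5) (ke xe13 ye18 ze34) (ke xe20 ye2 ze15) (ke xe14 ye15 ze36) (ke xe14 ye15 ze37) (ke xe17 ye0 ze7) (ke xe14 ye15 ze39) (ke xe19 ye16 ze28) (ke xe14 ye16 ze1) (ke xe14 ye16 ze2) (ke xe13 ye18 ze38) (ke xe17 ye19 ze35) (ke xe14 ye16 ze5) (ke xe17 ye19 ze34) (ke xe13 ye19 ze2) (ke xe18 ye13 ze26) (ke xe20 ye2 ze26) (ke xe14 ye16 ze12) (ke xe14 ye16 ze13) (ke xe14 ye16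 ze14) (ke xe13 ye25 ze19) (ke xe14 ye13 ze11)) (@D3.rec (fun _ => Pt) (ke xe14 ye3 ze22) (ke xe14 ye12 ze30) (ke xe17 ye5 ze0) (ke xe19 ye11 ze14) (ke xe13 ye19 ze11) (ke xe19 ye10 ze4) (ke xe20 ye2 ze32) (ke xe17 ye6 ze12) (ke xe17 ye23 ze20) (ke xe17 ye23 ze17) (ke xe14 ye13 ze14) (ke xe13 ye19 ze20) (ke xe14 ye13 ze32) (ke xe13 ye19 ze22) (ke xe17 ye20 ze3) (ke xe15 ye0 ze4) (ke xe13 ye19 ze27) (ke xe20 ye2 ze35) (ke xe20 ye2 ze36) (ke xe18 ye0 ze23) (ke xe17 ye19 ze30) (ke xe13 ye19 ze31) (ke xe20 ye3 ze2) (ke xe20 ye3 ze3) (ke xe20 ye3 ze4) (ke xe13 ye19 ze33) (ke xe13 ye19 ze34) (ke xe16 ye4 ze35) (ke xe20 ye3 ze10) (ke xe19 ye8 ze18) (ke xe19 ye8 ze19) (ke xe19 ye8 ze14) (ke xe14 ye3 ze30) (ke xe14 ye3 ze31) (ke xe15 ye19 ze7) (ke xe14 ye3 ze32)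 (ke xe14 ye5 ze12) (ke xe19 ye11 ze13) (ke xe16 ye5 ze24) (ke xe15 ye20 ze26)) (@D3.rec (fun _ => Pt) (ke xe13 ye21 ze23) (ke xe20 ye3 ze16) (ke xe13 ye20 ze8) (ke xe14 ye3 ze34) (ke xe14 ye3 ze35) (ke xe14 ye3 ze36) (ke xe15 ye19 ze11) (ke xe14 ye3 ze37) (ke xe14 ye2 ze32) (ke xe15 ye21 ze27) (ke xe19 ye11 ze11) (ke xe14 ye3 ze39) (ke xe14 ye0 ze30) (ke xe14 ye13 ze21) (ke xe14 ye4 ze1) (ke xe14 ye12 ze33) (ke xe17 ye5 ze24) (ke xe19 ye11 ze17) (ke xe13 ye20 ze25) (ke xe20 ye3 ze21) (ke xe17 ye6 ze22) (ke xe19 ye10 ze21) (ke xe17 ye23 ze35) (ke xe17 ye23 ze32) (ke xe14 ye13 ze24) (ke xe13 ye20 ze34) (ke xe14 ye14 ze4) (ke xe13 ye20 ze37) (ke xe17 ye20 ze31) (ke xe15 ye6 ze1) (ke xe13 ye21 ze2) (ke xe20 ye3 ze24) (ke xe20 ye3 ze25) (ke xe18 ye1 ze34)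 (ke xe17 ye20 ze18) (ke xe13 ye21 ze6) (ke xe20 ye3 ze31) (ke xe20 ye3 ze32) (ke xe20 ye3 ze33) (ke xe13 ye21 ze8)) (@D3.rec (fun _ => Pt) (ke xe13 ye21 ze9) (ke xe16 ye5 ze2) (ke xe20 ye3 ze39) (ke xe19 ye8 ze10) (ke xe19 ye8 ze11) (ke xe19 ye8 ze6) (ke xe14 ye4 ze9) (ke xe14 ye4 ze10) (ke xe15 ye22 ze21) (ke xe14 ye4 ze11) (ke xe14 ye4 ze31) (ke xe19 ye11 ze12) (ke xe16 ye5 ze15) (ke xe15 ye16 ze31) (ke xe20 ye3 ze14) (ke xe14 ye4 ze13) (ke xe14 ye4 ze14) (ke xe14 ye4 ze15) (ke xe15 ye18 ze1) (ke xe14 ye4 ze16) (ke xe14 ye2 ze4) (ke xe15 ye18 ze3) (ke xe19 ye11 ze10) (ke xe14 ye4 ze18) (ke xe14 ye19 ze11) (ke xe20 ye4 ze8) (ke xe13 ye21 ze39) (ke xe14 ye19 ze20) (ke xe17 ye12 ze31) (ke xe17 ye13 ze36) (ke xe13 ye22 ze4) (ke xe17 ye12 ze28) (ke xe20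 ye4 ze11) (ke xe17 ye14 ze1) (ke xe13 ye22 ze7) (ke xe20 ye4 ze16) (ke xe20 ye4 ze17) (ke xe20 ye4 ze18) (ke xe13 ye22 ze9) (ke xe13 ye22 ze10)) (@D3.rec (fun _ => Pt) (ke xe17 ye24 ze25) (ke xe20 ye1 ze16) (ke xe17 ye13 ze3) (ke xe17 ye13 ze2) (ke xe18 ye0 ze22) (ke xe14 ye19 ze38) (ke xe14 ye19 ze39) (ke xe14 ye20 ze29) (ke xe14 ye20 ze30) (ke xe14 ye21 ze36) (ke xe20 ye4 ze34) (ke xe13 ye22 ze21) (ke xe14 ye22 ze4) (ke xe17 ye13 ze17) (ke xe17 ye15 ze15) (ke xe13 ye22 ze25) (ke xe20 ye4 ze37) (ke xe17 ye13 ze13) (ke xe17 ye15 ze20) (ke xe13 ye22 ze29) (ke xe20 ye5 ze2) (ke xe20 ye5 ze3) (ke xe20 ye5 ze4) (ke xe13 ye22 ze31) (ke xe13 ye22 ze32) (ke xe17 ye24 ze23) (ke xe20 ye1 ze9) (ke xe17 ye13 ze28) (ke xe17 ye13 ze27) (ke xe18 ye1 ze33) (ke xe14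 ye22 ze22) (ke xe14 ye22 ze23) (ke xe14 ye23 ze13) (ke xe14 ye23 ze14) (ke xe17 ye15 ze27) (ke xe19 ye21 ze3) (ke xe17 ye12 ze29) (ke xe13 ye23 ze4) (ke xe19 ye21 ze22) (ke xe18 ye21 ze20)) (@D3.rec (fun _ => Pt) (ke xe20 ye5 ze18) (ke xe17 ye12 ze33) (ke xe13 ye23 ze7) (ke xe17 ye21 ze1) (ke xe17 ye21 ze0) (ke xe20 ye5 ze21) (ke xe13 ye23 ze9) (ke xe13 ye23 ze11) (ke xe19 ye12 ze24) (ke xe17 ye15 ze13) (ke xe20 ye5 ze26) (ke xe13 ye24 ze20) (ke xe19 ye11 ze35) (ke xe13 ye23 ze19) (ke xe13 ye23 ze17) (ke xe20 ye5 ze30) (ke xe18 ye6 ze9) (ke xe16 ye9 ze25) (ke xe20 ye5 ze29) (ke xe14 ye14 ze34) (ke xe13 ye23 ze22) (ke xe13 ye23 ze23) (ke xe13 ye23 ze24) (ke xe20 ye5 ze35) (ke xe20 ye5 ze36) (ke xe20 ye5 ze37) (ke xe20 ye4 ze29) (ke xe20 ye5 ze39) (ke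 xe20 ye6 ze0) (ke xe13 ye23 ze28) (ke xe13 ye23 ze29) (ke xe20 ye6 ze8) (ke xe13 ye23 ze35) (ke xe19 ye9 ze15) (ke xe20 ye6 ze4) (ke xe16 ye9 ze29) (ke xe20 ye6 ze5) (ke xe20 ye4 ze27) (ke xe20 ye6 ze14) (ke xe13 ye23 ze30)) (@D3.rec (fun _ => Pt) (ke xe20 ye4 ze30) (ke xe17 ye21 ze33) (ke xe17 ye16 ze24) (ke xe17 ye16 ze23) (ke xe16 ye10 ze19) (ke xe17 ye9 ze18) (ke xe17 ye16 ze20) (ke xe17 ye16 ze19) (ke xe19 ye14 ze30) (ke xe14 ye4 ze33) (ke xe14 ye4 ze35) (ke xe14 ye4 ze38) (ke xe14 ye4 ze39) (ke xe17 ye14 ze9) (ke xe19 ye21 ze4) (ke xe17 ye13 ze14) (ke xe13 ye24 ze12) (ke xe18 ye16 ze5) (ke xe20 ye6 ze17) (ke xe19 ye22 ze9) (ke xe17 ye13 ze18) (ke xe13 ye24 ze16) (ke xe17 ye20 ze15) (ke xe17 ye20 ze14) (ke xe20 ye6 ze20) (ke xe13 ye24 ze18) (ke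 xe19 ye12 ze35) (ke xe17 ye13 ze34) (ke xe20 ye5 ze28) (ke xe19 ye11 ze34) (ke xe13 ye24 ze28) (ke xe13 ye24 ze26) (ke xe20 ye6 ze27) (ke xe18 ye9 ze29) (ke xe16 ye11 ze35) (ke xe20 ye6 ze26) (ke xe14 ye15 ze28) (ke xe13 ye24 ze31) (ke xe13 ye24 ze32) (ke xe13 ye24 ze33)) (@D3.rec (fun _ => Pt) (ke xe20 ye6 ze32) (ke xe20 ye6 ze33) (ke xe20 ye6 ze34) (ke xe20 ye5 ze15) (ke xe20 ye6 ze36) (ke xe20 ye6 ze37) (ke xe13 ye24 ze37) (ke xe13 ye24 ze38) (ke xe20 ye7 ze3) (ke xe13 ye25 ze4) (ke xe19 ye9 ze12) (ke xe20 ye7 ze1) (ke xe16 ye12 ze0) (ke xe20 ye7 ze2) (ke xe20 ye5 ze13) (ke xe20 ye7 ze9) (ke xe13 ye24 ze39) (ke xe20 ye5 ze16) (ke xe17 ye21 ze26) (ke xe17 ye15 ze7) (ke xe17 ye15 ze6) (ke xe16 ye12 ze28) (ke xe17 ye8 ze29) (ke xe17 ye15 ze3) (ke xe17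 ye15 ze2) (ke xe19 ye16 ze9) (ke xe14 ye5 ze14) (ke xe14 ye5 ze16) (ke xe14 ye5 ze19) (ke xe14 ye5 ze20) (ke xe16 ye13 ze30) (ke xe18 ye19 ze9) (ke xe13 ye25 ze20) (ke xe17 ye17 ze3) (ke xe13 ye25 ze22) (ke xe13 ye25 ze23) (ke xe20 ye7 ze14) (ke xe13 ye25 ze26) (ke xe19 ye25 ze34) (ke xe20 ye7 ze18)) (@D3.rec (fun _ => Pt) (ke xe14 ye5 ze23) (ke xe13 ye25 ze30) (ke xe20 ye7 ze22) (ke xe17 ye16 ze33) (ke xe13 ye25 ze33) (ke xe13 ye25 ze34) (ke xe13 ye25 ze35) (ke xe20 ye7 ze26) (ke xe20 ye7 ze27) (ke xe20 ye7 ze28) (ke xe20 ye7 ze29) (ke xe13 ye25 ze38) (ke xe13 ye25 ze39) (ke xe16 ye14 ze8) (ke xe14 ye23 ze5) (ke xe20 ye7 ze39) (ke xe20 ye8 ze0) (ke xe19 ye14 ze3) (ke xe14 ye5 ze32) (ke xe14 ye5 ze36) (ke xe14 ye5 ze37) (ke xe14 ye5 ze38) (ke xe14 ye5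 ze39) (ke xe14 ye0 ze12) (ke xe14 ye0 ze14) (ke xe14 ye0 ze15) (ke xe19 ye13 ze9) (ke xe20 ye8 ze6) (ke xe14 ye0 ze9) (ke xe20 ye8 ze7) (ke xe14 ye0 ze21) (ke xe14 ye0 ze22) (ke xe14 ye0 ze23) (ke xe20 ye8 ze3) (ke xe19 ye16 ze39) (ke xe20 ye8 ze4) (ke xe19 ye17 ze0) (ke xe18 ye10 ze1) (ke xe19 ye13 ze8) (ke xe19 ye9 ze18)) (@D3.rec (fun _ => Pt) (ke xe19 ye12 ze12) (ke xe14 ye0 ze16) (ke xe19 ye13 ze28) (ke xe14 ye0 ze18) (ke xe14 ye0 ze20) (ke xe20 ye8 ze20) (ke xe20 ye8 ze8) (ke xe16 ye9 ze24) (ke xe20 ye8 ze9) (ke xe19 ye14 ze4) (ke xe14 ye6 ze12) (ke xe14 ye6 ze14) (ke xe16 ye15 ze25) (ke xe18 ye13 ze5) (ke xe14 ye0 ze31) (ke xe17 ye18 ze25) (ke xe14 ye0 ze34) (ke xe14 ye0 ze33) (ke xe20 ye8 ze29) (ke xe14 ye0 ze37) (ke xe19 ye25 ze38) (ke xe20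 ye8 ze31) (ke xe14 ye6 ze17) (ke xe14 ye1 ze1) (ke xe20 ye8 ze35) (ke xe17 ye18 ze15) (ke xe14 ye1 ze6) (ke xe14 ye1 ze4) (ke xe14 ye1 ze5) (ke xe20 ye9 ze0) (ke xe20 ye9 ze1) (ke xe20 ye9 ze2) (ke xe20 ye8 ze39) (ke xe14 ye1 ze9) (ke xe14 ye1 ze10) (ke xe20 ye9 ze12) (ke xe20 ye9 ze13) (ke xe19 ye15 ze33) (ke xe16 ye16 ze4) (ke xe14 ye20 ze21)) (@D3.rec (fun _ => Pt) (ke xe14 ye6 ze10) (ke xe14 ye6 ze28) (ke xe14 ye6 ze29) (ke xe14 ye6 ze30) (ke xe14 ye6 ze31) (ke xe14 ye1 ze23) (ke xe14 ye1 ze24) (ke xe14 ye1 ze26) (ke xe19 ye13 ze29) (ke xe20 ye9 ze19) (ke xe14 ye1 ze20) (ke xe20 ye9 ze20) (ke xe14 ye1 ze30) (ke xe14 ye1 ze31) (ke xe14 ye1 ze32) (ke xe20 ye9 ze16) (ke xe20 ye9 ze17) (ke xe19 ye18 ze17) (ke xe19 ye18 ze18) (ke xe18 ye6 ze22) (ke xe19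 ye12 ze0) (ke xe19 ye9 ze22) (ke xe14 ye1 ze29) (ke xe20 ye9 ze29) (ke xe20 ye9 ze21) (ke xe16 ye11 ze34) (ke xe20 ye9 ze22) (ke xe19 ye15 ze34) (ke xe14 ye7 ze0) (ke xe14 ye7 ze2) (ke xe17 ye10 ze20) (ke xe14 ye2 ze1) (ke xe20 ye9 ze36) (ke xe16 ye6 ze9) (ke xe17 ye9 ze31) (ke xe17 ye9 ze29) (ke xe20 ye2 ze14) (ke xe15 ye18 ze2) (ke xe14 ye2 ze9) (ke xe15 ye6 ze4)) (@D3.rec (fun _ => Pt) (ke xe20 ye10 ze0) (ke xe16 ye6 ze33) (ke xe14 ye2 ze13) (ke xe17 ye10 ze14) (ke xe14 ye2 ze14) (ke xe14 ye2 ze15) (ke xe14 ye2 ze16) (ke xe18 ye10 ze16) (ke xe20 ye10 ze5) (ke xe20 ye10 ze6) (ke xe20 ye10 ze7) (ke xe14 ye2 ze20) (ke xe15 ye7 ze33) (ke xe18 ye11 ze12) (ke xe17 ye15 ze23) (ke xe17 ye15 ze22) (ke xe20 ye0 ze21) (ke xe14 ye8 ze8) (ke xe17 ye11 ze34) (ke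 xe14 ye2 ze29) (ke xe20 ye10 ze16) (ke xe17 ye9 ze2) (ke xe17 ye9 ze0) (ke xe20 ye1 ze30) (ke xe16 ye6 ze20) (ke xe15 ye19 ze12) (ke xe14 ye2 ze37) (ke xe20 ye10 ze20) (ke xe16 ye7 ze5) (ke xe15 ye0 ze10) (ke xe14 ye3 ze4) (ke xe17 ye11 ze28) (ke xe14 ye3 ze2) (ke xe14 ye3 ze3) (ke xe14 ye3 ze5) (ke xe20 ye10 ze25) (ke xe20 ye10 ze26) (ke xe20 ye10 ze27) (ke xe18 ye6 ze37) (ke xe14 ye3 ze8)) (@D3.rec (fun _ => Pt) (ke xe17 ye14 ze4) (ke xe17 ye14 ze3) (ke xe20 ye0 ze22) (ke xe15 ye2 ze3) (ke xe18 ye7 ze35) (ke xe14 ye7 ze16) (ke xe14 ye3 ze16) (ke xe14 ye3 ze18) (ke xe14 ye3 ze24) (ke xe20 ye3 ze17) (ke xe14 ye4 ze3) (ke xe20 ye4 ze4) (ke xe14 ye4 ze23) (ke xe14 ye4 ze24) (ke xe20 ye10 ze35) (ke xe16 ye9 ze23) (ke xe14 ye5 ze4) (ke xe14 ye5 ze5) (ke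 xe20 ye10 ze36) (ke xe16 ye11 ze36) (ke xe14 ye5 ze30) (ke xe14 ye5 ze31) (ke xe14 ye5 ze34) (ke xe14 ye5 ze35) (ke xe20 ye9 ze15) (ke xe14 ye6 ze11) (ke xe17 ye16 ze18) (ke xe19 ye11 ze38) (ke xe17 ye22 ze35) (ke xe14 ye6 ze23) (ke xe14 ye6 ze26) (ke xe14 ye6 ze27) (ke xe20 ye8 ze2) (ke xe17 ye15 ze1) (ke xe19 ye12 ze10) (ke xe17 ye22 ze24) (ke xe14 ye7 ze9) (ke xe14 ye7 ze12) (ke xe20 ye11 ze0) (ke xe14 ye7 ze13)) (@D3.rec (fun _ => Pt) (ke xe14 ye7 ze14) (ke xe19 ye7 ze19) (ke xe19 ye13 ze32) (ke xe14 ye7 ze23) (ke xe14 ye7 ze26) (ke xe14 ye7 ze27) (ke xe20 ye11 ze6) (ke xe14 ye7 ze29) (ke xe14 ye7 ze31) (ke xe14 ye7 ze32) (ke xe14 ye8 ze1) (ke xe14 ye8 ze4) (ke xe20 ye11 ze11) (ke xe14 ye8 ze5) (ke xe14 ye8 ze6) (ke xe19 ye7 ze36) (ke xe19 ye13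 ze13) (ke xe14 ye8 ze14) (ke xe14 ye8 ze16) (ke xe20 ye11 ze16) (ke xe14 ye8 ze18) (ke xe14 ye8 ze20) (ke xe14 ye11 ze5) (ke xe14 ye8 ze31) (ke xe17 ye21 ze35) (ke xe16 ye21 ze18) (ke xe14 ye10 ze25) (ke xe14 ye9 ze16) (ke xe14 ye9 ze11) (ke xe20 ye11 ze19) (ke xe17 ye23 ze3) (ke xe19 ye0 ze0) (ke xe19 ye6 ze37) (ke xe14 ye11 ze0) (ke xe14 ye9 ze38) (ke xe17 ye21 ze28) (ke xe16 ye21 ze23) (ke xe14 ye10 ze19) (ke xe20 ye11 ze20) (ke xe17 ye23 ze5)) (@D3.rec (fun _ => Pt) (ke xe18 ye23 ze26) (ke xe19 ye7 ze17) (ke xe14 ye11 ze1) (ke xe17 ye22 ze30) (ke xe20 ye11 ze21) (ke xe17 ye22 ze39) (ke xe20 ye11 ze22) (ke xe14 ye11 ze9) (ke xe14 ye11 ze14) (ke xe20 ye11 ze23) (ke xe20 ye11 ze24) (ke xe14 ye11 ze21) (ke xe14 ye11 ze25) (ke xe15 ye6 ze18) (ke xe14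 ye11 ze29) (ke xe15 ye0 ze24) (ke xe19 ye8 ze25) (ke xe17 ye10 ze9) (ke xe17 ye8 ze2) (ke xe14 ye24 ze11) (ke xe17 ye10 ze8) (ke xe14 ye11 ze38) (ke xe20 ye11 ze25) (ke xe18 ye24 ze38) (ke xe18 ye24 ze25) (ke xe15 ye10 ze16) (ke xe18 ye2 ze8) (ke xe18 ye7 ze9) (ke xe18 ye2 ze10) (ke xe18 ye7 ze32) (ke xe18 ye1 ze35) (ke xe19 ye8 ze33) (ke xe17 ye11 ze23) (ke xe17 ye8 ze5) (ke xe15 ye4 ze15) (ke xe17 ye11 ze22) (ke xe14 ye12 ze10) (ke xe20 ye11 ze34) (ke xe19 ye1 ze13) (ke xe19 ye1 ze0)) (@D3.rec (fun _ => Pt) (ke xe15 ye12 ze12) (ke xe18 ye0 ze37) (ke xe18 ye10 ze28) (ke xe18 ye0 ze38) (ke xe18 ye11 ze9) (ke xe18 ye0 ze24) (ke xe20 ye3 ze22) (ke xe14 ye12 ze18) (ke xe20 ye12 ze3) (ke xe14 ye12 ze19) (ke xe20 ye12 ze6) (ke xe14 ye12 ze21) (ke xe20 ye2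 ze33) (ke xe14 ye12 ze23) (ke xe20 ye12 ze8) (ke xe14 ye12 ze24) (ke xe20 ye12 ze11) (ke xe14 ye12 ze26) (ke xe17 ye24 ze18) (ke xe17 ye24 ze19) (ke xe17 ye24 ze20) (ke xe17 ye24 ze21) (ke xe18 ye10 ze3) (ke xe17 ye13 ze25) (ke xe18 ye6 ze24) (ke xe17 ye13 ze0) (ke xe14 ye12 ze38) (ke xe20 ye0 ze32) (ke xe14 ye13 ze1) (ke xe18 ye19 ze31) (ke xe20 ye0 ze33) (ke xe14 ye13 ze3) (ke xe20 ye0 ze35) (ke xe14 ye13 ze6) (ke xe18 ye13 ze39) (ke xe20 ye0 ze36) (ke xe14 ye13 ze9) (ke xe20 ye12 ze21) (ke xe19 ye13 ze34) (ke xe18 ye23 ze35)) (@D3.rec (fun _ => Pt) (ke xe18 ye25 ze34) (ke xe14 ye13 ze13) (ke xe20 ye12 ze25) (ke xe19 ye5 ze2) (ke xe20 ye12 ze26) (ke xe20 ye1 ze0) (ke xe18 ye1 ze7) (ke xe14 ye13 ze19) (ke xe20 ye12 ze32) (ke xe19 ye13 ze14) (ke xe19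 ye0 ze9) (ke xe19 ye2 ze11) (ke xe14 ye13 ze23) (ke xe20 ye12 ze36) (ke xe19 ye6 ze9) (ke xe20 ye12 ze37) (ke xe20 ye1 ze4) (ke xe18 ye2 ze16) (ke xe16 ye19 ze14) (ke xe15 ye22 ze28) (ke xe15 ye2 ze10) (ke xe18 ye12 ze39) (ke xe15 ye18 ze16) (ke xe16 ye20 ze25) (ke xe20 ye13 ze7) (ke xe16 ye19 ze28) (ke xe15 ye19 ze27) (ke xe15 ye8 ze0) (ke xe18 ye18 ze33) (ke xe15 ye21 ze38) (ke xe16 ye20 ze0) (ke xe20 ye13 ze12) (ke xe17 ye25 ze32) (ke xe17 ye25 ze33) (ke xe17 ye25 ze34) (ke xe17 ye25 ze35) (ke xe14 ye14 ze14) (ke xe20 ye1 ze7) (ke xe20 ye1 ze8) (ke xe15 ye11 ze12))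
def f_e_18 : D2 → D3 → Pt := @D2.rec (fun _ => D3 → Pt) (@D3.rec (fun _ => Pt) (ke xe18 ye1 ze25) (ke xe20 ye13 ze19) (ke xe20 ye1 ze11) (ke xe18 ye1 ze26) (ke xe14 ye14 ze18) (ke xe20 ye13 ze22) (ke xe14 ye14 ze19) (ke xe14 ye14 ze21) (ke xe20 ye1 ze14) (ke xe20 ye1 ze15) (ke xe15 ye13 ze10) (ke xe18 ye2 ze36) (ke xe20 ye13 ze27) (ke xe18 ye2 ze37) (ke xe20 ye1 ze18) (ke xe14 ye14 ze25) (ke xe20 ye13 ze30) (ke xe14 ye14 ze26) (ke xe20 ye1 ze25) (ke xe20 ye1 ze26) (ke xe20 ye1 ze27) (ke xe18 ye20 ze2) (ke xe17 ye13 ze4) (ke xe17 ye10 ze19) (ke xe17 ye24 ze5) (ke xe20 ye1 ze28) (ke xe19 ye25 ze37) (ke xe18 ye9 ze33) (ke xe18 ye19 ze3) (ke xe14 ye14 ze38) (ke xe20 ye8 ze23) (ke xe14 ye14 ze39) (ke xe20 ye14 ze1) (ke xe14 ye15 ze1) (ke xe20 ye5 ze34) (ke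 xe20 ye1 ze32) (ke xe20 ye1 ze33) (ke xe17 ye24 ze1) (ke xe17 ye24 ze3) (ke xe20 ye1 ze34)) (@D3.rec (fun _ => Pt) (ke xe18 ye9 ze11) (ke xe20 ye1 ze36) (ke xe14 ye15 ze6) (ke xe20 ye12 ze10) (ke xe20 ye14 ze8) (ke xe20 ye1 ze37) (ke xe18 ye8 ze24) (ke xe17 ye25 ze6) (ke xe14 ye15 ze10) (ke xe20 ye14 ze12) (ke xe18 ye14 ze21) (ke xe20 ye1 ze39) (ke xe14 ye15 ze12) (ke xe20 ye14 ze15) (ke xe20 ye14 ze16) (ke xe14 ye15 ze14) (ke xe20 ye14 ze19) (ke xe20 ye14 ze20) (ke xe14 ye15 ze16) (ke xe14 ye15 ze17) (ke xe20 ye14 ze22) (ke xe20 ye14 ze23) (ke xe20 ye14 ze24) (ke xe20 ye14 ze25) (ke xe20 ye2 ze3) (ke xe18 ye0 ze0) (ke xe18 ye0 ze3) (ke xe18 ye7 ze34) (ke xe20 ye2 ze4) (ke xe20 ye2 ze9) (ke xe20 ye2 ze10) (ke xe18 ye14 ze14) (ke xe20 ye2 ze11) (ke xe17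 ye13 ze29) (ke xe17 ye11 ze33) (ke xe17 ye23 ze30) (ke xe20 ye2 ze12) (ke xe19 ye25 ze33) (ke xe18 ye13 ze9) (ke xe18 ye6 ze14)) (@D3.rec (fun _ => Pt) (ke xe14 ye15 ze32) (ke xe20 ye9 ze32) (ke xe14 ye15 ze33) (ke xe20 ye15 ze6) (ke xe14 ye15 ze35) (ke xe20 ye6 ze31) (ke xe20 ye2 ze16) (ke xe20 ye2 ze17) (ke xe17 ye23 ze26) (ke xe20 ye2 ze18) (ke xe17 ye23 ze28) (ke xe18 ye5 ze31) (ke xe20 ye2 ze20) (ke xe14 ye16 ze0) (ke xe20 ye15 ze13) (ke xe20 ye12 ze5) (ke xe17 ye25 ze17) (ke xe20 ye2 ze21) (ke xe18 ye12 ze1) (ke xe14 ye16 ze4) (ke xe20 ye15 ze16) (ke xe18 ye20 ze9) (ke xe20 ye2 ze23) (ke xe14 ye16 ze6) (ke xe20 ye15 ze19) (ke xe20 ye15 ze20) (ke xe14 ye16 ze8) (ke xe20 ye15 ze23) (ke xe20 ye15 ze24) (ke xe14 ye16 ze10) (ke xe14 ye16 ze11) (ke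 xe20 ye15 ze26) (ke xe20 ye15 ze27) (ke xe20 ye15 ze28) (ke xe20 ye15 ze29) (ke xe20 ye2 ze27) (ke xe18 ye0 ze11) (ke xe18 ye0 ze13) (ke xe18 ye11 ze11) (ke xe20 ye2 ze28)) (@D3.rec (fun _ => Pt) (ke xe16 ye8 ze8) (ke xe16 ye15 ze11) (ke xe20 ye16 ze5) (ke xe14 ye16 ze21) (ke xe20 ye16 ze6) (ke xe16 ye19 ze29) (ke xe18 ye15 ze9) (ke xe14 ye16 ze23) (ke xe20 ye16 ze7) (ke xe14 ye16 ze25) (ke xe20 ye16 ze8) (ke xe20 ye16 ze12) (ke xe14 ye16 ze28) (ke xe20 ye16 ze13) (ke xe19 ye15 ze23) (ke xe20 ye16 ze15) (ke xe14 ye16 ze31) (ke xe20 ye16 ze17) (ke xe14 ye16 ze34) (ke xe18 ye17 ze22) (ke xe14 ye16 ze36) (ke xe20 ye16 ze18) (ke xe14 ye16 ze38) (ke xe20 ye16 ze19) (ke xe20 ye16 ze20) (ke xe19 ye2 ze32) (ke xe19 ye2 ze33) (ke xe19 ye2 ze34) (ke xe19 ye2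 ze35) (ke xe14 ye17 ze5) (ke xe20 ye16 ze24) (ke xe19 ye17 ze3) (ke xe19 ye17 ze8) (ke xe14 ye17 ze10) (ke xe20 ye16 ze26) (ke xe14 ye17 ze12) (ke xe20 ye16 ze27) (ke xe20 ye16 ze28) (ke xe20 ye16 ze29) (ke xe15 ye15 ze25)) (@D3.rec (fun _ => Pt) (ke xe14 ye17 ze16) (ke xe20 ye16 ze31) (ke xe18 ye17 ze12) (ke xe14 ye17 ze19) (ke xe14 ye17 ze20) (ke xe20 ye16 ze36) (ke xe20 ye16 ze37) (ke xe20 ye16 ze38) (ke xe20 ye16 ze39) (ke xe14 ye17 ze23) (ke xe14 ye17 ze24) (ke xe14 ye17 ze25) (ke xe20 ye17 ze5) (ke xe20 ye17 ze4) (ke xe15 ye15 ze33) (ke xe15 ye15 ze34) (ke xe16 ye8 ze33) (ke xe16 ye17 ze8) (ke xe14 ye17 ze34) (ke xe20 ye17 ze8) (ke xe16 ye19 ze15) (ke xe18 ye20 ze35) (ke xe14 ye17 ze36) (ke xe20 ye17 ze9) (ke xe14 ye17 ze38) (ke xe20 ye17 ze10)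 (ke xe20 ye17 ze14) (ke xe14 ye18 ze1) (ke xe19 ye16 ze25) (ke xe20 ye17 ze15) (ke xe20 ye17 ze17) (ke xe14 ye18 ze4) (ke xe20 ye17 ze19) (ke xe14 ye18 ze7) (ke xe18 ye22 ze24) (ke xe14 ye18 ze9) (ke xe20 ye17 ze20) (ke xe14 ye18 ze11) (ke xe20 ye17 ze21) (ke xe20 ye17 ze22)) (@D3.rec (fun _ => Pt) (ke xe19 ye2 ze13) (ke xe19 ye2 ze14) (ke xe19 ye2 ze15) (ke xe19 ye2 ze16) (ke xe14 ye18 ze19) (ke xe20 ye17 ze26) (ke xe19 ye18 ze26) (ke xe19 ye18 ze21) (ke xe14 ye18 ze23) (ke xe20 ye17 ze28) (ke xe14 ye18 ze25) (ke xe20 ye17 ze29) (ke xe20 ye17 ze30) (ke xe20 ye17 ze31) (ke xe15 ye16 ze15) (ke xe14 ye18 ze29) (ke xe20 ye17 ze33) (ke xe18 ye22 ze17) (ke xe14 ye18 ze32) (ke xe14 ye18 ze33) (ke xe20 ye17 ze38) (ke xe20 ye17 ze39) (ke xe20 ye18 ze0) (ke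 xe20 ye18 ze1) (ke xe14 ye18 ze36) (ke xe14 ye18 ze37) (ke xe14 ye18 ze38) (ke xe20 ye18 ze5) (ke xe15 ye16 ze22) (ke xe15 ye16 ze23) (ke xe19 ye23 ze32) (ke xe18 ye2 ze11) (ke xe19 ye23 ze25) (ke xe20 ye7 ze21) (ke xe14 ye19 ze4) (ke xe19 ye23 ze19) (ke xe16 ye24 ze21) (ke xe18 ye11 ze4) (ke xe14 ye19 ze9) (ke xe14 ye19 ze10)) (@D3.rec (fun _ => Pt) (ke xe18 ye6 ze6) (ke xe20 ye18 ze10) (ke xe20 ye18 ze14) (ke xe20 ye4 ze5) (ke xe20 ye18 ze19) (ke xe18 ye6 ze36) (ke xe18 ye6 ze0) (ke xe14 ye19 ze13) (ke xe20 ye18 ze25) (ke xe17 ye14 ze16) (ke xe14 ye19 ze15) (ke xe18 ye7 ze27) (ke xe20 ye18 ze28) (ke xe14 ye19 ze17) (ke xe18 ye1 ze39) (ke xe14 ye19 ze19) (ke xe20 ye18 ze30) (ke xe18 ye25 ze4) (ke xe20 ye4 ze9) (ke xe16 ye8 ze35) (ke xe14 ye19 ze27)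 (ke xe16 ye8 ze37) (ke xe17 ye19 ze19) (ke xe19 ye13 ze24) (ke xe17 ye24 ze24) (ke xe14 ye19 ze32) (ke xe14 ye19 ze31) (ke xe20 ye18 ze23) (ke xe20 ye18 ze36) (ke xe20 ye12 ze18) (ke xe14 ye19 ze34) (ke xe20 ye18 ze39) (ke xe14 ye19 ze36) (ke xe20 ye19 ze0) (ke xe18 ye12 ze19) (ke xe20 ye18 ze13) (ke xe18 ye6 ze5) (ke xe17 ye20 ze38) (ke xe14 ye20 ze1) (ke xe20 ye19 ze4)) (@D3.rec (fun _ => Pt) (ke xe19 ye23 ze24) (ke xe18 ye11 ze37) (ke xe20 ye19 ze9) (ke xe18 ye12 ze0) (ke xe18 ye11 ze31) (ke xe17 ye2 ze25) (ke xe14 ye20 ze5) (ke xe17 ye0 ze6) (ke xe19 ye23 ze21) (ke xe17 ye23 ze27) (ke xe20 ye19 ze15) (ke xe18 ye11 ze38) (ke xe20 ye19 ze18) (ke xe14 ye20 ze9) (ke xe20 ye19 ze19) (ke xe20 ye19 ze20) (ke xe14 ye20 ze13) (ke xe20 ye19 ze21) (ke xe14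 ye22 ze37) (ke xe14 ye20 ze15) (ke xe20 ye19 ze24) (ke xe14 ye20 ze17) (ke xe20 ye19 ze25) (ke xe20 ye19 ze26) (ke xe18 ye12 ze20) (ke xe18 ye12 ze21) (ke xe20 ye9 ze10) (ke xe18 ye6 ze11) (ke xe19 ye9 ze6) (ke xe20 ye0 ze16) (ke xe18 ye12 ze24) (ke xe17 ye7 ze0) (ke xe17 ye23 ze29) (ke xe18 ye25 ze12) (ke xe18 ye1 ze27) (ke xe17 ye21 ze4) (ke xe14 ye20 ze28) (ke xe20 ye4 ze28) (ke xe20 ye14 ze6) (ke xe20 ye19 ze39)) (@D3.rec (fun _ => Pt) (ke xe20 ye20 ze1) (ke xe14 ye20 ze33) (ke xe20 ye20 ze2) (ke xe20 ye20 ze3) (ke xe15 ye9 ze10) (ke xe14 ye20 ze36) (ke xe20 ye20 ze5) (ke xe20 ye20 ze6) (ke xe14 ye20 ze38) (ke xe14 ye20 ze39) (ke xe20 ye20 ze9) (ke xe20 ye20 ze10) (ke xe20 ye20 ze11) (ke xe18 ye10 ze22) (ke xe18 ye11 ze30) (ke xe18 ye11 ze32) (ke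 xe14 ye21 ze4) (ke xe20 ye20 ze18) (ke xe20 ye20 ze19) (ke xe20 ye20 ze20) (ke xe18 ye10 ze20) (ke xe18 ye10 ze30) (ke xe20 ye20 ze26) (ke xe18 ye10 ze23) (ke xe18 ye1 ze6) (ke xe14 ye21 ze8) (ke xe20 ye20 ze30) (ke xe14 ye21 ze9) (ke xe20 ye20 ze32) (ke xe18 ye17 ze17) (ke xe14 ye21 ze11) (ke xe14 ye21 ze12) (ke xe20 ye20 ze36) (ke xe15 ye20 ze10) (ke xe18 ye17 ze20) (ke xe14 ye21 ze15) (ke xe14 ye21 ze16) (ke xe20 ye20 ze33) (ke xe20 ye20 ze31) (ke xe20 ye21 ze3)) (@D3.rec (fun _ => Pt) (ke xe20 ye21 ze4) (ke xe14 ye21 ze19) (ke xe14 ye21 ze20) (ke xe14 ye21 ze21) (ke xe20 ye21 ze6) (ke xe18 ye10 ze13) (ke xe18 ye11 ze1) (ke xe18 ye11 ze2) (ke xe20 ye21 ze15) (ke xe14 ye21 ze26) (ke xe18 ye11 ze7) (ke xe18 ye1 ze0) (ke xe19 ye24 ze18) (ke xe20 ye8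 ze34) (ke xe14 ye21 ze29) (ke xe19 ye24 ze12) (ke xe16 ye24 ze25) (ke xe19 ye22 ze35) (ke xe18 ye9 ze26) (ke xe14 ye21 ze34) (ke xe14 ye21 ze35) (ke xe20 ye21 ze21) (ke xe20 ye21 ze25) (ke xe20 ye4 ze31) (ke xe20 ye21 ze29) (ke xe18 ye10 ze15) (ke xe18 ye9 ze18) (ke xe14 ye21 ze38) (ke xe20 ye21 ze35) (ke xe17 ye15 ze33) (ke xe14 ye22 ze0) (ke xe20 ye21 ze37) (ke xe14 ye22 ze1) (ke xe18 ye0 ze27) (ke xe14 ye22 ze3) (ke xe20 ye21 ze39) (ke xe19 ye1 ze17) (ke xe20 ye4 ze35) (ke xe16 ye8 ze10) (ke xe14 ye22 ze11)) (@D3.rec (fun _ => Pt) (ke xe16 ye8 ze12) (ke xe17 ye17 ze37) (ke xe19 ye13 ze4) (ke xe17 ye24 ze22) (ke xe14 ye22 ze16) (ke xe14 ye22 ze15) (ke xe20 ye21 ze33) (ke xe20 ye19 ze22) (ke xe20 ye12 ze17) (ke xe14 ye22 ze18) (ke xe20 ye22 ze5) (ke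 xe14 ye22 ze20) (ke xe20 ye22 ze6) (ke xe18 ye9 ze5) (ke xe20 ye21 ze24) (ke xe18 ye9 ze25) (ke xe17 ye20 ze7) (ke xe14 ye22 ze25) (ke xe20 ye22 ze10) (ke xe19 ye24 ze17) (ke xe18 ye8 ze20) (ke xe20 ye22 ze15) (ke xe18 ye8 ze13) (ke xe18 ye8 ze23) (ke xe17 ye3 ze0) (ke xe14 ye22 ze29) (ke xe19 ye24 ze14) (ke xe17 ye1 ze33) (ke xe17 ye24 ze2) (ke xe20 ye22 ze20) (ke xe18 ye8 ze21) (ke xe20 ye22 ze22) (ke xe14 ye22 ze33) (ke xe20 ye22 ze23) (ke xe20 ye22 ze24) (ke xe20 ye19 ze23) (ke xe14 ye22 ze39) (ke xe20 ye20 ze35) (ke xe14 ye23 ze1) (ke xe20 ye22 ze25)) (@D3.rec (fun _ => Pt) (ke xe20 ye22 ze26) (ke xe18 ye9 ze6) (ke xe18 ye9 ze7) (ke xe20 ye7 ze31) (ke xe18 ye5 ze37) (ke xe19 ye8 ze39) (ke xe20 ye0 ze6) (ke xe18 ye9 ze10) (ke xe17 ye7 ze5) (ke xe17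 ye24 ze4) (ke xe19 ye1 ze25) (ke xe18 ye2 ze38) (ke xe17 ye20 ze13) (ke xe14 ye23 ze12) (ke xe20 ye5 ze14) (ke xe20 ye15 ze11) (ke xe20 ye22 ze36) (ke xe20 ye22 ze38) (ke xe14 ye23 ze17) (ke xe20 ye22 ze39) (ke xe20 ye23 ze0) (ke xe15 ye3 ze24) (ke xe14 ye23 ze20) (ke xe20 ye23 ze2) (ke xe20 ye23 ze3) (ke xe14 ye23 ze22) (ke xe14 ye23 ze23) (ke xe20 ye23 ze5) (ke xe20 ye23 ze6) (ke xe20 ye23 ze7) (ke xe18 ye8 ze14) (ke xe18 ye7 ze4) (ke xe18 ye8 ze15) (ke xe14 ye23 ze28) (ke xe20 ye23 ze12) (ke xe20 ye23 ze13) (ke xe20 ye23 ze14) (ke xe18 ye7 ze1) (ke xe18 ye7 ze11) (ke xe20 ye23 ze18)) (@D3.rec (fun _ => Pt) (ke xe18 ye7 ze3) (ke xe18 ye2 ze18) (ke xe14 ye23 ze32) (ke xe20 ye23 ze22) (ke xe14 ye23 ze33) (ke xe18 ye22 ze21) (ke xe14 ye23 ze35) (ke xe15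 ye22 ze37) (ke xe18 ye22 ze22) (ke xe14 ye23 ze38) (ke xe14 ye23 ze39) (ke xe20 ye23 ze24) (ke xe20 ye23 ze23) (ke xe20 ye23 ze29) (ke xe20 ye23 ze30) (ke xe14 ye24 ze2) (ke xe14 ye24 ze3) (ke xe14 ye24 ze4) (ke xe20 ye23 ze32) (ke xe18 ye6 ze34) (ke xe18 ye7 ze24) (ke xe18 ye7 ze25) (ke xe20 ye23 ze39) (ke xe14 ye24 ze9) (ke xe18 ye7 ze30) (ke xe19 ye16 ze31) (ke xe19 ye16 ze32) (ke xe19 ye16 ze33) (ke xe15 ye16 ze25) (ke xe20 ye24 ze0) (ke xe14 ye24 ze19) (ke xe14 ye24 ze21) (ke xe16 ye14 ze10) (ke xe16 ye14 ze12) (ke xe16 ye14 ze13) (ke xe20 ye2 ze24) (ke xe19 ye24 ze6) (ke xe20 ye24 ze1) (ke xe18 ye20 ze39) (ke xe17 ye25 ze21)) (@D3.rec (fun _ => Pt) (ke xe16 ye12 ze19) (ke xe19 ye16 ze10) (ke xe14 ye24 ze29) (ke xe15 ye16 ze39) (ke xe18 ye20 ze32)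 (ke xe17 ye18 ze13) (ke xe20 ye24 ze7) (ke xe14 ye24 ze35) (ke xe20 ye24 ze8) (ke xe18 ye1 ze38) (ke xe14 ye24 ze36) (ke xe20 ye24 ze10) (ke xe14 ye24 ze38) (ke xe20 ye24 ze11) (ke xe15 ye17 ze4) (ke xe20 ye24 ze13) (ke xe14 ye25 ze0) (ke xe15 ye17 ze8) (ke xe17 ye0 ze12) (ke xe15 ye17 ze9) (ke xe14 ye25 ze6) (ke xe16 ye2 ze27) (ke xe16 ye20 ze7) (ke xe19 ye19 ze1) (ke xe16 ye4 ze12) (ke xe15 ye12 ze4) (ke xe17 ye9 ze33) (ke xe14 ye25 ze11) (ke xe19 ye16 ze26) (ke xe19 ye18 ze39) (ke xe19 ye19 ze0) (ke xe15 ye17 ze17) (ke xe20 ye24 ze18) (ke xe20 ye24 ze19) (ke xe20 ye24 ze21) (ke xe14 ye25 ze22) (ke xe18 ye16 ze20) (ke xe15 ye17 ze20) (ke xe17 ye7 ze22) (ke xe17 ye24 ze34)) (@D3.rec (fun _ => Pt) (ke xe14 ye25 ze24) (ke xe17 ye7 ze35) (ke xe14 ye25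 ze27) (ke xe20 ye24 ze25) (ke xe14 ye25 ze29) (ke xe20 ye24 ze27) (ke xe14 ye25 ze31) (ke xe18 ye15 ze5) (ke xe20 ye24 ze30) (ke xe19 ye21 ze20) (ke xe14 ye25 ze33) (ke xe17 ye7 ze20) (ke xe17 ye8 ze18) (ke xe14 ye25 ze34) (ke xe18 ye1 ze31) (ke xe19 ye24 ze3) (ke xe14 ye25 ze36) (ke xe19 ye23 ze38) (ke xe15 ye12 ze18) (ke xe19 ye0 ze17) (ke xe15 ye12 ze9) (ke xe18 ye1 ze10) (ke xe15 ye0 ze16) (ke xe15 ye0 ze18) (ke xe15 ye0 ze20) (ke xe16 ye20 ze36) (ke xe16 ye20 ze37) (ke xe16 ye2 ze28) (ke xe16 ye19 ze33) (ke xe15 ye24 ze14) (ke xe19 ye0 ze30) (ke xe15 ye12 ze27) (ke xe16 ye16 ze19) (ke xe15 ye8 ze18) (ke xe15 ye22 ze19) (ke xe16 ye19 ze32) (ke xe16 ye4 ze39) (ke xe16 ye5 ze1) (ke xe16 ye18 ze33) (ke xe19 ye0 ze28)) (@D3.rec (fun _ => Pt) (ke xe16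 ye15 ze21) (ke xe15 ye0 ze38) (ke xe20 ye25 ze0) (ke xe20 ye13 ze6) (ke xe15 ye1 ze0) (ke xe18 ye14 ze7) (ke xe18 ye20 ze31) (ke xe15 ye18 ze8) (ke xe15 ye18 ze9) (ke xe18 ye3 ze6) (ke xe17 ye2 ze24) (ke xe16 ye15 ze17) (ke xe18 ye21 ze39) (ke xe15 ye7 ze2) (ke xe15 ye1 ze8) (ke xe18 ye18 ze32) (ke xe15 ye7 ze4) (ke xe15 ye7 ze5) (ke xe15 ye1 ze12) (ke xe15 ye1 ze13) (ke xe20 ye13 ze5) (ke xe20 ye25 ze7) (ke xe15 ye1 ze17) (ke xe20 ye25 ze9) (ke xe18 ye21 ze15) (ke xe20 ye25 ze10) (ke xe15 ye1 ze18) (ke xe20 ye25 ze13) (ke xe20 ye25 ze12) (ke xe15 ye1 ze20) (ke xe15 ye1 ze21) (ke xe15 ye7 ze11) (ke xe15 ye7 ze15) (ke xe18 ye21 ze13) (ke xe15 ye1 ze23) (ke xe20 ye25 ze16) (ke xe20 ye21 ze2) (ke xe15 ye1 ze25) (ke xe18 ye21 ze9) (ke xe20 ye9 ze3)) (@D3.rec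 (fun _ => Pt) (ke xe18 ye21 ze3) (ke xe15 ye1 ze27) (ke xe15 ye1 ze28) (ke xe15 ye1 ze29) (ke xe19 ye14 ze10) (ke xe17 ye15 ze17) (ke xe20 ye25 ze20) (ke xe20 ye25 ze23) (ke xe20 ye6 ze24) (ke xe20 ye6 ze23) (ke xe15 ye18 ze34) (ke xe15 ye24 ze4) (ke xe19 ye11 ze7) (ke xe15 ye18 ze35) (ke xe20 ye0 ze17) (ke xe16 ye19 ze18) (ke xe17 ye4 ze30) (ke xe15 ye18 ze36) (ke xe15 ye18 ze37) (ke xe20 ye13 ze4) (ke xe18 ye13 ze36) (ke xe15 ye16 ze26) (ke xe15 ye8 ze15) (ke xe18 ye21 ze37) (ke xe15 ye18 ze38) (ke xe17 ye0 ze2) (ke xe16 ye22 ze12) (ke xe15 ye6 ze32) (ke xe18 ye20 ze38) (ke xe15 ye2 ze26) (ke xe20 ye25 ze29) (ke xe15 ye19 ze0) (ke xe19 ye18 ze12) (ke xe20 ye25 ze30) (ke xe15 ye2 ze31) (ke xe15 ye2 ze32) (ke xe20 ye25 ze31) (ke xe15 ye2 ze35) (ke xe15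 ye2 ze36) (ke xe16 ye7 ze17)) (@D3.rec (fun _ => Pt) (ke xe19 ye20 ze5) (ke xe15 ye2 ze38) (ke xe20 ye25 ze33) (ke xe18 ye23 ze14) (ke xe15 ye13 ze38) (ke xe15 ye3 ze0) (ke xe15 ye3 ze1) (ke xe20 ye25 ze37) (ke xe18 ye23 ze21) (ke xe20 ye25 ze38) (ke xe15 ye3 ze5) (ke xe15 ye3 ze6) (ke xe18 ye4 ze2) (ke xe16 ye4 ze27) (ke xe15 ye4 ze3) (ke xe15 ye3 ze8) (ke xe21 ye0 ze3) (ke xe18 ye8 ze29) (ke xe15 ye3 ze10) (ke xe19 ye25 ze14) (ke xe18 ye8 ze34) (ke xe17 ye3 ze26) (ke xe18 ye3 ze19) (ke xe16 ye4 ze17) (ke xe17 ye8 ze12) (ke xe15 ye3 ze19) (ke xe15 ye18 ze26) (ke xe20 ye23 ze26) (ke xe15 ye3 ze21) (ke xe18 ye22 ze30) (ke xe15 ye3 ze22) (ke xe20 ye23 ze1) (ke xe21 ye0 ze9) (ke xe15 ye3 ze25) (ke xe17 ye2 ze7) (ke xe15 ye3 ze26) (ke xe21 ye0 ze12) (ke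 xe21 ye0 ze13) (ke xe15 ye3 ze30) (ke xe15 ye3 ze28)) (@D3.rec (fun _ => Pt) (ke xe15 ye3 ze29) (ke xe20 ye20 ze39) (ke xe21 ye0 ze15) (ke xe21 ye0 ze14) (ke xe15 ye3 ze33) (ke xe15 ye3 ze34) (ke xe15 ye3 ze35) (ke xe20 ye25 ze15) (ke xe15 ye3 ze39) (ke xe15 ye4 ze0) (ke xe15 ye3 ze38) (ke xe21 ye0 ze17) (ke xe21 ye0 ze18) (ke xe21 ye0 ze19) (ke xe18 ye22 ze8) (ke xe15 ye4 ze6) (ke xe15 ye4 ze7) (ke xe15 ye4 ze8) (ke xe20 ye14 ze0) (ke xe21 ye0 ze20) (ke xe19 ye20 ze9) (ke xe18 ye22 ze12) (ke xe19 ye14 ze2) (ke xe15 ye20 ze17) (ke xe15 ye20 ze20) (ke xe19 ye18 ze10) (ke xe19 ye18 ze11) (ke xe15 ye4 ze20) (ke xe15 ye4 ze22) (ke xe20 ye2 ze0) (ke xe19 ye23 ze11) (ke xe21 ye0 ze25) (ke xe18 ye15 ze15) (ke xe17 ye25 ze28) (ke xe16 ye16 ze6) (ke xe16 ye16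 ze8) (ke xe16 ye16 ze9) (ke xe19 ye14 ze32) (ke xe15 ye4 ze28) (ke xe15 ye20 ze34)) (@D3.rec (fun _ => Pt) (ke xe16 ye10 ze9) (ke xe21 ye0 ze29) (ke xe15 ye4 ze35) (ke xe18 ye0 ze28) (ke xe15 ye4 ze36) (ke xe21 ye0 ze31) (ke xe15 ye4 ze38) (ke xe20 ye24 ze15) (ke xe15 ye20 ze39) (ke xe17 ye16 ze31) (ke xe15 ye21 ze2) (ke xe17 ye2 ze0) (ke xe15 ye21 ze3) (ke xe15 ye5 ze5) (ke xe16 ye2 ze30) (ke xe16 ye20 ze32) (ke xe19 ye17 ze22) (ke xe15 ye10 ze9) (ke xe17 ye9 ze4) (ke xe15 ye5 ze10) (ke xe16 ye3 ze26) (ke xe19 ye15 ze27) (ke xe19 ye17 ze21) (ke xe19 ye17 ze23) (ke xe15 ye21 ze10) (ke xe21 ye0 ze36) (ke xe21 ye0 ze37) (ke xe21 ye0 ze39) (ke xe15 ye5 ze22) (ke xe18 ye21 ze35) (ke xe17 ye7 ze16) (ke xe17 ye24 ze29) (ke xe15 ye5 ze24) (ke xe17 ye7 ze27)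 (ke xe15 ye5 ze27) (ke xe21 ye1 ze2) (ke xe15 ye5 ze29) (ke xe21 ye1 ze4) (ke xe19 ye21 ze19) (ke xe15 ye5 ze31)) (@D3.rec (fun _ => Pt) (ke xe17 ye7 ze14) (ke xe15 ye5 ze32) (ke xe18 ye0 ze21) (ke xe19 ye23 ze6) (ke xe15 ye5 ze34) (ke xe19 ye23 ze1) (ke xe15 ye10 ze23) (ke xe18 ye24 ze2) (ke xe15 ye10 ze14) (ke xe18 ye2 ze21) (ke xe15 ye6 ze10) (ke xe15 ye6 ze13) (ke xe15 ye6 ze14) (ke xe16 ye20 ze11) (ke xe16 ye2 ze31) (ke xe16 ye20 ze12) (ke xe16 ye20 ze16) (ke xe15 ye23 ze19) (ke xe18 ye24 ze18) (ke xe15 ye10 ze30) (ke xe16 ye14 ze23) (ke xe15 ye19 ze2) (ke xe16 ye20 ze20) (ke xe16 ye4 ze32) (ke xe16 ye4 ze34) (ke xe16 ye18 ze37) (ke xe18 ye24 ze13) (ke xe16 ye17 ze16) (ke xe20 ye25 ze2) (ke xe20 ye13 ze11) (ke xe15 ye6 ze34) (ke xe18 ye15 ze6)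 (ke xe18 ye13 ze4) (ke xe15 ye21 ze31) (ke xe15 ye18 ze6) (ke xe18 ye4 ze21) (ke xe17 ye3 ze1) (ke xe16 ye17 ze12) (ke xe18 ye16 ze28) (ke xe18 ye12 ze38)) (@D3.rec (fun _ => Pt) (ke xe20 ye13 ze10) (ke xe21 ye1 ze17) (ke xe15 ye7 ze7) (ke xe18 ye16 ze0) (ke xe21 ye1 ze19) (ke xe15 ye7 ze8) (ke xe21 ye1 ze21) (ke xe21 ye1 ze20) (ke xe15 ye7 ze10) (ke xe18 ye15 ze38) (ke xe15 ye7 ze13) (ke xe21 ye1 ze23) (ke xe20 ye23 ze28) (ke xe18 ye15 ze33) (ke xe20 ye7 ze33) (ke xe18 ye15 ze24) (ke xe15 ye7 ze17) (ke xe15 ye7 ze18) (ke xe15 ye7 ze19) (ke xe19 ye14 ze11) (ke xe17 ye13 ze39) (ke xe21 ye1 ze25) (ke xe21 ye1 ze28) (ke xe20 ye5 ze25) (ke xe20 ye5 ze24) (ke xe15 ye22 ze14) (ke xe15 ye23 ze9) (ke xe19 ye11 ze9) (ke xe15 ye22 ze15) (ke xe20 ye0 ze7) (ke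 xe16 ye19 ze0) (ke xe17 ye4 ze18) (ke xe15 ye22 ze16) (ke xe15 ye22 ze17) (ke xe20 ye13 ze9) (ke xe18 ye19 ze29) (ke xe15 ye18 ze39) (ke xe18 ye16 ze23) (ke xe17 ye1 ze30) (ke xe18 ye15 ze12)) (@D3.rec (fun _ => Pt) (ke xe16 ye22 ze8) (ke xe15 ye8 ze17) (ke xe20 ye24 ze37) (ke xe15 ye8 ze21) (ke xe15 ye8 ze22) (ke xe16 ye7 ze32) (ke xe19 ye20 ze24) (ke xe15 ye8 ze24) (ke xe18 ye18 ze14) (ke xe15 ye14 ze13) (ke xe15 ye8 ze26) (ke xe15 ye8 ze27) (ke xe18 ye18 ze21) (ke xe21 ye1 ze35) (ke xe21 ye1 ze36) (ke xe15 ye8 ze30) (ke xe15 ye8 ze32) (ke xe18 ye5 ze17) (ke xe16 ye4 ze1) (ke xe15 ye9 ze28) (ke xe15 ye8 ze34) (ke xe18 ye12 ze5) (ke xe18 ye12 ze8) (ke xe17 ye3 ze14) (ke xe18 ye4 ze34) (ke xe16 ye3 ze31) (ke xe15 ye9 ze4) (ke xe15 ye22 ze6) (ke xe20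 ye21 ze0) (ke xe15 ye9 ze6) (ke xe18 ye17 ze29) (ke xe15 ye9 ze7) (ke xe21 ye2 ze4) (ke xe20 ye20 ze4) (ke xe15 ye9 ze9) (ke xe17 ye2 ze27) (ke xe15 ye9 ze11) (ke xe21 ye2 ze7) (ke xe21 ye2 ze8) (ke xe15 ye9 ze15)) (@D3.rec (fun _ => Pt) (ke xe15 ye9 ze13) (ke xe15 ye9 ze14) (ke xe21 ye2 ze10) (ke xe20 ye23 ze25) (ke xe21 ye2 ze9) (ke xe15 ye9 ze18) (ke xe15 ye9 ze19) (ke xe15 ye9 ze20) (ke xe15 ye9 ze24) (ke xe15 ye9 ze25) (ke xe15 ye9 ze23) (ke xe21 ye2 ze11) (ke xe21 ye2 ze12) (ke xe21 ye2 ze13) (ke xe18 ye17 ze3) (ke xe15 ye9 ze31) (ke xe15 ye9 ze32) (ke xe15 ye9 ze33) (ke xe20 ye15 ze4) (ke xe21 ye2 ze14) (ke xe19 ye20 ze26) (ke xe18 ye17 ze8) (ke xe19 ye15 ze32) (ke xe15 ye23 ze4) (ke xe15 ye23 ze7) (ke xe15 ye10 ze3) (ke xe17 ye23 ze0) (ke xe15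 ye10 ze6) (ke xe21 ye0 ze34) (ke xe15 ye17 ze21) (ke xe21 ye2 ze19) (ke xe15 ye10 ze11) (ke xe19 ye24 ze10) (ke xe21 ye1 ze8) (ke xe21 ye0 ze35) (ke xe17 ye24 ze39) (ke xe15 ye10 ze15) (ke xe21 ye2 ze25) (ke xe20 ye11 ze30) (ke xe20 ye11 ze28)) (@D3.rec (fun _ => Pt) (ke xe15 ye10 ze18) (ke xe15 ye10 ze19) (ke xe18 ye20 ze7) (ke xe21 ye1 ze6) (ke xe15 ye10 ze24) (ke xe20 ye22 ze19) (ke xe21 ye2 ze29) (ke xe15 ye10 ze26) (ke xe15 ye10 ze27) (ke xe21 ye2 ze31) (ke xe21 ye2 ze32) (ke xe19 ye4 ze17) (ke xe15 ye10 ze28) (ke xe18 ye20 ze26) (ke xe20 ye11 ze9) (ke xe15 ye10 ze31) (ke xe16 ye14 ze5) (ke xe21 ye1 ze9) (ke xe18 ye20 ze18) (ke xe19 ye4 ze19) (ke xe19 ye13 ze12) (ke xe15 ye10 ze35) (ke xe21 ye2 ze39) (ke xe21 ye3 ze0) (ke xe15 ye10 ze36) (ke xe17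 ye23 ze24) (ke xe21 ye3 ze3) (ke xe21 ye3 ze2) (ke xe15 ye10 ze38) (ke xe15 ye10 ze39) (ke xe17 ye0 ze3) (ke xe20 ye19 ze33) (ke xe15 ye11 ze3) (ke xe16 ye14 ze9) (ke xe21 ye3 ze6) (ke xe16 ye12 ze22) (ke xe21 ye3 ze8) (ke xe15 ye11 ze5) (ke xe17 ye23 ze23) (ke xe19 ye11 ze25)) (@D3.rec (fun _ => Pt) (ke xe15 ye11 ze9) (ke xe15 ye11 ze7) (ke xe15 ye11 ze8) (ke xe19 ye12 ze17) (ke xe18 ye6 ze17) (ke xe16 ye7 ze13) (ke xe20 ye14 ze38) (ke xe15 ye11 ze13) (ke xe15 ye11 ze14) (ke xe15 ye11 ze15) (ke xe21 ye2 ze37) (ke xe20 ye19 ze34) (ke xe18 ye7 ze33) (ke xe15 ye11 ze18) (ke xe15 ye11 ze19) (ke xe19 ye5 ze9) (ke xe16 ye10 ze6) (ke xe20 ye25 ze25) (ke xe19 ye17 ze7) (ke xe15 ye23 ze37) (ke xe19 ye15 ze4) (ke xe15 ye23 ze38) (ke xe15 ye11 ze26) (ke xe15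 ye11 ze27) (ke xe21 ye3 ze14) (ke xe19 ye14 ze12) (ke xe19 ye14 ze13) (ke xe15 ye11 ze31) (ke xe16 ye4 ze31) (ke xe16 ye3 ze24) (ke xe16 ye10 ze3) (ke xe16 ye10 ze1) (ke xe15 ye11 ze34) (ke xe15 ye11 ze35) (ke xe17 ye25 ze0) (ke xe19 ye14 ze15) (ke xe19 ye18 ze30) (ke xe21 ye3 ze15) (ke xe19 ye10 ze10) (ke xe15 ye11 ze39))
def f_e_19 : D2 → D3 → Pt := @D2.rec (fun _ => D3 → Pt) (@D3.rec (fun _ => Pt) (ke xe17 ye22 ze31) (ke xe15 ye12 ze2) (ke xe20 ye24 ze16) (ke xe15 ye17 ze19) (ke xe21 ye3 ze17) (ke xe15 ye12 ze7) (ke xe20 ye24 ze34) (ke xe19 ye23 ze15) (ke xe20 ye24 ze17) (ke xe17 ye25 ze10) (ke xe15 ye12 ze11) (ke xe21 ye3 ze23) (ke xe20 ye11 ze39) (ke xe20 ye11 ze37) (ke xe15 ye12 ze14) (ke xe15 ye12 ze15) (ke xe20 ye24 ze32) (ke xe18 ye14 ze19)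 (ke xe15 ye12 ze20) (ke xe21 ye3 ze27) (ke xe20 ye19 ze13) (ke xe15 ye12 ze22) (ke xe15 ye12 ze23) (ke xe21 ye3 ze29) (ke xe21 ye3 ze30) (ke xe19 ye5 ze36) (ke xe15 ye12 ze24) (ke xe20 ye11 ze5) (ke xe18 ye14 ze39) (ke xe15 ye12 ze26) (ke xe18 ye14 ze30) (ke xe16 ye16 ze1) (ke xe20 ye24 ze35) (ke xe19 ye5 ze38) (ke xe19 ye13 ze33) (ke xe15 ye12 ze31) (ke xe21 ye3 ze37) (ke xe21 ye3 ze38) (ke xe15 ye12 ze32) (ke xe21 ye4 ze1)) (@D3.rec (fun _ => Pt) (ke xe17 ye23 ze39) (ke xe21 ye4 ze0) (ke xe15 ye12 ze34) (ke xe15 ye12 ze35) (ke xe20 ye22 ze31) (ke xe17 ye1 ze31) (ke xe15 ye12 ze38) (ke xe21 ye4 ze4) (ke xe16 ye16 ze5) (ke xe16 ye10 ze13) (ke xe21 ye4 ze6) (ke xe15 ye13 ze1) (ke xe19 ye11 ze32) (ke xe17 ye23 ze38) (ke xe15 ye13 ze5) (ke xe15 ye13 ze3)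 (ke xe15 ye13 ze4) (ke xe18 ye9 ze36) (ke xe16 ye7 ze1) (ke xe19 ye12 ze5) (ke xe20 ye16 ze2) (ke xe15 ye13 ze8) (ke xe15 ye13 ze9) (ke xe15 ye13 ze11) (ke xe20 ye22 ze32) (ke xe18 ye11 ze10) (ke xe21 ye3 ze34) (ke xe15 ye13 ze14) (ke xe15 ye13 ze15) (ke xe16 ye12 ze16) (ke xe21 ye1 ze30) (ke xe19 ye18 ze25) (ke xe19 ye4 ze30) (ke xe15 ye24 ze32) (ke xe19 ye16 ze14) (ke xe15 ye24 ze33) (ke xe15 ye13 ze22) (ke xe15 ye13 ze23) (ke xe19 ye14 ze16) (ke xe19 ye15 ze38)) (@D3.rec (fun _ => Pt) (ke xe21 ye4 ze12) (ke xe15 ye13 ze26) (ke xe16 ye12 ze13) (ke xe16 ye12 ze11) (ke xe16 ye4 ze38) (ke xe16 ye4 ze10) (ke xe15 ye13 ze30) (ke xe15 ye13 ze31) (ke xe19 ye17 ze12) (ke xe21 ye4 ze13) (ke xe19 ye10 ze27) (ke xe17 ye25 ze11) (ke xe19 ye16 ze0) (ke xe18 ye5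 ze0) (ke xe18 ye5 ze1) (ke xe18 ye5 ze2) (ke xe18 ye5 ze3) (ke xe19 ye19 ze25) (ke xe19 ye19 ze27) (ke xe19 ye19 ze28) (ke xe20 ye25 ze35) (ke xe20 ye25 ze36) (ke xe19 ye19 ze29) (ke xe19 ye19 ze30) (ke xe15 ye14 ze1) (ke xe21 ye4 ze25) (ke xe21 ye4 ze26) (ke xe15 ye14 ze3) (ke xe15 ye14 ze4) (ke xe21 ye4 ze27) (ke xe21 ye2 ze1) (ke xe19 ye19 ze33) (ke xe18 ye3 ze25) (ke xe18 ye3 ze26) (ke xe18 ye3 ze27) (ke xe18 ye3 ze28) (ke xe19 ye20 ze11) (ke xe19 ye20 ze13) (ke xe21 ye1 ze33) (ke xe21 ye1 ze34)) (@D3.rec (fun _ => Pt) (ke xe19 ye20 ze14) (ke xe19 ye20 ze15) (ke xe15 ye14 ze16) (ke xe21 ye4 ze39) (ke xe21 ye5 ze0) (ke xe15 ye14 ze18) (ke xe15 ye14 ze19) (ke xe21 ye0 ze5) (ke xe21 ye5 ze1) (ke xe19 ye20 ze18) (ke xe15 ye14 ze38) (ke xe15 ye15 ze3)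 (ke xe15 ye17 ze16) (ke xe15 ye21 ze9) (ke xe15 ye17 ze7) (ke xe15 ye15 ze11) (ke xe15 ye15 ze13) (ke xe15 ye15 ze15) (ke xe15 ye15 ze16) (ke xe15 ye15 ze20) (ke xe15 ye15 ze22) (ke xe15 ye15 ze23) (ke xe15 ye15 ze24) (ke xe21 ye5 ze5) (ke xe15 ye15 ze30) (ke xe15 ye15 ze31) (ke xe15 ye15 ze32) (ke xe15 ye21 ze1) (ke xe15 ye16 ze1) (ke xe15 ye16 ze3) (ke xe15 ye16 ze5) (ke xe15 ye16 ze6) (ke xe15 ye16 ze10) (ke xe15 ye16 ze12) (ke xe15 ye16 ze13) (ke xe15 ye16 ze14) (ke xe21 ye5 ze7) (ke xe15 ye16 ze19) (ke xe15 ye16 ze20) (ke xe15 ye16 ze21)) (@D3.rec (fun _ => Pt) (ke xe15 ye16 ze30) (ke xe15 ye16 ze32) (ke xe15 ye16 ze34) (ke xe15 ye16 ze35) (ke xe19 ye21 ze9) (ke xe21 ye5 ze8) (ke xe15 ye17 ze3) (ke xe15 ye17 ze12) (ke xe15 ye17 ze18) (ke xe15 ye17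 ze24) (ke xe16 ye19 ze34) (ke xe15 ye17 ze26) (ke xe15 ye18 ze0) (ke xe15 ye18 ze4) (ke xe15 ye18 ze10) (ke xe19 ye17 ze11) (ke xe15 ye18 ze13) (ke xe18 ye24 ze11) (ke xe15 ye18 ze19) (ke xe18 ye24 ze19) (ke xe19 ye10 ze15) (ke xe19 ye10 ze16) (ke xe15 ye18 ze23) (ke xe15 ye18 ze24) (ke xe19 ye6 ze3) (ke xe19 ye6 ze4) (ke xe15 ye18 ze29) (ke xe15 ye18 ze32) (ke xe15 ye18 ze33) (ke xe15 ye19 ze4) (ke xe19 ye1 ze32) (ke xe15 ye19 ze6) (ke xe20 ye1 ze35) (ke xe15 ye19 ze13) (ke xe15 ye22 ze29) (ke xe15 ye19 ze15) (ke xe15 ye19 ze16) (ke xe15 ye22 ze32) (ke xe15 ye22 ze33) (ke xe15 ye19 ze20)) (@D3.rec (fun _ => Pt) (ke xe15 ye19 ze21) (ke xe15 ye19 ze25) (ke xe17 ye25 ze3) (ke xe15 ye19 ze29) (ke xe15 ye19 ze33) (ke xe15 ye19 ze31) (ke xe15 ye19 ze32)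 (ke xe21 ye5 ze20) (ke xe21 ye5 ze21) (ke xe18 ye25 ze15) (ke xe15 ye19 ze37) (ke xe15 ye20 ze3) (ke xe15 ye20 ze4) (ke xe15 ye20 ze1) (ke xe15 ye20 ze2) (ke xe21 ye5 ze23) (ke xe21 ye5 ze22) (ke xe15 ye20 ze7) (ke xe19 ye6 ze15) (ke xe15 ye20 ze15) (ke xe16 ye21 ze17) (ke xe15 ye20 ze25) (ke xe15 ye20 ze27) (ke xe15 ye20 ze29) (ke xe15 ye20 ze30) (ke xe19 ye21 ze12) (ke xe21 ye5 ze24) (ke xe15 ye20 ze38) (ke xe15 ye21 ze11) (ke xe15 ye21 ze13) (ke xe16 ye20 ze17) (ke xe15 ye21 ze15) (ke xe15 ye21 ze28) (ke xe15 ye21 ze32) (ke xe19 ye18 ze29) (ke xe15 ye21 ze35) (ke xe19 ye0 ze25) (ke xe15 ye22 ze0) (ke xe19 ye0 ze33) (ke xe19 ye10 ze32)) (@D3.rec (fun _ => Pt) (ke xe19 ye10 ze33) (ke xe15 ye22 ze4) (ke xe15 ye22 ze5) (ke xe19 ye4 ze24) (ke xe19 ye4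 ze25) (ke xe15 ye22 ze9) (ke xe15 ye22 ze12) (ke xe15 ye22 ze13) (ke xe20 ye2 ze19) (ke xe17 ye25 ze14) (ke xe21 ye5 ze16) (ke xe21 ye5 ze17) (ke xe21 ye5 ze15) (ke xe21 ye5 ze18) (ke xe15 ye22 ze36) (ke xe19 ye5 ze18) (ke xe15 ye23 ze2) (ke xe16 ye21 ze8) (ke xe15 ye23 ze12) (ke xe15 ye23 ze11) (ke xe21 ye4 ze31) (ke xe21 ye5 ze30) (ke xe21 ye5 ze31) (ke xe15 ye23 ze21) (ke xe21 ye5 ze32) (ke xe15 ye23 ze26) (ke xe15 ye23 ze25) (ke xe21 ye5 ze33) (ke xe21 ye5 ze34) (ke xe15 ye23 ze31) (ke xe15 ye23 ze32) (ke xe15 ye23 ze30) (ke xe21 ye5 ze35) (ke xe20 ye14 ze35) (ke xe21 ye5 ze37) (ke xe21 ye5 ze38) (ke xe21 ye5 ze6) (ke xe17 ye22 ze32) (ke xe15 ye24 ze7) (ke xe15 ye24 ze6)) (@D3.rec (fun _ => Pt) (ke xe21 ye4 ze16) (ke xe21 ye6 ze3) (ke xe21 ye6 ze4)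 (ke xe15 ye24 ze16) (ke xe21 ye6 ze5) (ke xe15 ye24 ze21) (ke xe15 ye24 ze20) (ke xe21 ye6 ze6) (ke xe21 ye6 ze7) (ke xe15 ye24 ze26) (ke xe15 ye24 ze27) (ke xe15 ye24 ze25) (ke xe21 ye6 ze8) (ke xe20 ye15 ze39) (ke xe21 ye6 ze10) (ke xe21 ye6 ze11) (ke xe21 ye5 ze4) (ke xe17 ye23 ze1) (ke xe21 ye5 ze19) (ke xe17 ye22 ze1) (ke xe19 ye7 ze32) (ke xe19 ye7 ze33) (ke xe15 ye25 ze32) (ke xe15 ye25 ze8) (ke xe15 ye25 ze9) (ke xe15 ye25 ze14) (ke xe15 ye25 ze16) (ke xe15 ye25 ze13) (ke xe21 ye6 ze22) (ke xe19 ye8 ze1) (ke xe21 ye6 ze23) (ke xe21 ye6 ze24) (ke xe19 ye7 ze20) (ke xe19 ye7 ze21) (ke xe15 ye25 ze20) (ke xe21 ye5 ze14) (ke xe17 ye22 ze15) (ke xe19 ye8 ze3) (ke xe15 ye25 ze31) (ke xe21 ye6 ze35)) (@D3.rec (fun _ => Pt) (ke xe21 ye6 ze19) (ke xe19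 ye7 ze29) (ke xe21 ye6 ze21) (ke xe19 ye7 ze37) (ke xe16 ye0 ze7) (ke xe21 ye7 ze2) (ke xe17 ye12 ze5) (ke xe16 ye21 ze37) (ke xe16 ye0 ze13) (ke xe16 ye0 ze15) (ke xe17 ye12 ze3) (ke xe17 ye12 ze4) (ke xe16 ye0 ze25) (ke xe21 ye7 ze6) (ke xe17 ye10 ze31) (ke xe16 ye21 ze39) (ke xe16 ye0 ze31) (ke xe16 ye0 ze33) (ke xe17 ye10 ze29) (ke xe17 ye10 ze30) (ke xe16 ye5 ze37) (ke xe16 ye6 ze4) (ke xe16 ye6 ze8) (ke xe20 ye1 ze21) (ke xe16 ye6 ze10) (ke xe17 ye23 ze16) (ke xe16 ye1 ze5) (ke xe21 ye1 ze5) (ke xe16 ye6 ze15) (ke xe16 ye6 ze16) (ke xe16 ye6 ze18) (ke xe20 ye2 ze6) (ke xe16 ye6 ze21) (ke xe17 ye23 ze31) (ke xe16 ye1 ze11) (ke xe20 ye24 ze31) (ke xe16 ye6 ze26) (ke xe16 ye6 ze27) (ke xe16 ye6 ze35) (ke xe18 ye11 ze5)) (@D3.rec (fun _ => Pt) (ke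 xe16 ye6 ze36) (ke xe16 ye6 ze37) (ke xe16 ye6 ze39) (ke xe16 ye7 ze0) (ke xe16 ye7 ze2) (ke xe16 ye7 ze7) (ke xe18 ye7 ze28) (ke xe16 ye7 ze8) (ke xe16 ye7 ze9) (ke xe16 ye7 ze11) (ke xe16 ye7 ze12) (ke xe16 ye7 ze14) (ke xe17 ye16 ze10) (ke xe16 ye2 ze20) (ke xe16 ye2 ze21) (ke xe17 ye14 ze33) (ke xe16 ye2 ze22) (ke xe16 ye2 ze23) (ke xe17 ye17 ze39) (ke xe16 ye8 ze20) (ke xe16 ye8 ze23) (ke xe16 ye8 ze24) (ke xe17 ye19 ze21) (ke xe16 ye9 ze5) (ke xe16 ye9 ze8) (ke xe16 ye9 ze9) (ke xe16 ye2 ze24) (ke xe16 ye15 ze3) (ke xe16 ye15 ze9) (ke xe16 ye2 ze25) (ke xe16 ye17 ze0) (ke xe16 ye17 ze6) (ke xe19 ye16 ze29) (ke xe19 ye10 ze35) (ke xe19 ye16 ze30) (ke xe16 ye5 ze4) (ke xe16 ye5 ze5) (ke xe19 ye18 ze7) (ke xe19 ye10 ze18) (ke xe19 ye18 ze8)) (@D3.rec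 (fun _ => Pt) (ke xe16 ye5 ze6) (ke xe16 ye5 ze7) (ke xe21 ye5 ze12) (ke xe21 ye5 ze27) (ke xe17 ye10 ze5) (ke xe16 ye3 ze21) (ke xe21 ye7 ze30) (ke xe21 ye7 ze32) (ke xe16 ye3 ze22) (ke xe16 ye3 ze25) (ke xe18 ye25 ze38) (ke xe21 ye7 ze33) (ke xe16 ye3 ze29) (ke xe21 ye2 ze2) (ke xe16 ye24 ze0) (ke xe19 ye4 ze20) (ke xe19 ye4 ze21) (ke xe16 ye3 ze39) (ke xe19 ye9 ze38) (ke xe21 ye2 ze0) (ke xe20 ye0 ze11) (ke xe17 ye11 ze21) (ke xe16 ye4 ze7) (ke xe21 ye7 ze39) (ke xe21 ye8 ze1) (ke xe16 ye4 ze8) (ke xe16 ye4 ze11) (ke xe19 ye2 ze10) (ke xe21 ye8 ze2) (ke xe16 ye4 ze15) (ke xe21 ye0 ze6) (ke xe16 ye23 ze12) (ke xe19 ye5 ze39) (ke xe19 ye6 ze0) (ke xe16 ye4 ze25) (ke xe19 ye9 ze33) (ke xe21 ye0 ze2) (ke xe20 ye0 ze1) (ke xe17 ye5 ze12) (ke xe21 ye1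 ze11)) (@D3.rec (fun _ => Pt) (ke xe19 ye22 ze22) (ke xe16 ye5 ze30) (ke xe17 ye5 ze34) (ke xe20 ye24 ze38) (ke xe19 ye21 ze36) (ke xe16 ye5 ze31) (ke xe19 ye21 ze2) (ke xe18 ye16 ze12) (ke xe19 ye21 ze0) (ke xe18 ye21 ze27) (ke xe17 ye12 ze22) (ke xe17 ye11 ze10) (ke xe17 ye12 ze11) (ke xe17 ye10 ze37) (ke xe17 ye10 ze3) (ke xe20 ye0 ze0) (ke xe19 ye13 ze10) (ke xe17 ye11 ze17) (ke xe20 ye0 ze10) (ke xe19 ye13 ze30) (ke xe20 ye2 ze31) (ke xe20 ye23 ze11) (ke xe16 ye6 ze14) (ke xe21 ye1 ze7) (ke xe21 ye2 ze26) (ke xe18 ye24 ze39) (ke xe21 ye7 ze11) (ke xe20 ye3 ze20) (ke xe20 ye20 ze16) (ke xe16 ye6 ze25) (ke xe20 ye24 ze33) (ke xe21 ye3 ze24) (ke xe19 ye1 ze12) (ke xe21 ye7 ze13) (ke xe17 ye15 ze29) (ke xe17 ye14 ze12) (ke xe20 ye10 ze3) (ke xe21 ye3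 ze36) (ke xe17 ye21 ze27) (ke xe20 ye21 ze30)) (@D3.rec (fun _ => Pt) (ke xe17 ye19 ze20) (ke xe19 ye13 ze22) (ke xe20 ye21 ze34) (ke xe20 ye21 ze28) (ke xe21 ye7 ze14) (ke xe19 ye1 ze19) (ke xe20 ye6 ze28) (ke xe19 ye13 ze17) (ke xe20 ye10 ze23) (ke xe21 ye2 ze38) (ke xe17 ye21 ze34) (ke xe20 ye18 ze20) (ke xe17 ye18 ze0) (ke xe19 ye13 ze2) (ke xe20 ye18 ze24) (ke xe20 ye18 ze18) (ke xe21 ye7 ze15) (ke xe18 ye25 ze3) (ke xe20 ye5 ze31) (ke xe19 ye13 ze37) (ke xe16 ye7 ze18) (ke xe16 ye7 ze19) (ke xe20 ye7 ze19) (ke xe21 ye8 ze36) (ke xe17 ye14 ze8) (ke xe20 ye11 ze1) (ke xe16 ye18 ze32) (ke xe16 ye16 ze39) (ke xe16 ye16 ze29) (ke xe16 ye17 ze5) (ke xe16 ye17 ze7) (ke xe16 ye7 ze33) (ke xe16 ye7 ze34) (ke xe20 ye8 ze32) (ke xe21 ye9 ze1) (ke xe17 ye15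 ze26) (ke xe20 ye11 ze12) (ke xe16 ye18 ze36) (ke xe16 ye15 ze4) (ke xe16 ye14 ze33)) (@D3.rec (fun _ => Pt) (ke xe16 ye15 ze10) (ke xe16 ye15 ze12) (ke xe19 ye12 ze13) (ke xe20 ye18 ze22) (ke xe18 ye10 ze2) (ke xe21 ye9 ze9) (ke xe20 ye18 ze29) (ke xe16 ye8 ze11) (ke xe17 ye17 ze38) (ke xe17 ye17 ze26) (ke xe19 ye11 ze16) (ke xe21 ye9 ze13) (ke xe18 ye24 ze20) (ke xe17 ye22 ze16) (ke xe17 ye25 ze9) (ke xe21 ye7 ze19) (ke xe21 ye9 ze18) (ke xe19 ye12 ze7) (ke xe16 ye8 ze22) (ke xe21 ye9 ze19) (ke xe20 ye15 ze0) (ke xe20 ye12 ze34) (ke xe19 ye12 ze1) (ke xe20 ye21 ze32) (ke xe18 ye6 ze23) (ke xe21 ye9 ze24) (ke xe20 ye21 ze38) (ke xe16 ye8 ze36) (ke xe17 ye18 ze2) (ke xe17 ye19 ze8) (ke xe19 ye11 ze19) (ke xe21 ye9 ze28) (ke xe17 ye22 ze2) (ke xe19 ye0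 ze34) (ke xe17 ye24 ze38) (ke xe21 ye7 ze21) (ke xe21 ye9 ze33) (ke xe19 ye12 ze19) (ke xe16 ye9 ze7) (ke xe21 ye9 ze34)) (@D3.rec (fun _ => Pt) (ke xe20 ye13 ze34) (ke xe20 ye12 ze23) (ke xe18 ye18 ze22) (ke xe17 ye17 ze17) (ke xe17 ye18 ze9) (ke xe20 ye6 ze12) (ke xe16 ye19 ze38) (ke xe16 ye9 ze33) (ke xe16 ye9 ze34) (ke xe16 ye25 ze10) (ke xe18 ye16 ze4) (ke xe18 ye21 ze19) (ke xe18 ye25 ze25) (ke xe18 ye25 ze26) (ke xe19 ye23 ze7) (ke xe18 ye25 ze35) (ke xe19 ye1 ze38) (ke xe17 ye1 ze0) (ke xe16 ye25 ze8) (ke xe21 ye0 ze28) (ke xe16 ye20 ze23) (ke xe20 ye4 ze36) (ke xe16 ye10 ze11) (ke xe21 ye4 ze5) (ke xe20 ye0 ze3) (ke xe16 ye10 ze20) (ke xe16 ye10 ze22) (ke xe16 ye10 ze23) (ke xe16 ye10 ze24) (ke xe16 ye10 ze25) (ke xe17 ye15 ze8) (ke xe16 ye12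 ze29) (ke xe18 ye18 ze37) (ke xe17 ye0 ze24) (ke xe17 ye0 ze23) (ke xe19 ye22 ze38) (ke xe16 ye24 ze31) (ke xe16 ye24 ze32) (ke xe16 ye24 ze33) (ke xe16 ye10 ze29)) (@D3.rec (fun _ => Pt) (ke xe16 ye10 ze30) (ke xe16 ye10 ze32) (ke xe16 ye13 ze25) (ke xe16 ye19 ze5) (ke xe18 ye25 ze20) (ke xe16 ye19 ze6) (ke xe16 ye19 ze7) (ke xe19 ye23 ze8) (ke xe16 ye19 ze8) (ke xe19 ye23 ze10) (ke xe16 ye19 ze9) (ke xe20 ye11 ze18) (ke xe16 ye16 ze20) (ke xe20 ye25 ze21) (ke xe16 ye11 ze5) (ke xe21 ye10 ze9) (ke xe20 ye11 ze15) (ke xe16 ye19 ze11) (ke xe16 ye12 ze36) (ke xe16 ye12 ze37) (ke xe16 ye12 ze38) (ke xe16 ye13 ze23) (ke xe16 ye13 ze24) (ke xe18 ye3 ze14) (ke xe16 ye19 ze12) (ke xe19 ye23 ze17) (ke xe16 ye19 ze13) (ke xe18 ye19 ze21) (ke xe16 ye11 ze23)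 (ke xe16 ye11 ze24) (ke xe21 ye10 ze14) (ke xe16 ye11 ze26) (ke xe18 ye23 ze22) (ke xe17 ye18 ze37) (ke xe17 ye19 ze27) (ke xe20 ye7 ze7) (ke xe16 ye12 ze2) (ke xe16 ye12 ze3) (ke xe19 ye1 ze39) (ke xe19 ye24 ze4)) (@D3.rec (fun _ => Pt) (ke xe19 ye2 ze12) (ke xe16 ye25 ze9) (ke xe20 ye24 ze4) (ke xe20 ye4 ze10) (ke xe16 ye12 ze20) (ke xe21 ye3 ze7) (ke xe20 ye0 ze13) (ke xe16 ye12 ze31) (ke xe16 ye12 ze32) (ke xe17 ye16 ze25) (ke xe18 ye13 ze1) (ke xe19 ye23 ze35) (ke xe17 ye0 ze25) (ke xe16 ye19 ze23) (ke xe19 ye1 ze34) (ke xe16 ye19 ze24) (ke xe16 ye19 ze25) (ke xe19 ye24 ze5) (ke xe20 ye11 ze8) (ke xe16 ye14 ze24) (ke xe21 ye1 ze26) (ke xe16 ye13 ze10) (ke xe20 ye11 ze4) (ke xe21 ye10 ze23) (ke xe16 ye19 ze27) (ke xe18 ye4 ze28) (ke xe18 ye13 ze28)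 (ke xe21 ye10 ze3) (ke xe17 ye9 ze25) (ke xe19 ye9 ze32) (ke xe19 ye9 ze34) (ke xe18 ye12 ze25) (ke xe18 ye12 ze26) (ke xe18 ye12 ze27) (ke xe20 ye7 ze11) (ke xe16 ye14 ze3) (ke xe16 ye14 ze6) (ke xe16 ye14 ze7) (ke xe16 ye25 ze35) (ke xe17 ye17 ze34)) (@D3.rec (fun _ => Pt) (ke xe17 ye17 ze36) (ke xe21 ye10 ze24) (ke xe21 ye2 ze35) (ke xe18 ye3 ze31) (ke xe21 ye10 ze25) (ke xe20 ye0 ze4) (ke xe20 ye24 ze2) (ke xe18 ye25 ze18) (ke xe18 ye3 ze32) (ke xe20 ye24 ze3) (ke xe16 ye14 ze15) (ke xe19 ye4 ze15) (ke xe19 ye2 ze8) (ke xe16 ye14 ze21) (ke xe21 ye1 ze10) (ke xe16 ye19 ze26) (ke xe21 ye1 ze12) (ke xe16 ye14 ze36) (ke xe16 ye14 ze37) (ke xe21 ye10 ze28) (ke xe21 ye10 ze26) (ke xe18 ye19 ze22) (ke xe18 ye19 ze16) (ke xe18 ye19 ze23) (ke xe16 ye15 ze1)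 (ke xe21 ye7 ze22) (ke xe21 ye9 ze4) (ke xe21 ye3 ze32) (ke xe20 ye15 ze31) (ke xe16 ye15 ze7) (ke xe21 ye10 ze31) (ke xe21 ye10 ze32) (ke xe20 ye8 ze10) (ke xe21 ye7 ze23) (ke xe20 ye16 ze3) (ke xe20 ye8 ze24) (ke xe21 ye9 ze5) (ke xe16 ye20 ze8) (ke xe16 ye20 ze9) (ke xe16 ye20 ze10)) (@D3.rec (fun _ => Pt) (ke xe16 ye15 ze14) (ke xe21 ye11 ze0) (ke xe21 ye11 ze1) (ke xe16 ye15 ze16) (ke xe21 ye7 ze20) (ke xe20 ye25 ze5) (ke xe17 ye8 ze36) (ke xe19 ye9 ze37) (ke xe19 ye9 ze39) (ke xe20 ye8 ze26) (ke xe18 ye18 ze25) (ke xe18 ye18 ze26) (ke xe18 ye16 ze32) (ke xe16 ye15 ze39) (ke xe16 ye16 ze2) (ke xe16 ye16 ze3) (ke xe17 ye1 ze24) (ke xe17 ye19 ze17) (ke xe17 ye19 ze18) (ke xe21 ye11 ze4) (ke xe21 ye3 ze33) (ke xe18 ye5 ze7) (ke xe21 ye11 ze5) (ke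 xe20 ye0 ze14) (ke xe21 ye0 ze26) (ke xe19 ye1 ze31) (ke xe18 ye5 ze6) (ke xe21 ye0 ze27) (ke xe16 ye16 ze11) (ke xe19 ye5 ze34) (ke xe18 ye25 ze36) (ke xe16 ye16 ze17) (ke xe20 ye24 ze36) (ke xe16 ye19 ze10) (ke xe20 ye24 ze39) (ke xe16 ye16 ze32) (ke xe16 ye16 ze33) (ke xe21 ye11 ze6) (ke xe21 ye11 ze8) (ke xe18 ye13 ze29)) (@D3.rec (fun _ => Pt) (ke xe18 ye13 ze30) (ke xe18 ye13 ze23) (ke xe16 ye16 ze37) (ke xe21 ye8 ze39) (ke xe21 ye7 ze25) (ke xe20 ye14 ze27) (ke xe21 ye2 ze34) (ke xe16 ye17 ze3) (ke xe21 ye11 ze11) (ke xe21 ye11 ze12) (ke xe20 ye9 ze23) (ke xe20 ye9 ze33) (ke xe21 ye9 ze0) (ke xe21 ye7 ze26) (ke xe20 ye17 ze7) (ke xe16 ye20 ze33) (ke xe16 ye20 ze34) (ke xe16 ye20 ze35) (ke xe16 ye17 ze10) (ke xe21 ye11 ze19) (ke xe21 ye11 ze20)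 (ke xe16 ye17 ze13) (ke xe21 ye1 ze16) (ke xe21 ye7 ze18) (ke xe19 ye20 ze10) (ke xe19 ye2 ze17) (ke xe16 ye18 ze0) (ke xe19 ye2 ze18) (ke xe19 ye2 ze19) (ke xe19 ye2 ze22) (ke xe19 ye2 ze23) (ke xe16 ye17 ze28) (ke xe16 ye17 ze29) (ke xe19 ye2 ze31) (ke xe19 ye25 ze9) (ke xe19 ye25 ze10) (ke xe19 ye25 ze11) (ke xe19 ye25 ze12) (ke xe16 ye17 ze36) (ke xe21 ye11 ze27)) (@D3.rec (fun _ => Pt) (ke xe16 ye17 ze38) (ke xe21 ye11 ze29) (ke xe19 ye25 ze17) (ke xe19 ye25 ze18) (ke xe21 ye11 ze23) (ke xe18 ye17 ze0) (ke xe16 ye18 ze2) (ke xe16 ye18 ze3) (ke xe21 ye11 ze36) (ke xe18 ye18 ze20) (ke xe19 ye19 ze24) (ke xe19 ye2 ze36) (ke xe16 ye18 ze26) (ke xe19 ye2 ze37) (ke xe19 ye3 ze0) (ke xe19 ye3 ze1) (ke xe16 ye18 ze16) (ke xe16 ye18 ze17) (ke xe19 ye3 ze9)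 (ke xe19 ye25 ze24) (ke xe19 ye25 ze25) (ke xe19 ye25 ze26) (ke xe19 ye25 ze27) (ke xe16 ye18 ze24) (ke xe18 ye22 ze6) (ke xe16 ye18 ze28) (ke xe18 ye23 ze20) (ke xe21 ye9 ze39) (ke xe21 ye10 ze39) (ke xe16 ye20 ze14) (ke xe21 ye1 ze31) (ke xe21 ye10 ze1) (ke xe21 ye11 ze18) (ke xe16 ye20 ze39) (ke xe20 ye25 ze26) (ke xe16 ye21 ze0) (ke xe16 ye21 ze4) (ke xe16 ye21 ze9) (ke xe16 ye21 ze13) (ke xe16 ye21 ze36)) (@D3.rec (fun _ => Pt) (ke xe19 ye11 ze8) (ke xe16 ye21 ze38) (ke xe19 ye11 ze6) (ke xe17 ye13 ze35) (ke xe17 ye15 ze14) (ke xe17 ye5 ze27) (ke xe17 ye5 ze4) (ke xe16 ye22 ze36) (ke xe16 ye22 ze38) (ke xe19 ye4 ze4) (ke xe16 ye22 ze37) (ke xe16 ye22 ze39) (ke xe19 ye5 ze25) (ke xe19 ye21 ze18) (ke xe19 ye21 ze17) (ke xe19 ye21 ze16) (ke xe19 ye21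 ze15) (ke xe19 ye21 ze14) (ke xe19 ye21 ze13) (ke xe18 ye19 ze38) (ke xe18 ye14 ze9) (ke xe17 ye7 ze12) (ke xe17 ye13 ze38) (ke xe16 ye23 ze4) (ke xe16 ye23 ze7) (ke xe21 ye12 ze5) (ke xe20 ye1 ze23) (ke xe16 ye23 ze10) (ke xe21 ye12 ze8) (ke xe21 ye12 ze9) (ke xe21 ye12 ze10) (ke xe16 ye23 ze13) (ke xe16 ye23 ze14) (ke xe21 ye8 ze4) (ke xe21 ye12 ze14) (ke xe16 ye24 ze9) (ke xe19 ye11 ze4) (ke xe17 ye3 ze31) (ke xe21 ye12 ze17) (ke xe16 ye23 ze21)) (@D3.rec (fun _ => Pt) (ke xe20 ye25 ze28) (ke xe17 ye3 ze32) (ke xe17 ye3 ze34) (ke xe17 ye3 ze35) (ke xe17 ye3 ze36) (ke xe17 ye3 ze37) (ke xe17 ye3 ze29) (ke xe17 ye3 ze39) (ke xe17 ye7 ze18) (ke xe17 ye15 ze19) (ke xe16 ye23 ze32) (ke xe16 ye23 ze35) (ke xe21 ye12 ze19) (ke xe20 ye2 ze8) (ke xe16 ye23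 ze38) (ke xe21 ye12 ze22) (ke xe21 ye12 ze23) (ke xe21 ye12 ze24) (ke xe16 ye24 ze1) (ke xe16 ye24 ze2) (ke xe21 ye7 ze35) (ke xe21 ye12 ze28) (ke xe19 ye11 ze0) (ke xe17 ye4 ze1) (ke xe21 ye12 ze16) (ke xe20 ye24 ze23) (ke xe17 ye4 ze2) (ke xe17 ye4 ze4) (ke xe17 ye4 ze5) (ke xe17 ye4 ze6) (ke xe17 ye4 ze7) (ke xe17 ye3 ze28) (ke xe17 ye4 ze9) (ke xe16 ye24 ze20) (ke xe16 ye24 ze24) (ke xe18 ye9 ze17) (ke xe16 ye24 ze30) (ke xe21 ye12 ze31) (ke xe19 ye14 ze35) (ke xe20 ye1 ze22)) (@D3.rec (fun _ => Pt) (ke xe20 ye1 ze24) (ke xe18 ye20 ze5) (ke xe16 ye25 ze4) (ke xe16 ye25 ze5) (ke xe16 ye25 ze6) (ke xe21 ye7 ze38) (ke xe18 ye20 ze3) (ke xe19 ye14 ze14) (ke xe19 ye15 ze7) (ke xe17 ye5 ze3) (ke xe19 ye15 ze9) (ke xe18 ye18 ze30) (ke xe16 ye25 ze23) (ke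 xe16 ye25 ze25) (ke xe21 ye12 ze34) (ke xe19 ye0 ze7) (ke xe17 ye5 ze9) (ke xe19 ye15 ze25) (ke xe16 ye25 ze36) (ke xe18 ye5 ze35) (ke xe17 ye0 ze0) (ke xe18 ye7 ze8) (ke xe17 ye0 ze5) (ke xe19 ye23 ze28) (ke xe18 ye7 ze0) (ke xe18 ye5 ze32) (ke xe17 ye0 ze9) (ke xe17 ye0 ze10) (ke xe19 ye23 ze23) (ke xe20 ye24 ze14) (ke xe19 ye24 ze37) (ke xe17 ye5 ze21) (ke xe18 ye5 ze30) (ke xe17 ye0 ze22) (ke xe21 ye12 ze39) (ke xe19 ye16 ze11) (ke xe20 ye2 ze5) (ke xe20 ye2 ze7) (ke xe18 ye14 ze17) (ke xe17 ye0 ze36)) (@D3.rec (fun _ => Pt) (ke xe17 ye0 ze37) (ke xe17 ye0 ze38) (ke xe21 ye8 ze7) (ke xe18 ye14 ze15) (ke xe19 ye15 ze39) (ke xe19 ye16 ze17) (ke xe18 ye12 ze36) (ke xe17 ye1 ze12) (ke xe17 ye1 ze14) (ke xe21 ye13 ze1) (ke xe18 ye23 ze32) (ke xe17 ye1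 ze23) (ke xe18 ye9 ze15) (ke xe17 ye1 ze28) (ke xe18 ye10 ze26) (ke xe17 ye1 ze34) (ke xe19 ye24 ze21) (ke xe18 ye10 ze19) (ke xe18 ye9 ze12) (ke xe17 ye1 ze37) (ke xe17 ye1 ze38) (ke xe19 ye24 ze16) (ke xe21 ye0 ze33) (ke xe19 ye25 ze8) (ke xe17 ye6 ze3) (ke xe19 ye24 ze38) (ke xe17 ye2 ze32) (ke xe19 ye24 ze39) (ke xe17 ye2 ze12) (ke xe21 ye13 ze6) (ke xe21 ye13 ze7) (ke xe21 ye13 ze5) (ke xe17 ye2 ze15) (ke xe19 ye25 ze4) (ke xe17 ye6 ze5) (ke xe17 ye2 ze20) (ke xe17 ye2 ze21) (ke xe19 ye23 ze30) (ke xe19 ye24 ze25) (ke xe19 ye24 ze27)) (@D3.rec (fun _ => Pt) (ke xe17 ye2 ze30) (ke xe21 ye13 ze11) (ke xe21 ye13 ze12) (ke xe21 ye13 ze10) (ke xe19 ye24 ze33) (ke xe17 ye6 ze4) (ke xe17 ye2 ze36) (ke xe17 ye2 ze37) (ke xe19 ye24 ze23) (ke xe19 ye19 ze34)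 (ke xe19 ye19 ze35) (ke xe19 ye19 ze36) (ke xe19 ye19 ze37) (ke xe20 ye21 ze1) (ke xe18 ye17 ze19) (ke xe17 ye3 ze9) (ke xe21 ye13 ze15) (ke xe19 ye20 ze2) (ke xe19 ye20 ze3) (ke xe17 ye3 ze11) (ke xe21 ye13 ze20) (ke xe21 ye13 ze21) (ke xe17 ye3 ze13) (ke xe21 ye13 ze9) (ke xe19 ye20 ze19) (ke xe19 ye20 ze20) (ke xe19 ye20 ze21) (ke xe19 ye20 ze22) (ke xe20 ye23 ze27) (ke xe17 ye3 ze24) (ke xe21 ye13 ze23) (ke xe17 ye4 ze17) (ke xe17 ye4 ze20) (ke xe18 ye1 ze37) (ke xe17 ye16 ze38) (ke xe17 ye4 ze29) (ke xe17 ye4 ze32) (ke xe18 ye0 ze26) (ke xe17 ye18 ze20) (ke xe20 ye2 ze29))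
def f_e_20 : D2 → D3 → Pt := @D2.rec (fun _ => D3 → Pt) (@D3.rec (fun _ => Pt) (ke xe19 ye11 ze15) (ke xe19 ye10 ze37) (ke xe17 ye5 ze7) (ke xe19 ye14 ze24) (ke xe19 ye17 ze5) (ke xe17 ye5 ze17) (ke xe18 ye11 ze6) (ke xe18 ye21 ze29) (ke xe17 ye5 ze20) (ke xe20 ye3 ze18) (ke xe19 ye11 ze18) (ke xe19 ye10 ze20) (ke xe17 ye5 ze30) (ke xe19 ye16 ze6) (ke xe19 ye18 ze23) (ke xe17 ye5 ze39) (ke xe18 ye7 ze29) (ke xe18 ye16 ze14) (ke xe17 ye6 ze2) (ke xe17 ye6 ze6) (ke xe17 ye6 ze9) (ke xe17 ye20 ze16) (ke xe17 ye21 ze2) (ke xe17 ye6 ze33) (ke xe17 ye6 ze35) (ke xe17 ye6 ze37) (ke xe17 ye7 ze2) (ke xe17 ye8 ze0) (ke xe17 ye7 ze6) (ke xe17 ye8 ze4) (ke xe17 ye7 ze9) (ke xe20 ye13 ze24) (ke xe17 ye24 ze27) (ke xe17 ye24 ze30) (ke xe20 ye13 ze32) (ke xe17 ye24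 ze32) (ke xe17 ye24 ze35) (ke xe17 ye7 ze25) (ke xe17 ye7 ze28) (ke xe21 ye1 ze0)) (@D3.rec (fun _ => Pt) (ke xe17 ye25 ze5) (ke xe17 ye7 ze33) (ke xe17 ye7 ze36) (ke xe20 ye24 ze22) (ke xe17 ye25 ze16) (ke xe20 ye1 ze12) (ke xe20 ye1 ze19) (ke xe17 ye25 ze37) (ke xe17 ye25 ze38) (ke xe17 ye13 ze26) (ke xe21 ye13 ze27) (ke xe18 ye0 ze2) (ke xe20 ye1 ze5) (ke xe17 ye8 ze11) (ke xe18 ye0 ze8) (ke xe18 ye0 ze9) (ke xe17 ye13 ze1) (ke xe21 ye13 ze30) (ke xe18 ye0 ze14) (ke xe20 ye1 ze6) (ke xe17 ye8 ze17) (ke xe19 ye8 ze23) (ke xe19 ye22 ze39) (ke xe19 ye21 ze26) (ke xe19 ye23 ze0) (ke xe18 ye0 ze18) (ke xe18 ye0 ze19) (ke xe18 ye0 ze20) (ke xe18 ye0 ze25) (ke xe17 ye8 ze28) (ke xe17 ye20 ze23) (ke xe17 ye8 ze31) (ke xe18 ye0 ze35) (ke xe18 ye0 ze36) (ke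 xe18 ye0 ze39) (ke xe19 ye4 ze32) (ke xe18 ye1 ze1) (ke xe18 ye1 ze5) (ke xe20 ye10 ze17) (ke xe18 ye1 ze11)) (@D3.rec (fun _ => Pt) (ke xe18 ye18 ze29) (ke xe20 ye10 ze19) (ke xe17 ye9 ze5) (ke xe18 ye1 ze24) (ke xe18 ye1 ze28) (ke xe19 ye23 ze36) (ke xe19 ye8 ze31) (ke xe19 ye23 ze37) (ke xe19 ye22 ze13) (ke xe18 ye1 ze29) (ke xe18 ye1 ze30) (ke xe18 ye1 ze32) (ke xe18 ye1 ze36) (ke xe17 ye9 ze17) (ke xe17 ye19 ze36) (ke xe17 ye9 ze20) (ke xe18 ye2 ze6) (ke xe18 ye2 ze7) (ke xe18 ye2 ze9) (ke xe19 ye6 ze8) (ke xe18 ye2 ze12) (ke xe18 ye2 ze17) (ke xe20 ye9 ze37) (ke xe18 ye2 ze22) (ke xe18 ye12 ze35) (ke xe20 ye9 ze39) (ke xe17 ye9 ze34) (ke xe18 ye2 ze35) (ke xe18 ye2 ze39) (ke xe19 ye25 ze39) (ke xe20 ye13 ze20) (ke xe19 ye11 ze20) (ke xe17 ye10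 ze6) (ke xe17 ye24 ze12) (ke xe20 ye10 ze4) (ke xe17 ye10 ze17) (ke xe17 ye10 ze18) (ke xe21 ye14 ze8) (ke xe21 ye14 ze9) (ke xe20 ye13 ze35)) (@D3.rec (fun _ => Pt) (ke xe20 ye13 ze37) (ke xe20 ye9 ze35) (ke xe17 ye10 ze22) (ke xe17 ye10 ze23) (ke xe17 ye10 ze24) (ke xe21 ye14 ze13) (ke xe21 ye14 ze14) (ke xe21 ye14 ze15) (ke xe21 ye14 ze16) (ke xe21 ye14 ze17) (ke xe17 ye10 ze28) (ke xe21 ye7 ze9) (ke xe21 ye7 ze8) (ke xe21 ye7 ze7) (ke xe17 ye12 ze14) (ke xe21 ye12 ze32) (ke xe17 ye11 ze1) (ke xe17 ye21 ze9) (ke xe20 ye0 ze9) (ke xe20 ye13 ze28) (ke xe19 ye11 ze27) (ke xe17 ye11 ze19) (ke xe17 ye24 ze6) (ke xe20 ye10 ze24) (ke xe17 ye11 ze31) (ke xe17 ye11 ze32) (ke xe21 ye14 ze27) (ke xe21 ye14 ze28) (ke xe20 ye14 ze11) (ke xe20 ye15 ze2) (ke xe20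 ye10 ze15) (ke xe17 ye11 ze36) (ke xe17 ye11 ze37) (ke xe17 ye11 ze38) (ke xe21 ye14 ze18) (ke xe21 ye14 ze19) (ke xe21 ye14 ze32) (ke xe21 ye14 ze22) (ke xe21 ye14 ze33) (ke xe17 ye12 ze2)) (@D3.rec (fun _ => Pt) (ke xe21 ye7 ze5) (ke xe21 ye7 ze4) (ke xe21 ye7 ze3) (ke xe21 ye13 ze0) (ke xe17 ye21 ze11) (ke xe18 ye6 ze3) (ke xe21 ye14 ze39) (ke xe21 ye3 ze21) (ke xe17 ye12 ze25) (ke xe18 ye6 ze18) (ke xe19 ye16 ze3) (ke xe17 ye12 ze32) (ke xe21 ye9 ze27) (ke xe21 ye9 ze26) (ke xe21 ye15 ze1) (ke xe20 ye5 ze20) (ke xe17 ye12 ze35) (ke xe17 ye12 ze36) (ke xe17 ye12 ze37) (ke xe21 ye15 ze4) (ke xe21 ye9 ze30) (ke xe21 ye15 ze5) (ke xe21 ye8 ze28) (ke xe20 ye20 ze28) (ke xe20 ye4 ze25) (ke xe20 ye4 ze24) (ke xe20 ye19 ze3) (ke xe17 ye14 ze37) (ke xe18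 ye7 ze37) (ke xe17 ye14 ze26) (ke xe17 ye15 ze0) (ke xe18 ye9 ze23) (ke xe21 ye15 ze12) (ke xe21 ye2 ze22) (ke xe17 ye13 ze10) (ke xe18 ye9 ze37) (ke xe19 ye14 ze21) (ke xe17 ye13 ze16) (ke xe21 ye9 ze12) (ke xe21 ye9 ze11)) (@D3.rec (fun _ => Pt) (ke xe21 ye15 ze14) (ke xe20 ye6 ze19) (ke xe17 ye13 ze20) (ke xe17 ye13 ze21) (ke xe17 ye13 ze22) (ke xe21 ye15 ze17) (ke xe21 ye9 ze14) (ke xe21 ye15 ze18) (ke xe21 ye8 ze35) (ke xe20 ye23 ze20) (ke xe20 ye5 ze11) (ke xe20 ye5 ze10) (ke xe20 ye22 ze9) (ke xe17 ye16 ze14) (ke xe18 ye11 ze14) (ke xe17 ye16 ze3) (ke xe17 ye16 ze17) (ke xe21 ye10 ze19) (ke xe17 ye14 ze0) (ke xe21 ye1 ze27) (ke xe20 ye4 ze15) (ke xe17 ye14 ze5) (ke xe20 ye10 ze30) (ke xe20 ye10 ze34) (ke xe18 ye21 ze24) (ke xe18 ye21 ze23) (ke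 xe17 ye14 ze10) (ke xe21 ye8 ze37) (ke xe17 ye15 ze28) (ke xe17 ye14 ze18) (ke xe17 ye14 ze15) (ke xe19 ye12 ze18) (ke xe20 ye6 ze30) (ke xe20 ye6 ze29) (ke xe18 ye0 ze34) (ke xe17 ye14 ze23) (ke xe17 ye14 ze24) (ke xe17 ye14 ze25) (ke xe20 ye11 ze31) (ke xe17 ye14 ze27)) (@D3.rec (fun _ => Pt) (ke xe17 ye14 ze28) (ke xe21 ye15 ze26) (ke xe21 ye15 ze27) (ke xe21 ye14 ze11) (ke xe17 ye14 ze34) (ke xe17 ye14 ze36) (ke xe21 ye8 ze34) (ke xe21 ye8 ze27) (ke xe17 ye14 ze31) (ke xe21 ye7 ze17) (ke xe20 ye10 ze32) (ke xe21 ye3 ze18) (ke xe19 ye14 ze5) (ke xe21 ye8 ze30) (ke xe17 ye14 ze38) (ke xe20 ye12 ze24) (ke xe21 ye10 ze2) (ke xe17 ye15 ze18) (ke xe20 ye25 ze22) (ke xe20 ye5 ze1) (ke xe17 ye15 ze24) (ke xe20 ye10 ze11) (ke xe20 ye10 ze14) (ke xe18 ye16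 ze9) (ke xe18 ye16 ze8) (ke xe21 ye9 ze2) (ke xe17 ye15 ze35) (ke xe17 ye15 ze32) (ke xe19 ye12 ze6) (ke xe20 ye5 ze33) (ke xe20 ye5 ze32) (ke xe18 ye2 ze5) (ke xe17 ye16 ze0) (ke xe17 ye16 ze1) (ke xe17 ye16 ze2) (ke xe20 ye12 ze0) (ke xe17 ye16 ze4) (ke xe17 ye16 ze5) (ke xe21 ye15 ze38) (ke xe21 ye15 ze39)) (@D3.rec (fun _ => Pt) (ke xe21 ye14 ze30) (ke xe17 ye16 ze11) (ke xe17 ye16 ze13) (ke xe17 ye16 ze8) (ke xe21 ye7 ze16) (ke xe20 ye10 ze8) (ke xe21 ye2 ze20) (ke xe19 ye15 ze35) (ke xe21 ye8 ze23) (ke xe17 ye16 ze15) (ke xe20 ye12 ze35) (ke xe19 ye16 ze34) (ke xe21 ye0 ze32) (ke xe20 ye7 ze25) (ke xe17 ye16 ze36) (ke xe21 ye16 ze9) (ke xe21 ye16 ze10) (ke xe21 ye16 ze11) (ke xe17 ye16 ze39) (ke xe19 ye12 ze22) (ke xe20 ye24 ze9) (ke xe18 ye5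 ze33) (ke xe17 ye17 ze2) (ke xe20 ye14 ze34) (ke xe21 ye16 ze13) (ke xe20 ye7 ze13) (ke xe17 ye17 ze7) (ke xe17 ye17 ze8) (ke xe17 ye17 ze9) (ke xe17 ye17 ze10) (ke xe21 ye16 ze14) (ke xe18 ye11 ze3) (ke xe21 ye16 ze15) (ke xe18 ye21 ze14) (ke xe21 ye16 ze16) (ke xe21 ye16 ze17) (ke xe21 ye16 ze18) (ke xe21 ye16 ze19) (ke xe21 ye13 ze33) (ke xe17 ye17 ze15)) (@D3.rec (fun _ => Pt) (ke xe17 ye17 ze16) (ke xe21 ye9 ze36) (ke xe17 ye21 ze32) (ke xe17 ye17 ze33) (ke xe17 ye17 ze35) (ke xe21 ye9 ze23) (ke xe17 ye17 ze27) (ke xe17 ye17 ze29) (ke xe17 ye18 ze6) (ke xe17 ye18 ze8) (ke xe19 ye17 ze32) (ke xe21 ye8 ze31) (ke xe21 ye16 ze25) (ke xe20 ye22 ze1) (ke xe20 ye22 ze0) (ke xe20 ye18 ze21) (ke xe20 ye8 ze22) (ke xe21 ye8 ze32) (ke xe20 ye18 ze34) (ke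 xe20 ye21 ze31) (ke xe17 ye18 ze5) (ke xe21 ye16 ze26) (ke xe20 ye8 ze16) (ke xe18 ye0 ze30) (ke xe19 ye17 ze35) (ke xe21 ye9 ze37) (ke xe19 ye18 ze9) (ke xe20 ye24 ze6) (ke xe20 ye8 ze38) (ke xe17 ye18 ze18) (ke xe21 ye16 ze37) (ke xe17 ye18 ze21) (ke xe19 ye12 ze33) (ke xe21 ye0 ze30) (ke xe18 ye9 ze13) (ke xe17 ye18 ze24) (ke xe20 ye15 ze37) (ke xe21 ye16 ze38) (ke xe20 ye8 ze28) (ke xe17 ye18 ze32)) (@D3.rec (fun _ => Pt) (ke xe17 ye18 ze29) (ke xe17 ye18 ze30) (ke xe17 ye18 ze31) (ke xe18 ye15 ze39) (ke xe21 ye17 ze1) (ke xe21 ye17 ze2) (ke xe21 ye17 ze3) (ke xe21 ye17 ze4) (ke xe21 ye13 ze38) (ke xe21 ye16 ze39) (ke xe18 ye7 ze26) (ke xe21 ye17 ze0) (ke xe17 ye18 ze35) (ke xe17 ye18 ze36) (ke xe21 ye10 ze15) (ke xe17 ye21 ze24) (ke xe17 ye19 ze15)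 (ke xe17 ye19 ze16) (ke xe21 ye9 ze8) (ke xe17 ye19 ze9) (ke xe17 ye19 ze11) (ke xe17 ye19 ze24) (ke xe17 ye19 ze26) (ke xe19 ye19 ze10) (ke xe21 ye8 ze24) (ke xe21 ye17 ze8) (ke xe20 ye18 ze33) (ke xe21 ye8 ze25) (ke xe20 ye9 ze31) (ke xe17 ye19 ze23) (ke xe21 ye17 ze9) (ke xe20 ye9 ze28) (ke xe18 ye2 ze1) (ke xe19 ye19 ze11) (ke xe21 ye10 ze16) (ke xe20 ye3 ze1) (ke xe17 ye19 ze32) (ke xe20 ye2 ze22) (ke xe21 ye16 ze1) (ke xe20 ye2 ze25)) (@D3.rec (fun _ => Pt) (ke xe17 ye20 ze0) (ke xe20 ye14 ze33) (ke xe20 ye14 ze32) (ke xe19 ye11 ze36) (ke xe20 ye2 ze34) (ke xe17 ye20 ze8) (ke xe17 ye20 ze9) (ke xe17 ye20 ze10) (ke xe20 ye7 ze5) (ke xe21 ye17 ze18) (ke xe21 ye17 ze19) (ke xe20 ye6 ze21) (ke xe21 ye12 ze7) (ke xe21 ye6 ze29) (ke xe20 ye6 ze22) (ke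 xe20 ye3 ze30) (ke xe17 ye20 ze20) (ke xe20 ye1 ze38) (ke xe21 ye15 ze29) (ke xe20 ye2 ze1) (ke xe17 ye20 ze27) (ke xe20 ye15 ze38) (ke xe20 ye15 ze36) (ke xe19 ye12 ze8) (ke xe20 ye3 ze23) (ke xe17 ye20 ze35) (ke xe17 ye20 ze36) (ke xe17 ye20 ze37) (ke xe21 ye17 ze20) (ke xe21 ye17 ze29) (ke xe20 ye5 ze22) (ke xe21 ye12 ze21) (ke xe20 ye6 ze10) (ke xe21 ye7 ze0) (ke xe20 ye5 ze23) (ke xe17 ye21 ze14) (ke xe17 ye21 ze18) (ke xe20 ye12 ze22) (ke xe20 ye12 ze33) (ke xe21 ye5 ze25)) (@D3.rec (fun _ => Pt) (ke xe17 ye21 ze38) (ke xe19 ye12 ze25) (ke xe21 ye6 ze16) (ke xe21 ye4 ze9) (ke xe19 ye16 ze22) (ke xe19 ye0 ze27) (ke xe17 ye22 ze6) (ke xe20 ye12 ze12) (ke xe19 ye16 ze18) (ke xe18 ye24 ze14) (ke xe21 ye5 ze9) (ke xe17 ye22 ze12) (ke xe19 ye12 ze36)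 (ke xe21 ye6 ze33) (ke xe21 ye3 ze11) (ke xe19 ye15 ze16) (ke xe17 ye22 ze19) (ke xe20 ye12 ze7) (ke xe19 ye15 ze11) (ke xe17 ye22 ze29) (ke xe17 ye22 ze38) (ke xe17 ye23 ze4) (ke xe17 ye23 ze6) (ke xe17 ye23 ze9) (ke xe17 ye23 ze10) (ke xe17 ye23 ze22) (ke xe21 ye13 ze2) (ke xe21 ye0 ze1) (ke xe18 ye23 ze39) (ke xe20 ye13 ze17) (ke xe18 ye23 ze38) (ke xe20 ye5 ze38) (ke xe20 ye19 ze12) (ke xe20 ye15 ze3) (ke xe17 ye23 ze37) (ke xe21 ye12 ze35) (ke xe21 ye1 ze38) (ke xe19 ye0 ze13) (ke xe20 ye13 ze25) (ke xe19 ye0 ze12)) (@D3.rec (fun _ => Pt) (ke xe20 ye6 ze35) (ke xe20 ye22 ze18) (ke xe20 ye13 ze38) (ke xe17 ye24 ze8) (ke xe21 ye14 ze31) (ke xe18 ye2 ze15) (ke xe17 ye24 ze10) (ke xe20 ye11 ze17) (ke xe17 ye24 ze14) (ke xe21 ye14 ze12) (ke xe18 ye1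 ze3) (ke xe17 ye24 ze16) (ke xe20 ye11 ze7) (ke xe20 ye12 ze13) (ke xe21 ye18 ze7) (ke xe20 ye12 ze15) (ke xe21 ye18 ze9) (ke xe18 ye10 ze8) (ke xe18 ye6 ze29) (ke xe21 ye13 ze24) (ke xe21 ye13 ze25) (ke xe17 ye24 ze37) (ke xe20 ye10 ze37) (ke xe19 ye14 ze1) (ke xe20 ye6 ze15) (ke xe17 ye25 ze2) (ke xe17 ye25 ze4) (ke xe21 ye18 ze10) (ke xe20 ye13 ze8) (ke xe20 ye13 ze1) (ke xe20 ye13 ze0) (ke xe21 ye5 ze39) (ke xe17 ye25 ze8) (ke xe20 ye10 ze38) (ke xe19 ye13 ze21) (ke xe20 ye7 ze10) (ke xe17 ye25 ze13) (ke xe17 ye25 ze15) (ke xe21 ye18 ze11) (ke xe20 ye13 ze3)) (@D3.rec (fun _ => Pt) (ke xe20 ye12 ze30) (ke xe20 ye12 ze29) (ke xe21 ye6 ze12) (ke xe20 ye12 ze39) (ke xe18 ye16 ze19) (ke xe18 ye15 ze20) (ke xe18 ye15 ze3) (ke xe17 ye25 ze24) (ke xe20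 ye12 ze28) (ke xe18 ye21 ze34) (ke xe18 ye21 ze0) (ke xe18 ye20 ze29) (ke xe17 ye25 ze31) (ke xe20 ye13 ze13) (ke xe21 ye18 ze14) (ke xe20 ye13 ze15) (ke xe21 ye18 ze17) (ke xe20 ye11 ze29) (ke xe20 ye14 ze36) (ke xe18 ye0 ze1) (ke xe20 ye2 ze30) (ke xe20 ye14 ze37) (ke xe18 ye0 ze5) (ke xe21 ye16 ze4) (ke xe20 ye0 ze31) (ke xe20 ye11 ze38) (ke xe20 ye16 ze0) (ke xe18 ye0 ze12) (ke xe20 ye3 ze19) (ke xe20 ye16 ze1) (ke xe18 ye0 ze16) (ke xe21 ye15 ze32) (ke xe20 ye0 ze34) (ke xe21 ye13 ze36) (ke xe19 ye14 ze0) (ke xe20 ye2 ze39) (ke xe21 ye14 ze38) (ke xe20 ye3 ze0) (ke xe20 ye12 ze2) (ke xe21 ye0 ze24)) (@D3.rec (fun _ => Pt) (ke xe18 ye18 ze18) (ke xe18 ye0 ze32) (ke xe21 ye18 ze19) (ke xe21 ye14 ze1) (ke xe21 ye14 ze0) (ke xe21 ye8 ze14) (ke xe18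 ye7 ze38) (ke xe20 ye21 ze19) (ke xe18 ye1 ze4) (ke xe21 ye1 ze29) (ke xe21 ye0 ze7) (ke xe20 ye3 ze28) (ke xe18 ye1 ze9) (ke xe21 ye18 ze20) (ke xe21 ye13 ze37) (ke xe18 ye1 ze13) (ke xe18 ye1 ze14) (ke xe21 ye1 ze15) (ke xe21 ye17 ze15) (ke xe18 ye1 ze16) (ke xe18 ye1 ze17) (ke xe21 ye18 ze21) (ke xe18 ye1 ze20) (ke xe18 ye1 ze21) (ke xe18 ye1 ze22) (ke xe18 ye1 ze23) (ke xe21 ye17 ze16) (ke xe19 ye19 ze5) (ke xe21 ye10 ze13) (ke xe21 ye14 ze4) (ke xe21 ye18 ze23) (ke xe21 ye18 ze24) (ke xe20 ye10 ze2) (ke xe20 ye10 ze1) (ke xe20 ye7 ze23) (ke xe19 ye6 ze33) (ke xe20 ye13 ze18) (ke xe20 ye13 ze21) (ke xe18 ye25 ze6) (ke xe21 ye14 ze2)) (@D3.rec (fun _ => Pt) (ke xe19 ye13 ze20) (ke xe21 ye15 ze11) (ke xe20 ye3 ze29) (ke xe20 ye11 ze33) (ke xe18 ye23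 ze18) (ke xe21 ye2 ze18) (ke xe18 ye2 ze3) (ke xe21 ye18 ze32) (ke xe21 ye13 ze35) (ke xe21 ye13 ze34) (ke xe21 ye8 ze21) (ke xe18 ye11 ze15) (ke xe20 ye18 ze8) (ke xe18 ye2 ze14) (ke xe21 ye2 ze3) (ke xe20 ye25 ze24) (ke xe18 ye2 ze20) (ke xe21 ye18 ze33) (ke xe21 ye14 ze3) (ke xe18 ye2 ze24) (ke xe18 ye2 ze25) (ke xe21 ye16 ze34) (ke xe20 ye25 ze4) (ke xe18 ye2 ze27) (ke xe18 ye2 ze28) (ke xe21 ye18 ze34) (ke xe18 ye2 ze31) (ke xe18 ye2 ze32) (ke xe18 ye2 ze33) (ke xe18 ye2 ze34) (ke xe21 ye17 ze27) (ke xe19 ye17 ze28) (ke xe21 ye10 ze10) (ke xe21 ye14 ze23) (ke xe21 ye18 ze36) (ke xe21 ye18 ze37) (ke xe20 ye10 ze22) (ke xe20 ye8 ze36) (ke xe20 ye10 ze21) (ke xe19 ye7 ze13)) (@D3.rec (fun _ => Pt) (ke xe20 ye13 ze26) (ke xe20 ye13 ze29) (ke xe19 ye1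 ze20) (ke xe19 ye17 ze34) (ke xe21 ye19 ze6) (ke xe18 ye3 ze2) (ke xe18 ye3 ze4) (ke xe18 ye3 ze8) (ke xe18 ye3 ze10) (ke xe21 ye5 ze3) (ke xe21 ye4 ze38) (ke xe21 ye18 ze4) (ke xe18 ye3 ze11) (ke xe18 ye3 ze13) (ke xe21 ye10 ze35) (ke xe18 ye3 ze15) (ke xe21 ye4 ze37) (ke xe18 ye3 ze17) (ke xe18 ye3 ze21) (ke xe18 ye3 ze23) (ke xe18 ye3 ze24) (ke xe21 ye4 ze32) (ke xe21 ye19 ze1) (ke xe21 ye4 ze30) (ke xe18 ye3 ze30) (ke xe21 ye10 ze27) (ke xe18 ye3 ze34) (ke xe18 ye3 ze36) (ke xe18 ye3 ze37) (ke xe18 ye3 ze38) (ke xe21 ye19 ze11) (ke xe18 ye4 ze1) (ke xe21 ye19 ze12) (ke xe21 ye19 ze13) (ke xe21 ye19 ze14) (ke xe20 ye25 ze39) (ke xe18 ye4 ze5) (ke xe18 ye4 ze6) (ke xe18 ye4 ze7) (ke xe18 ye4 ze8)) (@D3.rec (fun _ => Pt) (ke xe21 ye11 ze16) (ke xe21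 ye19 ze21) (ke xe21 ye19 ze19) (ke xe21 ye13 ze4) (ke xe18 ye4 ze13) (ke xe18 ye4 ze12) (ke xe21 ye10 ze12) (ke xe19 ye19 ze14) (ke xe18 ye4 ze19) (ke xe18 ye4 ze23) (ke xe18 ye4 ze25) (ke xe21 ye4 ze29) (ke xe21 ye4 ze24) (ke xe21 ye18 ze1) (ke xe18 ye4 ze26) (ke xe18 ye4 ze29) (ke xe21 ye11 ze13) (ke xe18 ye4 ze30) (ke xe21 ye4 ze23) (ke xe18 ye4 ze32) (ke xe18 ye4 ze36) (ke xe18 ye4 ze38) (ke xe18 ye4 ze39) (ke xe21 ye4 ze17) (ke xe21 ye18 ze28) (ke xe21 ye4 ze15) (ke xe18 ye5 ze5) (ke xe21 ye11 ze7) (ke xe18 ye5 ze9) (ke xe18 ye5 ze11) (ke xe18 ye5 ze12) (ke xe18 ye5 ze13) (ke xe21 ye19 ze25) (ke xe18 ye5 ze16) (ke xe21 ye19 ze26) (ke xe21 ye19 ze27) (ke xe21 ye19 ze28) (ke xe21 ye1 ze39) (ke xe18 ye5 ze20) (ke xe18 ye5 ze21)) (@D3.rec (fun _ =>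 Pt) (ke xe18 ye5 ze22) (ke xe18 ye5 ze23) (ke xe21 ye10 ze34) (ke xe21 ye19 ze33) (ke xe21 ye12 ze38) (ke xe18 ye5 ze27) (ke xe21 ye10 ze7) (ke xe21 ye12 ze37) (ke xe20 ye15 ze12) (ke xe21 ye16 ze12) (ke xe18 ye6 ze1) (ke xe21 ye15 ze30) (ke xe20 ye18 ze35) (ke xe18 ye6 ze35) (ke xe18 ye6 ze2) (ke xe20 ye19 ze5) (ke xe21 ye19 ze38) (ke xe21 ye14 ze37) (ke xe19 ye12 ze15) (ke xe18 ye6 ze4) (ke xe19 ye12 ze11) (ke xe20 ye8 ze15) (ke xe19 ye13 ze3) (ke xe18 ye6 ze27) (ke xe19 ye12 ze14) (ke xe18 ye6 ze8) (ke xe20 ye19 ze35) (ke xe21 ye9 ze38) (ke xe18 ye6 ze12) (ke xe19 ye13 ze6) (ke xe18 ye6 ze16) (ke xe20 ye19 ze36) (ke xe20 ye21 ze17) (ke xe20 ye9 ze26) (ke xe20 ye8 ze18) (ke xe20 ye18 ze12) (ke xe18 ye6 ze28) (ke xe21 ye20 ze0) (ke xe20 ye23 ze21)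 (ke xe18 ye6 ze31)) (@D3.rec (fun _ => Pt) (ke xe18 ye6 ze33) (ke xe21 ye20 ze3) (ke xe21 ye14 ze25) (ke xe20 ye4 ze26) (ke xe18 ye6 ze39) (ke xe20 ye18 ze15) (ke xe21 ye20 ze6) (ke xe20 ye23 ze17) (ke xe21 ye17 ze7) (ke xe18 ye7 ze2) (ke xe21 ye15 ze28) (ke xe21 ye3 ze5) (ke xe20 ye11 ze32) (ke xe19 ye0 ze20) (ke xe21 ye20 ze9) (ke xe18 ye7 ze10) (ke xe21 ye20 ze10) (ke xe20 ye20 ze15) (ke xe18 ye7 ze12) (ke xe18 ye7 ze14) (ke xe18 ye7 ze15) (ke xe18 ye7 ze17) (ke xe18 ye10 ze7) (ke xe18 ye10 ze35) (ke xe18 ye7 ze20) (ke xe18 ye7 ze22) (ke xe18 ye7 ze23) (ke xe21 ye20 ze13) (ke xe21 ye20 ze14) (ke xe20 ye19 ze31) (ke xe20 ye23 ze35) (ke xe20 ye19 ze29) (ke xe20 ye23 ze36) (ke xe18 ye24 ze31) (ke xe18 ye25 ze11) (ke xe20 ye18 ze26) (ke xe20 ye18 ze31)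 (ke xe20 ye23 ze19) (ke xe21 ye20 ze20) (ke xe18 ye7 ze39)) (@D3.rec (fun _ => Pt) (ke xe21 ye20 ze2) (ke xe18 ye8 ze0) (ke xe18 ye8 ze2) (ke xe18 ye8 ze3) (ke xe18 ye22 ze33) (ke xe18 ye8 ze6) (ke xe18 ye8 ze7) (ke xe21 ye20 ze21) (ke xe21 ye20 ze22) (ke xe18 ye8 ze10) (ke xe18 ye8 ze11) (ke xe18 ye8 ze12) (ke xe21 ye20 ze23) (ke xe21 ye20 ze24) (ke xe21 ye20 ze27) (ke xe20 ye19 ze17) (ke xe19 ye11 ze28) (ke xe20 ye20 ze25) (ke xe18 ye8 ze17) (ke xe18 ye8 ze18) (ke xe18 ye8 ze19) (ke xe21 ye20 ze30) (ke xe20 ye22 ze11) (ke xe21 ye20 ze34) (ke xe20 ye22 ze13) (ke xe20 ye20 ze17) (ke xe18 ye8 ze22) (ke xe20 ye22 ze34) (ke xe20 ye4 ze23) (ke xe20 ye22 ze4) (ke xe18 ye8 ze26) (ke xe18 ye8 ze38) (ke xe18 ye8 ze28) (ke xe18 ye8 ze37) (ke xe21 ye0 ze4) (ke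 xe18 ye10 ze37) (ke xe18 ye8 ze32) (ke xe21 ye20 ze37) (ke xe21 ye20 ze36) (ke xe18 ye18 ze1)) (@D3.rec (fun _ => Pt) (ke xe18 ye22 ze28) (ke xe19 ye25 ze13) (ke xe18 ye15 ze36) (ke xe18 ye8 ze39) (ke xe18 ye9 ze0) (ke xe21 ye21 ze2) (ke xe18 ye9 ze4) (ke xe21 ye21 ze3) (ke xe21 ye21 ze6) (ke xe20 ye21 ze11) (ke xe20 ye22 ze29) (ke xe20 ye21 ze9) (ke xe20 ye22 ze30) (ke xe21 ye4 ze2) (ke xe21 ye21 ze9) (ke xe18 ye9 ze8) (ke xe20 ye22 ze33) (ke xe20 ye18 ze32) (ke xe21 ye13 ze3) (ke xe20 ye14 ze7) (ke xe21 ye16 ze7) (ke xe18 ye9 ze21) (ke xe21 ye16 ze2) (ke xe20 ye22 ze2) (ke xe18 ye10 ze14) (ke xe18 ye9 ze22) (ke xe21 ye21 ze12) (ke xe21 ye15 ze10) (ke xe19 ye12 ze3) (ke xe18 ye9 ze24) (ke xe19 ye11 ze39) (ke xe20 ye8 ze19) (ke xe19 ye13 ze23) (ke xe18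 ye10 ze6) (ke xe19 ye12 ze2) (ke xe18 ye9 ze28) (ke xe21 ye10 ze17) (ke xe18 ye9 ze31) (ke xe19 ye13 ze26) (ke xe18 ye9 ze35)) (@D3.rec (fun _ => Pt) (ke xe20 ye8 ze14) (ke xe20 ye8 ze13) (ke xe20 ye21 ze23) (ke xe21 ye20 ze12) (ke xe20 ye20 ze29) (ke xe18 ye10 ze10) (ke xe18 ye10 ze12) (ke xe21 ye21 ze15) (ke xe21 ye14 ze6) (ke xe20 ye5 ze12) (ke xe18 ye10 ze18) (ke xe20 ye20 ze22) (ke xe21 ye21 ze18) (ke xe20 ye20 ze24) (ke xe21 ye16 ze21) (ke xe18 ye10 ze21) (ke xe21 ye4 ze3) (ke xe21 ye16 ze0) (ke xe20 ye12 ze1) (ke xe18 ye24 ze5) (ke xe18 ye10 ze29) (ke xe21 ye21 ze21) (ke xe18 ye10 ze31) (ke xe18 ye10 ze33) (ke xe18 ye10 ze34) (ke xe18 ye10 ze39) (ke xe18 ye11 ze0) (ke xe21 ye21 ze22) (ke xe21 ye21 ze23) (ke xe20 ye21 ze10) (ke xe20 ye21 ze12)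 (ke xe19 ye1 ze4) (ke xe19 ye1 ze24) (ke xe20 ye21 ze16) (ke xe20 ye20 ze27) (ke xe21 ye21 ze25) (ke xe18 ye11 ze16) (ke xe21 ye21 ze14) (ke xe18 ye11 ze17) (ke xe18 ye11 ze19)) (@D3.rec (fun _ => Pt) (ke xe18 ye11 ze20) (ke xe18 ye17 ze31) (ke xe18 ye11 ze23) (ke xe18 ye11 ze24) (ke xe21 ye21 ze26) (ke xe18 ye11 ze27) (ke xe18 ye11 ze28) (ke xe18 ye11 ze29) (ke xe21 ye21 ze27) (ke xe21 ye21 ze28) (ke xe21 ye21 ze29) (ke xe19 ye11 ze21) (ke xe18 ye11 ze34) (ke xe18 ye11 ze35) (ke xe18 ye11 ze36) (ke xe21 ye21 ze31) (ke xe21 ye21 ze32) (ke xe20 ye19 ze7) (ke xe18 ye11 ze39) (ke xe20 ye19 ze37) (ke xe20 ye5 ze9) (ke xe20 ye18 ze38) (ke xe18 ye12 ze3) (ke xe18 ye12 ze12) (ke xe18 ye12 ze11) (ke xe18 ye23 ze3) (ke xe18 ye17 ze27) (ke xe19 ye25 ze28) (ke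 xe18 ye21 ze12) (ke xe18 ye12 ze13) (ke xe18 ye12 ze14) (ke xe21 ye21 ze35) (ke xe18 ye12 ze18) (ke xe21 ye21 ze36) (ke xe21 ye19 ze39) (ke xe20 ye19 ze30) (ke xe20 ye19 ze32) (ke xe21 ye3 ze4) (ke xe21 ye20 ze19) (ke xe18 ye12 ze22)) (@D3.rec (fun _ => Pt) (ke xe18 ye12 ze29) (ke xe18 ye12 ze37) (ke xe19 ye17 ze6) (ke xe19 ye17 ze9) (ke xe19 ye16 ze2) (ke xe21 ye1 ze13) (ke xe20 ye8 ze27) (ke xe18 ye13 ze6) (ke xe18 ye13 ze8) (ke xe20 ye7 ze20) (ke xe18 ye13 ze11) (ke xe18 ye13 ze13) (ke xe21 ye22 ze1) (ke xe18 ye13 ze15) (ke xe19 ye23 ze29) (ke xe18 ye19 ze7) (ke xe19 ye0 ze2) (ke xe19 ye0 ze8) (ke xe18 ye13 ze32) (ke xe18 ye13 ze33) (ke xe21 ye3 ze16) (ke xe18 ye13 ze34) (ke xe20 ye1 ze3) (ke xe19 ye22 ze25) (ke xe21 ye15 ze33) (ke xe18 ye14 ze3)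 (ke xe21 ye22 ze4) (ke xe18 ye14 ze5) (ke xe21 ye22 ze5) (ke xe20 ye25 ze1) (ke xe18 ye14 ze8) (ke xe19 ye8 ze35) (ke xe19 ye0 ze16) (ke xe19 ye11 ze30) (ke xe19 ye0 ze6) (ke xe19 ye0 ze32) (ke xe19 ye18 ze32) (ke xe18 ye22 ze2) (ke xe19 ye11 ze3) (ke xe19 ye18 ze34)) (@D3.rec (fun _ => Pt) (ke xe18 ye15 ze2) (ke xe20 ye24 ze29) (ke xe18 ye20 ze28) (ke xe21 ye1 ze14) (ke xe20 ye15 ze22) (ke xe19 ye18 ze5) (ke xe21 ye22 ze9) (ke xe18 ye15 ze21) (ke xe21 ye21 ze24) (ke xe18 ye15 ze23) (ke xe18 ye15 ze25) (ke xe21 ye21 ze34) (ke xe18 ye15 ze28) (ke xe18 ye15 ze27) (ke xe21 ye22 ze10) (ke xe18 ye18 ze7) (ke xe18 ye15 ze35) (ke xe21 ye21 ze0) (ke xe21 ye21 ze1) (ke xe21 ye17 ze6) (ke xe18 ye16 ze6) (ke xe19 ye15 ze13) (ke xe20 ye6 ze18) (ke xe18 ye16 ze7)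 (ke xe20 ye15 ze15) (ke xe18 ye25 ze17) (ke xe19 ye20 ze34) (ke xe21 ye1 ze32) (ke xe19 ye22 ze0) (ke xe18 ye16 ze30) (ke xe18 ye16 ze33) (ke xe18 ye16 ze36) (ke xe21 ye11 ze35) (ke xe18 ye17 ze2) (ke xe21 ye13 ze17) (ke xe19 ye2 ze20) (ke xe19 ye2 ze21) (ke xe18 ye17 ze7) (ke xe18 ye17 ze9) (ke xe20 ye16 ze35))
def f_e_21 : D2 → D3 → Pt := @D2.rec (fun _ => D3 → Pt) (@D3.rec (fun _ => Pt) (ke xe21 ye2 ze16) (ke xe20 ye11 ze27) (ke xe19 ye10 ze36) (ke xe18 ye17 ze16) (ke xe20 ye20 ze34) (ke xe19 ye3 ze7) (ke xe19 ye10 ze30) (ke xe20 ye14 ze10) (ke xe21 ye21 ze33) (ke xe18 ye17 ze32) (ke xe21 ye2 ze6) (ke xe21 ye2 ze5) (ke xe18 ye17 ze36) (ke xe18 ye17 ze37) (ke xe18 ye18 ze3) (ke xe18 ye18 ze2) (ke xe21 ye22 ze15) (ke xe18 ye18 ze11) (ke xe18 ye18 ze12)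 (ke xe18 ye18 ze13) (ke xe18 ye18 ze19) (ke xe21 ye4 ze33) (ke xe21 ye1 ze37) (ke xe21 ye4 ze34) (ke xe20 ye13 ze39) (ke xe18 ye18 ze31) (ke xe19 ye18 ze24) (ke xe19 ye18 ze27) (ke xe19 ye14 ze19) (ke xe18 ye19 ze1) (ke xe20 ye8 ze33) (ke xe18 ye19 ze5) (ke xe20 ye7 ze12) (ke xe19 ye24 ze22) (ke xe18 ye23 ze28) (ke xe18 ye23 ze34) (ke xe18 ye19 ze25) (ke xe18 ye19 ze26) (ke xe21 ye4 ze14) (ke xe18 ye19 ze27)) (@D3.rec (fun _ => Pt) (ke xe20 ye0 ze39) (ke xe21 ye16 ze5) (ke xe18 ye19 ze35) (ke xe21 ye21 ze39) (ke xe18 ye19 ze37) (ke xe19 ye8 ze27) (ke xe18 ye24 ze3) (ke xe19 ye11 ze23) (ke xe18 ye23 ze33) (ke xe18 ye24 ze17) (ke xe19 ye17 ze14) (ke xe19 ye10 ze39) (ke xe19 ye17 ze16) (ke xe20 ye24 ze5) (ke xe20 ye25 ze3) (ke xe20 ye14 ze17) (ke xe19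 ye19 ze22) (ke xe18 ye21 ze1) (ke xe21 ye20 ze15) (ke xe18 ye21 ze4) (ke xe18 ye21 ze7) (ke xe18 ye21 ze6) (ke xe21 ye22 ze22) (ke xe18 ye21 ze11) (ke xe21 ye16 ze20) (ke xe18 ye21 ze21) (ke xe19 ye16 ze20) (ke xe20 ye5 ze19) (ke xe18 ye21 ze22) (ke xe20 ye14 ze9) (ke xe19 ye1 ze30) (ke xe19 ye20 ze30) (ke xe20 ye25 ze27) (ke xe19 ye2 ze38) (ke xe19 ye2 ze39) (ke xe18 ye22 ze13) (ke xe18 ye22 ze14) (ke xe21 ye0 ze22) (ke xe20 ye11 ze36) (ke xe20 ye17 ze37)) (@D3.rec (fun _ => Pt) (ke xe19 ye10 ze19) (ke xe19 ye2 ze30) (ke xe19 ye10 ze13) (ke xe20 ye15 ze14) (ke xe18 ye22 ze32) (ke xe21 ye0 ze11) (ke xe21 ye0 ze10) (ke xe18 ye22 ze37) (ke xe18 ye22 ze38) (ke xe18 ye23 ze4) (ke xe18 ye23 ze2) (ke xe18 ye23 ze11) (ke xe18 ye23 ze12) (ke xe18 ye23 ze13)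 (ke xe18 ye23 ze19) (ke xe21 ye4 ze19) (ke xe21 ye0 ze0) (ke xe21 ye4 ze21) (ke xe20 ye15 ze5) (ke xe18 ye23 ze30) (ke xe20 ye7 ze6) (ke xe21 ye3 ze9) (ke xe20 ye4 ze33) (ke xe21 ye22 ze21) (ke xe21 ye21 ze20) (ke xe18 ye23 ze37) (ke xe19 ye11 ze24) (ke xe21 ye18 ze2) (ke xe21 ye22 ze19) (ke xe18 ye24 ze6) (ke xe21 ye22 ze25) (ke xe18 ye24 ze9) (ke xe18 ye24 ze10) (ke xe21 ye18 ze26) (ke xe19 ye19 ze6) (ke xe19 ye17 ze2) (ke xe21 ye5 ze10) (ke xe18 ye25 ze10) (ke xe19 ye12 ze9) (ke xe18 ye24 ze22)) (@D3.rec (fun _ => Pt) (ke xe18 ye24 ze23) (ke xe21 ye20 ze7) (ke xe18 ye24 ze27) (ke xe18 ye24 ze26) (ke xe20 ye23 ze37) (ke xe20 ye19 ze11) (ke xe18 ye24 ze34) (ke xe19 ye16 ze5) (ke xe18 ye24 ze36) (ke xe21 ye2 ze21) (ke xe21 ye8 ze13) (ke xe20 ye11 ze14)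 (ke xe21 ye10 ze4) (ke xe21 ye10 ze5) (ke xe18 ye25 ze24) (ke xe18 ye25 ze37) (ke xe20 ye24 ze20) (ke xe19 ye0 ze4) (ke xe20 ye6 ze11) (ke xe21 ye4 ze7) (ke xe21 ye22 ze8) (ke xe20 ye4 ze7) (ke xe21 ye20 ze8) (ke xe19 ye0 ze11) (ke xe19 ye11 ze31) (ke xe21 ye18 ze5) (ke xe21 ye22 ze6) (ke xe19 ye0 ze19) (ke xe21 ye22 ze28) (ke xe19 ye0 ze23) (ke xe19 ye0 ze24) (ke xe21 ye18 ze39) (ke xe19 ye17 ze27) (ke xe19 ye18 ze20) (ke xe19 ye1 ze26) (ke xe21 ye5 ze26) (ke xe19 ye11 ze37) (ke xe19 ye0 ze36) (ke xe19 ye0 ze37) (ke xe21 ye21 ze19)) (@D3.rec (fun _ => Pt) (ke xe19 ye1 ze1) (ke xe19 ye0 ze39) (ke xe20 ye21 ze13) (ke xe20 ye22 ze16) (ke xe19 ye1 ze7) (ke xe19 ye14 ze23) (ke xe19 ye1 ze10) (ke xe21 ye3 ze19) (ke xe21 ye8 ze20) (ke xe20 ye11 ze3) (ke xe21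 ye10 ze20) (ke xe21 ye10 ze21) (ke xe19 ye2 ze0) (ke xe19 ye2 ze9) (ke xe21 ye0 ze38) (ke xe20 ye17 ze25) (ke xe19 ye7 ze0) (ke xe20 ye17 ze23) (ke xe21 ye11 ze24) (ke xe21 ye2 ze15) (ke xe21 ye22 ze13) (ke xe21 ye2 ze17) (ke xe21 ye11 ze25) (ke xe20 ye17 ze18) (ke xe20 ye17 ze12) (ke xe19 ye2 ze25) (ke xe19 ye2 ze26) (ke xe19 ye2 ze29) (ke xe21 ye13 ze26) (ke xe20 ye17 ze11) (ke xe20 ye16 ze23) (ke xe19 ye6 ze20) (ke xe20 ye16 ze21) (ke xe21 ye0 ze21) (ke xe21 ye0 ze23) (ke xe21 ye22 ze23) (ke xe21 ye11 ze37) (ke xe20 ye16 ze16) (ke xe20 ye16 ze10) (ke xe19 ye3 ze3)) (@D3.rec (fun _ => Pt) (ke xe19 ye3 ze4) (ke xe19 ye3 ze8) (ke xe21 ye13 ze29) (ke xe20 ye16 ze9) (ke xe19 ye7 ze16) (ke xe19 ye3 ze23) (ke xe19 ye6 ze36) (ke xe19 ye3 ze36) (ke xe19 ye4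 ze5) (ke xe20 ye11 ze10) (ke xe21 ye2 ze36) (ke xe21 ye5 ze29) (ke xe19 ye10 ze2) (ke xe21 ye5 ze28) (ke xe19 ye7 ze35) (ke xe19 ye6 ze12) (ke xe19 ye6 ze10) (ke xe19 ye6 ze11) (ke xe19 ye6 ze13) (ke xe19 ye7 ze18) (ke xe19 ye5 ze7) (ke xe19 ye5 ze8) (ke xe19 ye5 ze16) (ke xe19 ye5 ze15) (ke xe19 ye5 ze26) (ke xe20 ye10 ze39) (ke xe21 ye3 ze35) (ke xe19 ye10 ze3) (ke xe21 ye5 ze13) (ke xe21 ye5 ze11) (ke xe19 ye6 ze21) (ke xe19 ye6 ze22) (ke xe19 ye6 ze24) (ke xe19 ye6 ze27) (ke xe19 ye6 ze28) (ke xe19 ye6 ze32) (ke xe21 ye17 ze21) (ke xe19 ye6 ze34) (ke xe19 ye6 ze35) (ke xe20 ye12 ze31)) (@D3.rec (fun _ => Pt) (ke xe21 ye22 ze18) (ke xe21 ye22 ze32) (ke xe21 ye17 ze25) (ke xe19 ye7 ze1) (ke xe19 ye7 ze2) (ke xe19 ye7 ze4) (ke xe19 ye7 ze7) (ke xe19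 ye7 ze8) (ke xe19 ye7 ze12) (ke xe21 ye17 ze30) (ke xe19 ye7 ze14) (ke xe19 ye7 ze15) (ke xe20 ye13 ze2) (ke xe21 ye22 ze2) (ke xe21 ye22 ze36) (ke xe21 ye17 ze34) (ke xe20 ye11 ze2) (ke xe21 ye6 ze30) (ke xe21 ye6 ze31) (ke xe19 ye8 ze0) (ke xe21 ye6 ze32) (ke xe19 ye8 ze2) (ke xe19 ye7 ze28) (ke xe19 ye7 ze30) (ke xe19 ye7 ze31) (ke xe21 ye23 ze3) (ke xe21 ye23 ze4) (ke xe21 ye23 ze5) (ke xe21 ye23 ze6) (ke xe20 ye10 ze13) (ke xe21 ye6 ze17) (ke xe21 ye6 ze18) (ke xe21 ye6 ze20) (ke xe20 ye11 ze13) (ke xe21 ye7 ze1) (ke xe19 ye7 ze39) (ke xe21 ye23 ze14) (ke xe21 ye23 ze15) (ke xe21 ye23 ze16) (ke xe21 ye23 ze2)) (@D3.rec (fun _ => Pt) (ke xe20 ye10 ze33) (ke xe21 ye6 ze34) (ke xe19 ye8 ze5) (ke xe20 ye4 ze2) (ke xe20 ye4 ze1) (ke xe20 ye4 ze0) (ke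 xe19 ye8 ze13) (ke xe20 ye3 ze13) (ke xe20 ye3 ze12) (ke xe20 ye3 ze11) (ke xe21 ye13 ze32) (ke xe19 ye11 ze26) (ke xe21 ye13 ze39) (ke xe19 ye11 ze33) (ke xe19 ye12 ze4) (ke xe19 ye12 ze16) (ke xe20 ye7 ze4) (ke xe20 ye6 ze9) (ke xe19 ye19 ze23) (ke xe19 ye13 ze15) (ke xe19 ye18 ze4) (ke xe19 ye13 ze35) (ke xe19 ye17 ze25) (ke xe19 ye17 ze33) (ke xe21 ye11 ze22) (ke xe19 ye19 ze4) (ke xe19 ye19 ze13) (ke xe21 ye11 ze3) (ke xe21 ye8 ze5) (ke xe21 ye7 ze36) (ke xe19 ye10 ze6) (ke xe21 ye23 ze26) (ke xe19 ye10 ze7) (ke xe19 ye10 ze11) (ke xe21 ye22 ze24) (ke xe19 ye22 ze20) (ke xe21 ye7 ze29) (ke xe21 ye18 ze29) (ke xe19 ye23 ze5) (ke xe19 ye10 ze23)) (@D3.rec (fun _ => Pt) (ke xe21 ye23 ze29) (ke xe19 ye10 ze24) (ke xe19 ye10 ze28) (ke xe21 ye22 ze14)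 (ke xe19 ye21 ze33) (ke xe21 ye7 ze28) (ke xe21 ye19 ze2) (ke xe19 ye24 ze2) (ke xe21 ye14 ze5) (ke xe21 ye20 ze35) (ke xe21 ye19 ze24) (ke xe21 ye10 ze29) (ke xe21 ye22 ze20) (ke xe21 ye3 ze10) (ke xe20 ye14 ze5) (ke xe21 ye14 ze24) (ke xe21 ye20 ze28) (ke xe21 ye19 ze9) (ke xe21 ye11 ze9) (ke xe21 ye22 ze7) (ke xe21 ye4 ze8) (ke xe20 ye15 ze10) (ke xe21 ye15 ze6) (ke xe20 ye7 ze8) (ke xe20 ye9 ze24) (ke xe20 ye9 ze27) (ke xe21 ye9 ze21) (ke xe20 ye6 ze7) (ke xe20 ye4 ze22) (ke xe21 ye15 ze19) (ke xe20 ye6 ze13) (ke xe20 ye8 ze11) (ke xe20 ye8 ze17) (ke xe21 ye9 ze6) (ke xe20 ye6 ze6) (ke xe20 ye5 ze8) (ke xe19 ye12 ze23) (ke xe20 ye5 ze27) (ke xe21 ye15 ze22) (ke xe19 ye19 ze3)) (@D3.rec (fun _ => Pt) (ke xe19 ye19 ze12) (ke xe19 ye12 ze34) (ke xe20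 ye6 ze25) (ke xe21 ye15 ze34) (ke xe19 ye17 ze26) (ke xe19 ye17 ze36) (ke xe21 ye8 ze33) (ke xe21 ye16 ze30) (ke xe20 ye9 ze18) (ke xe19 ye13 ze5) (ke xe21 ye19 ze34) (ke xe20 ye4 ze39) (ke xe20 ye4 ze38) (ke xe19 ye13 ze11) (ke xe20 ye5 ze6) (ke xe21 ye15 ze20) (ke xe21 ye23 ze36) (ke xe21 ye16 ze36) (ke xe19 ye13 ze16) (ke xe19 ye13 ze19) (ke xe21 ye17 ze22) (ke xe21 ye8 ze26) (ke xe21 ye16 ze32) (ke xe20 ye8 ze5) (ke xe19 ye13 ze25) (ke xe21 ye21 ze10) (ke xe20 ye4 ze13) (ke xe20 ye4 ze12) (ke xe19 ye13 ze31) (ke xe21 ye15 ze7) (ke xe20 ye4 ze20) (ke xe21 ye23 ze37) (ke xe21 ye16 ze8) (ke xe19 ye13 ze36) (ke xe19 ye13 ze39) (ke xe21 ye17 ze31) (ke xe20 ye8 ze1) (ke xe20 ye8 ze25) (ke xe20 ye18 ze27) (ke xe19 ye20 ze27)) (@D3.rec (fun _ => Pt) (ke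 xe21 ye22 ze16) (ke xe19 ye20 ze31) (ke xe20 ye6 ze16) (ke xe19 ye16 ze27) (ke xe21 ye3 ze12) (ke xe21 ye3 ze13) (ke xe21 ye12 ze33) (ke xe20 ye18 ze6) (ke xe21 ye17 ze39) (ke xe19 ye15 ze15) (ke xe20 ye15 ze32) (ke xe21 ye12 ze36) (ke xe20 ye17 ze6) (ke xe20 ye14 ze28) (ke xe19 ye15 ze30) (ke xe20 ye9 ze14) (ke xe20 ye9 ze34) (ke xe20 ye21 ze36) (ke xe21 ye21 ze38) (ke xe20 ye5 ze17) (ke xe21 ye4 ze10) (ke xe21 ye4 ze11) (ke xe21 ye17 ze37) (ke xe19 ye16 ze23) (ke xe19 ye17 ze1) (ke xe19 ye17 ze4) (ke xe19 ye17 ze20) (ke xe20 ye16 ze25) (ke xe19 ye17 ze19) (ke xe21 ye8 ze11) (ke xe21 ye18 ze38) (ke xe19 ye17 ze30) (ke xe19 ye17 ze31) (ke xe21 ye23 ze38) (ke xe20 ye18 ze2) (ke xe20 ye16 ze14) (ke xe21 ye11 ze38) (ke xe21 ye23 ze22) (ke xe21 ye19 ze4)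 (ke xe19 ye20 ze28)) (@D3.rec (fun _ => Pt) (ke xe19 ye18 ze1) (ke xe19 ye18 ze2) (ke xe21 ye17 ze14) (ke xe21 ye7 ze27) (ke xe19 ye18 ze19) (ke xe19 ye18 ze22) (ke xe19 ye18 ze37) (ke xe20 ye17 ze27) (ke xe19 ye18 ze38) (ke xe21 ye8 ze18) (ke xe21 ye18 ze25) (ke xe19 ye19 ze8) (ke xe19 ye19 ze9) (ke xe20 ye17 ze16) (ke xe21 ye11 ze26) (ke xe21 ye24 ze0) (ke xe20 ye17 ze0) (ke xe21 ye19 ze20) (ke xe19 ye20 ze32) (ke xe19 ye19 ze19) (ke xe19 ye19 ze20) (ke xe21 ye16 ze33) (ke xe21 ye7 ze24) (ke xe19 ye20 ze4) (ke xe21 ye4 ze18) (ke xe21 ye4 ze22) (ke xe21 ye11 ze14) (ke xe19 ye19 ze39) (ke xe21 ye24 ze3) (ke xe19 ye20 ze1) (ke xe21 ye24 ze5) (ke xe21 ye24 ze6) (ke xe21 ye13 ze18) (ke xe21 ye24 ze10) (ke xe21 ye24 ze2) (ke xe20 ye25 ze32) (ke xe19 ye20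 ze8) (ke xe21 ye4 ze36) (ke xe21 ye10 ze36) (ke xe21 ye12 ze4)) (@D3.rec (fun _ => Pt) (ke xe21 ye12 ze3) (ke xe21 ye12 ze2) (ke xe21 ye12 ze1) (ke xe21 ye12 ze0) (ke xe21 ye11 ze39) (ke xe19 ye21 ze25) (ke xe21 ye24 ze18) (ke xe20 ye10 ze12) (ke xe19 ye21 ze28) (ke xe19 ye21 ze29) (ke xe19 ye21 ze30) (ke xe21 ye24 ze19) (ke xe21 ye17 ze32) (ke xe21 ye23 ze19) (ke xe19 ye21 ze34) (ke xe21 ye23 ze31) (ke xe19 ye22 ze24) (ke xe19 ye21 ze38) (ke xe21 ye22 ze11) (ke xe19 ye22 ze12) (ke xe21 ye24 ze21) (ke xe20 ye10 ze31) (ke xe19 ye22 ze15) (ke xe19 ye22 ze16) (ke xe19 ye22 ze17) (ke xe21 ye24 ze22) (ke xe21 ye17 ze23) (ke xe21 ye23 ze20) (ke xe19 ye22 ze21) (ke xe21 ye23 ze28) (ke xe21 ye22 ze3) (ke xe19 ye22 ze37) (ke xe20 ye3 ze15) (ke xe21 ye10 ze6)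 (ke xe19 ye23 ze14) (ke xe20 ye11 ze35) (ke xe21 ye10 ze11) (ke xe20 ye18 ze7) (ke xe20 ye18 ze4) (ke xe19 ye23 ze34)) (@D3.rec (fun _ => Pt) (ke xe20 ye4 ze3) (ke xe19 ye24 ze9) (ke xe20 ye11 ze26) (ke xe20 ye21 ze18) (ke xe20 ye17 ze3) (ke xe19 ye24 ze31) (ke xe19 ye24 ze29) (ke xe19 ye24 ze30) (ke xe21 ye24 ze26) (ke xe19 ye25 ze23) (ke xe19 ye25 ze3) (ke xe19 ye25 ze1) (ke xe19 ye25 ze2) (ke xe21 ye24 ze27) (ke xe21 ye20 ze38) (ke xe19 ye25 ze16) (ke xe21 ye24 ze9) (ke xe20 ye25 ze34) (ke xe21 ye11 ze32) (ke xe21 ye24 ze29) (ke xe19 ye25 ze20) (ke xe19 ye25 ze21) (ke xe21 ye24 ze30) (ke xe19 ye25 ze30) (ke xe20 ye12 ze19) (ke xe20 ye12 ze20) (ke xe21 ye4 ze28) (ke xe20 ye1 ze10) (ke xe21 ye16 ze3) (ke xe21 ye5 ze2) (ke xe20 ye1 ze17) (ke xe21 ye15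 ze31) (ke xe21 ye7 ze10) (ke xe20 ye7 ze38) (ke xe20 ye15 ze9) (ke xe20 ye15 ze8) (ke xe20 ye13 ze33) (ke xe20 ye14 ze14) (ke xe20 ye9 ze8) (ke xe21 ye7 ze12)) (@D3.rec (fun _ => Pt) (ke xe20 ye14 ze4) (ke xe20 ye14 ze3) (ke xe20 ye14 ze39) (ke xe20 ye15 ze18) (ke xe20 ye14 ze29) (ke xe21 ye8 ze8) (ke xe20 ye22 ze8) (ke xe21 ye17 ze17) (ke xe20 ye2 ze37) (ke xe20 ye2 ze38) (ke xe21 ye24 ze35) (ke xe20 ye6 ze3) (ke xe20 ye12 ze9) (ke xe20 ye3 ze5) (ke xe20 ye3 ze6) (ke xe20 ye3 ze7) (ke xe20 ye3 ze8) (ke xe20 ye3 ze9) (ke xe20 ye3 ze34) (ke xe20 ye3 ze35) (ke xe21 ye24 ze37) (ke xe21 ye24 ze38) (ke xe20 ye3 ze37) (ke xe20 ye15 ze33) (ke xe21 ye8 ze15) (ke xe20 ye19 ze2) (ke xe21 ye17 ze28) (ke xe20 ye3 ze26) (ke xe20 ye3 ze27) (ke xe21 ye25 ze2) (ke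 xe20 ye7 ze0) (ke xe20 ye12 ze4) (ke xe20 ye3 ze36) (ke xe20 ye3 ze38) (ke xe21 ye24 ze39) (ke xe21 ye25 ze1) (ke xe21 ye25 ze6) (ke xe20 ye18 ze17) (ke xe20 ye13 ze36) (ke xe20 ye4 ze6)) (@D3.rec (fun _ => Pt) (ke xe21 ye15 ze8) (ke xe20 ye4 ze14) (ke xe21 ye18 ze30) (ke xe21 ye23 ze30) (ke xe20 ye4 ze19) (ke xe20 ye4 ze21) (ke xe21 ye8 ze22) (ke xe21 ye9 ze29) (ke xe21 ye15 ze0) (ke xe21 ye25 ze8) (ke xe20 ye21 ze27) (ke xe20 ye15 ze1) (ke xe20 ye4 ze32) (ke xe21 ye15 ze21) (ke xe20 ye5 ze0) (ke xe21 ye19 ze3) (ke xe21 ye23 ze27) (ke xe20 ye5 ze5) (ke xe20 ye5 ze7) (ke xe21 ye8 ze29) (ke xe21 ye9 ze15) (ke xe21 ye15 ze13) (ke xe21 ye8 ze38) (ke xe21 ye17 ze33) (ke xe21 ye17 ze35) (ke xe21 ye19 ze7) (ke xe20 ye6 ze1) (ke xe20 ye6 ze2) (ke xe20 ye19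 ze10) (ke xe20 ye10 ze18) (ke xe20 ye18 ze11) (ke xe21 ye13 ze31) (ke xe20 ye13 ze31) (ke xe20 ye24 ze24) (ke xe21 ye9 ze3) (ke xe21 ye17 ze24) (ke xe21 ye17 ze26) (ke xe21 ye19 ze10) (ke xe20 ye6 ze38) (ke xe20 ye6 ze39)) (@D3.rec (fun _ => Pt) (ke xe20 ye22 ze17) (ke xe20 ye9 ze38) (ke xe20 ye21 ze22) (ke xe21 ye13 ze28) (ke xe20 ye13 ze23) (ke xe21 ye1 ze1) (ke xe21 ye22 ze17) (ke xe20 ye21 ze20) (ke xe21 ye9 ze32) (ke xe20 ye7 ze15) (ke xe20 ye7 ze16) (ke xe20 ye7 ze17) (ke xe20 ye18 ze9) (ke xe20 ye7 ze24) (ke xe20 ye7 ze30) (ke xe20 ye7 ze32) (ke xe20 ye7 ze34) (ke xe20 ye7 ze35) (ke xe20 ye7 ze36) (ke xe20 ye7 ze37) (ke xe21 ye1 ze24) (ke xe20 ye22 ze14) (ke xe21 ye25 ze9) (ke xe21 ye24 ze32) (ke xe21 ye24 ze33) (ke xe20 ye8 ze12) (ke xe20 ye8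 ze21) (ke xe21 ye18 ze3) (ke xe21 ye19 ze5) (ke xe21 ye23 ze33) (ke xe21 ye9 ze7) (ke xe21 ye23 ze35) (ke xe21 ye9 ze22) (ke xe21 ye11 ze21) (ke xe20 ye15 ze21) (ke xe21 ye22 ze0) (ke xe21 ye9 ze17) (ke xe20 ye8 ze30) (ke xe20 ye8 ze37) (ke xe20 ye9 ze9)) (@D3.rec (fun _ => Pt) (ke xe20 ye9 ze11) (ke xe20 ye9 ze4) (ke xe20 ye9 ze5) (ke xe20 ye9 ze6) (ke xe20 ye9 ze7) (ke xe21 ye25 ze10) (ke xe20 ye25 ze19) (ke xe20 ye19 ze8) (ke xe20 ye9 ze25) (ke xe20 ye9 ze30) (ke xe21 ye18 ze0) (ke xe21 ye19 ze22) (ke xe21 ye23 ze32) (ke xe21 ye23 ze34) (ke xe21 ye11 ze2) (ke xe20 ye14 ze18) (ke xe20 ye14 ze26) (ke xe21 ye14 ze7) (ke xe20 ye10 ze9) (ke xe20 ye10 ze10) (ke xe20 ye10 ze28) (ke xe21 ye5 ze36) (ke xe21 ye9 ze20) (ke xe21 ye12 ze26) (ke xe21 ye15 ze35)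 (ke xe21 ye6 ze2) (ke xe21 ye15 ze36) (ke xe20 ye15 ze30) (ke xe21 ye14 ze26) (ke xe20 ye10 ze29) (ke xe21 ye6 ze9) (ke xe21 ye9 ze35) (ke xe21 ye12 ze12) (ke xe21 ye15 ze23) (ke xe21 ye6 ze15) (ke xe21 ye15 ze24) (ke xe21 ye22 ze39) (ke xe21 ye10 ze22) (ke xe21 ye23 ze11) (ke xe21 ye10 ze8)) (@D3.rec (fun _ => Pt) (ke xe21 ye17 ze10) (ke xe20 ye17 ze13) (ke xe21 ye2 ze27) (ke xe21 ye16 ze27) (ke xe20 ye16 ze11) (ke xe21 ye3 ze25) (ke xe21 ye21 ze13) (ke xe20 ye12 ze14) (ke xe21 ye20 ze1) (ke xe20 ye12 ze16) (ke xe20 ye12 ze27) (ke xe20 ye12 ze38) (ke xe21 ye18 ze12) (ke xe21 ye25 ze17) (ke xe20 ye13 ze14) (ke xe21 ye18 ze15) (ke xe21 ye25 ze18) (ke xe20 ye13 ze16) (ke xe21 ye20 ze18) (ke xe20 ye14 ze2) (ke xe20 ye14 ze13) (ke xe20 ye14 ze21) (ke xe21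 ye19 ze31) (ke xe20 ye14 ze30) (ke xe20 ye14 ze31) (ke xe21 ye11 ze10) (ke xe21 ye2 ze33) (ke xe21 ye22 ze31) (ke xe20 ye17 ze24) (ke xe21 ye7 ze37) (ke xe21 ye15 ze2) (ke xe21 ye21 ze8) (ke xe20 ye15 ze7) (ke xe20 ye15 ze17) (ke xe20 ye15 ze25) (ke xe21 ye19 ze17) (ke xe20 ye15 ze34) (ke xe20 ye15 ze35) (ke xe21 ye10 ze30) (ke xe21 ye3 ze31)) (@D3.rec (fun _ => Pt) (ke xe21 ye22 ze35) (ke xe20 ye16 ze22) (ke xe21 ye8 ze6) (ke xe21 ye15 ze15) (ke xe21 ye10 ze38) (ke xe21 ye16 ze28) (ke xe20 ye16 ze4) (ke xe21 ye15 ze25) (ke xe21 ye23 ze24) (ke xe21 ye8 ze17) (ke xe21 ye15 ze37) (ke xe20 ye16 ze30) (ke xe20 ye16 ze32) (ke xe20 ye16 ze33) (ke xe20 ye16 ze34) (ke xe21 ye25 ze21) (ke xe21 ye25 ze4) (ke xe21 ye18 ze35) (ke xe21 ye24 ze25) (ke xe20 ye17 ze2)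 (ke xe21 ye11 ze17) (ke xe20 ye17 ze1) (ke xe21 ye17 ze11) (ke xe21 ye23 ze25) (ke xe21 ye8 ze10) (ke xe20 ye17 ze32) (ke xe20 ye17 ze34) (ke xe20 ye17 ze35) (ke xe20 ye17 ze36) (ke xe21 ye25 ze22) (ke xe21 ye25 ze0) (ke xe21 ye18 ze22) (ke xe21 ye24 ze24) (ke xe20 ye18 ze3) (ke xe21 ye9 ze10) (ke xe21 ye19 ze37) (ke xe21 ye20 ze5) (ke xe21 ye19 ze35) (ke xe20 ye18 ze16) (ke xe20 ye23 ze34)) (@D3.rec (fun _ => Pt) (ke xe20 ye18 ze37) (ke xe21 ye18 ze8) (ke xe20 ye20 ze0) (ke xe20 ye19 ze1) (ke xe21 ye25 ze16) (ke xe21 ye19 ze36) (ke xe20 ye19 ze6) (ke xe21 ye3 ze1) (ke xe21 ye3 ze22) (ke xe20 ye19 ze14) (ke xe20 ye19 ze16) (ke xe21 ye25 ze23) (ke xe20 ye22 ze3) (ke xe20 ye19 ze27) (ke xe20 ye19 ze28) (ke xe21 ye1 ze18) (ke xe21 ye25 ze24) (ke xe21 ye25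 ze25) (ke xe21 ye18 ze18) (ke xe20 ye23 ze38) (ke xe20 ye19 ze38) (ke xe20 ye20 ze7) (ke xe20 ye20 ze8) (ke xe20 ye20 ze12) (ke xe20 ye20 ze13) (ke xe21 ye25 ze26) (ke xe21 ye25 ze27) (ke xe20 ye20 ze14) (ke xe21 ye8 ze16) (ke xe21 ye24 ze34) (ke xe20 ye20 ze21) (ke xe21 ye25 ze28) (ke xe21 ye21 ze11) (ke xe21 ye21 ze17) (ke xe20 ye20 ze23) (ke xe21 ye8 ze9) (ke xe20 ye20 ze38) (ke xe20 ye20 ze37) (ke xe21 ye13 ze14) (ke xe21 ye25 ze29)) (@D3.rec (fun _ => Pt) (ke xe20 ye25 ze17) (ke xe20 ye25 ze18) (ke xe20 ye21 ze5) (ke xe20 ye21 ze7) (ke xe21 ye25 ze30) (ke xe21 ye25 ze31) (ke xe20 ye21 ze8) (ke xe21 ye25 ze32) (ke xe21 ye18 ze31) (ke xe20 ye21 ze14) (ke xe21 ye9 ze25) (ke xe21 ye20 ze32) (ke xe20 ye21 ze26) (ke xe21 ye18 ze6) (ke xe20 ye22 ze37)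 (ke xe20 ye22 ze7) (ke xe21 ye25 ze15) (ke xe21 ye20 ze33) (ke xe20 ye22 ze12) (ke xe21 ye3 ze39) (ke xe21 ye2 ze24) (ke xe20 ye22 ze21) (ke xe20 ye22 ze27) (ke xe20 ye22 ze28) (ke xe20 ye25 ze8) (ke xe20 ye22 ze35) (ke xe20 ye23 ze4) (ke xe20 ye23 ze8) (ke xe20 ye23 ze9) (ke xe20 ye23 ze10) (ke xe21 ye24 ze31) (ke xe20 ye23 ze15) (ke xe20 ye23 ze16) (ke xe21 ye0 ze8) (ke xe20 ye25 ze11) (ke xe20 ye23 ze31) (ke xe20 ye23 ze33) (ke xe21 ye25 ze33) (ke xe21 ye10 ze18) (ke xe21 ye1 ze3)) (@D3.rec (fun _ => Pt) (ke xe21 ye16 ze35) (ke xe20 ye24 ze12) (ke xe21 ye6 ze13) (ke xe21 ye12 ze30) (ke xe20 ye24 ze26) (ke xe20 ye24 ze28) (ke xe21 ye3 ze26) (ke xe21 ye8 ze19) (ke xe21 ye3 ze20) (ke xe20 ye25 ze6) (ke xe20 ye25 ze14) (ke xe21 ye12 ze18) (ke xe21 ye24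 ze11) (ke xe21 ye4 ze20) (ke xe21 ye8 ze3) (ke xe21 ye0 ze16) (ke xe21 ye10 ze0) (ke xe21 ye16 ze6) (ke xe21 ye6 ze0) (ke xe21 ye2 ze28) (ke xe21 ye8 ze12) (ke xe21 ye2 ze23) (ke xe21 ye1 ze22) (ke xe21 ye4 ze35) (ke xe21 ye7 ze34) (ke xe21 ye2 ze30) (ke xe21 ye25 ze20) (ke xe21 ye25 ze19) (ke xe21 ye3 ze28) (ke xe21 ye24 ze23) (ke xe21 ye24 ze20) (ke xe21 ye18 ze27) (ke xe21 ye6 ze1) (ke xe21 ye25 ze13) (ke xe21 ye25 ze12) (ke xe21 ye19 ze0) (ke xe21 ye6 ze14) (ke xe21 ye25 ze11) (ke xe21 ye25 ze14) (ke xe21 ye17 ze36)) (@D3.rec (fun _ => Pt) (ke xe21 ye23 ze9) (ke xe21 ye23 ze10) (ke xe21 ye6 ze39) (ke xe21 ye6 ze25) (ke xe21 ye6 ze26) (ke xe21 ye6 ze27) (ke xe21 ye6 ze28) (ke xe21 ye25 ze34) (ke xe21 ye25 ze35) (ke xe21 ye23 ze0) (ke xe21 ye23 ze1)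 (ke xe21 ye17 ze38) (ke xe21 ye23 ze17) (ke xe21 ye23 ze18) (ke xe21 ye6 ze36) (ke xe21 ye6 ze37) (ke xe21 ye6 ze38) (ke xe21 ye23 ze12) (ke xe21 ye23 ze13) (ke xe21 ye12 ze13) (ke xe21 ye12 ze27) (ke xe21 ye24 ze1) (ke xe21 ye10 ze37) (ke xe21 ye23 ze39) (ke xe21 ye19 ze8) (ke xe21 ye19 ze23) (ke xe21 ye7 ze31) (ke xe21 ye15 ze16) (ke xe21 ye12 ze29) (ke xe21 ye8 ze0) (ke xe21 ye15 ze3) (ke xe21 ye12 ze15) (ke xe21 ye17 ze12) (ke xe21 ye16 ze29) (ke xe21 ye17 ze13) (ke xe21 ye16 ze31) (ke xe21 ye9 ze16) (ke xe21 ye9 ze31) (ke xe21 ye10 ze33) (ke xe21 ye23 ze23)) (@D3.rec (fun _ => Pt) (ke xe21 ye11 ze15) (ke xe21 ye23 ze21) (ke xe21 ye11 ze34) (ke xe21 ye11 ze28) (ke xe21 ye25 ze37) (ke xe21 ye11 ze30) (ke xe21 ye11 ze31) (ke xe21 ye25 ze36) (ke xe21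 ye25 ze38) (ke xe21 ye13 ze16) (ke xe21 ye11 ze33) (ke xe21 ye22 ze12) (ke xe21 ye24 ze17) (ke xe21 ye24 ze14) (ke xe21 ye24 ze13) (ke xe21 ye24 ze16) (ke xe21 ye24 ze15) (ke xe21 ye24 ze12) (ke xe21 ye12 ze6) (ke xe21 ye12 ze11) (ke xe21 ye22 ze30) (ke xe21 ye12 ze20) (ke xe21 ye12 ze25) (ke xe21 ye22 ze29) (ke xe21 ye19 ze32) (ke xe21 ye19 ze18) (ke xe21 ye13 ze8) (ke xe21 ye13 ze13) (ke xe21 ye25 ze39) (ke xe21 ye13 ze19) (ke xe21 ye13 ze22) (ke xe21 ye21 ze30) (ke xe21 ye16 ze23) (ke xe21 ye16 ze24) (ke xe21 ye20 ze29) (ke xe21 ye14 ze10) (ke xe21 ye25 ze7) (ke xe21 ye14 ze20) (ke xe21 ye14 ze21) (ke xe21 ye14 ze34)) (@D3.rec (fun _ => Pt) (ke xe21 ye19 ze30) (ke xe21 ye14 ze35) (ke xe21 ye14 ze29) (ke xe21 ye25 ze5) (ke xe21 ye19 ze16) (ke xe21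 ye25 ze3) (ke xe21 ye14 ze36) (ke xe21 ye24 ze36) (ke xe21 ye15 ze9) (ke xe21 ye16 ze22) (ke xe21 ye17 ze5) (ke xe21 ye22 ze37) (ke xe21 ye22 ze34) (ke xe21 ye22 ze33) (ke xe21 ye22 ze38) (ke xe21 ye21 ze16) (ke xe21 ye20 ze4) (ke xe21 ye18 ze13) (ke xe21 ye18 ze16) (ke xe21 ye22 ze27) (ke xe21 ye22 ze26) (ke xe21 ye19 ze15) (ke xe21 ye19 ze29) (ke xe21 ye20 ze11) (ke xe21 ye20 ze16) (ke xe21 ye20 ze17) (ke xe21 ye20 ze25) (ke xe21 ye20 ze26) (ke xe21 ye20 ze31) (ke xe21 ye20 ze39) (ke xe21 ye21 ze4) (ke xe21 ye21 ze5) (ke xe21 ye21 ze7) (ke xe21 ye21 ze37) (ke xe21 ye23 ze7) (ke xe21 ye23 ze8) (ke xe21 ye24 ze7) (ke xe21 ye24 ze4) (ke xe21 ye24 ze8) (ke xe21 ye24 ze28))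
def f_e : Pt → Pt := @Pt.rec (fun _ => Pt) (@D1.rec (fun _ => D2 → D3 → Pt) f_e_0 f_e_1 f_e_2 f_e_3 f_e_4 f_e_5 f_e_6 f_e_7 f_e_8 f_e_9 f_e_10 f_e_11 f_e_12 f_e_13 f_e_14 f_e_15 f_e_16 f_e_17 f_e_18 f_e_19 f_e_20 f_e_21)
def fi_e : Pt → Pt := f_e

theorem inv_chk_e : chkInv allPts beqPt f_e fi_e = true := by decide +kernel

end

end Cfsg.Agent.Helper28.S1681
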