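import Cfsg.Agent.Lib.Helper28.S1681.Seeds4

set_option autoImplicit false
set_option maxRecDepth 100000
set_option linter.all false

namespace Cfsg.Agent.Helper28.S1681

open Cfsg.Agent.Helper28
open Cfsg.Spor.Suz (Gen)

noncomputable section

theorem seed_0 (IH : ∀ y q, lvl y q < 26 → EntryOK rels S fwd inv o plet idx y q) :
    EntryOK rels S fwd inv o plet idx Gen.a (Pt.mk D1.c0 D2.c19 D3.c20) :=
  entryOK_of_edge rels S fwd inv o plet idx Gen.a (Pt.mk D1.c0 D2.c19 D3.c20) (s0_f57673 IH)
theorem seed_1 (IH : ∀ y q, lvl y q < 26 → EntryOK rels S fwd inv o plet idx y q) :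
    EntryOK rels S fwd inv o plet idx Gen.a (Pt.mk D1.c2 D2.c0 D3.c0) :=
  entryOK_of_edge rels S fwd inv o plet idx Gen.a (Pt.mk D1.c2 D2.c0 D3.c0) (s0_f57728 IH)
theorem seed_2 (IH : ∀ y q, lvl y q < 26 → EntryOK rels S fwd inv o plet idx y q) :
    EntryOK rels S fwd inv o plet idx Gen.c (Pt.mk D1.c3 D2.c21 D3.c11) :=
  entryOK_of_edge rels S fwd inv o plet idx Gen.c (Pt.mk D1.c3 D2.c21 D3.c11) (s0_f111005 IH)
theorem seed_3 (IH : ∀ y q, lvl y q < 26 → EntryOK rels S fwd inv o plet idx y q) :
    EntryOK rels S fwd inv o plet idx Gen.a (Pt.mk D1.c0 D2.c16 D3.c23) :=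
  entryOK_of_edge rels S fwd inv o plet idx Gen.a (Pt.mk D1.c0 D2.c16 D3.c23) (s0_f113080 IH)
theorem hseed : ∀ x p, isSeed x p = true →
    (∀ y q, lvl y q < lvl x p → EntryOK rels S fwd inv o plet idx y q) →
    EntryOK rels S fwd inv o plet idx x p := by
  intro x p hs IH
  cases x
  · have hs' : isSeed_a p = true := hs
    unfold isSeed_a at hs'
    rcases orB_true hs' with h1 | hs'
    · have hp := beqPt_sound _ _ h1
      subst hp
      exact seed_0 (fun y q h => IH y q (Nat.lt_of_lt_of_le h (by decide)))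
    rcases orB_true hs' with h1 | hs'
    · have hp := beqPt_sound _ _ h1
      subst hp
      exact seed_1 (fun y q h => IH y q (Nat.lt_of_lt_of_le h (by decide)))
    rcases orB_true hs' with h1 | hs'
    · have hp := beqPt_sound _ _ h1
      subst hp
      exact seed_3 (fun y q h => IH y q (Nat.lt_of_lt_of_le h (by decide)))
    exact absurd hs' (by decide)
  · exact absurd hs (by simp [isSeed, isSeed_b])
  · have hs' : isSeed_c p = true := hs
    unfold isSeed_c at hs'
    rcases orB_true hs' with h1 | hs'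
    · have hp := beqPt_sound _ _ h1
      subst hp
      exact seed_2 (fun y q h => IH y q (Nat.lt_of_lt_of_le h (by decide)))
    exact absurd hs' (by decide)
  · exact absurd hs (by simp [isSeed, isSeed_d])
  · exact absurd hs (by simp [isSeed, isSeed_e])
  · exact absurd hs (by simp [isSeed, isSeed_f])
  · exact absurd hs (by simp [isSeed, isSeed_g])

end

end Cfsg.Agent.Helper28.S1681
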