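import Cfsg.Agent.Lib.Helper28.S1681.Tree

set_option autoImplicit false
set_option maxRecDepth 100000
set_option linter.all false

namespace Cfsg.Agent.Helper28.S1681

open Cfsg.Agent.Helper28
open Cfsg.Spor.Suz (Gen)

noncomputable section

def lv_b_0 : D2 → D3 → Nat := @D2.rec (fun _ => D3 → Nat) (@D3.rec (fun _ => Nat) 1 2 3 0 1 2 0 2 5 5 3 1 2 0 0 5 3 6 6 0 0 6 2 0 0 0 3 0 0 1 1 6 6 0 0 7 7 0 0 1) (@D3.rec (fun _ => Nat) 1 6 0 0 0 3 0 0 1 0 1 0 1 2 2 0 0 0 0 1 1 0 8 3 0 8 4 7 0 0 7 0 0 1 0 1 0 0 0 1) (@D3.rec (fun _ => Nat) 1 11 7 3 74 9 5 0 7 0 0 1 1 1 2 2 0 0 0 0 1 0 1 0 7 1 6 1 0 2 2 0 0 3 0 0 3 0 0 1) (@D3.rec (fun _ => Nat) 1 1 1 0 3 5 0 3 6 1 9 11 1 9 73 8 0 0 1 0 1 0 0 0 0 1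 0 1 0 0 1 0 1 1 1 10 4 6 11 5) (@D3.rec (fun _ => Nat) 5 12 9 72 73 8 12 1 2 2 61 42 0 0 1 1 64 2 2 0 0 3 0 0 3 0 0 1 0 1 0 1 0 1 0 3 8 1 3 7) (@D3.rec (fun _ => Nat) 1 1 2 2 54 53 3 0 0 3 0 0 1 0 1 0 4 0 0 1 1 0 0 0 1 1 58 3 53 42 3 53 0 4 6 0 4 7 1 64) (@D3.rec (fun _ => Nat) 4 0 11 1 39 4 0 10 0 10 0 10 0 0 0 1 0 1 0 7 1 7 1 1 0 0 1 0 1 0 0 1 0 1 1 0 4 1 0 5) (@D3.rec (fun _ => Nat) 11 5 7 12 6 6 107 10 0 101 9 0 0 0 2 2 3 62 43 3 58 43 1 1 66 61 0 0 3 0 0 3 0 0 1 0 1 0 4 0) (@D3.rec (fun _ => Nat) 0 1 0 1 0 0 0 0 1 0 1 0 0 3 0 1 0 3 0 1 4 9 1 4 8 1 4 0 4 4 0 5 2 2 3 57 54 3 55 54) (@D3.rec (fun _ => Nat) 4 0 0 1 0 1 0 0 0 0 1 0 1 0 5 1 5 1 0 0 0 1 1 59 7 56 43 7 56 1 0 0 1 1 56 4 54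 41 4 54) (@D3.rec (fun _ => Nat) 0 61 4 0 0 59 4 0 1 61 5 0 12 1 40 5 0 11 65 5 0 1 0 40 5 0 1 0 1 2 2 1 2 2 1 2 0 0 1 0) (@D3.rec (fun _ => Nat) 1 0 8 1 8 1 0 0 0 0 0 1 0 1 0 3 0 1 3 0 1 1 0 5 1 0 6 9 1 0 108 9 1 0 100 107 11 6 0 101) (@D3.rec (fun _ => Nat) 10 7 0 0 1 0 1 1 1 70 3 3 4 63 44 0 59 44 66 0 0 63 0 0 1 1 4 0 0 1 0 1 0 0 0 0 1 0 1 0) (@D3.rec (fun _ => Nat) 65 5 63 1 55 5 62 1 0 0 0 1 0 1 0 0 70 0 1 0 69 0 1 1 0 0 1 0 1 0 0 4 0 1 0 4 0 1 1 61) (@D3.rec (fun _ => Nat) 4 0 1 63 54 4 1 56 4 0 1 53 64 5 5 0 5 5 0 6 5 0 1 5 5 0 1 6 10 3 3 4 56 55 0 54 53 0 0 0) (@D3.rec (fun _ => Nat) 1 0 1 0 1 1 1 2 0 0 1 0 1 0 6 1 6 1 6 62 6 6 60 7 1 2 0 0 1 1 61 8 55 44 8 55 58 60 0 0) (@D3.rec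 (fun _ => Nat) 0 1 1 56 3 53 42 3 53 0 59 5 0 0 61 5 0 1 103 111 5 0 1 1 100 101 5 0 1 62 0 6 0 1 0 42 0 6 0 1) (@D3.rec (fun _ => Nat) 0 66 0 1 110 0 109 1 41 0 1 109 0 101 1 2 2 104 3 3 2 2 99 3 3 0 2 0 0 0 0 1 0 1 0 3 65 1 3 73) (@D3.rec (fun _ => Nat) 1 0 0 1 1 1 0 0 1 0 1 0 0 3 0 1 0 3 0 1 4 0 1 0 4 4 0 1 0 5 10 1 0 6 10 1 0 7 10 4) (@D3.rec (fun _ => Nat) 0 1 108 106 10 3 0 1 100 100 105 0 0 0 1 111 0 0 0 1 1 0 28 1 0 49 71 70 4 0 0 60 45 1 0 0 63 0 0 1) (@D3.rec (fun _ => Nat) 1 0 0 0 1 1 0 0 0 1 0 1 0 63 1 64 1 1 2 0 0 1 0 1 0 62 6 60 1 52 6 59 1 0 6 56 6 0 6 48) (@D3.rec (fun _ => Nat) 7 1 2 0 0 1 0 1 0 0 69 0 1 0 69 0 1 1 73 1 79 70 1 78 1 72 72 0 0 0 1 0 1 0 0 3 0 1 0 3) (@D3.rec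 (fun _ => Nat) 0 1 1 60 5 0 1 60 51 5 1 57 5 0 1 50 61 6 62 5 0 1 111 65 10 103 5 57 5 0 1 104 64 11 112 6 0 6 0 1) (@D3.rec (fun _ => Nat) 6 0 6 0 1 7 0 1 59 10 6 0 1 57 11 7 11 11 4 0 0 57 54 1 2 0 0 1 79 0 0 1 0 1 0 1 1 59 10 59) (@D3.rec (fun _ => Nat) 12 80 2 0 0 0 81 0 0 1 0 1 0 3 1 3 1 7 58 7 7 60 9 7 7 0 2 0 0 0 0 1 1 60 3 56 43 3 56 58) (@D3.rec (fun _ => Nat) 64 58 66 1 0 0 1 0 1 0 0 3 9 0 3 9 0 59 4 0 0 57 4 0 1 2 109 0 6 0 1 1 2 101 0 6 0 1 102 0)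
def lv_b_1 : D2 → D3 → Nat := @D2.rec (fun _ => D3 → Nat) (@D3.rec (fun _ => Nat) 1 112 98 0 1 105 0 63 1 2 0 0 1 0 0 107 1 0 42 1 2 0 0 1 0 0 99 1 1 108 113 111 1 1 102 1 3 3 104 4) (@D3.rec (fun _ => Nat) 0 3 3 99 4 0 1 2 0 0 8 0 0 1 0 1 0 1 0 1 0 0 3 0 1 0 3 0 1 4 0 0 4 4 0 0 5 1 1 4) (@D3.rec (fun _ => Nat) 61 3 68 10 10 0 0 1 1 0 10 0 1 0 10 0 1 1 0 0 4 0 1 0 0 4 9 1 0 0 4 0 1 0 0 5 9 5 0 1) (@D3.rec (fun _ => Nat) 3 1 0 5 5 0 1 3 1 0 6 11 4 0 1 2 0 106 11 3 0 1 2 0 98 11 60 1 106 29 58 108 11 56 1 111 49 50 100 0) (@D3.rec (fun _ => Nat) 0 1 1 0 1 0 30 0 0 1 1 0 1 0 48 1 1 0 1 2 1 2 0 0 0 0 0 1 1 0 0 0 1 1 1 0 0 1 1 1) (@D3.rec (fun _ => Nat) 2 0 0 1 0 1 0 65 1 64 1 0 2 0 0 3 0 0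 1 0 1 0 63 3 60 1 53 3 61 1 0 7 57 7 0 7 49 9 1 2) (@D3.rec (fun _ => Nat) 7 103 1 2 7 112 0 2 0 0 0 0 1 0 1 0 0 3 0 1 0 3 0 1 1 70 73 1 79 70 1 70 78 1 74 72 67 73 78 67) (@D3.rec (fun _ => Nat) 74 74 1 0 0 1 0 1 0 0 3 0 1 0 3 0 1 1 0 4 0 1 62 51 4 1 0 4 0 1 52 61 5 62 0 6 0 1 0 62) (@D3.rec (fun _ => Nat) 11 101 6 58 0 6 0 1 0 61 12 111 7 63 110 1 111 112 6 58 102 1 104 112 7 1 2 0 0 1 58 11 0 7 1 2 0 0 1 58) (@D3.rec (fun _ => Nat) 12 0 8 1 1 0 1 2 1 2 0 0 0 2 0 0 3 0 0 1 1 78 0 0 79 0 0 1 0 1 0 3 1 3 1 59 11 57 13 70) (@D3.rec (fun _ => Nat) 63 80 0 0 0 0 1 0 1 0 1 0 0 0 0 1 0 1 0 0 3 0 1 0 3 0 1 4 60 4 4 58 5 0 8 8 0 8 10 1) (@D3.rec (fun _ => Nat) 2 0 0 8 0 0 1 0 1 0 1 1 0 3 10 0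 3 10 0 56 4 0 0 58 4 0 0 0 10 85 0 0 1 1 0 6 0 1 0 6) (@D3.rec (fun _ => Nat) 0 1 1 0 0 4 0 0 1 0 0 4 0 0 1 2 0 0 5 0 1 1 2 0 0 5 0 1 2 0 104 109 1 2 2 0 0 1 112 2) (@D3.rec (fun _ => Nat) 0 98 109 1 2 2 0 0 1 107 1 1 1 2 0 2 8 0 3 0 1 0 1 108 0 3 107 1 1 1 2 0 2 0 8 3 0 1 0 1) (@D3.rec (fun _ => Nat) 101 0 3 99 1 1 113 111 4 0 102 0 1 4 0 97 0 1 11 12 2 0 0 0 0 0 1 1 9 0 0 1 0 1 0 0 11 0 1 0) (@D3.rec (fun _ => Nat) 11 0 1 0 9 0 1 0 9 0 1 1 0 0 4 0 1 0 0 4 10 1 0 0 4 0 1 0 0 5 10 0 5 1 1 0 5 0 5 1) (@D3.rec (fun _ => Nat) 1 0 6 4 60 3 70 0 0 88 0 0 11 0 0 1 0 1 0 0 11 3 0 11 4 1 0 11 0 1 0 11 3 1 0 11 0 1 0 12) (@D3.rec (fun _ => Nat) 5 10 0 4 0 1 2 0 1 59 5 0 1 0 0 3 0 1 1 0 0 5 58 0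 10 0 0 5 1 2 0 1 44 5 0 1 0 0 3 0) (@D3.rec (fun _ => Nat) 1 1 0 0 6 53 0 0 1 0 3 57 4 4 0 1 2 0 6 0 1 0 3 46 4 3 0 1 2 0 7 0 12 59 1 2 29 2 57 0) (@D3.rec (fun _ => Nat) 106 1 2 2 0 12 57 1 2 50 2 47 0 110 1 2 2 106 113 1 0 1 0 0 12 1 0 3 30 1 1 0 1 0 12 0 1 0 3 49) (@D3.rec (fun _ => Nat) 1 1 0 2 62 47 0 2 0 0 0 0 1 1 1 0 0 1 0 1 0 0 9 0 9 1 0 0 1 1 0 0 0 1 1 3 3 0 2 0) (@D3.rec (fun _ => Nat) 0 0 0 1 0 1 0 3 62 1 3 61 1 1 2 0 0 6 3 0 0 1 0 1 0 0 0 1 0 1 0 0 3 0 1 0 3 0 1 0) (@D3.rec (fun _ => Nat) 4 0 4 0 4 0 5 1 2 0 8 59 8 1 2 0 8 48 10 2 112 102 2 104 110 1 2 0 0 69 0 0 1 0 1 0 1 0 1 0) (@D3.rec (fun _ => Nat) 0 3 0 1 0 3 0 1 1 0 4 0 1 62 53 4 1 0 4 0 1 52 63 5 0 66 75 78 71 0 67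 76 74 73 0 0 10 0 0 1) (@D3.rec (fun _ => Nat) 1 0 6 0 1 0 6 0 1 1 0 0 4 0 1 0 0 4 9 1 0 0 4 0 1 0 0 5 9 0 1 2 0 5 0 1 0 62 3 0) (@D3.rec (fun _ => Nat) 5 0 1 2 0 5 0 1 0 63 3 0 6 0 63 1 2 2 0 0 1 109 112 109 1 13 103 0 7 0 59 1 2 2 0 0 1 109 112 103)
def lv_b_2 : D2 → D3 → Nat := @D2.rec (fun _ => D3 → Nat) (@D3.rec (fun _ => Nat) 1 12 111 0 8 0 2 8 0 3 0 1 1 58 3 13 1 2 0 2 0 8 3 0 1 1 60 3 12 1 2 1 88 2 57 56 0 2 0 0) (@D3.rec (fun _ => Nat) 85 0 0 1 1 1 2 0 0 8 3 0 0 1 0 1 0 0 0 1 1 0 7 0 7 0 0 1 0 1 0 0 0 1 0 1 0 0 3 0) (@D3.rec (fun _ => Nat) 1 0 3 0 1 4 57 4 4 57 5 71 12 65 14 0 0 1 1 1 0 1 0 0 6 0 1 0 6 0 1 0 0 1 1 1 0 1 0 0) (@D3.rec (fun _ => Nat) 3 0 1 0 3 0 1 1 0 0 4 56 1 0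 0 4 7 1 0 0 4 54 1 0 0 5 7 0 5 0 5 0 5 0 6 1 2 2 0 1) (@D3.rec (fun _ => Nat) 2 2 0 11 2 0 0 0 0 0 1 1 0 0 1 0 1 0 0 7 0 1 0 7 0 1 0 9 11 0 9 11 1 0 0 4 0 0 1 0) (@D3.rec (fun _ => Nat) 0 4 0 0 1 2 0 5 0 1 1 2 0 5 0 1 1 2 1 2 0 0 0 0 1 0 1 0 0 7 3 0 7 4 1 0 7 0 1 0) (@D3.rec (fun _ => Nat) 7 3 1 0 7 0 1 0 8 5 10 4 0 1 2 0 1 0 5 0 1 0 1 10 0 5 1 2 0 1 0 5 0 1 0 1 0 2 59 0) (@D3.rec (fun _ => Nat) 3 0 1 1 2 0 0 1 0 54 0 2 0 54 3 0 1 1 2 0 0 1 0 54 0 1 92 0 0 2 2 7 0 3 0 3 0 1 1 111) (@D3.rec (fun _ => Nat) 3 0 1 96 0 0 2 2 0 7 3 0 3 0 1 1 105 3 0 2 16 16 94 1 2 95 0 3 9 0 0 1 0 96 0 1 0 0 3 0) (@D3.rec (fun _ => Nat) 1 111 4 1 0 4 0 4 0 2 15 77 106 1 2 0 107 3 0 9 1 0 0 107 0 1 0 0 3 0 1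 113 4 1 0 4 0 4 0 1) (@D3.rec (fun _ => Nat) 2 0 1 0 17 15 0 1 2 0 1 0 76 77 81 0 0 13 0 0 0 0 1 0 1 0 1 2 0 0 1 1 0 13 3 0 13 4 0 0) (@D3.rec (fun _ => Nat) 1 0 1 0 0 3 0 1 0 3 0 1 1 0 12 0 1 0 12 3 1 0 12 0 1 0 14 5 1 0 0 10 0 1 0 0 10 11 1 0) (@D3.rec (fun _ => Nat) 0 10 0 1 0 0 10 11 11 0 4 0 1 2 0 1 0 5 0 1 0 0 66 0 1 1 0 0 5 55 0 11 0 0 5 1 2 0 1 0) (@D3.rec (fun _ => Nat) 5 0 1 0 0 75 0 1 1 0 0 6 56 0 1 2 0 58 4 0 1 2 0 6 1 2 0 47 3 0 1 2 0 7 0 66 0 72 1 1) (@D3.rec (fun _ => Nat) 89 0 0 1 1 0 12 0 0 1 0 1 0 0 3 0 1 0 3 0 1 1 0 0 12 0 13 1 0 0 12 0 16 3 0 5 5 1 2 0) (@D3.rec (fun _ => Nat) 12 0 1 0 3 4 1 0 10 12 0 0 3 0 4 4 1 2 0 12 0 1 0 3 4 1 0 9 13 0 0 0 0 1 98 94 0 0 1 0) (@D3.rec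 (fun _ => Nat) 60 2 5 0 0 3 0 1 0 3 6 60 60 0 0 1 0 0 3 0 1 1 0 4 0 1 86 6 4 4 0 0 5 1 2 0 1 0 6 55) (@D3.rec (fun _ => Nat) 0 1 0 0 1 104 0 97 1 7 0 45 2 0 6 0 3 0 1 0 3 4 45 45 0 0 1 0 0 3 0 1 1 0 4 0 1 61 4 5) (@D3.rec (fun _ => Nat) 3 0 4 0 1 2 0 1 0 7 56 0 1 1 0 58 1 0 56 4 55 0 5 0 1 2 0 2 55 60 3 1 2 1 0 45 1 0 89 4) (@D3.rec (fun _ => Nat) 55 0 5 0 1 2 0 2 55 53 3 1 2 1 94 59 2 0 104 31 0 58 1 2 0 2 2 58 6 3 3 1 100 59 2 0 112 48 0 50) (@D3.rec (fun _ => Nat) 1 2 0 2 2 6 53 3 3 0 0 1 3 1 0 0 1 0 0 3 13 1 0 4 0 1 3 1 0 1 0 3 13 1 0 4 0 80 63 48) (@D3.rec (fun _ => Nat) 1 84 98 99 62 63 48 0 0 1 2 0 0 69 0 0 1 0 1 0 1 1 82 10 90 10 10 97 98 102 1 1 0 0 1 0 0 1 1 0) (@D3.rec (fun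 _ => Nat) 0 1 0 0 0 0 1 1 3 3 1 0 0 1 114 1 114 0 3 7 0 3 7 4 4 1 85 92 96 0 0 1 0 1 0 1 0 1 0 0) (@D3.rec (fun _ => Nat) 3 0 1 0 3 0 1 4 0 4 4 0 5 2 88 102 63 93 93 97 1 1 9 9 0 0 0 0 1 0 1 0 0 6 0 1 0 6 0 1) (@D3.rec (fun _ => Nat) 1 0 1 0 98 7 0 1 106 7 0 1 1 0 0 4 0 1 0 0 4 7 1 0 0 4 0 1 0 0 5 7 1 95 0 5 0 1 5 1) (@D3.rec (fun _ => Nat) 96 0 5 0 1 6 2 111 0 103 1 95 93 0 0 104 2 104 0 99 1 96 97 0 0 112 11 2 0 0 0 0 1 1 0 0 1 0 1 0)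
def lv_b_3 : D2 → D3 → Nat := @D2.rec (fun _ => D3 → Nat) (@D3.rec (fun _ => Nat) 0 7 0 1 0 7 0 1 0 70 0 1 0 70 0 1 1 0 0 4 0 1 0 0 4 10 1 0 0 4 0 1 0 0 5 10 0 1 2 5) (@D3.rec (fun _ => Nat) 0 1 0 64 3 0 5 0 1 2 5 0 1 0 63 3 0 6 1 2 0 75 77 0 1 2 0 79 76 0 1 1 0 0 1 0 1 0 0 100) (@D3.rec (fun _ => Nat) 3 0 101 4 1 98 102 0 1 0 7 3 1 103 105 0 1 0 8 5 10 0 4 0 1 2 0 1 5 0 1 0 0 3 0 1 1 0 0 5) (@D3.rec (fun _ => Nat) 45 0 10 0 0 5 1 2 0 1 5 0 1 0 0 3 0 1 1 0 0 6 59 0 1 2 66 2 106 64 3 1 2 0 0 1 0 0 3 0) (@D3.rec (fun _ => Nat) 1 0 4 1 2 0 6 1 2 62 2 61 99 3 1 2 0 0 1 0 0 3 0 1 0 4 1 2 0 7 1 2 0 2 2 92 0 3 0 107) (@D3.rec (fun _ => Nat) 0 1 0 1 109 110 3 0 0 1 2 2 1 2 0 2 2 98 98 3 0 102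 97 1 0 1 108 114 3 0 0 1 2 2 1 2 91 0 3 9) (@D3.rec (fun _ => Nat) 0 0 1 98 0 1 0 3 16 4 0 4 0 0 2 16 16 3 1 2 0 95 3 102 9 1 98 0 0 1 0 3 15 99 0 4 0 0 2 15) (@D3.rec (fun _ => Nat) 15 3 82 60 57 89 0 0 64 58 57 0 0 1 0 0 0 0 1 0 1 0 0 0 1 1 0 8 0 8 2 0 0 0 93 97 1 1 7 7) (@D3.rec (fun _ => Nat) 88 93 0 0 1 0 1 0 92 0 1 96 0 1 1 1 0 9 8 0 9 8 1 0 0 1 0 0 1 1 0 7 0 1 0 7 0 1 1 0) (@D3.rec (fun _ => Nat) 1 0 0 11 0 1 0 11 0 1 1 0 0 4 59 1 0 0 4 8 1 0 0 4 56 1 0 0 5 8 5 0 5 5 0 6 71 0 61 0) (@D3.rec (fun _ => Nat) 1 1 96 7 3 95 7 4 92 94 0 1 96 95 0 1 1 0 7 0 1 0 7 3 1 0 7 0 1 0 8 5 1 1 87 3 7 104 3 8) (@D3.rec (fun _ => Nat) 92 90 0 1 97 105 0 1 1 98 0 88 0 1 0 0 8 8 1 100 0 100 0 1 0 0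 8 8 88 101 103 0 1 99 0 1 97 5 58 0) (@D3.rec (fun _ => Nat) 0 61 0 1 1 0 0 5 56 0 90 104 0 101 1 108 0 1 101 5 56 0 0 56 0 1 1 0 0 6 57 0 1 2 1 2 0 6 1 2) (@D3.rec (fun _ => Nat) 1 2 0 7 95 2 2 7 60 3 91 1 2 98 2 2 53 7 3 99 1 2 0 0 0 0 1 0 1 0 1 0 0 1 1 0 8 3 0 8) (@D3.rec (fun _ => Nat) 4 1 0 1 0 0 3 0 1 0 3 0 1 1 0 8 0 1 0 8 3 1 0 8 0 1 0 9 5 1 0 0 10 0 0 1 0 0 10 0) (@D3.rec (fun _ => Nat) 0 11 4 0 1 2 0 1 65 5 0 1 0 1 11 0 5 1 2 0 1 72 5 0 1 0 1 0 2 67 0 3 1 0 1 0 57 0 2 0) (@D3.rec (fun _ => Nat) 75 3 1 0 1 0 57 0 2 67 66 3 0 2 67 67 3 1 1 1 0 1 0 0 1 0 1 1 11 62 1 10 87 16 0 5 5 1 2 99) (@D3.rec (fun _ => Nat) 8 0 1 0 3 4 1 0 10 8 85 10 15 0 4 4 1 2 97 8 0 1 0 3 4 1 0 9 9 62 9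 16 0 11 1 0 2 5 0 3) (@D3.rec (fun _ => Nat) 0 1 0 3 6 1 2 101 0 1 0 0 0 1 17 6 4 0 13 1 12 13 2 0 6 3 0 1 0 3 4 1 2 100 0 1 0 0 0 1) (@D3.rec (fun _ => Nat) 14 4 5 1 94 0 0 65 3 56 0 0 1 0 0 1 0 59 0 2 97 0 93 0 1 1 0 3 56 1 100 0 1 98 0 0 45 3 0 56) (@D3.rec (fun _ => Nat) 1 0 0 0 1 0 55 0 2 0 98 0 1 1 0 3 54 1 102 0 1 2 0 1 1 65 2 97 103 3 8 0 3 98 0 0 1 0 4 0) (@D3.rec (fun _ => Nat) 1 89 0 1 95 3 57 4 0 4 1 2 0 1 1 45 2 104 105 3 0 8 3 0 99 1 107 104 4 0 1 101 0 1 104 3 52 4 0 4) (@D3.rec (fun _ => Nat) 1 0 18 0 5 69 2 95 0 0 1 94 0 0 1 1 0 8 0 1 0 1 0 4 0 1 1 0 0 4 0 1 104 0 4 15 0 5 0 1) (@D3.rec (fun _ => Nat) 2 0 5 0 1 104 1 0 17 0 5 49 2 0 101 0 1 102 0 1 106 0 8 0 1 1 0 1 0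 4 0 1 1 0 0 4 0 1 109 0) (@D3.rec (fun _ => Nat) 4 76 0 5 0 1 2 0 5 0 1 97 1 2 87 2 65 100 3 101 1 0 15 1 91 0 0 0 1 2 91 2 93 78 3 98 1 0 77 1) (@D3.rec (fun _ => Nat) 0 93 0 0 81 92 97 1 1 14 0 0 1 0 1 0 1 0 1 0 0 3 0 1 0 3 0 1 0 2 0 0 0 0 1 1 0 3 5 0)
def lv_b_4 : D2 → D3 → Nat := @D2.rec (fun _ => D3 → Nat) (@D3.rec (fun _ => Nat) 3 6 1 0 0 14 0 14 1 0 0 14 0 17 1 0 1 0 3 0 1 3 0 1 1 89 4 0 1 0 4 6 1 91 4 0 1 0 5 5) (@D3.rec (fun _ => Nat) 5 5 1 2 81 13 0 1 0 3 4 1 0 11 13 0 0 4 4 1 2 96 13 0 1 0 3 4 1 0 10 15 0 0 5 0 1 2 0 1) (@D3.rec (fun _ => Nat) 0 11 0 1 0 0 3 0 1 1 0 0 11 0 0 0 6 1 2 0 1 0 11 0 1 0 0 3 0 1 1 0 0 11 0 0 0 0 1 2) (@D3.rec (fun _ => Nat) 96 0 0 1 0 61 2 5 0 0 3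 0 1 0 3 6 1 2 2 0 0 1 0 0 0 1 1 0 62 0 1 82 6 4 4 0 0 5 1 2) (@D3.rec (fun _ => Nat) 0 1 0 6 58 0 1 0 0 1 2 0 110 1 7 0 46 2 0 6 0 3 0 1 0 3 4 1 2 2 0 0 1 0 0 0 1 1 0 68) (@D3.rec (fun _ => Nat) 0 1 60 4 5 3 0 4 0 1 2 0 1 0 7 58 0 1 0 2 13 1 56 0 0 1 2 0 2 58 57 3 1 2 0 2 13 1 91 0) (@D3.rec (fun _ => Nat) 0 1 2 0 2 55 56 3 1 2 1 2 0 1 2 0 82 83 88 92 1 1 14 3 3 13 3 4 1 2 2 65 95 0 0 1 0 1 0 3) (@D3.rec (fun _ => Nat) 0 1 3 0 1 1 55 4 57 1 9 4 3 1 88 4 90 1 7 6 5 3 0 14 9 1 2 0 1 13 0 1 0 4 0 8 16 1 2 0) (@D3.rec (fun _ => Nat) 1 13 0 1 0 11 1 0 11 5 0 2 6 6 99 3 1 2 99 101 0 1 3 5 1 0 4 0 4 0 5 1 2 0 113 13 0 1 0 1) (@D3.rec (fun _ => Nat) 12 1 0 6 10 0 2 5 5 95 3 1 2 103 100 0 1 3 5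 1 0 4 0 3 0 4 1 2 0 115 14 0 1 0 1 1 1 0 102 0) (@D3.rec (fun _ => Nat) 0 1 0 1 12 3 6 1 61 58 0 0 3 6 0 0 1 58 1 89 104 0 1 0 3 7 1 0 8 4 0 61 0 61 0 1 0 1 0 0) (@D3.rec (fun _ => Nat) 3 0 1 1 0 4 0 1 62 7 5 13 0 4 4 1 2 0 5 0 1 5 3 7 86 9 8 0 2 0 12 7 1 2 0 0 1 10 0 2) (@D3.rec (fun _ => Nat) 0 6 0 3 98 1 3 1 2 2 110 57 0 1 12 4 5 1 1 0 98 0 1 0 0 13 3 7 1 46 0 91 0 3 0 7 1 91 0 1) (@D3.rec (fun _ => Nat) 94 100 0 1 0 3 5 1 0 4 0 46 0 46 0 1 0 1 0 0 3 0 1 1 0 4 0 1 51 4 6 12 0 5 5 1 2 0 5 0) (@D3.rec (fun _ => Nat) 1 6 3 9 63 10 5 0 3 0 10 11 1 2 0 0 11 1 0 2 5 0 3 100 1 3 1 2 102 55 0 1 11 6 4 0 59 1 90 59) (@D3.rec (fun _ => Nat) 87 7 1 99 56 58 5 57 0 1 1 2 84 2 61 57 0 3 1 2 0 0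 6 3 105 57 0 0 101 2 57 62 3 0 46 1 97 46 89 6) (@D3.rec (fun _ => Nat) 1 101 87 53 5 55 0 1 1 2 87 2 55 58 0 3 1 2 0 0 7 3 55 108 0 0 101 2 54 53 3 98 92 6 0 0 1 107 2 0) (@D3.rec (fun _ => Nat) 1 2 0 100 2 58 61 3 1 102 2 108 0 6 3 57 99 3 58 0 4 99 6 0 0 1 112 2 0 1 2 0 102 2 51 54 3 1 101 0) (@D3.rec (fun _ => Nat) 7 3 100 56 3 4 1 1 0 3 13 4 9 0 1 1 0 58 1 1 0 4 0 0 0 1 5 0 1 103 3 13 4 10 116 1 0 53 1 0) (@D3.rec (fun _ => Nat) 4 0 0 0 1 5 0 1 100 96 0 0 100 97 102 97 106 102 1 1 11 78 2 98 99 0 0 1 1 0 0 1 0 1 0 85 0 1 92 0) (@D3.rec (fun _ => Nat) 1 82 70 11 91 70 11 0 0 0 0 88 101 0 0 0 3 0 4 1 1 0 7 3 1 1 0 8 5 10 0 1 1 10 0 1 1 1 1 0) (@D3.rec (fun _ => Nat) 3 8 0 3 8 4 4 1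 1 87 66 117 101 61 118 1 0 100 4 65 0 1 0 105 4 62 0 5 5 90 99 1 0 1 0 0 7 0 1 0) (@D3.rec (fun _ => Nat) 7 0 1 0 12 0 1 0 12 0 1 1 0 0 4 0 1 0 0 4 8 1 0 0 4 0 1 0 0 5 8 5 0 1 5 5 0 1 6 101) (@D3.rec (fun _ => Nat) 98 64 8 102 96 81 0 0 1 94 1 99 1 1 98 90 0 1 106 94 0 1 1 100 0 1 96 7 98 1 102 0 1 100 8 103 98 10 0 1) (@D3.rec (fun _ => Nat) 103 10 0 1 105 0 1 0 0 8 9 94 0 1 0 0 8 10 0 1 95 0 1 5 0 1 0 101 60 0 1 1 101 96 5 59 0 0 1 97) (@D3.rec (fun _ => Nat) 0 1 5 0 1 0 99 63 0 1 1 97 103 6 65 0 0 8 95 1 2 98 0 1 0 64 6 0 7 105 1 2 99 0 1 0 61 7 102 1)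
def lv_b_5 : D2 → D3 → Nat := @D2.rec (fun _ => D3 → Nat) (@D3.rec (fun _ => Nat) 0 97 0 1 1 2 100 1 0 96 0 1 1 2 12 0 0 0 0 1 0 1 0 1 1 0 97 3 0 99 4 1 1 0 3 0 1 0 3 0) (@D3.rec (fun _ => Nat) 1 1 100 8 0 1 0 8 3 1 107 8 0 1 0 9 5 1 0 0 1 0 0 71 11 1 0 0 1 0 0 71 11 82 0 4 0 1 2 0) (@D3.rec (fun _ => Nat) 1 5 0 1 0 0 3 0 1 1 0 0 5 46 0 89 0 0 5 1 2 0 1 5 0 1 0 0 3 0 1 1 0 0 6 63 0 1 90 66) (@D3.rec (fun _ => Nat) 2 102 67 3 0 1 0 0 3 0 1 0 4 1 2 0 6 1 96 62 2 63 99 3 0 1 0 0 3 0 1 0 4 1 2 0 7 104 2 70) (@D3.rec (fun _ => Nat) 103 1 2 0 0 1 2 115 2 80 111 1 2 0 0 1 2 1 1 0 90 0 1 0 104 0 1 1 95 0 0 13 1 104 0 0 12 3 100 5) (@D3.rec (fun _ => Nat) 5 101 0 1 0 3 4 1 0 10 8 0 0 3 110 4 4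 105 0 1 0 3 4 1 0 9 9 0 0 65 0 0 1 95 95 0 0 1 0 2) (@D3.rec (fun _ => Nat) 95 0 3 0 1 0 3 6 0 1 0 0 3 0 1 1 0 4 0 1 11 6 4 4 104 101 5 1 2 101 1 6 1 61 0 0 1 101 0 107) (@D3.rec (fun _ => Nat) 1 7 0 2 0 100 3 0 1 0 3 4 0 1 0 0 3 0 1 1 1 10 4 5 3 107 4 105 1 105 1 7 1 83 2 66 66 84 66 95) (@D3.rec (fun _ => Nat) 0 3 66 0 0 2 106 0 3 0 1 1 0 101 104 0 1 1 103 0 4 0 1 0 98 7 1 2 0 5 0 2 47 5 3 1 2 97 2 60) (@D3.rec (fun _ => Nat) 56 96 62 0 99 3 60 0 0 2 0 106 3 0 1 1 0 103 105 0 1 1 107 0 4 0 1 0 107 9 1 2 0 5 0 2 5 60 3 1) (@D3.rec (fun _ => Nat) 2 92 2 63 104 1 91 2 0 0 3 93 99 0 1 98 104 0 1 0 1 0 0 3 96 1 101 0 109 1 2 1 0 2 2 45 6 3 96 2) (@D3.rec (fun _ => Nat) 60 107 1 95 2 0 0 3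 98 0 100 0 1 99 0 0 3 104 1 99 0 100 1 2 1 0 2 2 6 60 3 14 2 0 92 0 1 0 0 1) (@D3.rec (fun _ => Nat) 1 0 101 100 1 103 4 18 1 0 0 4 0 0 103 1 2 0 5 0 1 1 2 0 0 3 18 18 104 0 76 2 0 0 94 1 102 0 0 1) (@D3.rec (fun _ => Nat) 1 105 17 1 0 115 4 0 0 107 1 5 0 1 1 2 0 0 3 17 17 110 96 0 0 0 0 100 95 1 1 65 102 99 0 0 1 1 0 0) (@D3.rec (fun _ => Nat) 1 1 1 0 1 0 92 0 1 96 0 1 1 1 0 11 9 0 11 9 1 0 0 1 0 0 91 95 1 1 1 2 84 97 96 3 102 4 82 10) (@D3.rec (fun _ => Nat) 96 92 86 90 0 0 1 0 1 0 0 1 0 1 1 0 7 3 1 0 9 5 0 8 9 0 8 9 1 88 0 0 0 1 92 0 0 0 87 0) (@D3.rec (fun _ => Nat) 1 1 0 92 1 1 96 8 3 97 8 4 1 0 8 0 1 0 8 3 1 0 8 0 1 0 9 5 0 1 0 1 1 0 12 83 1 0 0 12) (@D3.rec (fun _ => Nat) 9 1 0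 12 85 1 0 0 12 9 85 102 104 0 1 2 0 1 60 5 59 0 0 58 0 1 1 0 82 5 57 0 88 106 0 99 1 2 0 1) (@D3.rec (fun _ => Nat) 73 5 58 0 0 56 0 1 1 0 80 6 60 0 1 2 0 6 1 2 0 7 0 1 2 0 1 2 5 6 0 0 113 1 104 12 6 100 1 107) (@D3.rec (fun _ => Nat) 12 5 5 1 94 8 0 1 0 3 4 1 0 8 8 87 0 4 1 104 8 0 1 0 3 4 1 0 7 9 58 0 80 82 99 104 102 109 0 99) (@D3.rec (fun _ => Nat) 1 0 113 9 0 98 1 0 113 9 105 1 93 0 1 102 0 3 0 1 1 0 84 9 0 104 104 1 100 0 1 100 0 3 0 1 1 0 82 9) (@D3.rec (fun _ => Nat) 0 109 85 0 98 1 0 99 99 97 1 85 3 6 99 0 58 0 1 1 0 58 0 1 99 6 4 4 0 58 5 1 2 0 1 0 6 57 0 1) (@D3.rec (fun _ => Nat) 87 0 1 7 98 109 104 104 1 85 3 4 100 0 56 0 1 1 0 56 0 1 98 4 5 3 0 4 89 1 2 0 1 0 7 58 0 1 2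 89) (@D3.rec (fun _ => Nat) 0 2 57 63 3 1 2 2 97 0 2 54 57 3 1 2 96 0 59 3 8 61 107 101 0 2 59 60 3 106 0 55 3 52 8 102 97 0 2 54) (@D3.rec (fun _ => Nat) 58 3 1 1 1 0 1 0 0 1 0 1 0 0 0 1 1 0 3 5 0 3 6 1 12 9 61 1 11 9 83 3 0 1 3 0 1 1 0 4) (@D3.rec (fun _ => Nat) 94 1 0 4 6 1 0 4 101 1 0 5 5 17 0 5 5 1 2 0 9 0 1 0 3 4 1 0 11 9 81 11 16 0 4 4 1 2 0 9)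
def lv_b_6 : D2 → D3 → Nat := @D2.rec (fun _ => D3 → Nat) (@D3.rec (fun _ => Nat) 0 1 0 3 4 1 0 10 10 61 10 5 0 1 88 0 1 0 11 0 1 0 1 0 6 1 90 0 1 0 11 0 1 0 1 18 84 86 1 86) (@D3.rec (fun _ => Nat) 2 5 0 0 3 0 1 0 3 6 88 61 0 0 1 0 0 0 1 18 6 4 82 17 1 84 82 2 0 6 0 3 0 1 0 3 4 90 74 0) (@D3.rec (fun _ => Nat) 0 1 0 0 0 1 15 4 5 1 2 0 0 5 3 61 63 0 1 0 0 56 1 0 62 59 1 101 0 1 2 0 0 5 3 70 68 1 0 0) (@D3.rec (fun _ => Nat) 0 54 1 0 69 57 1 104 0 1 2 0 0 5 3 62 62 0 0 1 2 0 0 5 3 76 76 0 0 79 13 89 12 86 84 1 88 87 1 1) (@D3.rec (fun _ => Nat) 4 1 5 11 12 96 1 2 78 0 11 11 78 2 6 6 3 99 99 0 1 0 3 5 1 0 112 0 0 1 114 0 112 9 87 0 96 1 2 0) (@D3.rec (fun _ => Nat) 80 12 10 87 2 5 5 3 98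 104 0 1 0 3 5 1 0 112 0 114 1 114 0 112 10 64 0 1 90 1 3 0 1 0 1 0 3 7 1 88) (@D3.rec (fun _ => Nat) 12 4 86 0 2 101 91 101 101 1 0 0 1 1 1 0 7 5 0 8 0 2 1 86 3 0 1 0 1 0 3 5 1 58 4 56 0 2 100 95) (@D3.rec (fun _ => Nat) 100 102 1 0 0 1 1 1 0 4 6 0 5 0 3 0 70 94 97 0 1 1 66 99 58 0 0 1 0 1 0 111 1 1 0 1 97 0 1 1) (@D3.rec (fun _ => Nat) 93 1 101 3 56 0 4 56 1 0 0 105 99 1 0 50 98 0 100 1 1 46 107 0 56 1 0 0 0 106 1 1 1 0 1 99 0 1 1 97) (@D3.rec (fun _ => Nat) 1 102 3 55 0 4 57 1 99 102 1 2 98 92 1 93 59 68 2 99 101 66 100 99 103 4 9 0 0 1 87 93 0 103 1 0 1 0 8 97) (@D3.rec (fun _ => Nat) 1 0 1 102 58 1 95 4 59 0 106 4 59 114 5 1 2 0 5 2 98 96 1 104 52 48 2 107 107 46 104 100 104 4 0 9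 1 104 108 0) (@D3.rec (fun _ => Nat) 102 1 100 0 8 98 0 1 104 55 1 106 4 110 0 4 54 113 5 1 5 5 66 0 1 1 101 69 0 0 0 1 109 1 0 4 94 1 1 0) (@D3.rec (fun _ => Nat) 9 109 0 107 3 1 0 9 108 1 0 10 1 0 3 15 1 109 0 5 107 1 105 15 109 110 0 5 1 2 0 1 5 1 0 104 105 1 111 0) (@D3.rec (fun _ => Nat) 108 1 2 6 1 2 0 2 56 9 3 1 2 0 1 106 56 5 46 0 1 1 110 49 0 0 1 115 0 1 0 3 104 1 0 9 113 1 0 9) (@D3.rec (fun _ => Nat) 115 1 0 107 0 5 1 0 3 79 1 112 0 5 107 1 110 77 106 103 4 0 1 2 0 1 5 1 0 103 104 1 113 0 102 1 2 6 1 102) (@D3.rec (fun _ => Nat) 0 2 9 57 3 1 2 0 1 115 58 87 2 99 77 97 0 65 3 66 101 0 99 103 1 0 0 15 0 1 1 1 92 2 103 85 94 0 45 3) (@D3.rec (fun _ => Nat) 96 79 98 0 98 1 0 0 75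 0 1 1 1 17 102 3 17 103 4 1 95 1 97 3 0 1 3 0 1 0 75 0 1 0 75 0 1 1 57 4) (@D3.rec (fun _ => Nat) 59 1 9 4 3 1 90 4 88 1 7 6 5 1 2 78 93 0 0 1 0 1 0 1 1 74 3 89 91 3 92 1 87 0 4 0 15 1 92 0) (@D3.rec (fun _ => Nat) 4 0 18 16 9 1 87 0 1 106 15 0 1 0 8 17 1 96 0 1 110 15 0 1 0 12 1 12 1 4 98 1 0 4 4 104 1 0 5 87) (@D3.rec (fun _ => Nat) 6 6 83 93 95 1 0 3 5 1 0 12 5 0 0 89 5 5 90 99 100 1 0 3 5 1 0 11 6 0 0 12 5 89 2 6 6 83 82 83) (@D3.rec (fun _ => Nat) 0 0 1 3 5 1 0 4 0 5 1 2 0 94 14 0 1 0 1 6 11 95 2 5 5 89 90 94 0 0 1 3 5 1 0 4 0 4 1 2) (@D3.rec (fun _ => Nat) 0 93 16 0 1 0 1 0 1 0 2 89 0 0 1 0 3 7 1 2 0 0 1 0 3 0 1 1 0 4 0 1 13 7 5 0 5 1 2 0) (@D3.rec (fun _ => Nat) 1 0 12 0 1 0 1 1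 8 0 2 0 91 0 1 0 3 5 1 2 0 0 1 0 3 0 1 1 0 4 0 1 12 4 6 4 0 1 2 0) (@D3.rec (fun _ => Nat) 1 0 12 0 1 0 1 1 1 2 0 104 102 0 0 1 0 1 13 3 6 1 60 0 3 6 0 0 1 58 1 93 0 0 1 0 3 7 1 0) (@D3.rec (fun _ => Nat) 8 4 0 88 2 2 86 0 3 0 90 1 0 1 0 0 0 1 1 1 62 7 5 14 0 4 4 1 2 0 63 0 1 5 3 7 82 10 8 0) (@D3.rec (fun _ => Nat) 2 0 13 7 1 2 0 0 1 11 0 2 0 6 0 3 0 1 3 1 2 2 0 60 0 1 13 4 5 1 1 2 0 100 0 106 1 0 0 14)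
def lv_b_7 : D2 → D3 → Nat := @D2.rec (fun _ => D3 → Nat) (@D3.rec (fun _ => Nat) 3 7 1 0 89 3 0 7 1 89 0 1 98 0 0 1 0 3 5 1 0 4 0 96 2 2 0 93 3 0 98 1 0 1 0 0 0 1 1 1) (@D3.rec (fun _ => Nat) 52 4 6 13 0 5 5 1 2 0 77 0 1 6 3 9 62 11 5 0 3 0 10 12 1 2 0 0 12 1 0 2 5 0 0 3 0 1 3 1) (@D3.rec (fun _ => Nat) 2 2 0 58 0 1 12 6 4 1 86 68 14 0 60 84 7 1 1 2 85 2 60 60 0 3 1 2 0 0 66 3 63 60 0 0 0 2 63 64) (@D3.rec (fun _ => Nat) 1 95 91 14 0 47 87 6 1 1 2 88 2 57 59 0 3 1 2 0 0 65 3 59 72 0 0 0 2 72 72 2 0 1 2 2 0 1 2 83) (@D3.rec (fun _ => Nat) 88 93 3 73 3 75 79 92 0 83 108 0 2 2 66 96 3 66 96 0 0 1 101 1 101 106 1 104 1 4 59 1 92 4 4 92 1 91 6 57) (@D3.rec (fun _ => Nat) 89 5 59 59 79 99 81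 12 88 95 5 92 90 57 103 49 12 1 84 93 2 59 84 0 1 3 0 1 0 57 1 1 65 94 2 96 103 0 1 3) (@D3.rec (fun _ => Nat) 0 1 0 95 1 88 68 1 1 85 63 60 98 3 7 7 0 61 101 2 94 1 100 6 4 0 109 4 1 2 118 5 0 1 1 0 2 0 6 107) (@D3.rec (fun _ => Nat) 3 0 1 116 0 1 0 0 1 4 91 92 1 1 95 49 51 98 3 6 6 50 0 93 2 104 1 100 6 4 0 108 5 1 2 112 5 0 1 1) (@D3.rec (fun _ => Nat) 0 2 5 0 110 3 0 1 114 0 1 0 0 1 6 77 90 1 58 0 1 0 1 0 3 83 1 4 83 4 0 5 76 62 60 0 1 1 91 87) (@D3.rec (fun _ => Nat) 89 99 7 0 0 1 58 1 0 4 104 1 0 8 1 0 60 4 111 61 68 1 109 0 0 5 111 1 62 0 1 98 1 0 105 3 101 1 0 4) (@D3.rec (fun _ => Nat) 0 1 1 1 62 4 6 64 104 6 6 1 2 0 5 1 12 3 111 58 7 0 0 92 1 2 110 0 82 2 5 5 104 3 1 102 2 0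 0 1) (@D3.rec (fun _ => Nat) 0 3 5 86 4 0 86 0 108 8 0 1 0 1 0 0 88 2 0 0 3 0 1 1 3 1 2 78 0 0 3 103 7 1 111 58 1 2 101 96) (@D3.rec (fun _ => Nat) 3 5 4 0 2 2 102 6 3 108 3 98 0 0 1 64 4 6 0 5 114 84 89 1 89 0 1 0 0 3 90 1 1 45 4 0 5 84 47 0) (@D3.rec (fun _ => Nat) 93 1 1 96 91 98 93 0 8 1 91 0 0 89 1 102 1 0 6 1 0 97 4 113 50 79 1 109 0 5 111 1 47 0 1 104 1 0 101 3) (@D3.rec (fun _ => Nat) 102 1 0 4 0 1 1 1 51 4 7 52 106 7 7 1 2 0 5 1 11 3 112 95 5 0 0 57 1 2 0 109 90 2 6 6 3 1 2 0) (@D3.rec (fun _ => Nat) 0 1 0 3 5 63 4 0 63 0 115 6 0 1 0 1 0 85 2 0 0 3 1 1 59 1 2 0 67 11 3 6 102 86 1 109 100 3 7 4) (@D3.rec (fun _ => Nat) 0 2 6 104 3 102 0 0 1 85 7 5 0 8 113 1 88 60 7 64 97 97 62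 103 101 58 57 0 1 60 4 7 2 62 62 3 107 109 84 113) (@D3.rec (fun _ => Nat) 3 111 62 111 99 1 2 2 0 82 0 3 99 112 1 1 7 7 0 105 59 0 0 1 1 97 104 111 3 57 62 97 98 1 104 47 7 54 105 99) (@D3.rec (fun _ => Nat) 48 102 103 56 57 0 1 49 4 6 2 56 57 3 108 46 109 112 3 57 112 100 112 1 2 2 48 0 0 3 111 106 1 1 8 8 0 57 108 0) (@D3.rec (fun _ => Nat) 0 1 1 99 108 99 3 53 56 99 99 1 1 114 2 65 60 117 1 2 118 2 106 101 3 0 1 101 99 0 3 103 103 97 97 9 2 0 0 97) (@D3.rec (fun _ => Nat) 99 0 114 1 7 7 101 0 4 59 97 119 66 99 1 1 1 107 2 56 60 112 1 2 113 2 99 102 3 0 1 103 0 98 3 99 107 98 101 10) (@D3.rec (fun _ => Nat) 0 0 101 0 1 8 8 0 106 4 100 55 66 113 117 0 109 1 0 4 117 0 5 10 0 1 0 111 0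 106 102 1 0 58 111 6 0 4 1 2) (@D3.rec (fun _ => Nat) 109 5 0 1 120 1 1 0 56 57 0 1 57 0 4 113 0 5 11 0 0 105 1 0 55 103 0 120 1 2 109 5 0 1 111 1 1 0 58 56) (@D3.rec (fun _ => Nat) 0 1 56 1 1 100 97 7 105 8 100 12 88 98 106 106 0 0 1 1 0 3 0 4 1 1 87 79 0 1 93 85 0 1 1 0 8 3 1 0) (@D3.rec (fun _ => Nat) 9 5 0 0 0 0 0 0 1 1 1 1 1 1 1 19 11 1 17 10 16 5 0 63 4 1 0 10 116 121 10 16 4 0 50 4 1 0 9 120) (@D3.rec (fun _ => Nat) 115 9 0 1 0 0 64 6 13 65 4 0 1 13 0 49 4 12 48 5 92 66 80 99 62 82 1 87 100 4 68 101 1 93 96 4 64 105 94 93)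
def lv_b_8 : D2 → D3 → Nat := @D2.rec (fun _ => D3 → Nat) (@D3.rec (fun _ => Nat) 93 67 113 103 67 115 87 67 109 94 62 106 100 1 86 0 5 67 0 1 105 1 104 0 5 61 0 1 99 96 93 74 0 1 97 74 0 1 1 100) (@D3.rec (fun _ => Nat) 8 0 1 94 8 99 1 102 8 0 1 99 9 94 1 0 0 1 0 0 81 1 0 0 1 0 0 81 0 1 2 0 1 5 0 1 114 99 64 0) (@D3.rec (fun _ => Nat) 1 1 101 96 5 61 0 0 1 2 0 1 5 0 1 120 97 65 0 1 1 95 103 6 65 0 0 1 0 64 6 0 1 0 63 7 65 100 101 88) (@D3.rec (fun _ => Nat) 92 1 1 101 92 105 1 98 110 1 100 105 5 1 102 3 4 109 115 8 101 101 102 4 1 101 3 4 107 117 9 96 109 105 1 81 96 1 81 1) (@D3.rec (fun _ => Nat) 103 113 1 1 9 105 109 1 94 105 1 1 9 108 104 1 86 97 0 1 84 6 0 1 0 0 1 101 105 0 1 104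 117 4 4 101 106 102 101 101) (@D3.rec (fun _ => Nat) 6 59 0 1 1 58 109 0 1 54 4 0 1 0 0 1 104 105 0 1 103 118 5 3 102 102 98 100 100 7 65 0 1 1 2 100 99 1 98 1) (@D3.rec (fun _ => Nat) 0 103 1 2 98 101 1 100 1 0 105 1 0 1 0 98 103 2 59 105 1 0 1 0 99 100 2 64 107 89 93 1 1 1 0 1 0 87 92 0) (@D3.rec (fun _ => Nat) 1 95 108 0 1 0 74 5 0 74 6 1 96 0 102 14 1 106 0 98 13 78 3 74 85 3 78 1 1 0 76 6 1 1 0 76 5 3 100 5) (@D3.rec (fun _ => Nat) 5 97 108 0 1 0 3 4 1 0 11 0 0 3 108 4 4 109 104 0 1 0 3 4 1 0 10 0 0 84 0 1 1 0 88 0 1 1 0 86) (@D3.rec (fun _ => Nat) 0 90 0 1 1 0 84 0 1 1 0 86 0 67 84 0 1 2 93 0 92 1 0 2 95 0 3 0 1 0 3 6 0 1 0 0 3 0 1 1) (@D3.rec (fun _ => Nat) 0 4 0 1 12 6 4 4 104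 102 5 1 2 98 1 6 47 1 63 0 90 1 2 0 109 1 7 87 2 0 105 3 0 1 0 3 4 0 1 0) (@D3.rec (fun _ => Nat) 0 3 0 1 1 0 4 0 1 11 4 5 3 109 4 103 1 2 107 1 7 64 1 67 66 71 93 0 104 3 106 67 0 0 1 0 0 70 0 1) (@D3.rec (fun _ => Nat) 1 103 0 4 0 1 0 100 70 1 2 0 5 0 2 48 5 3 1 2 62 57 69 0 97 105 3 65 99 0 0 1 0 0 80 0 1 1 107 0) (@D3.rec (fun _ => Nat) 4 0 1 0 107 79 1 2 0 5 0 2 5 61 3 1 2 102 0 69 0 2 0 1 2 1 95 2 47 6 3 115 0 80 0 2 0 1 2 1) (@D3.rec (fun _ => Nat) 94 2 6 3 88 3 99 4 1 105 1 15 79 3 1 98 1 17 79 5 3 95 17 18 113 1 1 4 109 18 17 101 1 1 94 67 99 0 1 106) (@D3.rec (fun _ => Nat) 3 5 1 4 0 55 1 0 1 1 87 94 89 0 1 108 3 5 1 3 0 85 1 0 1 1 67 96 98 1 1 93 104 97 98 0 1 0 1 83) (@D3.rec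 (fun _ => Nat) 3 6 1 3 0 0 1 0 0 1 0 3 7 1 87 8 98 0 1 0 97 63 1 1 103 4 0 1 0 7 98 109 0 4 4 1 1 93 3 16) (@D3.rec (fun _ => Nat) 0 9 0 2 22 19 0 19 0 2 5 12 5 63 103 99 1 1 100 109 102 102 1 0 0 55 3 7 1 3 0 1 0 0 0 1 0 3 5 1) (@D3.rec (fun _ => Nat) 57 107 0 1 0 103 48 1 1 103 111 1 0 4 104 88 117 5 5 66 118 16 70 10 94 3 19 18 0 17 0 109 13 4 96 0 66 67 66 0) (@D3.rec (fun _ => Nat) 0 68 1 66 1 1 3 0 101 1 99 0 1 102 105 0 1 1 98 98 103 0 1 0 5 1 116 103 0 1 0 0 93 2 5 3 1 2 1 2) (@D3.rec (fun _ => Nat) 0 0 3 0 0 0 2 6 0 101 59 63 57 0 0 64 1 60 1 1 3 0 1 100 98 0 1 103 105 0 1 1 111 98 111 0 1 0 5 1) (@D3.rec (fun _ => Nat) 112 107 0 1 0 0 93 2 5 3 1 2 1 2 0 0 3 0 0 0 2 6 90 94 101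 0 2 93 93 0 1 1 95 98 1 0 0 1 1 1) (@D3.rec (fun _ => Nat) 1 103 1 108 111 112 2 118 6 3 0 45 1 2 2 0 121 3 7 46 116 0 94 98 100 0 2 97 97 1 1 98 1 103 1 1 1 111 1 106) (@D3.rec (fun _ => Nat) 106 106 2 6 120 3 0 61 1 2 2 110 0 3 7 115 61 0 14 0 0 1 0 1 110 106 4 1 1 110 113 105 3 1 108 103 103 16 18 1) (@D3.rec (fun _ => Nat) 116 1 110 5 0 1 1 103 116 2 116 120 110 1 109 115 1 59 2 114 0 3 0 0 1 1 78 18 106 112 1 75 0 0 1 0 1 114 105 3) (@D3.rec (fun _ => Nat) 1 1 110 108 5 76 19 1 108 123 5 0 1 1 104 110 106 111 1 58 2 0 95 3 0 101 1 1 16 19 104 97 1 1 1 1 93 97 102 97)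
def lv_b_9 : D2 → D3 → Nat := @D2.rec (fun _ => D3 → Nat) (@D3.rec (fun _ => Nat) 1 1 97 7 92 103 9 91 1 1 96 3 103 4 85 0 1 86 0 1 1 0 8 3 1 0 9 5 87 89 1 0 12 83 85 1 0 12 85 91) (@D3.rec (fun _ => Nat) 90 0 1 1 0 87 1 1 78 89 2 85 98 63 86 90 95 90 94 0 0 0 0 1 1 0 1 0 1 1 0 4 97 1 0 5 93 57 58 4) (@D3.rec (fun _ => Nat) 1 57 8 8 84 58 87 58 4 1 89 7 10 65 90 1 88 98 112 86 1 93 111 99 86 0 1 1 0 1 0 1 1 0 1 100 1 0 66 58) (@D3.rec (fun _ => Nat) 6 59 92 1 11 99 84 57 4 57 96 9 9 5 1 2 0 9 0 1 0 3 4 1 0 9 9 83 0 4 1 2 0 9 0 1 0 3 4 1) (@D3.rec (fun _ => Nat) 0 8 10 61 0 1 1 91 0 1 83 83 85 88 83 81 1 1 81 13 86 0 1 91 89 85 94 85 83 1 1 81 13 86 0 98 1 0 2 88) (@D3.rec (fun _ => Nat)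 98 0 1 86 3 6 66 0 61 0 1 1 0 61 0 1 106 6 4 4 0 84 5 1 95 0 0 6 58 0 1 85 0 1 7 98 2 93 109 0) (@D3.rec (fun _ => Nat) 1 84 3 4 73 0 58 0 1 1 0 57 0 1 106 4 5 3 0 4 82 1 97 0 0 7 61 0 1 0 2 58 62 3 1 2 0 2 57 58) (@D3.rec (fun _ => Nat) 3 1 2 1 119 2 60 63 3 1 113 2 59 3 1 1 0 113 5 9 13 102 94 0 102 5 8 13 105 99 6 96 0 1 59 3 5 1 114 112) (@D3.rec (fun _ => Nat) 0 4 0 5 1 2 0 115 9 87 0 1 5 111 0 1 56 3 5 1 111 110 0 3 0 4 1 2 0 112 10 64 0 1 1 88 99 102 1 0) (@D3.rec (fun _ => Nat) 83 0 1 84 100 99 1 0 83 0 91 7 0 1 3 112 1 0 115 0 1 101 0 1 2 0 111 118 0 1 85 5 0 1 3 105 1 0 112 0) (@D3.rec (fun _ => Nat) 1 100 0 1 2 0 108 119 0 1 1 6 1 101 99 82 3 7 8 103 88 107 0 1 0 1 109 7 5 91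 0 4 4 1 2 111 63 112 1 106) (@D3.rec (fun _ => Nat) 0 57 87 2 1 2 59 78 0 2 56 6 114 3 108 1 1 2 2 58 110 1 69 4 5 1 7 109 106 90 3 5 104 58 107 0 1 0 1 115) (@D3.rec (fun _ => Nat) 4 6 83 0 5 5 1 110 114 58 110 1 105 91 90 100 3 1 2 62 89 0 2 111 91 110 3 108 1 1 2 2 59 109 1 94 6 4 1 2) (@D3.rec (fun _ => Nat) 0 96 3 103 0 0 2 58 61 1 0 3 0 2 57 58 94 96 106 1 59 0 9 61 105 1 2 100 112 3 59 114 0 110 105 106 1 54 0 55) (@D3.rec (fun _ => Nat) 9 102 1 2 100 105 3 111 59 0 77 14 83 13 75 0 1 75 0 1 1 80 1 80 1 79 96 1 0 1 0 75 3 92 94 3 95 1 89 13) (@D3.rec (fun _ => Nat) 4 0 13 1 91 12 4 0 12 12 0 13 0 4 1 0 4 4 1 0 5 89 6 6 1 90 93 97 93 0 92 5 1 0 12 5 0 12 91 5) (@D3.rec (fun _ =>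 Nat) 5 1 92 100 103 102 0 99 5 1 0 11 6 0 11 96 1 2 78 0 12 12 76 2 6 6 0 3 1 2 2 0 0 1 0 3 5 1 0 116) (@D3.rec (fun _ => Nat) 0 0 1 119 0 121 117 83 0 104 1 2 0 78 13 11 90 2 5 5 0 3 1 2 2 0 0 1 0 3 5 1 0 113 0 0 1 116 0 115) (@D3.rec (fun _ => Nat) 116 63 0 86 1 91 90 1 79 3 7 1 2 0 0 1 0 0 1 19 7 5 1 84 84 92 1 75 3 5 1 2 0 0 1 0 0 1 16 4) (@D3.rec (fun _ => Nat) 6 3 6 0 1 1 2 0 0 1 0 3 7 1 88 0 67 0 1 93 1 0 0 3 0 1 1 1 0 7 5 0 0 2 3 0 7 1 1 2) (@D3.rec (fun _ => Nat) 0 0 1 0 3 5 1 90 0 74 0 1 100 1 0 0 3 0 1 1 1 0 4 6 0 0 3 2 0 0 94 102 0 1 1 6 6 77 0 63) (@D3.rec (fun _ => Nat) 65 0 0 1 0 113 1 1 99 0 0 67 59 1 0 103 67 0 0 106 99 1 2 0 0 98 0 107 1 1 6 6 0 113 73 77 0 0 0 106) (@D3.rec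 (fun _ => Nat) 1 1 1 99 0 0 66 56 1 0 104 66 0 0 99 104 1 2 104 0 98 0 0 1 1 6 6 0 0 62 62 0 0 1 1 2 103 0 103 0) (@D3.rec (fun _ => Nat) 0 1 1 6 6 0 0 69 69 0 0 1 1 94 57 108 90 4 99 5 100 2 0 98 0 13 1 57 78 59 11 3 7 80 101 1 104 1 94 0) (@D3.rec (fun _ => Nat) 90 59 49 1 110 0 1 1 115 0 0 51 115 1 112 87 0 1 2 0 106 0 1 86 92 90 87 11 3 6 88 102 1 106 1 91 0 57 54 81) (@D3.rec (fun _ => Nat) 1 117 0 1 0 83 0 115 1 114 64 0 1 1 80 1 101 11 110 1 61 4 90 110 1 101 102 96 0 1 1 0 6 93 6 80 58 98 1 82)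
def lv_b_10 : D2 → D3 → Nat := @D2.rec (fun _ => D3 → Nat) (@D3.rec (fun _ => Nat) 113 7 0 0 1 102 1 1 88 1 110 11 110 1 85 4 59 108 1 102 97 98 0 1 1 0 7 110 7 56 57 104 1 58 111 5 0 0 1 101) (@D3.rec (fun _ => Nat) 1 1 92 104 96 0 1 3 0 67 100 105 0 1 0 1 107 111 1 99 1 70 5 0 1 85 93 1 7 101 98 101 96 4 58 110 100 101 1 0) (@D3.rec (fun _ => Nat) 5 0 115 106 1 1 60 12 96 57 7 1 96 105 0 98 1 0 4 47 109 107 1 0 0 110 105 1 1 1 78 3 110 0 1 85 100 1 7 100) (@D3.rec (fun _ => Nat) 106 100 100 4 54 111 102 102 1 5 105 104 93 93 105 58 6 64 100 101 101 96 99 101 103 67 97 103 89 96 0 0 1 1 89 103 1 95 99 9) (@D3.rec (fun _ => Nat) 99 1 1 0 9 0 10 1 100 58 106 98 64 104 99 5 108 1 108 108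 0 5 60 113 6 120 2 57 9 3 1 2 37 98 108 102 107 103 112 104) (@D3.rec (fun _ => Nat) 47 100 108 100 0 105 1 100 102 1 112 106 9 98 1 0 9 0 1 106 54 109 102 69 110 5 109 1 109 54 5 54 113 6 120 9 57 67 0 1) (@D3.rec (fun _ => Nat) 0 67 4 0 66 3 94 104 1 1 1 107 109 1 103 0 1 1 107 110 0 4 1 10 104 4 1 115 11 109 3 16 1 0 0 0 0 1 6 101) (@D3.rec (fun _ => Nat) 107 109 109 107 1 107 2 3 1 103 107 4 119 1 105 1 0 2 110 119 3 0 2 106 58 110 1 2 0 0 3 10 115 110 0 2 58 3 1 106) (@D3.rec (fun _ => Nat) 58 60 0 0 47 0 1 0 0 46 112 105 103 1 1 114 118 1 1 0 1 116 0 5 1 10 112 4 1 118 109 1 115 109 3 77 1 0 0 0) (@D3.rec (fun _ => Nat) 0 1 6 112 113 104 109 105 1 104 2 3 1 100 116 6 110 1 98 1 0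 2 116 117 3 0 59 108 1 2 0 0 3 59 116 0 2 59 3 1) (@D3.rec (fun _ => Nat) 117 59 57 0 0 0 97 98 0 1 97 101 0 99 1 15 109 1 1 1 110 7 4 107 7 3 0 105 97 0 1 100 98 100 0 1 76 101 1 1) (@D3.rec (fun _ => Nat) 1 114 7 3 121 8 5 77 100 0 79 105 0 73 95 73 101 4 59 1 94 4 4 90 1 95 6 1 0 75 0 1 9 75 77 1 0 75 0 1) (@D3.rec (fun _ => Nat) 9 75 76 67 61 59 77 5 81 13 92 90 88 55 7 49 13 2 79 91 1 0 1 0 75 1 75 1 75 12 90 92 12 90 89 99 4 0 92 99) (@D3.rec (fun _ => Nat) 4 0 85 87 84 0 1 101 5 0 1 0 87 88 92 0 1 105 5 0 1 0 61 103 0 1 3 104 0 0 1 0 59 1 91 107 0 1 3 110) (@D3.rec (fun _ => Nat) 0 0 1 0 94 1 0 0 93 94 1 0 5 100 101 1 0 6 75 0 13 6 0 97 0 3 6 1 0 4 0 0 5 1 2 0 0 6 0 1) (@D3.rec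 (fun _ => Nat) 0 1 0 83 7 12 0 101 0 3 6 1 0 4 0 0 4 1 2 0 0 7 0 1 0 1 64 63 7 7 0 62 0 1 1 3 6 4 0 109) (@D3.rec (fun _ => Nat) 4 1 2 0 5 0 1 0 2 0 6 0 3 0 1 93 118 0 0 1 0 0 1 4 50 52 6 6 51 0 0 1 1 3 6 4 0 108 5 1) (@D3.rec (fun _ => Nat) 2 0 5 0 1 0 2 5 0 0 3 0 1 94 114 0 0 1 0 0 1 6 1 14 75 7 1 5 0 1 1 98 3 8 1 85 9 4 0 90) (@D3.rec (fun _ => Nat) 2 0 0 1 1 3 100 1 4 0 1 101 8 89 77 0 4 4 1 2 0 5 0 1 6 3 9 0 11 9 0 2 1 12 0 2 0 6 3 0) (@D3.rec (fun _ => Nat) 1 3 1 2 0 0 1 0 0 1 14 4 5 15 83 8 1 5 1 0 1 87 3 6 1 77 4 0 94 2 0 0 1 1 3 101 1 4 0 1) (@D3.rec (fun _ => Nat) 100 4 91 78 0 5 5 1 2 0 5 0 1 7 3 9 0 12 5 0 3 13 1 0 2 5 0 3 0 1 3 1 2 0 0 1 0 0 1 13) (@D3.rec (fun _ => Nat) 6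 4 77 0 1 60 0 0 1 0 1 0 3 85 1 4 81 4 0 5 1 0 0 1 60 1 0 4 83 88 1 1 0 115 8 1 0 60 4 111) (@D3.rec (fun _ => Nat) 61 68 1 2 0 0 5 0 1 88 86 86 5 3 86 0 90 88 1 88 0 1 1 0 0 1 1 1 64 4 6 65 104 6 6 13 67 113 58 7) (@D3.rec (fun _ => Nat) 0 0 92 1 2 110 0 84 2 5 5 0 3 1 2 2 0 0 1 0 3 5 82 4 0 82 0 117 117 0 1 0 1 2 0 0 89 2 0 0) (@D3.rec (fun _ => Nat) 3 0 0 1 1 3 1 2 78 0 0 3 0 7 1 111 60 1 2 0 98 1 3 5 4 0 2 2 0 6 3 0 3 0 1 0 0 1 63 4) (@D3.rec (fun _ => Nat) 6 0 0 86 0 1 87 0 1 0 0 0 3 88 1 1 47 4 0 5 1 0 1 89 0 0 91 1 94 90 1 1 0 105 6 1 0 90 4 115)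
def lv_b_11 : D2 → D3 → Nat := @D2.rec (fun _ => D3 → Nat) (@D3.rec (fun _ => Nat) 51 77 1 2 0 5 0 1 94 96 93 5 3 101 94 95 1 93 91 95 1 1 0 0 1 1 1 52 4 7 51 104 7 7 12 77 115 90 5 0) (@D3.rec (fun _ => Nat) 0 58 1 2 0 110 88 2 6 6 113 113 1 2 2 0 0 1 0 3 5 59 4 0 62 0 109 119 0 1 0 1 2 0 0 86 2 0 0 3) (@D3.rec (fun _ => Nat) 0 0 1 1 61 1 2 0 67 0 3 6 0 84 1 111 1 2 0 100 1 3 7 4 0 2 2 6 0 3 0 3 0 1 0 0 1 83 7 5) (@D3.rec (fun _ => Nat) 0 0 68 88 0 1 65 99 62 61 120 7 2 59 61 3 87 111 82 0 3 60 59 112 99 1 2 2 0 82 0 3 0 0 1 1 63 63 0 0) (@D3.rec (fun _ => Nat) 65 62 0 0 1 1 1 2 0 0 64 64 0 0 72 95 0 1 53 101 49 50 120 6 2 55 61 3 90 46 113 0 3 55 62 93 112 1 2 2) (@D3.rec (fun _ => Nat)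 50 0 0 3 0 0 1 1 70 70 0 0 57 73 0 0 1 1 1 2 0 0 71 71 0 0 0 1 0 2 62 61 3 0 1 0 2 57 62 3) (@D3.rec (fun _ => Nat) 83 70 94 94 1 108 103 1 3 100 99 1 1 5 59 5 92 89 61 110 108 99 83 98 92 110 107 102 49 61 0 1 3 1 0 59 59 1 98 0) (@D3.rec (fun _ => Nat) 1 3 1 0 92 97 1 63 100 8 8 0 1 11 7 101 99 106 5 0 1 2 100 5 116 3 109 0 1 98 1 2 99 3 0 1 116 0 1 112) (@D3.rec (fun _ => Nat) 101 107 1 0 105 0 1 1 0 4 49 102 7 7 0 1 11 7 100 98 105 5 0 1 2 6 88 117 3 110 0 1 99 1 2 88 3 0 1 114) (@D3.rec (fun _ => Nat) 0 1 113 90 112 1 0 109 0 1 1 0 7 79 79 4 60 1 0 77 83 1 83 4 79 1 85 83 4 0 81 5 79 115 113 5 0 1 110 64) (@D3.rec (fun _ => Nat) 98 60 108 1 63 106 63 99 89 89 98 63 0 1 60 1 0 100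 1 89 5 0 9 1 60 61 0 1 2 0 0 5 107 111 111 111 1 1 104 2) (@D3.rec (fun _ => Nat) 113 100 115 98 1 11 99 4 101 1 96 95 4 1 1 64 5 7 65 94 96 7 105 92 58 101 11 84 2 7 118 1 2 84 3 58 113 104 117 101) (@D3.rec (fun _ => Nat) 9 117 1 110 1 111 98 2 110 0 3 1 84 103 115 3 106 6 108 104 106 2 0 6 102 3 0 1 1 103 101 1 112 109 4 59 58 88 1 88) (@D3.rec (fun _ => Nat) 1 117 1 0 1 65 1 1 111 3 1 115 1 1 91 3 90 100 2 93 104 105 1 1 2 109 103 8 114 60 89 113 0 2 103 104 3 99 4 60) (@D3.rec (fun _ => Nat) 122 1 2 2 108 116 11 3 110 102 3 97 7 110 0 4 112 122 101 0 1 1 103 108 64 62 5 95 60 1 91 62 1 0 85 91 1 1 57 89) (@D3.rec (fun _ => Nat) 4 0 90 87 90 5 87 116 110 5 0 1 99 86 104 93 1 54 117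 49 100 94 94 93 97 1 93 0 103 1 1 104 91 107 0 7 1 97 52 0) (@D3.rec (fun _ => Nat) 1 97 5 108 113 110 1 101 2 112 99 114 102 1 11 100 4 102 1 101 97 4 1 1 53 5 8 51 105 7 96 98 86 12 2 9 120 1 2 58) (@D3.rec (fun _ => Nat) 3 87 115 105 113 102 6 114 1 115 1 64 2 0 110 3 1 91 108 117 3 7 113 114 105 2 6 0 3 0 1 1 104 102 1 110 110 4 83 55) (@D3.rec (fun _ => Nat) 59 1 65 1 118 1 0 1 86 1 109 3 1 1 94 101 2 103 105 107 1 12 112 7 102 88 109 111 4 55 116 1 2 115 109 3 7 104 0 113) (@D3.rec (fun _ => Nat) 106 104 0 1 1 101 109 85 59 7 87 115 1 8 65 62 60 120 1 97 4 8 96 116 92 3 109 113 116 115 110 59 2 112 59 0 3 104 82 1) (@D3.rec (fun _ => Nat) 60 82 1 2 2 113 99 110 114 8 0 8 0 1 111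 0 0 1 1 84 80 99 99 84 106 106 95 95 95 98 95 97 8 55 50 55 119 1 102 4) (@D3.rec (fun _ => Nat) 8 89 121 95 3 110 114 114 110 57 112 2 55 116 0 3 50 108 71 1 84 1 2 2 113 110 108 112 9 0 9 0 1 107 0 0 1 1 106 98) (@D3.rec (fun _ => Nat) 91 52 48 101 99 98 100 100 100 98 98 114 64 117 111 116 118 2 112 3 99 0 110 3 101 114 101 1 110 1 95 102 110 10 105 101 1 1 2 0) (@D3.rec (fun _ => Nat) 0 105 101 0 1 4 8 0 8 97 0 1 68 97 95 0 3 114 114 59 112 119 112 2 118 3 0 100 111 3 101 101 110 1 103 1 99 99 100 11) (@D3.rec (fun _ => Nat) 109 1 1 2 0 1 103 9 9 0 104 1 65 110 1 0 109 6 119 4 1 5 115 1 114 109 1 113 1 0 113 1 106 109 105 123 124 0 4 5) (@D3.rec (fun _ => Nat) 1 2 115 57 99 1 97 0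 2 5 112 0 3 111 0 1 122 115 120 4 113 111 1 0 1 1 5 119 1 117 116 1 1 108 0 121 1 2 116 55)
def lv_b_12 : D2 → D3 → Nat := @D2.rec (fun _ => D3 → Nat) (@D3.rec (fun _ => Nat) 112 1 116 0 2 110 5 0 3 111 0 1 116 120 110 115 1 0 1 8 103 9 100 93 101 0 0 1 1 0 76 5 0 76 6 1 21 12 1 19) (@D3.rec (fun _ => Nat) 11 78 76 1 0 76 6 1 0 76 5 0 64 4 1 0 11 118 123 11 0 50 4 1 0 10 119 120 10 1 1 1 1 1 1 93 64 6 14 65) (@D3.rec (fun _ => Nat) 87 84 49 4 13 49 92 21 18 13 1 57 57 1 117 12 1 85 87 1 122 1 86 1 1 0 14 2 1 94 1 0 3 105 106 102 81 105 95 100) (@D3.rec (fun _ => Nat) 106 99 107 105 104 87 0 83 1 1 6 0 96 98 1 1 4 1 96 1 99 5 101 0 1 100 3 4 110 84 98 98 4 104 0 1 101 3 4 109) (@D3.rec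 (fun _ => Nat) 82 94 94 0 1 1 83 0 1 1 106 96 0 1 1 83 0 1 1 94 98 1 2 85 101 0 1 83 6 0 1 114 0 112 101 64 0 1 4 4) (@D3.rec (fun _ => Nat) 101 106 101 101 101 81 6 64 0 1 1 2 58 105 0 1 56 4 0 1 120 0 120 102 65 0 1 5 3 97 97 98 97 102 77 7 67 0 1 1) (@D3.rec (fun _ => Nat) 102 70 66 1 0 105 1 101 79 65 1 0 107 100 3 86 110 117 85 113 111 0 107 3 58 117 120 58 117 118 0 118 111 107 0 107 116 116 0 105) (@D3.rec (fun _ => Nat) 0 1 86 1 113 1 1 103 1 104 110 0 108 102 92 94 103 103 103 106 61 1 111 105 108 0 1 56 1 104 1 1 105 1 108 115 0 111 106 94) (@D3.rec (fun _ => Nat) 112 102 102 102 99 67 1 111 99 100 102 100 1 107 100 100 1 1 1 1 1 3 4 89 76 0 1 95 76 0 1 101 1 16 78 3 99 1 18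 78) (@D3.rec (fun _ => Nat) 5 1 87 0 76 0 15 1 98 0 76 0 14 3 95 87 20 108 1 4 111 20 94 98 1 77 78 4 73 6 0 76 5 1 0 12 76 0 0 4) (@D3.rec (fun _ => Nat) 81 5 0 84 5 1 0 11 76 0 0 102 67 0 1 107 3 5 1 4 0 57 1 0 1 1 108 92 0 1 108 3 5 1 3 0 85 1 0 1) (@D3.rec (fun _ => Nat) 1 0 1 93 73 7 87 1 1 13 76 5 4 103 5 1 1 0 1 88 81 5 85 1 1 12 84 6 3 4 107 1 1 70 92 100 1 2 95 104) (@D3.rec (fun _ => Nat) 100 103 94 0 94 1 0 82 3 6 1 3 97 0 0 1 0 0 1 0 3 7 1 86 8 4 0 1 0 0 74 0 1 1 103 4 0 1 0 7) (@D3.rec (fun _ => Nat) 98 101 0 4 4 1 2 5 0 1 93 3 17 0 10 8 0 2 23 21 0 21 0 2 5 3 98 87 5 68 103 99 1 2 102 109 101 104 0 106) (@D3.rec (fun _ => Nat) 1 0 89 55 3 7 3 0 111 1 0 0 0 1 0 3 5 1 59 4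 0 1 0 0 82 0 1 1 98 4 0 1 0 4 105 90 0 5 5 1) (@D3.rec (fun _ => Nat) 1 68 3 17 70 11 5 94 3 19 20 0 20 0 2 5 105 97 4 81 0 68 95 0 1 0 69 0 0 1 1 102 71 0 1 1 96 0 71 0) (@D3.rec (fun _ => Nat) 1 0 100 76 69 103 0 1 92 5 0 1 0 90 108 1 0 0 91 2 5 3 1 2 1 2 0 0 6 3 49 6 0 116 0 2 48 6 0 98) (@D3.rec (fun _ => Nat) 64 0 99 1 0 65 0 0 1 1 103 80 0 1 1 96 0 80 0 1 0 103 80 81 99 0 1 94 5 0 1 0 109 116 1 0 0 93 2 5) (@D3.rec (fun _ => Nat) 3 1 2 1 2 0 0 7 3 6 69 108 0 0 2 6 65 0 1 0 1 94 1 0 2 50 6 3 0 49 7 92 0 6 3 50 7 0 1 0) (@D3.rec (fun _ => Nat) 1 94 1 0 2 6 69 3 0 7 70 93 7 3 7 96 109 1 108 0 110 109 103 111 0 1 65 119 115 1 1 109 0 109 109 109 111 0 1 97) (@D3.rec (fun _ => Nat) 109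 121 1 67 97 1 3 106 1 105 0 1 101 1 102 104 106 1 1 99 63 107 1 109 109 104 105 100 1 97 64 1 102 111 6 105 112 112 1 102) (@D3.rec (fun _ => Nat) 105 6 1 116 97 69 98 103 1 111 0 109 114 5 116 3 95 1 1 1 1 117 117 110 63 104 3 113 1 1 0 1 100 103 102 105 1 1 1 105) (@D3.rec (fun _ => Nat) 48 110 1 107 112 105 107 1 105 49 1 111 102 7 113 114 6 1 114 107 105 90 104 106 0 1 1 1 99 103 0 1 1 104 5 102 6 108 1 107) (@D3.rec (fun _ => Nat) 1 105 1 100 98 98 111 105 1 94 111 6 1 2 66 109 1 7 1 1 105 107 3 66 120 2 6 2 113 112 104 1 1 1 1 1 118 0 7 1) (@D3.rec (fun _ => Nat) 105 0 105 1 1 5 107 6 101 105 1 100 1 105 1 113 100 105 118 109 1 110 106 8 1 2 98 115 1 6 1 1 106 104 3 98 117 2 6 2)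 (@D3.rec (fun _ => Nat) 108 99 115 1 1 1 1 1 121 0 7 1 93 1 95 4 104 3 1 1 118 107 110 117 112 119 3 7 1 105 112 2 2 112 3 0 116 1 8 0)
def lv_b_13 : D2 → D3 → Nat := @D2.rec (fun _ => D3 → Nat) (@D3.rec (fun _ => Nat) 1 1 97 100 108 106 110 106 111 118 3 7 1 124 107 2 2 116 3 118 0 1 8 0 1 1 1 103 108 1 108 94 108 102 107 111 0 108 111 113) (@D3.rec (fun _ => Nat) 1 100 119 111 113 114 3 1 106 0 1 1 115 101 118 0 1 1 114 105 1 105 112 0 111 104 1 108 111 3 1 0 1 113 100 110 0 99 8 94) (@D3.rec (fun _ => Nat) 100 9 93 99 98 102 104 113 61 8 84 111 60 10 68 78 82 108 62 103 84 1 85 79 101 1 85 79 102 86 61 4 1 56 9 9 82 84 88 59) (@D3.rec (fun _ => Nat) 4 1 94 8 10 64 89 0 1 0 1 102 1 61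 6 62 94 1 100 58 4 58 98 101 101 1 1 1 1 4 5 1 109 5 1 104 6 84 88 118) (@D3.rec (fun _ => Nat) 1 99 9 5 100 114 88 95 107 1 118 8 6 87 106 0 86 58 0 65 89 111 107 101 100 1 1 1 1 89 1 10 90 95 2 86 115 88 3 0) (@D3.rec (fun _ => Nat) 0 2 6 0 96 1 2 0 0 1 56 3 5 1 114 116 0 4 0 84 1 2 0 83 0 1 2 5 0 110 1 2 0 0 1 59 3 5 1 112) (@D3.rec (fun _ => Nat) 115 0 3 0 82 1 2 0 63 0 1 1 85 85 85 85 4 89 0 1 90 87 90 87 3 83 0 1 6 1 85 0 98 1 81 3 7 8 4 83) (@D3.rec (fun _ => Nat) 62 0 1 0 0 1 111 7 5 0 4 1 2 0 60 0 1 0 8 89 1 93 60 80 57 6 97 97 0 1 1 2 0 59 0 1 4 84 1 7) (@D3.rec (fun _ => Nat) 93 0 107 1 88 3 5 4 73 75 0 1 0 0 1 115 4 6 0 5 1 2 0 56 0 1 93 5 98 1 92 61 87 5 93 97 97 0 1 1) (@D3.rec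 (fun _ => Nat) 2 0 62 0 1 6 86 1 98 0 96 6 3 59 63 0 97 2 59 62 1 98 59 0 7 3 56 63 0 110 2 56 62 0 61 64 111 0 6 3) (@D3.rec (fun _ => Nat) 60 63 0 58 63 113 7 3 59 1 0 14 1 0 14 1 99 112 4 113 112 1 98 1 114 86 0 2 0 121 3 119 1 113 114 119 110 0 1 1) (@D3.rec (fun _ => Nat) 106 113 5 114 1 1 66 0 2 0 117 3 110 1 112 120 116 0 1 113 1 114 1 117 1 113 1 1 119 1 114 115 1 1 112 122 2 118 114 3) (@D3.rec (fun _ => Nat) 108 1 111 113 0 1 1 116 1 111 112 1 1 113 121 2 120 122 3 113 1 110 110 0 1 94 92 105 92 59 71 119 103 96 102 0 1 1 113 111) (@D3.rec (fun _ => Nat) 92 61 1 0 80 84 2 5 5 110 115 114 112 112 110 1 2 58 3 105 1 2 85 93 112 3 112 58 111 114 112 114 2 2 112 3 3 114 114 4) (@D3.rec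 (fun _ => Nat) 6 112 101 111 107 86 94 77 118 106 99 105 0 1 1 114 115 60 1 91 0 56 6 110 110 115 114 118 110 2 91 3 106 1 2 91 100 110 3 93) (@D3.rec (fun _ => Nat) 110 110 110 2 2 114 3 3 111 89 7 5 117 2 62 1 1 1 2 112 114 59 60 114 99 1 1 2 116 120 56 59 118 95 108 59 0 1 102 106) (@D3.rec (fun _ => Nat) 103 2 102 117 108 3 102 110 112 112 60 116 116 1 110 104 57 0 1 98 118 100 2 105 100 114 3 100 104 107 105 114 60 112 1 79 58 83 92 77) (@D3.rec (fun _ => Nat) 0 1 77 77 0 1 77 80 80 104 1 106 1 97 99 4 0 101 97 4 0 86 87 5 0 1 0 91 86 5 0 1 0 1 2 1 2 94 1 0) (@D3.rec (fun _ => Nat) 5 101 1 0 6 87 89 0 13 13 95 93 1 0 94 0 0 1 2 0 121 6 0 1 0 93 0 97 14 12 100 100 1 0 101 0 0 1 2 0)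 (@D3.rec (fun _ => Nat) 115 7 0 1 0 98 2 0 0 97 78 0 87 1 67 78 59 0 3 7 7 78 1 2 78 2 2 0 0 92 0 1 1 0 3 6 1 94 0 91) (@D3.rec (fun _ => Nat) 56 49 1 117 119 0 1 1 2 0 0 53 118 114 1 119 119 83 0 1 110 2 0 0 110 0 80 1 88 88 87 85 0 3 6 6 86 1 2 110) (@D3.rec (fun _ => Nat) 2 2 0 0 104 0 1 1 0 3 6 1 91 0 58 57 79 1 112 113 0 1 1 116 0 81 0 115 107 1 113 119 63 0 1 74 101 3 88 4) (@D3.rec (fun _ => Nat) 0 88 2 96 0 3 0 1 1 3 0 1 1 98 8 0 2 82 87 3 80 4 0 93 2 0 102 3 0 1 1 3 0 1 1 101 4 0 3 1) (@D3.rec (fun _ => Nat) 78 85 2 102 0 3 0 1 1 0 3 8 1 61 84 86 0 1 101 0 1 95 0 3 93 0 4 1 1 0 4 0 1 0 95 6 96 6 78 62) (@D3.rec (fun _ => Nat) 98 1 80 113 119 0 1 1 1 86 93 2 0 102 3 0 1 1 0 3 6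 1 83 60 92 0 1 106 0 1 102 0 3 102 0 4 1 1 0 4) (@D3.rec (fun _ => Nat) 0 1 0 102 7 112 7 54 60 104 1 60 111 108 0 1 1 0 1 1 90 104 102 0 93 0 1 3 0 7 0 7 0 0 1 0 0 0 1 1)
def lv_b_14 : D2 → D3 → Nat := @D2.rec (fun _ => D3 → Nat) (@D3.rec (fun _ => Nat) 101 1 70 5 87 94 1 1 0 64 0 0 0 109 101 1 2 102 0 64 102 1 0 1 60 99 60 7 0 1 1 96 104 0 107 0 100 1 0 4) (@D3.rec (fun _ => Nat) 7 0 7 0 1 0 0 0 0 1 1 1 76 3 112 85 102 1 1 0 71 0 0 0 99 106 1 104 71 103 1 0 1 95 105 62 6 104 1 92) (@D3.rec (fun _ => Nat) 90 0 118 1 1 82 4 7 85 0 7 95 0 1 0 1 0 118 0 1 1 99 3 89 66 68 105 1 103 0 98 116 1 1 87 3 7 0 96 7) (@D3.rec (fun _ => Nat) 0 108 1 0 1 0 0 121 1 1 72 70 87 109 5 94 110 110 112 92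 57 109 1 0 1 80 59 98 8 104 1 93 5 1 1 96 1 90 1 6) (@D3.rec (fun _ => Nat) 114 1 0 1 92 87 108 7 106 1 59 6 1 1 86 1 59 1 5 63 103 12 110 0 61 7 101 103 1 112 7 1 59 111 106 115 116 1 82 1) (@D3.rec (fun _ => Nat) 48 113 12 110 0 85 7 106 103 1 118 8 1 58 119 109 111 111 1 56 1 94 1 1 105 1 110 111 1 103 101 107 59 1 104 105 83 100 112 98) (@D3.rec (fun _ => Nat) 98 109 98 5 101 115 106 1 0 1 115 104 67 58 117 98 1 1 109 108 105 1 1 112 105 1 114 106 101 57 116 104 107 105 101 5 100 109 104 0) (@D3.rec (fun _ => Nat) 83 59 115 99 92 89 99 1 1 89 0 104 1 2 112 10 110 1 11 63 102 113 6 110 110 108 1 105 2 106 60 112 55 3 10 2 57 109 99 99) (@D3.rec (fun _ => Nat) 1 110 0 105 1 2 110 10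 116 1 71 104 112 6 106 110 108 56 111 56 111 101 1 1 1 98 112 1 117 4 1 108 117 121 3 109 100 0 1 1) (@D3.rec (fun _ => Nat) 1 1 109 107 3 108 1 0 3 1 122 2 124 0 3 111 1 1 117 1 119 3 58 111 61 60 0 1 1 103 1 1 1 103 107 1 109 1 116 116) (@D3.rec (fun _ => Nat) 121 4 117 115 3 0 1 1 1 1 117 106 3 101 1 115 3 1 106 2 0 122 3 107 1 1 112 1 116 3 62 119 59 60 0 1 1 1 97 1) (@D3.rec (fun _ => Nat) 100 7 98 1 7 101 8 89 110 8 116 1 96 1 7 99 1 8 8 96 110 8 117 79 95 0 1 79 107 0 1 5 7 90 1 2 0 77 0 1) (@D3.rec (fun _ => Nat) 3 0 77 83 14 92 1 2 0 77 0 1 3 0 77 77 14 61 79 0 98 81 90 58 0 102 51 13 1 1 77 100 77 77 98 79 99 101 89 0) (@D3.rec (fun _ => Nat) 5 0 1 94 0 5 0 1 89 0 1 0 0 1 108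 0 89 1 94 0 1 0 0 1 109 0 99 1 0 1 3 4 0 1 105 1 103 3 59 1) (@D3.rec (fun _ => Nat) 0 1 3 4 0 1 107 1 102 3 94 1 1 1 101 4 0 1 2 0 6 100 3 0 1 2 0 7 0 1 0 1 1 0 4 108 4 1 2 0) (@D3.rec (fun _ => Nat) 96 0 1 1 0 90 2 0 6 3 0 1 1 2 0 0 1 0 0 0 1 4 1 0 0 1 1 0 4 106 5 1 2 0 103 0 1 1 0 98) (@D3.rec (fun _ => Nat) 2 5 0 3 0 1 1 2 0 0 1 0 0 0 1 6 1 1 3 85 7 4 0 120 5 0 1 113 2 100 5 0 3 1 2 116 0 0 1 98) (@D3.rec (fun _ => Nat) 1 95 99 0 3 0 7 1 1 120 0 0 1 116 99 93 0 115 0 1 0 1 0 3 103 1 1 0 4 1 1 3 94 7 4 0 115 5 0 1) (@D3.rec (fun _ => Nat) 114 2 6 88 0 3 1 2 116 0 0 1 92 1 93 88 0 3 6 0 1 1 112 0 0 1 115 88 94 0 112 0 1 0 1 0 3 123 1 1) (@D3.rec (fun _ => Nat) 0 7 74 0 74 0 74 1 74 97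 6 0 104 4 0 84 82 0 5 0 1 88 96 1 89 1 93 3 94 4 99 4 104 9 0 5 0 1 3 102) (@D3.rec (fun _ => Nat) 99 8 91 86 1 2 0 86 93 2 97 5 3 1 2 0 0 1 0 3 0 4 0 1 2 0 117 9 99 1 104 84 1 2 88 98 6 3 0 7) (@D3.rec (fun _ => Nat) 1 0 0 0 1 87 3 98 4 0 2 0 6 3 0 1 0 1 0 3 101 1 1 0 4 108 5 0 0 82 0 82 82 1 99 6 0 102 4 0) (@D3.rec (fun _ => Nat) 78 0 5 0 1 92 94 1 94 1 96 3 100 4 102 4 101 7 0 5 0 1 3 99 93 5 93 79 1 2 87 0 88 2 6 94 3 1 114 0) (@D3.rec (fun _ => Nat) 0 1 0 3 0 4 0 1 2 0 119 6 103 1 101 89 1 2 91 96 7 3 6 0 0 1 0 0 1 95 3 95 4 0 2 6 3 0 1 0) (@D3.rec (fun _ => Nat) 1 0 3 106 1 1 0 7 111 8 0 77 1 60 79 4 60 1 1 93 72 85 1 83 4 79 1 83 81 4 0 84 5 79 5 83 0 5 0 1) (@D3.rec (fun _ =>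 Nat) 6 64 114 64 1 1 0 74 100 1 92 5 107 9 1 109 87 115 113 63 0 1 2 0 0 5 113 68 2 0 111 0 1 1 2 2 0 113 1 98)
def lv_b_15 : D2 → D3 → Nat := @D2.rec (fun _ => D3 → Nat) (@D3.rec (fun _ => Nat) 117 88 88 90 0 100 88 1 98 1 6 4 1 1 108 104 76 119 67 67 13 88 110 60 108 109 0 101 102 12 115 67 117 115 114 1 114 1 95 86) (@D3.rec (fun _ => Nat) 2 112 0 0 3 112 0 1 86 103 117 3 6 6 109 1 112 94 2 2 0 6 3 3 0 1 1 0 3 6 1 114 111 4 57 55 84 111 1 119) (@D3.rec (fun _ => Nat) 84 0 1 117 0 117 1 0 0 1 2 0 67 0 0 1 1 89 109 3 0 0 1 115 1 0 1 1 99 3 88 4 2 96 3 78 0 1 1 2) (@D3.rec (fun _ => Nat) 0 0 101 8 1 113 60 111 0 2 0 119 3 108 1 103 6 4 57 0 119 1 2 2 0 123 6 3 104 7 3 0 7 1 118 0 4 0 1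 0) (@D3.rec (fun _ => Nat) 0 1 114 111 1 1 65 4 7 63 59 93 60 1 1 86 1 89 61 1 98 80 89 1 1 1 57 88 4 0 88 87 90 5 87 47 92 5 0 1) (@D3.rec (fun _ => Nat) 6 53 111 50 1 0 82 1 1 58 89 107 108 7 1 113 94 107 93 53 0 1 2 97 0 5 111 79 2 0 113 1 2 2 0 117 1 93 116 96) (@D3.rec (fun _ => Nat) 96 0 96 92 7 4 1 1 94 93 83 112 73 71 14 93 90 93 98 105 0 86 104 13 117 71 113 107 118 1 117 1 95 63 2 0 111 0 3 0) (@D3.rec (fun _ => Nat) 113 1 89 110 7 7 109 101 2 2 6 117 3 3 118 1 1 0 3 6 1 110 112 4 81 58 62 126 1 119 64 0 1 109 0 116 1 0 0 1) (@D3.rec (fun _ => Nat) 2 85 0 0 1 1 86 109 3 0 0 1 1 111 1 1 97 61 2 104 109 0 69 1 1 2 0 0 116 102 84 1 115 111 0 2 113 3 109 1) (@D3.rec (fun _ => Nat)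 117 8 4 58 99 114 1 2 2 119 0 7 3 7 107 3 7 0 113 1 107 4 0 1 0 0 1 123 107 1 1 85 4 6 83 62 84 75 1 1) (@D3.rec (fun _ => Nat) 1 83 117 66 103 94 8 3 61 62 0 0 113 115 82 1 2 2 95 98 116 62 116 99 95 2 62 62 0 3 0 82 1 60 102 1 2 2 0 0) (@D3.rec (fun _ => Nat) 101 0 1 1 116 0 68 101 0 68 105 0 1 0 1 0 0 0 1 1 82 78 99 97 81 2 87 0 101 0 1 1 0 0 1 1 1 97 120 72) (@D3.rec (fun _ => Nat) 91 93 9 3 58 62 0 0 116 48 116 1 2 2 99 104 58 112 94 114 96 2 58 63 0 3 50 0 104 1 84 1 2 2 0 0 0 102 1 1) (@D3.rec (fun _ => Nat) 114 0 67 0 105 67 0 117 1 0 1 0 0 0 1 1 108 92 91 52 50 2 0 102 0 102 1 1 0 0 1 1 1 111 0 63 65 1 93 0) (@D3.rec (fun _ => Nat) 0 8 3 61 64 0 116 1 118 0 60 62 1 94 0 0 9 3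 57 63 117 0 100 92 104 88 61 94 108 108 83 111 108 53 1 59 1 100 97 1) (@D3.rec (fun _ => Nat) 97 1 104 98 1 105 99 108 106 107 0 1 3 101 1 103 112 2 112 0 1 1 115 118 100 100 0 1 106 106 1 112 109 1 86 1 100 105 107 106) (@D3.rec (fun _ => Nat) 0 1 3 98 1 114 116 2 113 0 1 1 115 112 99 102 0 1 108 1 101 105 1 92 79 79 5 0 76 85 1 111 85 78 0 98 78 98 5 1) (@D3.rec (fun _ => Nat) 117 119 0 1 97 111 64 64 88 99 1 0 1 1 85 63 105 1 118 2 1 1 107 111 115 2 115 3 12 101 95 5 107 91 94 8 105 93 60 106) (@D3.rec (fun _ => Nat) 104 84 82 8 92 2 114 3 112 1 112 84 111 116 109 7 102 104 106 107 3 0 7 1 100 102 113 0 1 103 103 103 109 117 90 57 1 67 98 92) (@D3.rec (fun _ => Nat) 90 102 102 106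 109 2 103 3 109 112 104 90 58 1 2 107 111 3 98 105 113 105 106 98 117 2 2 110 115 108 3 113 110 3 106 110 12 110 4 111) (@D3.rec (fun _ => Nat) 102 110 114 102 8 114 0 1 117 100 120 0 1 103 110 105 66 93 111 117 97 91 0 84 92 1 107 90 86 0 106 86 102 5 1 118 111 0 1 113) (@D3.rec (fun _ => Nat) 55 51 86 84 106 1 1 99 52 106 1 114 109 116 2 111 3 12 102 97 5 105 105 8 98 98 105 10 100 2 3 1 119 92 110 113 8 115 114 107) (@D3.rec (fun _ => Nat) 107 3 7 0 107 1 116 0 1 102 104 102 110 116 61 83 1 68 103 110 109 13 111 108 109 114 2 111 116 3 113 110 8 104 0 115 1 110 0 1) (@D3.rec (fun _ => Nat) 101 110 101 85 85 118 116 87 93 9 116 114 115 115 114 62 1 103 84 62 106 2 2 109 3 117 3 114 9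 0 1 0 0 1 111 1 1 104 99 106) (@D3.rec (fun _ => Nat) 122 0 95 102 9 114 109 115 110 58 118 1 102 52 86 107 2 2 111 3 115 3 109 10 0 1 0 0 1 107 1 1 102 101 102 107 0 100 98 3) (@D3.rec (fun _ => Nat) 1 110 103 110 2 3 0 0 1 1 1 9 0 1 0 99 0 1 64 0 1 117 3 1 111 101 107 2 3 1 10 0 0 108 1 72 4 1 111 117)
def lv_b_16 : D2 → D3 → Nat := @D2.rec (fun _ => D3 → Nat) (@D3.rec (fun _ => Nat) 120 114 1 113 112 1 117 2 5 3 108 1 3 6 111 1 2 118 1 122 116 1 115 1 118 2 5 3 113 1 3 6 110 1 2 121 1 116 123 1) (@D3.rec (fun _ => Nat) 1 1 1 88 23 76 0 13 1 99 21 76 0 12 22 21 0 91 95 1 0 12 78 101 12 0 86 92 1 0 11 78 98 11 1 59 59 1 115 120) (@D3.rec (fun _ => Nat) 1 84 86 1 121 120 76 15 86 89 84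 14 86 93 0 65 2 0 50 3 112 113 115 117 1 1 1 88 7 1 102 4 1 102 3 85 111 86 113 0) (@D3.rec (fun _ => Nat) 1 110 3 58 117 58 109 0 1 74 75 1 93 1 82 82 1 97 87 105 0 1 85 1 0 73 117 1 105 0 103 0 1 92 103 103 103 101 81 0) (@D3.rec (fun _ => Nat) 66 0 1 113 60 106 0 1 58 1 0 81 118 1 102 0 103 0 1 92 100 100 100 99 77 0 67 0 1 116 71 99 102 71 97 105 1 81 99 103) (@D3.rec (fun _ => Nat) 81 102 105 1 0 1 0 1 0 1 0 1 1 86 113 6 116 1 108 105 106 1 56 106 6 107 1 106 104 101 6 8 89 76 97 1 17 76 93 95) (@D3.rec (fun _ => Nat) 76 90 1 19 80 89 4 87 21 89 0 1 96 76 0 1 0 4 22 95 100 0 1 111 76 0 1 0 104 93 114 110 84 0 6 1 0 0 57 1) (@D3.rec (fun _ => Nat) 0 1 0 1 108 0 7 1 0 0 87 1 0 1 0 1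 1 105 73 6 119 111 109 103 111 0 1 2 65 119 1 1 110 83 6 120 111 111 112 111) (@D3.rec (fun _ => Nat) 0 1 2 97 121 1 1 84 76 7 95 76 0 93 87 4 4 6 88 18 0 11 75 0 2 23 21 24 85 87 5 1 59 84 8 84 84 0 84 86) (@D3.rec (fun _ => Nat) 5 5 7 86 18 0 12 83 0 3 22 22 20 88 95 4 69 97 99 102 104 102 100 94 1 0 3 106 1 4 105 0 0 1 0 1 102 104 106 1) (@D3.rec (fun _ => Nat) 1 0 121 8 1 111 4 109 104 86 107 107 100 0 1 99 113 0 1 1 0 97 0 1 119 75 99 110 6 105 94 5 0 1 102 104 6 1 116 99) (@D3.rec (fun _ => Nat) 7 71 100 100 1 2 0 109 113 2 5 1 116 3 93 4 1 2 117 96 1 1 1 2 88 3 6 65 101 99 108 108 104 106 1 0 89 3 113 1) (@D3.rec (fun _ => Nat) 4 0 1 0 122 105 102 107 1 1 1 0 118 6 1 110 4 114 105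 59 115 112 0 1 105 115 0 1 1 115 98 0 1 106 104 7 103 97 116 1) (@D3.rec (fun _ => Nat) 108 104 6 1 115 101 5 107 90 1 2 104 0 106 5 114 3 4 72 110 98 1 1 2 88 107 1 1 1 1 1 106 102 96 72 0 1 100 78 96) (@D3.rec (fun _ => Nat) 94 1 96 1 113 91 3 110 1 96 0 119 99 116 105 0 1 95 98 6 94 92 99 1 112 66 0 1 7 1 1 109 3 6 114 2 51 6 2 114) (@D3.rec (fun _ => Nat) 115 94 106 0 0 1 1 7 7 0 0 104 114 1 1 2 0 0 49 7 116 113 1 1 1 1 1 107 101 98 82 0 1 113 82 98 96 1 98 1) (@D3.rec (fun _ => Nat) 116 109 3 118 1 115 0 111 115 115 102 0 1 111 100 8 99 91 109 1 114 96 0 1 6 1 1 103 3 6 108 2 6 68 2 93 99 95 116 0) (@D3.rec (fun _ => Nat) 0 1 1 8 8 0 0 106 109 1 1 2 0 0 7 66 114 114 1 74 1 74 48 7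 1 0 0 3 49 7 0 1 0 0 124 113 94 94 0 1) (@D3.rec (fun _ => Nat) 7 7 0 0 51 8 1 74 1 74 7 69 1 0 0 3 7 69 0 1 0 0 116 114 95 95 8 8 0 8 108 1 1 67 109 1 1 99 1 103) (@D3.rec (fun _ => Nat) 108 99 64 107 102 112 103 114 102 102 114 1 111 111 108 107 1 102 60 106 49 110 111 102 111 116 108 1 113 108 1 5 106 84 6 97 116 100 100 110) (@D3.rec (fun _ => Nat) 108 2 106 107 7 104 109 4 118 108 3 6 120 0 1 1 100 5 104 6 105 109 108 100 113 110 2 61 106 7 115 94 3 116 113 5 7 119 0 1) (@D3.rec (fun _ => Nat) 119 106 114 8 8 3 1 1 122 117 113 120 8 9 3 1 1 113 1 1 118 118 1 1 1 117 111 1 116 64 9 82 113 63 10 67 67 84 66 68) (@D3.rec (fun _ => Nat) 78 84 102 64 110 84 84 0 81 94 83 0 81 81 0 0 120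 60 0 0 117 91 1 1 89 62 88 104 2 85 59 115 93 3 5 6 5 6 1 1) (@D3.rec (fun _ => Nat) 1 1 0 7 1 2 2 0 93 0 1 1 59 3 6 121 120 111 1 96 1 2 85 0 2 0 117 1 0 1 0 6 1 2 2 0 100 0 1 1) (@D3.rec (fun _ => Nat) 59 3 6 117 112 105 1 96 1 2 66 0 2 0 123 1 0 1 90 85 89 1 92 92 88 1 97 95 87 0 1 83 121 8 93 61 4 69 121 96) (@D3.rec (fun _ => Nat) 103 0 1 0 97 119 1 1 111 110 6 116 113 7 92 58 1 114 80 82 2 5 5 87 114 1 2 115 1 1 2 114 89 59 93 61 80 80 113 101)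
def lv_b_17 : D2 → D3 → Nat := @D2.rec (fun _ => D3 → Nat) (@D3.rec (fun _ => Nat) 89 110 1 102 2 0 97 105 0 1 89 109 1 114 4 6 116 115 103 113 92 0 1 90 121 6 84 94 4 77 121 73 108 0 1 0 100 113 1 1) (@D3.rec (fun _ => Nat) 7 114 115 5 63 1 114 89 58 2 6 6 92 114 1 2 116 1 93 115 100 91 100 62 85 113 93 105 89 110 1 116 2 101 0 107 0 1 88 111) (@D3.rec (fun _ => Nat) 1 89 7 5 111 118 63 71 102 0 93 1 7 7 0 95 115 114 1 102 108 119 60 63 0 118 87 63 0 1 8 8 100 0 1 116 116 118 59 63) (@D3.rec (fun _ => Nat) 117 0 1 0 0 120 124 109 102 0 1 7 7 0 93 61 64 1 0 0 114 117 110 112 8 8 96 58 1 1 99 118 1 3 1 89 93 90 1 113) (@D3.rec (fun _ => Nat) 106 109 1 3 1 92 60 60 1 113 106 112 119 117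 113 104 114 124 117 3 110 122 118 113 111 1 113 106 118 123 116 3 110 123 113 112 110 1 103 93) (@D3.rec (fun _ => Nat) 103 100 1 99 1 112 116 112 112 103 3 107 2 112 116 114 3 3 114 4 114 88 107 101 106 107 1 1 112 112 109 117 3 108 2 110 114 112 3 3) (@D3.rec (fun _ => Nat) 114 4 119 93 111 115 114 2 112 112 2 118 0 1 117 3 108 102 112 114 116 107 0 1 112 3 108 102 106 105 112 105 103 91 107 93 77 94 1 98) (@D3.rec (fun _ => Nat) 77 77 103 1 102 77 99 98 78 105 98 82 101 0 77 5 116 1 103 0 88 5 119 1 91 92 112 1 92 0 91 1 93 103 114 1 101 0 97 1) (@D3.rec (fun _ => Nat) 2 87 91 103 2 101 92 106 4 0 1 2 119 6 3 0 1 2 115 7 103 91 0 0 1 110 123 1 119 94 94 94 1 1 110 90 2 0 127 121) (@D3.rec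 (fun _ => Nat) 0 1 0 115 1 102 0 99 1 103 0 97 1 117 0 111 1 118 101 101 101 1 1 108 98 2 115 0 111 0 1 0 119 1 98 0 95 1 105 67) (@D3.rec (fun _ => Nat) 1 1 105 0 0 88 1 69 61 1 0 8 80 2 0 96 0 1 99 1 0 1 0 3 9 106 4 1 116 0 125 59 1 89 51 5 121 119 121 1) (@D3.rec (fun _ => Nat) 2 0 112 1 92 1 118 90 119 100 1 6 105 89 1 1 106 0 0 1 90 86 85 1 0 7 88 2 0 101 0 1 94 1 0 1 0 3 8 106) (@D3.rec (fun _ => Nat) 4 1 119 0 121 57 1 60 81 6 111 116 115 1 0 1 85 1 117 59 117 97 1 5 0 4 5 1 0 3 0 117 1 0 1 0 3 8 4 101) (@D3.rec (fun _ => Nat) 115 104 1 102 9 14 0 1 0 0 4 5 1 0 3 0 1 106 0 1 0 3 8 4 102 112 100 1 103 7 14 0 1 0 80 0 3 118 120 1) (@D3.rec (fun _ => Nat) 109 0 1 0 3 7 105 119 1 115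 61 120 88 0 1 93 90 103 1 95 0 4 95 1 98 0 4 98 0 1 0 5 7 96 0 7 1 103 106 108) (@D3.rec (fun _ => Nat) 105 1 80 117 100 1 115 123 0 113 115 80 1 88 0 3 117 1 114 106 0 1 0 3 9 115 1 123 83 61 0 1 92 92 105 1 102 0 4 102) (@D3.rec (fun _ => Nat) 1 100 0 4 102 0 1 0 5 8 114 0 8 1 100 102 105 100 1 57 114 104 1 119 109 0 119 113 58 1 1 0 104 0 104 0 1 1 0 3) (@D3.rec (fun _ => Nat) 1 0 1 0 0 1 0 1 92 0 1 1 1 101 4 120 5 102 61 81 108 112 98 0 106 1 105 0 69 105 1 0 1 1 115 0 62 107 2 102) (@D3.rec (fun _ => Nat) 9 102 1 106 102 101 1 102 4 8 66 120 1 0 106 0 104 0 1 1 0 117 1 0 1 0 0 1 0 95 0 1 1 1 1 117 4 106 114 5) (@D3.rec (fun _ => Nat) 76 101 71 116 106 0 104 1 106 0 68 104 1 0 1 1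 0 112 96 108 8 106 103 103 1 105 4 7 81 119 0 0 1 92 82 3 6 80 0 99) (@D3.rec (fun _ => Nat) 1 0 96 0 114 1 0 1 94 0 1 1 99 6 84 5 68 68 0 0 1 89 3 5 110 72 0 1 0 98 110 0 1 0 124 98 0 1 1 1) (@D3.rec (fun _ => Nat) 74 4 89 115 5 78 108 113 1 96 1 88 0 102 1 101 0 106 1 107 103 107 107 105 109 106 1 107 69 109 113 106 107 1 112 85 91 1 2 3) (@D3.rec (fun _ => Nat) 112 69 101 116 2 104 3 108 108 55 102 1 2 3 111 66 107 111 108 56 108 112 105 114 117 1 116 1 3 114 1 123 1 106 118 121 1 3 110 1) (@D3.rec (fun _ => Nat) 113 1 8 105 8 105 107 9 8 8 106 9 99 1 107 1 115 2 7 1 101 0 1 106 3 6 4 1 106 86 0 120 2 6 1 109 0 1 101 3) (@D3.rec (fun _ => Nat) 6 4 1 114 78 0 108 114 1 2 0 83 112 123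 1 2 0 51 100 14 100 15 99 97 101 96 104 1 108 1 96 109 1 128 1 95 0 1 89 8) (@D3.rec (fun _ => Nat) 1 1 0 113 91 1 6 0 1 97 6 1 1 0 111 99 1 7 1 103 4 1 99 3 4 1 99 4 1 96 3 4 4 101 3 108 101 101 1 106)
def lv_b_18 : D2 → D3 → Nat := @D2.rec (fun _ => D3 → Nat) (@D3.rec (fun _ => Nat) 98 2 94 98 3 1 2 105 105 1 114 94 2 92 92 3 1 2 1 98 85 1 0 1 0 86 2 5 5 112 1 103 0 94 1 0 5 96 14 0) (@D3.rec (fun _ => Nat) 1 93 3 99 118 1 97 90 0 1 97 5 2 0 6 0 1 0 1 0 0 108 0 1 1 1 102 4 6 100 103 1 1 104 1 0 102 2 6 6) (@D3.rec (fun _ => Nat) 115 1 106 0 103 1 0 5 99 0 15 1 96 3 116 105 102 1 103 0 1 102 7 2 6 0 0 1 0 1 0 0 114 0 1 1 1 106 7 5) (@D3.rec (fun _ => Nat) 10 4 0 103 113 1 115 123 118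 0 1 0 3 100 6 1 2 2 3 116 0 1 1 98 108 99 1 116 114 0 1 106 7 0 1 1 114 102 101 100) (@D3.rec (fun _ => Nat) 0 1 0 1 0 0 3 107 1 4 103 1 4 0 1 85 7 4 108 109 1 113 118 107 0 1 0 3 7 88 1 2 2 3 119 0 1 1 93 119) (@D3.rec (fun _ => Nat) 90 1 115 121 0 1 8 121 0 1 1 115 124 90 102 0 1 0 1 0 0 3 123 1 4 124 1 0 1 97 77 1 2 0 77 110 1 107 100 96) (@D3.rec (fun _ => Nat) 77 0 95 1 2 0 0 5 0 1 108 109 1 2 124 0 1 107 105 13 4 107 4 102 5 102 109 110 1 117 2 108 0 1 3 4 104 125 10 95) (@D3.rec (fun _ => Nat) 89 0 2 0 103 0 3 104 98 1 95 0 7 3 99 6 2 6 113 0 1 1 0 106 1 0 4 1 107 0 1 2 107 106 1 99 99 0 87 2) (@D3.rec (fun _ => Nat) 0 3 92 100 68 7 0 106 0 8 1 0 0 87 1 1 1 89 100 98 0 0 4 9 0 5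 1 2 92 3 0 7 1 0 0 1 0 107 3 105) (@D3.rec (fun _ => Nat) 1 122 101 1 0 14 1 0 5 6 1 1 2 0 85 105 1 85 85 105 100 0 100 1 2 0 0 5 111 1 121 1 2 109 0 1 101 113 13 4) (@D3.rec (fun _ => Nat) 104 4 102 5 103 108 105 1 108 114 105 0 1 3 4 101 114 6 100 89 0 2 102 0 0 3 99 108 1 88 100 8 3 7 96 6 117 1 1 0) (@D3.rec (fun _ => Nat) 121 1 0 4 1 106 0 1 2 110 112 1 96 103 0 88 2 0 3 89 96 65 8 109 119 7 0 0 1 0 1 88 1 1 94 107 95 86 98 4) (@D3.rec (fun _ => Nat) 11 0 5 1 2 3 119 0 0 1 0 122 3 125 1 123 108 1 0 14 1 0 7 8 1 81 73 62 81 5 97 87 83 75 79 83 97 84 77 79) (@D3.rec (fun _ => Nat) 5 113 5 1 6 0 114 117 1 119 2 117 0 1 97 0 115 90 108 96 89 1 114 75 102 97 123 6 117 0 115 1 102 2 0 3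 0 1 1 116) (@D3.rec (fun _ => Nat) 118 115 70 1 2 0 113 1 114 2 2 127 99 110 116 115 113 1 100 3 119 1 108 66 85 117 123 101 14 107 90 110 108 108 111 1 103 105 114 113) (@D3.rec (fun _ => Nat) 97 110 100 119 3 112 0 88 1 1 90 0 1 116 86 103 112 114 7 7 67 96 96 114 94 7 3 7 3 114 7 1 115 114 4 108 0 1 126 3) (@D3.rec (fun _ => Nat) 8 103 113 100 1 118 113 4 0 58 86 101 1 55 0 1 1 1 66 87 67 1 1 1 96 113 1 113 1 1 90 92 4 92 104 3 98 80 106 1) (@D3.rec (fun _ => Nat) 93 2 0 126 114 0 114 1 1 0 116 100 3 111 1 114 91 3 110 1 110 9 0 60 1 122 107 2 2 116 109 0 108 118 1 7 105 108 4 106) (@D3.rec (fun _ => Nat) 8 115 0 115 1 121 109 1 0 0 1 1 104 1 4 105 122 8 104 62 119 117 62 96 93 62 81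 115 115 88 97 90 115 87 90 85 87 112 5 1) (@D3.rec (fun _ => Nat) 6 122 118 124 93 120 109 1 95 0 85 112 94 101 1 94 83 114 114 91 107 107 0 94 1 98 2 0 3 97 1 109 118 111 79 1 2 126 2 2) (@D3.rec (fun _ => Nat) 115 111 111 122 117 1 94 3 118 1 106 74 101 112 107 124 13 98 95 91 100 93 1 88 104 109 107 95 100 104 3 0 116 1 62 1 89 0 1 120) (@D3.rec (fun _ => Nat) 78 101 113 97 8 3 7 3 7 115 4 107 117 120 3 9 124 122 102 1 119 114 4 0 58 62 98 1 81 0 1 1 1 68 89 86 1 1 111 1) (@D3.rec (fun _ => Nat) 1 103 106 111 69 1 95 2 119 116 113 0 1 0 1 108 113 3 115 1 108 3 106 7 0 58 116 116 2 2 111 113 111 0 122 1 8 112 109 4) (@D3.rec (fun _ => Nat) 8 109 115 107 121 115 1 104 0 0 1 1 107 1 4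 109 123 113 109 62 111 120 76 86 86 69 122 9 93 1 1 2 0 0 95 2 2 93 99 117) (@D3.rec (fun _ => Nat) 95 98 95 0 95 115 0 62 63 0 118 1 105 92 112 82 1 62 102 100 2 2 96 0 100 97 0 103 101 109 1 1 1 101 111 116 1 2 105 0) (@D3.rec (fun _ => Nat) 65 110 101 106 1 99 112 107 1 107 1 118 1 1 1 80 101 119 82 102 99 101 103 105 83 1 109 1 103 3 102 4 1 1 67 3 67 118 5 80)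
def lv_b_19 : D2 → D3 → Nat := @D2.rec (fun _ => D3 → Nat) (@D3.rec (fun _ => Nat) 127 10 99 1 1 2 0 0 96 2 2 102 101 114 99 104 0 104 96 0 117 57 64 109 0 1 102 109 98 52 106 1 82 96 2 2 0 98 105 0) (@D3.rec (fun _ => Nat) 108 108 107 111 1 1 1 121 111 114 1 2 0 106 72 100 109 1 101 107 111 1 117 111 120 1 1 1 1 113 121 91 50 100 93 101 124 102 1 112) (@D3.rec (fun _ => Nat) 76 1 107 3 110 4 1 1 77 113 3 90 5 95 1 116 0 0 0 0 0 0 1 1 9 91 93 63 65 0 121 1 97 1 0 111 0 0 0 0) (@D3.rec (fun _ => Nat) 1 1 10 96 102 60 64 115 0 1 99 98 99 98 107 1 100 106 112 1 114 110 99 104 1 112 123 105 1 98 103 109 1 115 112 99 110 1 103 116) (@D3.rec (fun _ => Nat) 1 120 0 100 118 1 1 1 123 116 3 117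 107 97 111 111 110 106 112 107 0 8 1 98 108 1 98 109 109 111 3 101 117 2 113 105 114 101 106 101) (@D3.rec (fun _ => Nat) 105 3 3 110 112 112 110 118 110 13 109 114 104 110 104 115 115 1 1 105 113 1 122 0 100 121 1 1 115 118 3 113 100 119 114 114 103 107 116 8) (@D3.rec (fun _ => Nat) 0 111 1 108 1 102 110 109 114 3 113 113 113 109 1 1 103 118 115 113 115 117 107 3 3 4 115 107 122 0 0 1 1 2 0 1 111 1 117 116) (@D3.rec (fun _ => Nat) 120 116 107 3 3 4 118 108 117 0 0 1 1 2 0 1 107 1 114 3 0 0 0 1 1 0 0 1 1 99 0 1 0 0 1 115 3 0 0 1) (@D3.rec (fun _ => Nat) 0 107 1 0 3 6 114 118 7 2 3 117 3 6 110 120 7 2 3 118 81 79 22 88 92 78 78 96 1 0 21 99 90 95 78 105 1 0 1 93) (@D3.rec (fun _ => Nat)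 106 109 1 0 93 1 86 111 114 1 0 94 59 114 109 86 114 117 88 0 77 2 88 0 85 3 1 97 0 1 93 0 104 102 87 123 1 110 105 60) (@D3.rec (fun _ => Nat) 120 1 75 83 105 1 76 0 86 101 1 1 2 0 1 103 103 104 1 0 1 107 1 84 0 58 104 1 1 2 0 1 99 99 101 1 0 1 72 99) (@D3.rec (fun _ => Nat) 99 116 81 99 119 117 1 111 1 119 1 1 108 101 99 99 93 93 93 88 0 1 114 1 96 0 1 0 1 115 1 105 0 1 99 110 1 122 1 1) (@D3.rec (fun _ => Nat) 2 0 0 115 1 0 1 93 1 109 1 1 2 0 0 109 1 0 1 92 100 104 117 125 106 112 1 109 2 106 94 110 108 113 121 114 112 1 107 2) (@D3.rec (fun _ => Nat) 104 97 0 75 100 96 0 75 103 1 94 90 101 90 96 1 2 91 90 0 1 97 0 83 102 85 0 83 107 1 87 85 85 104 102 1 2 92 88 0) (@D3.rec (fun _ =>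 Nat) 1 94 110 1 4 115 105 1 103 1 104 123 106 1 106 1 118 120 111 0 105 105 107 107 1 117 112 1 104 116 106 1 1 104 114 7 99 119 100 105) (@D3.rec (fun _ => Nat) 96 112 1 101 107 101 112 114 105 71 102 103 2 115 115 118 107 1 112 116 6 116 88 4 111 2 113 2 108 113 103 117 106 1 4 120 1 107 1 109) (@D3.rec (fun _ => Nat) 1 113 0 119 121 118 1 112 1 115 1 7 107 102 104 102 119 117 92 2 110 113 106 110 1 4 2 97 110 97 97 107 100 104 99 1 3 100 100 96) (@D3.rec (fun _ => Nat) 7 3 107 108 116 112 120 1 122 117 117 1 97 92 117 1 113 50 7 0 113 96 110 114 96 113 0 1 1 118 0 0 8 1 0 1 114 120 119 114) (@D3.rec (fun _ => Nat) 2 0 121 115 1 1 122 105 113 103 105 103 105 1 3 114 111 96 9 3 115 109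 121 118 120 1 124 115 111 1 100 94 111 1 108 7 70 114 0 97) (@D3.rec (fun _ => Nat) 94 99 97 0 111 1 1 117 0 0 9 1 108 1 0 112 109 94 2 123 0 119 1 1 75 116 123 0 124 1 1 52 8 1 0 124 1 1 113 0) (@D3.rec (fun _ => Nat) 0 1 0 75 0 8 0 117 1 1 75 117 121 124 1 1 8 69 1 122 0 1 1 117 9 110 1 113 112 1 114 113 112 1 123 121 119 119 120 67) (@D3.rec (fun _ => Nat) 120 65 118 122 110 1 1 1 1 124 1 1 121 91 0 90 86 0 115 122 111 1 116 2 0 1 0 1 0 3 9 4 101 0 111 98 2 119 115 115) (@D3.rec (fun _ => Nat) 86 1 1 85 88 85 1 113 1 108 2 0 1 0 1 0 3 8 4 108 0 118 2 116 116 68 1 1 88 61 61 1 115 108 104 89 1 7 61 103) (@D3.rec (fun _ => Nat) 1 118 99 120 1 89 117 61 116 99 94 98 108 2 94 89 103 2 108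 103 103 110 110 1 107 0 1 106 107 116 90 84 89 1 9 99 108 1 112 102) (@D3.rec (fun _ => Nat) 115 1 104 115 63 115 97 106 2 101 87 104 105 105 112 122 1 107 0 1 107 117 89 90 89 108 114 1 8 0 95 108 95 1 63 102 120 1 108 1) (@D3.rec (fun _ => Nat) 9 102 0 112 1 87 114 120 1 109 118 1 1 109 109 0 1 0 17 8 0 95 120 1 112 115 1 1 107 9 98 124 110 117 115 125 112 113 114 103)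
def lv_b_20 : D2 → D3 → Nat := @D2.rec (fun _ => D3 → Nat) (@D3.rec (fun _ => Nat) 103 112 117 114 116 4 120 115 114 106 114 116 115 117 120 4 118 118 120 114 112 1 1 93 92 96 105 104 104 107 107 119 1 97 108 1 101 94 92 102) (@D3.rec (fun _ => Nat) 1 103 103 108 1 91 103 106 1 106 2 97 121 3 105 1 109 2 95 117 3 91 0 91 1 1 93 87 86 121 100 94 98 5 16 90 97 1 1 5) (@D3.rec (fun _ => Nat) 1 118 104 1 110 0 104 1 97 94 100 1 105 118 97 103 96 5 15 100 100 1 1 7 1 115 125 1 123 0 1 0 1 1 1 1 101 112 107 10) (@D3.rec (fun _ => Nat) 8 1 0 4 10 1 0 87 122 98 106 117 1 0 119 1 119 94 0 1 0 1 1 1 1 96 120 101 7 8 1 112 4 9 1 111 95 126 104 121) (@D3.rec (fun _ => Nat) 116 1 121 1 85 1 2 88 5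 14 1 1 0 13 99 1 0 4 95 1 114 89 105 98 108 105 100 1 107 102 1 1 2 86 5 15 1 1 0 13) (@D3.rec (fun _ => Nat) 102 1 0 4 105 1 104 99 106 102 101 106 102 1 122 104 1 1 120 111 1 8 1 0 124 98 98 116 114 1 93 93 112 103 95 1 103 0 5 100) (@D3.rec (fun _ => Nat) 99 0 1 1 117 1 111 125 112 0 1 109 110 8 106 1 1 117 114 1 10 1 0 114 104 121 1 92 94 111 107 104 1 107 0 5 104 105 0 1) (@D3.rec (fun _ => Nat) 1 119 1 112 0 1 102 106 9 109 1 77 1 1 1 120 3 6 4 1 116 4 1 94 64 1 1 94 0 1 123 4 6 123 1 112 119 5 104 103) (@D3.rec (fun _ => Nat) 5 104 61 1 0 1 113 102 1 4 94 0 1 100 109 103 119 0 99 100 101 4 103 101 105 0 85 1 1 1 6 121 1 119 115 1 97 47 1 1) (@D3.rec (fun _ => Nat) 97 0 1 114 1 118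 115 4 109 112 5 6 127 5 106 77 1 0 1 112 106 1 4 96 0 1 109 0 123 101 4 104 107 105 0 1 1 3 103 82) (@D3.rec (fun _ => Nat) 1 90 96 1 1 115 0 1 117 1 0 5 92 6 0 1 1 3 99 72 1 96 104 1 1 114 121 1 1 0 4 96 116 5 0 1 1 118 113 91) (@D3.rec (fun _ => Nat) 3 113 0 103 106 3 108 112 104 57 101 3 112 0 104 114 113 117 115 119 113 9 108 9 108 1 107 101 7 4 94 111 9 1 1 106 109 7 4 94) (@D3.rec (fun _ => Nat) 111 11 1 2 112 113 113 1 2 109 130 111 1 109 15 101 16 117 115 98 93 1 9 97 102 0 112 1 114 97 8 97 1 7 102 115 122 113 1 116) (@D3.rec (fun _ => Nat) 104 9 95 122 89 101 4 119 120 114 99 4 110 0 102 0 110 100 98 3 98 98 2 102 114 97 91 3 92 98 2 109 114 0 87 1 100 96 1 100) (@D3.rec (fun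 _ => Nat) 6 0 1 101 116 1 118 1 114 99 92 103 1 7 98 108 102 1 117 1 0 1 100 110 101 1 1 110 1 101 4 88 9 103 98 98 101 100 113 0) (@D3.rec (fun _ => Nat) 79 106 106 1 6 116 0 1 115 115 1 110 1 118 102 103 1 9 96 110 123 120 1 1 0 1 109 114 114 1 1 109 1 107 4 106 8 99 98 93) (@D3.rec (fun _ => Nat) 113 101 7 0 1 2 115 108 1 120 1 101 122 102 126 2 8 3 1 105 108 116 108 108 1 0 1 116 104 101 100 1 112 7 109 1 109 4 109 1) (@D3.rec (fun _ => Nat) 1 4 126 5 114 5 1 91 109 107 1 107 1 117 115 90 117 2 7 3 1 105 121 126 126 124 1 121 1 118 122 90 104 1 120 9 123 1 123 4) (@D3.rec (fun _ => Nat) 121 1 1 125 5 103 1 2 16 1 108 1 108 95 95 84 2 114 0 3 113 1 1 120 112 110 1 114 2 6 1 122 118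 14 5 108 2 14 120 108) (@D3.rec (fun _ => Nat) 1 117 4 100 95 1 2 101 0 3 104 108 1 1 108 98 0 1 8 99 7 7 123 119 1 0 106 1 120 5 99 100 1 108 1 109 108 1 118 3) (@D3.rec (fun _ => Nat) 1 125 90 100 8 0 113 1 110 1 0 0 1 1 86 101 88 97 89 100 100 0 1 2 123 1 5 123 1 110 2 118 93 125 0 121 1 0 14 1) (@D3.rec (fun _ => Nat) 112 1 0 107 1 122 0 1 115 6 103 99 1 115 121 6 112 8 2 15 1 118 1 110 100 100 2 110 120 3 110 1 1 118 116 110 123 2 6 1) (@D3.rec (fun _ => Nat) 14 5 103 14 114 105 1 106 4 107 102 1 2 96 0 3 102 106 1 1 90 98 9 8 96 0 126 1 116 100 1 107 1 121 1 110 3 1 107 93) (@D3.rec (fun _ => Nat) 98 9 109 109 109 0 1 0 1 1 91 90 97 107 97 98 85 107 5 106 1 105 2 124 108 1 108 1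 0 122 1 122 0 1 110 99 1 106 113 9) (@D3.rec (fun _ => Nat) 6 100 119 120 0 115 1 116 2 116 119 1 1 2 90 108 115 1 105 3 1 104 0 1 114 2 116 0 1 119 116 3 0 116 0 114 119 109 106 113) (@D3.rec (fun _ => Nat) 107 112 113 1 118 1 114 96 94 114 8 116 4 8 116 123 110 109 1 4 113 116 117 120 1 1 122 106 98 90 93 105 0 110 1 0 115 1 102 3)
def lv_b_21 : D2 → D3 → Nat := @D2.rec (fun _ => D3 → Nat) (@D3.rec (fun _ => Nat) 122 1 113 92 110 1 0 118 109 111 1 8 105 115 116 0 1 1 124 1 105 122 114 114 114 115 120 120 0 119 113 120 1 86 116 1 105 3 1 108) (@D3.rec (fun _ => Nat) 0 122 2 116 122 3 0 121 0 99 111 112 107 111 1 111 1 103 97 9 4 8 115 114 4 109 119 117 119 1 1 121 100 118 0 110 1 122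 1 3) (@D3.rec (fun _ => Nat) 117 1 0 116 111 1 9 110 120 121 113 1 114 1 108 120 120 115 122 2 109 115 1 1 99 93 105 116 1 0 1 102 110 1 95 95 99 106 101 107) (@D3.rec (fun _ => Nat) 109 1 102 107 1 8 113 120 2 112 1 6 104 101 114 115 103 2 107 110 1 1 106 104 101 121 1 0 1 117 108 1 98 98 116 100 112 115 117 1) (@D3.rec (fun _ => Nat) 105 112 1 7 120 109 2 108 1 7 96 101 120 113 107 116 1 1 1 1 1 1 121 121 117 93 93 107 1 122 115 1 1 1 1 1 121 120 123 96) (@D3.rec (fun _ => Nat) 102 108 1 117 114 103 111 112 1 111 107 1 100 101 113 120 107 117 105 109 111 112 118 110 1 105 118 112 1 104 117 108 4 114 107 1 112 0 1 2) (@D3.rec (fun _ => Nat) 101 1 3 116 107 4 124 128 1 122 0 1 2 109 1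 3 0 1 107 0 1 1 1 0 1 113 101 118 1 107 1 108 1 0 1 1 121 117 107 1) (@D3.rec (fun _ => Nat) 115 1 7 121 3 0 7 119 3 0 91 1 89 1 1 1 116 115 114 1 113 1 115 1 2 103 1 2 0 0 98 1 2 2 1 3 123 1 119 102) (@D3.rec (fun _ => Nat) 1 2 2 1 3 120 1 116 1 90 86 103 93 1 98 1 98 96 109 99 1 97 122 2 113 0 1 1 1 111 2 123 0 1 1 1 122 113 110 111) (@D3.rec (fun _ => Nat) 93 117 124 120 108 99 1 107 111 97 1 95 109 109 101 89 2 99 3 112 1 1 114 112 86 1 88 125 113 88 106 2 94 3 118 1 110 120 113 111) (@D3.rec (fun _ => Nat) 1 107 111 123 101 101 104 104 115 112 115 113 113 102 103 111 118 118 1 117 100 100 110 118 3 115 112 110 102 1 1 0 125 1 116 1 116 124 1 111) (@D3.rec (fun _ => Nat) 126 117 1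 0 3 118 113 117 108 1 1 120 0 1 108 1 121 1 122 123 119 1 0 0 1 120 1 0 1 1 0 3 1 76 1 0 1 124 1 0) (@D3.rec (fun _ => Nat) 1 0 0 1 0 1 68 1 0 4 10 1 118 120 122 1 107 123 100 1 75 1 0 4 9 1 108 114 127 1 108 8 118 101 96 89 103 1 0 10) (@D3.rec (fun _ => Nat) 120 101 87 1 0 120 0 97 1 121 108 102 0 1 111 1 125 111 1 18 0 112 1 124 95 94 105 3 117 109 3 116 0 1 99 3 96 104 1 0) (@D3.rec (fun _ => Nat) 95 114 102 102 1 1 101 63 114 122 0 99 9 1 112 117 116 121 110 1 0 100 1 1 1 96 76 126 126 0 106 11 118 112 0 106 2 106 109 3) (@D3.rec (fun _ => Nat) 90 100 1 97 1 104 95 111 102 2 101 118 3 88 102 1 102 1 99 101 107 108 11 105 1 116 105 1 1 101 107 1 119 109 10 121 1 118 107 1) (@D3.rec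 (fun _ => Nat) 1 106 116 1 114 105 94 122 64 121 4 99 4 93 120 98 1 114 120 5 122 100 119 101 112 1 4 1 114 126 105 1 102 125 1 100 47 108 100 112) (@D3.rec (fun _ => Nat) 109 1 119 115 5 115 122 105 1 4 1 113 124 1 122 1 99 96 1 107 126 1 111 6 0 0 1 109 98 130 1 117 5 0 0 1 1 117 1 116) (@D3.rec (fun _ => Nat) 114 124 100 124 118 95 109 16 102 17 1 113 1 111 121 1 111 124 1 1 8 1 4 124 122 110 104 100 121 116 118 1 1 10 1 4 122 118 107 107) (@D3.rec (fun _ => Nat) 104 126 112 110 1 122 2 119 121 116 1 106 112 8 123 114 102 119 5 122 90 5 111 122 122 112 123 10 121 122 113 121 5 124 6 87 109 112 3 1) (@D3.rec (fun _ => Nat) 15 122 118 110 2 102 108 110 1 126 0 1 118 1 120 119 6 100 95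 102 119 1 110 1 1 99 97 110 100 91 0 1 2 120 125 103 94 0 1 1) (@D3.rec (fun _ => Nat) 113 1 123 1 7 101 120 102 103 113 6 122 3 123 109 106 2 96 120 120 1 100 1 114 113 112 111 1 1 109 93 100 123 114 1 122 1 101 1 118) (@D3.rec (fun _ => Nat) 117 2 1 116 116 1 1 116 1 113 114 114 1 1 1 1 1 118 1 1 115 1 114 1 1 1 4 3 1 99 105 109 1 106 3 129 1 126 3 1) (@D3.rec (fun _ => Nat) 113 0 1 113 113 120 1 118 102 111 117 1 121 114 124 124 115 127 104 1 1 2 124 2 1 1 2 114 3 2 121 3 110 116 1 1 3 3 1 1) (@D3.rec (fun _ => Nat) 1 1 1 1 3 125 4 1 102 123 77 1 1 0 126 1 1 1 95 1 12 97 1 120 1 1 1 1 125 19 1 1 113 3 1 126 1 112 119 101) (@D3.rec (fun _ => Nat) 1 13 124 1 1 123 3 117 3 120 117 1 1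 1 1 115 114 111 119 118 123 110 125 1 7 102 101 99 1 1 8 101 121 106 1 115 124 4 105 1)
def lv_b : Pt → Nat := @Pt.rec (fun _ => Nat) (@D1.rec (fun _ => D2 → D3 → Nat) lv_b_0 lv_b_1 lv_b_2 lv_b_3 lv_b_4 lv_b_5 lv_b_6 lv_b_7 lv_b_8 lv_b_9 lv_b_10 lv_b_11 lv_b_12 lv_b_13 lv_b_14 lv_b_15 lv_b_16 lv_b_17 lv_b_18 lv_b_19 lv_b_20 lv_b_21)
abbrev lc_b_Cert_tree : Cert rels S Gen.b := Cert.tree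
abbrev lc_b_rc_10_0 : Cert rels S Gen.b := rc_10_0
abbrev lc_b_rc_10_2 : Cert rels S Gen.b := rc_10_2
abbrev lc_b_rc_11_0 : Cert rels S Gen.b := rc_11_0
abbrev lc_b_rc_11_2 : Cert rels S Gen.b := rc_11_2
abbrev lc_b_rc_11_4 : Cert rels S Gen.b := rc_11_4
abbrev lc_b_rc_12_0 : Cert rels S Gen.b := rc_12_0
abbrev lc_b_rc_12_2 : Cert rels S Gen.b := rc_12_2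
abbrev lc_b_rc_12_4 : Cert rels S Gen.b := rc_12_4
abbrev lc_b_rc_1_1 : Cert rels S Gen.b := rc_1_1
abbrev lc_b_rc_1_3 : Cert rels S Gen.b := rc_1_3
abbrev lc_b_rc_1_5 : Cert rels S Gen.b := rc_1_5
abbrev lc_b_rc_1_7 : Cert rels S Gen.b := rc_1_7
abbrev lc_b_rc_1_9 : Cert rels S Gen.b := rc_1_9
abbrev lc_b_rc_30_1 : Cert rels S Gen.b := rc_30_1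
abbrev lc_b_rc_30_13 : Cert rels S Gen.b := rc_30_13
abbrev lc_b_rc_30_17 : Cert rels S Gen.b := rc_30_17
abbrev lc_b_rc_30_5 : Cert rels S Gen.b := rc_30_5
abbrev lc_b_rc_30_9 : Cert rels S Gen.b := rc_30_9
abbrev lc_b_rc_31_0 : Cert rels S Gen.b := rc_31_0
abbrev lc_b_rc_31_12 : Cert rels S Gen.b := rc_31_12
abbrev lc_b_rc_31_3 : Cert rels S Gen.b := rc_31_3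
abbrev lc_b_rc_31_6 : Cert rels S Gen.b := rc_31_6
abbrev lc_b_rc_31_9 : Cert rels S Gen.b := rc_31_9
abbrev lc_b_rc_32_0 : Cert rels S Gen.b := rc_32_0
abbrev lc_b_rc_32_10 : Cert rels S Gen.b := rc_32_10
abbrev lc_b_rc_32_15 : Cert rels S Gen.b := rc_32_15
abbrev lc_b_rc_32_20 : Cert rels S Gen.b := rc_32_20
abbrev lc_b_rc_32_26 : Cert rels S Gen.b := rc_32_26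
abbrev lc_b_rc_32_31 : Cert rels S Gen.b := rc_32_31
abbrev lc_b_rc_32_36 : Cert rels S Gen.b := rc_32_36
abbrev lc_b_rc_32_41 : Cert rels S Gen.b := rc_32_41
abbrev lc_b_rc_32_46 : Cert rels S Gen.b := rc_32_46
abbrev lc_b_rc_32_5 : Cert rels S Gen.b := rc_32_5
abbrev lc_b_rc_32_52 : Cert rels S Gen.b := rc_32_52
abbrev lc_b_rc_32_57 : Cert rels S Gen.b := rc_32_57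
abbrev lc_b_rc_32_62 : Cert rels S Gen.b := rc_32_62
abbrev lc_b_rc_32_67 : Cert rels S Gen.b := rc_32_67
abbrev lc_b_rc_32_72 : Cert rels S Gen.b := rc_32_72
abbrev lc_b_rc_7_0 : Cert rels S Gen.b := rc_7_0
abbrev lc_b_rc_7_1 : Cert rels S Gen.b := rc_7_1
abbrev lc_b_rc_8_0 : Cert rels S Gen.b := rc_8_0
abbrev lc_b_rc_8_2 : Cert rels S Gen.b := rc_8_2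
abbrev lc_b_rc_8_4 : Cert rels S Gen.b := rc_8_4
abbrev lc_b_rc_9_0 : Cert rels S Gen.b := rc_9_0
abbrev lc_b_rc_9_2 : Cert rels S Gen.b := rc_9_2
abbrev lc_b_sc_1_0 : Cert rels S Gen.b := sc_1_0
def ce_b_0 : D2 → D3 → (Cert rels S Gen.b) := @D2.rec (fun _ => D3 → (Cert rels S Gen.b)) (@D3.rec (fun _ => (Cert rels S Gen.b)) lc_b_sc_1_0 lc_b_rc_10_2 lc_b_rc_9_2 lc_b_Cert_tree lc_b_rc_7_0 lc_b_rc_9_2 lc_b_Cert_tree lc_b_rc_9_2 lc_b_rc_11_2 lc_b_rc_12_2 lc_b_rc_10_2 lc_b_rc_7_0 lc_b_rc_9_2 lc_b_Cert_tree lc_b_Cert_tree lc_b_rc_8_2 lc_b_rc_10_2 lc_b_rc_11_2 lc_b_rc_12_2 lc_b_Cert_tree lc_b_Cert_tree lc_b_rc_1_5 lc_b_rc_9_2 lc_b_Cert_tree lc_b_Cert_tree lc_b_Cert_tree lc_b_rc_10_2 lc_b_Cert_tree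 lc_b_Cert_tree lc_b_rc_7_0 lc_b_rc_7_0 lc_b_rc_9_2 lc_b_rc_10_2 lc_b_Cert_tree lc_b_Cert_tree lc_b_rc_11_2 lc_b_rc_12_2 lc_b_Cert_tree lc_b_Cert_tree lc_b_rc_7_0) (@D3.rec (fun _ => (Cert rels S Gen.b)) lc_b_rc_7_0 lc_b_rc_1_5 lc_b_Cert_tree lc_b_Cert_tree lc_b_Cert_tree lc_b_rc_10_2 lc_b_Cert_tree lc_b_Cert_tree lc_b_rc_7_0 lc_b_Cert_tree lc_b_rc_7_0 lc_b_Cert_tree lc_b_rc_7_0 lc_b_rc_9_2 lc_b_rc_10_2 lc_b_Cert_tree lc_b_Cert_tree lc_b_Cert_tree lc_b_Cert_tree lc_b_rc_7_0 lc_b_rc_7_0 lc_b_Cert_tree lc_b_rc_8_2 lc_b_rc_12_2 lc_b_Cert_tree lc_b_rc_8_2 lc_b_rc_7_1 lc_b_rc_10_2 lc_b_Cert_tree lc_b_Cert_tree lc_b_rc_9_2 lc_b_Cert_tree lc_b_Cert_tree lc_b_rc_7_0 lc_b_Cert_tree lc_b_rc_7_0 lc_b_Cert_tree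 lc_b_Cert_tree lc_b_Cert_tree lc_b_rc_7_0) (@D3.rec (fun _ => (Cert rels S Gen.b)) lc_b_rc_7_0 lc_b_rc_11_2 lc_b_rc_8_2 lc_b_rc_11_2 lc_b_rc_12_2 lc_b_rc_8_2 lc_b_rc_12_2 lc_b_Cert_tree lc_b_rc_10_2 lc_b_Cert_tree lc_b_Cert_tree lc_b_rc_7_0 lc_b_rc_7_0 lc_b_rc_7_0 lc_b_rc_9_2 lc_b_rc_10_2 lc_b_Cert_tree lc_b_Cert_tree lc_b_Cert_tree lc_b_Cert_tree lc_b_rc_7_0 lc_b_Cert_tree lc_b_rc_7_0 lc_b_Cert_tree lc_b_rc_7_1 lc_b_rc_7_0 lc_b_rc_31_9 lc_b_rc_7_0 lc_b_Cert_tree lc_b_rc_9_2 lc_b_rc_10_2 lc_b_Cert_tree lc_b_Cert_tree lc_b_rc_10_2 lc_b_Cert_tree lc_b_Cert_tree lc_b_rc_9_2 lc_b_Cert_tree lc_b_Cert_tree lc_b_rc_7_0) (@D3.rec (fun _ => (Cert rels S Gen.b)) lc_b_rc_7_0 lc_b_rc_7_0 lc_b_rc_7_0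 lc_b_Cert_tree lc_b_rc_8_2 lc_b_rc_12_2 lc_b_Cert_tree lc_b_rc_8_2 lc_b_rc_11_2 lc_b_rc_7_0 lc_b_rc_9_2 lc_b_rc_11_4 lc_b_rc_7_0 lc_b_rc_9_2 lc_b_rc_12_4 lc_b_rc_9_2 lc_b_Cert_tree lc_b_Cert_tree lc_b_rc_7_0 lc_b_Cert_tree lc_b_rc_7_0 lc_b_Cert_tree lc_b_Cert_tree lc_b_Cert_tree lc_b_Cert_tree lc_b_rc_7_0 lc_b_Cert_tree lc_b_rc_7_0 lc_b_Cert_tree lc_b_Cert_tree lc_b_rc_7_0 lc_b_Cert_tree lc_b_rc_7_0 lc_b_rc_7_0 lc_b_rc_7_0 lc_b_rc_11_2 lc_b_rc_8_2 lc_b_rc_11_2 lc_b_rc_12_2 lc_b_rc_8_2) (@D3.rec (fun _ => (Cert rels S Gen.b)) lc_b_rc_12_2 lc_b_rc_8_2 lc_b_rc_1_5 lc_b_rc_30_5 lc_b_rc_30_13 lc_b_rc_31_6 lc_b_rc_8_4 lc_b_rc_7_0 lc_b_rc_9_2 lc_b_rc_10_2 lc_b_rc_30_5 lc_b_rc_8_4 lc_b_Cert_tree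 lc_b_Cert_tree lc_b_rc_7_0 lc_b_rc_7_0 lc_b_rc_31_0 lc_b_rc_9_2 lc_b_rc_10_2 lc_b_Cert_tree lc_b_Cert_tree lc_b_rc_10_2 lc_b_Cert_tree lc_b_Cert_tree lc_b_rc_9_2 lc_b_Cert_tree lc_b_Cert_tree lc_b_rc_7_0 lc_b_Cert_tree lc_b_rc_7_0 lc_b_Cert_tree lc_b_rc_7_0 lc_b_Cert_tree lc_b_rc_7_0 lc_b_Cert_tree lc_b_rc_8_2 lc_b_rc_7_1 lc_b_rc_7_0 lc_b_rc_8_2 lc_b_rc_31_9) (@D3.rec (fun _ => (Cert rels S Gen.b)) lc_b_rc_7_0 lc_b_rc_7_0 lc_b_rc_9_2 lc_b_rc_10_2 lc_b_rc_31_9 lc_b_rc_1_1 lc_b_rc_10_2 lc_b_Cert_tree lc_b_Cert_tree lc_b_rc_9_2 lc_b_Cert_tree lc_b_Cert_tree lc_b_rc_7_0 lc_b_Cert_tree lc_b_rc_7_0 lc_b_Cert_tree lc_b_rc_9_2 lc_b_Cert_tree lc_b_Cert_tree lc_b_rc_7_0 lc_b_rc_7_0 lc_b_Cert_tree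 lc_b_Cert_tree lc_b_Cert_tree lc_b_rc_7_0 lc_b_rc_7_0 lc_b_rc_11_2 lc_b_rc_8_2 lc_b_rc_12_2 lc_b_rc_10_0 lc_b_rc_8_2 lc_b_rc_11_2 lc_b_Cert_tree lc_b_rc_8_2 lc_b_rc_12_2 lc_b_Cert_tree lc_b_rc_8_2 lc_b_rc_11_2 lc_b_rc_7_0 lc_b_rc_30_13) (@D3.rec (fun _ => (Cert rels S Gen.b)) lc_b_rc_9_2 lc_b_Cert_tree lc_b_rc_11_4 lc_b_rc_7_0 lc_b_rc_1_1 lc_b_rc_9_2 lc_b_Cert_tree lc_b_rc_12_4 lc_b_Cert_tree lc_b_rc_10_2 lc_b_Cert_tree lc_b_rc_10_2 lc_b_Cert_tree lc_b_Cert_tree lc_b_Cert_tree lc_b_rc_7_0 lc_b_Cert_tree lc_b_rc_7_0 lc_b_Cert_tree lc_b_rc_8_2 lc_b_rc_7_0 lc_b_rc_8_2 lc_b_rc_7_0 lc_b_rc_7_0 lc_b_Cert_tree lc_b_Cert_tree lc_b_rc_7_0 lc_b_Cert_tree lc_b_rc_7_0 lc_b_Cert_tree lc_b_Cert_tree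 lc_b_rc_7_0 lc_b_Cert_tree lc_b_rc_7_0 lc_b_rc_7_0 lc_b_Cert_tree lc_b_rc_8_2 lc_b_rc_7_0 lc_b_Cert_tree lc_b_rc_8_2) (@D3.rec (fun _ => (Cert rels S Gen.b)) lc_b_rc_11_2 lc_b_rc_8_2 lc_b_rc_11_2 lc_b_rc_12_2 lc_b_rc_8_2 lc_b_rc_12_2 lc_b_rc_10_0 lc_b_rc_1_5 lc_b_Cert_tree lc_b_rc_1_7 lc_b_rc_31_6 lc_b_Cert_tree lc_b_Cert_tree lc_b_Cert_tree lc_b_rc_9_2 lc_b_rc_10_2 lc_b_rc_10_2 lc_b_rc_9_2 lc_b_rc_9_2 lc_b_rc_9_2 lc_b_rc_30_5 lc_b_rc_8_4 lc_b_rc_7_0 lc_b_rc_7_0 lc_b_rc_31_0 lc_b_rc_31_0 lc_b_Cert_tree lc_b_Cert_tree lc_b_rc_10_2 lc_b_Cert_tree lc_b_Cert_tree lc_b_rc_9_2 lc_b_Cert_tree lc_b_Cert_tree lc_b_rc_7_0 lc_b_Cert_tree lc_b_rc_7_0 lc_b_Cert_tree lc_b_rc_9_2 lc_b_Cert_tree) (@D3.rec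 (fun _ => (Cert rels S Gen.b)) lc_b_Cert_tree lc_b_rc_7_0 lc_b_Cert_tree lc_b_rc_7_0 lc_b_Cert_tree lc_b_Cert_tree lc_b_Cert_tree lc_b_Cert_tree lc_b_rc_7_0 lc_b_Cert_tree lc_b_rc_7_0 lc_b_Cert_tree lc_b_Cert_tree lc_b_rc_8_2 lc_b_Cert_tree lc_b_rc_7_0 lc_b_Cert_tree lc_b_rc_8_2 lc_b_Cert_tree lc_b_rc_7_0 lc_b_rc_8_2 lc_b_rc_7_1 lc_b_rc_7_0 lc_b_rc_8_2 lc_b_rc_31_9 lc_b_rc_7_0 lc_b_rc_9_2 lc_b_Cert_tree lc_b_rc_8_2 lc_b_rc_9_2 lc_b_Cert_tree lc_b_rc_8_2 lc_b_rc_9_2 lc_b_rc_10_2 lc_b_rc_10_2 lc_b_rc_31_9 lc_b_rc_9_2 lc_b_rc_9_2 lc_b_rc_31_9 lc_b_rc_1_1) (@D3.rec (fun _ => (Cert rels S Gen.b)) lc_b_rc_9_2 lc_b_Cert_tree lc_b_Cert_tree lc_b_rc_7_0 lc_b_Cert_tree lc_b_rc_7_0 lc_b_Cert_tree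 lc_b_Cert_tree lc_b_Cert_tree lc_b_Cert_tree lc_b_rc_7_0 lc_b_Cert_tree lc_b_rc_7_0 lc_b_Cert_tree lc_b_rc_11_2 lc_b_rc_7_0 lc_b_rc_12_2 lc_b_rc_7_0 lc_b_Cert_tree lc_b_Cert_tree lc_b_Cert_tree lc_b_rc_7_0 lc_b_rc_7_0 lc_b_rc_9_2 lc_b_rc_8_2 lc_b_rc_12_2 lc_b_rc_9_2 lc_b_rc_8_2 lc_b_rc_11_2 lc_b_rc_7_0 lc_b_Cert_tree lc_b_Cert_tree lc_b_rc_7_0 lc_b_rc_7_0 lc_b_rc_11_2 lc_b_rc_8_2 lc_b_rc_12_2 lc_b_rc_8_0 lc_b_rc_8_2 lc_b_rc_11_2) (@D3.rec (fun _ => (Cert rels S Gen.b)) lc_b_Cert_tree lc_b_rc_10_0 lc_b_rc_9_2 lc_b_Cert_tree lc_b_Cert_tree lc_b_rc_10_0 lc_b_rc_9_2 lc_b_Cert_tree lc_b_rc_7_0 lc_b_rc_30_13 lc_b_rc_9_2 lc_b_Cert_tree lc_b_rc_11_4 lc_b_rc_7_0 lc_b_rc_10_2 lc_b_rc_9_2 lc_b_Cert_tree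 lc_b_rc_12_4 lc_b_rc_9_2 lc_b_rc_10_2 lc_b_Cert_tree lc_b_rc_7_0 lc_b_Cert_tree lc_b_rc_9_2 lc_b_rc_10_2 lc_b_Cert_tree lc_b_rc_7_0 lc_b_Cert_tree lc_b_rc_7_0 lc_b_rc_9_2 lc_b_rc_10_2 lc_b_rc_7_0 lc_b_rc_9_2 lc_b_rc_10_2 lc_b_rc_7_0 lc_b_rc_9_2 lc_b_Cert_tree lc_b_Cert_tree lc_b_rc_7_0 lc_b_Cert_tree) (@D3.rec (fun _ => (Cert rels S Gen.b)) lc_b_rc_7_0 lc_b_Cert_tree lc_b_rc_10_2 lc_b_rc_7_0 lc_b_rc_10_2 lc_b_rc_7_0 lc_b_Cert_tree lc_b_Cert_tree lc_b_Cert_tree lc_b_Cert_tree lc_b_Cert_tree lc_b_rc_7_0 lc_b_Cert_tree lc_b_rc_7_0 lc_b_Cert_tree lc_b_rc_8_2 lc_b_Cert_tree lc_b_rc_7_0 lc_b_rc_8_2 lc_b_Cert_tree lc_b_rc_7_0 lc_b_rc_7_0 lc_b_Cert_tree lc_b_rc_8_2 lc_b_rc_7_0 lc_b_Cert_tree lc_b_rc_8_2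 lc_b_rc_12_2 lc_b_rc_7_0 lc_b_Cert_tree lc_b_rc_10_0 lc_b_rc_8_2 lc_b_rc_7_0 lc_b_Cert_tree lc_b_rc_31_6 lc_b_rc_9_0 lc_b_rc_1_5 lc_b_rc_9_2 lc_b_Cert_tree lc_b_rc_1_7) (@D3.rec (fun _ => (Cert rels S Gen.b)) lc_b_rc_31_6 lc_b_rc_9_2 lc_b_Cert_tree lc_b_Cert_tree lc_b_rc_7_0 lc_b_Cert_tree lc_b_rc_7_0 lc_b_rc_7_0 lc_b_rc_7_0 lc_b_rc_30_5 lc_b_rc_10_2 lc_b_rc_9_2 lc_b_rc_9_2 lc_b_rc_10_2 lc_b_rc_10_2 lc_b_Cert_tree lc_b_rc_9_2 lc_b_rc_9_2 lc_b_rc_31_0 lc_b_Cert_tree lc_b_Cert_tree lc_b_rc_31_0 lc_b_Cert_tree lc_b_Cert_tree lc_b_rc_7_0 lc_b_rc_7_0 lc_b_rc_9_2 lc_b_Cert_tree lc_b_Cert_tree lc_b_rc_7_0 lc_b_Cert_tree lc_b_rc_7_0 lc_b_Cert_tree lc_b_Cert_tree lc_b_Cert_tree lc_b_Cert_tree lc_b_rc_7_0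 lc_b_Cert_tree lc_b_rc_7_0 lc_b_Cert_tree) (@D3.rec (fun _ => (Cert rels S Gen.b)) lc_b_rc_12_0 lc_b_rc_11_2 lc_b_rc_7_1 lc_b_rc_7_0 lc_b_rc_11_0 lc_b_rc_12_2 lc_b_rc_31_3 lc_b_rc_7_0 lc_b_Cert_tree lc_b_Cert_tree lc_b_Cert_tree lc_b_rc_7_0 lc_b_Cert_tree lc_b_rc_7_0 lc_b_Cert_tree lc_b_Cert_tree lc_b_rc_31_9 lc_b_Cert_tree lc_b_rc_7_0 lc_b_Cert_tree lc_b_rc_8_2 lc_b_Cert_tree lc_b_rc_7_0 lc_b_rc_7_0 lc_b_Cert_tree lc_b_Cert_tree lc_b_rc_7_0 lc_b_Cert_tree lc_b_rc_7_0 lc_b_Cert_tree lc_b_Cert_tree lc_b_rc_8_2 lc_b_Cert_tree lc_b_rc_7_0 lc_b_Cert_tree lc_b_rc_8_2 lc_b_Cert_tree lc_b_rc_7_0 lc_b_rc_7_0 lc_b_rc_12_0) (@D3.rec (fun _ => (Cert rels S Gen.b)) lc_b_rc_9_2 lc_b_Cert_tree lc_b_rc_7_0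 lc_b_rc_1_3 lc_b_rc_7_1 lc_b_rc_8_2 lc_b_rc_7_0 lc_b_rc_11_0 lc_b_rc_9_2 lc_b_Cert_tree lc_b_rc_7_0 lc_b_rc_30_9 lc_b_rc_7_0 lc_b_rc_8_2 lc_b_rc_9_2 lc_b_Cert_tree lc_b_rc_8_2 lc_b_rc_9_2 lc_b_Cert_tree lc_b_rc_8_2 lc_b_rc_10_2 lc_b_Cert_tree lc_b_rc_7_0 lc_b_rc_9_2 lc_b_rc_10_2 lc_b_Cert_tree lc_b_rc_7_0 lc_b_rc_9_2 lc_b_rc_8_2 lc_b_rc_10_2 lc_b_rc_9_2 lc_b_rc_9_2 lc_b_rc_31_9 lc_b_rc_10_2 lc_b_Cert_tree lc_b_rc_31_9 lc_b_rc_1_1 lc_b_Cert_tree lc_b_Cert_tree lc_b_Cert_tree) (@D3.rec (fun _ => (Cert rels S Gen.b)) lc_b_rc_7_0 lc_b_Cert_tree lc_b_rc_7_0 lc_b_Cert_tree lc_b_rc_7_0 lc_b_rc_7_0 lc_b_rc_7_0 lc_b_rc_9_2 lc_b_Cert_tree lc_b_Cert_tree lc_b_rc_7_0 lc_b_Cert_tree lc_b_rc_7_0 lc_b_Cert_tree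 lc_b_rc_11_2 lc_b_rc_7_0 lc_b_rc_12_2 lc_b_rc_7_0 lc_b_rc_11_2 lc_b_rc_10_0 lc_b_rc_8_2 lc_b_rc_12_2 lc_b_rc_10_0 lc_b_rc_8_2 lc_b_rc_7_0 lc_b_rc_9_2 lc_b_Cert_tree lc_b_Cert_tree lc_b_rc_7_0 lc_b_rc_7_0 lc_b_rc_9_0 lc_b_rc_10_2 lc_b_rc_12_2 lc_b_rc_9_0 lc_b_rc_10_2 lc_b_rc_11_2 lc_b_rc_10_0 lc_b_rc_10_0 lc_b_Cert_tree lc_b_Cert_tree) (@D3.rec (fun _ => (Cert rels S Gen.b)) lc_b_Cert_tree lc_b_rc_7_0 lc_b_rc_7_0 lc_b_rc_11_2 lc_b_rc_8_2 lc_b_rc_12_2 lc_b_rc_9_2 lc_b_rc_8_2 lc_b_rc_11_2 lc_b_Cert_tree lc_b_rc_9_0 lc_b_rc_9_2 lc_b_Cert_tree lc_b_Cert_tree lc_b_rc_9_0 lc_b_rc_9_2 lc_b_Cert_tree lc_b_rc_7_0 lc_b_rc_32_0 lc_b_rc_7_1 lc_b_rc_10_2 lc_b_Cert_tree lc_b_rc_7_0 lc_b_rc_7_0 lc_b_rc_10_0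 lc_b_rc_31_3 lc_b_rc_10_2 lc_b_Cert_tree lc_b_rc_7_0 lc_b_rc_9_2 lc_b_Cert_tree lc_b_rc_10_2 lc_b_Cert_tree lc_b_rc_7_0 lc_b_Cert_tree lc_b_rc_1_1 lc_b_Cert_tree lc_b_rc_10_2 lc_b_Cert_tree lc_b_rc_7_0) (@D3.rec (fun _ => (Cert rels S Gen.b)) lc_b_Cert_tree lc_b_rc_10_2 lc_b_Cert_tree lc_b_rc_7_0 lc_b_rc_31_12 lc_b_Cert_tree lc_b_rc_10_0 lc_b_rc_7_0 lc_b_rc_10_2 lc_b_Cert_tree lc_b_rc_7_0 lc_b_rc_32_67 lc_b_Cert_tree lc_b_rc_30_9 lc_b_rc_7_0 lc_b_rc_9_2 lc_b_rc_10_2 lc_b_rc_1_5 lc_b_rc_10_2 lc_b_rc_9_2 lc_b_rc_9_2 lc_b_rc_10_2 lc_b_rc_10_0 lc_b_rc_10_2 lc_b_rc_9_2 lc_b_Cert_tree lc_b_rc_9_2 lc_b_Cert_tree lc_b_Cert_tree lc_b_Cert_tree lc_b_Cert_tree lc_b_rc_7_0 lc_b_Cert_tree lc_b_rc_7_0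 lc_b_Cert_tree lc_b_rc_8_2 lc_b_rc_1_5 lc_b_rc_7_0 lc_b_rc_8_2 lc_b_rc_30_17) (@D3.rec (fun _ => (Cert rels S Gen.b)) lc_b_rc_7_0 lc_b_Cert_tree lc_b_Cert_tree lc_b_rc_7_0 lc_b_rc_7_0 lc_b_rc_7_0 lc_b_Cert_tree lc_b_Cert_tree lc_b_rc_7_0 lc_b_Cert_tree lc_b_rc_7_0 lc_b_Cert_tree lc_b_Cert_tree lc_b_rc_8_2 lc_b_Cert_tree lc_b_rc_7_0 lc_b_Cert_tree lc_b_rc_8_2 lc_b_Cert_tree lc_b_rc_7_0 lc_b_rc_9_2 lc_b_Cert_tree lc_b_rc_7_0 lc_b_Cert_tree lc_b_rc_8_2 lc_b_rc_9_2 lc_b_Cert_tree lc_b_rc_7_0 lc_b_Cert_tree lc_b_rc_8_2 lc_b_rc_12_2 lc_b_rc_7_0 lc_b_Cert_tree lc_b_rc_9_2 lc_b_rc_8_2 lc_b_rc_7_0 lc_b_Cert_tree lc_b_rc_9_2 lc_b_rc_9_2 lc_b_rc_1_5) (@D3.rec (fun _ => (Cert rels S Gen.b)) lc_b_Cert_tree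 lc_b_rc_7_0 lc_b_rc_10_0 lc_b_rc_9_0 lc_b_rc_9_2 lc_b_rc_1_5 lc_b_Cert_tree lc_b_rc_7_0 lc_b_rc_30_9 lc_b_rc_31_6 lc_b_rc_31_6 lc_b_Cert_tree lc_b_Cert_tree lc_b_Cert_tree lc_b_rc_7_0 lc_b_rc_1_7 lc_b_Cert_tree lc_b_Cert_tree lc_b_Cert_tree lc_b_rc_7_0 lc_b_rc_7_0 lc_b_Cert_tree lc_b_rc_12_2 lc_b_rc_7_0 lc_b_Cert_tree lc_b_rc_11_2 lc_b_rc_9_2 lc_b_rc_8_2 lc_b_rc_9_2 lc_b_Cert_tree lc_b_Cert_tree lc_b_rc_10_2 lc_b_rc_10_2 lc_b_rc_7_0 lc_b_Cert_tree lc_b_Cert_tree lc_b_rc_31_0 lc_b_Cert_tree lc_b_Cert_tree lc_b_rc_7_0) (@D3.rec (fun _ => (Cert rels S Gen.b)) lc_b_rc_7_0 lc_b_Cert_tree lc_b_Cert_tree lc_b_Cert_tree lc_b_rc_7_0 lc_b_rc_7_0 lc_b_Cert_tree lc_b_Cert_tree lc_b_Cert_tree lc_b_rc_7_0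 lc_b_Cert_tree lc_b_rc_7_0 lc_b_Cert_tree lc_b_rc_9_2 lc_b_rc_7_0 lc_b_rc_9_2 lc_b_rc_7_0 lc_b_rc_7_0 lc_b_rc_9_2 lc_b_Cert_tree lc_b_Cert_tree lc_b_rc_7_0 lc_b_Cert_tree lc_b_rc_7_0 lc_b_Cert_tree lc_b_rc_12_0 lc_b_rc_11_2 lc_b_rc_7_1 lc_b_rc_7_0 lc_b_rc_11_0 lc_b_rc_12_2 lc_b_rc_31_3 lc_b_rc_7_0 lc_b_Cert_tree lc_b_rc_11_2 lc_b_rc_12_2 lc_b_rc_8_2 lc_b_Cert_tree lc_b_rc_12_2 lc_b_rc_10_0) (@D3.rec (fun _ => (Cert rels S Gen.b)) lc_b_rc_8_2 lc_b_rc_7_0 lc_b_rc_9_2 lc_b_Cert_tree lc_b_Cert_tree lc_b_rc_7_0 lc_b_Cert_tree lc_b_rc_7_0 lc_b_Cert_tree lc_b_Cert_tree lc_b_rc_8_2 lc_b_Cert_tree lc_b_rc_7_0 lc_b_Cert_tree lc_b_rc_8_2 lc_b_Cert_tree lc_b_rc_7_0 lc_b_rc_7_0 lc_b_rc_7_1 lc_b_rc_7_0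 lc_b_rc_12_0 lc_b_rc_8_2 lc_b_rc_7_0 lc_b_rc_12_4 lc_b_rc_7_0 lc_b_rc_31_6 lc_b_rc_8_2 lc_b_Cert_tree lc_b_Cert_tree lc_b_Cert_tree lc_b_rc_7_0 lc_b_Cert_tree lc_b_rc_7_0 lc_b_Cert_tree lc_b_Cert_tree lc_b_rc_8_2 lc_b_Cert_tree lc_b_rc_7_0 lc_b_Cert_tree lc_b_rc_8_2) (@D3.rec (fun _ => (Cert rels S Gen.b)) lc_b_Cert_tree lc_b_rc_7_0 lc_b_rc_7_0 lc_b_rc_12_0 lc_b_rc_9_2 lc_b_Cert_tree lc_b_rc_7_0 lc_b_rc_1_3 lc_b_rc_7_1 lc_b_rc_8_2 lc_b_rc_7_0 lc_b_rc_11_0 lc_b_rc_9_2 lc_b_Cert_tree lc_b_rc_7_0 lc_b_rc_30_9 lc_b_rc_7_0 lc_b_rc_8_2 lc_b_rc_9_2 lc_b_rc_10_2 lc_b_Cert_tree lc_b_rc_7_0 lc_b_rc_31_9 lc_b_rc_11_4 lc_b_rc_8_2 lc_b_rc_30_13 lc_b_rc_9_2 lc_b_rc_9_2 lc_b_rc_10_2 lc_b_Cert_tree lc_b_rc_7_0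 lc_b_rc_8_4 lc_b_rc_11_2 lc_b_rc_8_2 lc_b_rc_8_4 lc_b_rc_9_2 lc_b_Cert_tree lc_b_rc_10_2 lc_b_Cert_tree lc_b_rc_7_0) (@D3.rec (fun _ => (Cert rels S Gen.b)) lc_b_rc_9_2 lc_b_Cert_tree lc_b_rc_10_2 lc_b_Cert_tree lc_b_rc_7_0 lc_b_rc_9_2 lc_b_Cert_tree lc_b_rc_7_0 lc_b_rc_30_13 lc_b_rc_8_2 lc_b_rc_10_2 lc_b_Cert_tree lc_b_rc_7_0 lc_b_rc_8_2 lc_b_rc_8_2 lc_b_rc_10_2 lc_b_rc_9_2 lc_b_rc_8_2 lc_b_rc_9_2 lc_b_Cert_tree lc_b_Cert_tree lc_b_rc_31_9 lc_b_rc_10_2 lc_b_rc_7_0 lc_b_rc_9_2 lc_b_Cert_tree lc_b_Cert_tree lc_b_rc_7_0 lc_b_rc_8_4 lc_b_Cert_tree lc_b_Cert_tree lc_b_rc_7_0 lc_b_Cert_tree lc_b_rc_7_0 lc_b_Cert_tree lc_b_rc_7_0 lc_b_rc_7_0 lc_b_rc_10_0 lc_b_rc_8_2 lc_b_rc_10_0) (@D3.rec (fun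 _ => (Cert rels S Gen.b)) lc_b_rc_8_2 lc_b_rc_10_2 lc_b_rc_9_2 lc_b_Cert_tree lc_b_Cert_tree lc_b_Cert_tree lc_b_rc_32_62 lc_b_Cert_tree lc_b_Cert_tree lc_b_rc_7_0 lc_b_Cert_tree lc_b_rc_7_0 lc_b_Cert_tree lc_b_rc_8_2 lc_b_rc_7_0 lc_b_rc_8_2 lc_b_rc_7_0 lc_b_rc_11_2 lc_b_rc_9_0 lc_b_rc_8_2 lc_b_rc_12_2 lc_b_rc_9_0 lc_b_rc_8_2 lc_b_rc_11_2 lc_b_rc_12_2 lc_b_Cert_tree lc_b_rc_9_2 lc_b_Cert_tree lc_b_Cert_tree lc_b_Cert_tree lc_b_Cert_tree lc_b_rc_7_0 lc_b_rc_7_0 lc_b_rc_1_3 lc_b_rc_8_2 lc_b_rc_12_2 lc_b_rc_10_2 lc_b_rc_8_2 lc_b_rc_11_2 lc_b_rc_9_0) (@D3.rec (fun _ => (Cert rels S Gen.b)) lc_b_rc_31_3 lc_b_rc_9_0 lc_b_rc_31_3 lc_b_rc_7_0 lc_b_Cert_tree lc_b_Cert_tree lc_b_rc_7_0 lc_b_Cert_tree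 lc_b_rc_7_0 lc_b_Cert_tree lc_b_Cert_tree lc_b_rc_8_2 lc_b_rc_12_2 lc_b_Cert_tree lc_b_rc_8_2 lc_b_rc_11_2 lc_b_Cert_tree lc_b_rc_30_1 lc_b_rc_9_2 lc_b_Cert_tree lc_b_Cert_tree lc_b_rc_30_1 lc_b_rc_9_2 lc_b_Cert_tree lc_b_rc_7_0 lc_b_rc_9_2 lc_b_rc_7_1 lc_b_Cert_tree lc_b_rc_10_2 lc_b_Cert_tree lc_b_rc_7_0 lc_b_rc_7_0 lc_b_rc_9_2 lc_b_rc_31_9 lc_b_Cert_tree lc_b_rc_10_2 lc_b_Cert_tree lc_b_rc_7_0 lc_b_rc_32_31 lc_b_Cert_tree)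
def ce_b_1 : D2 → D3 → (Cert rels S Gen.b) := @D2.rec (fun _ => D3 → (Cert rels S Gen.b)) (@D3.rec (fun _ => (Cert rels S Gen.b)) lc_b_rc_7_0 lc_b_rc_9_2 lc_b_rc_9_0 lc_b_Cert_tree lc_b_rc_7_0 lc_b_rc_9_2 lc_b_Cert_tree lc_b_rc_10_2 lc_b_rc_7_0 lc_b_rc_10_2 lc_b_Cert_tree lc_b_Cert_tree lc_b_rc_7_0 lc_b_Cert_tree lc_b_Cert_tree lc_b_rc_9_0 lc_b_rc_7_0 lc_b_Cert_tree lc_b_rc_9_2 lc_b_rc_7_0 lc_b_rc_10_2 lc_b_Cert_tree lc_b_Cert_tree lc_b_rc_7_0 lc_b_Cert_tree lc_b_Cert_tree lc_b_rc_30_9 lc_b_rc_7_0 lc_b_rc_7_0 lc_b_rc_31_12 lc_b_rc_7_1 lc_b_rc_30_9 lc_b_rc_7_0 lc_b_rc_7_0 lc_b_rc_7_0 lc_b_rc_7_0 lc_b_rc_10_2 lc_b_rc_9_2 lc_b_rc_32_5 lc_b_rc_9_2) (@D3.rec (fun _ => (Cert rels S Gen.b)) lc_b_Cert_tree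 lc_b_rc_10_2 lc_b_rc_9_2 lc_b_rc_9_0 lc_b_rc_9_2 lc_b_Cert_tree lc_b_rc_7_0 lc_b_rc_9_2 lc_b_Cert_tree lc_b_Cert_tree lc_b_rc_8_2 lc_b_Cert_tree lc_b_Cert_tree lc_b_rc_7_0 lc_b_Cert_tree lc_b_rc_7_0 lc_b_Cert_tree lc_b_rc_7_0 lc_b_Cert_tree lc_b_rc_7_0 lc_b_Cert_tree lc_b_Cert_tree lc_b_rc_8_2 lc_b_Cert_tree lc_b_rc_7_0 lc_b_Cert_tree lc_b_rc_8_2 lc_b_Cert_tree lc_b_rc_7_0 lc_b_rc_9_2 lc_b_Cert_tree lc_b_Cert_tree lc_b_rc_8_2 lc_b_rc_9_2 lc_b_Cert_tree lc_b_Cert_tree lc_b_rc_8_2 lc_b_rc_7_0 lc_b_rc_7_0 lc_b_rc_1_5) (@D3.rec (fun _ => (Cert rels S Gen.b)) lc_b_rc_8_2 lc_b_rc_1_5 lc_b_rc_30_5 lc_b_rc_1_5 lc_b_rc_8_2 lc_b_Cert_tree lc_b_Cert_tree lc_b_rc_7_0 lc_b_rc_7_0 lc_b_Cert_tree lc_b_rc_11_2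 lc_b_Cert_tree lc_b_rc_7_0 lc_b_Cert_tree lc_b_rc_12_2 lc_b_Cert_tree lc_b_rc_7_0 lc_b_rc_7_0 lc_b_Cert_tree lc_b_Cert_tree lc_b_rc_9_2 lc_b_Cert_tree lc_b_rc_7_0 lc_b_Cert_tree lc_b_Cert_tree lc_b_rc_8_2 lc_b_rc_11_2 lc_b_rc_7_0 lc_b_Cert_tree lc_b_Cert_tree lc_b_rc_9_2 lc_b_Cert_tree lc_b_rc_7_0 lc_b_Cert_tree lc_b_Cert_tree lc_b_rc_8_2 lc_b_rc_12_2 lc_b_rc_10_2 lc_b_Cert_tree lc_b_rc_7_0) (@D3.rec (fun _ => (Cert rels S Gen.b)) lc_b_rc_8_2 lc_b_rc_7_0 lc_b_Cert_tree lc_b_rc_9_2 lc_b_rc_10_2 lc_b_Cert_tree lc_b_rc_7_0 lc_b_rc_8_2 lc_b_rc_7_0 lc_b_Cert_tree lc_b_rc_9_2 lc_b_rc_12_2 lc_b_rc_1_5 lc_b_Cert_tree lc_b_rc_7_0 lc_b_rc_9_2 lc_b_Cert_tree lc_b_rc_7_0 lc_b_rc_9_2 lc_b_rc_1_5 lc_b_Cert_tree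 lc_b_rc_7_0 lc_b_rc_9_2 lc_b_Cert_tree lc_b_rc_31_6 lc_b_rc_10_2 lc_b_rc_8_4 lc_b_rc_7_0 lc_b_rc_9_2 lc_b_rc_12_2 lc_b_rc_12_2 lc_b_rc_9_0 lc_b_rc_10_2 lc_b_rc_30_13 lc_b_rc_7_0 lc_b_rc_9_2 lc_b_rc_11_2 lc_b_rc_10_0 lc_b_rc_30_9 lc_b_Cert_tree) (@D3.rec (fun _ => (Cert rels S Gen.b)) lc_b_Cert_tree lc_b_rc_7_0 lc_b_rc_7_0 lc_b_Cert_tree lc_b_rc_7_0 lc_b_Cert_tree lc_b_rc_12_2 lc_b_Cert_tree lc_b_Cert_tree lc_b_rc_7_0 lc_b_rc_7_0 lc_b_Cert_tree lc_b_rc_7_0 lc_b_Cert_tree lc_b_rc_11_2 lc_b_rc_7_0 lc_b_rc_7_0 lc_b_Cert_tree lc_b_rc_7_0 lc_b_rc_9_2 lc_b_rc_7_0 lc_b_rc_9_2 lc_b_Cert_tree lc_b_Cert_tree lc_b_Cert_tree lc_b_Cert_tree lc_b_Cert_tree lc_b_rc_7_0 lc_b_rc_7_0 lc_b_Cert_tree lc_b_Cert_tree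 lc_b_Cert_tree lc_b_rc_7_0 lc_b_rc_7_0 lc_b_rc_7_0 lc_b_Cert_tree lc_b_Cert_tree lc_b_rc_7_0 lc_b_rc_7_0 lc_b_rc_7_0) (@D3.rec (fun _ => (Cert rels S Gen.b)) lc_b_rc_9_2 lc_b_Cert_tree lc_b_Cert_tree lc_b_rc_7_0 lc_b_Cert_tree lc_b_rc_7_0 lc_b_Cert_tree lc_b_rc_10_2 lc_b_rc_7_0 lc_b_rc_10_2 lc_b_rc_7_0 lc_b_Cert_tree lc_b_rc_9_2 lc_b_Cert_tree lc_b_Cert_tree lc_b_rc_10_2 lc_b_Cert_tree lc_b_Cert_tree lc_b_rc_7_0 lc_b_Cert_tree lc_b_rc_7_0 lc_b_Cert_tree lc_b_rc_12_0 lc_b_rc_8_2 lc_b_rc_9_2 lc_b_rc_7_0 lc_b_rc_11_0 lc_b_rc_8_2 lc_b_rc_9_2 lc_b_rc_7_0 lc_b_Cert_tree lc_b_rc_11_2 lc_b_rc_12_2 lc_b_rc_8_2 lc_b_Cert_tree lc_b_rc_12_2 lc_b_rc_1_3 lc_b_rc_8_2 lc_b_rc_7_0 lc_b_rc_9_2) (@D3.rec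 (fun _ => (Cert rels S Gen.b)) lc_b_rc_11_2 lc_b_rc_30_9 lc_b_rc_7_0 lc_b_rc_9_2 lc_b_rc_12_2 lc_b_rc_8_2 lc_b_Cert_tree lc_b_rc_9_2 lc_b_Cert_tree lc_b_Cert_tree lc_b_Cert_tree lc_b_Cert_tree lc_b_rc_7_0 lc_b_Cert_tree lc_b_rc_7_0 lc_b_Cert_tree lc_b_Cert_tree lc_b_rc_8_2 lc_b_Cert_tree lc_b_rc_7_0 lc_b_Cert_tree lc_b_rc_8_2 lc_b_Cert_tree lc_b_rc_7_0 lc_b_rc_7_0 lc_b_rc_9_2 lc_b_rc_10_2 lc_b_rc_7_0 lc_b_rc_12_0 lc_b_rc_8_2 lc_b_rc_7_0 lc_b_rc_9_2 lc_b_rc_12_4 lc_b_rc_7_0 lc_b_rc_10_2 lc_b_rc_8_2 lc_b_rc_31_9 lc_b_rc_8_2 lc_b_rc_30_13 lc_b_rc_1_5) (@D3.rec (fun _ => (Cert rels S Gen.b)) lc_b_rc_30_5 lc_b_rc_8_2 lc_b_rc_7_0 lc_b_Cert_tree lc_b_Cert_tree lc_b_rc_7_0 lc_b_Cert_tree lc_b_rc_7_0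 lc_b_Cert_tree lc_b_Cert_tree lc_b_rc_8_2 lc_b_Cert_tree lc_b_rc_7_0 lc_b_Cert_tree lc_b_rc_8_2 lc_b_Cert_tree lc_b_rc_7_0 lc_b_rc_7_0 lc_b_Cert_tree lc_b_rc_9_2 lc_b_Cert_tree lc_b_rc_7_0 lc_b_rc_9_2 lc_b_rc_9_2 lc_b_rc_8_2 lc_b_rc_7_0 lc_b_Cert_tree lc_b_rc_9_2 lc_b_Cert_tree lc_b_rc_7_0 lc_b_rc_9_2 lc_b_rc_9_2 lc_b_rc_8_2 lc_b_rc_12_0 lc_b_Cert_tree lc_b_rc_10_2 lc_b_Cert_tree lc_b_rc_7_0 lc_b_Cert_tree lc_b_rc_11_4) (@D3.rec (fun _ => (Cert rels S Gen.b)) lc_b_rc_8_2 lc_b_rc_30_13 lc_b_rc_9_2 lc_b_rc_11_0 lc_b_Cert_tree lc_b_rc_10_2 lc_b_Cert_tree lc_b_rc_7_0 lc_b_Cert_tree lc_b_rc_11_2 lc_b_rc_8_2 lc_b_rc_7_1 lc_b_rc_9_2 lc_b_rc_10_2 lc_b_rc_7_1 lc_b_rc_7_0 lc_b_rc_31_9 lc_b_rc_31_6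 lc_b_rc_10_2 lc_b_rc_10_2 lc_b_rc_31_6 lc_b_rc_7_0 lc_b_rc_8_2 lc_b_rc_7_0 lc_b_rc_10_2 lc_b_rc_7_0 lc_b_rc_10_2 lc_b_Cert_tree lc_b_Cert_tree lc_b_rc_7_0 lc_b_rc_30_13 lc_b_rc_8_2 lc_b_Cert_tree lc_b_rc_10_2 lc_b_rc_7_0 lc_b_rc_10_2 lc_b_Cert_tree lc_b_Cert_tree lc_b_rc_7_0 lc_b_rc_8_2) (@D3.rec (fun _ => (Cert rels S Gen.b)) lc_b_rc_8_2 lc_b_Cert_tree lc_b_rc_10_2 lc_b_rc_7_0 lc_b_rc_7_0 lc_b_Cert_tree lc_b_rc_7_0 lc_b_rc_9_2 lc_b_rc_7_0 lc_b_rc_9_2 lc_b_Cert_tree lc_b_Cert_tree lc_b_Cert_tree lc_b_rc_9_2 lc_b_Cert_tree lc_b_Cert_tree lc_b_rc_10_2 lc_b_Cert_tree lc_b_Cert_tree lc_b_rc_7_0 lc_b_rc_7_0 lc_b_rc_8_0 lc_b_Cert_tree lc_b_Cert_tree lc_b_rc_10_2 lc_b_Cert_tree lc_b_Cert_tree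 lc_b_rc_7_0 lc_b_Cert_tree lc_b_rc_7_0 lc_b_Cert_tree lc_b_rc_8_2 lc_b_rc_7_0 lc_b_rc_8_2 lc_b_rc_7_0 lc_b_rc_9_0 lc_b_rc_8_2 lc_b_rc_9_0 lc_b_rc_8_2 lc_b_rc_30_13) (@D3.rec (fun _ => (Cert rels S Gen.b)) lc_b_rc_8_2 lc_b_rc_32_26 lc_b_Cert_tree lc_b_Cert_tree lc_b_Cert_tree lc_b_Cert_tree lc_b_rc_7_0 lc_b_Cert_tree lc_b_rc_7_0 lc_b_Cert_tree lc_b_rc_7_0 lc_b_Cert_tree lc_b_Cert_tree lc_b_Cert_tree lc_b_Cert_tree lc_b_rc_7_0 lc_b_Cert_tree lc_b_rc_7_0 lc_b_Cert_tree lc_b_Cert_tree lc_b_rc_8_2 lc_b_Cert_tree lc_b_rc_7_0 lc_b_Cert_tree lc_b_rc_8_2 lc_b_Cert_tree lc_b_rc_7_0 lc_b_rc_9_2 lc_b_rc_1_7 lc_b_rc_8_2 lc_b_rc_9_2 lc_b_rc_1_7 lc_b_rc_8_2 lc_b_Cert_tree lc_b_rc_11_2 lc_b_rc_9_2 lc_b_Cert_tree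 lc_b_rc_12_2 lc_b_rc_9_2 lc_b_rc_7_0) (@D3.rec (fun _ => (Cert rels S Gen.b)) lc_b_rc_9_2 lc_b_Cert_tree lc_b_Cert_tree lc_b_rc_8_2 lc_b_Cert_tree lc_b_Cert_tree lc_b_rc_7_0 lc_b_Cert_tree lc_b_rc_7_0 lc_b_Cert_tree lc_b_rc_7_0 lc_b_rc_7_0 lc_b_Cert_tree lc_b_rc_8_2 lc_b_rc_12_2 lc_b_Cert_tree lc_b_rc_8_2 lc_b_rc_11_2 lc_b_Cert_tree lc_b_rc_30_1 lc_b_rc_9_2 lc_b_Cert_tree lc_b_Cert_tree lc_b_rc_7_1 lc_b_rc_9_2 lc_b_Cert_tree lc_b_Cert_tree lc_b_Cert_tree lc_b_rc_1_5 lc_b_rc_30_1 lc_b_Cert_tree lc_b_Cert_tree lc_b_rc_7_0 lc_b_rc_7_0 lc_b_Cert_tree lc_b_rc_11_2 lc_b_Cert_tree lc_b_rc_7_0 lc_b_Cert_tree lc_b_rc_12_2) (@D3.rec (fun _ => (Cert rels S Gen.b)) lc_b_Cert_tree lc_b_rc_7_0 lc_b_rc_7_0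 lc_b_Cert_tree lc_b_Cert_tree lc_b_rc_9_2 lc_b_Cert_tree lc_b_Cert_tree lc_b_rc_7_0 lc_b_Cert_tree lc_b_Cert_tree lc_b_rc_9_2 lc_b_Cert_tree lc_b_Cert_tree lc_b_rc_7_0 lc_b_rc_9_2 lc_b_Cert_tree lc_b_Cert_tree lc_b_rc_10_2 lc_b_Cert_tree lc_b_rc_7_0 lc_b_rc_7_0 lc_b_rc_9_2 lc_b_Cert_tree lc_b_Cert_tree lc_b_rc_10_2 lc_b_Cert_tree lc_b_rc_7_0 lc_b_rc_9_2 lc_b_Cert_tree lc_b_rc_30_9 lc_b_rc_7_1 lc_b_rc_7_0 lc_b_rc_9_2 lc_b_rc_10_2 lc_b_Cert_tree lc_b_Cert_tree lc_b_rc_7_0 lc_b_rc_10_2 lc_b_rc_9_2) (@D3.rec (fun _ => (Cert rels S Gen.b)) lc_b_Cert_tree lc_b_rc_8_0 lc_b_rc_30_1 lc_b_rc_7_0 lc_b_rc_9_2 lc_b_rc_10_2 lc_b_Cert_tree lc_b_Cert_tree lc_b_rc_7_0 lc_b_rc_10_2 lc_b_rc_7_0 lc_b_rc_7_0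 lc_b_rc_7_0 lc_b_rc_10_2 lc_b_Cert_tree lc_b_rc_10_2 lc_b_rc_11_2 lc_b_Cert_tree lc_b_rc_9_2 lc_b_Cert_tree lc_b_rc_7_0 lc_b_Cert_tree lc_b_rc_7_0 lc_b_rc_31_12 lc_b_Cert_tree lc_b_rc_8_2 lc_b_rc_7_1 lc_b_rc_7_0 lc_b_rc_7_0 lc_b_rc_7_0 lc_b_rc_10_2 lc_b_Cert_tree lc_b_rc_10_2 lc_b_Cert_tree lc_b_rc_12_2 lc_b_rc_9_2 lc_b_Cert_tree lc_b_rc_7_0 lc_b_Cert_tree lc_b_rc_7_0) (@D3.rec (fun _ => (Cert rels S Gen.b)) lc_b_rc_31_12 lc_b_Cert_tree lc_b_rc_8_2 lc_b_rc_1_3 lc_b_rc_7_0 lc_b_rc_7_0 lc_b_rc_7_1 lc_b_rc_30_9 lc_b_rc_9_2 lc_b_Cert_tree lc_b_rc_30_1 lc_b_Cert_tree lc_b_rc_7_0 lc_b_rc_9_2 lc_b_Cert_tree lc_b_rc_8_0 lc_b_Cert_tree lc_b_rc_7_0 lc_b_rc_1_5 lc_b_rc_8_2 lc_b_rc_9_2 lc_b_Cert_tree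 lc_b_Cert_tree lc_b_Cert_tree lc_b_Cert_tree lc_b_Cert_tree lc_b_rc_7_0 lc_b_rc_7_0 lc_b_rc_9_2 lc_b_Cert_tree lc_b_Cert_tree lc_b_rc_7_0 lc_b_Cert_tree lc_b_rc_7_0 lc_b_Cert_tree lc_b_Cert_tree lc_b_rc_11_2 lc_b_Cert_tree lc_b_rc_7_0 lc_b_Cert_tree) (@D3.rec (fun _ => (Cert rels S Gen.b)) lc_b_rc_12_2 lc_b_Cert_tree lc_b_rc_7_0 lc_b_Cert_tree lc_b_rc_8_2 lc_b_Cert_tree lc_b_rc_7_0 lc_b_Cert_tree lc_b_rc_8_2 lc_b_Cert_tree lc_b_rc_7_0 lc_b_rc_7_0 lc_b_Cert_tree lc_b_Cert_tree lc_b_rc_9_2 lc_b_Cert_tree lc_b_rc_7_0 lc_b_Cert_tree lc_b_Cert_tree lc_b_rc_8_2 lc_b_rc_11_2 lc_b_rc_7_0 lc_b_Cert_tree lc_b_Cert_tree lc_b_rc_9_2 lc_b_Cert_tree lc_b_rc_7_0 lc_b_Cert_tree lc_b_Cert_tree lc_b_rc_8_2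 lc_b_rc_12_2 lc_b_Cert_tree lc_b_rc_10_2 lc_b_rc_7_0 lc_b_rc_7_0 lc_b_Cert_tree lc_b_rc_9_2 lc_b_Cert_tree lc_b_rc_10_2 lc_b_rc_7_0) (@D3.rec (fun _ => (Cert rels S Gen.b)) lc_b_rc_7_0 lc_b_Cert_tree lc_b_rc_9_2 lc_b_rc_1_5 lc_b_rc_8_2 lc_b_rc_1_5 lc_b_rc_30_5 lc_b_Cert_tree lc_b_Cert_tree lc_b_rc_8_4 lc_b_Cert_tree lc_b_Cert_tree lc_b_rc_9_2 lc_b_Cert_tree lc_b_Cert_tree lc_b_rc_7_0 lc_b_Cert_tree lc_b_rc_7_0 lc_b_Cert_tree lc_b_Cert_tree lc_b_rc_8_2 lc_b_rc_12_2 lc_b_Cert_tree lc_b_rc_8_2 lc_b_rc_7_1 lc_b_rc_7_0 lc_b_Cert_tree lc_b_rc_11_2 lc_b_Cert_tree lc_b_rc_7_0 lc_b_Cert_tree lc_b_rc_8_2 lc_b_rc_11_2 lc_b_rc_7_0 lc_b_Cert_tree lc_b_rc_12_2 lc_b_Cert_tree lc_b_rc_7_0 lc_b_Cert_tree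 lc_b_rc_8_2) (@D3.rec (fun _ => (Cert rels S Gen.b)) lc_b_rc_12_2 lc_b_rc_1_5 lc_b_Cert_tree lc_b_rc_11_2 lc_b_Cert_tree lc_b_rc_7_0 lc_b_rc_9_2 lc_b_Cert_tree lc_b_rc_7_0 lc_b_rc_8_2 lc_b_rc_10_2 lc_b_Cert_tree lc_b_rc_7_0 lc_b_Cert_tree lc_b_Cert_tree lc_b_rc_8_2 lc_b_Cert_tree lc_b_rc_7_0 lc_b_rc_7_0 lc_b_Cert_tree lc_b_Cert_tree lc_b_rc_9_2 lc_b_rc_11_2 lc_b_Cert_tree lc_b_rc_1_5 lc_b_Cert_tree lc_b_Cert_tree lc_b_rc_12_2 lc_b_rc_7_0 lc_b_rc_9_2 lc_b_Cert_tree lc_b_rc_7_0 lc_b_rc_8_2 lc_b_rc_10_2 lc_b_Cert_tree lc_b_rc_7_0 lc_b_Cert_tree lc_b_Cert_tree lc_b_rc_8_2 lc_b_Cert_tree) (@D3.rec (fun _ => (Cert rels S Gen.b)) lc_b_rc_7_0 lc_b_rc_7_0 lc_b_Cert_tree lc_b_Cert_tree lc_b_rc_9_2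 lc_b_rc_12_2 lc_b_Cert_tree lc_b_Cert_tree lc_b_rc_7_0 lc_b_Cert_tree lc_b_rc_8_2 lc_b_rc_11_2 lc_b_rc_9_2 lc_b_rc_1_5 lc_b_Cert_tree lc_b_rc_7_0 lc_b_rc_9_2 lc_b_Cert_tree lc_b_rc_10_2 lc_b_Cert_tree lc_b_rc_7_0 lc_b_Cert_tree lc_b_rc_8_2 lc_b_rc_12_2 lc_b_rc_9_2 lc_b_rc_1_5 lc_b_Cert_tree lc_b_rc_7_0 lc_b_rc_9_2 lc_b_Cert_tree lc_b_rc_10_2 lc_b_Cert_tree lc_b_rc_10_2 lc_b_rc_8_4 lc_b_rc_7_0 lc_b_rc_9_2 lc_b_rc_12_2 lc_b_rc_9_2 lc_b_rc_12_2 lc_b_Cert_tree) (@D3.rec (fun _ => (Cert rels S Gen.b)) lc_b_rc_1_5 lc_b_rc_7_0 lc_b_rc_9_2 lc_b_rc_10_2 lc_b_Cert_tree lc_b_rc_10_2 lc_b_rc_30_13 lc_b_rc_7_0 lc_b_rc_9_2 lc_b_rc_11_2 lc_b_rc_9_2 lc_b_rc_1_7 lc_b_Cert_tree lc_b_rc_31_12 lc_b_rc_7_0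 lc_b_rc_9_2 lc_b_rc_10_2 lc_b_rc_10_2 lc_b_rc_10_2 lc_b_rc_7_0 lc_b_Cert_tree lc_b_rc_7_0 lc_b_Cert_tree lc_b_Cert_tree lc_b_rc_12_2 lc_b_rc_7_0 lc_b_Cert_tree lc_b_rc_8_2 lc_b_rc_9_2 lc_b_rc_7_0 lc_b_rc_7_0 lc_b_Cert_tree lc_b_rc_7_0 lc_b_Cert_tree lc_b_rc_11_2 lc_b_Cert_tree lc_b_rc_7_0 lc_b_Cert_tree lc_b_rc_8_2 lc_b_rc_11_2) (@D3.rec (fun _ => (Cert rels S Gen.b)) lc_b_rc_7_0 lc_b_rc_7_0 lc_b_Cert_tree lc_b_rc_9_2 lc_b_rc_11_2 lc_b_rc_12_2 lc_b_Cert_tree lc_b_rc_9_2 lc_b_Cert_tree lc_b_Cert_tree lc_b_Cert_tree lc_b_Cert_tree lc_b_rc_7_0 lc_b_rc_7_0 lc_b_rc_7_0 lc_b_Cert_tree lc_b_Cert_tree lc_b_rc_7_0 lc_b_Cert_tree lc_b_rc_7_0 lc_b_Cert_tree lc_b_Cert_tree lc_b_rc_12_2 lc_b_Cert_tree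 lc_b_rc_11_2 lc_b_rc_7_0 lc_b_Cert_tree lc_b_Cert_tree lc_b_rc_7_0 lc_b_rc_7_0 lc_b_Cert_tree lc_b_Cert_tree lc_b_Cert_tree lc_b_rc_7_0 lc_b_rc_7_0 lc_b_rc_8_2 lc_b_rc_8_2 lc_b_Cert_tree lc_b_rc_9_2 lc_b_Cert_tree) (@D3.rec (fun _ => (Cert rels S Gen.b)) lc_b_Cert_tree lc_b_Cert_tree lc_b_Cert_tree lc_b_rc_7_0 lc_b_Cert_tree lc_b_rc_7_0 lc_b_Cert_tree lc_b_rc_8_2 lc_b_rc_10_2 lc_b_rc_7_0 lc_b_rc_8_2 lc_b_rc_10_2 lc_b_rc_7_0 lc_b_rc_7_0 lc_b_rc_9_2 lc_b_Cert_tree lc_b_Cert_tree lc_b_rc_8_2 lc_b_rc_10_2 lc_b_Cert_tree lc_b_Cert_tree lc_b_rc_7_0 lc_b_Cert_tree lc_b_rc_7_0 lc_b_Cert_tree lc_b_Cert_tree lc_b_Cert_tree lc_b_rc_7_0 lc_b_Cert_tree lc_b_rc_7_0 lc_b_Cert_tree lc_b_Cert_tree lc_b_rc_8_2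 lc_b_Cert_tree lc_b_rc_7_0 lc_b_Cert_tree lc_b_rc_8_2 lc_b_Cert_tree lc_b_rc_7_0 lc_b_Cert_tree) (@D3.rec (fun _ => (Cert rels S Gen.b)) lc_b_rc_9_2 lc_b_Cert_tree lc_b_rc_8_2 lc_b_Cert_tree lc_b_rc_9_2 lc_b_Cert_tree lc_b_rc_8_2 lc_b_rc_7_0 lc_b_rc_9_2 lc_b_Cert_tree lc_b_rc_11_2 lc_b_rc_12_2 lc_b_rc_9_2 lc_b_rc_7_0 lc_b_rc_9_2 lc_b_Cert_tree lc_b_rc_12_2 lc_b_rc_9_2 lc_b_rc_9_2 lc_b_rc_9_2 lc_b_rc_12_2 lc_b_rc_7_0 lc_b_rc_9_2 lc_b_rc_30_5 lc_b_rc_1_3 lc_b_rc_7_0 lc_b_rc_9_2 lc_b_Cert_tree lc_b_Cert_tree lc_b_rc_8_2 lc_b_Cert_tree lc_b_Cert_tree lc_b_rc_7_0 lc_b_Cert_tree lc_b_rc_7_0 lc_b_Cert_tree lc_b_rc_7_0 lc_b_Cert_tree lc_b_rc_7_0 lc_b_Cert_tree) (@D3.rec (fun _ => (Cert rels S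 Gen.b)) lc_b_Cert_tree lc_b_rc_8_2 lc_b_Cert_tree lc_b_rc_7_0 lc_b_Cert_tree lc_b_rc_8_2 lc_b_Cert_tree lc_b_rc_7_0 lc_b_rc_7_0 lc_b_Cert_tree lc_b_rc_9_2 lc_b_Cert_tree lc_b_rc_7_0 lc_b_rc_10_2 lc_b_rc_10_2 lc_b_rc_8_2 lc_b_rc_7_0 lc_b_Cert_tree lc_b_rc_9_2 lc_b_Cert_tree lc_b_rc_7_0 lc_b_rc_10_2 lc_b_rc_10_2 lc_b_rc_8_2 lc_b_Cert_tree lc_b_rc_31_9 lc_b_rc_10_2 lc_b_rc_30_13 lc_b_rc_9_2 lc_b_Cert_tree lc_b_rc_1_5 lc_b_rc_30_5 lc_b_rc_10_2 lc_b_rc_9_2 lc_b_Cert_tree lc_b_Cert_tree lc_b_rc_1_5 lc_b_Cert_tree lc_b_Cert_tree lc_b_rc_7_0) (@D3.rec (fun _ => (Cert rels S Gen.b)) lc_b_rc_7_0 lc_b_Cert_tree lc_b_rc_11_2 lc_b_Cert_tree lc_b_rc_7_0 lc_b_Cert_tree lc_b_rc_12_2 lc_b_Cert_tree lc_b_rc_7_0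 lc_b_rc_7_0 lc_b_Cert_tree lc_b_Cert_tree lc_b_rc_9_2 lc_b_Cert_tree lc_b_rc_7_0 lc_b_Cert_tree lc_b_Cert_tree lc_b_rc_8_2 lc_b_rc_11_2 lc_b_rc_7_0 lc_b_Cert_tree lc_b_Cert_tree lc_b_rc_9_2 lc_b_Cert_tree lc_b_rc_7_0 lc_b_Cert_tree lc_b_Cert_tree lc_b_rc_8_2 lc_b_rc_12_2 lc_b_Cert_tree lc_b_rc_7_0 lc_b_rc_9_2 lc_b_Cert_tree lc_b_rc_10_2 lc_b_Cert_tree lc_b_rc_7_0 lc_b_Cert_tree lc_b_rc_11_4 lc_b_rc_8_2 lc_b_Cert_tree) (@D3.rec (fun _ => (Cert rels S Gen.b)) lc_b_rc_9_2 lc_b_Cert_tree lc_b_rc_7_0 lc_b_rc_9_2 lc_b_Cert_tree lc_b_rc_10_2 lc_b_Cert_tree lc_b_rc_7_0 lc_b_Cert_tree lc_b_rc_11_2 lc_b_rc_8_2 lc_b_Cert_tree lc_b_rc_9_2 lc_b_Cert_tree lc_b_rc_10_2 lc_b_rc_7_0 lc_b_rc_9_2 lc_b_rc_10_2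 lc_b_Cert_tree lc_b_Cert_tree lc_b_rc_7_0 lc_b_rc_31_9 lc_b_rc_31_6 lc_b_rc_31_9 lc_b_rc_7_0 lc_b_rc_9_2 lc_b_rc_1_7 lc_b_Cert_tree lc_b_rc_10_2 lc_b_Cert_tree lc_b_rc_10_2 lc_b_rc_7_0 lc_b_rc_9_2 lc_b_rc_10_2 lc_b_Cert_tree lc_b_Cert_tree lc_b_rc_7_0 lc_b_rc_7_1 lc_b_rc_7_0 lc_b_rc_7_0)
def ce_b_2 : D2 → D3 → (Cert rels S Gen.b) := @D2.rec (fun _ => D3 → (Cert rels S Gen.b)) (@D3.rec (fun _ => (Cert rels S Gen.b)) lc_b_rc_7_0 lc_b_rc_9_2 lc_b_rc_9_2 lc_b_Cert_tree lc_b_rc_10_2 lc_b_Cert_tree lc_b_rc_10_2 lc_b_rc_11_2 lc_b_Cert_tree lc_b_rc_9_2 lc_b_Cert_tree lc_b_rc_7_0 lc_b_rc_7_0 lc_b_rc_9_2 lc_b_rc_8_2 lc_b_rc_9_2 lc_b_rc_7_0 lc_b_rc_10_2 lc_b_Cert_tree lc_b_rc_10_2 lc_b_Cert_tree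 lc_b_rc_12_2 lc_b_rc_9_2 lc_b_Cert_tree lc_b_rc_7_0 lc_b_rc_7_0 lc_b_rc_9_2 lc_b_rc_8_2 lc_b_rc_9_2 lc_b_rc_7_0 lc_b_rc_10_2 lc_b_rc_7_0 lc_b_rc_8_4 lc_b_rc_9_2 lc_b_rc_8_4 lc_b_rc_8_4 lc_b_Cert_tree lc_b_rc_9_2 lc_b_Cert_tree lc_b_Cert_tree) (@D3.rec (fun _ => (Cert rels S Gen.b)) lc_b_rc_32_52 lc_b_Cert_tree lc_b_Cert_tree lc_b_rc_7_0 lc_b_rc_7_0 lc_b_rc_7_0 lc_b_rc_9_2 lc_b_Cert_tree lc_b_Cert_tree lc_b_rc_8_2 lc_b_rc_10_2 lc_b_Cert_tree lc_b_Cert_tree lc_b_rc_7_0 lc_b_Cert_tree lc_b_rc_7_0 lc_b_Cert_tree lc_b_Cert_tree lc_b_Cert_tree lc_b_rc_7_0 lc_b_rc_7_0 lc_b_Cert_tree lc_b_rc_12_2 lc_b_Cert_tree lc_b_rc_11_2 lc_b_Cert_tree lc_b_Cert_tree lc_b_rc_7_0 lc_b_Cert_tree lc_b_rc_7_0 lc_b_Cert_tree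 lc_b_Cert_tree lc_b_Cert_tree lc_b_rc_7_0 lc_b_Cert_tree lc_b_rc_7_0 lc_b_Cert_tree lc_b_Cert_tree lc_b_rc_8_2 lc_b_Cert_tree) (@D3.rec (fun _ => (Cert rels S Gen.b)) lc_b_rc_7_0 lc_b_Cert_tree lc_b_rc_8_2 lc_b_Cert_tree lc_b_rc_7_0 lc_b_rc_9_2 lc_b_rc_1_7 lc_b_rc_8_2 lc_b_rc_9_2 lc_b_rc_7_0 lc_b_rc_8_2 lc_b_rc_1_7 lc_b_rc_9_2 lc_b_rc_8_2 lc_b_rc_9_2 lc_b_Cert_tree lc_b_Cert_tree lc_b_rc_7_0 lc_b_rc_7_0 lc_b_rc_7_0 lc_b_Cert_tree lc_b_rc_7_0 lc_b_Cert_tree lc_b_Cert_tree lc_b_rc_11_2 lc_b_Cert_tree lc_b_rc_7_0 lc_b_Cert_tree lc_b_rc_12_2 lc_b_Cert_tree lc_b_rc_7_0 lc_b_Cert_tree lc_b_Cert_tree lc_b_rc_7_0 lc_b_rc_7_0 lc_b_rc_7_0 lc_b_Cert_tree lc_b_rc_7_0 lc_b_Cert_tree lc_b_Cert_tree)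 (@D3.rec (fun _ => (Cert rels S Gen.b)) lc_b_rc_8_2 lc_b_Cert_tree lc_b_rc_7_0 lc_b_Cert_tree lc_b_rc_8_2 lc_b_Cert_tree lc_b_rc_7_0 lc_b_rc_7_0 lc_b_Cert_tree lc_b_Cert_tree lc_b_rc_9_2 lc_b_rc_12_2 lc_b_rc_7_0 lc_b_Cert_tree lc_b_Cert_tree lc_b_rc_8_2 lc_b_rc_11_2 lc_b_rc_7_0 lc_b_Cert_tree lc_b_Cert_tree lc_b_rc_9_2 lc_b_rc_11_2 lc_b_rc_7_0 lc_b_Cert_tree lc_b_Cert_tree lc_b_rc_8_2 lc_b_rc_12_2 lc_b_Cert_tree lc_b_rc_10_2 lc_b_Cert_tree lc_b_rc_9_2 lc_b_Cert_tree lc_b_rc_10_2 lc_b_Cert_tree lc_b_rc_9_2 lc_b_rc_7_0 lc_b_rc_9_2 lc_b_rc_10_2 lc_b_Cert_tree lc_b_rc_7_0) (@D3.rec (fun _ => (Cert rels S Gen.b)) lc_b_rc_9_2 lc_b_rc_10_2 lc_b_Cert_tree lc_b_rc_1_5 lc_b_rc_9_2 lc_b_Cert_tree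 lc_b_Cert_tree lc_b_Cert_tree lc_b_Cert_tree lc_b_Cert_tree lc_b_rc_7_0 lc_b_rc_7_0 lc_b_Cert_tree lc_b_Cert_tree lc_b_rc_7_0 lc_b_Cert_tree lc_b_rc_7_0 lc_b_Cert_tree lc_b_Cert_tree lc_b_rc_11_2 lc_b_Cert_tree lc_b_rc_7_0 lc_b_Cert_tree lc_b_rc_12_2 lc_b_Cert_tree lc_b_rc_7_0 lc_b_Cert_tree lc_b_rc_8_2 lc_b_rc_12_2 lc_b_Cert_tree lc_b_rc_8_2 lc_b_rc_11_2 lc_b_rc_7_0 lc_b_Cert_tree lc_b_Cert_tree lc_b_rc_9_2 lc_b_Cert_tree lc_b_Cert_tree lc_b_rc_7_0 lc_b_Cert_tree) (@D3.rec (fun _ => (Cert rels S Gen.b)) lc_b_Cert_tree lc_b_rc_9_2 lc_b_Cert_tree lc_b_Cert_tree lc_b_rc_7_0 lc_b_rc_9_2 lc_b_Cert_tree lc_b_rc_10_2 lc_b_Cert_tree lc_b_rc_7_0 lc_b_rc_7_0 lc_b_rc_9_2 lc_b_Cert_tree lc_b_rc_10_2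 lc_b_Cert_tree lc_b_rc_7_0 lc_b_rc_7_0 lc_b_rc_9_2 lc_b_rc_7_0 lc_b_rc_9_2 lc_b_Cert_tree lc_b_Cert_tree lc_b_Cert_tree lc_b_Cert_tree lc_b_rc_7_0 lc_b_Cert_tree lc_b_rc_7_0 lc_b_Cert_tree lc_b_Cert_tree lc_b_rc_8_2 lc_b_rc_12_2 lc_b_Cert_tree lc_b_rc_8_2 lc_b_rc_7_1 lc_b_rc_7_0 lc_b_Cert_tree lc_b_rc_11_2 lc_b_Cert_tree lc_b_rc_7_0 lc_b_Cert_tree) (@D3.rec (fun _ => (Cert rels S Gen.b)) lc_b_rc_8_2 lc_b_rc_11_2 lc_b_rc_7_0 lc_b_Cert_tree lc_b_rc_12_2 lc_b_Cert_tree lc_b_rc_7_0 lc_b_Cert_tree lc_b_rc_8_2 lc_b_rc_12_2 lc_b_rc_1_5 lc_b_rc_11_2 lc_b_Cert_tree lc_b_rc_7_0 lc_b_rc_9_2 lc_b_Cert_tree lc_b_rc_7_0 lc_b_Cert_tree lc_b_rc_10_2 lc_b_Cert_tree lc_b_rc_7_0 lc_b_Cert_tree lc_b_rc_7_0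 lc_b_rc_1_5 lc_b_Cert_tree lc_b_rc_12_2 lc_b_rc_7_0 lc_b_rc_9_2 lc_b_Cert_tree lc_b_rc_7_0 lc_b_Cert_tree lc_b_rc_10_2 lc_b_Cert_tree lc_b_rc_7_0 lc_b_Cert_tree lc_b_rc_7_0 lc_b_Cert_tree lc_b_rc_9_2 lc_b_rc_11_2 lc_b_Cert_tree) (@D3.rec (fun _ => (Cert rels S Gen.b)) lc_b_rc_10_2 lc_b_Cert_tree lc_b_rc_7_0 lc_b_rc_7_0 lc_b_rc_10_2 lc_b_Cert_tree lc_b_Cert_tree lc_b_rc_7_0 lc_b_Cert_tree lc_b_rc_11_2 lc_b_Cert_tree lc_b_rc_9_2 lc_b_Cert_tree lc_b_rc_12_2 lc_b_rc_10_2 lc_b_Cert_tree lc_b_rc_7_0 lc_b_rc_7_0 lc_b_rc_10_2 lc_b_Cert_tree lc_b_Cert_tree lc_b_rc_7_0 lc_b_Cert_tree lc_b_rc_12_2 lc_b_Cert_tree lc_b_rc_7_0 lc_b_rc_10_2 lc_b_Cert_tree lc_b_Cert_tree lc_b_rc_9_2 lc_b_rc_10_2 lc_b_rc_11_2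 lc_b_Cert_tree lc_b_rc_10_2 lc_b_Cert_tree lc_b_rc_9_2 lc_b_Cert_tree lc_b_rc_7_0 lc_b_rc_7_0 lc_b_rc_10_2) (@D3.rec (fun _ => (Cert rels S Gen.b)) lc_b_rc_8_2 lc_b_Cert_tree lc_b_rc_7_0 lc_b_rc_10_2 lc_b_Cert_tree lc_b_Cert_tree lc_b_rc_9_2 lc_b_rc_10_2 lc_b_Cert_tree lc_b_rc_12_2 lc_b_rc_10_2 lc_b_Cert_tree lc_b_rc_9_2 lc_b_Cert_tree lc_b_rc_7_0 lc_b_rc_7_0 lc_b_rc_10_2 lc_b_rc_8_2 lc_b_Cert_tree lc_b_rc_10_2 lc_b_rc_11_2 lc_b_rc_12_2 lc_b_rc_10_2 lc_b_rc_7_0 lc_b_rc_10_2 lc_b_rc_10_0 lc_b_Cert_tree lc_b_rc_9_2 lc_b_rc_11_2 lc_b_Cert_tree lc_b_Cert_tree lc_b_rc_7_0 lc_b_Cert_tree lc_b_rc_11_2 lc_b_Cert_tree lc_b_rc_7_0 lc_b_Cert_tree lc_b_Cert_tree lc_b_rc_8_2 lc_b_Cert_tree) (@D3.rec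 (fun _ => (Cert rels S Gen.b)) lc_b_rc_7_0 lc_b_rc_7_1 lc_b_rc_8_2 lc_b_rc_7_0 lc_b_Cert_tree lc_b_rc_9_2 lc_b_Cert_tree lc_b_rc_8_2 lc_b_Cert_tree lc_b_rc_10_2 lc_b_rc_11_2 lc_b_rc_12_2 lc_b_rc_8_4 lc_b_rc_7_0 lc_b_rc_10_2 lc_b_Cert_tree lc_b_rc_8_0 lc_b_rc_9_2 lc_b_Cert_tree lc_b_rc_12_2 lc_b_rc_7_0 lc_b_Cert_tree lc_b_Cert_tree lc_b_rc_32_46 lc_b_Cert_tree lc_b_rc_7_0 lc_b_Cert_tree lc_b_Cert_tree lc_b_rc_8_2 lc_b_Cert_tree lc_b_rc_7_0 lc_b_rc_9_2 lc_b_rc_8_2 lc_b_rc_7_0 lc_b_Cert_tree lc_b_rc_9_2 lc_b_Cert_tree lc_b_rc_8_2 lc_b_Cert_tree lc_b_rc_7_0) (@D3.rec (fun _ => (Cert rels S Gen.b)) lc_b_rc_9_2 lc_b_Cert_tree lc_b_rc_7_0 lc_b_Cert_tree lc_b_rc_11_2 lc_b_rc_12_2 lc_b_Cert_tree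 lc_b_rc_7_0 lc_b_rc_9_2 lc_b_Cert_tree lc_b_rc_7_0 lc_b_Cert_tree lc_b_rc_11_2 lc_b_rc_12_2 lc_b_rc_32_36 lc_b_Cert_tree lc_b_Cert_tree lc_b_rc_9_2 lc_b_Cert_tree lc_b_Cert_tree lc_b_Cert_tree lc_b_Cert_tree lc_b_rc_7_0 lc_b_Cert_tree lc_b_rc_7_0 lc_b_Cert_tree lc_b_rc_7_0 lc_b_rc_9_2 lc_b_Cert_tree lc_b_Cert_tree lc_b_rc_7_0 lc_b_rc_7_0 lc_b_Cert_tree lc_b_rc_8_2 lc_b_rc_12_2 lc_b_Cert_tree lc_b_rc_8_2 lc_b_rc_7_1 lc_b_Cert_tree lc_b_Cert_tree) (@D3.rec (fun _ => (Cert rels S Gen.b)) lc_b_rc_7_0 lc_b_Cert_tree lc_b_rc_7_0 lc_b_Cert_tree lc_b_Cert_tree lc_b_rc_8_2 lc_b_Cert_tree lc_b_rc_7_0 lc_b_Cert_tree lc_b_rc_8_2 lc_b_Cert_tree lc_b_rc_7_0 lc_b_rc_7_0 lc_b_Cert_tree lc_b_rc_11_2 lc_b_Cert_tree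 lc_b_rc_7_0 lc_b_Cert_tree lc_b_rc_8_2 lc_b_rc_11_2 lc_b_rc_7_0 lc_b_Cert_tree lc_b_rc_12_2 lc_b_Cert_tree lc_b_rc_7_0 lc_b_Cert_tree lc_b_rc_8_2 lc_b_rc_12_2 lc_b_rc_7_0 lc_b_Cert_tree lc_b_Cert_tree lc_b_rc_9_2 lc_b_Cert_tree lc_b_rc_7_0 lc_b_Cert_tree lc_b_Cert_tree lc_b_rc_8_2 lc_b_rc_11_2 lc_b_rc_7_0 lc_b_Cert_tree) (@D3.rec (fun _ => (Cert rels S Gen.b)) lc_b_Cert_tree lc_b_rc_9_2 lc_b_Cert_tree lc_b_rc_7_0 lc_b_Cert_tree lc_b_Cert_tree lc_b_rc_8_2 lc_b_rc_12_2 lc_b_rc_1_5 lc_b_Cert_tree lc_b_rc_11_2 lc_b_Cert_tree lc_b_rc_7_0 lc_b_rc_9_2 lc_b_Cert_tree lc_b_rc_7_0 lc_b_Cert_tree lc_b_rc_10_2 lc_b_Cert_tree lc_b_rc_7_0 lc_b_Cert_tree lc_b_Cert_tree lc_b_rc_12_2 lc_b_Cert_tree lc_b_rc_7_0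 lc_b_rc_7_0 lc_b_Cert_tree lc_b_Cert_tree lc_b_rc_9_2 lc_b_rc_11_2 lc_b_Cert_tree lc_b_rc_1_5 lc_b_Cert_tree lc_b_Cert_tree lc_b_rc_12_2 lc_b_rc_7_0 lc_b_rc_9_2 lc_b_Cert_tree lc_b_rc_7_0 lc_b_Cert_tree) (@D3.rec (fun _ => (Cert rels S Gen.b)) lc_b_rc_10_2 lc_b_Cert_tree lc_b_rc_7_0 lc_b_Cert_tree lc_b_Cert_tree lc_b_rc_11_2 lc_b_Cert_tree lc_b_rc_7_0 lc_b_rc_7_0 lc_b_Cert_tree lc_b_Cert_tree lc_b_rc_9_2 lc_b_rc_12_2 lc_b_Cert_tree lc_b_rc_7_0 lc_b_rc_10_2 lc_b_Cert_tree lc_b_rc_11_2 lc_b_rc_1_5 lc_b_Cert_tree lc_b_rc_7_0 lc_b_rc_9_2 lc_b_Cert_tree lc_b_rc_10_2 lc_b_rc_7_0 lc_b_rc_10_2 lc_b_Cert_tree lc_b_rc_12_2 lc_b_rc_1_5 lc_b_Cert_tree lc_b_rc_7_0 lc_b_rc_9_2 lc_b_Cert_tree lc_b_rc_10_2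 lc_b_Cert_tree lc_b_rc_9_2 lc_b_Cert_tree lc_b_rc_9_2 lc_b_rc_7_0 lc_b_rc_7_0) (@D3.rec (fun _ => (Cert rels S Gen.b)) lc_b_rc_9_2 lc_b_Cert_tree lc_b_Cert_tree lc_b_rc_7_0 lc_b_rc_7_0 lc_b_Cert_tree lc_b_rc_10_2 lc_b_Cert_tree lc_b_Cert_tree lc_b_rc_7_0 lc_b_Cert_tree lc_b_rc_7_0 lc_b_Cert_tree lc_b_Cert_tree lc_b_rc_8_2 lc_b_Cert_tree lc_b_rc_7_0 lc_b_Cert_tree lc_b_rc_8_2 lc_b_Cert_tree lc_b_rc_7_0 lc_b_rc_7_0 lc_b_Cert_tree lc_b_Cert_tree lc_b_rc_9_2 lc_b_Cert_tree lc_b_rc_1_3 lc_b_rc_7_0 lc_b_Cert_tree lc_b_Cert_tree lc_b_rc_9_2 lc_b_Cert_tree lc_b_rc_12_4 lc_b_rc_1_5 lc_b_Cert_tree lc_b_rc_11_2 lc_b_rc_12_2 lc_b_rc_7_0 lc_b_rc_9_2 lc_b_Cert_tree) (@D3.rec (fun _ => (Cert rels S Gen.b))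 lc_b_rc_11_2 lc_b_Cert_tree lc_b_rc_7_0 lc_b_Cert_tree lc_b_rc_8_2 lc_b_rc_11_2 lc_b_rc_7_0 lc_b_Cert_tree lc_b_rc_7_1 lc_b_rc_9_2 lc_b_Cert_tree lc_b_Cert_tree lc_b_rc_1_5 lc_b_Cert_tree lc_b_rc_11_2 lc_b_rc_12_2 lc_b_rc_7_0 lc_b_rc_9_2 lc_b_Cert_tree lc_b_rc_12_2 lc_b_Cert_tree lc_b_rc_7_0 lc_b_Cert_tree lc_b_rc_8_2 lc_b_rc_12_2 lc_b_rc_7_0 lc_b_Cert_tree lc_b_rc_31_6 lc_b_rc_9_2 lc_b_Cert_tree lc_b_Cert_tree lc_b_Cert_tree lc_b_Cert_tree lc_b_rc_7_0 lc_b_rc_32_57 lc_b_rc_32_31 lc_b_Cert_tree lc_b_Cert_tree lc_b_rc_7_0 lc_b_Cert_tree) (@D3.rec (fun _ => (Cert rels S Gen.b)) lc_b_rc_1_5 lc_b_rc_9_2 lc_b_rc_11_2 lc_b_Cert_tree lc_b_Cert_tree lc_b_rc_10_2 lc_b_Cert_tree lc_b_rc_7_0 lc_b_Cert_tree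 lc_b_rc_8_2 lc_b_rc_11_2 lc_b_rc_9_2 lc_b_rc_10_2 lc_b_Cert_tree lc_b_Cert_tree lc_b_rc_7_0 lc_b_Cert_tree lc_b_Cert_tree lc_b_rc_8_2 lc_b_Cert_tree lc_b_rc_7_0 lc_b_rc_7_0 lc_b_Cert_tree lc_b_rc_9_2 lc_b_Cert_tree lc_b_rc_7_0 lc_b_rc_8_2 lc_b_rc_8_2 lc_b_rc_12_2 lc_b_rc_1_5 lc_b_Cert_tree lc_b_Cert_tree lc_b_rc_12_2 lc_b_rc_7_0 lc_b_rc_9_2 lc_b_Cert_tree lc_b_rc_7_0 lc_b_Cert_tree lc_b_rc_10_2 lc_b_rc_11_2) (@D3.rec (fun _ => (Cert rels S Gen.b)) lc_b_Cert_tree lc_b_rc_7_0 lc_b_Cert_tree lc_b_Cert_tree lc_b_rc_7_0 lc_b_rc_32_57 lc_b_Cert_tree lc_b_rc_8_4 lc_b_rc_7_0 lc_b_rc_12_4 lc_b_Cert_tree lc_b_rc_1_5 lc_b_rc_9_2 lc_b_Cert_tree lc_b_rc_12_2 lc_b_Cert_tree lc_b_rc_10_2 lc_b_Cert_tree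 lc_b_rc_7_0 lc_b_Cert_tree lc_b_rc_8_2 lc_b_rc_12_2 lc_b_rc_9_2 lc_b_rc_10_2 lc_b_Cert_tree lc_b_Cert_tree lc_b_rc_7_0 lc_b_Cert_tree lc_b_Cert_tree lc_b_rc_8_2 lc_b_Cert_tree lc_b_rc_7_0 lc_b_rc_7_0 lc_b_Cert_tree lc_b_rc_9_2 lc_b_Cert_tree lc_b_rc_7_0 lc_b_rc_11_2 lc_b_rc_8_2 lc_b_rc_11_2) (@D3.rec (fun _ => (Cert rels S Gen.b)) lc_b_rc_1_5 lc_b_Cert_tree lc_b_rc_11_2 lc_b_Cert_tree lc_b_rc_7_0 lc_b_rc_9_2 lc_b_Cert_tree lc_b_rc_7_0 lc_b_Cert_tree lc_b_rc_10_2 lc_b_rc_12_2 lc_b_Cert_tree lc_b_rc_7_0 lc_b_rc_7_0 lc_b_Cert_tree lc_b_rc_8_2 lc_b_rc_7_0 lc_b_Cert_tree lc_b_rc_30_9 lc_b_rc_9_2 lc_b_rc_11_2 lc_b_Cert_tree lc_b_rc_10_2 lc_b_Cert_tree lc_b_rc_7_0 lc_b_rc_9_2 lc_b_Cert_tree lc_b_rc_9_2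 lc_b_rc_11_2 lc_b_rc_12_2 lc_b_rc_10_2 lc_b_rc_7_0 lc_b_rc_10_2 lc_b_rc_7_0 lc_b_Cert_tree lc_b_rc_8_2 lc_b_rc_7_0 lc_b_Cert_tree lc_b_rc_8_2 lc_b_rc_9_2) (@D3.rec (fun _ => (Cert rels S Gen.b)) lc_b_rc_12_2 lc_b_Cert_tree lc_b_rc_10_2 lc_b_Cert_tree lc_b_rc_7_0 lc_b_rc_9_2 lc_b_Cert_tree lc_b_rc_9_2 lc_b_rc_11_2 lc_b_rc_12_2 lc_b_rc_10_2 lc_b_rc_7_0 lc_b_rc_10_2 lc_b_rc_7_0 lc_b_rc_11_2 lc_b_rc_9_2 lc_b_rc_9_2 lc_b_Cert_tree lc_b_rc_10_2 lc_b_rc_9_2 lc_b_Cert_tree lc_b_rc_12_2 lc_b_rc_7_0 lc_b_rc_10_2 lc_b_Cert_tree lc_b_rc_9_2 lc_b_rc_10_2 lc_b_rc_11_2 lc_b_rc_12_2 lc_b_rc_10_2 lc_b_rc_9_2 lc_b_rc_7_0 lc_b_rc_1_3 lc_b_rc_9_2 lc_b_rc_9_2 lc_b_Cert_tree lc_b_rc_10_2 lc_b_rc_11_2 lc_b_Cert_tree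 lc_b_rc_9_2) (@D3.rec (fun _ => (Cert rels S Gen.b)) lc_b_rc_7_0 lc_b_rc_10_2 lc_b_Cert_tree lc_b_rc_9_2 lc_b_rc_10_2 lc_b_rc_11_2 lc_b_rc_12_2 lc_b_rc_10_2 lc_b_rc_9_2 lc_b_Cert_tree lc_b_Cert_tree lc_b_rc_7_0 lc_b_rc_8_2 lc_b_rc_7_0 lc_b_Cert_tree lc_b_Cert_tree lc_b_rc_7_0 lc_b_Cert_tree lc_b_Cert_tree lc_b_rc_8_2 lc_b_rc_12_2 lc_b_rc_7_0 lc_b_Cert_tree lc_b_rc_9_2 lc_b_Cert_tree lc_b_rc_7_0 lc_b_rc_8_2 lc_b_rc_7_0 lc_b_Cert_tree lc_b_rc_7_0 lc_b_Cert_tree lc_b_rc_8_2 lc_b_rc_11_2 lc_b_rc_7_0 lc_b_Cert_tree lc_b_rc_9_2 lc_b_Cert_tree lc_b_rc_32_36 lc_b_rc_11_2 lc_b_rc_12_2) (@D3.rec (fun _ => (Cert rels S Gen.b)) lc_b_rc_7_0 lc_b_rc_8_4 lc_b_rc_8_4 lc_b_rc_12_4 lc_b_rc_8_2 lc_b_rc_11_2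 lc_b_rc_12_2 lc_b_Cert_tree lc_b_Cert_tree lc_b_rc_7_0 lc_b_rc_9_2 lc_b_Cert_tree lc_b_Cert_tree lc_b_rc_8_2 lc_b_Cert_tree lc_b_Cert_tree lc_b_rc_7_0 lc_b_Cert_tree lc_b_rc_7_0 lc_b_Cert_tree lc_b_rc_7_0 lc_b_rc_7_0 lc_b_rc_7_1 lc_b_rc_12_2 lc_b_rc_1_7 lc_b_rc_11_2 lc_b_rc_1_5 lc_b_rc_30_17 lc_b_rc_9_2 lc_b_rc_8_2 lc_b_rc_7_0 lc_b_rc_7_0 lc_b_Cert_tree lc_b_Cert_tree lc_b_rc_7_0 lc_b_Cert_tree lc_b_Cert_tree lc_b_rc_7_0 lc_b_rc_7_0 lc_b_Cert_tree) (@D3.rec (fun _ => (Cert rels S Gen.b)) lc_b_Cert_tree lc_b_rc_7_0 lc_b_Cert_tree lc_b_Cert_tree lc_b_Cert_tree lc_b_Cert_tree lc_b_rc_7_0 lc_b_rc_7_0 lc_b_rc_8_2 lc_b_rc_8_2 lc_b_rc_7_0 lc_b_Cert_tree lc_b_Cert_tree lc_b_rc_7_0 lc_b_rc_7_1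 lc_b_rc_7_0 lc_b_rc_1_9 lc_b_Cert_tree lc_b_rc_8_2 lc_b_rc_12_2 lc_b_Cert_tree lc_b_rc_8_2 lc_b_rc_11_2 lc_b_rc_9_2 lc_b_rc_9_2 lc_b_rc_7_0 lc_b_rc_32_31 lc_b_rc_9_2 lc_b_rc_9_2 lc_b_Cert_tree lc_b_Cert_tree lc_b_rc_7_0 lc_b_Cert_tree lc_b_rc_7_0 lc_b_Cert_tree lc_b_rc_7_0 lc_b_Cert_tree lc_b_rc_7_0 lc_b_Cert_tree lc_b_Cert_tree) (@D3.rec (fun _ => (Cert rels S Gen.b)) lc_b_rc_8_2 lc_b_Cert_tree lc_b_rc_7_0 lc_b_Cert_tree lc_b_rc_8_2 lc_b_Cert_tree lc_b_rc_7_0 lc_b_rc_9_2 lc_b_Cert_tree lc_b_rc_8_2 lc_b_rc_9_2 lc_b_Cert_tree lc_b_rc_8_2 lc_b_rc_9_2 lc_b_rc_8_2 lc_b_rc_9_0 lc_b_rc_9_2 lc_b_rc_11_2 lc_b_rc_10_2 lc_b_rc_10_2 lc_b_rc_7_0 lc_b_rc_7_0 lc_b_rc_9_2 lc_b_rc_10_2 lc_b_Cert_tree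 lc_b_Cert_tree lc_b_Cert_tree lc_b_Cert_tree lc_b_rc_7_0 lc_b_Cert_tree lc_b_rc_7_0 lc_b_Cert_tree lc_b_Cert_tree lc_b_rc_11_2 lc_b_Cert_tree lc_b_rc_7_0 lc_b_Cert_tree lc_b_rc_12_2 lc_b_Cert_tree lc_b_rc_7_0) (@D3.rec (fun _ => (Cert rels S Gen.b)) lc_b_rc_7_0 lc_b_Cert_tree lc_b_rc_7_0 lc_b_Cert_tree lc_b_rc_9_2 lc_b_rc_8_2 lc_b_Cert_tree lc_b_rc_7_0 lc_b_rc_7_1 lc_b_rc_8_2 lc_b_Cert_tree lc_b_rc_7_0 lc_b_rc_7_0 lc_b_Cert_tree lc_b_Cert_tree lc_b_rc_9_2 lc_b_Cert_tree lc_b_rc_7_0 lc_b_Cert_tree lc_b_Cert_tree lc_b_rc_8_2 lc_b_rc_11_2 lc_b_rc_7_0 lc_b_Cert_tree lc_b_Cert_tree lc_b_rc_9_2 lc_b_Cert_tree lc_b_rc_7_0 lc_b_Cert_tree lc_b_Cert_tree lc_b_rc_8_2 lc_b_rc_12_2 lc_b_rc_7_0 lc_b_rc_7_0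 lc_b_Cert_tree lc_b_rc_10_2 lc_b_Cert_tree lc_b_rc_7_0 lc_b_rc_9_2 lc_b_rc_7_0) (@D3.rec (fun _ => (Cert rels S Gen.b)) lc_b_rc_8_2 lc_b_Cert_tree lc_b_rc_10_2 lc_b_Cert_tree lc_b_rc_7_0 lc_b_rc_9_2 lc_b_rc_9_2 lc_b_rc_12_2 lc_b_Cert_tree lc_b_rc_1_7 lc_b_rc_7_0 lc_b_rc_8_2 lc_b_rc_10_2 lc_b_Cert_tree lc_b_Cert_tree lc_b_rc_1_3 lc_b_rc_9_2 lc_b_rc_30_13 lc_b_Cert_tree lc_b_rc_8_2 lc_b_rc_7_0 lc_b_rc_9_2 lc_b_rc_10_2 lc_b_Cert_tree lc_b_Cert_tree lc_b_rc_9_2 lc_b_rc_1_5 lc_b_rc_9_2 lc_b_Cert_tree lc_b_Cert_tree lc_b_Cert_tree lc_b_Cert_tree lc_b_rc_7_0 lc_b_rc_7_0 lc_b_Cert_tree lc_b_Cert_tree lc_b_rc_7_0 lc_b_Cert_tree lc_b_rc_7_0 lc_b_Cert_tree)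
def ce_b_3 : D2 → D3 → (Cert rels S Gen.b) := @D2.rec (fun _ => D3 → (Cert rels S Gen.b)) (@D3.rec (fun _ => (Cert rels S Gen.b)) lc_b_Cert_tree lc_b_rc_11_2 lc_b_Cert_tree lc_b_rc_7_0 lc_b_Cert_tree lc_b_rc_12_2 lc_b_Cert_tree lc_b_rc_7_0 lc_b_Cert_tree lc_b_rc_8_2 lc_b_Cert_tree lc_b_rc_7_0 lc_b_Cert_tree lc_b_rc_8_2 lc_b_Cert_tree lc_b_rc_7_0 lc_b_rc_7_0 lc_b_Cert_tree lc_b_Cert_tree lc_b_rc_9_2 lc_b_Cert_tree lc_b_rc_7_0 lc_b_Cert_tree lc_b_Cert_tree lc_b_rc_8_2 lc_b_rc_11_2 lc_b_rc_7_0 lc_b_Cert_tree lc_b_Cert_tree lc_b_rc_9_2 lc_b_Cert_tree lc_b_rc_7_0 lc_b_Cert_tree lc_b_Cert_tree lc_b_rc_8_2 lc_b_rc_12_2 lc_b_Cert_tree lc_b_rc_7_0 lc_b_rc_9_2 lc_b_rc_10_2) (@D3.rec (fun _ => (Cert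 rels S Gen.b)) lc_b_Cert_tree lc_b_rc_7_0 lc_b_Cert_tree lc_b_rc_11_4 lc_b_rc_8_2 lc_b_Cert_tree lc_b_rc_9_2 lc_b_Cert_tree lc_b_rc_7_0 lc_b_rc_9_2 lc_b_rc_10_2 lc_b_Cert_tree lc_b_rc_7_0 lc_b_Cert_tree lc_b_rc_11_2 lc_b_rc_8_2 lc_b_Cert_tree lc_b_rc_9_2 lc_b_rc_7_0 lc_b_rc_9_2 lc_b_Cert_tree lc_b_rc_9_2 lc_b_rc_9_2 lc_b_Cert_tree lc_b_rc_7_0 lc_b_rc_9_2 lc_b_Cert_tree lc_b_rc_9_2 lc_b_rc_9_2 lc_b_Cert_tree lc_b_rc_7_0 lc_b_rc_7_0 lc_b_Cert_tree lc_b_Cert_tree lc_b_rc_7_0 lc_b_Cert_tree lc_b_rc_7_0 lc_b_Cert_tree lc_b_Cert_tree lc_b_rc_9_2) (@D3.rec (fun _ => (Cert rels S Gen.b)) lc_b_rc_12_2 lc_b_Cert_tree lc_b_rc_8_2 lc_b_rc_7_1 lc_b_rc_7_0 lc_b_rc_30_13 lc_b_rc_30_9 lc_b_Cert_tree lc_b_rc_7_0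 lc_b_Cert_tree lc_b_rc_8_2 lc_b_rc_11_2 lc_b_rc_7_0 lc_b_rc_9_2 lc_b_rc_7_1 lc_b_Cert_tree lc_b_rc_7_0 lc_b_Cert_tree lc_b_rc_8_2 lc_b_rc_12_2 lc_b_rc_1_5 lc_b_Cert_tree lc_b_rc_11_2 lc_b_Cert_tree lc_b_rc_7_0 lc_b_rc_9_2 lc_b_Cert_tree lc_b_rc_7_0 lc_b_rc_10_2 lc_b_Cert_tree lc_b_rc_7_0 lc_b_Cert_tree lc_b_Cert_tree lc_b_rc_8_2 lc_b_Cert_tree lc_b_rc_7_0 lc_b_rc_7_0 lc_b_Cert_tree lc_b_Cert_tree lc_b_rc_9_2) (@D3.rec (fun _ => (Cert rels S Gen.b)) lc_b_rc_11_2 lc_b_Cert_tree lc_b_rc_1_5 lc_b_Cert_tree lc_b_Cert_tree lc_b_rc_12_2 lc_b_rc_7_0 lc_b_rc_9_2 lc_b_Cert_tree lc_b_rc_7_0 lc_b_rc_10_2 lc_b_Cert_tree lc_b_rc_7_0 lc_b_Cert_tree lc_b_Cert_tree lc_b_rc_8_2 lc_b_Cert_tree lc_b_rc_7_0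 lc_b_rc_7_0 lc_b_Cert_tree lc_b_Cert_tree lc_b_rc_9_2 lc_b_rc_12_2 lc_b_Cert_tree lc_b_rc_7_0 lc_b_rc_9_2 lc_b_rc_1_5 lc_b_rc_9_2 lc_b_rc_32_5 lc_b_rc_12_2 lc_b_rc_10_2 lc_b_rc_7_0 lc_b_rc_10_2 lc_b_Cert_tree lc_b_Cert_tree lc_b_rc_7_0 lc_b_Cert_tree lc_b_Cert_tree lc_b_rc_8_2 lc_b_Cert_tree) (@D3.rec (fun _ => (Cert rels S Gen.b)) lc_b_rc_7_0 lc_b_Cert_tree lc_b_rc_9_2 lc_b_rc_7_0 lc_b_rc_9_2 lc_b_Cert_tree lc_b_rc_10_2 lc_b_rc_7_0 lc_b_rc_9_2 lc_b_rc_1_5 lc_b_rc_9_2 lc_b_rc_11_2 lc_b_rc_1_3 lc_b_rc_10_2 lc_b_rc_7_0 lc_b_rc_10_2 lc_b_Cert_tree lc_b_Cert_tree lc_b_rc_7_0 lc_b_Cert_tree lc_b_Cert_tree lc_b_rc_8_2 lc_b_Cert_tree lc_b_rc_7_0 lc_b_Cert_tree lc_b_rc_9_2 lc_b_rc_7_0 lc_b_rc_9_2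 lc_b_Cert_tree lc_b_rc_10_2 lc_b_rc_7_0 lc_b_rc_10_2 lc_b_Cert_tree lc_b_rc_9_2 lc_b_rc_10_2 lc_b_rc_11_2 lc_b_Cert_tree lc_b_rc_10_2 lc_b_Cert_tree lc_b_rc_32_20) (@D3.rec (fun _ => (Cert rels S Gen.b)) lc_b_Cert_tree lc_b_rc_7_0 lc_b_Cert_tree lc_b_rc_7_0 lc_b_rc_31_9 lc_b_rc_31_6 lc_b_rc_8_2 lc_b_Cert_tree lc_b_Cert_tree lc_b_rc_7_0 lc_b_rc_9_2 lc_b_rc_10_2 lc_b_rc_7_0 lc_b_rc_10_2 lc_b_Cert_tree lc_b_rc_9_2 lc_b_rc_10_2 lc_b_rc_31_3 lc_b_rc_12_2 lc_b_rc_10_2 lc_b_Cert_tree lc_b_rc_7_1 lc_b_rc_31_9 lc_b_rc_7_0 lc_b_Cert_tree lc_b_rc_7_0 lc_b_rc_30_1 lc_b_rc_9_2 lc_b_rc_8_2 lc_b_Cert_tree lc_b_Cert_tree lc_b_rc_7_0 lc_b_rc_9_2 lc_b_rc_10_2 lc_b_rc_7_0 lc_b_rc_10_2 lc_b_rc_9_2 lc_b_Cert_tree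 lc_b_rc_9_2 lc_b_rc_11_2) (@D3.rec (fun _ => (Cert rels S Gen.b)) lc_b_Cert_tree lc_b_Cert_tree lc_b_rc_7_0 lc_b_rc_8_2 lc_b_Cert_tree lc_b_rc_7_0 lc_b_Cert_tree lc_b_rc_8_2 lc_b_rc_11_2 lc_b_rc_8_2 lc_b_Cert_tree lc_b_rc_9_2 lc_b_Cert_tree lc_b_Cert_tree lc_b_rc_10_2 lc_b_rc_11_2 lc_b_rc_12_2 lc_b_rc_9_2 lc_b_rc_7_0 lc_b_rc_10_2 lc_b_Cert_tree lc_b_rc_9_2 lc_b_rc_9_2 lc_b_rc_8_2 lc_b_rc_12_2 lc_b_rc_7_0 lc_b_rc_8_2 lc_b_Cert_tree lc_b_Cert_tree lc_b_rc_7_0 lc_b_Cert_tree lc_b_rc_8_2 lc_b_rc_12_2 lc_b_rc_11_2 lc_b_Cert_tree lc_b_rc_9_2 lc_b_Cert_tree lc_b_Cert_tree lc_b_rc_10_2 lc_b_rc_11_2) (@D3.rec (fun _ => (Cert rels S Gen.b)) lc_b_rc_12_2 lc_b_rc_9_2 lc_b_rc_1_7 lc_b_rc_8_4 lc_b_rc_8_4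 lc_b_rc_9_2 lc_b_Cert_tree lc_b_Cert_tree lc_b_rc_8_2 lc_b_rc_9_2 lc_b_rc_9_2 lc_b_Cert_tree lc_b_Cert_tree lc_b_rc_7_0 lc_b_Cert_tree lc_b_Cert_tree lc_b_Cert_tree lc_b_Cert_tree lc_b_rc_7_0 lc_b_Cert_tree lc_b_rc_7_0 lc_b_Cert_tree lc_b_Cert_tree lc_b_Cert_tree lc_b_rc_7_0 lc_b_rc_7_0 lc_b_Cert_tree lc_b_rc_12_2 lc_b_Cert_tree lc_b_rc_11_2 lc_b_rc_9_2 lc_b_Cert_tree lc_b_Cert_tree lc_b_Cert_tree lc_b_rc_1_3 lc_b_rc_1_3 lc_b_rc_7_0 lc_b_rc_7_0 lc_b_rc_9_2 lc_b_rc_10_2) (@D3.rec (fun _ => (Cert rels S Gen.b)) lc_b_rc_10_0 lc_b_rc_10_0 lc_b_Cert_tree lc_b_Cert_tree lc_b_rc_7_0 lc_b_Cert_tree lc_b_rc_7_0 lc_b_Cert_tree lc_b_rc_9_2 lc_b_Cert_tree lc_b_rc_7_0 lc_b_rc_9_2 lc_b_Cert_tree lc_b_rc_7_0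 lc_b_rc_7_0 lc_b_rc_7_0 lc_b_Cert_tree lc_b_rc_8_2 lc_b_rc_12_2 lc_b_Cert_tree lc_b_rc_8_2 lc_b_rc_11_2 lc_b_rc_7_0 lc_b_Cert_tree lc_b_Cert_tree lc_b_rc_7_0 lc_b_Cert_tree lc_b_Cert_tree lc_b_rc_7_0 lc_b_rc_7_0 lc_b_Cert_tree lc_b_rc_11_2 lc_b_Cert_tree lc_b_rc_7_0 lc_b_Cert_tree lc_b_rc_12_2 lc_b_Cert_tree lc_b_rc_7_0 lc_b_rc_7_0 lc_b_Cert_tree) (@D3.rec (fun _ => (Cert rels S Gen.b)) lc_b_rc_7_0 lc_b_Cert_tree lc_b_Cert_tree lc_b_rc_8_2 lc_b_Cert_tree lc_b_rc_7_0 lc_b_Cert_tree lc_b_rc_8_2 lc_b_Cert_tree lc_b_rc_7_0 lc_b_rc_7_0 lc_b_Cert_tree lc_b_Cert_tree lc_b_rc_9_2 lc_b_rc_12_2 lc_b_rc_7_0 lc_b_Cert_tree lc_b_Cert_tree lc_b_rc_8_2 lc_b_rc_11_2 lc_b_rc_7_0 lc_b_Cert_tree lc_b_Cert_tree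 lc_b_rc_9_2 lc_b_rc_10_2 lc_b_rc_7_0 lc_b_Cert_tree lc_b_Cert_tree lc_b_rc_8_2 lc_b_rc_12_2 lc_b_rc_10_2 lc_b_Cert_tree lc_b_rc_9_2 lc_b_rc_10_2 lc_b_Cert_tree lc_b_rc_9_2 lc_b_rc_9_2 lc_b_Cert_tree lc_b_rc_9_2 lc_b_Cert_tree) (@D3.rec (fun _ => (Cert rels S Gen.b)) lc_b_rc_7_0 lc_b_rc_7_0 lc_b_rc_8_4 lc_b_rc_8_2 lc_b_rc_12_2 lc_b_rc_9_2 lc_b_rc_8_2 lc_b_rc_7_1 lc_b_rc_10_2 lc_b_rc_8_2 lc_b_Cert_tree lc_b_rc_7_0 lc_b_rc_10_2 lc_b_rc_8_2 lc_b_Cert_tree lc_b_rc_7_0 lc_b_rc_7_0 lc_b_Cert_tree lc_b_rc_11_2 lc_b_Cert_tree lc_b_rc_7_0 lc_b_Cert_tree lc_b_rc_8_2 lc_b_rc_11_2 lc_b_rc_7_0 lc_b_Cert_tree lc_b_rc_12_2 lc_b_Cert_tree lc_b_rc_7_0 lc_b_Cert_tree lc_b_rc_8_2 lc_b_rc_12_2 lc_b_rc_7_0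 lc_b_rc_7_0 lc_b_rc_8_2 lc_b_rc_8_2 lc_b_rc_12_2 lc_b_rc_32_62 lc_b_rc_8_2 lc_b_rc_11_2) (@D3.rec (fun _ => (Cert rels S Gen.b)) lc_b_rc_11_2 lc_b_rc_8_2 lc_b_Cert_tree lc_b_rc_7_0 lc_b_rc_12_2 lc_b_rc_7_0 lc_b_Cert_tree lc_b_rc_7_0 lc_b_rc_7_0 lc_b_rc_10_2 lc_b_Cert_tree lc_b_rc_9_2 lc_b_Cert_tree lc_b_rc_7_0 lc_b_Cert_tree lc_b_Cert_tree lc_b_rc_8_2 lc_b_rc_11_2 lc_b_rc_7_0 lc_b_rc_8_4 lc_b_Cert_tree lc_b_rc_10_0 lc_b_Cert_tree lc_b_rc_7_0 lc_b_Cert_tree lc_b_Cert_tree lc_b_rc_8_2 lc_b_rc_12_2 lc_b_rc_1_5 lc_b_rc_30_5 lc_b_rc_32_67 lc_b_Cert_tree lc_b_rc_7_0 lc_b_rc_7_0 lc_b_Cert_tree lc_b_rc_7_0 lc_b_rc_9_0 lc_b_rc_10_2 lc_b_rc_12_2 lc_b_Cert_tree) (@D3.rec (fun _ => (Cert rels S Gen.b))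 lc_b_Cert_tree lc_b_rc_8_2 lc_b_Cert_tree lc_b_rc_7_0 lc_b_rc_7_0 lc_b_Cert_tree lc_b_Cert_tree lc_b_rc_9_2 lc_b_rc_1_9 lc_b_Cert_tree lc_b_rc_8_2 lc_b_rc_32_46 lc_b_Cert_tree lc_b_rc_32_67 lc_b_rc_7_0 lc_b_rc_32_36 lc_b_Cert_tree lc_b_rc_7_0 lc_b_rc_8_4 lc_b_rc_10_2 lc_b_rc_11_2 lc_b_Cert_tree lc_b_Cert_tree lc_b_rc_8_2 lc_b_Cert_tree lc_b_rc_7_0 lc_b_rc_7_0 lc_b_Cert_tree lc_b_Cert_tree lc_b_rc_9_2 lc_b_rc_8_2 lc_b_Cert_tree lc_b_rc_7_0 lc_b_rc_10_2 lc_b_rc_7_0 lc_b_rc_9_2 lc_b_Cert_tree lc_b_rc_10_2 lc_b_rc_7_0 lc_b_rc_10_2) (@D3.rec (fun _ => (Cert rels S Gen.b)) lc_b_rc_7_0 lc_b_rc_9_2 lc_b_Cert_tree lc_b_rc_10_2 lc_b_rc_8_2 lc_b_rc_9_2 lc_b_rc_10_2 lc_b_rc_11_2 lc_b_rc_12_2 lc_b_rc_10_2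 lc_b_rc_11_4 lc_b_rc_7_0 lc_b_rc_9_2 lc_b_rc_8_2 lc_b_rc_9_2 lc_b_rc_10_2 lc_b_rc_11_2 lc_b_rc_12_2 lc_b_rc_10_2 lc_b_rc_8_2 lc_b_rc_7_0 lc_b_rc_9_2 lc_b_Cert_tree lc_b_Cert_tree lc_b_Cert_tree lc_b_Cert_tree lc_b_rc_7_0 lc_b_Cert_tree lc_b_rc_7_0 lc_b_Cert_tree lc_b_rc_7_0 lc_b_Cert_tree lc_b_Cert_tree lc_b_rc_7_0 lc_b_rc_7_0 lc_b_Cert_tree lc_b_rc_8_2 lc_b_rc_12_2 lc_b_Cert_tree lc_b_rc_8_2) (@D3.rec (fun _ => (Cert rels S Gen.b)) lc_b_rc_7_1 lc_b_rc_7_0 lc_b_Cert_tree lc_b_rc_7_0 lc_b_Cert_tree lc_b_Cert_tree lc_b_rc_8_2 lc_b_Cert_tree lc_b_rc_7_0 lc_b_Cert_tree lc_b_rc_8_2 lc_b_Cert_tree lc_b_rc_7_0 lc_b_rc_7_0 lc_b_Cert_tree lc_b_rc_11_2 lc_b_Cert_tree lc_b_rc_7_0 lc_b_Cert_tree lc_b_rc_8_2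 lc_b_rc_11_2 lc_b_rc_7_0 lc_b_Cert_tree lc_b_rc_12_2 lc_b_Cert_tree lc_b_rc_7_0 lc_b_Cert_tree lc_b_rc_8_2 lc_b_rc_12_2 lc_b_rc_7_0 lc_b_Cert_tree lc_b_Cert_tree lc_b_rc_9_2 lc_b_Cert_tree lc_b_Cert_tree lc_b_rc_7_0 lc_b_Cert_tree lc_b_Cert_tree lc_b_rc_9_2 lc_b_Cert_tree) (@D3.rec (fun _ => (Cert rels S Gen.b)) lc_b_Cert_tree lc_b_rc_1_5 lc_b_rc_11_2 lc_b_Cert_tree lc_b_rc_7_0 lc_b_rc_9_2 lc_b_Cert_tree lc_b_rc_7_0 lc_b_rc_8_2 lc_b_rc_10_2 lc_b_Cert_tree lc_b_rc_7_0 lc_b_Cert_tree lc_b_rc_7_0 lc_b_rc_1_5 lc_b_Cert_tree lc_b_rc_12_2 lc_b_rc_7_0 lc_b_rc_9_2 lc_b_Cert_tree lc_b_rc_7_0 lc_b_rc_8_2 lc_b_rc_10_2 lc_b_Cert_tree lc_b_rc_7_0 lc_b_Cert_tree lc_b_rc_7_0 lc_b_Cert_tree lc_b_rc_9_2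 lc_b_rc_11_2 lc_b_Cert_tree lc_b_rc_10_2 lc_b_rc_7_0 lc_b_Cert_tree lc_b_rc_7_0 lc_b_Cert_tree lc_b_rc_11_2 lc_b_Cert_tree lc_b_rc_9_2 lc_b_Cert_tree) (@D3.rec (fun _ => (Cert rels S Gen.b)) lc_b_rc_12_2 lc_b_rc_10_2 lc_b_rc_7_0 lc_b_Cert_tree lc_b_rc_7_0 lc_b_Cert_tree lc_b_rc_12_2 lc_b_Cert_tree lc_b_rc_9_2 lc_b_rc_11_2 lc_b_rc_12_2 lc_b_rc_10_2 lc_b_Cert_tree lc_b_rc_9_2 lc_b_rc_11_2 lc_b_rc_12_2 lc_b_rc_10_2 lc_b_rc_7_0 lc_b_rc_7_0 lc_b_rc_7_0 lc_b_Cert_tree lc_b_rc_7_0 lc_b_Cert_tree lc_b_Cert_tree lc_b_rc_7_0 lc_b_Cert_tree lc_b_rc_7_0 lc_b_rc_7_0 lc_b_rc_7_1 lc_b_rc_12_4 lc_b_rc_7_0 lc_b_rc_1_3 lc_b_rc_8_4 lc_b_rc_31_6 lc_b_Cert_tree lc_b_rc_11_2 lc_b_rc_12_2 lc_b_rc_7_0 lc_b_rc_9_2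 lc_b_rc_8_4) (@D3.rec (fun _ => (Cert rels S Gen.b)) lc_b_rc_11_2 lc_b_Cert_tree lc_b_rc_7_0 lc_b_Cert_tree lc_b_rc_8_2 lc_b_rc_11_2 lc_b_rc_7_0 lc_b_Cert_tree lc_b_rc_7_0 lc_b_rc_9_2 lc_b_rc_30_17 lc_b_rc_7_1 lc_b_rc_1_5 lc_b_Cert_tree lc_b_rc_11_2 lc_b_rc_12_2 lc_b_rc_7_0 lc_b_rc_9_2 lc_b_rc_12_4 lc_b_rc_12_2 lc_b_Cert_tree lc_b_rc_7_0 lc_b_Cert_tree lc_b_rc_8_2 lc_b_rc_12_2 lc_b_rc_7_0 lc_b_Cert_tree lc_b_rc_31_6 lc_b_rc_9_2 lc_b_rc_8_4 lc_b_rc_31_9 lc_b_rc_31_6 lc_b_Cert_tree lc_b_rc_31_3 lc_b_rc_7_0 lc_b_Cert_tree lc_b_rc_9_2 lc_b_rc_11_2 lc_b_Cert_tree lc_b_rc_10_2) (@D3.rec (fun _ => (Cert rels S Gen.b)) lc_b_Cert_tree lc_b_rc_7_0 lc_b_Cert_tree lc_b_rc_8_2 lc_b_rc_11_2 lc_b_rc_7_0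 lc_b_rc_10_2 lc_b_rc_7_1 lc_b_Cert_tree lc_b_rc_7_0 lc_b_Cert_tree lc_b_Cert_tree lc_b_Cert_tree lc_b_rc_7_0 lc_b_rc_12_2 lc_b_rc_8_2 lc_b_rc_12_2 lc_b_Cert_tree lc_b_rc_11_2 lc_b_rc_7_0 lc_b_rc_1_5 lc_b_rc_1_1 lc_b_rc_9_2 lc_b_Cert_tree lc_b_rc_12_2 lc_b_rc_10_2 lc_b_Cert_tree lc_b_rc_7_0 lc_b_Cert_tree lc_b_rc_8_2 lc_b_rc_12_2 lc_b_rc_7_0 lc_b_rc_10_2 lc_b_rc_31_9 lc_b_Cert_tree lc_b_rc_7_0 lc_b_Cert_tree lc_b_Cert_tree lc_b_Cert_tree lc_b_rc_7_0) (@D3.rec (fun _ => (Cert rels S Gen.b)) lc_b_rc_1_7 lc_b_rc_8_2 lc_b_rc_11_2 lc_b_rc_7_0 lc_b_rc_10_0 lc_b_Cert_tree lc_b_Cert_tree lc_b_rc_8_2 lc_b_rc_10_2 lc_b_rc_11_2 lc_b_Cert_tree lc_b_Cert_tree lc_b_rc_7_0 lc_b_Cert_tree lc_b_Cert_tree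 lc_b_rc_7_0 lc_b_Cert_tree lc_b_rc_11_2 lc_b_Cert_tree lc_b_rc_10_2 lc_b_rc_30_1 lc_b_Cert_tree lc_b_rc_9_2 lc_b_Cert_tree lc_b_rc_7_0 lc_b_rc_7_0 lc_b_Cert_tree lc_b_rc_8_2 lc_b_rc_11_2 lc_b_rc_7_0 lc_b_rc_1_7 lc_b_Cert_tree lc_b_rc_7_0 lc_b_rc_10_0 lc_b_Cert_tree lc_b_Cert_tree lc_b_rc_8_2 lc_b_rc_10_2 lc_b_Cert_tree lc_b_rc_12_2) (@D3.rec (fun _ => (Cert rels S Gen.b)) lc_b_rc_7_0 lc_b_Cert_tree lc_b_Cert_tree lc_b_Cert_tree lc_b_rc_7_0 lc_b_Cert_tree lc_b_rc_12_2 lc_b_Cert_tree lc_b_rc_10_2 lc_b_Cert_tree lc_b_rc_9_2 lc_b_Cert_tree lc_b_rc_7_0 lc_b_rc_7_0 lc_b_Cert_tree lc_b_rc_8_2 lc_b_rc_12_2 lc_b_rc_7_0 lc_b_rc_1_7 lc_b_Cert_tree lc_b_rc_7_0 lc_b_rc_9_2 lc_b_Cert_tree lc_b_rc_7_0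 lc_b_rc_7_0 lc_b_rc_8_2 lc_b_rc_10_2 lc_b_rc_9_0 lc_b_rc_10_0 lc_b_rc_10_2 lc_b_rc_11_2 lc_b_Cert_tree lc_b_rc_9_2 lc_b_rc_9_0 lc_b_Cert_tree lc_b_Cert_tree lc_b_rc_7_0 lc_b_Cert_tree lc_b_rc_9_2 lc_b_Cert_tree) (@D3.rec (fun _ => (Cert rels S Gen.b)) lc_b_rc_7_0 lc_b_rc_8_4 lc_b_Cert_tree lc_b_rc_7_0 lc_b_rc_7_1 lc_b_rc_8_2 lc_b_rc_11_2 lc_b_rc_8_2 lc_b_Cert_tree lc_b_rc_9_2 lc_b_rc_7_0 lc_b_rc_9_2 lc_b_Cert_tree lc_b_rc_7_0 lc_b_rc_7_0 lc_b_rc_8_2 lc_b_rc_10_2 lc_b_rc_12_2 lc_b_rc_1_3 lc_b_rc_10_2 lc_b_Cert_tree lc_b_rc_12_2 lc_b_rc_9_2 lc_b_Cert_tree lc_b_rc_8_4 lc_b_rc_7_0 lc_b_rc_11_4 lc_b_rc_11_4 lc_b_rc_9_2 lc_b_Cert_tree lc_b_rc_7_0 lc_b_rc_9_2 lc_b_Cert_tree lc_b_rc_7_0 lc_b_rc_1_7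 lc_b_rc_8_2 lc_b_rc_12_2 lc_b_rc_8_2 lc_b_Cert_tree lc_b_rc_9_2) (@D3.rec (fun _ => (Cert rels S Gen.b)) lc_b_rc_7_0 lc_b_Cert_tree lc_b_rc_12_2 lc_b_Cert_tree lc_b_rc_1_5 lc_b_rc_7_1 lc_b_rc_10_2 lc_b_rc_11_4 lc_b_Cert_tree lc_b_Cert_tree lc_b_rc_7_0 lc_b_rc_9_0 lc_b_Cert_tree lc_b_Cert_tree lc_b_rc_7_0 lc_b_rc_7_0 lc_b_Cert_tree lc_b_rc_12_2 lc_b_Cert_tree lc_b_rc_7_0 lc_b_Cert_tree lc_b_rc_7_0 lc_b_Cert_tree lc_b_rc_8_2 lc_b_Cert_tree lc_b_rc_7_0 lc_b_rc_7_0 lc_b_Cert_tree lc_b_Cert_tree lc_b_rc_9_2 lc_b_Cert_tree lc_b_rc_7_0 lc_b_rc_7_1 lc_b_Cert_tree lc_b_rc_8_2 lc_b_rc_12_2 lc_b_Cert_tree lc_b_rc_9_2 lc_b_Cert_tree lc_b_rc_7_0) (@D3.rec (fun _ => (Cert rels S Gen.b)) lc_b_rc_9_2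 lc_b_Cert_tree lc_b_rc_10_2 lc_b_Cert_tree lc_b_rc_7_0 lc_b_rc_9_2 lc_b_rc_7_0 lc_b_Cert_tree lc_b_rc_11_2 lc_b_Cert_tree lc_b_rc_1_5 lc_b_rc_7_1 lc_b_rc_10_2 lc_b_Cert_tree lc_b_rc_32_46 lc_b_Cert_tree lc_b_rc_7_0 lc_b_rc_32_57 lc_b_Cert_tree lc_b_rc_7_0 lc_b_rc_8_2 lc_b_Cert_tree lc_b_rc_11_2 lc_b_Cert_tree lc_b_rc_7_0 lc_b_rc_7_0 lc_b_Cert_tree lc_b_rc_7_0 lc_b_Cert_tree lc_b_rc_8_2 lc_b_Cert_tree lc_b_rc_7_0 lc_b_rc_7_0 lc_b_Cert_tree lc_b_Cert_tree lc_b_rc_9_2 lc_b_Cert_tree lc_b_rc_7_0 lc_b_rc_11_4 lc_b_Cert_tree) (@D3.rec (fun _ => (Cert rels S Gen.b)) lc_b_rc_8_2 lc_b_rc_11_2 lc_b_Cert_tree lc_b_rc_9_2 lc_b_Cert_tree lc_b_rc_7_0 lc_b_rc_9_2 lc_b_Cert_tree lc_b_rc_10_2 lc_b_Cert_tree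 lc_b_rc_7_0 lc_b_rc_9_2 lc_b_rc_7_0 lc_b_rc_9_2 lc_b_rc_10_0 lc_b_rc_9_2 lc_b_rc_11_2 lc_b_rc_7_1 lc_b_rc_10_2 lc_b_rc_12_4 lc_b_rc_7_0 lc_b_Cert_tree lc_b_rc_12_2 lc_b_rc_7_0 lc_b_rc_8_2 lc_b_Cert_tree lc_b_Cert_tree lc_b_Cert_tree lc_b_rc_7_0 lc_b_rc_9_2 lc_b_rc_10_0 lc_b_rc_9_2 lc_b_rc_31_3 lc_b_rc_8_2 lc_b_rc_10_2 lc_b_rc_11_4 lc_b_rc_7_0 lc_b_Cert_tree lc_b_rc_11_2 lc_b_rc_7_0) (@D3.rec (fun _ => (Cert rels S Gen.b)) lc_b_Cert_tree lc_b_rc_12_4 lc_b_Cert_tree lc_b_Cert_tree lc_b_rc_1_3 lc_b_rc_9_2 lc_b_rc_9_2 lc_b_rc_7_0 lc_b_rc_7_0 lc_b_rc_10_2 lc_b_Cert_tree lc_b_Cert_tree lc_b_rc_7_0 lc_b_Cert_tree lc_b_rc_7_0 lc_b_Cert_tree lc_b_rc_7_0 lc_b_Cert_tree lc_b_rc_7_0 lc_b_Cert_tree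 lc_b_Cert_tree lc_b_rc_8_2 lc_b_Cert_tree lc_b_rc_7_0 lc_b_Cert_tree lc_b_rc_8_2 lc_b_Cert_tree lc_b_rc_7_0 lc_b_Cert_tree lc_b_rc_9_2 lc_b_Cert_tree lc_b_Cert_tree lc_b_Cert_tree lc_b_Cert_tree lc_b_rc_7_0 lc_b_rc_7_0 lc_b_Cert_tree lc_b_rc_8_2 lc_b_rc_12_2 lc_b_Cert_tree)
def ce_b_4 : D2 → D3 → (Cert rels S Gen.b) := @D2.rec (fun _ => D3 → (Cert rels S Gen.b)) (@D3.rec (fun _ => (Cert rels S Gen.b)) lc_b_rc_8_2 lc_b_rc_11_2 lc_b_rc_7_0 lc_b_Cert_tree lc_b_Cert_tree lc_b_rc_9_2 lc_b_Cert_tree lc_b_rc_1_3 lc_b_rc_7_0 lc_b_Cert_tree lc_b_Cert_tree lc_b_rc_9_2 lc_b_Cert_tree lc_b_rc_12_4 lc_b_rc_7_0 lc_b_Cert_tree lc_b_rc_7_0 lc_b_Cert_tree lc_b_rc_8_2 lc_b_Cert_tree lc_b_rc_7_0 lc_b_rc_8_2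 lc_b_Cert_tree lc_b_rc_7_0 lc_b_rc_7_0 lc_b_rc_8_4 lc_b_rc_9_2 lc_b_Cert_tree lc_b_rc_7_0 lc_b_Cert_tree lc_b_rc_8_2 lc_b_rc_11_2 lc_b_rc_7_0 lc_b_rc_8_4 lc_b_rc_9_2 lc_b_Cert_tree lc_b_rc_7_0 lc_b_Cert_tree lc_b_rc_8_2 lc_b_rc_12_2) (@D3.rec (fun _ => (Cert rels S Gen.b)) lc_b_rc_11_2 lc_b_rc_12_2 lc_b_rc_7_0 lc_b_rc_9_2 lc_b_rc_30_17 lc_b_rc_11_2 lc_b_Cert_tree lc_b_rc_7_0 lc_b_Cert_tree lc_b_rc_8_2 lc_b_rc_11_2 lc_b_rc_7_0 lc_b_Cert_tree lc_b_rc_7_1 lc_b_rc_9_2 lc_b_Cert_tree lc_b_Cert_tree lc_b_rc_11_2 lc_b_rc_12_2 lc_b_rc_7_0 lc_b_rc_9_2 lc_b_rc_31_0 lc_b_rc_12_2 lc_b_Cert_tree lc_b_rc_7_0 lc_b_Cert_tree lc_b_rc_8_2 lc_b_rc_12_2 lc_b_rc_7_0 lc_b_Cert_tree lc_b_rc_31_6 lc_b_rc_9_2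 lc_b_Cert_tree lc_b_Cert_tree lc_b_rc_11_2 lc_b_Cert_tree lc_b_rc_7_0 lc_b_rc_9_2 lc_b_Cert_tree lc_b_rc_7_0) (@D3.rec (fun _ => (Cert rels S Gen.b)) lc_b_Cert_tree lc_b_rc_10_2 lc_b_Cert_tree lc_b_rc_7_0 lc_b_Cert_tree lc_b_Cert_tree lc_b_rc_8_2 lc_b_Cert_tree lc_b_rc_7_0 lc_b_rc_7_0 lc_b_Cert_tree lc_b_Cert_tree lc_b_rc_9_2 lc_b_Cert_tree lc_b_Cert_tree lc_b_Cert_tree lc_b_rc_12_2 lc_b_rc_7_0 lc_b_rc_9_2 lc_b_Cert_tree lc_b_rc_7_0 lc_b_Cert_tree lc_b_rc_10_2 lc_b_Cert_tree lc_b_rc_7_0 lc_b_Cert_tree lc_b_Cert_tree lc_b_rc_8_2 lc_b_Cert_tree lc_b_rc_7_0 lc_b_rc_7_0 lc_b_Cert_tree lc_b_Cert_tree lc_b_rc_9_2 lc_b_Cert_tree lc_b_Cert_tree lc_b_Cert_tree lc_b_Cert_tree lc_b_rc_7_0 lc_b_rc_9_2)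 (@D3.rec (fun _ => (Cert rels S Gen.b)) lc_b_rc_10_2 lc_b_Cert_tree lc_b_Cert_tree lc_b_rc_7_0 lc_b_Cert_tree lc_b_rc_1_5 lc_b_rc_9_2 lc_b_rc_11_2 lc_b_Cert_tree lc_b_Cert_tree lc_b_rc_10_2 lc_b_Cert_tree lc_b_rc_7_0 lc_b_Cert_tree lc_b_rc_8_2 lc_b_rc_11_2 lc_b_rc_7_0 lc_b_rc_9_2 lc_b_rc_10_2 lc_b_Cert_tree lc_b_Cert_tree lc_b_rc_7_0 lc_b_Cert_tree lc_b_Cert_tree lc_b_Cert_tree lc_b_rc_7_0 lc_b_rc_7_0 lc_b_Cert_tree lc_b_rc_12_2 lc_b_Cert_tree lc_b_rc_7_0 lc_b_rc_8_2 lc_b_rc_8_2 lc_b_rc_12_2 lc_b_rc_1_5 lc_b_Cert_tree lc_b_Cert_tree lc_b_rc_12_2 lc_b_rc_7_0 lc_b_rc_9_2) (@D3.rec (fun _ => (Cert rels S Gen.b)) lc_b_Cert_tree lc_b_rc_7_0 lc_b_Cert_tree lc_b_rc_10_2 lc_b_rc_11_2 lc_b_Cert_tree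 lc_b_rc_7_0 lc_b_Cert_tree lc_b_Cert_tree lc_b_rc_7_0 lc_b_rc_9_2 lc_b_Cert_tree lc_b_rc_1_1 lc_b_rc_7_0 lc_b_rc_12_4 lc_b_Cert_tree lc_b_rc_1_5 lc_b_rc_9_2 lc_b_Cert_tree lc_b_rc_12_2 lc_b_Cert_tree lc_b_rc_10_2 lc_b_Cert_tree lc_b_rc_7_0 lc_b_Cert_tree lc_b_rc_8_2 lc_b_rc_12_2 lc_b_rc_7_0 lc_b_rc_9_2 lc_b_rc_10_2 lc_b_Cert_tree lc_b_Cert_tree lc_b_rc_7_0 lc_b_Cert_tree lc_b_Cert_tree lc_b_Cert_tree lc_b_rc_7_0 lc_b_rc_7_0 lc_b_Cert_tree lc_b_rc_11_2) (@D3.rec (fun _ => (Cert rels S Gen.b)) lc_b_Cert_tree lc_b_rc_7_0 lc_b_rc_12_2 lc_b_rc_8_2 lc_b_rc_11_2 lc_b_rc_1_5 lc_b_Cert_tree lc_b_rc_11_2 lc_b_Cert_tree lc_b_rc_7_0 lc_b_rc_9_2 lc_b_Cert_tree lc_b_rc_7_0 lc_b_Cert_tree lc_b_rc_10_2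 lc_b_rc_12_2 lc_b_Cert_tree lc_b_rc_7_0 lc_b_Cert_tree lc_b_rc_10_2 lc_b_rc_11_2 lc_b_rc_7_0 lc_b_rc_10_2 lc_b_Cert_tree lc_b_Cert_tree lc_b_rc_7_0 lc_b_rc_9_2 lc_b_Cert_tree lc_b_rc_9_2 lc_b_rc_11_2 lc_b_rc_12_2 lc_b_rc_10_2 lc_b_rc_7_0 lc_b_rc_10_2 lc_b_Cert_tree lc_b_rc_10_2 lc_b_rc_12_2 lc_b_rc_7_0 lc_b_rc_8_4 lc_b_Cert_tree) (@D3.rec (fun _ => (Cert rels S Gen.b)) lc_b_Cert_tree lc_b_rc_7_0 lc_b_rc_9_2 lc_b_Cert_tree lc_b_rc_9_2 lc_b_rc_10_2 lc_b_rc_12_2 lc_b_rc_10_2 lc_b_rc_7_0 lc_b_rc_10_2 lc_b_rc_7_0 lc_b_rc_9_2 lc_b_Cert_tree lc_b_rc_7_0 lc_b_rc_9_2 lc_b_Cert_tree lc_b_rc_9_2 lc_b_rc_8_0 lc_b_rc_8_2 lc_b_rc_8_2 lc_b_rc_7_0 lc_b_rc_7_0 lc_b_rc_12_0 lc_b_rc_8_2 lc_b_rc_12_2 lc_b_rc_11_0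 lc_b_rc_8_2 lc_b_rc_7_1 lc_b_rc_7_0 lc_b_rc_9_2 lc_b_rc_10_2 lc_b_rc_8_4 lc_b_rc_8_4 lc_b_Cert_tree lc_b_Cert_tree lc_b_rc_7_0 lc_b_Cert_tree lc_b_rc_7_0 lc_b_Cert_tree lc_b_rc_8_2) (@D3.rec (fun _ => (Cert rels S Gen.b)) lc_b_Cert_tree lc_b_rc_7_0 lc_b_rc_8_2 lc_b_Cert_tree lc_b_rc_7_0 lc_b_rc_7_0 lc_b_rc_30_9 lc_b_rc_9_2 lc_b_rc_11_4 lc_b_rc_7_0 lc_b_rc_11_2 lc_b_rc_8_2 lc_b_rc_11_2 lc_b_rc_7_0 lc_b_rc_8_4 lc_b_rc_9_2 lc_b_rc_8_4 lc_b_rc_7_0 lc_b_rc_12_2 lc_b_rc_8_2 lc_b_rc_12_2 lc_b_rc_1_5 lc_b_Cert_tree lc_b_rc_31_0 lc_b_rc_12_4 lc_b_rc_7_0 lc_b_rc_9_2 lc_b_Cert_tree lc_b_rc_7_0 lc_b_rc_10_2 lc_b_Cert_tree lc_b_rc_7_0 lc_b_Cert_tree lc_b_rc_1_5 lc_b_Cert_tree lc_b_rc_11_4 lc_b_rc_1_5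 lc_b_rc_7_0 lc_b_rc_9_2 lc_b_Cert_tree) (@D3.rec (fun _ => (Cert rels S Gen.b)) lc_b_rc_7_0 lc_b_rc_10_2 lc_b_Cert_tree lc_b_rc_7_0 lc_b_Cert_tree lc_b_rc_31_9 lc_b_rc_7_0 lc_b_Cert_tree lc_b_rc_7_1 lc_b_rc_11_4 lc_b_Cert_tree lc_b_rc_9_2 lc_b_rc_11_2 lc_b_rc_12_2 lc_b_rc_9_2 lc_b_rc_10_2 lc_b_rc_7_0 lc_b_rc_9_2 lc_b_rc_32_57 lc_b_rc_8_4 lc_b_Cert_tree lc_b_rc_7_0 lc_b_rc_8_2 lc_b_rc_11_2 lc_b_rc_7_0 lc_b_Cert_tree lc_b_rc_9_2 lc_b_Cert_tree lc_b_rc_1_5 lc_b_Cert_tree lc_b_rc_12_2 lc_b_rc_7_0 lc_b_rc_9_2 lc_b_Cert_tree lc_b_rc_32_26 lc_b_rc_10_2 lc_b_Cert_tree lc_b_rc_7_0 lc_b_Cert_tree lc_b_rc_7_0) (@D3.rec (fun _ => (Cert rels S Gen.b)) lc_b_rc_7_0 lc_b_rc_7_0 lc_b_Cert_tree lc_b_rc_12_4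 lc_b_rc_31_9 lc_b_Cert_tree lc_b_rc_9_2 lc_b_rc_11_2 lc_b_rc_12_2 lc_b_rc_12_4 lc_b_rc_10_2 lc_b_rc_7_0 lc_b_rc_9_2 lc_b_rc_32_57 lc_b_rc_8_4 lc_b_Cert_tree lc_b_rc_7_0 lc_b_rc_8_2 lc_b_rc_12_2 lc_b_rc_7_0 lc_b_Cert_tree lc_b_rc_9_2 lc_b_Cert_tree lc_b_rc_1_5 lc_b_Cert_tree lc_b_rc_11_2 lc_b_rc_7_0 lc_b_rc_9_2 lc_b_Cert_tree lc_b_rc_7_0 lc_b_rc_10_2 lc_b_Cert_tree lc_b_rc_7_0 lc_b_Cert_tree lc_b_rc_7_0 lc_b_rc_7_0 lc_b_rc_7_0 lc_b_Cert_tree lc_b_rc_31_0 lc_b_Cert_tree) (@D3.rec (fun _ => (Cert rels S Gen.b)) lc_b_Cert_tree lc_b_rc_7_0 lc_b_Cert_tree lc_b_rc_7_0 lc_b_rc_31_6 lc_b_rc_8_2 lc_b_rc_31_6 lc_b_rc_7_0 lc_b_rc_1_5 lc_b_rc_12_2 lc_b_Cert_tree lc_b_Cert_tree lc_b_rc_10_2 lc_b_rc_11_2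 lc_b_Cert_tree lc_b_Cert_tree lc_b_rc_7_0 lc_b_rc_31_3 lc_b_rc_7_0 lc_b_rc_8_4 lc_b_rc_30_5 lc_b_Cert_tree lc_b_rc_7_0 lc_b_Cert_tree lc_b_rc_8_2 lc_b_rc_11_2 lc_b_rc_7_0 lc_b_Cert_tree lc_b_rc_12_2 lc_b_rc_9_2 lc_b_Cert_tree lc_b_rc_10_2 lc_b_Cert_tree lc_b_rc_9_2 lc_b_Cert_tree lc_b_rc_7_0 lc_b_Cert_tree lc_b_rc_7_0 lc_b_Cert_tree lc_b_Cert_tree) (@D3.rec (fun _ => (Cert rels S Gen.b)) lc_b_rc_8_2 lc_b_Cert_tree lc_b_rc_7_0 lc_b_rc_7_0 lc_b_Cert_tree lc_b_rc_9_2 lc_b_Cert_tree lc_b_rc_7_0 lc_b_rc_1_7 lc_b_rc_8_2 lc_b_rc_12_2 lc_b_rc_7_1 lc_b_Cert_tree lc_b_rc_11_2 lc_b_rc_12_2 lc_b_rc_7_0 lc_b_rc_9_2 lc_b_Cert_tree lc_b_rc_10_2 lc_b_Cert_tree lc_b_rc_7_0 lc_b_rc_12_2 lc_b_rc_8_2 lc_b_rc_12_2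 lc_b_rc_7_0 lc_b_rc_31_6 lc_b_rc_9_2 lc_b_Cert_tree lc_b_rc_31_6 lc_b_Cert_tree lc_b_rc_12_2 lc_b_rc_11_2 lc_b_rc_7_0 lc_b_rc_9_2 lc_b_Cert_tree lc_b_Cert_tree lc_b_rc_7_0 lc_b_rc_1_5 lc_b_Cert_tree lc_b_rc_9_2) (@D3.rec (fun _ => (Cert rels S Gen.b)) lc_b_Cert_tree lc_b_rc_12_2 lc_b_Cert_tree lc_b_rc_10_2 lc_b_rc_7_1 lc_b_rc_7_0 lc_b_rc_8_2 lc_b_rc_7_0 lc_b_rc_9_2 lc_b_rc_10_2 lc_b_rc_30_17 lc_b_rc_11_2 lc_b_Cert_tree lc_b_rc_7_0 lc_b_rc_7_1 lc_b_rc_8_2 lc_b_rc_11_2 lc_b_rc_7_0 lc_b_rc_7_0 lc_b_Cert_tree lc_b_rc_1_5 lc_b_Cert_tree lc_b_rc_7_0 lc_b_Cert_tree lc_b_Cert_tree lc_b_rc_7_1 lc_b_rc_8_2 lc_b_rc_7_0 lc_b_rc_7_0 lc_b_rc_1_5 lc_b_Cert_tree lc_b_rc_11_2 lc_b_Cert_tree lc_b_rc_10_2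 lc_b_Cert_tree lc_b_rc_12_2 lc_b_rc_7_0 lc_b_rc_8_0 lc_b_Cert_tree lc_b_rc_7_0) (@D3.rec (fun _ => (Cert rels S Gen.b)) lc_b_rc_8_4 lc_b_rc_31_9 lc_b_Cert_tree lc_b_rc_7_0 lc_b_Cert_tree lc_b_rc_8_2 lc_b_rc_12_2 lc_b_rc_7_0 lc_b_Cert_tree lc_b_rc_9_2 lc_b_Cert_tree lc_b_rc_10_2 lc_b_Cert_tree lc_b_rc_9_2 lc_b_Cert_tree lc_b_rc_7_0 lc_b_Cert_tree lc_b_rc_7_0 lc_b_Cert_tree lc_b_Cert_tree lc_b_rc_8_2 lc_b_Cert_tree lc_b_rc_7_0 lc_b_rc_7_0 lc_b_Cert_tree lc_b_rc_9_2 lc_b_Cert_tree lc_b_rc_7_0 lc_b_rc_7_1 lc_b_rc_8_2 lc_b_rc_11_2 lc_b_rc_31_3 lc_b_Cert_tree lc_b_rc_11_2 lc_b_rc_12_2 lc_b_rc_7_0 lc_b_rc_9_2 lc_b_Cert_tree lc_b_rc_10_2 lc_b_Cert_tree) (@D3.rec (fun _ => (Cert rels S Gen.b))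 lc_b_rc_7_0 lc_b_rc_11_2 lc_b_rc_8_2 lc_b_rc_11_2 lc_b_rc_8_2 lc_b_rc_7_0 lc_b_rc_9_2 lc_b_Cert_tree lc_b_rc_7_0 lc_b_Cert_tree lc_b_rc_12_2 lc_b_rc_11_2 lc_b_rc_7_0 lc_b_rc_9_2 lc_b_Cert_tree lc_b_Cert_tree lc_b_rc_7_0 lc_b_rc_7_0 lc_b_Cert_tree lc_b_rc_9_2 lc_b_rc_11_2 lc_b_Cert_tree lc_b_rc_10_2 lc_b_rc_31_12 lc_b_rc_7_0 lc_b_rc_8_2 lc_b_rc_7_0 lc_b_rc_10_2 lc_b_rc_1_1 lc_b_rc_12_2 lc_b_Cert_tree lc_b_rc_7_0 lc_b_rc_1_7 lc_b_rc_8_2 lc_b_rc_12_2 lc_b_Cert_tree lc_b_rc_10_2 lc_b_rc_7_0 lc_b_rc_10_0 lc_b_rc_1_5) (@D3.rec (fun _ => (Cert rels S Gen.b)) lc_b_rc_1_5 lc_b_rc_12_2 lc_b_rc_7_0 lc_b_rc_1_7 lc_b_rc_8_2 lc_b_rc_8_2 lc_b_rc_10_2 lc_b_rc_11_2 lc_b_Cert_tree lc_b_rc_7_0 lc_b_rc_7_0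 lc_b_rc_9_2 lc_b_rc_8_4 lc_b_rc_9_2 lc_b_rc_8_4 lc_b_rc_8_2 lc_b_Cert_tree lc_b_rc_10_2 lc_b_rc_7_0 lc_b_rc_9_2 lc_b_Cert_tree lc_b_Cert_tree lc_b_rc_8_2 lc_b_rc_10_2 lc_b_rc_10_0 lc_b_rc_12_2 lc_b_Cert_tree lc_b_Cert_tree lc_b_rc_31_3 lc_b_rc_10_2 lc_b_rc_11_2 lc_b_rc_8_0 lc_b_rc_9_2 lc_b_Cert_tree lc_b_rc_10_2 lc_b_rc_7_0 lc_b_rc_9_2 lc_b_rc_1_5 lc_b_rc_8_4 lc_b_rc_11_2) (@D3.rec (fun _ => (Cert rels S Gen.b)) lc_b_rc_7_0 lc_b_rc_9_2 lc_b_rc_11_4 lc_b_rc_8_2 lc_b_rc_10_2 lc_b_rc_12_2 lc_b_Cert_tree lc_b_rc_7_0 lc_b_rc_7_0 lc_b_rc_9_2 lc_b_rc_11_2 lc_b_rc_9_2 lc_b_rc_8_2 lc_b_rc_12_2 lc_b_Cert_tree lc_b_rc_10_2 lc_b_rc_7_0 lc_b_rc_9_2 lc_b_Cert_tree lc_b_Cert_tree lc_b_rc_8_2 lc_b_rc_10_2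 lc_b_rc_11_2 lc_b_rc_1_5 lc_b_Cert_tree lc_b_Cert_tree lc_b_rc_12_2 lc_b_rc_10_2 lc_b_rc_11_2 lc_b_rc_12_2 lc_b_rc_9_2 lc_b_rc_32_46 lc_b_rc_11_2 lc_b_rc_12_2 lc_b_Cert_tree lc_b_Cert_tree lc_b_rc_7_0 lc_b_rc_30_17 lc_b_rc_10_2 lc_b_Cert_tree) (@D3.rec (fun _ => (Cert rels S Gen.b)) lc_b_rc_7_0 lc_b_rc_9_2 lc_b_Cert_tree lc_b_rc_31_3 lc_b_rc_10_2 lc_b_rc_11_2 lc_b_rc_12_2 lc_b_rc_9_2 lc_b_rc_7_0 lc_b_rc_30_9 lc_b_rc_10_2 lc_b_rc_31_3 lc_b_Cert_tree lc_b_rc_8_2 lc_b_rc_10_2 lc_b_rc_11_2 lc_b_rc_7_1 lc_b_rc_9_2 lc_b_rc_11_2 lc_b_Cert_tree lc_b_rc_9_2 lc_b_rc_1_7 lc_b_rc_11_2 lc_b_Cert_tree lc_b_Cert_tree lc_b_rc_7_0 lc_b_rc_30_5 lc_b_rc_10_2 lc_b_Cert_tree lc_b_rc_7_0 lc_b_rc_9_2 lc_b_Cert_tree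 lc_b_rc_11_0 lc_b_rc_10_2 lc_b_rc_11_2 lc_b_rc_12_2 lc_b_rc_9_2 lc_b_rc_7_0 lc_b_rc_1_7 lc_b_Cert_tree) (@D3.rec (fun _ => (Cert rels S Gen.b)) lc_b_rc_8_2 lc_b_rc_10_2 lc_b_rc_11_2 lc_b_rc_12_2 lc_b_rc_9_2 lc_b_rc_9_2 lc_b_rc_7_0 lc_b_rc_7_0 lc_b_Cert_tree lc_b_rc_8_2 lc_b_rc_12_2 lc_b_rc_9_2 lc_b_rc_8_2 lc_b_Cert_tree lc_b_rc_7_0 lc_b_rc_7_0 lc_b_Cert_tree lc_b_rc_11_2 lc_b_rc_7_0 lc_b_rc_7_0 lc_b_Cert_tree lc_b_rc_9_2 lc_b_Cert_tree lc_b_Cert_tree lc_b_Cert_tree lc_b_rc_7_0 lc_b_rc_10_2 lc_b_Cert_tree lc_b_rc_7_0 lc_b_rc_11_2 lc_b_rc_8_2 lc_b_rc_11_2 lc_b_rc_9_2 lc_b_rc_8_2 lc_b_rc_9_0 lc_b_rc_7_0 lc_b_Cert_tree lc_b_rc_8_2 lc_b_rc_7_0 lc_b_Cert_tree) (@D3.rec (fun _ => (Cert rels S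 Gen.b)) lc_b_rc_9_2 lc_b_Cert_tree lc_b_Cert_tree lc_b_Cert_tree lc_b_rc_7_0 lc_b_rc_10_2 lc_b_Cert_tree lc_b_rc_7_0 lc_b_rc_10_2 lc_b_rc_12_4 lc_b_Cert_tree lc_b_Cert_tree lc_b_rc_9_2 lc_b_rc_12_4 lc_b_rc_12_2 lc_b_rc_11_2 lc_b_rc_9_2 lc_b_rc_8_0 lc_b_rc_7_0 lc_b_rc_7_0 lc_b_rc_1_5 lc_b_rc_1_5 lc_b_rc_9_2 lc_b_rc_10_2 lc_b_rc_8_2 lc_b_Cert_tree lc_b_Cert_tree lc_b_rc_7_0 lc_b_rc_7_0 lc_b_Cert_tree lc_b_Cert_tree lc_b_rc_7_0 lc_b_Cert_tree lc_b_rc_7_0 lc_b_Cert_tree lc_b_rc_30_13 lc_b_Cert_tree lc_b_rc_7_0 lc_b_rc_11_4 lc_b_Cert_tree) (@D3.rec (fun _ => (Cert rels S Gen.b)) lc_b_rc_7_0 lc_b_rc_9_2 lc_b_rc_8_2 lc_b_rc_12_2 lc_b_rc_1_7 lc_b_rc_8_2 lc_b_rc_11_2 lc_b_Cert_tree lc_b_Cert_tree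 lc_b_Cert_tree lc_b_Cert_tree lc_b_rc_7_1 lc_b_rc_10_0 lc_b_Cert_tree lc_b_Cert_tree lc_b_Cert_tree lc_b_rc_12_2 lc_b_Cert_tree lc_b_rc_7_1 lc_b_rc_7_0 lc_b_rc_7_0 lc_b_Cert_tree lc_b_rc_8_2 lc_b_rc_11_2 lc_b_rc_7_0 lc_b_rc_7_0 lc_b_Cert_tree lc_b_rc_8_2 lc_b_rc_12_2 lc_b_rc_1_5 lc_b_Cert_tree lc_b_rc_7_0 lc_b_rc_7_0 lc_b_rc_1_5 lc_b_Cert_tree lc_b_rc_7_0 lc_b_rc_7_0 lc_b_rc_7_0 lc_b_rc_7_0 lc_b_Cert_tree) (@D3.rec (fun _ => (Cert rels S Gen.b)) lc_b_rc_8_2 lc_b_rc_12_2 lc_b_Cert_tree lc_b_rc_8_2 lc_b_rc_11_2 lc_b_rc_9_2 lc_b_rc_9_2 lc_b_rc_7_0 lc_b_rc_7_0 lc_b_rc_9_2 lc_b_rc_8_2 lc_b_rc_1_5 lc_b_rc_10_0 lc_b_rc_12_2 lc_b_rc_1_5 lc_b_rc_7_0 lc_b_Cert_tree lc_b_rc_12_4 lc_b_rc_9_2 lc_b_rc_8_4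 lc_b_Cert_tree lc_b_rc_7_0 lc_b_Cert_tree lc_b_rc_31_0 lc_b_rc_9_2 lc_b_rc_8_4 lc_b_Cert_tree lc_b_rc_10_2 lc_b_rc_10_2 lc_b_rc_8_0 lc_b_rc_12_4 lc_b_rc_7_0 lc_b_Cert_tree lc_b_rc_7_0 lc_b_Cert_tree lc_b_Cert_tree lc_b_rc_11_2 lc_b_Cert_tree lc_b_rc_7_0 lc_b_Cert_tree) (@D3.rec (fun _ => (Cert rels S Gen.b)) lc_b_rc_12_2 lc_b_Cert_tree lc_b_rc_7_0 lc_b_Cert_tree lc_b_rc_8_2 lc_b_Cert_tree lc_b_rc_7_0 lc_b_Cert_tree lc_b_rc_8_2 lc_b_Cert_tree lc_b_rc_7_0 lc_b_rc_7_0 lc_b_Cert_tree lc_b_Cert_tree lc_b_rc_9_2 lc_b_Cert_tree lc_b_rc_7_0 lc_b_Cert_tree lc_b_Cert_tree lc_b_rc_8_2 lc_b_rc_11_2 lc_b_rc_7_0 lc_b_Cert_tree lc_b_Cert_tree lc_b_rc_9_2 lc_b_Cert_tree lc_b_rc_7_0 lc_b_Cert_tree lc_b_Cert_tree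 lc_b_rc_8_2 lc_b_rc_12_2 lc_b_rc_10_2 lc_b_Cert_tree lc_b_rc_7_0 lc_b_rc_9_2 lc_b_rc_10_2 lc_b_Cert_tree lc_b_rc_7_0 lc_b_rc_9_2 lc_b_rc_11_2) (@D3.rec (fun _ => (Cert rels S Gen.b)) lc_b_rc_31_12 lc_b_rc_10_2 lc_b_rc_10_2 lc_b_rc_32_72 lc_b_rc_8_2 lc_b_rc_9_2 lc_b_Cert_tree lc_b_Cert_tree lc_b_rc_7_0 lc_b_rc_7_0 lc_b_rc_7_0 lc_b_rc_31_12 lc_b_rc_7_0 lc_b_rc_7_0 lc_b_rc_11_2 lc_b_rc_8_2 lc_b_Cert_tree lc_b_rc_7_0 lc_b_rc_12_2 lc_b_rc_12_4 lc_b_Cert_tree lc_b_rc_7_0 lc_b_rc_7_0 lc_b_rc_7_0 lc_b_Cert_tree lc_b_rc_7_0 lc_b_rc_31_3 lc_b_rc_8_2 lc_b_rc_9_2 lc_b_rc_7_0 lc_b_rc_9_2 lc_b_Cert_tree lc_b_rc_7_0 lc_b_rc_7_1 lc_b_rc_8_2 lc_b_rc_9_2 lc_b_rc_10_2 lc_b_rc_10_2 lc_b_Cert_tree lc_b_rc_7_0)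 (@D3.rec (fun _ => (Cert rels S Gen.b)) lc_b_rc_7_0 lc_b_rc_10_2 lc_b_Cert_tree lc_b_rc_7_0 lc_b_rc_7_0 lc_b_Cert_tree lc_b_rc_7_0 lc_b_Cert_tree lc_b_Cert_tree lc_b_rc_8_2 lc_b_rc_11_2 lc_b_rc_1_3 lc_b_Cert_tree lc_b_rc_7_0 lc_b_Cert_tree lc_b_Cert_tree lc_b_rc_8_2 lc_b_rc_12_2 lc_b_Cert_tree lc_b_rc_7_0 lc_b_rc_1_7 lc_b_Cert_tree lc_b_rc_7_0 lc_b_rc_10_2 lc_b_Cert_tree lc_b_rc_7_0 lc_b_Cert_tree lc_b_rc_31_6 lc_b_rc_12_2 lc_b_Cert_tree lc_b_rc_7_0 lc_b_rc_7_0 lc_b_rc_7_0 lc_b_rc_12_0 lc_b_rc_9_2 lc_b_rc_11_2 lc_b_Cert_tree lc_b_Cert_tree lc_b_rc_7_0 lc_b_rc_8_2) (@D3.rec (fun _ => (Cert rels S Gen.b)) lc_b_Cert_tree lc_b_rc_7_0 lc_b_rc_10_2 lc_b_Cert_tree lc_b_rc_7_0 lc_b_Cert_tree lc_b_rc_1_7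 lc_b_rc_11_2 lc_b_Cert_tree lc_b_rc_7_0 lc_b_rc_7_0 lc_b_rc_31_6 lc_b_rc_31_6 lc_b_rc_9_2 lc_b_rc_12_2 lc_b_Cert_tree lc_b_Cert_tree lc_b_rc_12_2 lc_b_rc_10_2 lc_b_rc_7_0 lc_b_rc_10_2 lc_b_rc_31_12 lc_b_Cert_tree lc_b_rc_7_0 lc_b_Cert_tree lc_b_rc_11_2 lc_b_rc_10_2 lc_b_Cert_tree lc_b_rc_11_2 lc_b_rc_1_7 lc_b_rc_7_0 lc_b_rc_10_2 lc_b_rc_1_9 lc_b_Cert_tree lc_b_rc_7_0 lc_b_Cert_tree lc_b_rc_12_2 lc_b_rc_10_2 lc_b_rc_30_1 lc_b_rc_7_0)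
def ce_b_5 : D2 → D3 → (Cert rels S Gen.b) := @D2.rec (fun _ => D3 → (Cert rels S Gen.b)) (@D3.rec (fun _ => (Cert rels S Gen.b)) lc_b_Cert_tree lc_b_rc_10_2 lc_b_Cert_tree lc_b_rc_7_0 lc_b_rc_7_0 lc_b_rc_10_2 lc_b_rc_8_4 lc_b_rc_7_0 lc_b_Cert_tree lc_b_rc_10_2 lc_b_Cert_tree lc_b_rc_7_0 lc_b_rc_7_0 lc_b_rc_10_2 lc_b_rc_1_5 lc_b_Cert_tree lc_b_Cert_tree lc_b_Cert_tree lc_b_Cert_tree lc_b_rc_7_0 lc_b_Cert_tree lc_b_rc_7_0 lc_b_Cert_tree lc_b_rc_7_0 lc_b_rc_7_0 lc_b_Cert_tree lc_b_rc_11_0 lc_b_rc_12_2 lc_b_Cert_tree lc_b_rc_8_2 lc_b_rc_7_1 lc_b_rc_7_0 lc_b_rc_7_0 lc_b_Cert_tree lc_b_rc_8_2 lc_b_Cert_tree lc_b_rc_7_0 lc_b_Cert_tree lc_b_rc_8_2 lc_b_Cert_tree) (@D3.rec (fun _ => (Cert rels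 S Gen.b)) lc_b_rc_7_0 lc_b_rc_7_0 lc_b_rc_10_2 lc_b_rc_11_2 lc_b_Cert_tree lc_b_rc_7_0 lc_b_Cert_tree lc_b_rc_8_2 lc_b_rc_11_2 lc_b_rc_7_0 lc_b_rc_31_12 lc_b_rc_12_2 lc_b_Cert_tree lc_b_rc_7_0 lc_b_Cert_tree lc_b_rc_8_2 lc_b_rc_12_2 lc_b_rc_7_0 lc_b_Cert_tree lc_b_Cert_tree lc_b_rc_7_0 lc_b_Cert_tree lc_b_Cert_tree lc_b_rc_8_2 lc_b_rc_11_2 lc_b_rc_7_0 lc_b_Cert_tree lc_b_Cert_tree lc_b_rc_7_0 lc_b_Cert_tree lc_b_Cert_tree lc_b_rc_8_2 lc_b_rc_12_2 lc_b_rc_1_5 lc_b_Cert_tree lc_b_rc_11_2 lc_b_Cert_tree lc_b_rc_7_0 lc_b_rc_9_2 lc_b_Cert_tree) (@D3.rec (fun _ => (Cert rels S Gen.b)) lc_b_rc_7_0 lc_b_rc_10_2 lc_b_Cert_tree lc_b_rc_7_0 lc_b_Cert_tree lc_b_Cert_tree lc_b_rc_8_2 lc_b_Cert_tree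 lc_b_rc_7_0 lc_b_rc_7_0 lc_b_Cert_tree lc_b_Cert_tree lc_b_rc_9_2 lc_b_rc_11_2 lc_b_Cert_tree lc_b_rc_8_2 lc_b_Cert_tree lc_b_Cert_tree lc_b_rc_12_2 lc_b_rc_7_0 lc_b_rc_9_2 lc_b_Cert_tree lc_b_rc_7_0 lc_b_rc_10_2 lc_b_Cert_tree lc_b_rc_7_0 lc_b_Cert_tree lc_b_Cert_tree lc_b_rc_8_2 lc_b_Cert_tree lc_b_rc_7_0 lc_b_rc_7_0 lc_b_Cert_tree lc_b_Cert_tree lc_b_rc_9_2 lc_b_rc_12_2 lc_b_Cert_tree lc_b_rc_7_0 lc_b_rc_1_3 lc_b_rc_10_2) (@D3.rec (fun _ => (Cert rels S Gen.b)) lc_b_rc_9_2 lc_b_rc_32_26 lc_b_rc_12_2 lc_b_rc_10_2 lc_b_Cert_tree lc_b_rc_7_0 lc_b_Cert_tree lc_b_Cert_tree lc_b_rc_8_2 lc_b_Cert_tree lc_b_rc_7_0 lc_b_Cert_tree lc_b_rc_9_2 lc_b_rc_7_0 lc_b_rc_9_2 lc_b_Cert_tree lc_b_rc_10_2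 lc_b_rc_7_0 lc_b_rc_1_3 lc_b_rc_10_2 lc_b_rc_9_2 lc_b_rc_11_2 lc_b_rc_1_3 lc_b_rc_10_2 lc_b_Cert_tree lc_b_rc_7_0 lc_b_Cert_tree lc_b_Cert_tree lc_b_rc_8_2 lc_b_Cert_tree lc_b_rc_7_0 lc_b_Cert_tree lc_b_rc_9_2 lc_b_rc_7_0 lc_b_rc_9_2 lc_b_Cert_tree lc_b_rc_10_2 lc_b_rc_1_7 lc_b_rc_9_2 lc_b_rc_12_2) (@D3.rec (fun _ => (Cert rels S Gen.b)) lc_b_rc_30_13 lc_b_rc_7_0 lc_b_rc_9_2 lc_b_Cert_tree lc_b_Cert_tree lc_b_rc_7_0 lc_b_rc_9_2 lc_b_rc_32_57 lc_b_rc_9_2 lc_b_rc_11_2 lc_b_rc_9_2 lc_b_rc_7_0 lc_b_rc_9_2 lc_b_Cert_tree lc_b_Cert_tree lc_b_rc_7_0 lc_b_rc_9_2 lc_b_rc_7_0 lc_b_rc_7_0 lc_b_Cert_tree lc_b_rc_8_2 lc_b_Cert_tree lc_b_rc_7_0 lc_b_Cert_tree lc_b_rc_9_2 lc_b_Cert_tree lc_b_rc_7_0 lc_b_rc_7_0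 lc_b_rc_8_4 lc_b_Cert_tree lc_b_Cert_tree lc_b_rc_11_4 lc_b_rc_7_0 lc_b_rc_12_2 lc_b_Cert_tree lc_b_Cert_tree lc_b_rc_12_4 lc_b_rc_1_5 lc_b_rc_8_4 lc_b_rc_11_2) (@D3.rec (fun _ => (Cert rels S Gen.b)) lc_b_rc_12_2 lc_b_rc_30_9 lc_b_Cert_tree lc_b_rc_7_0 lc_b_Cert_tree lc_b_rc_8_2 lc_b_rc_11_2 lc_b_rc_7_0 lc_b_Cert_tree lc_b_rc_7_1 lc_b_rc_9_2 lc_b_Cert_tree lc_b_Cert_tree lc_b_rc_1_5 lc_b_rc_10_0 lc_b_rc_11_2 lc_b_rc_12_2 lc_b_rc_10_2 lc_b_Cert_tree lc_b_rc_7_0 lc_b_Cert_tree lc_b_rc_8_2 lc_b_rc_12_2 lc_b_rc_7_0 lc_b_Cert_tree lc_b_rc_31_6 lc_b_rc_9_2 lc_b_Cert_tree lc_b_Cert_tree lc_b_rc_1_3 lc_b_Cert_tree lc_b_Cert_tree lc_b_rc_7_0 lc_b_rc_31_9 lc_b_rc_30_17 lc_b_Cert_tree lc_b_Cert_tree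 lc_b_rc_7_0 lc_b_Cert_tree lc_b_rc_9_2) (@D3.rec (fun _ => (Cert rels S Gen.b)) lc_b_rc_7_1 lc_b_Cert_tree lc_b_rc_10_2 lc_b_Cert_tree lc_b_rc_7_0 lc_b_Cert_tree lc_b_rc_8_2 lc_b_rc_11_2 lc_b_Cert_tree lc_b_rc_7_0 lc_b_Cert_tree lc_b_Cert_tree lc_b_rc_8_2 lc_b_Cert_tree lc_b_rc_7_0 lc_b_rc_7_0 lc_b_Cert_tree lc_b_rc_9_2 lc_b_Cert_tree lc_b_rc_7_0 lc_b_rc_12_2 lc_b_rc_8_2 lc_b_rc_12_2 lc_b_rc_1_5 lc_b_rc_8_4 lc_b_rc_31_6 lc_b_rc_12_2 lc_b_rc_7_0 lc_b_rc_9_2 lc_b_rc_8_4 lc_b_rc_7_0 lc_b_rc_10_2 lc_b_rc_7_0 lc_b_rc_1_3 lc_b_Cert_tree lc_b_Cert_tree lc_b_rc_7_0 lc_b_rc_1_3 lc_b_Cert_tree lc_b_rc_8_4) (@D3.rec (fun _ => (Cert rels S Gen.b)) lc_b_rc_7_0 lc_b_rc_12_4 lc_b_Cert_tree lc_b_rc_9_2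 lc_b_Cert_tree lc_b_rc_30_1 lc_b_rc_10_2 lc_b_Cert_tree lc_b_rc_7_0 lc_b_Cert_tree lc_b_rc_8_2 lc_b_rc_12_2 lc_b_Cert_tree lc_b_rc_7_0 lc_b_Cert_tree lc_b_Cert_tree lc_b_rc_8_2 lc_b_Cert_tree lc_b_rc_7_0 lc_b_rc_7_0 lc_b_rc_7_0 lc_b_rc_11_2 lc_b_rc_8_2 lc_b_rc_11_2 lc_b_rc_1_5 lc_b_rc_1_5 lc_b_rc_11_2 lc_b_rc_9_2 lc_b_rc_7_0 lc_b_rc_8_4 lc_b_rc_7_0 lc_b_rc_10_2 lc_b_rc_7_0 lc_b_rc_9_0 lc_b_rc_9_2 lc_b_rc_11_2 lc_b_rc_8_2 lc_b_rc_10_2 lc_b_rc_9_2 lc_b_rc_10_0) (@D3.rec (fun _ => (Cert rels S Gen.b)) lc_b_Cert_tree lc_b_rc_10_2 lc_b_rc_12_2 lc_b_Cert_tree lc_b_Cert_tree lc_b_rc_10_2 lc_b_rc_32_52 lc_b_Cert_tree lc_b_rc_9_2 lc_b_Cert_tree lc_b_rc_7_0 lc_b_rc_7_0 lc_b_Cert_tree lc_b_rc_1_7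 lc_b_rc_31_9 lc_b_Cert_tree lc_b_rc_7_0 lc_b_rc_7_0 lc_b_rc_1_7 lc_b_Cert_tree lc_b_rc_9_2 lc_b_Cert_tree lc_b_rc_7_0 lc_b_Cert_tree lc_b_rc_9_0 lc_b_rc_12_2 lc_b_rc_7_0 lc_b_rc_9_2 lc_b_Cert_tree lc_b_rc_10_2 lc_b_Cert_tree lc_b_rc_9_2 lc_b_rc_11_2 lc_b_rc_12_2 lc_b_rc_10_2 lc_b_rc_7_0 lc_b_rc_10_2 lc_b_rc_10_2 lc_b_rc_9_2 lc_b_rc_8_2) (@D3.rec (fun _ => (Cert rels S Gen.b)) lc_b_rc_12_2 lc_b_rc_1_3 lc_b_rc_9_2 lc_b_Cert_tree lc_b_rc_10_0 lc_b_rc_10_2 lc_b_rc_11_2 lc_b_Cert_tree lc_b_Cert_tree lc_b_rc_10_2 lc_b_Cert_tree lc_b_rc_11_0 lc_b_rc_9_2 lc_b_Cert_tree lc_b_rc_7_0 lc_b_rc_7_0 lc_b_Cert_tree lc_b_rc_1_7 lc_b_rc_8_2 lc_b_Cert_tree lc_b_rc_7_0 lc_b_rc_7_0 lc_b_rc_30_13 lc_b_Cert_tree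 lc_b_rc_9_2 lc_b_Cert_tree lc_b_rc_7_0 lc_b_Cert_tree lc_b_rc_11_0 lc_b_rc_11_2 lc_b_rc_7_0 lc_b_rc_9_2 lc_b_Cert_tree lc_b_rc_10_2 lc_b_Cert_tree lc_b_rc_9_2 lc_b_rc_11_2 lc_b_rc_12_2 lc_b_rc_10_2 lc_b_rc_7_0) (@D3.rec (fun _ => (Cert rels S Gen.b)) lc_b_rc_10_2 lc_b_rc_1_7 lc_b_rc_10_2 lc_b_rc_12_2 lc_b_rc_1_3 lc_b_rc_7_0 lc_b_rc_9_2 lc_b_rc_10_2 lc_b_Cert_tree lc_b_Cert_tree lc_b_rc_10_2 lc_b_rc_1_9 lc_b_rc_7_0 lc_b_Cert_tree lc_b_rc_7_0 lc_b_rc_7_0 lc_b_rc_1_9 lc_b_Cert_tree lc_b_rc_7_0 lc_b_Cert_tree lc_b_rc_7_0 lc_b_Cert_tree lc_b_Cert_tree lc_b_rc_8_2 lc_b_rc_12_4 lc_b_rc_7_0 lc_b_rc_8_2 lc_b_Cert_tree lc_b_rc_8_4 lc_b_rc_7_0 lc_b_rc_9_2 lc_b_rc_7_0 lc_b_Cert_tree lc_b_rc_9_2 lc_b_rc_10_2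 lc_b_rc_8_2 lc_b_rc_12_2 lc_b_rc_10_2 lc_b_rc_1_7 lc_b_rc_10_2) (@D3.rec (fun _ => (Cert rels S Gen.b)) lc_b_rc_11_2 lc_b_rc_11_0 lc_b_rc_7_0 lc_b_rc_9_2 lc_b_rc_10_2 lc_b_Cert_tree lc_b_Cert_tree lc_b_rc_10_2 lc_b_rc_31_3 lc_b_Cert_tree lc_b_rc_9_2 lc_b_Cert_tree lc_b_rc_7_0 lc_b_rc_9_2 lc_b_Cert_tree lc_b_Cert_tree lc_b_rc_8_2 lc_b_rc_30_13 lc_b_rc_7_0 lc_b_rc_8_2 lc_b_Cert_tree lc_b_rc_9_2 lc_b_rc_7_0 lc_b_rc_9_2 lc_b_rc_7_0 lc_b_Cert_tree lc_b_rc_9_2 lc_b_rc_10_2 lc_b_rc_11_2 lc_b_rc_12_2 lc_b_rc_10_2 lc_b_rc_1_5 lc_b_rc_10_2 lc_b_Cert_tree lc_b_rc_9_0 lc_b_Cert_tree lc_b_rc_7_0 lc_b_Cert_tree lc_b_Cert_tree lc_b_rc_7_0) (@D3.rec (fun _ => (Cert rels S Gen.b)) lc_b_rc_7_0 lc_b_Cert_tree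 lc_b_rc_8_2 lc_b_rc_11_4 lc_b_rc_7_0 lc_b_rc_31_3 lc_b_rc_8_2 lc_b_rc_11_2 lc_b_rc_7_0 lc_b_Cert_tree lc_b_Cert_tree lc_b_rc_9_2 lc_b_Cert_tree lc_b_Cert_tree lc_b_rc_9_2 lc_b_rc_7_0 lc_b_rc_9_2 lc_b_Cert_tree lc_b_rc_10_2 lc_b_Cert_tree lc_b_rc_7_0 lc_b_rc_7_0 lc_b_rc_10_2 lc_b_Cert_tree lc_b_Cert_tree lc_b_rc_9_2 lc_b_rc_11_2 lc_b_rc_12_2 lc_b_rc_12_4 lc_b_Cert_tree lc_b_rc_1_5 lc_b_rc_10_2 lc_b_Cert_tree lc_b_Cert_tree lc_b_rc_9_0 lc_b_rc_7_0 lc_b_rc_9_2 lc_b_Cert_tree lc_b_Cert_tree lc_b_rc_7_0) (@D3.rec (fun _ => (Cert rels S Gen.b)) lc_b_rc_7_0 lc_b_rc_11_2 lc_b_rc_12_2 lc_b_rc_7_0 lc_b_Cert_tree lc_b_rc_8_4 lc_b_rc_9_2 lc_b_Cert_tree lc_b_Cert_tree lc_b_rc_31_6 lc_b_rc_7_0 lc_b_rc_10_2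 lc_b_Cert_tree lc_b_rc_7_0 lc_b_rc_7_0 lc_b_rc_10_2 lc_b_Cert_tree lc_b_Cert_tree lc_b_rc_9_2 lc_b_rc_11_2 lc_b_rc_12_2 lc_b_rc_1_3 lc_b_rc_9_2 lc_b_Cert_tree lc_b_Cert_tree lc_b_Cert_tree lc_b_Cert_tree lc_b_rc_10_2 lc_b_rc_12_4 lc_b_rc_7_0 lc_b_rc_7_0 lc_b_rc_9_2 lc_b_rc_12_2 lc_b_rc_11_2 lc_b_Cert_tree lc_b_Cert_tree lc_b_rc_7_0 lc_b_rc_7_0 lc_b_Cert_tree lc_b_Cert_tree) (@D3.rec (fun _ => (Cert rels S Gen.b)) lc_b_rc_7_0 lc_b_rc_7_0 lc_b_rc_7_0 lc_b_Cert_tree lc_b_rc_7_0 lc_b_Cert_tree lc_b_rc_10_2 lc_b_Cert_tree lc_b_rc_7_0 lc_b_rc_10_2 lc_b_Cert_tree lc_b_rc_7_0 lc_b_rc_7_0 lc_b_rc_7_0 lc_b_Cert_tree lc_b_rc_8_2 lc_b_rc_12_2 lc_b_Cert_tree lc_b_rc_8_2 lc_b_rc_11_2 lc_b_rc_7_0 lc_b_Cert_tree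 lc_b_Cert_tree lc_b_rc_7_0 lc_b_Cert_tree lc_b_Cert_tree lc_b_rc_1_3 lc_b_rc_1_3 lc_b_rc_7_0 lc_b_rc_7_0 lc_b_rc_7_0 lc_b_rc_9_2 lc_b_rc_10_0 lc_b_rc_10_0 lc_b_rc_7_0 lc_b_rc_12_2 lc_b_rc_31_6 lc_b_rc_7_1 lc_b_rc_32_52 lc_b_rc_10_2) (@D3.rec (fun _ => (Cert rels S Gen.b)) lc_b_rc_32_26 lc_b_rc_9_2 lc_b_rc_8_4 lc_b_rc_8_4 lc_b_Cert_tree lc_b_Cert_tree lc_b_rc_7_0 lc_b_Cert_tree lc_b_rc_7_0 lc_b_Cert_tree lc_b_Cert_tree lc_b_rc_7_0 lc_b_Cert_tree lc_b_rc_7_0 lc_b_rc_7_0 lc_b_Cert_tree lc_b_rc_8_2 lc_b_rc_11_2 lc_b_rc_7_0 lc_b_Cert_tree lc_b_rc_8_2 lc_b_rc_12_2 lc_b_Cert_tree lc_b_rc_10_2 lc_b_rc_12_2 lc_b_Cert_tree lc_b_rc_10_2 lc_b_rc_11_2 lc_b_rc_7_0 lc_b_rc_9_2 lc_b_Cert_tree lc_b_Cert_tree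 lc_b_Cert_tree lc_b_rc_7_0 lc_b_rc_9_2 lc_b_Cert_tree lc_b_Cert_tree lc_b_Cert_tree lc_b_rc_1_5 lc_b_Cert_tree) (@D3.rec (fun _ => (Cert rels S Gen.b)) lc_b_rc_7_0 lc_b_rc_7_0 lc_b_Cert_tree lc_b_rc_1_5 lc_b_rc_7_0 lc_b_rc_7_0 lc_b_rc_10_2 lc_b_rc_8_2 lc_b_rc_12_2 lc_b_rc_10_2 lc_b_rc_8_2 lc_b_rc_7_1 lc_b_rc_7_0 lc_b_Cert_tree lc_b_rc_11_2 lc_b_Cert_tree lc_b_rc_7_0 lc_b_Cert_tree lc_b_rc_8_2 lc_b_rc_11_2 lc_b_rc_7_0 lc_b_Cert_tree lc_b_rc_12_2 lc_b_Cert_tree lc_b_rc_7_0 lc_b_Cert_tree lc_b_rc_8_2 lc_b_rc_12_2 lc_b_Cert_tree lc_b_rc_7_0 lc_b_Cert_tree lc_b_rc_7_0 lc_b_rc_7_0 lc_b_Cert_tree lc_b_rc_9_2 lc_b_rc_31_9 lc_b_rc_7_0 lc_b_Cert_tree lc_b_Cert_tree lc_b_rc_8_2) (@D3.rec (fun _ =>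 (Cert rels S Gen.b)) lc_b_rc_11_2 lc_b_rc_7_0 lc_b_Cert_tree lc_b_rc_9_2 lc_b_rc_31_3 lc_b_rc_7_0 lc_b_Cert_tree lc_b_Cert_tree lc_b_rc_8_2 lc_b_rc_12_2 lc_b_rc_1_5 lc_b_rc_30_5 lc_b_rc_32_46 lc_b_Cert_tree lc_b_rc_7_0 lc_b_rc_9_2 lc_b_Cert_tree lc_b_rc_7_0 lc_b_rc_8_2 lc_b_rc_10_2 lc_b_rc_12_2 lc_b_Cert_tree lc_b_Cert_tree lc_b_rc_8_2 lc_b_Cert_tree lc_b_rc_7_0 lc_b_rc_7_0 lc_b_Cert_tree lc_b_rc_7_1 lc_b_rc_9_2 lc_b_rc_1_9 lc_b_Cert_tree lc_b_rc_8_2 lc_b_rc_10_2 lc_b_Cert_tree lc_b_rc_9_2 lc_b_rc_7_0 lc_b_rc_9_2 lc_b_Cert_tree lc_b_rc_7_0) (@D3.rec (fun _ => (Cert rels S Gen.b)) lc_b_rc_8_2 lc_b_rc_10_2 lc_b_rc_10_0 lc_b_Cert_tree lc_b_Cert_tree lc_b_rc_10_2 lc_b_Cert_tree lc_b_rc_7_0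 lc_b_rc_7_0 lc_b_Cert_tree lc_b_rc_31_6 lc_b_rc_9_2 lc_b_rc_8_2 lc_b_Cert_tree lc_b_rc_7_0 lc_b_rc_9_2 lc_b_Cert_tree lc_b_rc_10_2 lc_b_rc_7_0 lc_b_rc_9_2 lc_b_Cert_tree lc_b_rc_10_2 lc_b_Cert_tree lc_b_rc_7_0 lc_b_rc_9_2 lc_b_Cert_tree lc_b_rc_7_0 lc_b_rc_9_2 lc_b_rc_12_2 lc_b_rc_11_2 lc_b_Cert_tree lc_b_Cert_tree lc_b_rc_1_9 lc_b_rc_7_0 lc_b_rc_8_2 lc_b_rc_8_2 lc_b_rc_11_2 lc_b_rc_31_12 lc_b_rc_7_0 lc_b_rc_8_2) (@D3.rec (fun _ => (Cert rels S Gen.b)) lc_b_rc_8_2 lc_b_rc_12_2 lc_b_rc_12_2 lc_b_rc_7_0 lc_b_rc_1_7 lc_b_rc_11_2 lc_b_Cert_tree lc_b_rc_7_0 lc_b_Cert_tree lc_b_rc_8_2 lc_b_rc_11_2 lc_b_rc_7_0 lc_b_Cert_tree lc_b_rc_7_1 lc_b_rc_9_2 lc_b_rc_11_4 lc_b_Cert_tree lc_b_rc_11_2 lc_b_rc_7_0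 lc_b_rc_12_2 lc_b_rc_12_2 lc_b_Cert_tree lc_b_rc_7_0 lc_b_Cert_tree lc_b_rc_8_2 lc_b_rc_12_2 lc_b_rc_7_0 lc_b_Cert_tree lc_b_rc_31_6 lc_b_rc_9_2 lc_b_rc_8_4 lc_b_Cert_tree lc_b_rc_12_2 lc_b_rc_11_2 lc_b_rc_12_4 lc_b_rc_1_3 lc_b_rc_12_0 lc_b_rc_30_17 lc_b_Cert_tree lc_b_rc_11_4) (@D3.rec (fun _ => (Cert rels S Gen.b)) lc_b_rc_7_0 lc_b_Cert_tree lc_b_rc_8_2 lc_b_rc_11_2 lc_b_Cert_tree lc_b_rc_12_4 lc_b_rc_7_0 lc_b_Cert_tree lc_b_rc_8_2 lc_b_rc_12_2 lc_b_rc_12_4 lc_b_rc_7_0 lc_b_rc_7_1 lc_b_Cert_tree lc_b_rc_7_0 lc_b_rc_12_2 lc_b_Cert_tree lc_b_rc_8_2 lc_b_Cert_tree lc_b_rc_7_0 lc_b_rc_7_0 lc_b_Cert_tree lc_b_rc_7_1 lc_b_rc_9_2 lc_b_Cert_tree lc_b_rc_31_6 lc_b_rc_10_0 lc_b_rc_7_0 lc_b_rc_7_1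 lc_b_Cert_tree lc_b_rc_7_0 lc_b_rc_10_2 lc_b_Cert_tree lc_b_rc_8_2 lc_b_Cert_tree lc_b_rc_7_0 lc_b_rc_7_0 lc_b_Cert_tree lc_b_rc_31_6 lc_b_rc_9_2) (@D3.rec (fun _ => (Cert rels S Gen.b)) lc_b_Cert_tree lc_b_rc_31_9 lc_b_rc_12_4 lc_b_Cert_tree lc_b_rc_1_5 lc_b_rc_7_0 lc_b_Cert_tree lc_b_rc_8_2 lc_b_rc_10_2 lc_b_rc_8_4 lc_b_rc_7_0 lc_b_rc_31_3 lc_b_rc_8_2 lc_b_rc_11_2 lc_b_rc_10_2 lc_b_Cert_tree lc_b_rc_12_2 lc_b_Cert_tree lc_b_rc_7_0 lc_b_rc_7_0 lc_b_Cert_tree lc_b_rc_9_2 lc_b_Cert_tree lc_b_rc_7_0 lc_b_rc_7_1 lc_b_rc_8_2 lc_b_rc_12_2 lc_b_rc_1_5 lc_b_Cert_tree lc_b_rc_11_4 lc_b_rc_12_2 lc_b_rc_7_0 lc_b_rc_9_2 lc_b_Cert_tree lc_b_rc_7_0 lc_b_Cert_tree lc_b_rc_10_2 lc_b_rc_9_2 lc_b_Cert_tree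 lc_b_rc_7_0) (@D3.rec (fun _ => (Cert rels S Gen.b)) lc_b_rc_31_6 lc_b_Cert_tree lc_b_rc_7_0 lc_b_rc_12_4 lc_b_rc_31_9 lc_b_rc_10_0 lc_b_rc_10_2 lc_b_rc_11_2 lc_b_rc_7_0 lc_b_rc_7_1 lc_b_rc_8_2 lc_b_rc_12_2 lc_b_rc_8_4 lc_b_Cert_tree lc_b_rc_11_2 lc_b_Cert_tree lc_b_rc_7_0 lc_b_rc_7_0 lc_b_Cert_tree lc_b_rc_9_2 lc_b_Cert_tree lc_b_rc_7_0 lc_b_rc_31_3 lc_b_rc_8_2 lc_b_rc_11_2 lc_b_rc_1_5 lc_b_Cert_tree lc_b_rc_11_2 lc_b_rc_7_1 lc_b_rc_7_0 lc_b_rc_9_2 lc_b_Cert_tree lc_b_rc_7_0 lc_b_Cert_tree lc_b_rc_10_2 lc_b_rc_9_2 lc_b_Cert_tree lc_b_rc_7_0 lc_b_rc_10_2 lc_b_rc_8_4) (@D3.rec (fun _ => (Cert rels S Gen.b)) lc_b_Cert_tree lc_b_rc_9_2 lc_b_rc_11_2 lc_b_rc_12_2 lc_b_rc_10_2 lc_b_rc_7_0 lc_b_rc_10_2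 lc_b_rc_10_2 lc_b_rc_12_2 lc_b_Cert_tree lc_b_rc_9_2 lc_b_rc_11_2 lc_b_rc_12_2 lc_b_rc_10_2 lc_b_rc_7_0 lc_b_rc_10_2 lc_b_rc_8_2 lc_b_Cert_tree lc_b_rc_8_2 lc_b_rc_10_2 lc_b_rc_11_2 lc_b_rc_8_0 lc_b_rc_31_9 lc_b_rc_10_2 lc_b_Cert_tree lc_b_rc_9_2 lc_b_rc_11_2 lc_b_rc_12_2 lc_b_rc_10_2 lc_b_rc_32_36 lc_b_Cert_tree lc_b_rc_8_2 lc_b_rc_10_2 lc_b_rc_11_2 lc_b_rc_12_2 lc_b_rc_31_12 lc_b_rc_8_2 lc_b_Cert_tree lc_b_rc_9_2 lc_b_rc_11_2) (@D3.rec (fun _ => (Cert rels S Gen.b)) lc_b_rc_12_2 lc_b_rc_10_2 lc_b_rc_7_0 lc_b_rc_7_0 lc_b_rc_7_0 lc_b_Cert_tree lc_b_rc_7_0 lc_b_Cert_tree lc_b_Cert_tree lc_b_rc_7_0 lc_b_Cert_tree lc_b_rc_7_0 lc_b_Cert_tree lc_b_Cert_tree lc_b_Cert_tree lc_b_rc_7_0 lc_b_rc_7_0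 lc_b_Cert_tree lc_b_rc_8_2 lc_b_rc_12_2 lc_b_Cert_tree lc_b_rc_8_2 lc_b_rc_11_2 lc_b_rc_7_0 lc_b_rc_7_1 lc_b_rc_9_2 lc_b_rc_1_3 lc_b_rc_7_0 lc_b_rc_1_3 lc_b_rc_9_2 lc_b_rc_8_4 lc_b_rc_8_2 lc_b_Cert_tree lc_b_rc_7_0 lc_b_rc_8_2 lc_b_Cert_tree lc_b_rc_7_0 lc_b_rc_7_0 lc_b_Cert_tree lc_b_rc_9_2) (@D3.rec (fun _ => (Cert rels S Gen.b)) lc_b_rc_8_4 lc_b_rc_7_0 lc_b_Cert_tree lc_b_rc_8_2 lc_b_rc_11_2 lc_b_rc_7_0 lc_b_Cert_tree lc_b_rc_9_2 lc_b_rc_31_12 lc_b_rc_7_0 lc_b_Cert_tree lc_b_rc_8_2 lc_b_rc_12_2 lc_b_rc_1_5 lc_b_Cert_tree lc_b_rc_11_2 lc_b_rc_12_2 lc_b_rc_7_0 lc_b_rc_9_2 lc_b_Cert_tree lc_b_rc_11_2 lc_b_Cert_tree lc_b_rc_7_0 lc_b_Cert_tree lc_b_rc_8_2 lc_b_rc_11_2 lc_b_rc_7_0 lc_b_Cert_tree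 lc_b_rc_7_0 lc_b_rc_9_2 lc_b_rc_30_17 lc_b_rc_7_1 lc_b_rc_1_5 lc_b_Cert_tree lc_b_rc_11_2 lc_b_rc_12_2 lc_b_rc_7_0 lc_b_rc_9_2 lc_b_Cert_tree lc_b_rc_12_2)
def ce_b_6 : D2 → D3 → (Cert rels S Gen.b) := @D2.rec (fun _ => D3 → (Cert rels S Gen.b)) (@D3.rec (fun _ => (Cert rels S Gen.b)) lc_b_Cert_tree lc_b_rc_7_0 lc_b_Cert_tree lc_b_rc_8_2 lc_b_rc_12_2 lc_b_rc_7_0 lc_b_Cert_tree lc_b_rc_31_6 lc_b_rc_9_2 lc_b_rc_8_4 lc_b_rc_31_9 lc_b_rc_11_2 lc_b_Cert_tree lc_b_rc_7_0 lc_b_rc_8_2 lc_b_Cert_tree lc_b_rc_7_0 lc_b_Cert_tree lc_b_rc_10_2 lc_b_Cert_tree lc_b_rc_7_0 lc_b_Cert_tree lc_b_rc_7_0 lc_b_Cert_tree lc_b_rc_12_2 lc_b_rc_7_0 lc_b_rc_8_2 lc_b_Cert_tree lc_b_rc_7_0 lc_b_Cert_tree lc_b_rc_10_2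 lc_b_Cert_tree lc_b_rc_7_0 lc_b_Cert_tree lc_b_rc_7_0 lc_b_rc_1_3 lc_b_rc_31_12 lc_b_rc_31_3 lc_b_rc_7_0 lc_b_rc_31_12) (@D3.rec (fun _ => (Cert rels S Gen.b)) lc_b_rc_9_2 lc_b_rc_11_2 lc_b_Cert_tree lc_b_Cert_tree lc_b_rc_10_2 lc_b_Cert_tree lc_b_rc_7_0 lc_b_Cert_tree lc_b_rc_8_2 lc_b_rc_11_2 lc_b_rc_9_2 lc_b_rc_10_2 lc_b_Cert_tree lc_b_Cert_tree lc_b_rc_7_0 lc_b_Cert_tree lc_b_Cert_tree lc_b_Cert_tree lc_b_rc_7_0 lc_b_rc_12_2 lc_b_rc_8_2 lc_b_rc_12_2 lc_b_rc_31_3 lc_b_rc_31_6 lc_b_rc_7_0 lc_b_rc_7_1 lc_b_rc_31_9 lc_b_rc_9_2 lc_b_Cert_tree lc_b_rc_12_2 lc_b_Cert_tree lc_b_rc_10_2 lc_b_Cert_tree lc_b_rc_7_0 lc_b_Cert_tree lc_b_rc_8_2 lc_b_rc_12_2 lc_b_rc_9_2 lc_b_rc_8_2 lc_b_Cert_tree)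 (@D3.rec (fun _ => (Cert rels S Gen.b)) lc_b_Cert_tree lc_b_rc_7_0 lc_b_Cert_tree lc_b_Cert_tree lc_b_Cert_tree lc_b_rc_7_0 lc_b_rc_1_7 lc_b_rc_8_2 lc_b_rc_11_2 lc_b_rc_7_0 lc_b_rc_9_2 lc_b_Cert_tree lc_b_Cert_tree lc_b_rc_8_2 lc_b_rc_10_2 lc_b_rc_11_2 lc_b_rc_12_2 lc_b_Cert_tree lc_b_rc_7_0 lc_b_Cert_tree lc_b_Cert_tree lc_b_rc_11_2 lc_b_rc_7_0 lc_b_Cert_tree lc_b_rc_8_2 lc_b_rc_11_2 lc_b_rc_7_0 lc_b_rc_1_7 lc_b_Cert_tree lc_b_rc_7_0 lc_b_rc_9_2 lc_b_Cert_tree lc_b_Cert_tree lc_b_rc_8_2 lc_b_rc_10_2 lc_b_rc_11_2 lc_b_rc_12_2 lc_b_rc_7_0 lc_b_Cert_tree lc_b_Cert_tree) (@D3.rec (fun _ => (Cert rels S Gen.b)) lc_b_Cert_tree lc_b_rc_12_2 lc_b_rc_7_0 lc_b_Cert_tree lc_b_rc_8_2 lc_b_rc_12_2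 lc_b_rc_7_0 lc_b_rc_10_2 lc_b_Cert_tree lc_b_rc_7_0 lc_b_rc_9_2 lc_b_Cert_tree lc_b_Cert_tree lc_b_rc_8_2 lc_b_rc_10_2 lc_b_rc_11_2 lc_b_rc_12_2 lc_b_Cert_tree lc_b_Cert_tree lc_b_rc_7_0 lc_b_rc_9_2 lc_b_Cert_tree lc_b_Cert_tree lc_b_rc_8_2 lc_b_rc_10_2 lc_b_rc_11_2 lc_b_rc_12_2 lc_b_Cert_tree lc_b_Cert_tree lc_b_rc_1_3 lc_b_rc_7_0 lc_b_rc_8_2 lc_b_rc_31_9 lc_b_rc_12_0 lc_b_rc_7_1 lc_b_rc_7_0 lc_b_rc_7_0 lc_b_rc_31_9 lc_b_rc_7_0 lc_b_rc_7_0) (@D3.rec (fun _ => (Cert rels S Gen.b)) lc_b_rc_8_2 lc_b_rc_7_0 lc_b_rc_8_2 lc_b_rc_12_4 lc_b_rc_11_4 lc_b_rc_7_0 lc_b_rc_7_0 lc_b_rc_9_2 lc_b_rc_8_4 lc_b_Cert_tree lc_b_rc_7_0 lc_b_rc_1_3 lc_b_rc_8_2 lc_b_rc_9_2 lc_b_rc_11_2 lc_b_rc_12_2 lc_b_rc_10_2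 lc_b_rc_10_2 lc_b_rc_12_2 lc_b_Cert_tree lc_b_rc_7_0 lc_b_Cert_tree lc_b_rc_8_2 lc_b_rc_11_2 lc_b_rc_7_0 lc_b_Cert_tree lc_b_rc_7_1 lc_b_Cert_tree lc_b_Cert_tree lc_b_rc_7_0 lc_b_rc_8_2 lc_b_Cert_tree lc_b_rc_31_3 lc_b_rc_10_2 lc_b_rc_9_2 lc_b_Cert_tree lc_b_rc_8_4 lc_b_rc_7_0 lc_b_rc_9_2 lc_b_Cert_tree) (@D3.rec (fun _ => (Cert rels S Gen.b)) lc_b_rc_30_5 lc_b_rc_7_0 lc_b_rc_31_9 lc_b_rc_10_0 lc_b_rc_9_2 lc_b_rc_11_2 lc_b_rc_12_2 lc_b_rc_10_2 lc_b_rc_12_4 lc_b_rc_31_12 lc_b_Cert_tree lc_b_rc_7_0 lc_b_Cert_tree lc_b_rc_8_2 lc_b_rc_12_2 lc_b_rc_7_0 lc_b_Cert_tree lc_b_rc_8_2 lc_b_Cert_tree lc_b_rc_31_12 lc_b_rc_7_0 lc_b_rc_8_2 lc_b_Cert_tree lc_b_rc_31_3 lc_b_rc_10_2 lc_b_rc_9_2 lc_b_Cert_tree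 lc_b_rc_7_0 lc_b_rc_7_1 lc_b_rc_7_0 lc_b_rc_10_2 lc_b_Cert_tree lc_b_rc_7_0 lc_b_Cert_tree lc_b_rc_7_0 lc_b_Cert_tree lc_b_rc_8_2 lc_b_rc_11_2 lc_b_rc_7_0 lc_b_rc_31_9) (@D3.rec (fun _ => (Cert rels S Gen.b)) lc_b_rc_31_3 lc_b_rc_9_2 lc_b_rc_1_3 lc_b_Cert_tree lc_b_rc_10_2 lc_b_rc_9_0 lc_b_rc_9_2 lc_b_rc_7_1 lc_b_rc_7_1 lc_b_rc_7_0 lc_b_Cert_tree lc_b_Cert_tree lc_b_rc_7_0 lc_b_rc_7_0 lc_b_rc_7_0 lc_b_Cert_tree lc_b_rc_8_2 lc_b_rc_12_2 lc_b_Cert_tree lc_b_rc_9_2 lc_b_Cert_tree lc_b_rc_31_6 lc_b_rc_7_0 lc_b_rc_8_2 lc_b_rc_10_2 lc_b_Cert_tree lc_b_rc_7_0 lc_b_Cert_tree lc_b_rc_7_0 lc_b_Cert_tree lc_b_rc_8_2 lc_b_rc_12_2 lc_b_rc_7_0 lc_b_rc_11_2 lc_b_rc_9_2 lc_b_rc_12_4 lc_b_Cert_tree lc_b_rc_10_2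 lc_b_rc_31_3 lc_b_rc_9_2) (@D3.rec (fun _ => (Cert rels S Gen.b)) lc_b_rc_31_9 lc_b_rc_9_2 lc_b_rc_7_0 lc_b_Cert_tree lc_b_Cert_tree lc_b_rc_7_0 lc_b_rc_7_0 lc_b_rc_7_0 lc_b_Cert_tree lc_b_rc_8_2 lc_b_rc_11_2 lc_b_Cert_tree lc_b_rc_9_2 lc_b_Cert_tree lc_b_rc_7_0 lc_b_Cert_tree lc_b_rc_7_1 lc_b_rc_8_2 lc_b_rc_7_1 lc_b_Cert_tree lc_b_rc_7_0 lc_b_rc_7_0 lc_b_rc_10_2 lc_b_rc_12_4 lc_b_rc_11_2 lc_b_Cert_tree lc_b_Cert_tree lc_b_rc_7_0 lc_b_Cert_tree lc_b_rc_7_0 lc_b_Cert_tree lc_b_rc_9_0 lc_b_rc_7_0 lc_b_rc_7_0 lc_b_Cert_tree lc_b_rc_7_0 lc_b_rc_1_7 lc_b_Cert_tree lc_b_rc_7_0 lc_b_rc_7_0) (@D3.rec (fun _ => (Cert rels S Gen.b)) lc_b_rc_12_2 lc_b_rc_7_0 lc_b_rc_31_6 lc_b_rc_8_2 lc_b_rc_11_2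 lc_b_Cert_tree lc_b_rc_8_2 lc_b_rc_11_2 lc_b_rc_7_0 lc_b_Cert_tree lc_b_Cert_tree lc_b_rc_31_3 lc_b_rc_8_2 lc_b_rc_7_0 lc_b_Cert_tree lc_b_rc_7_1 lc_b_rc_8_2 lc_b_Cert_tree lc_b_rc_12_2 lc_b_rc_7_0 lc_b_rc_7_0 lc_b_rc_10_2 lc_b_rc_31_9 lc_b_Cert_tree lc_b_rc_12_2 lc_b_rc_7_0 lc_b_Cert_tree lc_b_Cert_tree lc_b_Cert_tree lc_b_rc_11_4 lc_b_rc_7_0 lc_b_rc_7_0 lc_b_rc_7_0 lc_b_Cert_tree lc_b_rc_7_0 lc_b_rc_8_2 lc_b_Cert_tree lc_b_rc_7_0 lc_b_rc_7_0 lc_b_rc_11_2) (@D3.rec (fun _ => (Cert rels S Gen.b)) lc_b_rc_7_0 lc_b_rc_7_0 lc_b_rc_8_2 lc_b_rc_12_2 lc_b_Cert_tree lc_b_rc_8_2 lc_b_rc_12_2 lc_b_rc_7_0 lc_b_rc_7_1 lc_b_rc_8_2 lc_b_rc_7_0 lc_b_rc_9_2 lc_b_rc_31_12 lc_b_rc_10_2 lc_b_rc_7_0 lc_b_rc_31_6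 lc_b_rc_11_2 lc_b_rc_8_2 lc_b_rc_10_2 lc_b_rc_11_4 lc_b_rc_7_0 lc_b_rc_10_2 lc_b_rc_8_4 lc_b_rc_30_5 lc_b_rc_7_0 lc_b_rc_9_2 lc_b_rc_11_2 lc_b_Cert_tree lc_b_Cert_tree lc_b_rc_7_0 lc_b_rc_9_0 lc_b_rc_10_0 lc_b_Cert_tree lc_b_rc_11_2 lc_b_rc_7_0 lc_b_Cert_tree lc_b_rc_7_0 lc_b_Cert_tree lc_b_rc_12_2 lc_b_rc_31_3) (@D3.rec (fun _ => (Cert rels S Gen.b)) lc_b_rc_7_0 lc_b_Cert_tree lc_b_rc_7_0 lc_b_rc_1_5 lc_b_rc_11_2 lc_b_rc_7_0 lc_b_rc_10_2 lc_b_rc_8_2 lc_b_rc_11_2 lc_b_Cert_tree lc_b_rc_11_2 lc_b_rc_9_2 lc_b_rc_11_2 lc_b_rc_31_12 lc_b_rc_9_2 lc_b_rc_7_0 lc_b_rc_9_2 lc_b_Cert_tree lc_b_rc_10_2 lc_b_rc_9_2 lc_b_rc_12_4 lc_b_rc_10_2 lc_b_rc_7_0 lc_b_rc_7_1 lc_b_rc_12_2 lc_b_rc_8_2 lc_b_rc_10_2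 lc_b_rc_31_9 lc_b_rc_12_4 lc_b_rc_10_2 lc_b_rc_12_2 lc_b_rc_1_5 lc_b_rc_31_3 lc_b_rc_9_2 lc_b_Cert_tree lc_b_rc_12_2 lc_b_rc_7_0 lc_b_rc_11_4 lc_b_rc_9_0 lc_b_Cert_tree) (@D3.rec (fun _ => (Cert rels S Gen.b)) lc_b_rc_12_2 lc_b_rc_7_0 lc_b_rc_12_4 lc_b_Cert_tree lc_b_rc_11_2 lc_b_rc_7_0 lc_b_Cert_tree lc_b_rc_7_0 lc_b_rc_11_2 lc_b_rc_12_2 lc_b_rc_7_0 lc_b_rc_10_2 lc_b_rc_8_2 lc_b_rc_31_6 lc_b_Cert_tree lc_b_rc_9_2 lc_b_rc_8_2 lc_b_rc_31_9 lc_b_rc_9_2 lc_b_rc_7_0 lc_b_rc_10_2 lc_b_rc_1_5 lc_b_rc_8_2 lc_b_Cert_tree lc_b_rc_7_0 lc_b_rc_7_0 lc_b_rc_10_2 lc_b_rc_9_2 lc_b_Cert_tree lc_b_Cert_tree lc_b_Cert_tree lc_b_rc_7_0 lc_b_rc_11_4 lc_b_rc_7_0 lc_b_Cert_tree lc_b_rc_7_1 lc_b_rc_10_0 lc_b_rc_7_0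 lc_b_rc_7_0 lc_b_Cert_tree) (@D3.rec (fun _ => (Cert rels S Gen.b)) lc_b_rc_12_2 lc_b_rc_31_9 lc_b_Cert_tree lc_b_rc_8_2 lc_b_rc_11_2 lc_b_rc_7_0 lc_b_Cert_tree lc_b_rc_12_2 lc_b_rc_11_4 lc_b_rc_7_0 lc_b_Cert_tree lc_b_rc_8_2 lc_b_rc_7_0 lc_b_Cert_tree lc_b_rc_8_2 lc_b_rc_11_2 lc_b_rc_7_0 lc_b_rc_8_4 lc_b_Cert_tree lc_b_rc_9_2 lc_b_rc_7_1 lc_b_rc_7_0 lc_b_rc_7_1 lc_b_rc_12_2 lc_b_rc_31_9 lc_b_rc_12_0 lc_b_Cert_tree lc_b_rc_12_2 lc_b_rc_7_0 lc_b_rc_9_2 lc_b_Cert_tree lc_b_rc_7_0 lc_b_rc_10_2 lc_b_rc_7_0 lc_b_Cert_tree lc_b_rc_7_1 lc_b_rc_30_9 lc_b_rc_7_0 lc_b_rc_31_6 lc_b_Cert_tree) (@D3.rec (fun _ => (Cert rels S Gen.b)) lc_b_rc_7_0 lc_b_rc_7_0 lc_b_rc_9_2 lc_b_rc_10_2 lc_b_rc_7_0 lc_b_rc_9_2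 lc_b_Cert_tree lc_b_rc_9_2 lc_b_rc_11_2 lc_b_rc_12_2 lc_b_rc_10_2 lc_b_rc_7_0 lc_b_rc_10_2 lc_b_Cert_tree lc_b_rc_7_0 lc_b_rc_7_1 lc_b_rc_12_2 lc_b_rc_1_5 lc_b_rc_8_2 lc_b_Cert_tree lc_b_rc_7_0 lc_b_rc_7_0 lc_b_rc_10_2 lc_b_rc_9_2 lc_b_Cert_tree lc_b_Cert_tree lc_b_rc_7_0 lc_b_rc_30_17 lc_b_Cert_tree lc_b_rc_7_0 lc_b_Cert_tree lc_b_rc_12_2 lc_b_rc_8_2 lc_b_rc_7_0 lc_b_Cert_tree lc_b_rc_11_2 lc_b_rc_31_3 lc_b_rc_7_0 lc_b_Cert_tree lc_b_rc_11_2) (@D3.rec (fun _ => (Cert rels S Gen.b)) lc_b_rc_10_2 lc_b_rc_7_0 lc_b_Cert_tree lc_b_rc_8_2 lc_b_Cert_tree lc_b_rc_12_2 lc_b_rc_7_0 lc_b_Cert_tree lc_b_rc_8_2 lc_b_rc_12_2 lc_b_rc_7_0 lc_b_rc_30_13 lc_b_Cert_tree lc_b_rc_9_2 lc_b_rc_8_4 lc_b_rc_7_0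 lc_b_rc_1_7 lc_b_rc_11_2 lc_b_rc_8_2 lc_b_rc_31_6 lc_b_rc_11_2 lc_b_Cert_tree lc_b_rc_7_0 lc_b_rc_9_2 lc_b_Cert_tree lc_b_rc_7_0 lc_b_rc_10_2 lc_b_rc_7_0 lc_b_Cert_tree lc_b_rc_31_6 lc_b_rc_31_9 lc_b_rc_7_0 lc_b_rc_31_3 lc_b_Cert_tree lc_b_rc_9_2 lc_b_rc_7_0 lc_b_rc_9_2 lc_b_rc_10_2 lc_b_rc_7_0 lc_b_rc_31_6) (@D3.rec (fun _ => (Cert rels S Gen.b)) lc_b_Cert_tree lc_b_rc_9_2 lc_b_rc_11_2 lc_b_rc_12_2 lc_b_rc_10_2 lc_b_rc_7_0 lc_b_rc_10_2 lc_b_Cert_tree lc_b_rc_7_0 lc_b_rc_1_7 lc_b_rc_11_2 lc_b_rc_8_4 lc_b_rc_9_2 lc_b_rc_31_3 lc_b_rc_11_4 lc_b_rc_1_7 lc_b_Cert_tree lc_b_rc_8_2 lc_b_rc_10_2 lc_b_rc_11_2 lc_b_rc_7_1 lc_b_Cert_tree lc_b_rc_7_1 lc_b_rc_12_4 lc_b_rc_7_0 lc_b_Cert_tree lc_b_Cert_tree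 lc_b_rc_1_5 lc_b_Cert_tree lc_b_rc_7_0 lc_b_rc_7_0 lc_b_rc_7_0 lc_b_rc_8_4 lc_b_rc_9_2 lc_b_rc_31_3 lc_b_rc_7_1 lc_b_rc_9_2 lc_b_Cert_tree lc_b_rc_8_2 lc_b_rc_10_2) (@D3.rec (fun _ => (Cert rels S Gen.b)) lc_b_rc_31_3 lc_b_rc_9_2 lc_b_rc_31_3 lc_b_Cert_tree lc_b_rc_11_4 lc_b_rc_7_0 lc_b_Cert_tree lc_b_Cert_tree lc_b_rc_1_5 lc_b_Cert_tree lc_b_rc_7_0 lc_b_rc_7_0 lc_b_rc_7_0 lc_b_rc_31_6 lc_b_rc_9_0 lc_b_rc_12_2 lc_b_rc_12_2 lc_b_rc_7_1 lc_b_rc_7_1 lc_b_rc_7_0 lc_b_rc_12_4 lc_b_rc_7_0 lc_b_rc_31_12 lc_b_rc_8_2 lc_b_Cert_tree lc_b_rc_7_0 lc_b_rc_8_2 lc_b_Cert_tree lc_b_rc_7_0 lc_b_Cert_tree lc_b_rc_8_2 lc_b_Cert_tree lc_b_rc_7_0 lc_b_Cert_tree lc_b_rc_8_2 lc_b_Cert_tree lc_b_rc_7_0 lc_b_rc_7_0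 lc_b_rc_10_0 lc_b_rc_9_2) (@D3.rec (fun _ => (Cert rels S Gen.b)) lc_b_rc_7_1 lc_b_rc_7_0 lc_b_rc_11_2 lc_b_rc_8_2 lc_b_rc_11_2 lc_b_rc_7_0 lc_b_rc_8_4 lc_b_rc_9_2 lc_b_rc_8_4 lc_b_rc_7_0 lc_b_rc_12_2 lc_b_rc_8_2 lc_b_rc_12_2 lc_b_rc_7_0 lc_b_rc_9_2 lc_b_rc_30_5 lc_b_rc_31_12 lc_b_Cert_tree lc_b_Cert_tree lc_b_rc_7_0 lc_b_Cert_tree lc_b_rc_7_0 lc_b_Cert_tree lc_b_rc_7_0 lc_b_rc_7_0 lc_b_rc_1_3 lc_b_rc_8_2 lc_b_rc_12_2 lc_b_rc_31_6 lc_b_rc_8_2 lc_b_rc_11_2 lc_b_rc_7_0 lc_b_rc_30_9 lc_b_Cert_tree lc_b_rc_9_2 lc_b_Cert_tree lc_b_rc_1_3 lc_b_rc_7_0 lc_b_rc_7_1 lc_b_Cert_tree) (@D3.rec (fun _ => (Cert rels S Gen.b)) lc_b_rc_9_2 lc_b_Cert_tree lc_b_rc_12_4 lc_b_rc_1_5 lc_b_rc_12_4 lc_b_rc_7_0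 lc_b_rc_11_2 lc_b_Cert_tree lc_b_rc_7_0 lc_b_rc_32_41 lc_b_rc_10_2 lc_b_Cert_tree lc_b_rc_7_0 lc_b_Cert_tree lc_b_rc_11_4 lc_b_rc_1_5 lc_b_rc_7_0 lc_b_rc_11_0 lc_b_Cert_tree lc_b_rc_7_0 lc_b_rc_32_15 lc_b_rc_10_2 lc_b_Cert_tree lc_b_rc_7_0 lc_b_Cert_tree lc_b_rc_8_2 lc_b_rc_7_0 lc_b_rc_8_2 lc_b_rc_7_0 lc_b_rc_9_2 lc_b_rc_12_4 lc_b_rc_7_0 lc_b_Cert_tree lc_b_rc_8_2 lc_b_rc_9_2 lc_b_rc_30_13 lc_b_rc_7_0 lc_b_Cert_tree lc_b_rc_8_2 lc_b_rc_9_2) (@D3.rec (fun _ => (Cert rels S Gen.b)) lc_b_rc_11_2 lc_b_rc_12_2 lc_b_rc_9_2 lc_b_rc_30_5 lc_b_rc_31_12 lc_b_rc_7_0 lc_b_Cert_tree lc_b_rc_8_2 lc_b_rc_11_2 lc_b_rc_7_0 lc_b_Cert_tree lc_b_rc_7_1 lc_b_rc_9_2 lc_b_Cert_tree lc_b_Cert_tree lc_b_rc_9_2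 lc_b_rc_11_2 lc_b_rc_12_2 lc_b_rc_9_2 lc_b_rc_8_2 lc_b_rc_8_4 lc_b_rc_7_0 lc_b_Cert_tree lc_b_rc_8_2 lc_b_rc_12_2 lc_b_rc_7_0 lc_b_Cert_tree lc_b_rc_31_6 lc_b_rc_9_2 lc_b_Cert_tree lc_b_Cert_tree lc_b_rc_7_1 lc_b_rc_11_4 lc_b_rc_32_31 lc_b_rc_9_2 lc_b_rc_11_2 lc_b_rc_12_2 lc_b_rc_7_0 lc_b_rc_9_2 lc_b_rc_9_2) (@D3.rec (fun _ => (Cert rels S Gen.b)) lc_b_Cert_tree lc_b_Cert_tree lc_b_rc_7_0 lc_b_rc_8_2 lc_b_rc_11_2 lc_b_rc_7_0 lc_b_Cert_tree lc_b_rc_9_2 lc_b_Cert_tree lc_b_rc_12_2 lc_b_rc_7_0 lc_b_rc_9_2 lc_b_Cert_tree lc_b_rc_1_3 lc_b_rc_10_2 lc_b_Cert_tree lc_b_rc_7_0 lc_b_Cert_tree lc_b_rc_7_0 lc_b_rc_12_4 lc_b_rc_31_9 lc_b_rc_32_31 lc_b_rc_9_2 lc_b_rc_11_2 lc_b_rc_12_2 lc_b_rc_8_4 lc_b_rc_10_2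 lc_b_rc_31_0 lc_b_Cert_tree lc_b_Cert_tree lc_b_rc_7_0 lc_b_rc_8_2 lc_b_rc_12_2 lc_b_rc_7_0 lc_b_Cert_tree lc_b_rc_9_2 lc_b_Cert_tree lc_b_rc_11_2 lc_b_rc_7_0 lc_b_rc_9_2) (@D3.rec (fun _ => (Cert rels S Gen.b)) lc_b_Cert_tree lc_b_rc_1_3 lc_b_rc_10_2 lc_b_Cert_tree lc_b_rc_7_0 lc_b_Cert_tree lc_b_rc_7_0 lc_b_Cert_tree lc_b_rc_7_0 lc_b_Cert_tree lc_b_rc_9_2 lc_b_rc_11_2 lc_b_Cert_tree lc_b_Cert_tree lc_b_rc_7_0 lc_b_Cert_tree lc_b_rc_8_2 lc_b_rc_11_2 lc_b_rc_7_0 lc_b_rc_10_2 lc_b_Cert_tree lc_b_Cert_tree lc_b_rc_7_0 lc_b_Cert_tree lc_b_rc_8_2 lc_b_Cert_tree lc_b_rc_7_0 lc_b_rc_7_0 lc_b_Cert_tree lc_b_rc_9_2 lc_b_Cert_tree lc_b_rc_7_0 lc_b_rc_12_2 lc_b_rc_8_2 lc_b_rc_12_2 lc_b_Cert_tree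 lc_b_rc_12_2 lc_b_rc_7_0 lc_b_rc_9_2 lc_b_Cert_tree) (@D3.rec (fun _ => (Cert rels S Gen.b)) lc_b_rc_7_0 lc_b_Cert_tree lc_b_rc_10_2 lc_b_Cert_tree lc_b_rc_7_0 lc_b_Cert_tree lc_b_rc_7_0 lc_b_rc_7_0 lc_b_rc_12_4 lc_b_Cert_tree lc_b_rc_9_2 lc_b_Cert_tree lc_b_rc_12_2 lc_b_Cert_tree lc_b_rc_7_0 lc_b_Cert_tree lc_b_rc_8_2 lc_b_rc_12_2 lc_b_rc_7_0 lc_b_rc_10_2 lc_b_Cert_tree lc_b_Cert_tree lc_b_rc_7_0 lc_b_Cert_tree lc_b_rc_8_2 lc_b_Cert_tree lc_b_rc_7_0 lc_b_rc_7_0 lc_b_Cert_tree lc_b_rc_9_2 lc_b_Cert_tree lc_b_rc_7_0 lc_b_rc_11_2 lc_b_rc_8_2 lc_b_rc_11_2 lc_b_rc_11_2 lc_b_Cert_tree lc_b_rc_7_0 lc_b_rc_9_2 lc_b_Cert_tree) (@D3.rec (fun _ => (Cert rels S Gen.b)) lc_b_rc_7_0 lc_b_Cert_tree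 lc_b_rc_10_2 lc_b_Cert_tree lc_b_rc_7_0 lc_b_Cert_tree lc_b_rc_7_0 lc_b_rc_7_0 lc_b_rc_7_0 lc_b_rc_9_2 lc_b_Cert_tree lc_b_rc_30_5 lc_b_rc_30_17 lc_b_Cert_tree lc_b_Cert_tree lc_b_rc_7_0 lc_b_Cert_tree lc_b_rc_7_0 lc_b_rc_31_6 lc_b_rc_8_2 lc_b_rc_31_6 lc_b_rc_7_0 lc_b_rc_10_2 lc_b_Cert_tree lc_b_rc_10_2 lc_b_rc_11_2 lc_b_Cert_tree lc_b_Cert_tree lc_b_rc_7_0 lc_b_rc_31_3 lc_b_rc_7_0 lc_b_rc_1_3 lc_b_Cert_tree lc_b_Cert_tree lc_b_rc_7_0 lc_b_Cert_tree lc_b_rc_8_2 lc_b_rc_11_2 lc_b_rc_7_0 lc_b_Cert_tree) (@D3.rec (fun _ => (Cert rels S Gen.b)) lc_b_rc_12_2 lc_b_rc_9_2 lc_b_Cert_tree lc_b_rc_11_0 lc_b_rc_9_2 lc_b_rc_10_2 lc_b_rc_30_9 lc_b_Cert_tree lc_b_rc_10_2 lc_b_Cert_tree lc_b_rc_31_3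 lc_b_rc_7_0 lc_b_Cert_tree lc_b_rc_7_0 lc_b_Cert_tree lc_b_Cert_tree lc_b_Cert_tree lc_b_rc_7_0 lc_b_rc_7_0 lc_b_rc_7_0 lc_b_rc_1_7 lc_b_rc_8_2 lc_b_rc_12_2 lc_b_rc_7_1 lc_b_Cert_tree lc_b_rc_11_2 lc_b_rc_12_2 lc_b_rc_7_0 lc_b_rc_9_2 lc_b_Cert_tree lc_b_rc_12_2 lc_b_Cert_tree lc_b_rc_7_0 lc_b_rc_12_2 lc_b_rc_8_2 lc_b_rc_12_2 lc_b_rc_7_0 lc_b_rc_31_6 lc_b_rc_9_2 lc_b_Cert_tree) (@D3.rec (fun _ => (Cert rels S Gen.b)) lc_b_rc_31_6 lc_b_Cert_tree lc_b_rc_12_2 lc_b_rc_11_2 lc_b_rc_7_0 lc_b_rc_9_2 lc_b_Cert_tree lc_b_Cert_tree lc_b_rc_7_0 lc_b_rc_1_5 lc_b_Cert_tree lc_b_rc_9_2 lc_b_Cert_tree lc_b_rc_12_2 lc_b_Cert_tree lc_b_rc_10_2 lc_b_Cert_tree lc_b_rc_7_0 lc_b_rc_8_2 lc_b_rc_7_0 lc_b_rc_9_2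 lc_b_rc_10_2 lc_b_Cert_tree lc_b_rc_11_2 lc_b_Cert_tree lc_b_rc_7_0 lc_b_rc_7_1 lc_b_rc_8_2 lc_b_rc_11_2 lc_b_rc_7_0 lc_b_rc_7_0 lc_b_rc_9_2 lc_b_Cert_tree lc_b_rc_1_5 lc_b_Cert_tree lc_b_rc_9_2 lc_b_rc_7_0 lc_b_Cert_tree lc_b_Cert_tree lc_b_rc_7_1)
def ce_b_7 : D2 → D3 → (Cert rels S Gen.b) := @D2.rec (fun _ => D3 → (Cert rels S Gen.b)) (@D3.rec (fun _ => (Cert rels S Gen.b)) lc_b_rc_8_2 lc_b_rc_7_0 lc_b_rc_7_0 lc_b_Cert_tree lc_b_rc_11_2 lc_b_rc_10_2 lc_b_Cert_tree lc_b_rc_12_2 lc_b_rc_7_0 lc_b_rc_8_0 lc_b_Cert_tree lc_b_rc_7_0 lc_b_rc_31_6 lc_b_Cert_tree lc_b_Cert_tree lc_b_rc_7_0 lc_b_Cert_tree lc_b_rc_8_2 lc_b_rc_12_2 lc_b_rc_7_0 lc_b_Cert_tree lc_b_rc_9_2 lc_b_Cert_tree lc_b_rc_9_0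 lc_b_rc_9_2 lc_b_rc_10_2 lc_b_Cert_tree lc_b_rc_11_0 lc_b_rc_10_2 lc_b_Cert_tree lc_b_rc_1_1 lc_b_rc_7_0 lc_b_Cert_tree lc_b_rc_7_0 lc_b_Cert_tree lc_b_Cert_tree lc_b_Cert_tree lc_b_rc_7_0 lc_b_rc_7_0 lc_b_rc_7_0) (@D3.rec (fun _ => (Cert rels S Gen.b)) lc_b_rc_7_1 lc_b_rc_8_2 lc_b_rc_11_2 lc_b_rc_31_3 lc_b_Cert_tree lc_b_rc_11_2 lc_b_rc_12_2 lc_b_rc_7_0 lc_b_rc_9_2 lc_b_Cert_tree lc_b_rc_11_2 lc_b_Cert_tree lc_b_rc_7_0 lc_b_rc_11_2 lc_b_rc_8_2 lc_b_rc_11_2 lc_b_rc_8_2 lc_b_rc_7_0 lc_b_rc_9_2 lc_b_Cert_tree lc_b_rc_7_0 lc_b_Cert_tree lc_b_rc_12_2 lc_b_rc_11_2 lc_b_rc_7_0 lc_b_rc_9_2 lc_b_Cert_tree lc_b_Cert_tree lc_b_rc_7_0 lc_b_rc_7_0 lc_b_Cert_tree lc_b_rc_9_2 lc_b_rc_11_2 lc_b_Cert_tree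 lc_b_Cert_tree lc_b_rc_10_2 lc_b_Cert_tree lc_b_rc_7_0 lc_b_rc_8_2 lc_b_rc_7_0) (@D3.rec (fun _ => (Cert rels S Gen.b)) lc_b_rc_9_2 lc_b_rc_10_2 lc_b_Cert_tree lc_b_rc_12_2 lc_b_Cert_tree lc_b_rc_7_0 lc_b_rc_1_7 lc_b_rc_8_2 lc_b_rc_12_2 lc_b_rc_7_0 lc_b_rc_10_2 lc_b_rc_31_12 lc_b_rc_11_2 lc_b_Cert_tree lc_b_rc_1_5 lc_b_rc_1_5 lc_b_rc_12_2 lc_b_rc_7_0 lc_b_rc_7_0 lc_b_rc_9_2 lc_b_rc_1_7 lc_b_rc_9_2 lc_b_rc_8_4 lc_b_rc_8_2 lc_b_Cert_tree lc_b_rc_10_2 lc_b_rc_7_0 lc_b_rc_9_2 lc_b_Cert_tree lc_b_Cert_tree lc_b_rc_8_2 lc_b_rc_10_2 lc_b_rc_11_2 lc_b_rc_7_0 lc_b_Cert_tree lc_b_Cert_tree lc_b_Cert_tree lc_b_rc_10_2 lc_b_rc_11_2 lc_b_rc_12_2) (@D3.rec (fun _ => (Cert rels S Gen.b)) lc_b_rc_7_0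 lc_b_rc_1_7 lc_b_rc_9_2 lc_b_rc_12_2 lc_b_Cert_tree lc_b_rc_1_5 lc_b_rc_8_2 lc_b_rc_11_2 lc_b_rc_7_0 lc_b_rc_7_0 lc_b_rc_9_2 lc_b_rc_11_2 lc_b_rc_9_2 lc_b_rc_10_2 lc_b_rc_12_2 lc_b_Cert_tree lc_b_rc_10_2 lc_b_rc_7_0 lc_b_rc_9_2 lc_b_Cert_tree lc_b_Cert_tree lc_b_rc_8_2 lc_b_rc_10_2 lc_b_rc_10_0 lc_b_rc_12_2 lc_b_Cert_tree lc_b_Cert_tree lc_b_Cert_tree lc_b_rc_10_2 lc_b_rc_11_2 lc_b_rc_12_2 lc_b_rc_9_2 lc_b_Cert_tree lc_b_rc_7_0 lc_b_rc_9_2 lc_b_rc_9_2 lc_b_Cert_tree lc_b_rc_7_0 lc_b_rc_9_2 lc_b_rc_7_0) (@D3.rec (fun _ => (Cert rels S Gen.b)) lc_b_rc_9_2 lc_b_rc_9_2 lc_b_rc_8_2 lc_b_rc_12_2 lc_b_rc_8_2 lc_b_rc_11_2 lc_b_rc_8_2 lc_b_rc_8_2 lc_b_Cert_tree lc_b_rc_30_5 lc_b_rc_8_2 lc_b_Cert_tree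 lc_b_rc_9_2 lc_b_rc_10_2 lc_b_rc_9_2 lc_b_rc_9_2 lc_b_rc_9_2 lc_b_rc_10_2 lc_b_rc_10_2 lc_b_Cert_tree lc_b_Cert_tree lc_b_rc_7_0 lc_b_rc_8_0 lc_b_rc_7_0 lc_b_rc_8_0 lc_b_rc_32_62 lc_b_rc_7_0 lc_b_rc_1_3 lc_b_rc_7_0 lc_b_rc_9_2 lc_b_rc_7_0 lc_b_rc_7_0 lc_b_rc_12_2 lc_b_rc_8_2 lc_b_rc_9_2 lc_b_rc_11_4 lc_b_rc_7_0 lc_b_rc_11_2 lc_b_rc_8_2 lc_b_rc_8_4) (@D3.rec (fun _ => (Cert rels S Gen.b)) lc_b_rc_10_0 lc_b_rc_10_2 lc_b_rc_7_1 lc_b_rc_8_2 lc_b_rc_31_6 lc_b_rc_9_2 lc_b_rc_31_9 lc_b_rc_31_6 lc_b_rc_11_0 lc_b_rc_9_2 lc_b_rc_10_2 lc_b_rc_9_2 lc_b_rc_31_3 lc_b_rc_7_1 lc_b_rc_9_2 lc_b_rc_11_2 lc_b_rc_31_9 lc_b_rc_7_0 lc_b_rc_10_2 lc_b_rc_31_3 lc_b_rc_9_2 lc_b_rc_12_4 lc_b_rc_12_0 lc_b_Cert_tree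 lc_b_rc_7_0 lc_b_rc_8_2 lc_b_Cert_tree lc_b_rc_7_0 lc_b_Cert_tree lc_b_rc_31_6 lc_b_rc_7_0 lc_b_rc_7_0 lc_b_rc_8_4 lc_b_rc_12_4 lc_b_rc_9_2 lc_b_rc_11_4 lc_b_rc_31_9 lc_b_Cert_tree lc_b_rc_7_0 lc_b_rc_8_2) (@D3.rec (fun _ => (Cert rels S Gen.b)) lc_b_Cert_tree lc_b_rc_7_0 lc_b_Cert_tree lc_b_rc_31_9 lc_b_rc_7_0 lc_b_rc_1_5 lc_b_rc_8_4 lc_b_rc_7_0 lc_b_rc_7_0 lc_b_rc_10_2 lc_b_rc_1_7 lc_b_rc_31_9 lc_b_rc_32_26 lc_b_rc_10_2 lc_b_rc_11_2 lc_b_rc_12_2 lc_b_Cert_tree lc_b_rc_11_4 lc_b_rc_10_2 lc_b_rc_9_2 lc_b_rc_8_4 lc_b_rc_7_0 lc_b_rc_31_6 lc_b_rc_11_2 lc_b_rc_9_2 lc_b_Cert_tree lc_b_rc_9_2 lc_b_rc_12_2 lc_b_rc_7_0 lc_b_rc_9_2 lc_b_rc_32_20 lc_b_rc_10_2 lc_b_Cert_tree lc_b_rc_7_0 lc_b_rc_7_0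 lc_b_Cert_tree lc_b_rc_9_2 lc_b_Cert_tree lc_b_rc_12_2 lc_b_rc_30_9) (@D3.rec (fun _ => (Cert rels S Gen.b)) lc_b_rc_10_2 lc_b_Cert_tree lc_b_rc_7_0 lc_b_rc_7_1 lc_b_Cert_tree lc_b_rc_7_0 lc_b_Cert_tree lc_b_Cert_tree lc_b_rc_7_0 lc_b_rc_8_2 lc_b_rc_1_5 lc_b_rc_11_4 lc_b_rc_7_0 lc_b_rc_7_0 lc_b_rc_31_0 lc_b_rc_7_1 lc_b_rc_11_0 lc_b_rc_8_4 lc_b_rc_10_2 lc_b_rc_11_2 lc_b_rc_12_2 lc_b_rc_1_3 lc_b_Cert_tree lc_b_rc_12_2 lc_b_rc_9_2 lc_b_rc_9_0 lc_b_rc_7_0 lc_b_rc_12_2 lc_b_rc_12_2 lc_b_rc_9_2 lc_b_Cert_tree lc_b_rc_9_2 lc_b_rc_11_2 lc_b_rc_7_0 lc_b_rc_9_2 lc_b_rc_30_17 lc_b_rc_10_2 lc_b_Cert_tree lc_b_rc_7_0 lc_b_rc_7_0) (@D3.rec (fun _ => (Cert rels S Gen.b)) lc_b_Cert_tree lc_b_rc_9_2 lc_b_rc_11_2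 lc_b_Cert_tree lc_b_rc_30_9 lc_b_rc_10_2 lc_b_Cert_tree lc_b_rc_7_0 lc_b_rc_7_1 lc_b_Cert_tree lc_b_rc_7_0 lc_b_Cert_tree lc_b_Cert_tree lc_b_rc_7_0 lc_b_rc_8_2 lc_b_rc_8_2 lc_b_rc_31_12 lc_b_rc_7_0 lc_b_rc_8_2 lc_b_Cert_tree lc_b_rc_7_0 lc_b_Cert_tree lc_b_rc_7_0 lc_b_Cert_tree lc_b_rc_8_2 lc_b_rc_7_1 lc_b_rc_7_0 lc_b_rc_8_2 lc_b_rc_8_4 lc_b_rc_9_2 lc_b_Cert_tree lc_b_rc_8_2 lc_b_rc_9_0 lc_b_rc_1_5 lc_b_rc_9_2 lc_b_Cert_tree lc_b_rc_7_0 lc_b_rc_7_0 lc_b_rc_9_2 lc_b_rc_9_2) (@D3.rec (fun _ => (Cert rels S Gen.b)) lc_b_rc_10_0 lc_b_rc_11_0 lc_b_rc_11_2 lc_b_Cert_tree lc_b_Cert_tree lc_b_rc_7_0 lc_b_rc_31_3 lc_b_rc_7_0 lc_b_Cert_tree lc_b_rc_8_2 lc_b_rc_30_5 lc_b_rc_7_0 lc_b_Cert_tree lc_b_rc_11_2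 lc_b_rc_7_0 lc_b_Cert_tree lc_b_rc_7_0 lc_b_rc_9_2 lc_b_rc_31_3 lc_b_rc_12_4 lc_b_rc_8_4 lc_b_rc_7_0 lc_b_rc_9_2 lc_b_Cert_tree lc_b_Cert_tree lc_b_rc_10_2 lc_b_rc_1_5 lc_b_rc_7_0 lc_b_rc_9_2 lc_b_Cert_tree lc_b_rc_7_0 lc_b_rc_7_1 lc_b_rc_7_0 lc_b_Cert_tree lc_b_rc_9_0 lc_b_rc_8_2 lc_b_rc_31_3 lc_b_rc_7_0 lc_b_Cert_tree lc_b_rc_8_2) (@D3.rec (fun _ => (Cert rels S Gen.b)) lc_b_Cert_tree lc_b_rc_7_0 lc_b_rc_7_0 lc_b_rc_7_0 lc_b_rc_1_7 lc_b_rc_8_2 lc_b_rc_12_2 lc_b_rc_1_5 lc_b_rc_10_0 lc_b_rc_11_2 lc_b_rc_12_2 lc_b_rc_7_0 lc_b_rc_9_2 lc_b_Cert_tree lc_b_rc_10_2 lc_b_rc_7_0 lc_b_rc_7_1 lc_b_rc_8_2 lc_b_rc_30_13 lc_b_rc_7_0 lc_b_rc_9_2 lc_b_Cert_tree lc_b_Cert_tree lc_b_rc_8_4 lc_b_rc_7_0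 lc_b_rc_9_2 lc_b_rc_9_2 lc_b_Cert_tree lc_b_rc_31_9 lc_b_rc_9_2 lc_b_rc_11_2 lc_b_rc_12_2 lc_b_rc_9_2 lc_b_rc_10_2 lc_b_rc_7_0 lc_b_rc_8_2 lc_b_rc_10_2 lc_b_Cert_tree lc_b_Cert_tree lc_b_rc_7_0) (@D3.rec (fun _ => (Cert rels S Gen.b)) lc_b_Cert_tree lc_b_rc_8_2 lc_b_rc_12_2 lc_b_rc_11_2 lc_b_rc_9_2 lc_b_Cert_tree lc_b_rc_9_2 lc_b_Cert_tree lc_b_rc_31_9 lc_b_rc_10_2 lc_b_Cert_tree lc_b_rc_7_0 lc_b_Cert_tree lc_b_rc_7_0 lc_b_Cert_tree lc_b_Cert_tree lc_b_rc_11_0 lc_b_rc_9_2 lc_b_Cert_tree lc_b_Cert_tree lc_b_rc_10_2 lc_b_Cert_tree lc_b_rc_7_0 lc_b_rc_7_0 lc_b_rc_8_2 lc_b_rc_7_0 lc_b_rc_9_2 lc_b_rc_12_2 lc_b_Cert_tree lc_b_Cert_tree lc_b_rc_10_2 lc_b_rc_10_0 lc_b_rc_12_2 lc_b_rc_7_0 lc_b_rc_31_12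 lc_b_rc_31_9 lc_b_rc_7_0 lc_b_rc_10_2 lc_b_rc_30_13 lc_b_rc_7_1) (@D3.rec (fun _ => (Cert rels S Gen.b)) lc_b_rc_8_2 lc_b_rc_12_2 lc_b_rc_9_2 lc_b_Cert_tree lc_b_rc_9_2 lc_b_rc_10_2 lc_b_rc_31_6 lc_b_rc_12_2 lc_b_rc_10_2 lc_b_rc_9_2 lc_b_rc_9_2 lc_b_rc_1_1 lc_b_Cert_tree lc_b_Cert_tree lc_b_rc_7_0 lc_b_rc_7_1 lc_b_rc_8_2 lc_b_rc_11_2 lc_b_Cert_tree lc_b_rc_9_2 lc_b_rc_32_62 lc_b_rc_1_3 lc_b_rc_8_2 lc_b_rc_7_0 lc_b_rc_12_4 lc_b_Cert_tree lc_b_rc_7_0 lc_b_Cert_tree lc_b_Cert_tree lc_b_rc_8_2 lc_b_rc_1_3 lc_b_rc_7_0 lc_b_rc_7_0 lc_b_rc_30_9 lc_b_rc_9_2 lc_b_Cert_tree lc_b_rc_8_2 lc_b_rc_9_0 lc_b_rc_1_5 lc_b_Cert_tree) (@D3.rec (fun _ => (Cert rels S Gen.b)) lc_b_rc_11_2 lc_b_rc_7_0 lc_b_rc_7_0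 lc_b_rc_9_2 lc_b_rc_9_2 lc_b_rc_12_0 lc_b_rc_10_0 lc_b_Cert_tree lc_b_rc_12_2 lc_b_rc_7_0 lc_b_rc_9_2 lc_b_Cert_tree lc_b_Cert_tree lc_b_rc_10_2 lc_b_rc_7_0 lc_b_rc_31_9 lc_b_rc_7_0 lc_b_Cert_tree lc_b_rc_12_2 lc_b_rc_7_0 lc_b_Cert_tree lc_b_rc_11_2 lc_b_rc_9_2 lc_b_rc_30_9 lc_b_rc_31_9 lc_b_rc_12_4 lc_b_rc_7_0 lc_b_rc_9_2 lc_b_Cert_tree lc_b_rc_10_2 lc_b_rc_1_5 lc_b_rc_7_0 lc_b_rc_9_2 lc_b_Cert_tree lc_b_rc_7_0 lc_b_rc_1_3 lc_b_rc_7_0 lc_b_Cert_tree lc_b_rc_8_0 lc_b_rc_8_2) (@D3.rec (fun _ => (Cert rels S Gen.b)) lc_b_rc_7_0 lc_b_rc_7_0 lc_b_Cert_tree lc_b_rc_8_2 lc_b_Cert_tree lc_b_rc_7_0 lc_b_rc_7_0 lc_b_rc_7_0 lc_b_rc_9_2 lc_b_rc_8_2 lc_b_rc_11_2 lc_b_rc_12_2 lc_b_rc_10_0 lc_b_rc_11_2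 lc_b_rc_12_2 lc_b_rc_7_0 lc_b_rc_9_2 lc_b_Cert_tree lc_b_rc_10_2 lc_b_rc_7_0 lc_b_rc_11_4 lc_b_rc_8_2 lc_b_rc_30_13 lc_b_rc_30_13 lc_b_rc_9_2 lc_b_Cert_tree lc_b_Cert_tree lc_b_rc_11_2 lc_b_rc_7_0 lc_b_rc_9_2 lc_b_Cert_tree lc_b_rc_9_2 lc_b_rc_30_9 lc_b_rc_9_2 lc_b_rc_11_2 lc_b_rc_12_2 lc_b_rc_10_2 lc_b_rc_7_0 lc_b_rc_10_2 lc_b_Cert_tree) (@D3.rec (fun _ => (Cert rels S Gen.b)) lc_b_Cert_tree lc_b_rc_7_0 lc_b_Cert_tree lc_b_rc_8_2 lc_b_rc_11_2 lc_b_rc_8_2 lc_b_rc_9_2 lc_b_Cert_tree lc_b_rc_9_2 lc_b_Cert_tree lc_b_rc_1_5 lc_b_rc_10_2 lc_b_Cert_tree lc_b_rc_7_0 lc_b_Cert_tree lc_b_rc_7_0 lc_b_Cert_tree lc_b_rc_8_4 lc_b_rc_9_2 lc_b_Cert_tree lc_b_Cert_tree lc_b_rc_10_2 lc_b_rc_7_0 lc_b_rc_7_0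 lc_b_rc_11_2 lc_b_rc_7_0 lc_b_rc_9_2 lc_b_Cert_tree lc_b_rc_8_2 lc_b_rc_8_2 lc_b_rc_10_2 lc_b_rc_11_2 lc_b_rc_12_4 lc_b_rc_31_3 lc_b_rc_7_0 lc_b_rc_9_0 lc_b_rc_31_12 lc_b_rc_8_2 lc_b_rc_11_2 lc_b_rc_9_2) (@D3.rec (fun _ => (Cert rels S Gen.b)) lc_b_Cert_tree lc_b_rc_10_2 lc_b_rc_11_2 lc_b_rc_12_4 lc_b_rc_9_2 lc_b_rc_1_1 lc_b_Cert_tree lc_b_Cert_tree lc_b_rc_7_0 lc_b_rc_8_2 lc_b_rc_8_2 lc_b_rc_12_2 lc_b_Cert_tree lc_b_rc_9_2 lc_b_rc_30_17 lc_b_rc_7_0 lc_b_rc_8_4 lc_b_rc_1_5 lc_b_rc_12_2 lc_b_rc_11_2 lc_b_rc_11_0 lc_b_rc_31_3 lc_b_rc_1_1 lc_b_rc_8_2 lc_b_rc_10_2 lc_b_rc_8_2 lc_b_rc_11_2 lc_b_Cert_tree lc_b_rc_7_0 lc_b_rc_11_2 lc_b_rc_8_2 lc_b_rc_11_2 lc_b_rc_9_2 lc_b_rc_8_2 lc_b_rc_12_2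 lc_b_rc_10_2 lc_b_rc_9_2 lc_b_rc_11_4 lc_b_rc_8_4 lc_b_rc_31_9) (@D3.rec (fun _ => (Cert rels S Gen.b)) lc_b_rc_10_2 lc_b_rc_11_2 lc_b_rc_9_2 lc_b_rc_1_5 lc_b_rc_10_2 lc_b_rc_7_0 lc_b_rc_10_2 lc_b_rc_9_2 lc_b_Cert_tree lc_b_rc_7_0 lc_b_Cert_tree lc_b_rc_10_2 lc_b_rc_9_2 lc_b_rc_31_12 lc_b_rc_7_0 lc_b_rc_7_0 lc_b_rc_9_2 lc_b_rc_10_2 lc_b_Cert_tree lc_b_rc_10_2 lc_b_rc_12_2 lc_b_Cert_tree lc_b_Cert_tree lc_b_rc_7_0 lc_b_rc_7_0 lc_b_rc_12_0 lc_b_rc_12_2 lc_b_rc_7_1 lc_b_rc_9_2 lc_b_rc_11_2 lc_b_rc_8_0 lc_b_rc_7_0 lc_b_rc_31_9 lc_b_rc_7_0 lc_b_rc_8_4 lc_b_rc_1_5 lc_b_rc_11_2 lc_b_rc_1_3 lc_b_rc_1_5 lc_b_rc_1_1) (@D3.rec (fun _ => (Cert rels S Gen.b)) lc_b_rc_12_4 lc_b_rc_11_2 lc_b_rc_8_4 lc_b_rc_8_2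 lc_b_rc_12_2 lc_b_Cert_tree lc_b_rc_7_0 lc_b_rc_1_7 lc_b_rc_8_2 lc_b_rc_12_2 lc_b_rc_9_2 lc_b_rc_11_2 lc_b_rc_12_2 lc_b_rc_10_2 lc_b_rc_9_2 lc_b_rc_7_0 lc_b_rc_12_4 lc_b_rc_31_6 lc_b_rc_10_2 lc_b_rc_9_2 lc_b_rc_7_0 lc_b_rc_8_4 lc_b_rc_1_5 lc_b_rc_7_0 lc_b_rc_10_2 lc_b_rc_9_2 lc_b_rc_11_4 lc_b_Cert_tree lc_b_Cert_tree lc_b_rc_10_2 lc_b_rc_11_4 lc_b_rc_11_0 lc_b_rc_7_0 lc_b_rc_7_0 lc_b_rc_9_2 lc_b_rc_10_2 lc_b_Cert_tree lc_b_rc_11_2 lc_b_rc_1_5 lc_b_Cert_tree) (@D3.rec (fun _ => (Cert rels S Gen.b)) lc_b_Cert_tree lc_b_rc_7_0 lc_b_rc_7_0 lc_b_rc_11_0 lc_b_rc_31_6 lc_b_rc_11_2 lc_b_rc_9_2 lc_b_rc_11_2 lc_b_rc_12_2 lc_b_rc_7_0 lc_b_rc_1_3 lc_b_rc_7_0 lc_b_rc_7_0 lc_b_rc_30_13 lc_b_rc_10_2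 lc_b_rc_11_2 lc_b_rc_12_2 lc_b_rc_1_1 lc_b_rc_7_0 lc_b_rc_9_2 lc_b_rc_7_1 lc_b_rc_9_2 lc_b_rc_30_9 lc_b_rc_8_4 lc_b_rc_10_2 lc_b_Cert_tree lc_b_rc_7_0 lc_b_rc_1_7 lc_b_rc_12_2 lc_b_Cert_tree lc_b_rc_9_2 lc_b_rc_31_9 lc_b_rc_7_0 lc_b_rc_9_2 lc_b_rc_31_9 lc_b_rc_8_2 lc_b_rc_10_2 lc_b_Cert_tree lc_b_Cert_tree lc_b_rc_12_0) (@D3.rec (fun _ => (Cert rels S Gen.b)) lc_b_rc_30_13 lc_b_Cert_tree lc_b_rc_32_62 lc_b_rc_7_0 lc_b_rc_9_2 lc_b_rc_10_2 lc_b_rc_8_4 lc_b_Cert_tree lc_b_rc_9_2 lc_b_rc_11_2 lc_b_rc_7_1 lc_b_rc_1_7 lc_b_rc_8_2 lc_b_rc_9_2 lc_b_rc_7_0 lc_b_rc_7_0 lc_b_rc_7_0 lc_b_rc_30_5 lc_b_rc_10_2 lc_b_rc_11_2 lc_b_rc_12_2 lc_b_rc_30_5 lc_b_rc_7_0 lc_b_rc_9_2 lc_b_rc_30_9 lc_b_rc_9_2 lc_b_rc_8_4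 lc_b_rc_8_4 lc_b_rc_10_2 lc_b_Cert_tree lc_b_rc_7_0 lc_b_rc_1_7 lc_b_Cert_tree lc_b_rc_11_2 lc_b_rc_9_2 lc_b_rc_10_2 lc_b_rc_1_7 lc_b_rc_7_0 lc_b_rc_9_2 lc_b_rc_8_2) (@D3.rec (fun _ => (Cert rels S Gen.b)) lc_b_Cert_tree lc_b_Cert_tree lc_b_rc_1_7 lc_b_Cert_tree lc_b_rc_7_0 lc_b_rc_9_2 lc_b_rc_10_2 lc_b_Cert_tree lc_b_rc_8_4 lc_b_rc_9_2 lc_b_rc_11_2 lc_b_rc_12_2 lc_b_rc_8_2 lc_b_rc_8_2 lc_b_rc_9_2 lc_b_Cert_tree lc_b_rc_8_2 lc_b_rc_7_0 lc_b_Cert_tree lc_b_rc_9_2 lc_b_rc_8_4 lc_b_Cert_tree lc_b_rc_10_2 lc_b_rc_9_2 lc_b_Cert_tree lc_b_rc_7_0 lc_b_Cert_tree lc_b_rc_8_2 lc_b_Cert_tree lc_b_rc_8_2 lc_b_rc_11_2 lc_b_rc_7_0 lc_b_Cert_tree lc_b_rc_11_2 lc_b_rc_30_13 lc_b_rc_1_5 lc_b_Cert_tree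 lc_b_rc_11_2 lc_b_rc_7_0 lc_b_rc_9_2) (@D3.rec (fun _ => (Cert rels S Gen.b)) lc_b_rc_8_2 lc_b_rc_10_2 lc_b_Cert_tree lc_b_rc_7_0 lc_b_rc_31_9 lc_b_rc_7_0 lc_b_rc_7_0 lc_b_Cert_tree lc_b_rc_11_2 lc_b_rc_12_2 lc_b_Cert_tree lc_b_rc_7_0 lc_b_rc_11_2 lc_b_Cert_tree lc_b_rc_9_2 lc_b_rc_7_1 lc_b_Cert_tree lc_b_rc_10_2 lc_b_rc_9_2 lc_b_Cert_tree lc_b_Cert_tree lc_b_rc_8_2 lc_b_rc_7_0 lc_b_Cert_tree lc_b_rc_9_2 lc_b_rc_1_5 lc_b_Cert_tree lc_b_rc_30_5 lc_b_rc_7_0 lc_b_rc_9_2 lc_b_rc_8_2 lc_b_rc_10_2 lc_b_Cert_tree lc_b_rc_7_0 lc_b_rc_30_5 lc_b_rc_7_0 lc_b_rc_7_0 lc_b_Cert_tree lc_b_rc_11_2 lc_b_rc_12_2) (@D3.rec (fun _ => (Cert rels S Gen.b)) lc_b_Cert_tree lc_b_rc_7_0 lc_b_rc_12_2 lc_b_rc_7_0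 lc_b_rc_7_0 lc_b_rc_31_12 lc_b_rc_7_0 lc_b_rc_8_2 lc_b_rc_7_0 lc_b_rc_8_2 lc_b_rc_12_2 lc_b_rc_1_5 lc_b_rc_10_2 lc_b_rc_8_2 lc_b_rc_30_17 lc_b_rc_8_4 lc_b_Cert_tree lc_b_Cert_tree lc_b_rc_7_0 lc_b_rc_7_0 lc_b_Cert_tree lc_b_rc_12_2 lc_b_Cert_tree lc_b_rc_7_1 lc_b_rc_7_0 lc_b_rc_7_0 lc_b_rc_9_2 lc_b_rc_8_2 lc_b_Cert_tree lc_b_rc_7_0 lc_b_rc_11_4 lc_b_rc_31_6 lc_b_Cert_tree lc_b_rc_7_0 lc_b_rc_7_0 lc_b_Cert_tree lc_b_rc_8_2 lc_b_rc_11_2 lc_b_rc_7_0 lc_b_Cert_tree) (@D3.rec (fun _ => (Cert rels S Gen.b)) lc_b_rc_8_2 lc_b_rc_12_2 lc_b_Cert_tree lc_b_Cert_tree lc_b_Cert_tree lc_b_Cert_tree lc_b_Cert_tree lc_b_Cert_tree lc_b_rc_7_0 lc_b_rc_7_0 lc_b_rc_7_0 lc_b_rc_7_0 lc_b_rc_7_0 lc_b_rc_7_0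 lc_b_rc_7_0 lc_b_rc_1_3 lc_b_rc_11_4 lc_b_rc_7_0 lc_b_rc_1_3 lc_b_rc_12_4 lc_b_rc_11_2 lc_b_rc_12_2 lc_b_Cert_tree lc_b_rc_8_2 lc_b_rc_11_2 lc_b_rc_7_0 lc_b_Cert_tree lc_b_rc_7_0 lc_b_rc_31_3 lc_b_rc_9_2 lc_b_rc_7_1 lc_b_rc_12_2 lc_b_rc_11_2 lc_b_Cert_tree lc_b_rc_8_2 lc_b_rc_12_2 lc_b_rc_7_0 lc_b_Cert_tree lc_b_rc_31_6 lc_b_rc_12_2) (@D3.rec (fun _ => (Cert rels S Gen.b)) lc_b_rc_8_4 lc_b_rc_31_9 lc_b_Cert_tree lc_b_rc_7_0 lc_b_Cert_tree lc_b_Cert_tree lc_b_rc_8_2 lc_b_rc_11_2 lc_b_rc_12_2 lc_b_rc_8_2 lc_b_rc_12_2 lc_b_Cert_tree lc_b_rc_7_0 lc_b_rc_12_4 lc_b_Cert_tree lc_b_rc_8_2 lc_b_rc_12_2 lc_b_rc_11_2 lc_b_rc_8_2 lc_b_rc_11_2 lc_b_rc_32_26 lc_b_rc_8_2 lc_b_rc_12_2 lc_b_rc_32_26 lc_b_rc_12_2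 lc_b_rc_11_2 lc_b_rc_7_0 lc_b_rc_11_0 lc_b_rc_11_0 lc_b_rc_9_2 lc_b_rc_8_4 lc_b_rc_1_3 lc_b_rc_7_0 lc_b_rc_9_2 lc_b_rc_12_0 lc_b_rc_9_2 lc_b_rc_8_4 lc_b_rc_31_12 lc_b_rc_31_0 lc_b_rc_10_2)
def ce_b_8 : D2 → D3 → (Cert rels S Gen.b) := @D2.rec (fun _ => D3 → (Cert rels S Gen.b)) (@D3.rec (fun _ => (Cert rels S Gen.b)) lc_b_rc_8_0 lc_b_rc_8_2 lc_b_rc_31_3 lc_b_rc_9_2 lc_b_rc_8_2 lc_b_rc_30_13 lc_b_rc_10_2 lc_b_rc_9_2 lc_b_rc_9_0 lc_b_rc_10_2 lc_b_rc_12_2 lc_b_rc_9_0 lc_b_rc_11_4 lc_b_rc_7_0 lc_b_rc_12_0 lc_b_Cert_tree lc_b_rc_10_2 lc_b_rc_9_2 lc_b_Cert_tree lc_b_rc_7_0 lc_b_rc_12_4 lc_b_rc_7_0 lc_b_rc_1_7 lc_b_Cert_tree lc_b_rc_10_2 lc_b_rc_9_2 lc_b_Cert_tree lc_b_rc_7_0 lc_b_rc_11_2 lc_b_rc_31_12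 lc_b_rc_1_5 lc_b_rc_8_2 lc_b_Cert_tree lc_b_rc_7_0 lc_b_rc_1_5 lc_b_rc_8_2 lc_b_Cert_tree lc_b_rc_7_0 lc_b_rc_7_0 lc_b_rc_10_2) (@D3.rec (fun _ => (Cert rels S Gen.b)) lc_b_rc_11_2 lc_b_Cert_tree lc_b_rc_7_0 lc_b_rc_31_3 lc_b_rc_8_2 lc_b_rc_11_2 lc_b_rc_7_0 lc_b_rc_10_2 lc_b_rc_12_2 lc_b_Cert_tree lc_b_rc_7_0 lc_b_rc_7_1 lc_b_rc_8_2 lc_b_rc_12_2 lc_b_rc_7_0 lc_b_Cert_tree lc_b_Cert_tree lc_b_rc_7_0 lc_b_Cert_tree lc_b_Cert_tree lc_b_rc_11_2 lc_b_rc_7_0 lc_b_Cert_tree lc_b_Cert_tree lc_b_rc_7_0 lc_b_Cert_tree lc_b_Cert_tree lc_b_rc_7_0 lc_b_Cert_tree lc_b_rc_7_0 lc_b_rc_9_2 lc_b_Cert_tree lc_b_rc_7_0 lc_b_rc_10_2 lc_b_Cert_tree lc_b_rc_7_0 lc_b_rc_9_0 lc_b_rc_31_6 lc_b_rc_12_2 lc_b_Cert_tree)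 (@D3.rec (fun _ => (Cert rels S Gen.b)) lc_b_rc_7_0 lc_b_rc_7_0 lc_b_rc_7_0 lc_b_rc_12_0 lc_b_rc_9_2 lc_b_rc_11_2 lc_b_Cert_tree lc_b_Cert_tree lc_b_rc_7_0 lc_b_rc_9_2 lc_b_Cert_tree lc_b_rc_7_0 lc_b_rc_10_2 lc_b_Cert_tree lc_b_rc_7_0 lc_b_rc_12_4 lc_b_rc_1_7 lc_b_rc_11_2 lc_b_Cert_tree lc_b_rc_7_0 lc_b_rc_7_0 lc_b_rc_31_6 lc_b_rc_31_6 lc_b_rc_9_2 lc_b_rc_12_2 lc_b_Cert_tree lc_b_Cert_tree lc_b_rc_7_0 lc_b_Cert_tree lc_b_rc_11_2 lc_b_rc_10_2 lc_b_Cert_tree lc_b_rc_7_0 lc_b_Cert_tree lc_b_rc_12_2 lc_b_rc_10_2 lc_b_rc_9_2 lc_b_rc_32_36 lc_b_rc_32_26 lc_b_rc_11_4) (@D3.rec (fun _ => (Cert rels S Gen.b)) lc_b_rc_12_4 lc_b_rc_7_0 lc_b_rc_7_0 lc_b_rc_12_2 lc_b_rc_11_2 lc_b_rc_9_2 lc_b_rc_7_0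 lc_b_rc_9_2 lc_b_rc_8_4 lc_b_rc_7_0 lc_b_rc_9_2 lc_b_rc_32_67 lc_b_rc_12_2 lc_b_rc_7_0 lc_b_rc_10_0 lc_b_rc_8_2 lc_b_rc_11_2 lc_b_rc_9_2 lc_b_rc_7_1 lc_b_rc_9_2 lc_b_rc_10_0 lc_b_rc_10_0 lc_b_rc_1_5 lc_b_rc_11_2 lc_b_rc_7_0 lc_b_rc_10_0 lc_b_rc_8_2 lc_b_rc_12_2 lc_b_rc_30_13 lc_b_rc_7_1 lc_b_rc_9_2 lc_b_rc_10_0 lc_b_rc_31_9 lc_b_rc_10_2 lc_b_rc_7_0 lc_b_rc_11_2 lc_b_rc_10_2 lc_b_rc_7_0 lc_b_rc_12_2 lc_b_rc_7_0) (@D3.rec (fun _ => (Cert rels S Gen.b)) lc_b_rc_31_6 lc_b_rc_8_2 lc_b_rc_7_0 lc_b_rc_7_0 lc_b_rc_9_2 lc_b_rc_11_4 lc_b_rc_31_6 lc_b_rc_7_0 lc_b_rc_7_0 lc_b_rc_30_17 lc_b_rc_7_0 lc_b_rc_7_0 lc_b_rc_9_2 lc_b_rc_30_9 lc_b_rc_7_1 lc_b_rc_7_0 lc_b_rc_12_4 lc_b_rc_10_2 lc_b_Cert_tree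 lc_b_rc_7_0 lc_b_rc_31_6 lc_b_rc_11_2 lc_b_Cert_tree lc_b_rc_7_0 lc_b_Cert_tree lc_b_Cert_tree lc_b_rc_7_0 lc_b_rc_12_2 lc_b_rc_10_0 lc_b_Cert_tree lc_b_rc_7_0 lc_b_rc_10_0 lc_b_rc_8_2 lc_b_rc_12_2 lc_b_rc_1_5 lc_b_rc_8_4 lc_b_rc_30_9 lc_b_rc_10_0 lc_b_rc_11_2 lc_b_rc_8_2) (@D3.rec (fun _ => (Cert rels S Gen.b)) lc_b_rc_10_2 lc_b_rc_11_2 lc_b_Cert_tree lc_b_rc_7_0 lc_b_rc_7_0 lc_b_rc_11_4 lc_b_rc_32_72 lc_b_Cert_tree lc_b_rc_7_0 lc_b_rc_31_9 lc_b_rc_12_2 lc_b_Cert_tree lc_b_rc_7_0 lc_b_Cert_tree lc_b_Cert_tree lc_b_rc_7_0 lc_b_rc_10_0 lc_b_rc_10_0 lc_b_Cert_tree lc_b_rc_7_0 lc_b_rc_10_0 lc_b_rc_10_2 lc_b_rc_11_2 lc_b_rc_1_5 lc_b_rc_7_0 lc_b_rc_11_2 lc_b_rc_10_0 lc_b_rc_31_6 lc_b_rc_11_2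 lc_b_rc_10_2 lc_b_rc_12_2 lc_b_Cert_tree lc_b_rc_7_0 lc_b_rc_7_0 lc_b_rc_10_2 lc_b_rc_12_4 lc_b_rc_31_12 lc_b_rc_7_0 lc_b_rc_1_7 lc_b_rc_7_0) (@D3.rec (fun _ => (Cert rels S Gen.b)) lc_b_Cert_tree lc_b_rc_1_3 lc_b_rc_7_0 lc_b_rc_10_2 lc_b_rc_11_4 lc_b_rc_1_9 lc_b_rc_7_0 lc_b_rc_10_0 lc_b_rc_7_0 lc_b_Cert_tree lc_b_rc_1_3 lc_b_rc_7_0 lc_b_Cert_tree lc_b_rc_7_0 lc_b_Cert_tree lc_b_rc_31_6 lc_b_rc_9_2 lc_b_rc_10_2 lc_b_rc_11_2 lc_b_rc_10_2 lc_b_rc_7_0 lc_b_Cert_tree lc_b_rc_7_0 lc_b_Cert_tree lc_b_rc_7_0 lc_b_rc_12_2 lc_b_rc_10_2 lc_b_rc_12_2 lc_b_rc_12_4 lc_b_rc_1_3 lc_b_rc_11_4 lc_b_rc_7_0 lc_b_rc_7_0 lc_b_rc_7_0 lc_b_Cert_tree lc_b_rc_7_0 lc_b_Cert_tree lc_b_rc_11_4 lc_b_rc_32_15 lc_b_Cert_tree)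 (@D3.rec (fun _ => (Cert rels S Gen.b)) lc_b_rc_7_0 lc_b_rc_9_0 lc_b_rc_11_2 lc_b_Cert_tree lc_b_rc_7_0 lc_b_Cert_tree lc_b_rc_8_2 lc_b_rc_12_2 lc_b_Cert_tree lc_b_rc_8_2 lc_b_rc_11_2 lc_b_rc_7_0 lc_b_rc_8_4 lc_b_Cert_tree lc_b_rc_12_2 lc_b_rc_11_4 lc_b_rc_7_0 lc_b_rc_31_9 lc_b_Cert_tree lc_b_rc_11_2 lc_b_rc_12_4 lc_b_rc_8_2 lc_b_rc_8_2 lc_b_rc_12_2 lc_b_rc_12_2 lc_b_rc_8_2 lc_b_rc_10_0 lc_b_rc_7_0 lc_b_rc_7_0 lc_b_Cert_tree lc_b_rc_8_2 lc_b_rc_11_2 lc_b_rc_7_0 lc_b_rc_7_0 lc_b_Cert_tree lc_b_rc_8_2 lc_b_rc_12_2 lc_b_rc_1_5 lc_b_rc_10_2 lc_b_rc_11_2) (@D3.rec (fun _ => (Cert rels S Gen.b)) lc_b_rc_12_2 lc_b_rc_11_4 lc_b_rc_32_31 lc_b_Cert_tree lc_b_rc_7_0 lc_b_Cert_tree lc_b_rc_8_2 lc_b_rc_11_2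 lc_b_rc_7_0 lc_b_Cert_tree lc_b_rc_7_1 lc_b_Cert_tree lc_b_Cert_tree lc_b_rc_1_5 lc_b_rc_9_0 lc_b_rc_11_2 lc_b_rc_12_2 lc_b_rc_31_12 lc_b_rc_10_2 lc_b_Cert_tree lc_b_rc_7_0 lc_b_Cert_tree lc_b_rc_8_2 lc_b_rc_12_2 lc_b_rc_7_0 lc_b_Cert_tree lc_b_rc_31_6 lc_b_Cert_tree lc_b_Cert_tree lc_b_rc_9_2 lc_b_Cert_tree lc_b_rc_7_0 lc_b_rc_7_0 lc_b_Cert_tree lc_b_rc_31_3 lc_b_Cert_tree lc_b_rc_7_0 lc_b_rc_7_0 lc_b_Cert_tree lc_b_rc_12_2) (@D3.rec (fun _ => (Cert rels S Gen.b)) lc_b_Cert_tree lc_b_rc_9_2 lc_b_Cert_tree lc_b_rc_7_0 lc_b_rc_7_0 lc_b_Cert_tree lc_b_rc_1_3 lc_b_Cert_tree lc_b_rc_7_0 lc_b_rc_7_0 lc_b_Cert_tree lc_b_rc_1_3 lc_b_Cert_tree lc_b_rc_10_0 lc_b_rc_11_2 lc_b_Cert_tree lc_b_rc_7_0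 lc_b_rc_9_2 lc_b_rc_10_2 lc_b_Cert_tree lc_b_rc_1_5 lc_b_rc_7_0 lc_b_Cert_tree lc_b_rc_9_2 lc_b_rc_1_1 lc_b_Cert_tree lc_b_rc_10_2 lc_b_Cert_tree lc_b_rc_7_0 lc_b_Cert_tree lc_b_rc_8_2 lc_b_rc_11_2 lc_b_Cert_tree lc_b_rc_7_0 lc_b_Cert_tree lc_b_Cert_tree lc_b_rc_8_2 lc_b_Cert_tree lc_b_rc_7_0 lc_b_rc_7_0) (@D3.rec (fun _ => (Cert rels S Gen.b)) lc_b_Cert_tree lc_b_rc_9_2 lc_b_Cert_tree lc_b_rc_7_0 lc_b_rc_12_2 lc_b_rc_8_2 lc_b_rc_12_2 lc_b_rc_1_5 lc_b_rc_8_4 lc_b_rc_31_6 lc_b_rc_12_2 lc_b_rc_7_0 lc_b_rc_9_2 lc_b_rc_8_4 lc_b_rc_7_0 lc_b_rc_10_2 lc_b_rc_11_2 lc_b_rc_7_0 lc_b_rc_10_0 lc_b_Cert_tree lc_b_rc_12_2 lc_b_rc_7_0 lc_b_rc_9_2 lc_b_Cert_tree lc_b_rc_10_2 lc_b_rc_7_0 lc_b_rc_12_4 lc_b_rc_12_4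 lc_b_rc_9_2 lc_b_Cert_tree lc_b_rc_12_2 lc_b_rc_10_2 lc_b_Cert_tree lc_b_rc_7_0 lc_b_Cert_tree lc_b_rc_8_2 lc_b_rc_12_2 lc_b_Cert_tree lc_b_rc_7_0 lc_b_Cert_tree) (@D3.rec (fun _ => (Cert rels S Gen.b)) lc_b_Cert_tree lc_b_rc_8_2 lc_b_Cert_tree lc_b_rc_7_0 lc_b_rc_7_0 lc_b_Cert_tree lc_b_rc_9_2 lc_b_Cert_tree lc_b_rc_7_0 lc_b_rc_11_2 lc_b_rc_8_2 lc_b_rc_11_2 lc_b_rc_1_5 lc_b_rc_1_5 lc_b_rc_11_2 lc_b_rc_11_2 lc_b_rc_7_0 lc_b_rc_9_2 lc_b_rc_8_4 lc_b_rc_7_0 lc_b_rc_10_2 lc_b_rc_12_2 lc_b_rc_7_0 lc_b_rc_11_2 lc_b_rc_8_2 lc_b_rc_1_5 lc_b_rc_8_0 lc_b_Cert_tree lc_b_rc_30_5 lc_b_rc_10_2 lc_b_rc_32_62 lc_b_rc_12_2 lc_b_Cert_tree lc_b_Cert_tree lc_b_rc_7_0 lc_b_Cert_tree lc_b_Cert_tree lc_b_rc_8_2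 lc_b_Cert_tree lc_b_rc_7_0) (@D3.rec (fun _ => (Cert rels S Gen.b)) lc_b_rc_7_0 lc_b_rc_1_7 lc_b_Cert_tree lc_b_rc_9_2 lc_b_Cert_tree lc_b_rc_7_0 lc_b_Cert_tree lc_b_rc_10_2 lc_b_rc_12_2 lc_b_rc_7_0 lc_b_rc_9_2 lc_b_Cert_tree lc_b_rc_10_2 lc_b_Cert_tree lc_b_rc_9_2 lc_b_rc_11_2 lc_b_rc_12_2 lc_b_rc_10_2 lc_b_rc_7_0 lc_b_rc_10_2 lc_b_rc_8_2 lc_b_rc_12_2 lc_b_rc_1_5 lc_b_Cert_tree lc_b_rc_8_0 lc_b_rc_10_2 lc_b_rc_10_2 lc_b_rc_11_2 lc_b_rc_1_3 lc_b_Cert_tree lc_b_Cert_tree lc_b_rc_7_0 lc_b_Cert_tree lc_b_Cert_tree lc_b_rc_8_2 lc_b_Cert_tree lc_b_rc_7_0 lc_b_rc_7_0 lc_b_rc_30_13 lc_b_Cert_tree) (@D3.rec (fun _ => (Cert rels S Gen.b)) lc_b_rc_9_2 lc_b_Cert_tree lc_b_rc_7_0 lc_b_Cert_tree lc_b_rc_11_0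 lc_b_rc_11_2 lc_b_rc_7_0 lc_b_rc_9_2 lc_b_Cert_tree lc_b_rc_10_2 lc_b_Cert_tree lc_b_rc_9_2 lc_b_rc_11_2 lc_b_rc_12_2 lc_b_rc_10_2 lc_b_rc_7_0 lc_b_rc_10_2 lc_b_rc_1_7 lc_b_Cert_tree lc_b_rc_12_2 lc_b_Cert_tree lc_b_rc_9_2 lc_b_Cert_tree lc_b_rc_7_0 lc_b_rc_9_2 lc_b_rc_7_0 lc_b_rc_1_7 lc_b_rc_9_2 lc_b_rc_11_2 lc_b_rc_12_2 lc_b_rc_10_2 lc_b_rc_32_36 lc_b_Cert_tree lc_b_rc_11_2 lc_b_Cert_tree lc_b_rc_9_2 lc_b_Cert_tree lc_b_rc_7_0 lc_b_rc_9_2 lc_b_rc_7_0) (@D3.rec (fun _ => (Cert rels S Gen.b)) lc_b_rc_1_7 lc_b_rc_9_2 lc_b_rc_11_2 lc_b_rc_10_2 lc_b_rc_31_0 lc_b_rc_12_2 lc_b_rc_7_0 lc_b_rc_7_1 lc_b_rc_7_0 lc_b_rc_12_4 lc_b_rc_7_0 lc_b_rc_12_2 lc_b_rc_10_0 lc_b_rc_11_2 lc_b_rc_7_0 lc_b_rc_8_4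 lc_b_rc_7_0 lc_b_rc_1_7 lc_b_rc_10_0 lc_b_rc_12_2 lc_b_rc_1_5 lc_b_rc_7_1 lc_b_rc_7_0 lc_b_rc_12_4 lc_b_rc_31_12 lc_b_rc_7_0 lc_b_rc_7_0 lc_b_rc_1_5 lc_b_rc_9_2 lc_b_rc_11_4 lc_b_rc_7_0 lc_b_rc_12_2 lc_b_rc_7_0 lc_b_rc_7_0 lc_b_rc_31_9 lc_b_rc_31_9 lc_b_rc_8_2 lc_b_Cert_tree lc_b_rc_7_0 lc_b_rc_9_0) (@D3.rec (fun _ => (Cert rels S Gen.b)) lc_b_rc_8_2 lc_b_rc_11_2 lc_b_rc_7_0 lc_b_rc_1_5 lc_b_Cert_tree lc_b_rc_9_2 lc_b_rc_7_0 lc_b_Cert_tree lc_b_rc_7_0 lc_b_rc_7_0 lc_b_rc_1_7 lc_b_rc_10_0 lc_b_rc_31_9 lc_b_Cert_tree lc_b_rc_7_0 lc_b_rc_8_0 lc_b_rc_8_2 lc_b_rc_12_2 lc_b_rc_7_0 lc_b_rc_1_5 lc_b_Cert_tree lc_b_rc_31_6 lc_b_rc_7_0 lc_b_Cert_tree lc_b_rc_7_0 lc_b_rc_7_0 lc_b_rc_9_2 lc_b_rc_1_1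 lc_b_rc_9_2 lc_b_rc_7_0 lc_b_rc_7_0 lc_b_rc_11_4 lc_b_rc_7_1 lc_b_rc_10_2 lc_b_rc_1_3 lc_b_Cert_tree lc_b_rc_7_0 lc_b_Cert_tree lc_b_rc_7_0 lc_b_rc_31_6) (@D3.rec (fun _ => (Cert rels S Gen.b)) lc_b_rc_8_2 lc_b_rc_31_6 lc_b_rc_7_0 lc_b_rc_10_2 lc_b_Cert_tree lc_b_Cert_tree lc_b_rc_7_0 lc_b_Cert_tree lc_b_Cert_tree lc_b_rc_7_0 lc_b_Cert_tree lc_b_rc_8_2 lc_b_rc_11_2 lc_b_rc_7_0 lc_b_rc_12_2 lc_b_rc_12_2 lc_b_rc_9_2 lc_b_Cert_tree lc_b_rc_7_0 lc_b_Cert_tree lc_b_rc_31_6 lc_b_rc_8_2 lc_b_rc_7_0 lc_b_rc_7_0 lc_b_rc_12_2 lc_b_rc_9_2 lc_b_Cert_tree lc_b_rc_7_0 lc_b_Cert_tree lc_b_rc_8_2 lc_b_rc_8_2 lc_b_rc_11_2 lc_b_Cert_tree lc_b_rc_11_2 lc_b_rc_12_2 lc_b_rc_7_0 lc_b_rc_7_0 lc_b_rc_10_0 lc_b_rc_8_2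 lc_b_rc_1_3) (@D3.rec (fun _ => (Cert rels S Gen.b)) lc_b_Cert_tree lc_b_rc_31_6 lc_b_Cert_tree lc_b_rc_31_6 lc_b_rc_7_1 lc_b_rc_7_0 lc_b_Cert_tree lc_b_rc_1_5 lc_b_Cert_tree lc_b_rc_9_2 lc_b_rc_12_2 lc_b_rc_11_2 lc_b_rc_11_2 lc_b_rc_9_2 lc_b_rc_9_2 lc_b_rc_12_4 lc_b_rc_7_0 lc_b_rc_7_0 lc_b_rc_9_2 lc_b_rc_12_4 lc_b_rc_8_2 lc_b_rc_31_6 lc_b_rc_7_0 lc_b_Cert_tree lc_b_Cert_tree lc_b_rc_7_0 lc_b_rc_8_2 lc_b_rc_7_0 lc_b_rc_7_0 lc_b_rc_10_2 lc_b_Cert_tree lc_b_rc_7_0 lc_b_Cert_tree lc_b_Cert_tree lc_b_Cert_tree lc_b_rc_7_0 lc_b_Cert_tree lc_b_rc_8_2 lc_b_rc_12_2 lc_b_rc_7_0) (@D3.rec (fun _ => (Cert rels S Gen.b)) lc_b_rc_11_2 lc_b_rc_9_2 lc_b_Cert_tree lc_b_rc_7_0 lc_b_Cert_tree lc_b_rc_11_2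 lc_b_rc_8_2 lc_b_rc_7_0 lc_b_rc_7_0 lc_b_rc_7_0 lc_b_rc_31_9 lc_b_rc_7_0 lc_b_Cert_tree lc_b_rc_8_2 lc_b_rc_31_3 lc_b_rc_12_2 lc_b_rc_31_6 lc_b_rc_11_2 lc_b_rc_12_2 lc_b_rc_31_9 lc_b_rc_7_1 lc_b_rc_12_2 lc_b_rc_12_2 lc_b_rc_7_0 lc_b_rc_8_4 lc_b_rc_7_0 lc_b_rc_7_0 lc_b_rc_11_2 lc_b_Cert_tree lc_b_rc_1_5 lc_b_Cert_tree lc_b_rc_31_12 lc_b_rc_12_2 lc_b_rc_12_2 lc_b_rc_30_9 lc_b_Cert_tree lc_b_rc_8_2 lc_b_rc_11_2 lc_b_rc_9_2 lc_b_Cert_tree) (@D3.rec (fun _ => (Cert rels S Gen.b)) lc_b_Cert_tree lc_b_rc_10_2 lc_b_rc_7_0 lc_b_rc_12_2 lc_b_rc_7_0 lc_b_rc_7_0 lc_b_rc_9_2 lc_b_Cert_tree lc_b_rc_1_3 lc_b_rc_7_0 lc_b_rc_1_5 lc_b_Cert_tree lc_b_rc_7_0 lc_b_rc_1_7 lc_b_rc_31_9 lc_b_Cert_tree lc_b_rc_7_0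 lc_b_rc_7_0 lc_b_rc_12_4 lc_b_rc_30_5 lc_b_rc_9_2 lc_b_Cert_tree lc_b_rc_7_0 lc_b_Cert_tree lc_b_rc_10_2 lc_b_rc_7_0 lc_b_rc_1_9 lc_b_rc_8_4 lc_b_Cert_tree lc_b_rc_7_0 lc_b_Cert_tree lc_b_Cert_tree lc_b_rc_11_2 lc_b_rc_9_2 lc_b_rc_12_2 lc_b_rc_10_2 lc_b_rc_7_0 lc_b_rc_10_2 lc_b_rc_7_0 lc_b_rc_9_2) (@D3.rec (fun _ => (Cert rels S Gen.b)) lc_b_Cert_tree lc_b_Cert_tree lc_b_rc_10_2 lc_b_Cert_tree lc_b_Cert_tree lc_b_Cert_tree lc_b_rc_10_2 lc_b_rc_12_2 lc_b_Cert_tree lc_b_rc_31_9 lc_b_rc_8_2 lc_b_rc_9_2 lc_b_rc_12_2 lc_b_Cert_tree lc_b_Cert_tree lc_b_rc_10_2 lc_b_rc_7_0 lc_b_rc_11_2 lc_b_rc_7_0 lc_b_rc_7_0 lc_b_rc_9_2 lc_b_Cert_tree lc_b_rc_7_0 lc_b_rc_7_1 lc_b_rc_31_12 lc_b_Cert_tree lc_b_rc_7_0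 lc_b_rc_10_2 lc_b_rc_8_2 lc_b_Cert_tree lc_b_rc_7_0 lc_b_rc_7_0 lc_b_rc_1_3 lc_b_rc_8_2 lc_b_rc_9_2 lc_b_Cert_tree lc_b_rc_7_0 lc_b_Cert_tree lc_b_rc_10_2 lc_b_rc_7_0) (@D3.rec (fun _ => (Cert rels S Gen.b)) lc_b_rc_30_17 lc_b_rc_12_2 lc_b_Cert_tree lc_b_rc_7_0 lc_b_Cert_tree lc_b_Cert_tree lc_b_rc_8_2 lc_b_rc_9_2 lc_b_rc_11_2 lc_b_rc_10_2 lc_b_rc_7_0 lc_b_rc_10_2 lc_b_rc_7_0 lc_b_rc_9_2 lc_b_Cert_tree lc_b_Cert_tree lc_b_rc_10_2 lc_b_Cert_tree lc_b_Cert_tree lc_b_Cert_tree lc_b_rc_10_2 lc_b_rc_11_2 lc_b_rc_1_7 lc_b_rc_12_2 lc_b_rc_10_2 lc_b_Cert_tree lc_b_rc_10_2 lc_b_rc_10_2 lc_b_rc_12_2 lc_b_Cert_tree lc_b_rc_7_0 lc_b_rc_7_0 lc_b_rc_1_9 lc_b_rc_9_2 lc_b_rc_7_0 lc_b_Cert_tree lc_b_Cert_tree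 lc_b_rc_7_0 lc_b_rc_7_0 lc_b_rc_7_0) (@D3.rec (fun _ => (Cert rels S Gen.b)) lc_b_rc_7_0 lc_b_rc_11_4 lc_b_rc_7_0 lc_b_rc_11_4 lc_b_rc_10_2 lc_b_rc_8_2 lc_b_rc_9_2 lc_b_rc_31_12 lc_b_rc_12_2 lc_b_rc_10_2 lc_b_Cert_tree lc_b_rc_11_2 lc_b_rc_7_0 lc_b_rc_9_2 lc_b_rc_10_2 lc_b_Cert_tree lc_b_rc_7_0 lc_b_rc_10_2 lc_b_rc_12_2 lc_b_rc_8_2 lc_b_rc_31_3 lc_b_Cert_tree lc_b_rc_1_7 lc_b_rc_11_2 lc_b_rc_10_2 lc_b_Cert_tree lc_b_rc_10_2 lc_b_rc_10_2 lc_b_rc_11_2 lc_b_rc_7_0 lc_b_rc_7_0 lc_b_rc_31_3 lc_b_rc_7_0 lc_b_rc_9_2 lc_b_rc_7_0 lc_b_rc_7_0 lc_b_rc_7_0 lc_b_rc_30_9 lc_b_rc_7_0 lc_b_rc_9_2) (@D3.rec (fun _ => (Cert rels S Gen.b)) lc_b_rc_10_2 lc_b_rc_7_0 lc_b_rc_9_2 lc_b_rc_11_2 lc_b_rc_7_1 lc_b_rc_10_2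 lc_b_Cert_tree lc_b_rc_12_2 lc_b_rc_7_0 lc_b_rc_9_2 lc_b_rc_10_2 lc_b_rc_30_13 lc_b_Cert_tree lc_b_rc_10_2 lc_b_rc_11_2 lc_b_rc_7_1 lc_b_rc_12_2 lc_b_Cert_tree lc_b_rc_1_5 lc_b_Cert_tree lc_b_Cert_tree lc_b_rc_7_0 lc_b_Cert_tree lc_b_rc_7_0 lc_b_rc_9_0 lc_b_rc_8_2 lc_b_rc_7_1 lc_b_rc_7_0 lc_b_rc_7_0 lc_b_rc_30_13 lc_b_rc_1_7 lc_b_rc_8_2 lc_b_rc_11_2 lc_b_rc_7_0 lc_b_rc_30_13 lc_b_rc_9_2 lc_b_rc_31_3 lc_b_rc_8_2 lc_b_rc_9_2 lc_b_rc_7_0) (@D3.rec (fun _ => (Cert rels S Gen.b)) lc_b_rc_30_9 lc_b_rc_7_0 lc_b_rc_8_4 lc_b_rc_10_2 lc_b_Cert_tree lc_b_rc_7_0 lc_b_rc_7_0 lc_b_rc_10_2 lc_b_rc_1_5 lc_b_rc_9_2 lc_b_rc_8_0 lc_b_rc_8_0 lc_b_rc_1_3 lc_b_rc_7_0 lc_b_rc_1_3 lc_b_rc_11_4 lc_b_rc_7_0 lc_b_rc_12_2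 lc_b_rc_10_2 lc_b_rc_7_1 lc_b_Cert_tree lc_b_rc_9_2 lc_b_Cert_tree lc_b_Cert_tree lc_b_rc_7_0 lc_b_rc_7_0 lc_b_rc_8_2 lc_b_rc_9_2 lc_b_rc_12_2 lc_b_rc_31_9 lc_b_rc_7_0 lc_b_rc_1_5 lc_b_Cert_tree lc_b_Cert_tree lc_b_rc_7_0 lc_b_Cert_tree lc_b_rc_7_0 lc_b_rc_11_2 lc_b_rc_8_2 lc_b_rc_12_2) (@D3.rec (fun _ => (Cert rels S Gen.b)) lc_b_rc_7_0 lc_b_rc_7_0 lc_b_rc_8_2 lc_b_rc_31_9 lc_b_rc_12_2 lc_b_rc_8_2 lc_b_rc_9_2 lc_b_rc_7_0 lc_b_rc_7_1 lc_b_rc_30_9 lc_b_rc_10_2 lc_b_Cert_tree lc_b_rc_7_0 lc_b_rc_7_0 lc_b_rc_9_2 lc_b_rc_9_0 lc_b_rc_11_2 lc_b_rc_9_0 lc_b_rc_7_0 lc_b_rc_11_2 lc_b_rc_10_2 lc_b_Cert_tree lc_b_rc_7_1 lc_b_rc_9_2 lc_b_Cert_tree lc_b_rc_31_3 lc_b_rc_7_0 lc_b_rc_7_0 lc_b_rc_8_2 lc_b_rc_9_2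 lc_b_rc_1_3 lc_b_rc_9_0 lc_b_rc_7_0 lc_b_rc_7_0 lc_b_rc_7_0 lc_b_rc_7_0 lc_b_rc_10_2 lc_b_rc_10_2 lc_b_rc_10_2 lc_b_rc_10_2)
def ce_b_9 : D2 → D3 → (Cert rels S Gen.b) := @D2.rec (fun _ => D3 → (Cert rels S Gen.b)) (@D3.rec (fun _ => (Cert rels S Gen.b)) lc_b_rc_7_0 lc_b_rc_7_0 lc_b_rc_30_9 lc_b_rc_8_2 lc_b_rc_11_2 lc_b_rc_30_9 lc_b_rc_8_2 lc_b_rc_12_2 lc_b_rc_7_0 lc_b_rc_7_0 lc_b_rc_10_2 lc_b_rc_12_2 lc_b_rc_8_2 lc_b_rc_7_1 lc_b_rc_12_4 lc_b_Cert_tree lc_b_rc_7_0 lc_b_rc_7_1 lc_b_Cert_tree lc_b_rc_7_0 lc_b_rc_7_0 lc_b_Cert_tree lc_b_rc_8_2 lc_b_rc_11_2 lc_b_rc_7_0 lc_b_Cert_tree lc_b_rc_8_2 lc_b_rc_12_2 lc_b_rc_8_2 lc_b_rc_31_9 lc_b_rc_7_0 lc_b_Cert_tree lc_b_rc_9_2 lc_b_rc_31_3 lc_b_rc_8_2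 lc_b_rc_7_0 lc_b_Cert_tree lc_b_rc_9_2 lc_b_rc_31_9 lc_b_rc_31_12) (@D3.rec (fun _ => (Cert rels S Gen.b)) lc_b_rc_8_2 lc_b_Cert_tree lc_b_rc_7_0 lc_b_rc_7_0 lc_b_Cert_tree lc_b_rc_1_5 lc_b_rc_7_0 lc_b_rc_7_0 lc_b_rc_1_5 lc_b_rc_8_2 lc_b_rc_9_2 lc_b_rc_9_2 lc_b_rc_9_2 lc_b_rc_11_0 lc_b_rc_8_4 lc_b_rc_10_0 lc_b_rc_10_0 lc_b_rc_9_2 lc_b_rc_9_2 lc_b_Cert_tree lc_b_Cert_tree lc_b_Cert_tree lc_b_Cert_tree lc_b_rc_7_0 lc_b_rc_7_0 lc_b_Cert_tree lc_b_rc_7_0 lc_b_Cert_tree lc_b_rc_7_0 lc_b_rc_7_0 lc_b_Cert_tree lc_b_rc_8_2 lc_b_rc_11_2 lc_b_rc_7_0 lc_b_Cert_tree lc_b_rc_8_2 lc_b_rc_12_2 lc_b_rc_7_0 lc_b_rc_8_2 lc_b_rc_11_2) (@D3.rec (fun _ => (Cert rels S Gen.b)) lc_b_rc_7_0 lc_b_rc_8_4 lc_b_rc_7_0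 lc_b_rc_9_2 lc_b_rc_11_4 lc_b_rc_7_1 lc_b_rc_1_7 lc_b_rc_8_2 lc_b_rc_12_2 lc_b_rc_7_0 lc_b_rc_8_4 lc_b_rc_31_6 lc_b_rc_9_2 lc_b_rc_8_4 lc_b_rc_10_0 lc_b_rc_7_0 lc_b_rc_9_0 lc_b_rc_1_3 lc_b_rc_31_9 lc_b_rc_9_2 lc_b_rc_7_0 lc_b_rc_9_0 lc_b_rc_31_9 lc_b_rc_30_9 lc_b_rc_9_2 lc_b_Cert_tree lc_b_rc_7_0 lc_b_rc_7_0 lc_b_Cert_tree lc_b_rc_7_0 lc_b_Cert_tree lc_b_rc_7_0 lc_b_rc_7_0 lc_b_Cert_tree lc_b_rc_7_0 lc_b_rc_11_2 lc_b_rc_7_0 lc_b_Cert_tree lc_b_rc_8_2 lc_b_rc_8_2) (@D3.rec (fun _ => (Cert rels S Gen.b)) lc_b_rc_11_2 lc_b_rc_8_2 lc_b_rc_12_2 lc_b_rc_7_0 lc_b_rc_7_1 lc_b_rc_12_2 lc_b_rc_10_0 lc_b_rc_8_2 lc_b_rc_12_2 lc_b_rc_8_2 lc_b_rc_11_2 lc_b_rc_9_2 lc_b_rc_9_2 lc_b_rc_12_2 lc_b_rc_7_0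 lc_b_rc_9_2 lc_b_Cert_tree lc_b_rc_11_2 lc_b_Cert_tree lc_b_rc_7_0 lc_b_Cert_tree lc_b_rc_8_2 lc_b_rc_11_2 lc_b_rc_7_0 lc_b_Cert_tree lc_b_rc_7_1 lc_b_rc_9_2 lc_b_rc_11_4 lc_b_Cert_tree lc_b_rc_11_2 lc_b_rc_7_0 lc_b_rc_9_2 lc_b_Cert_tree lc_b_rc_12_2 lc_b_Cert_tree lc_b_rc_7_0 lc_b_Cert_tree lc_b_rc_8_2 lc_b_rc_12_2 lc_b_rc_7_0) (@D3.rec (fun _ => (Cert rels S Gen.b)) lc_b_Cert_tree lc_b_rc_31_6 lc_b_rc_9_2 lc_b_rc_8_4 lc_b_Cert_tree lc_b_rc_7_0 lc_b_rc_7_0 lc_b_rc_8_2 lc_b_Cert_tree lc_b_rc_7_0 lc_b_rc_30_9 lc_b_rc_10_2 lc_b_rc_31_3 lc_b_rc_10_2 lc_b_rc_31_3 lc_b_rc_12_2 lc_b_rc_7_0 lc_b_rc_7_0 lc_b_rc_7_0 lc_b_rc_9_2 lc_b_rc_1_5 lc_b_Cert_tree lc_b_rc_7_0 lc_b_rc_30_1 lc_b_rc_31_9 lc_b_rc_31_3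 lc_b_rc_31_9 lc_b_rc_31_3 lc_b_rc_11_2 lc_b_rc_7_0 lc_b_rc_7_0 lc_b_rc_31_6 lc_b_rc_9_2 lc_b_rc_12_0 lc_b_Cert_tree lc_b_rc_1_5 lc_b_rc_7_0 lc_b_Cert_tree lc_b_rc_9_2 lc_b_rc_9_2) (@D3.rec (fun _ => (Cert rels S Gen.b)) lc_b_rc_11_0 lc_b_Cert_tree lc_b_rc_7_0 lc_b_rc_31_3 lc_b_rc_8_2 lc_b_rc_11_2 lc_b_rc_10_2 lc_b_Cert_tree lc_b_rc_12_2 lc_b_Cert_tree lc_b_rc_7_0 lc_b_rc_7_0 lc_b_Cert_tree lc_b_rc_9_2 lc_b_Cert_tree lc_b_rc_7_0 lc_b_rc_11_2 lc_b_rc_8_2 lc_b_rc_12_2 lc_b_rc_1_5 lc_b_Cert_tree lc_b_rc_8_0 lc_b_rc_12_2 lc_b_rc_7_0 lc_b_rc_9_2 lc_b_Cert_tree lc_b_Cert_tree lc_b_rc_10_2 lc_b_rc_9_2 lc_b_Cert_tree lc_b_rc_7_0 lc_b_rc_31_6 lc_b_Cert_tree lc_b_rc_7_0 lc_b_rc_12_4 lc_b_rc_31_9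 lc_b_rc_9_2 lc_b_rc_9_2 lc_b_rc_32_46 lc_b_Cert_tree) (@D3.rec (fun _ => (Cert rels S Gen.b)) lc_b_rc_7_0 lc_b_rc_8_2 lc_b_rc_8_2 lc_b_rc_12_2 lc_b_rc_8_2 lc_b_Cert_tree lc_b_rc_9_2 lc_b_Cert_tree lc_b_rc_7_0 lc_b_rc_7_0 lc_b_Cert_tree lc_b_rc_11_2 lc_b_Cert_tree lc_b_rc_7_0 lc_b_rc_31_3 lc_b_rc_8_2 lc_b_rc_11_2 lc_b_rc_1_5 lc_b_Cert_tree lc_b_rc_11_2 lc_b_rc_12_4 lc_b_rc_7_0 lc_b_rc_9_2 lc_b_Cert_tree lc_b_Cert_tree lc_b_rc_10_2 lc_b_rc_9_2 lc_b_Cert_tree lc_b_rc_7_0 lc_b_Cert_tree lc_b_rc_9_2 lc_b_rc_11_2 lc_b_rc_12_2 lc_b_rc_10_2 lc_b_rc_7_0 lc_b_rc_10_2 lc_b_Cert_tree lc_b_rc_9_2 lc_b_rc_11_2 lc_b_rc_12_2) (@D3.rec (fun _ => (Cert rels S Gen.b)) lc_b_rc_10_2 lc_b_rc_7_0 lc_b_rc_10_2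 lc_b_rc_7_0 lc_b_rc_7_1 lc_b_rc_9_2 lc_b_rc_11_2 lc_b_rc_12_2 lc_b_rc_10_2 lc_b_rc_7_0 lc_b_rc_9_0 lc_b_rc_9_2 lc_b_rc_11_2 lc_b_rc_10_2 lc_b_rc_7_0 lc_b_rc_7_0 lc_b_Cert_tree lc_b_rc_7_1 lc_b_rc_11_2 lc_b_rc_7_1 lc_b_rc_9_2 lc_b_rc_10_2 lc_b_rc_9_2 lc_b_Cert_tree lc_b_rc_8_2 lc_b_rc_12_2 lc_b_rc_31_6 lc_b_rc_9_2 lc_b_rc_7_1 lc_b_rc_1_3 lc_b_rc_12_2 lc_b_rc_7_0 lc_b_Cert_tree lc_b_rc_7_0 lc_b_rc_11_2 lc_b_rc_8_2 lc_b_rc_11_2 lc_b_rc_7_0 lc_b_rc_8_4 lc_b_rc_11_2) (@D3.rec (fun _ => (Cert rels S Gen.b)) lc_b_Cert_tree lc_b_rc_1_5 lc_b_Cert_tree lc_b_rc_12_2 lc_b_rc_7_0 lc_b_rc_9_2 lc_b_Cert_tree lc_b_rc_8_4 lc_b_rc_10_2 lc_b_rc_11_4 lc_b_Cert_tree lc_b_rc_7_0 lc_b_rc_11_2 lc_b_rc_32_62 lc_b_Cert_tree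 lc_b_rc_7_0 lc_b_rc_12_2 lc_b_rc_8_2 lc_b_rc_12_2 lc_b_rc_7_0 lc_b_rc_7_1 lc_b_rc_9_2 lc_b_Cert_tree lc_b_rc_1_5 lc_b_Cert_tree lc_b_rc_11_2 lc_b_rc_7_0 lc_b_rc_9_2 lc_b_Cert_tree lc_b_rc_9_0 lc_b_rc_10_2 lc_b_rc_9_2 lc_b_Cert_tree lc_b_rc_7_0 lc_b_rc_7_0 lc_b_rc_9_2 lc_b_rc_8_2 lc_b_rc_9_2 lc_b_rc_7_0 lc_b_Cert_tree) (@D3.rec (fun _ => (Cert rels S Gen.b)) lc_b_rc_7_0 lc_b_Cert_tree lc_b_rc_7_0 lc_b_rc_9_2 lc_b_rc_8_2 lc_b_rc_12_2 lc_b_rc_7_0 lc_b_Cert_tree lc_b_rc_31_6 lc_b_Cert_tree lc_b_rc_9_2 lc_b_rc_11_2 lc_b_Cert_tree lc_b_rc_7_0 lc_b_rc_8_2 lc_b_rc_10_2 lc_b_rc_7_0 lc_b_Cert_tree lc_b_rc_30_5 lc_b_Cert_tree lc_b_rc_7_0 lc_b_rc_10_2 lc_b_Cert_tree lc_b_rc_7_0 lc_b_rc_9_2 lc_b_Cert_tree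 lc_b_rc_11_2 lc_b_rc_11_0 lc_b_Cert_tree lc_b_rc_7_0 lc_b_rc_9_2 lc_b_rc_12_2 lc_b_Cert_tree lc_b_rc_7_0 lc_b_rc_8_2 lc_b_rc_12_4 lc_b_rc_7_0 lc_b_Cert_tree lc_b_rc_8_2 lc_b_Cert_tree) (@D3.rec (fun _ => (Cert rels S Gen.b)) lc_b_rc_7_0 lc_b_rc_10_2 lc_b_Cert_tree lc_b_rc_7_0 lc_b_rc_9_2 lc_b_Cert_tree lc_b_rc_8_4 lc_b_rc_10_2 lc_b_Cert_tree lc_b_rc_7_0 lc_b_rc_7_0 lc_b_rc_31_6 lc_b_rc_7_0 lc_b_rc_10_2 lc_b_rc_10_2 lc_b_rc_11_2 lc_b_rc_8_2 lc_b_rc_11_2 lc_b_rc_12_2 lc_b_rc_11_2 lc_b_rc_8_4 lc_b_rc_30_9 lc_b_Cert_tree lc_b_rc_7_0 lc_b_Cert_tree lc_b_rc_7_0 lc_b_rc_31_3 lc_b_rc_8_2 lc_b_rc_12_2 lc_b_rc_1_5 lc_b_Cert_tree lc_b_rc_11_2 lc_b_rc_12_2 lc_b_rc_7_0 lc_b_rc_9_2 lc_b_rc_31_6 lc_b_rc_10_2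 lc_b_rc_12_2 lc_b_rc_7_0 lc_b_rc_10_0) (@D3.rec (fun _ => (Cert rels S Gen.b)) lc_b_Cert_tree lc_b_rc_31_6 lc_b_rc_30_9 lc_b_rc_31_6 lc_b_rc_7_0 lc_b_rc_9_2 lc_b_rc_8_2 lc_b_rc_12_4 lc_b_Cert_tree lc_b_rc_9_2 lc_b_rc_11_4 lc_b_rc_12_2 lc_b_rc_1_3 lc_b_rc_10_2 lc_b_rc_9_2 lc_b_rc_7_0 lc_b_rc_7_0 lc_b_rc_9_2 lc_b_rc_10_2 lc_b_rc_10_2 lc_b_rc_1_5 lc_b_rc_7_0 lc_b_rc_8_2 lc_b_rc_8_2 lc_b_rc_11_2 lc_b_rc_7_0 lc_b_rc_7_0 lc_b_rc_9_0 lc_b_rc_7_1 lc_b_rc_1_5 lc_b_rc_8_2 lc_b_rc_12_2 lc_b_rc_12_2 lc_b_rc_11_4 lc_b_rc_8_0 lc_b_Cert_tree lc_b_rc_7_0 lc_b_Cert_tree lc_b_rc_7_0 lc_b_rc_31_0) (@D3.rec (fun _ => (Cert rels S Gen.b)) lc_b_rc_8_2 lc_b_rc_11_2 lc_b_rc_31_3 lc_b_Cert_tree lc_b_rc_11_2 lc_b_rc_12_2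 lc_b_rc_7_0 lc_b_rc_31_6 lc_b_rc_31_9 lc_b_rc_10_2 lc_b_rc_11_2 lc_b_rc_7_0 lc_b_rc_12_2 lc_b_rc_12_2 lc_b_rc_10_0 lc_b_rc_10_0 lc_b_rc_7_0 lc_b_rc_7_0 lc_b_rc_9_2 lc_b_rc_11_4 lc_b_rc_8_2 lc_b_Cert_tree lc_b_rc_9_2 lc_b_rc_11_2 lc_b_rc_8_2 lc_b_rc_9_0 lc_b_rc_10_2 lc_b_rc_9_2 lc_b_rc_7_0 lc_b_rc_7_0 lc_b_rc_9_2 lc_b_rc_10_2 lc_b_rc_10_2 lc_b_rc_31_12 lc_b_rc_7_0 lc_b_rc_11_2 lc_b_rc_8_2 lc_b_rc_12_2 lc_b_rc_7_0 lc_b_rc_9_2) (@D3.rec (fun _ => (Cert rels S Gen.b)) lc_b_Cert_tree lc_b_rc_30_9 lc_b_rc_10_2 lc_b_rc_30_9 lc_b_Cert_tree lc_b_Cert_tree lc_b_rc_10_2 lc_b_rc_11_2 lc_b_rc_12_2 lc_b_rc_7_0 lc_b_Cert_tree lc_b_rc_10_2 lc_b_Cert_tree lc_b_rc_10_2 lc_b_rc_11_2 lc_b_rc_12_2 lc_b_rc_9_2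 lc_b_rc_8_2 lc_b_rc_31_9 lc_b_rc_7_0 lc_b_rc_8_2 lc_b_Cert_tree lc_b_rc_11_2 lc_b_rc_8_0 lc_b_rc_1_5 lc_b_rc_7_0 lc_b_rc_9_2 lc_b_rc_8_2 lc_b_rc_9_0 lc_b_rc_10_2 lc_b_rc_11_2 lc_b_rc_30_9 lc_b_Cert_tree lc_b_rc_9_2 lc_b_rc_12_2 lc_b_rc_10_0 lc_b_rc_7_0 lc_b_rc_8_2 lc_b_Cert_tree lc_b_rc_11_2) (@D3.rec (fun _ => (Cert rels S Gen.b)) lc_b_rc_12_2 lc_b_rc_31_9 lc_b_rc_7_0 lc_b_rc_9_2 lc_b_rc_8_2 lc_b_rc_11_0 lc_b_rc_10_2 lc_b_rc_12_2 lc_b_rc_12_2 lc_b_Cert_tree lc_b_rc_1_3 lc_b_rc_7_0 lc_b_rc_8_2 lc_b_rc_31_9 lc_b_rc_10_2 lc_b_Cert_tree lc_b_rc_7_0 lc_b_rc_10_2 lc_b_Cert_tree lc_b_rc_7_0 lc_b_rc_7_0 lc_b_rc_8_2 lc_b_rc_7_0 lc_b_rc_8_2 lc_b_rc_7_0 lc_b_rc_30_5 lc_b_rc_31_12 lc_b_rc_7_0 lc_b_Cert_tree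 lc_b_rc_7_0 lc_b_Cert_tree lc_b_rc_10_2 lc_b_rc_8_2 lc_b_rc_12_2 lc_b_rc_31_6 lc_b_rc_8_2 lc_b_rc_11_2 lc_b_rc_7_0 lc_b_rc_30_9 lc_b_rc_7_1) (@D3.rec (fun _ => (Cert rels S Gen.b)) lc_b_rc_9_2 lc_b_Cert_tree lc_b_rc_11_4 lc_b_rc_7_0 lc_b_rc_8_4 lc_b_rc_1_3 lc_b_rc_9_2 lc_b_Cert_tree lc_b_rc_12_4 lc_b_rc_12_4 lc_b_Cert_tree lc_b_rc_11_4 lc_b_Cert_tree lc_b_rc_9_2 lc_b_rc_7_0 lc_b_Cert_tree lc_b_rc_8_2 lc_b_rc_9_2 lc_b_rc_7_0 lc_b_Cert_tree lc_b_rc_8_2 lc_b_rc_10_2 lc_b_rc_11_2 lc_b_rc_12_2 lc_b_rc_7_0 lc_b_rc_11_2 lc_b_rc_12_2 lc_b_rc_30_5 lc_b_rc_8_0 lc_b_Cert_tree lc_b_rc_11_0 lc_b_rc_11_2 lc_b_rc_7_0 lc_b_Cert_tree lc_b_rc_7_0 lc_b_rc_9_2 lc_b_Cert_tree lc_b_rc_7_1 lc_b_rc_10_2 lc_b_rc_11_2)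 (@D3.rec (fun _ => (Cert rels S Gen.b)) lc_b_rc_12_2 lc_b_rc_7_0 lc_b_rc_12_2 lc_b_rc_11_2 lc_b_rc_31_3 lc_b_rc_7_0 lc_b_Cert_tree lc_b_rc_30_17 lc_b_rc_12_2 lc_b_rc_7_0 lc_b_Cert_tree lc_b_rc_31_6 lc_b_rc_9_2 lc_b_Cert_tree lc_b_rc_31_9 lc_b_rc_10_2 lc_b_rc_7_0 lc_b_rc_9_2 lc_b_rc_8_4 lc_b_Cert_tree lc_b_rc_7_0 lc_b_rc_1_3 lc_b_rc_8_2 lc_b_rc_9_2 lc_b_rc_11_2 lc_b_rc_12_2 lc_b_Cert_tree lc_b_rc_10_2 lc_b_rc_7_0 lc_b_rc_9_2 lc_b_rc_10_2 lc_b_Cert_tree lc_b_Cert_tree lc_b_rc_7_0 lc_b_Cert_tree lc_b_rc_8_2 lc_b_rc_11_2 lc_b_rc_7_0 lc_b_Cert_tree lc_b_rc_12_4) (@D3.rec (fun _ => (Cert rels S Gen.b)) lc_b_Cert_tree lc_b_Cert_tree lc_b_rc_7_0 lc_b_rc_11_0 lc_b_Cert_tree lc_b_rc_12_2 lc_b_rc_10_2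 lc_b_rc_9_2 lc_b_Cert_tree lc_b_rc_32_31 lc_b_rc_7_0 lc_b_rc_9_2 lc_b_Cert_tree lc_b_rc_30_5 lc_b_rc_7_0 lc_b_rc_31_9 lc_b_rc_10_2 lc_b_rc_9_2 lc_b_rc_11_2 lc_b_rc_12_2 lc_b_Cert_tree lc_b_rc_10_2 lc_b_rc_7_0 lc_b_rc_9_2 lc_b_rc_10_2 lc_b_Cert_tree lc_b_Cert_tree lc_b_rc_7_0 lc_b_Cert_tree lc_b_rc_8_2 lc_b_rc_12_2 lc_b_rc_7_0 lc_b_Cert_tree lc_b_rc_8_0 lc_b_Cert_tree lc_b_Cert_tree lc_b_rc_7_0 lc_b_rc_12_0 lc_b_Cert_tree lc_b_rc_9_0) (@D3.rec (fun _ => (Cert rels S Gen.b)) lc_b_rc_9_2 lc_b_rc_9_2 lc_b_Cert_tree lc_b_rc_31_3 lc_b_rc_7_0 lc_b_rc_30_17 lc_b_rc_12_2 lc_b_rc_7_0 lc_b_rc_10_2 lc_b_rc_8_2 lc_b_rc_11_2 lc_b_rc_7_0 lc_b_rc_10_2 lc_b_Cert_tree lc_b_Cert_tree lc_b_rc_7_0 lc_b_Cert_tree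 lc_b_Cert_tree lc_b_rc_7_0 lc_b_rc_12_2 lc_b_rc_8_2 lc_b_rc_12_2 lc_b_rc_7_0 lc_b_rc_9_2 lc_b_rc_31_9 lc_b_rc_11_2 lc_b_rc_7_0 lc_b_rc_1_5 lc_b_rc_8_2 lc_b_rc_12_2 lc_b_rc_7_0 lc_b_rc_10_2 lc_b_Cert_tree lc_b_Cert_tree lc_b_rc_7_0 lc_b_Cert_tree lc_b_Cert_tree lc_b_rc_7_0 lc_b_rc_1_7 lc_b_rc_8_2) (@D3.rec (fun _ => (Cert rels S Gen.b)) lc_b_rc_11_2 lc_b_rc_10_2 lc_b_rc_11_2 lc_b_Cert_tree lc_b_rc_7_0 lc_b_rc_7_0 lc_b_rc_10_2 lc_b_Cert_tree lc_b_Cert_tree lc_b_rc_7_0 lc_b_Cert_tree lc_b_rc_8_2 lc_b_rc_11_2 lc_b_rc_7_0 lc_b_rc_10_2 lc_b_Cert_tree lc_b_rc_9_2 lc_b_Cert_tree lc_b_rc_7_0 lc_b_rc_9_2 lc_b_rc_7_0 lc_b_Cert_tree lc_b_Cert_tree lc_b_rc_8_2 lc_b_Cert_tree lc_b_rc_7_0 lc_b_rc_7_0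 lc_b_rc_7_0 lc_b_Cert_tree lc_b_rc_8_2 lc_b_rc_12_2 lc_b_Cert_tree lc_b_Cert_tree lc_b_rc_31_6 lc_b_rc_10_2 lc_b_Cert_tree lc_b_rc_12_2 lc_b_rc_7_0 lc_b_rc_7_0 lc_b_rc_10_2) (@D3.rec (fun _ => (Cert rels S Gen.b)) lc_b_Cert_tree lc_b_Cert_tree lc_b_rc_7_0 lc_b_Cert_tree lc_b_rc_8_2 lc_b_rc_12_2 lc_b_rc_7_0 lc_b_rc_10_2 lc_b_Cert_tree lc_b_rc_9_2 lc_b_Cert_tree lc_b_rc_7_0 lc_b_rc_9_2 lc_b_rc_7_0 lc_b_Cert_tree lc_b_Cert_tree lc_b_rc_8_2 lc_b_Cert_tree lc_b_rc_7_0 lc_b_rc_7_0 lc_b_rc_7_0 lc_b_Cert_tree lc_b_rc_8_2 lc_b_rc_11_2 lc_b_Cert_tree lc_b_Cert_tree lc_b_rc_7_0 lc_b_rc_9_2 lc_b_Cert_tree lc_b_Cert_tree lc_b_rc_9_2 lc_b_rc_7_1 lc_b_Cert_tree lc_b_rc_7_0 lc_b_rc_7_0 lc_b_rc_9_2 lc_b_rc_10_2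 lc_b_rc_30_17 lc_b_Cert_tree lc_b_rc_11_2) (@D3.rec (fun _ => (Cert rels S Gen.b)) lc_b_rc_12_2 lc_b_Cert_tree lc_b_Cert_tree lc_b_rc_7_0 lc_b_Cert_tree lc_b_rc_10_2 lc_b_rc_7_0 lc_b_rc_7_0 lc_b_rc_1_7 lc_b_Cert_tree lc_b_Cert_tree lc_b_rc_10_2 lc_b_rc_11_2 lc_b_rc_7_0 lc_b_Cert_tree lc_b_rc_9_2 lc_b_rc_9_2 lc_b_Cert_tree lc_b_Cert_tree lc_b_rc_31_3 lc_b_rc_8_2 lc_b_rc_7_0 lc_b_rc_9_2 lc_b_Cert_tree lc_b_Cert_tree lc_b_rc_9_2 lc_b_Cert_tree lc_b_rc_7_1 lc_b_rc_7_0 lc_b_rc_7_0 lc_b_rc_9_2 lc_b_rc_10_2 lc_b_Cert_tree lc_b_rc_32_31 lc_b_rc_11_2 lc_b_rc_12_2 lc_b_Cert_tree lc_b_Cert_tree lc_b_Cert_tree lc_b_rc_11_4) (@D3.rec (fun _ => (Cert rels S Gen.b)) lc_b_rc_7_0 lc_b_rc_7_0 lc_b_rc_7_0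 lc_b_rc_8_2 lc_b_Cert_tree lc_b_Cert_tree lc_b_rc_10_2 lc_b_rc_12_2 lc_b_rc_7_0 lc_b_Cert_tree lc_b_rc_10_0 lc_b_rc_9_2 lc_b_Cert_tree lc_b_Cert_tree lc_b_rc_7_1 lc_b_rc_8_2 lc_b_rc_7_0 lc_b_rc_9_2 lc_b_rc_8_2 lc_b_Cert_tree lc_b_rc_30_9 lc_b_Cert_tree lc_b_Cert_tree lc_b_rc_7_0 lc_b_rc_7_0 lc_b_rc_9_2 lc_b_rc_10_2 lc_b_Cert_tree lc_b_Cert_tree lc_b_rc_11_2 lc_b_rc_12_2 lc_b_Cert_tree lc_b_Cert_tree lc_b_rc_7_0 lc_b_rc_7_0 lc_b_rc_9_2 lc_b_rc_11_4 lc_b_Cert_tree lc_b_rc_10_2 lc_b_Cert_tree) (@D3.rec (fun _ => (Cert rels S Gen.b)) lc_b_Cert_tree lc_b_rc_7_0 lc_b_rc_7_0 lc_b_rc_9_2 lc_b_rc_10_2 lc_b_Cert_tree lc_b_Cert_tree lc_b_rc_11_2 lc_b_rc_12_2 lc_b_Cert_tree lc_b_Cert_tree lc_b_rc_7_0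 lc_b_rc_7_0 lc_b_rc_7_0 lc_b_rc_8_4 lc_b_rc_12_2 lc_b_rc_31_12 lc_b_rc_8_2 lc_b_rc_1_5 lc_b_rc_8_2 lc_b_rc_12_2 lc_b_rc_9_2 lc_b_Cert_tree lc_b_rc_30_13 lc_b_Cert_tree lc_b_rc_7_1 lc_b_rc_7_0 lc_b_rc_12_2 lc_b_rc_9_2 lc_b_rc_7_0 lc_b_rc_8_2 lc_b_rc_10_2 lc_b_rc_12_2 lc_b_rc_7_1 lc_b_rc_12_2 lc_b_rc_7_0 lc_b_rc_1_7 lc_b_rc_7_0 lc_b_rc_8_4 lc_b_Cert_tree) (@D3.rec (fun _ => (Cert rels S Gen.b)) lc_b_rc_8_4 lc_b_rc_7_1 lc_b_rc_12_2 lc_b_rc_7_0 lc_b_rc_30_9 lc_b_Cert_tree lc_b_rc_7_0 lc_b_rc_7_0 lc_b_rc_31_3 lc_b_Cert_tree lc_b_Cert_tree lc_b_rc_12_2 lc_b_rc_1_3 lc_b_rc_7_0 lc_b_rc_31_9 lc_b_rc_10_2 lc_b_Cert_tree lc_b_rc_7_0 lc_b_rc_9_2 lc_b_Cert_tree lc_b_rc_30_1 lc_b_Cert_tree lc_b_rc_7_0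 lc_b_rc_30_13 lc_b_rc_31_3 lc_b_rc_9_2 lc_b_rc_7_0 lc_b_rc_8_2 lc_b_rc_10_2 lc_b_rc_11_2 lc_b_rc_11_2 lc_b_rc_31_12 lc_b_rc_7_0 lc_b_rc_1_7 lc_b_rc_7_0 lc_b_rc_8_4 lc_b_Cert_tree lc_b_rc_10_0 lc_b_rc_31_6 lc_b_rc_12_4) (@D3.rec (fun _ => (Cert rels S Gen.b)) lc_b_rc_7_0 lc_b_rc_32_5 lc_b_Cert_tree lc_b_rc_7_0 lc_b_Cert_tree lc_b_rc_11_2 lc_b_Cert_tree lc_b_rc_1_3 lc_b_rc_7_0 lc_b_rc_31_6 lc_b_rc_10_2 lc_b_Cert_tree lc_b_rc_7_0 lc_b_rc_7_0 lc_b_rc_11_2 lc_b_rc_7_0 lc_b_rc_11_0 lc_b_rc_8_2 lc_b_rc_8_2 lc_b_rc_7_0 lc_b_rc_7_1 lc_b_rc_9_2 lc_b_rc_8_4 lc_b_rc_30_13 lc_b_rc_7_0 lc_b_rc_9_0 lc_b_rc_31_6 lc_b_rc_12_2 lc_b_Cert_tree lc_b_rc_7_0 lc_b_rc_7_0 lc_b_Cert_tree lc_b_rc_12_2 lc_b_rc_1_5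 lc_b_rc_11_2 lc_b_rc_7_0 lc_b_rc_8_2 lc_b_rc_7_0 lc_b_rc_7_0 lc_b_rc_8_4)
def ce_b_10 : D2 → D3 → (Cert rels S Gen.b) := @D2.rec (fun _ => D3 → (Cert rels S Gen.b)) (@D3.rec (fun _ => (Cert rels S Gen.b)) lc_b_rc_31_6 lc_b_rc_9_2 lc_b_Cert_tree lc_b_Cert_tree lc_b_rc_7_0 lc_b_rc_9_2 lc_b_rc_7_0 lc_b_rc_7_0 lc_b_rc_7_1 lc_b_rc_7_0 lc_b_rc_1_7 lc_b_rc_8_2 lc_b_rc_8_2 lc_b_rc_7_0 lc_b_rc_10_0 lc_b_rc_9_2 lc_b_rc_8_4 lc_b_rc_8_4 lc_b_rc_7_0 lc_b_rc_31_0 lc_b_rc_31_9 lc_b_rc_7_0 lc_b_Cert_tree lc_b_rc_7_0 lc_b_rc_7_0 lc_b_Cert_tree lc_b_rc_11_2 lc_b_rc_31_3 lc_b_rc_12_2 lc_b_rc_11_0 lc_b_rc_8_2 lc_b_rc_11_2 lc_b_rc_7_0 lc_b_rc_10_0 lc_b_rc_1_7 lc_b_rc_9_2 lc_b_Cert_tree lc_b_Cert_tree lc_b_rc_7_0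 lc_b_rc_9_2) (@D3.rec (fun _ => (Cert rels S Gen.b)) lc_b_rc_7_0 lc_b_rc_7_0 lc_b_rc_1_5 lc_b_rc_12_4 lc_b_rc_1_7 lc_b_Cert_tree lc_b_rc_7_0 lc_b_rc_12_2 lc_b_Cert_tree lc_b_rc_9_2 lc_b_rc_12_4 lc_b_rc_10_0 lc_b_Cert_tree lc_b_rc_7_0 lc_b_Cert_tree lc_b_rc_7_0 lc_b_rc_31_9 lc_b_rc_8_4 lc_b_rc_7_0 lc_b_rc_12_2 lc_b_rc_7_0 lc_b_rc_12_2 lc_b_rc_12_2 lc_b_Cert_tree lc_b_rc_7_0 lc_b_rc_8_2 lc_b_rc_1_5 lc_b_rc_7_0 lc_b_rc_8_2 lc_b_rc_12_2 lc_b_rc_31_9 lc_b_rc_11_2 lc_b_rc_31_6 lc_b_rc_8_2 lc_b_rc_11_2 lc_b_rc_8_4 lc_b_rc_11_2 lc_b_rc_10_0 lc_b_rc_7_0 lc_b_Cert_tree) (@D3.rec (fun _ => (Cert rels S Gen.b)) lc_b_rc_9_2 lc_b_Cert_tree lc_b_rc_30_9 lc_b_rc_11_2 lc_b_rc_7_0 lc_b_rc_7_0 lc_b_rc_1_1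 lc_b_rc_31_9 lc_b_rc_31_3 lc_b_rc_8_2 lc_b_rc_11_2 lc_b_rc_7_0 lc_b_rc_1_5 lc_b_rc_11_4 lc_b_Cert_tree lc_b_rc_12_2 lc_b_rc_7_0 lc_b_Cert_tree lc_b_rc_7_1 lc_b_rc_9_2 lc_b_rc_31_9 lc_b_rc_7_0 lc_b_rc_7_0 lc_b_Cert_tree lc_b_Cert_tree lc_b_rc_9_2 lc_b_rc_11_2 lc_b_rc_7_0 lc_b_rc_7_0 lc_b_rc_7_0 lc_b_rc_11_2 lc_b_rc_11_2 lc_b_rc_1_7 lc_b_Cert_tree lc_b_rc_7_0 lc_b_rc_10_0 lc_b_rc_8_2 lc_b_rc_7_0 lc_b_rc_8_2 lc_b_rc_11_2) (@D3.rec (fun _ => (Cert rels S Gen.b)) lc_b_rc_7_1 lc_b_rc_12_2 lc_b_rc_7_0 lc_b_rc_8_2 lc_b_rc_12_2 lc_b_rc_30_13 lc_b_rc_10_0 lc_b_rc_10_0 lc_b_rc_7_0 lc_b_rc_9_2 lc_b_rc_8_2 lc_b_rc_31_6 lc_b_rc_7_0 lc_b_rc_1_1 lc_b_rc_30_13 lc_b_rc_8_2 lc_b_rc_12_2 lc_b_rc_8_2 lc_b_rc_30_17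 lc_b_rc_7_1 lc_b_rc_11_2 lc_b_rc_12_2 lc_b_rc_12_4 lc_b_rc_8_2 lc_b_rc_10_0 lc_b_rc_9_2 lc_b_rc_8_4 lc_b_rc_7_0 lc_b_rc_7_0 lc_b_rc_30_1 lc_b_Cert_tree lc_b_Cert_tree lc_b_rc_7_0 lc_b_rc_7_0 lc_b_rc_1_5 lc_b_rc_11_2 lc_b_rc_7_0 lc_b_rc_7_1 lc_b_rc_11_2 lc_b_rc_12_2) (@D3.rec (fun _ => (Cert rels S Gen.b)) lc_b_rc_10_2 lc_b_rc_7_0 lc_b_rc_7_0 lc_b_Cert_tree lc_b_rc_12_2 lc_b_Cert_tree lc_b_rc_8_2 lc_b_rc_7_0 lc_b_rc_1_5 lc_b_rc_11_2 lc_b_rc_30_1 lc_b_rc_10_0 lc_b_rc_8_2 lc_b_rc_8_4 lc_b_rc_12_2 lc_b_rc_9_2 lc_b_rc_8_2 lc_b_rc_7_0 lc_b_rc_30_9 lc_b_rc_8_2 lc_b_Cert_tree lc_b_rc_10_2 lc_b_rc_11_2 lc_b_rc_8_2 lc_b_rc_10_2 lc_b_rc_1_5 lc_b_rc_9_2 lc_b_rc_11_2 lc_b_rc_12_2 lc_b_rc_10_2 lc_b_rc_7_0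 lc_b_rc_10_2 lc_b_rc_8_2 lc_b_rc_12_4 lc_b_rc_31_6 lc_b_rc_12_2 lc_b_rc_11_2 lc_b_rc_11_4 lc_b_rc_31_6 lc_b_rc_31_6) (@D3.rec (fun _ => (Cert rels S Gen.b)) lc_b_rc_9_2 lc_b_rc_12_2 lc_b_rc_31_3 lc_b_rc_8_2 lc_b_Cert_tree lc_b_rc_10_2 lc_b_rc_7_0 lc_b_rc_11_4 lc_b_rc_11_2 lc_b_rc_7_0 lc_b_rc_30_13 lc_b_rc_11_4 lc_b_rc_11_2 lc_b_rc_10_2 lc_b_rc_7_0 lc_b_Cert_tree lc_b_rc_11_2 lc_b_Cert_tree lc_b_rc_7_0 lc_b_rc_10_2 lc_b_rc_12_2 lc_b_rc_30_1 lc_b_rc_10_0 lc_b_rc_8_2 lc_b_rc_7_1 lc_b_rc_9_2 lc_b_rc_8_2 lc_b_rc_7_0 lc_b_rc_9_2 lc_b_rc_8_2 lc_b_rc_10_2 lc_b_rc_9_2 lc_b_rc_9_0 lc_b_rc_10_2 lc_b_rc_8_0 lc_b_rc_11_2 lc_b_rc_12_2 lc_b_rc_9_2 lc_b_Cert_tree lc_b_rc_7_0) (@D3.rec (fun _ => (Cert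 rels S Gen.b)) lc_b_Cert_tree lc_b_rc_8_2 lc_b_rc_7_1 lc_b_Cert_tree lc_b_rc_8_2 lc_b_rc_11_2 lc_b_rc_30_9 lc_b_rc_10_2 lc_b_rc_7_0 lc_b_rc_7_0 lc_b_rc_7_0 lc_b_rc_8_2 lc_b_rc_8_0 lc_b_rc_7_0 lc_b_rc_7_0 lc_b_Cert_tree lc_b_rc_7_0 lc_b_rc_7_0 lc_b_rc_9_2 lc_b_rc_31_9 lc_b_Cert_tree lc_b_rc_12_2 lc_b_rc_7_0 lc_b_rc_12_2 lc_b_rc_1_3 lc_b_rc_12_2 lc_b_rc_7_0 lc_b_rc_10_2 lc_b_rc_9_2 lc_b_rc_31_3 lc_b_rc_8_2 lc_b_rc_11_2 lc_b_rc_7_0 lc_b_Cert_tree lc_b_Cert_tree lc_b_Cert_tree lc_b_Cert_tree lc_b_rc_7_0 lc_b_rc_10_2 lc_b_rc_7_1) (@D3.rec (fun _ => (Cert rels S Gen.b)) lc_b_rc_30_9 lc_b_rc_9_2 lc_b_rc_7_1 lc_b_rc_31_6 lc_b_rc_7_0 lc_b_rc_8_2 lc_b_rc_9_2 lc_b_rc_10_2 lc_b_rc_7_0 lc_b_rc_10_0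 lc_b_rc_31_3 lc_b_rc_12_2 lc_b_rc_7_1 lc_b_rc_7_0 lc_b_rc_11_2 lc_b_rc_7_0 lc_b_Cert_tree lc_b_rc_9_2 lc_b_rc_11_2 lc_b_rc_30_9 lc_b_rc_10_2 lc_b_Cert_tree lc_b_rc_9_2 lc_b_rc_12_2 lc_b_rc_12_2 lc_b_rc_7_1 lc_b_rc_7_0 lc_b_rc_9_2 lc_b_Cert_tree lc_b_Cert_tree lc_b_rc_10_2 lc_b_rc_12_2 lc_b_rc_12_4 lc_b_rc_11_4 lc_b_Cert_tree lc_b_rc_10_2 lc_b_rc_11_2 lc_b_rc_9_2 lc_b_rc_7_0 lc_b_rc_9_2) (@D3.rec (fun _ => (Cert rels S Gen.b)) lc_b_rc_8_2 lc_b_rc_12_2 lc_b_Cert_tree lc_b_Cert_tree lc_b_rc_9_2 lc_b_Cert_tree lc_b_rc_7_0 lc_b_Cert_tree lc_b_Cert_tree lc_b_rc_8_2 lc_b_rc_1_5 lc_b_rc_32_10 lc_b_rc_10_2 lc_b_rc_7_0 lc_b_rc_7_0 lc_b_rc_31_9 lc_b_rc_8_0 lc_b_rc_7_0 lc_b_rc_7_0 lc_b_Cert_tree lc_b_rc_7_0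 lc_b_rc_31_9 lc_b_Cert_tree lc_b_rc_11_2 lc_b_rc_7_0 lc_b_rc_11_2 lc_b_rc_31_9 lc_b_rc_11_2 lc_b_rc_7_0 lc_b_rc_30_13 lc_b_rc_9_2 lc_b_rc_7_0 lc_b_rc_31_9 lc_b_rc_1_7 lc_b_rc_8_2 lc_b_rc_12_2 lc_b_rc_7_0 lc_b_Cert_tree lc_b_Cert_tree lc_b_Cert_tree) (@D3.rec (fun _ => (Cert rels S Gen.b)) lc_b_Cert_tree lc_b_rc_7_0 lc_b_rc_10_2 lc_b_rc_30_13 lc_b_rc_30_13 lc_b_rc_10_2 lc_b_rc_31_9 lc_b_rc_7_1 lc_b_rc_7_0 lc_b_rc_8_2 lc_b_rc_9_2 lc_b_rc_10_2 lc_b_rc_7_0 lc_b_rc_11_2 lc_b_rc_31_6 lc_b_rc_11_2 lc_b_rc_30_13 lc_b_rc_7_0 lc_b_rc_12_2 lc_b_rc_7_0 lc_b_Cert_tree lc_b_rc_9_2 lc_b_rc_30_5 lc_b_rc_32_57 lc_b_rc_10_2 lc_b_Cert_tree lc_b_rc_11_2 lc_b_rc_31_6 lc_b_rc_7_0 lc_b_rc_9_2 lc_b_Cert_tree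 lc_b_Cert_tree lc_b_rc_10_2 lc_b_rc_11_2 lc_b_rc_30_5 lc_b_Cert_tree lc_b_rc_10_2 lc_b_rc_12_2 lc_b_rc_9_2 lc_b_rc_7_0) (@D3.rec (fun _ => (Cert rels S Gen.b)) lc_b_rc_1_7 lc_b_rc_8_2 lc_b_rc_11_2 lc_b_Cert_tree lc_b_Cert_tree lc_b_Cert_tree lc_b_rc_11_0 lc_b_rc_7_1 lc_b_Cert_tree lc_b_rc_7_0 lc_b_rc_9_2 lc_b_rc_10_2 lc_b_Cert_tree lc_b_rc_9_2 lc_b_rc_7_0 lc_b_rc_1_5 lc_b_rc_31_12 lc_b_rc_7_0 lc_b_rc_7_0 lc_b_rc_7_0 lc_b_rc_1_5 lc_b_rc_8_2 lc_b_rc_7_1 lc_b_rc_11_2 lc_b_rc_8_2 lc_b_rc_11_2 lc_b_Cert_tree lc_b_rc_31_3 lc_b_rc_31_3 lc_b_Cert_tree lc_b_rc_7_0 lc_b_rc_30_17 lc_b_rc_10_2 lc_b_rc_9_2 lc_b_Cert_tree lc_b_rc_7_0 lc_b_rc_1_5 lc_b_rc_1_5 lc_b_rc_7_0 lc_b_rc_7_0) (@D3.rec (fun _ =>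 (Cert rels S Gen.b)) lc_b_rc_7_0 lc_b_rc_31_0 lc_b_rc_8_2 lc_b_rc_12_2 lc_b_rc_8_2 lc_b_rc_8_2 lc_b_rc_12_2 lc_b_rc_8_2 lc_b_rc_32_57 lc_b_Cert_tree lc_b_rc_7_0 lc_b_rc_32_57 lc_b_Cert_tree lc_b_rc_8_2 lc_b_rc_11_2 lc_b_rc_8_2 lc_b_rc_9_2 lc_b_rc_9_2 lc_b_rc_10_0 lc_b_rc_7_0 lc_b_rc_12_2 lc_b_rc_8_2 lc_b_rc_9_2 lc_b_rc_11_4 lc_b_rc_7_0 lc_b_rc_11_2 lc_b_rc_8_2 lc_b_rc_7_0 lc_b_Cert_tree lc_b_rc_9_2 lc_b_Cert_tree lc_b_rc_7_0 lc_b_rc_11_2 lc_b_rc_8_2 lc_b_rc_10_0 lc_b_rc_7_0 lc_b_Cert_tree lc_b_rc_9_2 lc_b_Cert_tree lc_b_rc_7_0) (@D3.rec (fun _ => (Cert rels S Gen.b)) lc_b_rc_12_2 lc_b_rc_8_2 lc_b_rc_12_2 lc_b_rc_31_6 lc_b_rc_7_1 lc_b_rc_8_2 lc_b_rc_31_6 lc_b_rc_9_2 lc_b_rc_31_9 lc_b_rc_31_6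 lc_b_rc_9_2 lc_b_rc_9_2 lc_b_rc_31_3 lc_b_rc_7_1 lc_b_rc_9_2 lc_b_rc_11_2 lc_b_rc_31_9 lc_b_rc_9_2 lc_b_rc_9_2 lc_b_rc_31_12 lc_b_rc_7_0 lc_b_Cert_tree lc_b_rc_7_0 lc_b_Cert_tree lc_b_rc_11_2 lc_b_rc_7_0 lc_b_rc_12_2 lc_b_rc_7_0 lc_b_rc_9_2 lc_b_rc_8_2 lc_b_rc_12_2 lc_b_rc_9_2 lc_b_rc_8_2 lc_b_rc_11_2 lc_b_rc_1_7 lc_b_rc_7_1 lc_b_rc_9_2 lc_b_Cert_tree lc_b_rc_1_7 lc_b_rc_1_3) (@D3.rec (fun _ => (Cert rels S Gen.b)) lc_b_rc_9_2 lc_b_Cert_tree lc_b_rc_1_5 lc_b_rc_12_4 lc_b_rc_9_2 lc_b_Cert_tree lc_b_rc_7_0 lc_b_rc_31_6 lc_b_rc_10_2 lc_b_Cert_tree lc_b_rc_7_0 lc_b_Cert_tree lc_b_rc_1_1 lc_b_rc_31_9 lc_b_rc_9_2 lc_b_Cert_tree lc_b_rc_7_0 lc_b_rc_32_15 lc_b_rc_10_2 lc_b_Cert_tree lc_b_rc_7_0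 lc_b_Cert_tree lc_b_rc_10_2 lc_b_rc_30_5 lc_b_Cert_tree lc_b_rc_7_0 lc_b_rc_8_2 lc_b_rc_30_5 lc_b_Cert_tree lc_b_Cert_tree lc_b_rc_7_0 lc_b_Cert_tree lc_b_rc_10_2 lc_b_rc_7_0 lc_b_rc_11_4 lc_b_rc_30_9 lc_b_Cert_tree lc_b_rc_7_0 lc_b_rc_8_2 lc_b_rc_32_36) (@D3.rec (fun _ => (Cert rels S Gen.b)) lc_b_Cert_tree lc_b_Cert_tree lc_b_rc_7_0 lc_b_Cert_tree lc_b_rc_31_9 lc_b_rc_7_0 lc_b_Cert_tree lc_b_Cert_tree lc_b_rc_30_1 lc_b_rc_10_2 lc_b_rc_7_0 lc_b_Cert_tree lc_b_rc_9_2 lc_b_rc_8_4 lc_b_rc_1_3 lc_b_rc_7_0 lc_b_Cert_tree lc_b_rc_9_2 lc_b_rc_8_2 lc_b_Cert_tree lc_b_rc_7_1 lc_b_rc_11_4 lc_b_Cert_tree lc_b_rc_31_3 lc_b_Cert_tree lc_b_rc_8_2 lc_b_rc_11_2 lc_b_rc_7_0 lc_b_Cert_tree lc_b_rc_9_2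 lc_b_Cert_tree lc_b_Cert_tree lc_b_rc_12_2 lc_b_rc_7_0 lc_b_rc_9_2 lc_b_Cert_tree lc_b_Cert_tree lc_b_rc_10_2 lc_b_Cert_tree lc_b_rc_7_0) (@D3.rec (fun _ => (Cert rels S Gen.b)) lc_b_Cert_tree lc_b_rc_7_0 lc_b_Cert_tree lc_b_rc_8_2 lc_b_rc_12_4 lc_b_rc_31_9 lc_b_Cert_tree lc_b_rc_8_0 lc_b_Cert_tree lc_b_rc_8_2 lc_b_rc_12_2 lc_b_rc_7_0 lc_b_Cert_tree lc_b_rc_9_2 lc_b_Cert_tree lc_b_Cert_tree lc_b_rc_11_2 lc_b_rc_7_0 lc_b_rc_9_2 lc_b_Cert_tree lc_b_Cert_tree lc_b_rc_10_2 lc_b_Cert_tree lc_b_rc_7_0 lc_b_Cert_tree lc_b_rc_7_0 lc_b_rc_1_7 lc_b_rc_1_3 lc_b_rc_11_2 lc_b_rc_12_2 lc_b_Cert_tree lc_b_rc_11_4 lc_b_Cert_tree lc_b_rc_7_0 lc_b_rc_7_0 lc_b_rc_8_2 lc_b_rc_11_2 lc_b_rc_9_2 lc_b_Cert_tree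 lc_b_rc_10_2) (@D3.rec (fun _ => (Cert rels S Gen.b)) lc_b_rc_12_2 lc_b_rc_7_0 lc_b_rc_9_2 lc_b_Cert_tree lc_b_rc_10_2 lc_b_Cert_tree lc_b_rc_7_0 lc_b_Cert_tree lc_b_rc_9_2 lc_b_Cert_tree lc_b_rc_12_2 lc_b_Cert_tree lc_b_rc_10_2 lc_b_Cert_tree lc_b_rc_7_0 lc_b_rc_1_3 lc_b_rc_32_15 lc_b_Cert_tree lc_b_Cert_tree lc_b_rc_7_0 lc_b_Cert_tree lc_b_Cert_tree lc_b_rc_7_0 lc_b_rc_8_2 lc_b_rc_7_1 lc_b_rc_11_0 lc_b_rc_11_2 lc_b_rc_12_2 lc_b_rc_1_3 lc_b_Cert_tree lc_b_Cert_tree lc_b_rc_7_0 lc_b_rc_7_0 lc_b_rc_8_2 lc_b_rc_12_2 lc_b_rc_9_2 lc_b_Cert_tree lc_b_rc_10_2 lc_b_rc_11_2 lc_b_rc_7_0) (@D3.rec (fun _ => (Cert rels S Gen.b)) lc_b_rc_9_2 lc_b_Cert_tree lc_b_rc_10_2 lc_b_Cert_tree lc_b_rc_7_0 lc_b_Cert_tree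 lc_b_rc_9_2 lc_b_rc_11_2 lc_b_Cert_tree lc_b_Cert_tree lc_b_rc_10_2 lc_b_Cert_tree lc_b_rc_7_0 lc_b_rc_1_3 lc_b_rc_9_0 lc_b_Cert_tree lc_b_Cert_tree lc_b_rc_7_0 lc_b_Cert_tree lc_b_Cert_tree lc_b_rc_7_0 lc_b_rc_8_2 lc_b_rc_7_0 lc_b_rc_31_6 lc_b_rc_8_2 lc_b_rc_31_6 lc_b_rc_7_0 lc_b_rc_8_2 lc_b_Cert_tree lc_b_rc_7_0 lc_b_rc_7_0 lc_b_rc_1_3 lc_b_rc_8_2 lc_b_rc_11_2 lc_b_rc_7_0 lc_b_rc_11_2 lc_b_rc_12_2 lc_b_rc_9_2 lc_b_Cert_tree lc_b_rc_1_7) (@D3.rec (fun _ => (Cert rels S Gen.b)) lc_b_rc_10_2 lc_b_Cert_tree lc_b_Cert_tree lc_b_rc_7_0 lc_b_rc_7_0 lc_b_rc_8_2 lc_b_rc_30_1 lc_b_rc_7_0 lc_b_rc_9_2 lc_b_Cert_tree lc_b_rc_7_0 lc_b_rc_30_13 lc_b_rc_8_2 lc_b_rc_12_2 lc_b_rc_7_1 lc_b_Cert_tree lc_b_rc_11_2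 lc_b_rc_12_2 lc_b_rc_7_0 lc_b_rc_9_2 lc_b_Cert_tree lc_b_rc_10_2 lc_b_Cert_tree lc_b_rc_7_0 lc_b_rc_12_2 lc_b_rc_8_2 lc_b_rc_12_2 lc_b_Cert_tree lc_b_rc_31_6 lc_b_rc_9_2 lc_b_Cert_tree lc_b_rc_31_6 lc_b_rc_7_0 lc_b_rc_1_5 lc_b_Cert_tree lc_b_rc_9_2 lc_b_Cert_tree lc_b_rc_12_2 lc_b_rc_10_2 lc_b_Cert_tree) (@D3.rec (fun _ => (Cert rels S Gen.b)) lc_b_rc_7_0 lc_b_rc_8_2 lc_b_rc_7_0 lc_b_rc_10_2 lc_b_Cert_tree lc_b_Cert_tree lc_b_rc_7_0 lc_b_Cert_tree lc_b_Cert_tree lc_b_rc_7_0 lc_b_rc_7_1 lc_b_rc_8_2 lc_b_rc_11_2 lc_b_rc_7_1 lc_b_rc_8_2 lc_b_rc_7_0 lc_b_rc_7_0 lc_b_rc_8_2 lc_b_rc_7_0 lc_b_Cert_tree lc_b_rc_7_0 lc_b_rc_1_3 lc_b_rc_8_2 lc_b_rc_12_2 lc_b_rc_7_0 lc_b_rc_12_2 lc_b_rc_9_2 lc_b_Cert_tree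 lc_b_rc_11_0 lc_b_rc_10_2 lc_b_Cert_tree lc_b_Cert_tree lc_b_rc_7_0 lc_b_rc_7_0 lc_b_rc_8_2 lc_b_rc_7_1 lc_b_rc_7_0 lc_b_rc_9_2 lc_b_Cert_tree lc_b_rc_7_0) (@D3.rec (fun _ => (Cert rels S Gen.b)) lc_b_rc_31_6 lc_b_rc_8_2 lc_b_rc_11_2 lc_b_rc_12_2 lc_b_Cert_tree lc_b_rc_11_2 lc_b_rc_12_2 lc_b_rc_7_0 lc_b_rc_9_2 lc_b_Cert_tree lc_b_rc_10_2 lc_b_Cert_tree lc_b_rc_7_0 lc_b_rc_11_2 lc_b_rc_8_2 lc_b_rc_11_2 lc_b_Cert_tree lc_b_rc_7_0 lc_b_rc_9_2 lc_b_Cert_tree lc_b_rc_7_0 lc_b_rc_7_0 lc_b_rc_7_0 lc_b_Cert_tree lc_b_rc_9_2 lc_b_rc_11_2 lc_b_Cert_tree lc_b_rc_10_2 lc_b_Cert_tree lc_b_rc_7_0 lc_b_rc_8_2 lc_b_rc_7_0 lc_b_rc_10_2 lc_b_Cert_tree lc_b_Cert_tree lc_b_rc_7_0 lc_b_Cert_tree lc_b_Cert_tree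 lc_b_rc_7_0 lc_b_rc_1_7) (@D3.rec (fun _ => (Cert rels S Gen.b)) lc_b_rc_8_2 lc_b_rc_12_2 lc_b_rc_8_2 lc_b_Cert_tree lc_b_rc_7_0 lc_b_rc_8_2 lc_b_Cert_tree lc_b_Cert_tree lc_b_rc_7_0 lc_b_Cert_tree lc_b_rc_7_0 lc_b_Cert_tree lc_b_rc_8_2 lc_b_rc_7_1 lc_b_rc_7_0 lc_b_rc_8_2 lc_b_rc_8_4 lc_b_rc_9_2 lc_b_Cert_tree lc_b_rc_8_2 lc_b_rc_7_0 lc_b_Cert_tree lc_b_Cert_tree lc_b_rc_7_0 lc_b_rc_31_3 lc_b_rc_7_0 lc_b_Cert_tree lc_b_rc_8_2 lc_b_rc_11_2 lc_b_rc_1_3 lc_b_rc_7_0 lc_b_rc_7_0 lc_b_Cert_tree lc_b_rc_30_5 lc_b_rc_11_2 lc_b_rc_7_0 lc_b_Cert_tree lc_b_rc_10_2 lc_b_rc_9_2 lc_b_rc_31_3) (@D3.rec (fun _ => (Cert rels S Gen.b)) lc_b_rc_12_4 lc_b_rc_8_4 lc_b_rc_7_0 lc_b_rc_9_2 lc_b_Cert_tree lc_b_Cert_tree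 lc_b_rc_10_2 lc_b_Cert_tree lc_b_rc_7_0 lc_b_rc_11_0 lc_b_rc_1_5 lc_b_rc_31_9 lc_b_rc_8_2 lc_b_rc_10_2 lc_b_rc_9_2 lc_b_Cert_tree lc_b_rc_31_12 lc_b_rc_11_4 lc_b_rc_7_0 lc_b_rc_11_4 lc_b_Cert_tree lc_b_rc_7_0 lc_b_rc_7_0 lc_b_Cert_tree lc_b_Cert_tree lc_b_rc_7_0 lc_b_rc_7_0 lc_b_rc_7_0 lc_b_rc_1_7 lc_b_rc_8_2 lc_b_rc_12_2 lc_b_rc_1_5 lc_b_rc_9_0 lc_b_rc_11_2 lc_b_rc_12_2 lc_b_rc_7_1 lc_b_rc_8_2 lc_b_rc_30_13 lc_b_rc_10_2 lc_b_rc_9_2) (@D3.rec (fun _ => (Cert rels S Gen.b)) lc_b_Cert_tree lc_b_Cert_tree lc_b_rc_10_2 lc_b_rc_7_0 lc_b_rc_9_2 lc_b_rc_10_2 lc_b_Cert_tree lc_b_rc_31_9 lc_b_rc_9_2 lc_b_rc_11_2 lc_b_rc_12_2 lc_b_Cert_tree lc_b_rc_10_2 lc_b_rc_7_0 lc_b_rc_9_2 lc_b_rc_10_2 lc_b_Cert_tree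 lc_b_Cert_tree lc_b_rc_7_0 lc_b_Cert_tree lc_b_rc_8_2 lc_b_rc_12_2 lc_b_rc_11_2 lc_b_rc_9_2 lc_b_Cert_tree lc_b_rc_9_2 lc_b_Cert_tree lc_b_rc_8_4 lc_b_rc_9_2 lc_b_Cert_tree lc_b_rc_7_0 lc_b_Cert_tree lc_b_rc_7_0 lc_b_rc_9_2 lc_b_Cert_tree lc_b_Cert_tree lc_b_rc_11_0 lc_b_rc_9_2 lc_b_Cert_tree lc_b_Cert_tree) (@D3.rec (fun _ => (Cert rels S Gen.b)) lc_b_rc_10_2 lc_b_Cert_tree lc_b_Cert_tree lc_b_rc_7_0 lc_b_rc_7_0 lc_b_rc_8_2 lc_b_rc_7_0 lc_b_rc_9_2 lc_b_rc_12_2 lc_b_Cert_tree lc_b_Cert_tree lc_b_rc_10_2 lc_b_Cert_tree lc_b_rc_12_2 lc_b_rc_7_0 lc_b_rc_31_12 lc_b_rc_10_2 lc_b_rc_7_0 lc_b_rc_10_2 lc_b_Cert_tree lc_b_rc_7_1 lc_b_rc_7_0 lc_b_rc_8_2 lc_b_rc_12_2 lc_b_rc_9_2 lc_b_Cert_tree lc_b_rc_9_2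 lc_b_rc_10_2 lc_b_Cert_tree lc_b_rc_12_2 lc_b_rc_10_2 lc_b_Cert_tree lc_b_rc_9_2 lc_b_Cert_tree lc_b_rc_7_0 lc_b_Cert_tree lc_b_Cert_tree lc_b_rc_7_0 lc_b_rc_7_1 lc_b_rc_8_2) (@D3.rec (fun _ => (Cert rels S Gen.b)) lc_b_rc_11_2 lc_b_Cert_tree lc_b_Cert_tree lc_b_rc_8_2 lc_b_Cert_tree lc_b_rc_7_0 lc_b_rc_12_4 lc_b_Cert_tree lc_b_rc_7_0 lc_b_Cert_tree lc_b_Cert_tree lc_b_Cert_tree lc_b_rc_8_2 lc_b_rc_1_3 lc_b_rc_7_0 lc_b_rc_7_0 lc_b_rc_10_2 lc_b_rc_9_2 lc_b_Cert_tree lc_b_rc_8_2 lc_b_rc_7_0 lc_b_Cert_tree lc_b_rc_7_0 lc_b_rc_9_2 lc_b_Cert_tree lc_b_Cert_tree lc_b_rc_10_2 lc_b_rc_7_0 lc_b_rc_9_2 lc_b_rc_12_2 lc_b_rc_7_0 lc_b_rc_7_0 lc_b_Cert_tree lc_b_rc_7_1 lc_b_rc_12_2 lc_b_rc_7_0 lc_b_Cert_tree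 lc_b_rc_11_2 lc_b_rc_9_2 lc_b_rc_30_9)
def ce_b_11 : D2 → D3 → (Cert rels S Gen.b) := @D2.rec (fun _ => D3 → (Cert rels S Gen.b)) (@D3.rec (fun _ => (Cert rels S Gen.b)) lc_b_rc_31_9 lc_b_rc_12_4 lc_b_rc_7_0 lc_b_rc_9_2 lc_b_Cert_tree lc_b_rc_10_2 lc_b_Cert_tree lc_b_rc_7_0 lc_b_rc_1_7 lc_b_rc_11_4 lc_b_rc_11_2 lc_b_rc_8_2 lc_b_rc_10_2 lc_b_rc_9_2 lc_b_rc_11_0 lc_b_rc_8_2 lc_b_rc_7_0 lc_b_rc_7_0 lc_b_rc_31_12 lc_b_rc_31_9 lc_b_rc_7_0 lc_b_rc_7_0 lc_b_Cert_tree lc_b_Cert_tree lc_b_rc_7_0 lc_b_rc_7_0 lc_b_rc_7_0 lc_b_rc_9_2 lc_b_rc_8_2 lc_b_rc_11_2 lc_b_rc_12_2 lc_b_rc_9_0 lc_b_rc_11_2 lc_b_rc_12_2 lc_b_rc_11_4 lc_b_rc_8_2 lc_b_rc_30_13 lc_b_rc_30_13 lc_b_rc_9_2 lc_b_Cert_tree) (@D3.rec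 (fun _ => (Cert rels S Gen.b)) lc_b_Cert_tree lc_b_rc_11_2 lc_b_rc_7_0 lc_b_rc_9_2 lc_b_Cert_tree lc_b_rc_10_2 lc_b_rc_30_9 lc_b_rc_9_2 lc_b_rc_11_2 lc_b_rc_12_2 lc_b_rc_30_13 lc_b_rc_11_4 lc_b_rc_7_0 lc_b_rc_9_2 lc_b_rc_10_2 lc_b_Cert_tree lc_b_Cert_tree lc_b_rc_7_0 lc_b_Cert_tree lc_b_rc_8_2 lc_b_rc_11_2 lc_b_rc_10_2 lc_b_rc_9_2 lc_b_Cert_tree lc_b_rc_9_2 lc_b_Cert_tree lc_b_rc_8_4 lc_b_rc_9_2 lc_b_Cert_tree lc_b_rc_7_0 lc_b_Cert_tree lc_b_rc_7_0 lc_b_rc_9_2 lc_b_Cert_tree lc_b_Cert_tree lc_b_rc_1_7 lc_b_rc_9_2 lc_b_Cert_tree lc_b_Cert_tree lc_b_rc_10_2) (@D3.rec (fun _ => (Cert rels S Gen.b)) lc_b_Cert_tree lc_b_Cert_tree lc_b_rc_7_0 lc_b_rc_7_0 lc_b_rc_11_2 lc_b_rc_7_0 lc_b_rc_9_2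 lc_b_Cert_tree lc_b_rc_8_2 lc_b_Cert_tree lc_b_rc_10_2 lc_b_rc_11_2 lc_b_Cert_tree lc_b_rc_31_3 lc_b_rc_7_0 lc_b_rc_10_2 lc_b_rc_7_0 lc_b_rc_10_2 lc_b_Cert_tree lc_b_rc_31_12 lc_b_rc_7_0 lc_b_rc_8_2 lc_b_rc_11_2 lc_b_rc_9_2 lc_b_Cert_tree lc_b_rc_9_2 lc_b_rc_10_2 lc_b_rc_11_2 lc_b_Cert_tree lc_b_rc_10_2 lc_b_Cert_tree lc_b_rc_9_2 lc_b_Cert_tree lc_b_rc_7_0 lc_b_Cert_tree lc_b_Cert_tree lc_b_rc_7_0 lc_b_rc_8_2 lc_b_rc_8_2 lc_b_rc_12_2) (@D3.rec (fun _ => (Cert rels S Gen.b)) lc_b_Cert_tree lc_b_Cert_tree lc_b_rc_12_2 lc_b_rc_11_2 lc_b_Cert_tree lc_b_rc_7_0 lc_b_rc_11_2 lc_b_rc_31_3 lc_b_rc_1_1 lc_b_rc_11_2 lc_b_rc_30_9 lc_b_rc_11_2 lc_b_rc_9_2 lc_b_rc_8_2 lc_b_rc_12_2 lc_b_rc_10_2 lc_b_rc_9_2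 lc_b_rc_11_4 lc_b_rc_8_4 lc_b_Cert_tree lc_b_rc_10_2 lc_b_rc_9_2 lc_b_rc_9_2 lc_b_rc_1_5 lc_b_rc_8_4 lc_b_rc_7_0 lc_b_rc_10_2 lc_b_rc_9_2 lc_b_Cert_tree lc_b_rc_7_0 lc_b_Cert_tree lc_b_rc_10_2 lc_b_Cert_tree lc_b_Cert_tree lc_b_rc_7_0 lc_b_rc_7_0 lc_b_rc_9_2 lc_b_rc_10_2 lc_b_Cert_tree lc_b_Cert_tree) (@D3.rec (fun _ => (Cert rels S Gen.b)) lc_b_rc_11_2 lc_b_rc_7_0 lc_b_Cert_tree lc_b_Cert_tree lc_b_rc_7_0 lc_b_rc_7_0 lc_b_rc_7_0 lc_b_rc_10_2 lc_b_Cert_tree lc_b_Cert_tree lc_b_rc_11_2 lc_b_rc_12_2 lc_b_Cert_tree lc_b_Cert_tree lc_b_rc_11_2 lc_b_rc_12_2 lc_b_Cert_tree lc_b_rc_7_0 lc_b_rc_1_3 lc_b_rc_1_1 lc_b_rc_12_4 lc_b_rc_1_7 lc_b_rc_7_1 lc_b_rc_12_2 lc_b_rc_9_2 lc_b_rc_11_2 lc_b_rc_12_2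 lc_b_rc_10_2 lc_b_rc_11_2 lc_b_rc_10_2 lc_b_rc_12_4 lc_b_Cert_tree lc_b_rc_10_2 lc_b_rc_11_2 lc_b_rc_12_2 lc_b_rc_8_4 lc_b_rc_1_5 lc_b_rc_7_0 lc_b_rc_10_2 lc_b_rc_9_2) (@D3.rec (fun _ => (Cert rels S Gen.b)) lc_b_rc_11_4 lc_b_Cert_tree lc_b_Cert_tree lc_b_rc_10_2 lc_b_Cert_tree lc_b_Cert_tree lc_b_rc_7_0 lc_b_rc_7_0 lc_b_rc_9_2 lc_b_rc_10_2 lc_b_Cert_tree lc_b_Cert_tree lc_b_rc_9_2 lc_b_rc_12_2 lc_b_Cert_tree lc_b_Cert_tree lc_b_rc_7_0 lc_b_rc_7_0 lc_b_rc_7_0 lc_b_rc_10_2 lc_b_Cert_tree lc_b_Cert_tree lc_b_rc_11_2 lc_b_rc_12_2 lc_b_Cert_tree lc_b_Cert_tree lc_b_Cert_tree lc_b_rc_7_0 lc_b_Cert_tree lc_b_rc_9_2 lc_b_rc_11_2 lc_b_rc_12_2 lc_b_rc_10_2 lc_b_Cert_tree lc_b_rc_7_0 lc_b_Cert_tree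 lc_b_rc_9_2 lc_b_rc_11_2 lc_b_rc_12_2 lc_b_rc_10_2) (@D3.rec (fun _ => (Cert rels S Gen.b)) lc_b_rc_11_4 lc_b_rc_11_4 lc_b_rc_30_9 lc_b_rc_8_2 lc_b_rc_7_0 lc_b_rc_10_2 lc_b_rc_9_2 lc_b_rc_7_0 lc_b_rc_9_2 lc_b_rc_31_12 lc_b_rc_12_0 lc_b_rc_7_0 lc_b_rc_7_0 lc_b_rc_10_2 lc_b_rc_9_2 lc_b_rc_10_2 lc_b_rc_11_4 lc_b_rc_8_4 lc_b_rc_7_1 lc_b_rc_30_5 lc_b_rc_8_2 lc_b_rc_10_2 lc_b_rc_9_2 lc_b_rc_10_2 lc_b_rc_10_2 lc_b_rc_8_2 lc_b_rc_31_6 lc_b_rc_9_0 lc_b_rc_9_2 lc_b_rc_9_2 lc_b_Cert_tree lc_b_rc_7_0 lc_b_rc_8_2 lc_b_rc_7_0 lc_b_Cert_tree lc_b_rc_8_2 lc_b_rc_9_2 lc_b_rc_7_0 lc_b_rc_11_4 lc_b_Cert_tree) (@D3.rec (fun _ => (Cert rels S Gen.b)) lc_b_rc_7_0 lc_b_rc_8_2 lc_b_rc_7_0 lc_b_Cert_tree lc_b_rc_8_2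 lc_b_rc_31_9 lc_b_rc_7_0 lc_b_rc_1_3 lc_b_rc_32_20 lc_b_rc_11_2 lc_b_rc_12_2 lc_b_Cert_tree lc_b_rc_7_0 lc_b_rc_8_2 lc_b_rc_11_2 lc_b_rc_9_2 lc_b_rc_12_0 lc_b_rc_9_0 lc_b_rc_10_2 lc_b_Cert_tree lc_b_rc_7_0 lc_b_rc_9_2 lc_b_rc_10_0 lc_b_rc_12_2 lc_b_rc_31_3 lc_b_rc_10_2 lc_b_rc_7_0 lc_b_Cert_tree lc_b_rc_7_0 lc_b_rc_10_0 lc_b_rc_7_0 lc_b_rc_9_2 lc_b_rc_10_0 lc_b_rc_10_2 lc_b_Cert_tree lc_b_rc_7_0 lc_b_rc_1_3 lc_b_Cert_tree lc_b_rc_7_0 lc_b_rc_31_9) (@D3.rec (fun _ => (Cert rels S Gen.b)) lc_b_rc_10_0 lc_b_rc_31_6 lc_b_rc_7_0 lc_b_Cert_tree lc_b_rc_9_0 lc_b_Cert_tree lc_b_rc_7_0 lc_b_rc_7_0 lc_b_Cert_tree lc_b_rc_8_2 lc_b_rc_9_2 lc_b_rc_1_1 lc_b_rc_11_2 lc_b_rc_12_2 lc_b_Cert_tree lc_b_rc_7_0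 lc_b_rc_8_2 lc_b_rc_12_2 lc_b_rc_9_2 lc_b_rc_11_0 lc_b_rc_9_0 lc_b_rc_10_2 lc_b_Cert_tree lc_b_rc_7_0 lc_b_rc_9_2 lc_b_rc_11_2 lc_b_rc_12_2 lc_b_rc_32_5 lc_b_rc_10_2 lc_b_rc_31_6 lc_b_Cert_tree lc_b_rc_7_0 lc_b_rc_12_2 lc_b_rc_7_0 lc_b_rc_9_2 lc_b_rc_7_0 lc_b_rc_10_2 lc_b_Cert_tree lc_b_rc_7_0 lc_b_rc_1_3) (@D3.rec (fun _ => (Cert rels S Gen.b)) lc_b_Cert_tree lc_b_rc_7_0 lc_b_rc_31_3 lc_b_rc_11_2 lc_b_rc_7_1 lc_b_rc_7_0 lc_b_Cert_tree lc_b_rc_9_0 lc_b_Cert_tree lc_b_rc_7_0 lc_b_rc_7_0 lc_b_Cert_tree lc_b_rc_8_2 lc_b_rc_9_2 lc_b_rc_7_0 lc_b_rc_8_2 lc_b_rc_11_4 lc_b_rc_7_0 lc_b_Cert_tree lc_b_rc_10_0 lc_b_rc_9_2 lc_b_rc_7_0 lc_b_rc_1_7 lc_b_rc_8_2 lc_b_rc_11_2 lc_b_rc_7_0 lc_b_rc_1_3 lc_b_rc_30_13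 lc_b_rc_9_2 lc_b_Cert_tree lc_b_rc_11_0 lc_b_rc_8_2 lc_b_rc_12_2 lc_b_rc_7_1 lc_b_rc_8_4 lc_b_rc_10_2 lc_b_Cert_tree lc_b_rc_7_0 lc_b_rc_12_2 lc_b_rc_12_2) (@D3.rec (fun _ => (Cert rels S Gen.b)) lc_b_rc_11_2 lc_b_rc_10_2 lc_b_rc_31_12 lc_b_rc_7_0 lc_b_rc_11_4 lc_b_rc_31_3 lc_b_rc_1_5 lc_b_rc_9_2 lc_b_rc_11_2 lc_b_rc_12_2 lc_b_rc_7_1 lc_b_rc_8_2 lc_b_Cert_tree lc_b_rc_7_0 lc_b_rc_31_3 lc_b_rc_7_0 lc_b_Cert_tree lc_b_rc_8_2 lc_b_rc_7_0 lc_b_rc_12_4 lc_b_rc_9_2 lc_b_Cert_tree lc_b_rc_11_2 lc_b_rc_7_0 lc_b_rc_9_2 lc_b_rc_12_4 lc_b_Cert_tree lc_b_rc_7_0 lc_b_rc_9_2 lc_b_Cert_tree lc_b_Cert_tree lc_b_rc_10_2 lc_b_rc_8_2 lc_b_rc_31_6 lc_b_rc_10_2 lc_b_rc_11_2 lc_b_rc_7_0 lc_b_rc_7_0 lc_b_rc_8_2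 lc_b_rc_10_2) (@D3.rec (fun _ => (Cert rels S Gen.b)) lc_b_rc_1_5 lc_b_rc_10_0 lc_b_rc_1_7 lc_b_rc_10_2 lc_b_rc_7_0 lc_b_rc_8_2 lc_b_rc_31_6 lc_b_rc_8_2 lc_b_rc_31_3 lc_b_rc_7_0 lc_b_rc_9_2 lc_b_rc_11_2 lc_b_rc_8_2 lc_b_rc_7_0 lc_b_rc_7_0 lc_b_rc_1_7 lc_b_rc_8_2 lc_b_rc_12_2 lc_b_rc_1_5 lc_b_rc_10_0 lc_b_rc_11_2 lc_b_rc_12_2 lc_b_rc_8_2 lc_b_rc_10_0 lc_b_rc_9_2 lc_b_rc_8_4 lc_b_rc_12_4 lc_b_rc_7_0 lc_b_rc_9_2 lc_b_rc_11_2 lc_b_rc_9_0 lc_b_rc_7_0 lc_b_rc_10_2 lc_b_rc_10_0 lc_b_rc_8_2 lc_b_rc_12_2 lc_b_rc_1_5 lc_b_rc_9_2 lc_b_rc_9_2 lc_b_rc_9_2) (@D3.rec (fun _ => (Cert rels S Gen.b)) lc_b_rc_10_2 lc_b_rc_7_0 lc_b_rc_7_0 lc_b_rc_8_4 lc_b_rc_7_0 lc_b_rc_8_2 lc_b_rc_30_17 lc_b_rc_9_2 lc_b_rc_11_4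 lc_b_Cert_tree lc_b_rc_10_2 lc_b_rc_7_0 lc_b_rc_9_2 lc_b_rc_31_6 lc_b_rc_31_6 lc_b_rc_10_2 lc_b_rc_1_5 lc_b_rc_12_2 lc_b_rc_31_6 lc_b_rc_10_2 lc_b_rc_9_2 lc_b_rc_10_2 lc_b_Cert_tree lc_b_rc_12_2 lc_b_rc_8_2 lc_b_rc_9_2 lc_b_Cert_tree lc_b_rc_7_0 lc_b_rc_7_0 lc_b_rc_7_1 lc_b_rc_7_0 lc_b_rc_7_0 lc_b_rc_9_2 lc_b_rc_9_0 lc_b_rc_9_2 lc_b_rc_8_4 lc_b_rc_31_6 lc_b_rc_11_2 lc_b_rc_7_0 lc_b_rc_10_2) (@D3.rec (fun _ => (Cert rels S Gen.b)) lc_b_rc_7_0 lc_b_rc_7_0 lc_b_rc_7_0 lc_b_Cert_tree lc_b_rc_7_0 lc_b_rc_12_4 lc_b_rc_7_0 lc_b_rc_7_0 lc_b_rc_9_0 lc_b_rc_10_2 lc_b_rc_7_0 lc_b_rc_8_2 lc_b_rc_7_0 lc_b_rc_7_0 lc_b_rc_8_4 lc_b_rc_8_2 lc_b_rc_8_2 lc_b_rc_12_2 lc_b_rc_9_2 lc_b_rc_11_2 lc_b_rc_1_5 lc_b_rc_9_2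 lc_b_rc_7_0 lc_b_rc_7_0 lc_b_rc_10_2 lc_b_rc_9_0 lc_b_rc_9_0 lc_b_rc_12_2 lc_b_rc_31_6 lc_b_rc_9_2 lc_b_rc_12_2 lc_b_rc_30_5 lc_b_Cert_tree lc_b_rc_10_2 lc_b_rc_11_4 lc_b_rc_12_2 lc_b_rc_9_2 lc_b_rc_30_13 lc_b_rc_9_2 lc_b_rc_11_4) (@D3.rec (fun _ => (Cert rels S Gen.b)) lc_b_rc_12_0 lc_b_rc_7_0 lc_b_rc_9_2 lc_b_rc_10_2 lc_b_rc_30_13 lc_b_rc_1_3 lc_b_rc_8_2 lc_b_rc_10_2 lc_b_rc_1_3 lc_b_rc_12_2 lc_b_rc_9_2 lc_b_rc_30_9 lc_b_rc_12_2 lc_b_rc_9_0 lc_b_Cert_tree lc_b_rc_9_2 lc_b_rc_10_2 lc_b_rc_10_0 lc_b_rc_1_1 lc_b_Cert_tree lc_b_rc_7_0 lc_b_rc_7_0 lc_b_rc_1_7 lc_b_rc_31_9 lc_b_rc_8_2 lc_b_rc_7_1 lc_b_rc_9_2 lc_b_rc_1_5 lc_b_rc_7_1 lc_b_rc_7_0 lc_b_rc_7_0 lc_b_rc_11_4 lc_b_rc_7_0 lc_b_Cert_tree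 lc_b_rc_10_0 lc_b_rc_9_2 lc_b_rc_7_0 lc_b_rc_7_0 lc_b_rc_1_3 lc_b_rc_12_4) (@D3.rec (fun _ => (Cert rels S Gen.b)) lc_b_rc_9_2 lc_b_Cert_tree lc_b_rc_1_3 lc_b_rc_11_2 lc_b_rc_1_7 lc_b_rc_8_2 lc_b_rc_12_2 lc_b_rc_1_1 lc_b_rc_30_5 lc_b_rc_10_2 lc_b_Cert_tree lc_b_rc_7_0 lc_b_rc_12_2 lc_b_rc_12_2 lc_b_rc_31_9 lc_b_rc_11_2 lc_b_rc_7_0 lc_b_rc_1_7 lc_b_rc_32_41 lc_b_rc_12_2 lc_b_rc_9_2 lc_b_rc_11_2 lc_b_rc_12_2 lc_b_rc_8_2 lc_b_rc_31_12 lc_b_rc_7_0 lc_b_rc_10_2 lc_b_Cert_tree lc_b_rc_9_2 lc_b_rc_7_0 lc_b_rc_7_0 lc_b_rc_7_0 lc_b_rc_9_2 lc_b_rc_8_2 lc_b_Cert_tree lc_b_rc_12_2 lc_b_rc_7_0 lc_b_rc_11_2 lc_b_rc_9_2 lc_b_Cert_tree) (@D3.rec (fun _ => (Cert rels S Gen.b)) lc_b_rc_7_0 lc_b_rc_30_5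 lc_b_rc_10_2 lc_b_rc_7_0 lc_b_rc_30_5 lc_b_rc_10_2 lc_b_rc_7_0 lc_b_rc_8_2 lc_b_rc_10_2 lc_b_rc_1_5 lc_b_rc_8_0 lc_b_rc_31_12 lc_b_rc_31_6 lc_b_rc_7_0 lc_b_rc_8_2 lc_b_rc_7_0 lc_b_rc_8_2 lc_b_rc_7_0 lc_b_rc_7_0 lc_b_rc_7_0 lc_b_rc_12_2 lc_b_rc_8_2 lc_b_rc_7_0 lc_b_rc_7_0 lc_b_rc_10_2 lc_b_rc_8_2 lc_b_rc_11_2 lc_b_rc_12_2 lc_b_rc_8_2 lc_b_rc_11_2 lc_b_rc_12_2 lc_b_rc_1_7 lc_b_rc_8_4 lc_b_rc_7_0 lc_b_rc_9_2 lc_b_rc_12_2 lc_b_rc_30_9 lc_b_rc_7_0 lc_b_rc_10_2 lc_b_rc_11_2) (@D3.rec (fun _ => (Cert rels S Gen.b)) lc_b_rc_8_2 lc_b_rc_7_0 lc_b_rc_30_9 lc_b_rc_9_2 lc_b_rc_7_1 lc_b_rc_9_2 lc_b_rc_10_2 lc_b_rc_31_6 lc_b_rc_7_0 lc_b_rc_30_9 lc_b_rc_7_0 lc_b_rc_11_2 lc_b_rc_9_2 lc_b_Cert_tree lc_b_rc_12_4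 lc_b_rc_10_2 lc_b_rc_7_0 lc_b_rc_9_2 lc_b_rc_30_13 lc_b_rc_32_36 lc_b_rc_10_2 lc_b_rc_11_2 lc_b_rc_30_9 lc_b_rc_30_9 lc_b_rc_9_2 lc_b_rc_10_2 lc_b_rc_11_2 lc_b_Cert_tree lc_b_rc_9_2 lc_b_Cert_tree lc_b_rc_7_0 lc_b_rc_7_0 lc_b_rc_9_2 lc_b_rc_11_2 lc_b_rc_7_0 lc_b_rc_9_2 lc_b_rc_8_2 lc_b_rc_9_2 lc_b_rc_8_4 lc_b_rc_7_0) (@D3.rec (fun _ => (Cert rels S Gen.b)) lc_b_rc_9_2 lc_b_rc_7_0 lc_b_rc_10_2 lc_b_rc_7_0 lc_b_rc_11_4 lc_b_rc_7_0 lc_b_Cert_tree lc_b_rc_7_0 lc_b_rc_10_0 lc_b_rc_7_0 lc_b_rc_9_0 lc_b_rc_10_2 lc_b_rc_7_0 lc_b_rc_7_0 lc_b_rc_8_4 lc_b_rc_11_2 lc_b_rc_9_2 lc_b_rc_1_7 lc_b_rc_1_5 lc_b_rc_8_0 lc_b_rc_7_0 lc_b_rc_10_2 lc_b_rc_31_3 lc_b_rc_11_2 lc_b_rc_12_4 lc_b_rc_9_2 lc_b_rc_8_4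 lc_b_rc_11_4 lc_b_rc_9_2 lc_b_rc_12_4 lc_b_rc_9_0 lc_b_rc_7_0 lc_b_rc_10_2 lc_b_rc_30_13 lc_b_rc_30_9 lc_b_rc_9_2 lc_b_rc_11_2 lc_b_rc_12_4 lc_b_Cert_tree lc_b_rc_31_12) (@D3.rec (fun _ => (Cert rels S Gen.b)) lc_b_rc_8_4 lc_b_rc_1_1 lc_b_Cert_tree lc_b_rc_7_0 lc_b_rc_7_0 lc_b_rc_9_2 lc_b_rc_31_9 lc_b_rc_11_2 lc_b_rc_31_6 lc_b_rc_9_2 lc_b_rc_7_1 lc_b_rc_31_6 lc_b_rc_7_0 lc_b_rc_12_2 lc_b_rc_11_2 lc_b_rc_1_1 lc_b_rc_9_2 lc_b_rc_11_4 lc_b_rc_7_0 lc_b_rc_1_7 lc_b_rc_8_2 lc_b_rc_11_2 lc_b_rc_8_4 lc_b_rc_31_3 lc_b_rc_8_4 lc_b_rc_10_2 lc_b_rc_10_2 lc_b_rc_31_9 lc_b_rc_30_9 lc_b_rc_30_13 lc_b_rc_31_6 lc_b_rc_10_2 lc_b_rc_10_2 lc_b_rc_31_6 lc_b_rc_12_2 lc_b_Cert_tree lc_b_rc_10_2 lc_b_rc_8_0 lc_b_rc_9_2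 lc_b_rc_7_0) (@D3.rec (fun _ => (Cert rels S Gen.b)) lc_b_rc_31_3 lc_b_rc_11_2 lc_b_rc_7_0 lc_b_rc_9_2 lc_b_rc_10_2 lc_b_rc_8_2 lc_b_rc_10_2 lc_b_rc_9_2 lc_b_rc_1_3 lc_b_rc_10_2 lc_b_Cert_tree lc_b_rc_9_2 lc_b_Cert_tree lc_b_rc_7_0 lc_b_rc_11_4 lc_b_Cert_tree lc_b_Cert_tree lc_b_rc_7_0 lc_b_rc_7_0 lc_b_rc_11_2 lc_b_rc_12_0 lc_b_rc_9_2 lc_b_rc_10_0 lc_b_rc_1_3 lc_b_rc_7_0 lc_b_rc_12_2 lc_b_rc_31_6 lc_b_rc_8_2 lc_b_rc_11_2 lc_b_rc_12_2 lc_b_rc_7_0 lc_b_rc_31_9 lc_b_rc_11_2 lc_b_rc_9_2 lc_b_rc_9_2 lc_b_rc_9_2 lc_b_rc_30_13 lc_b_rc_7_0 lc_b_rc_1_7 lc_b_rc_8_2) (@D3.rec (fun _ => (Cert rels S Gen.b)) lc_b_rc_12_2 lc_b_rc_30_13 lc_b_rc_12_4 lc_b_rc_8_4 lc_b_rc_10_2 lc_b_rc_10_2 lc_b_rc_31_6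 lc_b_rc_31_6 lc_b_rc_30_9 lc_b_rc_10_2 lc_b_rc_7_0 lc_b_rc_10_2 lc_b_rc_11_2 lc_b_rc_9_0 lc_b_Cert_tree lc_b_rc_10_2 lc_b_rc_9_2 lc_b_rc_12_4 lc_b_rc_11_2 lc_b_rc_7_0 lc_b_rc_10_0 lc_b_rc_7_0 lc_b_rc_9_2 lc_b_rc_10_2 lc_b_rc_30_13 lc_b_rc_10_2 lc_b_rc_11_0 lc_b_rc_1_3 lc_b_rc_10_2 lc_b_Cert_tree lc_b_rc_9_2 lc_b_Cert_tree lc_b_rc_7_0 lc_b_rc_12_4 lc_b_Cert_tree lc_b_Cert_tree lc_b_rc_7_0 lc_b_rc_7_0 lc_b_rc_9_2 lc_b_rc_12_2) (@D3.rec (fun _ => (Cert rels S Gen.b)) lc_b_rc_1_3 lc_b_rc_12_2 lc_b_rc_12_2 lc_b_rc_31_6 lc_b_rc_7_1 lc_b_rc_11_2 lc_b_rc_8_2 lc_b_rc_11_2 lc_b_rc_12_2 lc_b_rc_7_0 lc_b_rc_1_3 lc_b_rc_1_3 lc_b_rc_11_2 lc_b_rc_7_0 lc_b_rc_10_2 lc_b_rc_31_3 lc_b_rc_8_2 lc_b_rc_9_2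 lc_b_rc_11_2 lc_b_rc_10_2 lc_b_rc_8_2 lc_b_Cert_tree lc_b_rc_9_0 lc_b_rc_10_2 lc_b_rc_9_2 lc_b_rc_30_13 lc_b_rc_11_2 lc_b_rc_7_0 lc_b_rc_7_0 lc_b_rc_7_0 lc_b_rc_10_0 lc_b_rc_31_9 lc_b_rc_31_9 lc_b_rc_9_2 lc_b_rc_8_4 lc_b_rc_11_2 lc_b_rc_7_0 lc_b_rc_7_0 lc_b_rc_10_2 lc_b_Cert_tree) (@D3.rec (fun _ => (Cert rels S Gen.b)) lc_b_Cert_tree lc_b_rc_31_9 lc_b_rc_30_13 lc_b_Cert_tree lc_b_rc_7_0 lc_b_rc_7_1 lc_b_rc_10_2 lc_b_Cert_tree lc_b_rc_9_2 lc_b_rc_8_4 lc_b_Cert_tree lc_b_rc_7_0 lc_b_rc_8_2 lc_b_rc_9_2 lc_b_rc_7_1 lc_b_Cert_tree lc_b_rc_11_2 lc_b_rc_1_3 lc_b_rc_11_2 lc_b_rc_12_2 lc_b_rc_1_3 lc_b_rc_30_13 lc_b_rc_1_7 lc_b_rc_9_2 lc_b_rc_7_0 lc_b_rc_10_2 lc_b_Cert_tree lc_b_rc_8_2 lc_b_rc_8_2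 lc_b_rc_10_2 lc_b_rc_9_2 lc_b_rc_12_2 lc_b_rc_8_2 lc_b_rc_7_0 lc_b_rc_31_6 lc_b_rc_7_0 lc_b_rc_10_0 lc_b_rc_10_0 lc_b_rc_31_9 lc_b_rc_9_2) (@D3.rec (fun _ => (Cert rels S Gen.b)) lc_b_rc_11_2 lc_b_rc_7_0 lc_b_rc_7_0 lc_b_rc_10_2 lc_b_Cert_tree lc_b_rc_7_0 lc_b_rc_12_2 lc_b_rc_10_2 lc_b_rc_9_2 lc_b_Cert_tree lc_b_rc_8_4 lc_b_rc_7_0 lc_b_rc_8_2 lc_b_rc_9_2 lc_b_rc_7_0 lc_b_Cert_tree lc_b_rc_9_2 lc_b_rc_1_5 lc_b_rc_7_1 lc_b_rc_11_2 lc_b_rc_7_0 lc_b_rc_10_2 lc_b_rc_31_9 lc_b_rc_7_0 lc_b_rc_8_0 lc_b_rc_30_13 lc_b_rc_7_0 lc_b_rc_11_4 lc_b_rc_7_0 lc_b_Cert_tree lc_b_rc_9_2 lc_b_rc_7_0 lc_b_rc_1_5 lc_b_rc_30_5 lc_b_rc_11_4 lc_b_rc_30_5 lc_b_rc_30_5 lc_b_Cert_tree lc_b_rc_11_2 lc_b_rc_7_1) (@D3.rec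 (fun _ => (Cert rels S Gen.b)) lc_b_rc_7_0 lc_b_rc_9_2 lc_b_rc_31_6 lc_b_rc_11_2 lc_b_rc_11_2 lc_b_rc_7_0 lc_b_rc_1_5 lc_b_Cert_tree lc_b_rc_9_2 lc_b_rc_11_2 lc_b_rc_9_0 lc_b_Cert_tree lc_b_rc_10_2 lc_b_rc_10_2 lc_b_Cert_tree lc_b_rc_7_0 lc_b_rc_9_2 lc_b_rc_31_3 lc_b_rc_30_9 lc_b_rc_12_2 lc_b_rc_12_2 lc_b_rc_12_2 lc_b_rc_7_0 lc_b_Cert_tree lc_b_rc_7_0 lc_b_rc_7_0 lc_b_rc_10_2 lc_b_rc_7_1 lc_b_rc_7_0 lc_b_rc_12_2 lc_b_rc_8_2 lc_b_rc_7_0 lc_b_rc_7_0 lc_b_rc_1_5 lc_b_Cert_tree lc_b_rc_31_9 lc_b_rc_7_0 lc_b_rc_9_2 lc_b_rc_1_9 lc_b_rc_10_2)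
def ce_b_12 : D2 → D3 → (Cert rels S Gen.b) := @D2.rec (fun _ => D3 → (Cert rels S Gen.b)) (@D3.rec (fun _ => (Cert rels S Gen.b)) lc_b_rc_7_0 lc_b_rc_7_0 lc_b_rc_1_5 lc_b_Cert_tree lc_b_rc_9_2 lc_b_rc_11_2 lc_b_rc_12_2 lc_b_Cert_tree lc_b_rc_10_2 lc_b_rc_10_2 lc_b_Cert_tree lc_b_rc_7_0 lc_b_rc_8_2 lc_b_rc_12_4 lc_b_rc_31_9 lc_b_rc_31_6 lc_b_rc_7_0 lc_b_Cert_tree lc_b_rc_7_0 lc_b_rc_8_2 lc_b_rc_7_0 lc_b_rc_8_2 lc_b_rc_12_2 lc_b_rc_30_13 lc_b_rc_9_2 lc_b_Cert_tree lc_b_Cert_tree lc_b_rc_7_0 lc_b_rc_7_0 lc_b_Cert_tree lc_b_rc_10_2 lc_b_rc_12_2 lc_b_Cert_tree lc_b_rc_10_2 lc_b_rc_11_2 lc_b_rc_7_0 lc_b_rc_1_3 lc_b_rc_11_4 lc_b_rc_7_0 lc_b_rc_1_3) (@D3.rec (fun _ => (Cert rels S Gen.b)) lc_b_rc_12_4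 lc_b_rc_12_2 lc_b_rc_31_9 lc_b_rc_7_0 lc_b_Cert_tree lc_b_rc_10_2 lc_b_rc_11_2 lc_b_rc_7_0 lc_b_Cert_tree lc_b_rc_10_2 lc_b_rc_12_2 lc_b_Cert_tree lc_b_rc_8_2 lc_b_rc_11_2 lc_b_rc_7_0 lc_b_Cert_tree lc_b_rc_7_0 lc_b_rc_30_5 lc_b_rc_10_2 lc_b_rc_7_1 lc_b_Cert_tree lc_b_rc_8_2 lc_b_rc_12_2 lc_b_rc_7_0 lc_b_Cert_tree lc_b_rc_31_6 lc_b_rc_31_9 lc_b_rc_8_4 lc_b_rc_31_9 lc_b_rc_7_0 lc_b_rc_7_0 lc_b_rc_7_0 lc_b_rc_7_0 lc_b_rc_7_0 lc_b_rc_7_0 lc_b_rc_9_0 lc_b_rc_8_2 lc_b_rc_11_2 lc_b_rc_12_2 lc_b_rc_8_2) (@D3.rec (fun _ => (Cert rels S Gen.b)) lc_b_rc_11_0 lc_b_rc_31_9 lc_b_rc_8_2 lc_b_rc_12_2 lc_b_rc_11_2 lc_b_rc_8_2 lc_b_rc_7_0 lc_b_rc_31_12 lc_b_rc_11_4 lc_b_rc_11_4 lc_b_rc_7_0 lc_b_rc_8_4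 lc_b_rc_12_2 lc_b_rc_7_0 lc_b_rc_7_0 lc_b_rc_12_4 lc_b_rc_7_0 lc_b_rc_8_4 lc_b_rc_11_2 lc_b_rc_7_0 lc_b_rc_12_2 lc_b_rc_7_0 lc_b_rc_8_2 lc_b_rc_7_0 lc_b_rc_7_0 lc_b_Cert_tree lc_b_rc_12_2 lc_b_rc_31_6 lc_b_rc_7_0 lc_b_rc_8_2 lc_b_rc_7_0 lc_b_Cert_tree lc_b_rc_7_0 lc_b_rc_31_12 lc_b_rc_31_9 lc_b_rc_11_4 lc_b_rc_31_3 lc_b_rc_12_4 lc_b_rc_1_7 lc_b_rc_10_2) (@D3.rec (fun _ => (Cert rels S Gen.b)) lc_b_rc_9_0 lc_b_rc_10_2 lc_b_rc_9_0 lc_b_rc_31_12 lc_b_rc_30_17 lc_b_rc_11_2 lc_b_Cert_tree lc_b_rc_31_3 lc_b_rc_7_0 lc_b_rc_7_0 lc_b_rc_8_2 lc_b_Cert_tree lc_b_rc_7_0 lc_b_rc_1_7 lc_b_rc_7_0 lc_b_rc_7_0 lc_b_rc_8_2 lc_b_rc_7_0 lc_b_rc_9_2 lc_b_rc_7_0 lc_b_rc_9_2 lc_b_rc_12_2 lc_b_rc_30_13 lc_b_Cert_tree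 lc_b_rc_7_0 lc_b_rc_31_3 lc_b_rc_8_2 lc_b_rc_11_2 lc_b_rc_10_2 lc_b_rc_7_1 lc_b_rc_8_2 lc_b_rc_12_2 lc_b_rc_11_2 lc_b_rc_9_2 lc_b_Cert_tree lc_b_rc_7_0 lc_b_rc_7_1 lc_b_rc_8_2 lc_b_rc_12_2 lc_b_rc_30_13) (@D3.rec (fun _ => (Cert rels S Gen.b)) lc_b_rc_31_6 lc_b_rc_8_2 lc_b_rc_11_2 lc_b_Cert_tree lc_b_rc_7_0 lc_b_rc_7_0 lc_b_rc_31_6 lc_b_Cert_tree lc_b_rc_7_0 lc_b_rc_7_0 lc_b_rc_7_0 lc_b_rc_7_0 lc_b_Cert_tree lc_b_rc_7_0 lc_b_rc_7_0 lc_b_rc_7_0 lc_b_Cert_tree lc_b_rc_7_0 lc_b_rc_7_0 lc_b_rc_31_3 lc_b_rc_31_9 lc_b_rc_7_0 lc_b_rc_9_2 lc_b_rc_12_4 lc_b_rc_32_15 lc_b_Cert_tree lc_b_rc_7_0 lc_b_rc_31_6 lc_b_rc_11_2 lc_b_Cert_tree lc_b_rc_7_0 lc_b_rc_7_1 lc_b_Cert_tree lc_b_rc_1_5 lc_b_rc_12_2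 lc_b_rc_12_2 lc_b_Cert_tree lc_b_rc_7_0 lc_b_rc_12_2 lc_b_rc_1_5) (@D3.rec (fun _ => (Cert rels S Gen.b)) lc_b_rc_8_4 lc_b_rc_30_9 lc_b_rc_9_2 lc_b_rc_7_0 lc_b_rc_11_2 lc_b_rc_8_2 lc_b_rc_10_2 lc_b_rc_11_2 lc_b_Cert_tree lc_b_rc_7_0 lc_b_rc_7_0 lc_b_rc_9_2 lc_b_rc_11_4 lc_b_rc_9_2 lc_b_Cert_tree lc_b_rc_7_0 lc_b_rc_10_2 lc_b_rc_12_2 lc_b_Cert_tree lc_b_rc_7_0 lc_b_rc_12_4 lc_b_Cert_tree lc_b_rc_9_0 lc_b_rc_9_0 lc_b_rc_11_2 lc_b_Cert_tree lc_b_rc_7_0 lc_b_rc_11_2 lc_b_rc_1_5 lc_b_rc_30_5 lc_b_rc_11_2 lc_b_rc_9_2 lc_b_rc_31_6 lc_b_rc_31_6 lc_b_rc_8_2 lc_b_rc_10_2 lc_b_rc_12_2 lc_b_Cert_tree lc_b_rc_7_0 lc_b_rc_7_0) (@D3.rec (fun _ => (Cert rels S Gen.b)) lc_b_rc_10_0 lc_b_rc_8_2 lc_b_rc_11_2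 lc_b_rc_7_0 lc_b_Cert_tree lc_b_rc_10_2 lc_b_rc_7_0 lc_b_rc_11_0 lc_b_rc_8_2 lc_b_rc_12_2 lc_b_rc_7_0 lc_b_Cert_tree lc_b_rc_10_2 lc_b_rc_30_9 lc_b_rc_8_2 lc_b_rc_11_2 lc_b_rc_9_2 lc_b_rc_12_2 lc_b_rc_8_4 lc_b_rc_7_1 lc_b_rc_7_0 lc_b_Cert_tree lc_b_rc_30_13 lc_b_rc_8_2 lc_b_rc_12_2 lc_b_rc_8_4 lc_b_rc_11_2 lc_b_rc_8_4 lc_b_rc_8_2 lc_b_rc_31_3 lc_b_Cert_tree lc_b_rc_7_1 lc_b_rc_32_62 lc_b_rc_9_2 lc_b_Cert_tree lc_b_rc_9_2 lc_b_rc_10_2 lc_b_rc_1_3 lc_b_Cert_tree lc_b_rc_9_2) (@D3.rec (fun _ => (Cert rels S Gen.b)) lc_b_Cert_tree lc_b_rc_7_0 lc_b_rc_31_6 lc_b_rc_7_0 lc_b_rc_12_2 lc_b_rc_7_0 lc_b_rc_7_0 lc_b_rc_9_0 lc_b_rc_7_0 lc_b_rc_11_2 lc_b_rc_7_0 lc_b_Cert_tree lc_b_rc_7_0 lc_b_rc_8_2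 lc_b_rc_11_0 lc_b_rc_10_0 lc_b_rc_11_2 lc_b_rc_12_2 lc_b_rc_8_2 lc_b_rc_8_2 lc_b_rc_11_2 lc_b_rc_7_0 lc_b_rc_8_2 lc_b_rc_31_9 lc_b_rc_8_2 lc_b_Cert_tree lc_b_rc_7_0 lc_b_rc_9_2 lc_b_rc_7_0 lc_b_rc_9_2 lc_b_rc_7_0 lc_b_rc_7_0 lc_b_rc_9_0 lc_b_rc_7_0 lc_b_rc_10_0 lc_b_rc_8_2 lc_b_Cert_tree lc_b_rc_31_6 lc_b_rc_8_2 lc_b_rc_8_4) (@D3.rec (fun _ => (Cert rels S Gen.b)) lc_b_rc_30_5 lc_b_rc_11_2 lc_b_rc_12_2 lc_b_rc_11_2 lc_b_rc_8_2 lc_b_rc_12_2 lc_b_rc_7_0 lc_b_rc_30_13 lc_b_rc_7_0 lc_b_rc_12_2 lc_b_rc_12_4 lc_b_rc_1_7 lc_b_rc_7_0 lc_b_rc_11_2 lc_b_rc_11_4 lc_b_rc_10_2 lc_b_rc_7_0 lc_b_rc_7_0 lc_b_rc_7_0 lc_b_rc_7_0 lc_b_rc_7_0 lc_b_rc_12_2 lc_b_rc_7_1 lc_b_rc_11_4 lc_b_rc_11_2 lc_b_Cert_tree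 lc_b_rc_7_0 lc_b_rc_1_3 lc_b_rc_12_2 lc_b_Cert_tree lc_b_rc_7_0 lc_b_rc_12_4 lc_b_rc_7_0 lc_b_rc_12_2 lc_b_rc_8_2 lc_b_rc_11_2 lc_b_rc_8_4 lc_b_rc_7_0 lc_b_rc_1_7 lc_b_rc_8_2) (@D3.rec (fun _ => (Cert rels S Gen.b)) lc_b_rc_12_2 lc_b_rc_7_0 lc_b_rc_1_7 lc_b_Cert_tree lc_b_rc_9_2 lc_b_Cert_tree lc_b_rc_11_4 lc_b_rc_7_0 lc_b_rc_8_4 lc_b_Cert_tree lc_b_rc_9_2 lc_b_Cert_tree lc_b_rc_12_4 lc_b_rc_1_5 lc_b_rc_10_2 lc_b_rc_1_5 lc_b_rc_10_2 lc_b_rc_31_12 lc_b_rc_7_0 lc_b_rc_1_5 lc_b_rc_10_2 lc_b_rc_11_4 lc_b_rc_11_2 lc_b_rc_12_2 lc_b_rc_7_0 lc_b_rc_1_3 lc_b_rc_12_0 lc_b_rc_1_5 lc_b_rc_8_2 lc_b_rc_12_2 lc_b_Cert_tree lc_b_rc_8_2 lc_b_rc_11_2 lc_b_rc_7_0 lc_b_Cert_tree lc_b_rc_7_1 lc_b_rc_9_2 lc_b_Cert_tree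 lc_b_Cert_tree lc_b_rc_1_5) (@D3.rec (fun _ => (Cert rels S Gen.b)) lc_b_rc_8_2 lc_b_rc_11_2 lc_b_Cert_tree lc_b_rc_8_2 lc_b_rc_12_2 lc_b_rc_7_0 lc_b_Cert_tree lc_b_rc_31_6 lc_b_rc_9_2 lc_b_Cert_tree lc_b_Cert_tree lc_b_rc_30_13 lc_b_rc_31_9 lc_b_Cert_tree lc_b_rc_7_0 lc_b_rc_9_0 lc_b_rc_8_2 lc_b_rc_11_2 lc_b_rc_7_0 lc_b_rc_1_5 lc_b_Cert_tree lc_b_rc_10_2 lc_b_rc_7_0 lc_b_Cert_tree lc_b_rc_7_0 lc_b_rc_7_0 lc_b_rc_8_0 lc_b_rc_9_0 lc_b_Cert_tree lc_b_rc_7_0 lc_b_rc_10_2 lc_b_rc_8_2 lc_b_rc_12_2 lc_b_rc_7_0 lc_b_rc_1_5 lc_b_Cert_tree lc_b_rc_31_6 lc_b_rc_7_0 lc_b_Cert_tree lc_b_rc_7_0) (@D3.rec (fun _ => (Cert rels S Gen.b)) lc_b_rc_7_0 lc_b_Cert_tree lc_b_rc_7_0 lc_b_rc_10_0 lc_b_rc_8_2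 lc_b_rc_11_2 lc_b_rc_1_7 lc_b_rc_7_0 lc_b_rc_7_0 lc_b_rc_12_2 lc_b_rc_8_2 lc_b_rc_12_2 lc_b_rc_1_5 lc_b_rc_31_6 lc_b_rc_12_2 lc_b_rc_7_0 lc_b_rc_7_0 lc_b_Cert_tree lc_b_rc_7_0 lc_b_rc_12_2 lc_b_rc_8_2 lc_b_rc_12_2 lc_b_rc_1_7 lc_b_rc_7_0 lc_b_rc_7_0 lc_b_rc_11_2 lc_b_rc_8_2 lc_b_rc_11_2 lc_b_rc_1_5 lc_b_rc_11_2 lc_b_rc_31_0 lc_b_rc_7_0 lc_b_rc_7_0 lc_b_rc_1_3 lc_b_rc_30_9 lc_b_rc_10_2 lc_b_rc_7_0 lc_b_rc_9_2 lc_b_rc_7_1 lc_b_rc_7_1) (@D3.rec (fun _ => (Cert rels S Gen.b)) lc_b_rc_1_5 lc_b_rc_31_9 lc_b_rc_32_72 lc_b_Cert_tree lc_b_rc_8_2 lc_b_rc_7_0 lc_b_Cert_tree lc_b_rc_31_6 lc_b_rc_8_2 lc_b_rc_31_6 lc_b_rc_7_0 lc_b_rc_10_2 lc_b_rc_9_2 lc_b_Cert_tree lc_b_Cert_tree lc_b_rc_7_0 lc_b_Cert_tree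 lc_b_Cert_tree lc_b_rc_7_0 lc_b_Cert_tree lc_b_rc_8_2 lc_b_rc_11_2 lc_b_rc_7_0 lc_b_rc_12_2 lc_b_rc_12_2 lc_b_rc_9_2 lc_b_Cert_tree lc_b_rc_7_0 lc_b_Cert_tree lc_b_Cert_tree lc_b_rc_8_2 lc_b_Cert_tree lc_b_rc_7_0 lc_b_rc_7_0 lc_b_rc_12_2 lc_b_rc_9_2 lc_b_Cert_tree lc_b_rc_7_0 lc_b_Cert_tree lc_b_rc_8_2) (@D3.rec (fun _ => (Cert rels S Gen.b)) lc_b_rc_10_2 lc_b_rc_11_2 lc_b_Cert_tree lc_b_rc_11_2 lc_b_rc_12_2 lc_b_rc_7_0 lc_b_rc_9_2 lc_b_rc_10_2 lc_b_Cert_tree lc_b_rc_7_0 lc_b_rc_9_0 lc_b_rc_8_2 lc_b_rc_1_3 lc_b_Cert_tree lc_b_rc_31_6 lc_b_rc_9_2 lc_b_Cert_tree lc_b_rc_31_6 lc_b_rc_7_1 lc_b_rc_7_0 lc_b_Cert_tree lc_b_rc_1_5 lc_b_Cert_tree lc_b_rc_9_2 lc_b_rc_12_2 lc_b_rc_10_2 lc_b_rc_9_2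 lc_b_rc_7_0 lc_b_rc_11_2 lc_b_rc_1_3 lc_b_rc_9_0 lc_b_rc_12_4 lc_b_rc_7_0 lc_b_rc_9_2 lc_b_rc_10_2 lc_b_rc_12_4 lc_b_rc_1_5 lc_b_rc_9_2 lc_b_Cert_tree lc_b_rc_10_2) (@D3.rec (fun _ => (Cert rels S Gen.b)) lc_b_rc_7_0 lc_b_Cert_tree lc_b_rc_8_2 lc_b_rc_10_2 lc_b_rc_8_2 lc_b_rc_7_0 lc_b_rc_10_2 lc_b_Cert_tree lc_b_rc_7_1 lc_b_rc_7_0 lc_b_Cert_tree lc_b_Cert_tree lc_b_Cert_tree lc_b_rc_7_0 lc_b_Cert_tree lc_b_rc_8_2 lc_b_rc_12_2 lc_b_rc_7_0 lc_b_rc_11_2 lc_b_rc_9_2 lc_b_Cert_tree lc_b_rc_7_0 lc_b_Cert_tree lc_b_Cert_tree lc_b_rc_8_2 lc_b_Cert_tree lc_b_rc_7_0 lc_b_rc_7_0 lc_b_rc_30_13 lc_b_rc_9_2 lc_b_Cert_tree lc_b_rc_7_0 lc_b_Cert_tree lc_b_rc_8_2 lc_b_rc_11_2 lc_b_rc_31_3 lc_b_Cert_tree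 lc_b_rc_11_2 lc_b_rc_12_2 lc_b_rc_7_0) (@D3.rec (fun _ => (Cert rels S Gen.b)) lc_b_rc_7_0 lc_b_rc_7_0 lc_b_rc_8_2 lc_b_rc_12_2 lc_b_rc_12_2 lc_b_rc_7_0 lc_b_rc_9_2 lc_b_rc_8_4 lc_b_rc_7_0 lc_b_rc_10_2 lc_b_rc_11_2 lc_b_Cert_tree lc_b_rc_1_5 lc_b_Cert_tree lc_b_rc_9_2 lc_b_rc_11_2 lc_b_rc_9_2 lc_b_rc_11_2 lc_b_rc_12_2 lc_b_rc_31_9 lc_b_Cert_tree lc_b_rc_9_2 lc_b_rc_9_2 lc_b_Cert_tree lc_b_rc_7_0 lc_b_Cert_tree lc_b_rc_12_2 lc_b_Cert_tree lc_b_Cert_tree lc_b_rc_7_0 lc_b_rc_7_0 lc_b_rc_9_2 lc_b_rc_10_2 lc_b_Cert_tree lc_b_rc_7_0 lc_b_rc_7_0 lc_b_rc_9_2 lc_b_Cert_tree lc_b_rc_9_2 lc_b_Cert_tree) (@D3.rec (fun _ => (Cert rels S Gen.b)) lc_b_rc_7_0 lc_b_Cert_tree lc_b_rc_10_0 lc_b_rc_8_2 lc_b_rc_12_2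 lc_b_rc_1_7 lc_b_Cert_tree lc_b_rc_7_0 lc_b_rc_8_4 lc_b_rc_10_2 lc_b_Cert_tree lc_b_rc_7_0 lc_b_Cert_tree lc_b_rc_30_9 lc_b_rc_8_2 lc_b_rc_7_0 lc_b_Cert_tree lc_b_Cert_tree lc_b_rc_11_2 lc_b_rc_9_2 lc_b_rc_12_2 lc_b_rc_10_2 lc_b_rc_7_0 lc_b_rc_10_2 lc_b_rc_7_0 lc_b_rc_9_2 lc_b_Cert_tree lc_b_Cert_tree lc_b_rc_8_2 lc_b_rc_10_2 lc_b_rc_11_2 lc_b_rc_12_2 lc_b_Cert_tree lc_b_rc_7_1 lc_b_Cert_tree lc_b_rc_10_2 lc_b_rc_11_2 lc_b_rc_12_2 lc_b_Cert_tree lc_b_rc_7_1) (@D3.rec (fun _ => (Cert rels S Gen.b)) lc_b_rc_9_2 lc_b_Cert_tree lc_b_rc_9_2 lc_b_rc_7_0 lc_b_Cert_tree lc_b_rc_11_2 lc_b_Cert_tree lc_b_Cert_tree lc_b_rc_7_0 lc_b_rc_7_0 lc_b_rc_10_2 lc_b_rc_8_2 lc_b_Cert_tree lc_b_rc_7_0 lc_b_rc_7_0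 lc_b_rc_9_2 lc_b_Cert_tree lc_b_rc_9_2 lc_b_Cert_tree lc_b_rc_7_0 lc_b_Cert_tree lc_b_rc_7_1 lc_b_rc_8_2 lc_b_rc_11_2 lc_b_rc_1_7 lc_b_Cert_tree lc_b_rc_7_0 lc_b_rc_12_0 lc_b_rc_10_2 lc_b_Cert_tree lc_b_rc_7_0 lc_b_Cert_tree lc_b_rc_31_9 lc_b_rc_8_2 lc_b_rc_7_0 lc_b_Cert_tree lc_b_Cert_tree lc_b_rc_8_2 lc_b_rc_9_2 lc_b_rc_11_2) (@D3.rec (fun _ => (Cert rels S Gen.b)) lc_b_rc_10_2 lc_b_rc_7_0 lc_b_rc_10_2 lc_b_rc_7_0 lc_b_rc_9_2 lc_b_Cert_tree lc_b_Cert_tree lc_b_rc_8_2 lc_b_rc_10_2 lc_b_rc_11_2 lc_b_rc_12_2 lc_b_rc_11_4 lc_b_Cert_tree lc_b_Cert_tree lc_b_rc_10_2 lc_b_rc_11_2 lc_b_rc_12_2 lc_b_Cert_tree lc_b_rc_7_0 lc_b_Cert_tree lc_b_rc_7_0 lc_b_rc_8_4 lc_b_rc_7_0 lc_b_Cert_tree lc_b_rc_9_2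 lc_b_rc_11_2 lc_b_rc_12_2 lc_b_rc_10_2 lc_b_Cert_tree lc_b_rc_11_2 lc_b_rc_12_2 lc_b_rc_1_7 lc_b_Cert_tree lc_b_rc_8_2 lc_b_rc_10_2 lc_b_rc_11_2 lc_b_rc_12_2 lc_b_Cert_tree lc_b_rc_7_0 lc_b_Cert_tree) (@D3.rec (fun _ => (Cert rels S Gen.b)) lc_b_rc_7_0 lc_b_rc_11_4 lc_b_rc_7_0 lc_b_Cert_tree lc_b_rc_9_2 lc_b_rc_11_2 lc_b_rc_12_2 lc_b_rc_10_2 lc_b_Cert_tree lc_b_rc_11_2 lc_b_rc_12_2 lc_b_rc_1_7 lc_b_rc_8_2 lc_b_rc_10_2 lc_b_rc_11_2 lc_b_rc_10_0 lc_b_rc_1_3 lc_b_rc_7_0 lc_b_rc_31_9 lc_b_Cert_tree lc_b_rc_9_0 lc_b_rc_30_17 lc_b_rc_11_0 lc_b_rc_30_13 lc_b_Cert_tree lc_b_rc_7_0 lc_b_rc_30_9 lc_b_rc_8_2 lc_b_rc_8_2 lc_b_rc_7_0 lc_b_rc_7_0 lc_b_rc_8_2 lc_b_Cert_tree lc_b_rc_12_4 lc_b_rc_30_9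 lc_b_rc_1_3 lc_b_rc_31_9 lc_b_Cert_tree lc_b_rc_7_0 lc_b_rc_12_4) (@D3.rec (fun _ => (Cert rels S Gen.b)) lc_b_rc_8_2 lc_b_rc_30_9 lc_b_rc_7_0 lc_b_rc_10_2 lc_b_rc_10_2 lc_b_rc_7_0 lc_b_rc_8_2 lc_b_rc_8_2 lc_b_rc_7_0 lc_b_rc_7_0 lc_b_Cert_tree lc_b_rc_7_0 lc_b_rc_8_4 lc_b_rc_7_0 lc_b_rc_31_6 lc_b_rc_8_2 lc_b_rc_31_9 lc_b_rc_7_0 lc_b_rc_7_0 lc_b_rc_7_1 lc_b_rc_8_2 lc_b_rc_31_6 lc_b_rc_7_0 lc_b_rc_30_13 lc_b_rc_31_3 lc_b_rc_11_0 lc_b_rc_11_4 lc_b_rc_10_2 lc_b_rc_7_0 lc_b_rc_31_6 lc_b_rc_10_2 lc_b_rc_7_0 lc_b_rc_31_6 lc_b_rc_12_2 lc_b_rc_11_2 lc_b_rc_12_2 lc_b_rc_31_9 lc_b_rc_31_9 lc_b_rc_7_0 lc_b_rc_9_2) (@D3.rec (fun _ => (Cert rels S Gen.b)) lc_b_rc_9_2 lc_b_rc_12_2 lc_b_rc_7_0 lc_b_rc_31_6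 lc_b_rc_31_6 lc_b_rc_12_4 lc_b_rc_11_2 lc_b_rc_8_2 lc_b_rc_7_0 lc_b_rc_12_2 lc_b_Cert_tree lc_b_rc_8_4 lc_b_rc_1_5 lc_b_rc_12_2 lc_b_rc_30_13 lc_b_rc_8_2 lc_b_rc_8_2 lc_b_rc_7_0 lc_b_rc_7_0 lc_b_rc_7_0 lc_b_rc_7_0 lc_b_rc_32_26 lc_b_rc_32_52 lc_b_rc_31_3 lc_b_rc_10_2 lc_b_rc_1_3 lc_b_rc_8_2 lc_b_rc_30_9 lc_b_rc_7_0 lc_b_rc_7_0 lc_b_Cert_tree lc_b_rc_7_0 lc_b_rc_8_4 lc_b_rc_9_0 lc_b_rc_8_2 lc_b_rc_1_5 lc_b_rc_7_0 lc_b_rc_7_0 lc_b_rc_7_0 lc_b_rc_30_5) (@D3.rec (fun _ => (Cert rels S Gen.b)) lc_b_rc_8_2 lc_b_rc_10_0 lc_b_rc_7_0 lc_b_rc_8_2 lc_b_rc_1_7 lc_b_rc_12_0 lc_b_rc_10_2 lc_b_rc_7_0 lc_b_rc_11_2 lc_b_rc_10_2 lc_b_rc_7_0 lc_b_rc_31_9 lc_b_rc_10_0 lc_b_rc_12_2 lc_b_rc_30_9 lc_b_rc_30_9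 lc_b_rc_11_2 lc_b_rc_7_0 lc_b_rc_30_9 lc_b_rc_7_1 lc_b_rc_12_2 lc_b_rc_8_2 lc_b_rc_30_5 lc_b_rc_10_0 lc_b_Cert_tree lc_b_rc_7_0 lc_b_rc_7_0 lc_b_rc_7_0 lc_b_rc_9_2 lc_b_rc_8_2 lc_b_Cert_tree lc_b_rc_7_0 lc_b_rc_7_0 lc_b_rc_31_6 lc_b_rc_8_2 lc_b_rc_11_2 lc_b_rc_8_2 lc_b_rc_1_3 lc_b_rc_7_0 lc_b_rc_1_5) (@D3.rec (fun _ => (Cert rels S Gen.b)) lc_b_rc_7_0 lc_b_rc_31_9 lc_b_rc_7_0 lc_b_rc_12_4 lc_b_rc_30_5 lc_b_rc_1_3 lc_b_rc_31_6 lc_b_rc_10_2 lc_b_rc_7_0 lc_b_rc_10_0 lc_b_rc_31_9 lc_b_rc_12_2 lc_b_rc_7_0 lc_b_rc_10_2 lc_b_rc_7_0 lc_b_rc_7_1 lc_b_rc_7_0 lc_b_rc_11_2 lc_b_rc_7_0 lc_b_rc_7_0 lc_b_rc_9_2 lc_b_rc_31_9 lc_b_rc_10_2 lc_b_rc_12_2 lc_b_rc_9_0 lc_b_rc_10_2 lc_b_rc_12_2 lc_b_rc_9_2 lc_b_rc_30_9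 lc_b_rc_1_5 lc_b_rc_31_6 lc_b_rc_7_0 lc_b_rc_7_0 lc_b_rc_7_0 lc_b_rc_7_0 lc_b_rc_7_0 lc_b_rc_30_13 lc_b_Cert_tree lc_b_rc_12_2 lc_b_rc_7_0) (@D3.rec (fun _ => (Cert rels S Gen.b)) lc_b_rc_31_12 lc_b_Cert_tree lc_b_rc_7_1 lc_b_rc_7_0 lc_b_rc_7_0 lc_b_rc_8_2 lc_b_rc_9_2 lc_b_rc_8_2 lc_b_rc_7_0 lc_b_rc_11_4 lc_b_rc_7_0 lc_b_rc_10_2 lc_b_rc_7_0 lc_b_rc_9_2 lc_b_rc_7_0 lc_b_rc_1_3 lc_b_rc_8_2 lc_b_rc_1_3 lc_b_rc_7_0 lc_b_rc_10_2 lc_b_rc_7_0 lc_b_rc_1_7 lc_b_rc_10_0 lc_b_rc_11_2 lc_b_rc_7_0 lc_b_rc_10_2 lc_b_rc_12_4 lc_b_rc_30_9 lc_b_rc_7_0 lc_b_rc_12_2 lc_b_rc_7_0 lc_b_rc_7_0 lc_b_rc_9_2 lc_b_rc_30_13 lc_b_rc_10_2 lc_b_rc_11_2 lc_b_rc_9_0 lc_b_rc_10_2 lc_b_rc_11_2 lc_b_rc_9_2) (@D3.rec (fun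 _ => (Cert rels S Gen.b)) lc_b_rc_30_9 lc_b_rc_10_0 lc_b_rc_30_9 lc_b_rc_7_0 lc_b_rc_7_0 lc_b_rc_7_0 lc_b_rc_7_0 lc_b_rc_7_0 lc_b_rc_30_9 lc_b_Cert_tree lc_b_rc_11_2 lc_b_rc_7_0 lc_b_rc_12_2 lc_b_rc_7_0 lc_b_rc_9_0 lc_b_rc_7_1 lc_b_rc_9_0 lc_b_rc_11_2 lc_b_rc_7_0 lc_b_rc_7_0 lc_b_rc_7_1 lc_b_rc_31_6 lc_b_rc_11_2 lc_b_rc_32_46 lc_b_rc_8_4 lc_b_rc_30_9 lc_b_rc_10_2 lc_b_rc_12_2 lc_b_rc_7_0 lc_b_rc_8_2 lc_b_rc_30_1 lc_b_rc_9_2 lc_b_rc_10_2 lc_b_rc_10_0 lc_b_rc_10_2 lc_b_Cert_tree lc_b_rc_7_0 lc_b_rc_7_0 lc_b_rc_12_2 lc_b_Cert_tree)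
def ce_b_13 : D2 → D3 → (Cert rels S Gen.b) := @D2.rec (fun _ => D3 → (Cert rels S Gen.b)) (@D3.rec (fun _ => (Cert rels S Gen.b)) lc_b_rc_7_0 lc_b_rc_7_0 lc_b_rc_11_2 lc_b_rc_7_0 lc_b_rc_30_5 lc_b_rc_11_2 lc_b_rc_31_6 lc_b_rc_9_2 lc_b_rc_12_4 lc_b_rc_8_2 lc_b_rc_10_2 lc_b_rc_11_2 lc_b_rc_7_0 lc_b_rc_30_5 lc_b_rc_8_2 lc_b_rc_9_2 lc_b_rc_10_2 lc_b_rc_30_5 lc_b_rc_10_2 lc_b_rc_30_13 lc_b_Cert_tree lc_b_rc_7_0 lc_b_rc_11_2 lc_b_Cert_tree lc_b_rc_7_0 lc_b_rc_7_0 lc_b_rc_7_0 lc_b_rc_31_6 lc_b_rc_12_2 lc_b_rc_7_0 lc_b_rc_8_2 lc_b_rc_12_2 lc_b_rc_9_2 lc_b_rc_7_0 lc_b_rc_9_2 lc_b_rc_11_4 lc_b_Cert_tree lc_b_rc_31_3 lc_b_rc_8_4 lc_b_rc_10_2) (@D3.rec (fun _ => (Cert rels S Gen.b)) lc_b_rc_7_0 lc_b_rc_7_0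 lc_b_rc_8_2 lc_b_rc_31_6 lc_b_rc_30_5 lc_b_rc_31_9 lc_b_rc_9_2 lc_b_rc_7_0 lc_b_rc_9_2 lc_b_Cert_tree lc_b_rc_7_0 lc_b_rc_7_0 lc_b_rc_31_6 lc_b_rc_9_2 lc_b_rc_8_2 lc_b_Cert_tree lc_b_rc_7_0 lc_b_rc_7_0 lc_b_rc_10_0 lc_b_rc_11_2 lc_b_rc_7_0 lc_b_rc_9_2 lc_b_rc_31_3 lc_b_Cert_tree lc_b_rc_11_4 lc_b_rc_7_0 lc_b_rc_7_0 lc_b_rc_8_2 lc_b_rc_1_5 lc_b_rc_9_2 lc_b_rc_7_0 lc_b_Cert_tree lc_b_rc_7_0 lc_b_rc_1_5 lc_b_rc_31_6 lc_b_rc_9_2 lc_b_Cert_tree lc_b_rc_10_2 lc_b_rc_8_2 lc_b_rc_11_2) (@D3.rec (fun _ => (Cert rels S Gen.b)) lc_b_rc_31_3 lc_b_rc_8_2 lc_b_rc_12_2 lc_b_rc_11_4 lc_b_rc_12_4 lc_b_rc_8_2 lc_b_rc_31_3 lc_b_rc_30_9 lc_b_rc_7_1 lc_b_rc_9_2 lc_b_rc_1_5 lc_b_rc_1_3 lc_b_rc_31_6 lc_b_rc_9_2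 lc_b_rc_7_1 lc_b_rc_1_5 lc_b_rc_8_2 lc_b_rc_30_9 lc_b_rc_11_0 lc_b_rc_9_2 lc_b_rc_8_4 lc_b_rc_7_0 lc_b_rc_1_7 lc_b_rc_8_2 lc_b_rc_10_2 lc_b_rc_7_0 lc_b_rc_7_1 lc_b_rc_8_2 lc_b_rc_31_3 lc_b_rc_12_4 lc_b_rc_8_2 lc_b_rc_11_2 lc_b_rc_7_0 lc_b_rc_8_4 lc_b_rc_7_0 lc_b_rc_9_2 lc_b_rc_11_4 lc_b_rc_7_1 lc_b_rc_10_2 lc_b_rc_8_2) (@D3.rec (fun _ => (Cert rels S Gen.b)) lc_b_rc_12_2 lc_b_rc_7_0 lc_b_rc_8_4 lc_b_rc_31_6 lc_b_rc_9_2 lc_b_rc_8_4 lc_b_rc_12_2 lc_b_Cert_tree lc_b_rc_7_0 lc_b_Cert_tree lc_b_rc_7_0 lc_b_rc_11_2 lc_b_rc_7_0 lc_b_rc_8_2 lc_b_rc_11_2 lc_b_rc_8_2 lc_b_rc_12_2 lc_b_rc_7_0 lc_b_rc_12_2 lc_b_rc_8_2 lc_b_rc_12_2 lc_b_rc_8_2 lc_b_rc_11_2 lc_b_rc_9_2 lc_b_rc_9_2 lc_b_rc_7_0 lc_b_rc_7_0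 lc_b_rc_7_0 lc_b_rc_7_0 lc_b_rc_8_2 lc_b_rc_8_2 lc_b_rc_7_0 lc_b_rc_9_2 lc_b_rc_8_2 lc_b_rc_7_0 lc_b_rc_31_6 lc_b_rc_8_2 lc_b_rc_9_2 lc_b_rc_8_2 lc_b_rc_1_5) (@D3.rec (fun _ => (Cert rels S Gen.b)) lc_b_rc_7_0 lc_b_rc_30_9 lc_b_rc_7_0 lc_b_rc_9_2 lc_b_rc_11_4 lc_b_rc_31_6 lc_b_rc_9_2 lc_b_rc_8_2 lc_b_rc_11_2 lc_b_rc_7_0 lc_b_rc_7_1 lc_b_rc_31_6 lc_b_rc_9_2 lc_b_rc_12_4 lc_b_rc_11_2 lc_b_Cert_tree lc_b_rc_11_4 lc_b_rc_8_2 lc_b_Cert_tree lc_b_rc_9_2 lc_b_rc_12_2 lc_b_rc_31_12 lc_b_rc_10_2 lc_b_rc_9_0 lc_b_rc_11_2 lc_b_rc_7_0 lc_b_rc_7_0 lc_b_rc_7_0 lc_b_rc_7_0 lc_b_rc_8_2 lc_b_rc_7_0 lc_b_rc_31_3 lc_b_rc_11_4 lc_b_rc_8_2 lc_b_rc_31_6 lc_b_rc_30_9 lc_b_rc_7_1 lc_b_rc_30_5 lc_b_rc_7_0 lc_b_Cert_tree)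 (@D3.rec (fun _ => (Cert rels S Gen.b)) lc_b_Cert_tree lc_b_rc_9_2 lc_b_rc_12_2 lc_b_Cert_tree lc_b_rc_9_2 lc_b_rc_7_0 lc_b_rc_10_2 lc_b_Cert_tree lc_b_Cert_tree lc_b_rc_7_0 lc_b_rc_11_2 lc_b_rc_8_2 lc_b_rc_11_2 lc_b_rc_7_0 lc_b_rc_10_2 lc_b_rc_7_1 lc_b_Cert_tree lc_b_rc_1_5 lc_b_Cert_tree lc_b_rc_11_2 lc_b_rc_7_0 lc_b_rc_9_2 lc_b_Cert_tree lc_b_rc_11_4 lc_b_Cert_tree lc_b_rc_7_0 lc_b_rc_9_2 lc_b_rc_11_2 lc_b_Cert_tree lc_b_rc_32_41 lc_b_rc_7_0 lc_b_rc_10_2 lc_b_Cert_tree lc_b_Cert_tree lc_b_rc_7_0 lc_b_rc_12_2 lc_b_rc_8_2 lc_b_rc_12_2 lc_b_rc_7_0 lc_b_rc_7_1) (@D3.rec (fun _ => (Cert rels S Gen.b)) lc_b_rc_11_4 lc_b_Cert_tree lc_b_rc_1_5 lc_b_Cert_tree lc_b_rc_11_2 lc_b_rc_7_0 lc_b_rc_9_2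 lc_b_Cert_tree lc_b_rc_12_4 lc_b_Cert_tree lc_b_rc_7_0 lc_b_rc_7_0 lc_b_rc_30_9 lc_b_rc_8_2 lc_b_rc_9_2 lc_b_rc_8_2 lc_b_rc_1_5 lc_b_rc_12_2 lc_b_Cert_tree lc_b_rc_7_0 lc_b_rc_8_4 lc_b_rc_8_2 lc_b_rc_30_9 lc_b_rc_31_9 lc_b_rc_1_5 lc_b_rc_31_6 lc_b_Cert_tree lc_b_rc_7_0 lc_b_rc_31_6 lc_b_rc_7_0 lc_b_rc_10_2 lc_b_Cert_tree lc_b_rc_12_2 lc_b_rc_7_0 lc_b_rc_1_5 lc_b_rc_8_2 lc_b_rc_11_2 lc_b_rc_12_2 lc_b_rc_9_2 lc_b_rc_8_4) (@D3.rec (fun _ => (Cert rels S Gen.b)) lc_b_rc_9_2 lc_b_Cert_tree lc_b_rc_7_0 lc_b_Cert_tree lc_b_Cert_tree lc_b_rc_7_0 lc_b_rc_31_3 lc_b_rc_8_2 lc_b_rc_12_2 lc_b_Cert_tree lc_b_rc_12_2 lc_b_rc_7_0 lc_b_rc_9_2 lc_b_Cert_tree lc_b_rc_10_2 lc_b_Cert_tree lc_b_rc_7_0 lc_b_Cert_tree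 lc_b_rc_9_2 lc_b_rc_10_2 lc_b_rc_7_0 lc_b_rc_8_2 lc_b_rc_10_2 lc_b_rc_10_2 lc_b_rc_11_4 lc_b_rc_12_2 lc_b_rc_8_2 lc_b_rc_10_2 lc_b_Cert_tree lc_b_rc_7_0 lc_b_rc_7_0 lc_b_rc_10_2 lc_b_Cert_tree lc_b_rc_10_2 lc_b_Cert_tree lc_b_rc_7_0 lc_b_rc_8_2 lc_b_rc_30_9 lc_b_rc_7_0 lc_b_rc_7_0) (@D3.rec (fun _ => (Cert rels S Gen.b)) lc_b_rc_10_2 lc_b_Cert_tree lc_b_rc_7_1 lc_b_rc_7_0 lc_b_rc_1_5 lc_b_rc_8_2 lc_b_rc_12_2 lc_b_rc_9_2 lc_b_rc_8_4 lc_b_rc_9_2 lc_b_Cert_tree lc_b_rc_7_0 lc_b_Cert_tree lc_b_Cert_tree lc_b_rc_7_0 lc_b_rc_31_0 lc_b_rc_8_2 lc_b_rc_11_2 lc_b_Cert_tree lc_b_rc_11_2 lc_b_rc_7_0 lc_b_rc_9_2 lc_b_Cert_tree lc_b_rc_11_2 lc_b_Cert_tree lc_b_rc_7_0 lc_b_rc_12_2 lc_b_rc_9_2 lc_b_rc_1_1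 lc_b_rc_7_0 lc_b_rc_12_0 lc_b_rc_11_4 lc_b_rc_8_2 lc_b_rc_11_2 lc_b_rc_10_2 lc_b_rc_8_2 lc_b_rc_10_2 lc_b_Cert_tree lc_b_rc_7_0 lc_b_rc_7_0) (@D3.rec (fun _ => (Cert rels S Gen.b)) lc_b_rc_10_2 lc_b_Cert_tree lc_b_rc_10_2 lc_b_Cert_tree lc_b_rc_7_0 lc_b_rc_8_2 lc_b_rc_7_0 lc_b_rc_7_0 lc_b_rc_9_2 lc_b_Cert_tree lc_b_rc_30_9 lc_b_rc_8_2 lc_b_rc_10_2 lc_b_rc_11_2 lc_b_rc_12_2 lc_b_Cert_tree lc_b_rc_30_9 lc_b_rc_10_2 lc_b_rc_11_2 lc_b_rc_12_2 lc_b_rc_7_0 lc_b_rc_9_2 lc_b_rc_7_1 lc_b_Cert_tree lc_b_rc_8_2 lc_b_rc_10_2 lc_b_rc_11_2 lc_b_rc_12_2 lc_b_Cert_tree lc_b_rc_30_9 lc_b_rc_10_2 lc_b_rc_11_2 lc_b_rc_12_2 lc_b_Cert_tree lc_b_rc_11_2 lc_b_rc_12_2 lc_b_rc_32_36 lc_b_Cert_tree lc_b_rc_8_2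 lc_b_rc_10_2) (@D3.rec (fun _ => (Cert rels S Gen.b)) lc_b_rc_11_2 lc_b_rc_12_2 lc_b_Cert_tree lc_b_rc_11_2 lc_b_rc_12_2 lc_b_rc_32_36 lc_b_rc_8_2 lc_b_rc_10_2 lc_b_rc_11_2 lc_b_rc_7_0 lc_b_Cert_tree lc_b_rc_10_2 lc_b_rc_7_0 lc_b_Cert_tree lc_b_rc_10_2 lc_b_rc_7_0 lc_b_rc_11_2 lc_b_rc_8_4 lc_b_rc_12_2 lc_b_rc_31_12 lc_b_rc_7_0 lc_b_rc_7_0 lc_b_rc_10_0 lc_b_rc_7_0 lc_b_rc_7_1 lc_b_rc_10_0 lc_b_Cert_tree lc_b_rc_9_2 lc_b_Cert_tree lc_b_rc_31_12 lc_b_rc_10_2 lc_b_rc_8_2 lc_b_rc_7_0 lc_b_rc_8_2 lc_b_rc_10_2 lc_b_rc_1_3 lc_b_rc_10_2 lc_b_Cert_tree lc_b_rc_7_0 lc_b_rc_7_0) (@D3.rec (fun _ => (Cert rels S Gen.b)) lc_b_rc_7_0 lc_b_rc_1_7 lc_b_rc_11_2 lc_b_rc_30_9 lc_b_rc_7_0 lc_b_rc_7_0 lc_b_rc_12_2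 lc_b_Cert_tree lc_b_rc_9_2 lc_b_Cert_tree lc_b_rc_1_3 lc_b_rc_10_2 lc_b_rc_1_3 lc_b_rc_7_0 lc_b_rc_8_2 lc_b_rc_30_9 lc_b_rc_30_5 lc_b_Cert_tree lc_b_rc_7_0 lc_b_rc_8_4 lc_b_rc_7_0 lc_b_rc_7_0 lc_b_rc_7_0 lc_b_rc_7_1 lc_b_rc_7_0 lc_b_rc_30_9 lc_b_rc_7_0 lc_b_rc_7_0 lc_b_rc_31_9 lc_b_rc_7_0 lc_b_rc_30_13 lc_b_rc_30_5 lc_b_rc_7_0 lc_b_rc_7_0 lc_b_rc_12_4 lc_b_rc_30_5 lc_b_rc_9_2 lc_b_rc_1_1 lc_b_rc_10_0 lc_b_rc_10_2) (@D3.rec (fun _ => (Cert rels S Gen.b)) lc_b_rc_7_1 lc_b_rc_7_0 lc_b_rc_31_3 lc_b_rc_31_6 lc_b_Cert_tree lc_b_rc_7_0 lc_b_rc_7_0 lc_b_rc_8_4 lc_b_rc_7_0 lc_b_rc_30_9 lc_b_rc_8_2 lc_b_rc_7_0 lc_b_rc_7_0 lc_b_rc_30_9 lc_b_rc_30_5 lc_b_rc_9_2 lc_b_rc_30_5 lc_b_rc_1_1 lc_b_rc_10_2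 lc_b_rc_8_2 lc_b_rc_7_0 lc_b_rc_10_2 lc_b_rc_12_4 lc_b_Cert_tree lc_b_rc_7_0 lc_b_rc_11_4 lc_b_rc_1_5 lc_b_rc_30_13 lc_b_rc_1_5 lc_b_rc_1_7 lc_b_rc_12_4 lc_b_rc_30_13 lc_b_rc_11_2 lc_b_rc_9_2 lc_b_rc_32_62 lc_b_Cert_tree lc_b_rc_7_0 lc_b_rc_7_0 lc_b_rc_30_9 lc_b_rc_31_6) (@D3.rec (fun _ => (Cert rels S Gen.b)) lc_b_rc_12_4 lc_b_rc_31_6 lc_b_rc_7_0 lc_b_Cert_tree lc_b_rc_8_4 lc_b_rc_1_5 lc_b_rc_9_2 lc_b_rc_11_2 lc_b_rc_12_2 lc_b_rc_30_5 lc_b_rc_31_3 lc_b_rc_31_3 lc_b_rc_31_6 lc_b_rc_31_6 lc_b_rc_12_2 lc_b_rc_7_0 lc_b_rc_9_2 lc_b_rc_8_2 lc_b_rc_10_2 lc_b_rc_31_9 lc_b_rc_7_0 lc_b_rc_9_2 lc_b_rc_1_7 lc_b_rc_8_2 lc_b_rc_8_4 lc_b_rc_10_2 lc_b_rc_12_2 lc_b_rc_12_2 lc_b_rc_31_9 lc_b_rc_1_3 lc_b_rc_10_2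 lc_b_rc_31_6 lc_b_rc_9_2 lc_b_rc_10_2 lc_b_rc_31_6 lc_b_rc_10_2 lc_b_rc_9_2 lc_b_rc_1_5 lc_b_rc_1_7 lc_b_rc_8_2) (@D3.rec (fun _ => (Cert rels S Gen.b)) lc_b_rc_11_2 lc_b_rc_1_5 lc_b_rc_1_3 lc_b_rc_7_0 lc_b_rc_8_0 lc_b_rc_10_0 lc_b_rc_7_0 lc_b_rc_11_4 lc_b_rc_9_2 lc_b_rc_12_2 lc_b_rc_9_2 lc_b_rc_32_62 lc_b_Cert_tree lc_b_rc_7_0 lc_b_rc_7_0 lc_b_rc_30_9 lc_b_rc_1_7 lc_b_rc_7_0 lc_b_rc_7_0 lc_b_rc_8_4 lc_b_Cert_tree lc_b_rc_1_5 lc_b_rc_12_2 lc_b_rc_11_2 lc_b_rc_31_6 lc_b_rc_30_9 lc_b_rc_31_9 lc_b_rc_32_36 lc_b_rc_11_2 lc_b_rc_9_2 lc_b_rc_7_0 lc_b_rc_10_2 lc_b_rc_9_2 lc_b_rc_7_0 lc_b_rc_9_2 lc_b_rc_8_2 lc_b_rc_7_1 lc_b_rc_8_4 lc_b_rc_10_2 lc_b_rc_11_2) (@D3.rec (fun _ => (Cert rels S Gen.b))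 lc_b_rc_10_2 lc_b_rc_10_2 lc_b_rc_1_7 lc_b_rc_9_2 lc_b_rc_10_2 lc_b_rc_1_1 lc_b_rc_10_2 lc_b_rc_9_2 lc_b_rc_31_12 lc_b_rc_10_0 lc_b_rc_8_2 lc_b_rc_12_2 lc_b_rc_1_5 lc_b_rc_9_2 lc_b_rc_11_4 lc_b_rc_7_0 lc_b_rc_7_0 lc_b_rc_7_0 lc_b_rc_10_2 lc_b_rc_1_7 lc_b_rc_7_0 lc_b_rc_11_2 lc_b_rc_12_2 lc_b_rc_11_4 lc_b_rc_7_0 lc_b_rc_7_0 lc_b_rc_7_0 lc_b_rc_10_2 lc_b_rc_8_2 lc_b_rc_10_0 lc_b_rc_11_2 lc_b_rc_12_2 lc_b_rc_9_2 lc_b_rc_1_5 lc_b_rc_31_9 lc_b_rc_9_2 lc_b_Cert_tree lc_b_rc_7_0 lc_b_rc_1_5 lc_b_rc_1_5) (@D3.rec (fun _ => (Cert rels S Gen.b)) lc_b_rc_8_2 lc_b_rc_9_2 lc_b_rc_11_4 lc_b_rc_31_6 lc_b_rc_31_3 lc_b_rc_10_2 lc_b_rc_9_2 lc_b_rc_8_2 lc_b_rc_10_2 lc_b_rc_12_2 lc_b_rc_11_2 lc_b_rc_30_9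 lc_b_rc_30_9 lc_b_rc_7_0 lc_b_rc_10_2 lc_b_rc_31_9 lc_b_rc_9_2 lc_b_Cert_tree lc_b_rc_7_0 lc_b_rc_31_9 lc_b_rc_1_5 lc_b_rc_8_2 lc_b_rc_9_2 lc_b_rc_11_2 lc_b_rc_12_4 lc_b_rc_31_6 lc_b_rc_10_2 lc_b_rc_9_2 lc_b_rc_11_2 lc_b_rc_11_0 lc_b_rc_9_0 lc_b_rc_31_12 lc_b_rc_12_2 lc_b_rc_1_7 lc_b_rc_7_0 lc_b_rc_1_3 lc_b_rc_8_4 lc_b_rc_9_2 lc_b_rc_10_2 lc_b_rc_9_2) (@D3.rec (fun _ => (Cert rels S Gen.b)) lc_b_Cert_tree lc_b_rc_7_0 lc_b_rc_10_2 lc_b_rc_9_2 lc_b_Cert_tree lc_b_rc_7_0 lc_b_rc_10_2 lc_b_rc_9_2 lc_b_rc_9_2 lc_b_rc_1_7 lc_b_rc_7_0 lc_b_rc_7_0 lc_b_rc_7_0 lc_b_rc_11_2 lc_b_rc_7_1 lc_b_rc_9_2 lc_b_Cert_tree lc_b_rc_12_2 lc_b_rc_30_9 lc_b_rc_9_2 lc_b_Cert_tree lc_b_rc_9_2 lc_b_rc_8_2 lc_b_rc_10_2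 lc_b_Cert_tree lc_b_rc_7_0 lc_b_Cert_tree lc_b_rc_9_2 lc_b_rc_8_2 lc_b_rc_10_2 lc_b_Cert_tree lc_b_rc_7_0 lc_b_Cert_tree lc_b_rc_7_0 lc_b_rc_9_2 lc_b_rc_7_0 lc_b_rc_9_2 lc_b_rc_7_0 lc_b_rc_7_0 lc_b_Cert_tree) (@D3.rec (fun _ => (Cert rels S Gen.b)) lc_b_rc_9_2 lc_b_rc_11_4 lc_b_rc_7_0 lc_b_Cert_tree lc_b_rc_9_2 lc_b_rc_10_2 lc_b_rc_30_17 lc_b_Cert_tree lc_b_rc_7_0 lc_b_rc_1_3 lc_b_rc_10_2 lc_b_rc_7_0 lc_b_rc_7_0 lc_b_Cert_tree lc_b_rc_9_2 lc_b_Cert_tree lc_b_Cert_tree lc_b_rc_7_0 lc_b_rc_9_2 lc_b_Cert_tree lc_b_rc_31_0 lc_b_rc_10_2 lc_b_Cert_tree lc_b_rc_7_0 lc_b_Cert_tree lc_b_rc_10_2 lc_b_Cert_tree lc_b_rc_7_1 lc_b_rc_7_0 lc_b_rc_31_9 lc_b_rc_1_5 lc_b_rc_7_0 lc_b_rc_7_0 lc_b_Cert_tree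 lc_b_rc_9_2 lc_b_Cert_tree lc_b_Cert_tree lc_b_rc_7_0 lc_b_rc_9_2 lc_b_Cert_tree) (@D3.rec (fun _ => (Cert rels S Gen.b)) lc_b_rc_7_1 lc_b_rc_10_2 lc_b_Cert_tree lc_b_rc_7_0 lc_b_Cert_tree lc_b_rc_32_31 lc_b_rc_9_2 lc_b_Cert_tree lc_b_Cert_tree lc_b_rc_32_41 lc_b_rc_9_2 lc_b_Cert_tree lc_b_rc_1_3 lc_b_rc_7_0 lc_b_rc_12_2 lc_b_rc_9_2 lc_b_rc_10_2 lc_b_Cert_tree lc_b_rc_10_2 lc_b_rc_11_2 lc_b_rc_12_2 lc_b_rc_12_2 lc_b_rc_7_0 lc_b_rc_10_2 lc_b_rc_7_0 lc_b_rc_9_2 lc_b_rc_10_2 lc_b_Cert_tree lc_b_Cert_tree lc_b_rc_9_2 lc_b_Cert_tree lc_b_rc_7_0 lc_b_rc_7_0 lc_b_Cert_tree lc_b_rc_8_2 lc_b_rc_11_2 lc_b_rc_7_0 lc_b_rc_8_4 lc_b_Cert_tree lc_b_rc_8_4) (@D3.rec (fun _ => (Cert rels S Gen.b)) lc_b_rc_7_1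 lc_b_rc_12_2 lc_b_rc_7_0 lc_b_rc_9_2 lc_b_rc_9_0 lc_b_Cert_tree lc_b_rc_7_0 lc_b_rc_7_0 lc_b_rc_9_2 lc_b_Cert_tree lc_b_Cert_tree lc_b_rc_12_2 lc_b_rc_30_9 lc_b_rc_1_3 lc_b_rc_7_0 lc_b_rc_12_2 lc_b_rc_30_17 lc_b_rc_10_2 lc_b_Cert_tree lc_b_rc_7_0 lc_b_rc_9_2 lc_b_rc_9_2 lc_b_Cert_tree lc_b_Cert_tree lc_b_rc_32_41 lc_b_Cert_tree lc_b_rc_9_2 lc_b_rc_7_0 lc_b_rc_10_2 lc_b_rc_8_2 lc_b_rc_9_2 lc_b_rc_7_0 lc_b_Cert_tree lc_b_rc_10_2 lc_b_rc_11_2 lc_b_rc_12_2 lc_b_rc_11_2 lc_b_rc_7_0 lc_b_rc_10_2 lc_b_rc_32_36) (@D3.rec (fun _ => (Cert rels S Gen.b)) lc_b_rc_9_2 lc_b_rc_10_2 lc_b_Cert_tree lc_b_Cert_tree lc_b_rc_9_2 lc_b_Cert_tree lc_b_rc_7_0 lc_b_rc_7_0 lc_b_Cert_tree lc_b_rc_8_2 lc_b_rc_12_2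 lc_b_rc_7_0 lc_b_rc_8_4 lc_b_Cert_tree lc_b_rc_10_2 lc_b_rc_31_6 lc_b_rc_12_4 lc_b_rc_7_0 lc_b_rc_9_2 lc_b_rc_7_0 lc_b_Cert_tree lc_b_rc_7_0 lc_b_rc_7_0 lc_b_rc_31_12 lc_b_Cert_tree lc_b_rc_11_2 lc_b_Cert_tree lc_b_rc_9_0 lc_b_rc_1_3 lc_b_rc_7_0 lc_b_rc_30_13 lc_b_rc_9_0 lc_b_rc_10_2 lc_b_Cert_tree lc_b_rc_7_0 lc_b_rc_10_2 lc_b_rc_31_6 lc_b_rc_8_2 lc_b_rc_8_4 lc_b_rc_9_2) (@D3.rec (fun _ => (Cert rels S Gen.b)) lc_b_Cert_tree lc_b_rc_1_7 lc_b_rc_10_2 lc_b_rc_11_2 lc_b_Cert_tree lc_b_rc_9_2 lc_b_Cert_tree lc_b_rc_7_0 lc_b_rc_7_0 lc_b_rc_8_2 lc_b_Cert_tree lc_b_rc_7_0 lc_b_rc_7_0 lc_b_rc_31_9 lc_b_rc_8_2 lc_b_Cert_tree lc_b_rc_31_6 lc_b_rc_10_2 lc_b_rc_1_3 lc_b_rc_8_2 lc_b_rc_8_4 lc_b_rc_9_2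 lc_b_Cert_tree lc_b_rc_1_7 lc_b_rc_10_2 lc_b_Cert_tree lc_b_rc_12_2 lc_b_rc_9_2 lc_b_Cert_tree lc_b_rc_7_0 lc_b_rc_7_0 lc_b_rc_8_2 lc_b_Cert_tree lc_b_rc_7_0 lc_b_rc_7_0 lc_b_rc_31_6 lc_b_rc_8_2 lc_b_Cert_tree lc_b_rc_7_0 lc_b_rc_7_0) (@D3.rec (fun _ => (Cert rels S Gen.b)) lc_b_rc_11_2 lc_b_rc_1_5 lc_b_rc_10_2 lc_b_rc_1_1 lc_b_Cert_tree lc_b_rc_9_2 lc_b_Cert_tree lc_b_rc_7_0 lc_b_rc_7_0 lc_b_Cert_tree lc_b_rc_8_2 lc_b_rc_11_2 lc_b_rc_7_0 lc_b_rc_7_1 lc_b_rc_8_2 lc_b_rc_10_2 lc_b_Cert_tree lc_b_rc_7_0 lc_b_rc_1_1 lc_b_Cert_tree lc_b_rc_7_0 lc_b_rc_10_2 lc_b_Cert_tree lc_b_rc_8_2 lc_b_rc_9_0 lc_b_Cert_tree lc_b_rc_8_2 lc_b_rc_7_0 lc_b_rc_7_0 lc_b_Cert_tree lc_b_rc_9_2 lc_b_Cert_tree lc_b_rc_7_0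 lc_b_Cert_tree lc_b_rc_8_2 lc_b_rc_12_2 lc_b_rc_1_5 lc_b_rc_11_2 lc_b_rc_7_0 lc_b_rc_8_2) (@D3.rec (fun _ => (Cert rels S Gen.b)) lc_b_rc_7_0 lc_b_rc_7_0 lc_b_rc_8_4 lc_b_rc_31_6 lc_b_rc_30_9 lc_b_Cert_tree lc_b_rc_7_0 lc_b_rc_7_0 lc_b_rc_7_0 lc_b_rc_12_2 lc_b_rc_1_5 lc_b_rc_10_2 lc_b_Cert_tree lc_b_rc_9_2 lc_b_rc_9_2 lc_b_Cert_tree lc_b_rc_7_0 lc_b_rc_7_0 lc_b_Cert_tree lc_b_rc_8_2 lc_b_rc_12_2 lc_b_rc_7_0 lc_b_rc_9_0 lc_b_rc_10_2 lc_b_rc_10_2 lc_b_Cert_tree lc_b_rc_7_0 lc_b_rc_1_1 lc_b_Cert_tree lc_b_rc_7_0 lc_b_rc_10_2 lc_b_Cert_tree lc_b_rc_8_2 lc_b_rc_12_4 lc_b_Cert_tree lc_b_rc_8_2 lc_b_rc_7_0 lc_b_rc_7_0 lc_b_Cert_tree lc_b_rc_9_2) (@D3.rec (fun _ => (Cert rels S Gen.b)) lc_b_Cert_tree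 lc_b_rc_7_0 lc_b_Cert_tree lc_b_rc_8_2 lc_b_rc_11_2 lc_b_rc_31_3 lc_b_rc_12_2 lc_b_rc_11_0 lc_b_rc_8_2 lc_b_rc_11_2 lc_b_rc_7_0 lc_b_rc_10_2 lc_b_rc_1_7 lc_b_rc_9_2 lc_b_Cert_tree lc_b_rc_7_0 lc_b_rc_7_0 lc_b_Cert_tree lc_b_rc_7_0 lc_b_rc_7_0 lc_b_rc_8_4 lc_b_rc_11_0 lc_b_rc_8_2 lc_b_Cert_tree lc_b_rc_9_2 lc_b_Cert_tree lc_b_rc_7_0 lc_b_rc_12_2 lc_b_Cert_tree lc_b_rc_10_2 lc_b_Cert_tree lc_b_rc_9_2 lc_b_Cert_tree lc_b_Cert_tree lc_b_rc_7_0 lc_b_Cert_tree lc_b_Cert_tree lc_b_Cert_tree lc_b_rc_7_0 lc_b_rc_7_0)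
def ce_b_14 : D2 → D3 → (Cert rels S Gen.b) := @D2.rec (fun _ => D3 → (Cert rels S Gen.b)) (@D3.rec (fun _ => (Cert rels S Gen.b)) lc_b_rc_12_2 lc_b_rc_7_0 lc_b_rc_12_2 lc_b_rc_12_2 lc_b_rc_10_2 lc_b_rc_1_5 lc_b_rc_7_0 lc_b_rc_7_0 lc_b_Cert_tree lc_b_rc_9_2 lc_b_Cert_tree lc_b_Cert_tree lc_b_Cert_tree lc_b_rc_30_13 lc_b_rc_9_2 lc_b_rc_7_0 lc_b_rc_9_2 lc_b_rc_30_13 lc_b_Cert_tree lc_b_rc_10_2 lc_b_rc_8_2 lc_b_rc_7_0 lc_b_Cert_tree lc_b_rc_7_0 lc_b_rc_10_2 lc_b_rc_10_2 lc_b_rc_8_2 lc_b_rc_11_2 lc_b_Cert_tree lc_b_rc_7_0 lc_b_rc_7_0 lc_b_rc_8_4 lc_b_rc_9_0 lc_b_Cert_tree lc_b_rc_8_2 lc_b_Cert_tree lc_b_rc_12_2 lc_b_rc_7_0 lc_b_Cert_tree lc_b_rc_7_1) (@D3.rec (fun _ => (Cert rels S Gen.b))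 lc_b_rc_10_2 lc_b_Cert_tree lc_b_rc_9_2 lc_b_Cert_tree lc_b_rc_7_0 lc_b_Cert_tree lc_b_Cert_tree lc_b_Cert_tree lc_b_Cert_tree lc_b_rc_7_0 lc_b_rc_7_0 lc_b_rc_7_0 lc_b_rc_11_2 lc_b_rc_11_2 lc_b_rc_1_7 lc_b_rc_9_2 lc_b_rc_10_2 lc_b_rc_7_0 lc_b_rc_7_0 lc_b_Cert_tree lc_b_rc_9_2 lc_b_Cert_tree lc_b_Cert_tree lc_b_Cert_tree lc_b_rc_9_2 lc_b_rc_9_2 lc_b_rc_7_0 lc_b_rc_10_2 lc_b_rc_10_2 lc_b_rc_11_2 lc_b_rc_7_0 lc_b_Cert_tree lc_b_rc_7_0 lc_b_rc_10_2 lc_b_rc_1_7 lc_b_rc_8_2 lc_b_rc_12_2 lc_b_rc_9_2 lc_b_rc_7_0 lc_b_rc_9_2) (@D3.rec (fun _ => (Cert rels S Gen.b)) lc_b_rc_9_2 lc_b_Cert_tree lc_b_rc_7_1 lc_b_rc_7_0 lc_b_rc_7_0 lc_b_rc_7_1 lc_b_rc_7_1 lc_b_rc_10_2 lc_b_rc_9_2 lc_b_Cert_tree lc_b_rc_9_2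 lc_b_rc_10_2 lc_b_Cert_tree lc_b_rc_7_0 lc_b_Cert_tree lc_b_rc_7_0 lc_b_Cert_tree lc_b_rc_11_4 lc_b_Cert_tree lc_b_rc_7_0 lc_b_rc_7_0 lc_b_rc_1_7 lc_b_rc_11_2 lc_b_rc_10_2 lc_b_rc_8_2 lc_b_rc_12_2 lc_b_rc_11_4 lc_b_rc_7_0 lc_b_rc_9_2 lc_b_Cert_tree lc_b_rc_9_2 lc_b_rc_31_12 lc_b_rc_7_0 lc_b_rc_7_0 lc_b_rc_12_2 lc_b_rc_12_2 lc_b_rc_10_2 lc_b_Cert_tree lc_b_rc_30_1 lc_b_rc_9_2) (@D3.rec (fun _ => (Cert rels S Gen.b)) lc_b_Cert_tree lc_b_rc_32_36 lc_b_rc_7_0 lc_b_Cert_tree lc_b_rc_7_0 lc_b_Cert_tree lc_b_Cert_tree lc_b_rc_30_9 lc_b_rc_7_0 lc_b_rc_7_0 lc_b_rc_8_2 lc_b_rc_8_2 lc_b_rc_10_2 lc_b_rc_1_7 lc_b_rc_12_2 lc_b_rc_11_2 lc_b_rc_8_2 lc_b_rc_12_2 lc_b_rc_8_2 lc_b_rc_11_2 lc_b_rc_12_2 lc_b_rc_9_2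 lc_b_rc_7_0 lc_b_Cert_tree lc_b_rc_7_0 lc_b_rc_10_2 lc_b_rc_9_2 lc_b_rc_9_2 lc_b_rc_12_2 lc_b_rc_10_2 lc_b_rc_7_0 lc_b_rc_8_4 lc_b_rc_11_2 lc_b_rc_7_0 lc_b_rc_7_0 lc_b_rc_7_0 lc_b_rc_7_0 lc_b_rc_12_2 lc_b_rc_7_0 lc_b_rc_11_2) (@D3.rec (fun _ => (Cert rels S Gen.b)) lc_b_rc_31_3 lc_b_rc_7_0 lc_b_Cert_tree lc_b_rc_7_0 lc_b_rc_7_1 lc_b_rc_9_2 lc_b_rc_31_3 lc_b_rc_11_2 lc_b_rc_10_2 lc_b_rc_7_0 lc_b_rc_11_4 lc_b_rc_12_2 lc_b_rc_7_0 lc_b_rc_7_0 lc_b_rc_1_5 lc_b_rc_7_0 lc_b_rc_8_2 lc_b_rc_7_0 lc_b_rc_12_2 lc_b_rc_12_4 lc_b_rc_11_0 lc_b_rc_10_2 lc_b_rc_10_2 lc_b_Cert_tree lc_b_rc_9_2 lc_b_rc_8_2 lc_b_rc_7_0 lc_b_rc_12_4 lc_b_rc_7_0 lc_b_rc_7_1 lc_b_rc_12_2 lc_b_rc_7_0 lc_b_rc_9_2 lc_b_rc_30_13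 lc_b_rc_8_2 lc_b_rc_8_2 lc_b_rc_31_3 lc_b_rc_7_0 lc_b_rc_12_2 lc_b_rc_7_0) (@D3.rec (fun _ => (Cert rels S Gen.b)) lc_b_rc_11_4 lc_b_rc_1_7 lc_b_rc_10_2 lc_b_rc_10_2 lc_b_Cert_tree lc_b_rc_9_2 lc_b_rc_8_2 lc_b_rc_7_0 lc_b_rc_8_4 lc_b_rc_7_0 lc_b_rc_30_13 lc_b_rc_11_2 lc_b_rc_7_0 lc_b_rc_9_2 lc_b_rc_10_0 lc_b_rc_30_9 lc_b_rc_8_2 lc_b_rc_8_2 lc_b_rc_7_0 lc_b_rc_10_0 lc_b_rc_7_0 lc_b_rc_12_2 lc_b_rc_7_0 lc_b_rc_7_0 lc_b_rc_7_0 lc_b_rc_7_0 lc_b_rc_30_17 lc_b_rc_10_2 lc_b_rc_7_0 lc_b_rc_8_2 lc_b_rc_9_2 lc_b_rc_8_2 lc_b_rc_31_6 lc_b_rc_7_0 lc_b_rc_8_2 lc_b_rc_1_5 lc_b_rc_7_1 lc_b_rc_8_2 lc_b_rc_8_2 lc_b_rc_1_3) (@D3.rec (fun _ => (Cert rels S Gen.b)) lc_b_rc_9_2 lc_b_rc_8_4 lc_b_rc_11_2 lc_b_rc_9_2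 lc_b_rc_7_0 lc_b_rc_30_9 lc_b_rc_11_2 lc_b_rc_7_0 lc_b_Cert_tree lc_b_rc_7_0 lc_b_rc_30_13 lc_b_rc_9_2 lc_b_rc_1_5 lc_b_rc_9_2 lc_b_rc_9_0 lc_b_rc_11_2 lc_b_rc_7_0 lc_b_rc_7_0 lc_b_rc_31_3 lc_b_rc_10_2 lc_b_rc_11_2 lc_b_rc_7_0 lc_b_rc_7_0 lc_b_rc_30_9 lc_b_rc_8_2 lc_b_rc_7_0 lc_b_rc_10_0 lc_b_rc_1_5 lc_b_rc_8_2 lc_b_rc_31_3 lc_b_rc_9_2 lc_b_rc_1_3 lc_b_rc_31_3 lc_b_rc_1_7 lc_b_rc_9_2 lc_b_rc_9_2 lc_b_rc_31_9 lc_b_rc_8_2 lc_b_rc_31_6 lc_b_Cert_tree) (@D3.rec (fun _ => (Cert rels S Gen.b)) lc_b_rc_1_5 lc_b_rc_9_2 lc_b_rc_11_2 lc_b_rc_7_0 lc_b_rc_30_5 lc_b_rc_12_2 lc_b_rc_11_2 lc_b_rc_7_0 lc_b_rc_7_0 lc_b_rc_8_2 lc_b_Cert_tree lc_b_rc_9_2 lc_b_rc_7_0 lc_b_rc_9_2 lc_b_rc_7_0 lc_b_rc_12_2 lc_b_rc_8_0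 lc_b_rc_7_0 lc_b_rc_9_2 lc_b_rc_8_2 lc_b_rc_1_5 lc_b_rc_11_2 lc_b_rc_10_2 lc_b_rc_1_5 lc_b_rc_7_0 lc_b_rc_9_2 lc_b_rc_7_0 lc_b_rc_7_0 lc_b_rc_10_2 lc_b_rc_9_2 lc_b_rc_11_2 lc_b_rc_8_2 lc_b_rc_8_2 lc_b_rc_10_2 lc_b_rc_12_2 lc_b_rc_10_2 lc_b_rc_11_2 lc_b_rc_31_3 lc_b_rc_9_2 lc_b_rc_11_2) (@D3.rec (fun _ => (Cert rels S Gen.b)) lc_b_rc_7_0 lc_b_rc_8_2 lc_b_Cert_tree lc_b_rc_9_2 lc_b_rc_7_0 lc_b_rc_9_2 lc_b_rc_30_9 lc_b_rc_11_2 lc_b_rc_8_0 lc_b_rc_7_0 lc_b_rc_8_2 lc_b_rc_10_0 lc_b_rc_30_13 lc_b_rc_10_2 lc_b_rc_30_13 lc_b_rc_10_2 lc_b_rc_7_0 lc_b_rc_10_2 lc_b_rc_9_2 lc_b_rc_10_2 lc_b_rc_8_2 lc_b_rc_7_1 lc_b_rc_7_0 lc_b_rc_7_0 lc_b_rc_7_0 lc_b_rc_9_2 lc_b_rc_31_9 lc_b_rc_7_0 lc_b_rc_1_5 lc_b_rc_1_5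 lc_b_rc_7_0 lc_b_rc_11_2 lc_b_rc_8_2 lc_b_rc_11_2 lc_b_rc_1_5 lc_b_rc_1_3 lc_b_rc_31_6 lc_b_Cert_tree lc_b_rc_7_0 lc_b_rc_7_0) (@D3.rec (fun _ => (Cert rels S Gen.b)) lc_b_rc_7_0 lc_b_rc_7_0 lc_b_rc_31_9 lc_b_rc_12_4 lc_b_rc_10_2 lc_b_rc_1_5 lc_b_rc_7_0 lc_b_Cert_tree lc_b_rc_10_2 lc_b_rc_7_0 lc_b_rc_31_9 lc_b_rc_9_2 lc_b_rc_32_41 lc_b_Cert_tree lc_b_rc_10_2 lc_b_rc_8_2 lc_b_rc_7_0 lc_b_rc_7_0 lc_b_rc_9_0 lc_b_rc_7_0 lc_b_rc_8_2 lc_b_rc_9_2 lc_b_rc_11_2 lc_b_rc_9_2 lc_b_rc_8_2 lc_b_rc_12_2 lc_b_Cert_tree lc_b_rc_7_0 lc_b_rc_7_0 lc_b_rc_1_3 lc_b_rc_7_0 lc_b_rc_7_0 lc_b_rc_7_0 lc_b_rc_31_9 lc_b_rc_31_6 lc_b_rc_7_0 lc_b_rc_8_2 lc_b_rc_7_0 lc_b_rc_12_2 lc_b_rc_31_9) (@D3.rec (fun _ => (Cert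 rels S Gen.b)) lc_b_rc_31_6 lc_b_rc_1_5 lc_b_rc_8_4 lc_b_rc_1_3 lc_b_rc_1_5 lc_b_Cert_tree lc_b_rc_7_0 lc_b_rc_7_0 lc_b_rc_7_0 lc_b_rc_7_0 lc_b_rc_1_5 lc_b_rc_11_4 lc_b_rc_10_2 lc_b_rc_1_5 lc_b_rc_7_0 lc_b_rc_11_2 lc_b_rc_10_2 lc_b_rc_7_0 lc_b_rc_8_2 lc_b_rc_9_2 lc_b_Cert_tree lc_b_rc_30_9 lc_b_rc_10_2 lc_b_rc_8_2 lc_b_rc_7_0 lc_b_rc_7_0 lc_b_rc_10_2 lc_b_rc_7_0 lc_b_rc_8_2 lc_b_rc_9_2 lc_b_rc_12_2 lc_b_rc_9_2 lc_b_rc_8_2 lc_b_rc_11_2 lc_b_Cert_tree lc_b_rc_7_0 lc_b_rc_7_0 lc_b_rc_7_0 lc_b_rc_7_1 lc_b_rc_7_0) (@D3.rec (fun _ => (Cert rels S Gen.b)) lc_b_rc_11_2 lc_b_rc_8_2 lc_b_rc_9_2 lc_b_rc_7_0 lc_b_rc_8_2 lc_b_rc_7_0 lc_b_rc_8_2 lc_b_rc_8_2 lc_b_rc_8_2 lc_b_rc_9_2 lc_b_rc_30_17 lc_b_rc_7_0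 lc_b_rc_31_9 lc_b_rc_7_0 lc_b_rc_8_2 lc_b_rc_9_2 lc_b_rc_7_0 lc_b_rc_8_2 lc_b_rc_8_2 lc_b_rc_8_2 lc_b_rc_11_2 lc_b_rc_9_2 lc_b_rc_1_5 lc_b_rc_9_2 lc_b_rc_7_0 lc_b_Cert_tree lc_b_rc_7_0 lc_b_rc_9_2 lc_b_rc_10_2 lc_b_Cert_tree lc_b_rc_7_0 lc_b_rc_9_2 lc_b_rc_9_2 lc_b_rc_11_2 lc_b_rc_7_0 lc_b_rc_9_2 lc_b_Cert_tree lc_b_rc_10_2 lc_b_Cert_tree lc_b_rc_7_0) (@D3.rec (fun _ => (Cert rels S Gen.b)) lc_b_rc_8_2 lc_b_Cert_tree lc_b_rc_9_2 lc_b_rc_11_4 lc_b_rc_31_6 lc_b_rc_12_2 lc_b_rc_7_0 lc_b_rc_9_2 lc_b_Cert_tree lc_b_rc_10_2 lc_b_Cert_tree lc_b_rc_7_0 lc_b_rc_8_2 lc_b_Cert_tree lc_b_rc_9_2 lc_b_rc_12_4 lc_b_rc_31_9 lc_b_rc_9_2 lc_b_rc_31_6 lc_b_Cert_tree lc_b_rc_31_9 lc_b_rc_31_9 lc_b_rc_31_3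 lc_b_rc_7_1 lc_b_Cert_tree lc_b_rc_7_1 lc_b_rc_11_2 lc_b_rc_8_2 lc_b_rc_7_0 lc_b_rc_7_0 lc_b_rc_11_2 lc_b_rc_7_0 lc_b_rc_8_2 lc_b_rc_12_2 lc_b_rc_31_6 lc_b_rc_8_2 lc_b_rc_9_2 lc_b_rc_9_2 lc_b_rc_1_3 lc_b_Cert_tree) (@D3.rec (fun _ => (Cert rels S Gen.b)) lc_b_rc_10_2 lc_b_Cert_tree lc_b_rc_7_0 lc_b_rc_1_3 lc_b_Cert_tree lc_b_rc_10_2 lc_b_Cert_tree lc_b_rc_7_0 lc_b_rc_10_2 lc_b_Cert_tree lc_b_rc_7_0 lc_b_Cert_tree lc_b_Cert_tree lc_b_rc_7_0 lc_b_rc_8_4 lc_b_Cert_tree lc_b_rc_11_4 lc_b_rc_7_0 lc_b_rc_10_2 lc_b_Cert_tree lc_b_rc_7_0 lc_b_Cert_tree lc_b_Cert_tree lc_b_rc_7_0 lc_b_rc_9_2 lc_b_Cert_tree lc_b_rc_10_2 lc_b_rc_7_0 lc_b_Cert_tree lc_b_rc_7_0 lc_b_rc_8_2 lc_b_rc_9_2 lc_b_Cert_tree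 lc_b_rc_7_0 lc_b_rc_7_1 lc_b_rc_7_0 lc_b_rc_9_2 lc_b_rc_8_2 lc_b_rc_9_2 lc_b_rc_7_0) (@D3.rec (fun _ => (Cert rels S Gen.b)) lc_b_Cert_tree lc_b_rc_7_0 lc_b_rc_8_2 lc_b_rc_9_2 lc_b_Cert_tree lc_b_rc_7_0 lc_b_rc_31_3 lc_b_rc_7_0 lc_b_rc_9_2 lc_b_rc_8_2 lc_b_rc_31_9 lc_b_rc_7_0 lc_b_rc_7_0 lc_b_rc_7_0 lc_b_rc_1_3 lc_b_rc_1_5 lc_b_Cert_tree lc_b_rc_7_0 lc_b_rc_9_2 lc_b_Cert_tree lc_b_rc_10_2 lc_b_rc_1_3 lc_b_rc_1_5 lc_b_Cert_tree lc_b_rc_7_0 lc_b_rc_9_2 lc_b_Cert_tree lc_b_rc_10_2 lc_b_Cert_tree lc_b_rc_7_0 lc_b_Cert_tree lc_b_rc_7_0 lc_b_rc_7_0 lc_b_Cert_tree lc_b_rc_9_2 lc_b_rc_30_13 lc_b_rc_12_2 lc_b_rc_7_0 lc_b_rc_9_2 lc_b_Cert_tree) (@D3.rec (fun _ => (Cert rels S Gen.b)) lc_b_rc_7_1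 lc_b_Cert_tree lc_b_rc_7_0 lc_b_rc_7_0 lc_b_Cert_tree lc_b_rc_11_2 lc_b_rc_9_2 lc_b_Cert_tree lc_b_rc_12_2 lc_b_rc_10_2 lc_b_Cert_tree lc_b_rc_7_0 lc_b_rc_7_0 lc_b_rc_10_2 lc_b_Cert_tree lc_b_Cert_tree lc_b_rc_7_0 lc_b_Cert_tree lc_b_Cert_tree lc_b_Cert_tree lc_b_rc_7_0 lc_b_rc_8_2 lc_b_rc_7_0 lc_b_Cert_tree lc_b_Cert_tree lc_b_rc_7_0 lc_b_rc_7_0 lc_b_Cert_tree lc_b_rc_9_2 lc_b_rc_9_2 lc_b_rc_11_2 lc_b_rc_7_0 lc_b_rc_9_2 lc_b_Cert_tree lc_b_rc_9_2 lc_b_Cert_tree lc_b_rc_7_0 lc_b_rc_7_0 lc_b_Cert_tree lc_b_rc_9_2) (@D3.rec (fun _ => (Cert rels S Gen.b)) lc_b_rc_9_2 lc_b_rc_11_2 lc_b_Cert_tree lc_b_rc_10_2 lc_b_Cert_tree lc_b_rc_7_0 lc_b_rc_7_0 lc_b_rc_10_2 lc_b_Cert_tree lc_b_Cert_tree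 lc_b_rc_7_0 lc_b_Cert_tree lc_b_Cert_tree lc_b_Cert_tree lc_b_rc_7_0 lc_b_rc_8_2 lc_b_rc_7_0 lc_b_rc_7_0 lc_b_rc_8_2 lc_b_rc_8_2 lc_b_rc_11_2 lc_b_rc_9_2 lc_b_Cert_tree lc_b_rc_31_3 lc_b_rc_10_2 lc_b_Cert_tree lc_b_rc_7_0 lc_b_rc_31_12 lc_b_rc_9_2 lc_b_rc_7_1 lc_b_rc_12_2 lc_b_Cert_tree lc_b_rc_10_2 lc_b_rc_7_0 lc_b_rc_9_2 lc_b_rc_9_0 lc_b_Cert_tree lc_b_Cert_tree lc_b_rc_7_0 lc_b_rc_7_1) (@D3.rec (fun _ => (Cert rels S Gen.b)) lc_b_rc_7_0 lc_b_rc_11_0 lc_b_rc_1_5 lc_b_Cert_tree lc_b_rc_10_2 lc_b_Cert_tree lc_b_rc_12_2 lc_b_rc_7_0 lc_b_rc_7_0 lc_b_rc_7_1 lc_b_Cert_tree lc_b_Cert_tree lc_b_rc_7_0 lc_b_rc_31_9 lc_b_rc_31_6 lc_b_rc_10_2 lc_b_Cert_tree lc_b_rc_1_3 lc_b_Cert_tree lc_b_rc_7_0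 lc_b_Cert_tree lc_b_rc_7_0 lc_b_Cert_tree lc_b_rc_8_2 lc_b_rc_7_1 lc_b_rc_7_0 lc_b_rc_7_0 lc_b_Cert_tree lc_b_rc_8_2 lc_b_rc_7_0 lc_b_rc_7_0 lc_b_rc_8_2 lc_b_rc_8_2 lc_b_rc_12_2 lc_b_rc_9_2 lc_b_Cert_tree lc_b_rc_9_0 lc_b_rc_10_2 lc_b_Cert_tree lc_b_rc_7_0) (@D3.rec (fun _ => (Cert rels S Gen.b)) lc_b_rc_31_3 lc_b_rc_9_2 lc_b_rc_11_2 lc_b_rc_12_2 lc_b_Cert_tree lc_b_rc_10_2 lc_b_rc_7_0 lc_b_rc_9_2 lc_b_rc_30_17 lc_b_Cert_tree lc_b_Cert_tree lc_b_rc_7_0 lc_b_rc_12_2 lc_b_rc_7_0 lc_b_rc_8_2 lc_b_rc_10_2 lc_b_Cert_tree lc_b_rc_10_2 lc_b_rc_11_2 lc_b_Cert_tree lc_b_rc_7_0 lc_b_rc_7_0 lc_b_rc_8_4 lc_b_Cert_tree lc_b_Cert_tree lc_b_rc_7_0 lc_b_rc_31_3 lc_b_rc_11_2 lc_b_rc_10_2 lc_b_Cert_tree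 lc_b_rc_30_13 lc_b_Cert_tree lc_b_rc_7_0 lc_b_Cert_tree lc_b_rc_7_0 lc_b_Cert_tree lc_b_rc_8_2 lc_b_rc_10_0 lc_b_rc_7_0 lc_b_rc_7_0) (@D3.rec (fun _ => (Cert rels S Gen.b)) lc_b_Cert_tree lc_b_rc_8_2 lc_b_rc_8_2 lc_b_Cert_tree lc_b_rc_9_2 lc_b_Cert_tree lc_b_rc_8_2 lc_b_rc_7_0 lc_b_rc_12_2 lc_b_rc_1_3 lc_b_rc_8_2 lc_b_Cert_tree lc_b_rc_31_6 lc_b_rc_9_2 lc_b_Cert_tree lc_b_rc_9_2 lc_b_rc_8_2 lc_b_Cert_tree lc_b_rc_10_2 lc_b_Cert_tree lc_b_rc_7_0 lc_b_rc_9_2 lc_b_rc_31_9 lc_b_rc_7_0 lc_b_rc_1_5 lc_b_rc_7_0 lc_b_rc_9_2 lc_b_rc_8_2 lc_b_rc_1_5 lc_b_rc_8_2 lc_b_rc_7_0 lc_b_rc_9_2 lc_b_rc_11_4 lc_b_rc_8_2 lc_b_Cert_tree lc_b_rc_10_2 lc_b_Cert_tree lc_b_rc_7_0 lc_b_rc_8_2 lc_b_rc_11_4) (@D3.rec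 (fun _ => (Cert rels S Gen.b)) lc_b_rc_31_6 lc_b_rc_9_2 lc_b_rc_12_4 lc_b_rc_8_4 lc_b_rc_7_0 lc_b_rc_9_2 lc_b_Cert_tree lc_b_rc_8_2 lc_b_rc_31_6 lc_b_rc_9_2 lc_b_rc_8_0 lc_b_rc_12_2 lc_b_rc_10_2 lc_b_rc_7_0 lc_b_rc_10_2 lc_b_Cert_tree lc_b_Cert_tree lc_b_rc_7_0 lc_b_Cert_tree lc_b_rc_8_2 lc_b_Cert_tree lc_b_rc_9_2 lc_b_Cert_tree lc_b_rc_7_0 lc_b_rc_9_2 lc_b_Cert_tree lc_b_rc_30_1 lc_b_rc_10_2 lc_b_rc_7_1 lc_b_rc_7_0 lc_b_rc_30_17 lc_b_rc_8_2 lc_b_rc_7_0 lc_b_rc_9_2 lc_b_rc_30_5 lc_b_rc_31_12 lc_b_rc_8_2 lc_b_rc_10_2 lc_b_Cert_tree lc_b_rc_12_2) (@D3.rec (fun _ => (Cert rels S Gen.b)) lc_b_rc_7_0 lc_b_Cert_tree lc_b_Cert_tree lc_b_Cert_tree lc_b_rc_7_0 lc_b_rc_1_3 lc_b_rc_8_2 lc_b_rc_8_0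 lc_b_rc_9_2 lc_b_Cert_tree lc_b_rc_10_2 lc_b_Cert_tree lc_b_rc_12_2 lc_b_rc_9_2 lc_b_Cert_tree lc_b_rc_7_0 lc_b_Cert_tree lc_b_rc_7_0 lc_b_Cert_tree lc_b_rc_8_2 lc_b_rc_7_1 lc_b_rc_7_0 lc_b_rc_7_0 lc_b_Cert_tree lc_b_rc_8_2 lc_b_rc_11_4 lc_b_rc_9_2 lc_b_Cert_tree lc_b_Cert_tree lc_b_rc_9_2 lc_b_Cert_tree lc_b_rc_8_2 lc_b_rc_11_2 lc_b_rc_7_0 lc_b_rc_31_6 lc_b_rc_8_2 lc_b_Cert_tree lc_b_rc_31_6 lc_b_rc_9_2 lc_b_Cert_tree) (@D3.rec (fun _ => (Cert rels S Gen.b)) lc_b_rc_9_2 lc_b_Cert_tree lc_b_rc_10_2 lc_b_Cert_tree lc_b_rc_7_0 lc_b_rc_1_3 lc_b_rc_10_2 lc_b_rc_7_0 lc_b_rc_12_4 lc_b_rc_7_0 lc_b_rc_10_2 lc_b_rc_8_2 lc_b_rc_1_5 lc_b_rc_8_2 lc_b_rc_7_0 lc_b_rc_9_2 lc_b_rc_8_4 lc_b_rc_8_2 lc_b_Cert_tree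 lc_b_rc_10_2 lc_b_Cert_tree lc_b_rc_7_0 lc_b_rc_8_2 lc_b_rc_1_7 lc_b_rc_1_3 lc_b_rc_9_2 lc_b_rc_11_4 lc_b_rc_8_4 lc_b_rc_7_0 lc_b_rc_9_2 lc_b_rc_10_2 lc_b_Cert_tree lc_b_rc_1_3 lc_b_rc_9_2 lc_b_rc_11_2 lc_b_rc_8_0 lc_b_rc_10_2 lc_b_rc_7_0 lc_b_rc_30_17 lc_b_Cert_tree) (@D3.rec (fun _ => (Cert rels S Gen.b)) lc_b_Cert_tree lc_b_rc_7_0 lc_b_Cert_tree lc_b_rc_8_2 lc_b_Cert_tree lc_b_rc_9_2 lc_b_Cert_tree lc_b_rc_7_0 lc_b_rc_9_2 lc_b_Cert_tree lc_b_rc_11_0 lc_b_rc_10_2 lc_b_rc_8_2 lc_b_rc_7_0 lc_b_rc_12_4 lc_b_rc_8_2 lc_b_rc_7_0 lc_b_rc_9_2 lc_b_rc_30_5 lc_b_rc_31_12 lc_b_rc_8_2 lc_b_rc_10_2 lc_b_rc_11_2 lc_b_Cert_tree lc_b_Cert_tree lc_b_rc_7_0 lc_b_Cert_tree lc_b_Cert_tree lc_b_rc_7_0 lc_b_rc_31_3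 lc_b_rc_8_2 lc_b_rc_8_0 lc_b_rc_9_2 lc_b_Cert_tree lc_b_rc_10_2 lc_b_rc_11_2 lc_b_rc_9_2 lc_b_Cert_tree lc_b_rc_7_0 lc_b_Cert_tree) (@D3.rec (fun _ => (Cert rels S Gen.b)) lc_b_rc_7_0 lc_b_Cert_tree lc_b_rc_8_2 lc_b_rc_8_2 lc_b_rc_7_0 lc_b_rc_7_0 lc_b_Cert_tree lc_b_rc_8_2 lc_b_rc_12_4 lc_b_rc_9_2 lc_b_Cert_tree lc_b_rc_9_2 lc_b_rc_7_0 lc_b_rc_9_2 lc_b_rc_10_2 lc_b_rc_8_2 lc_b_rc_11_4 lc_b_rc_7_0 lc_b_rc_7_0 lc_b_rc_12_2 lc_b_rc_8_2 lc_b_rc_9_2 lc_b_rc_7_0 lc_b_rc_1_7 lc_b_rc_8_2 lc_b_rc_11_2 lc_b_rc_7_0 lc_b_rc_1_3 lc_b_rc_30_13 lc_b_rc_9_2 lc_b_Cert_tree lc_b_rc_1_3 lc_b_rc_8_2 lc_b_rc_7_0 lc_b_rc_9_2 lc_b_rc_9_2 lc_b_Cert_tree lc_b_rc_10_2 lc_b_Cert_tree lc_b_rc_7_0) (@D3.rec (fun _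 => (Cert rels S Gen.b)) lc_b_rc_9_2 lc_b_rc_11_4 lc_b_rc_31_3 lc_b_rc_1_5 lc_b_rc_7_0 lc_b_rc_7_0 lc_b_Cert_tree lc_b_rc_8_2 lc_b_rc_8_2 lc_b_rc_7_0 lc_b_rc_30_13 lc_b_rc_9_2 lc_b_rc_9_2 lc_b_rc_11_2 lc_b_rc_7_0 lc_b_rc_30_13 lc_b_rc_31_3 lc_b_rc_31_9 lc_b_rc_30_17 lc_b_rc_1_3 lc_b_Cert_tree lc_b_rc_7_0 lc_b_rc_9_2 lc_b_Cert_tree lc_b_Cert_tree lc_b_rc_10_2 lc_b_rc_9_2 lc_b_rc_9_2 lc_b_rc_9_2 lc_b_Cert_tree lc_b_rc_9_2 lc_b_Cert_tree lc_b_rc_7_0 lc_b_rc_7_0 lc_b_rc_9_2 lc_b_rc_10_2 lc_b_Cert_tree lc_b_rc_9_2 lc_b_rc_7_0 lc_b_rc_8_0)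
def ce_b_15 : D2 → D3 → (Cert rels S Gen.b) := @D2.rec (fun _ => D3 → (Cert rels S Gen.b)) (@D3.rec (fun _ => (Cert rels S Gen.b)) lc_b_rc_8_4 lc_b_rc_9_2 lc_b_rc_9_2 lc_b_rc_30_9 lc_b_Cert_tree lc_b_rc_9_0 lc_b_rc_11_4 lc_b_rc_7_0 lc_b_rc_31_3 lc_b_rc_7_0 lc_b_rc_8_2 lc_b_rc_8_2 lc_b_rc_7_0 lc_b_rc_7_0 lc_b_rc_8_2 lc_b_rc_9_0 lc_b_rc_7_1 lc_b_rc_30_13 lc_b_rc_11_2 lc_b_rc_12_2 lc_b_rc_9_2 lc_b_rc_8_2 lc_b_rc_7_0 lc_b_rc_9_2 lc_b_rc_11_2 lc_b_rc_1_3 lc_b_Cert_tree lc_b_rc_10_2 lc_b_rc_31_6 lc_b_rc_12_4 lc_b_rc_1_5 lc_b_rc_9_2 lc_b_rc_10_2 lc_b_rc_31_9 lc_b_rc_9_2 lc_b_rc_7_0 lc_b_rc_30_9 lc_b_rc_7_0 lc_b_rc_9_2 lc_b_rc_12_2) (@D3.rec (fun _ => (Cert rels S Gen.b)) lc_b_rc_9_2 lc_b_rc_11_4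 lc_b_Cert_tree lc_b_Cert_tree lc_b_rc_10_2 lc_b_rc_9_2 lc_b_Cert_tree lc_b_rc_7_0 lc_b_rc_9_2 lc_b_rc_31_6 lc_b_rc_8_4 lc_b_rc_10_2 lc_b_rc_11_2 lc_b_rc_12_2 lc_b_rc_31_6 lc_b_rc_7_0 lc_b_rc_1_1 lc_b_rc_12_2 lc_b_rc_9_2 lc_b_rc_10_2 lc_b_Cert_tree lc_b_rc_12_2 lc_b_rc_10_2 lc_b_rc_9_2 lc_b_Cert_tree lc_b_rc_7_0 lc_b_rc_7_0 lc_b_Cert_tree lc_b_rc_8_2 lc_b_rc_12_2 lc_b_rc_7_0 lc_b_rc_10_2 lc_b_rc_10_2 lc_b_rc_9_2 lc_b_rc_8_4 lc_b_rc_31_6 lc_b_rc_11_2 lc_b_rc_9_2 lc_b_rc_7_0 lc_b_rc_30_5) (@D3.rec (fun _ => (Cert rels S Gen.b)) lc_b_rc_10_2 lc_b_Cert_tree lc_b_rc_7_0 lc_b_rc_9_2 lc_b_Cert_tree lc_b_rc_9_2 lc_b_rc_7_0 lc_b_Cert_tree lc_b_Cert_tree lc_b_rc_7_0 lc_b_rc_9_2 lc_b_Cert_tree lc_b_rc_12_4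 lc_b_Cert_tree lc_b_Cert_tree lc_b_rc_7_0 lc_b_rc_7_0 lc_b_rc_11_0 lc_b_rc_10_2 lc_b_rc_10_2 lc_b_Cert_tree lc_b_Cert_tree lc_b_rc_7_0 lc_b_rc_8_2 lc_b_rc_7_0 lc_b_Cert_tree lc_b_rc_7_0 lc_b_rc_7_0 lc_b_rc_1_7 lc_b_rc_8_2 lc_b_rc_8_2 lc_b_rc_9_2 lc_b_rc_9_2 lc_b_rc_11_2 lc_b_rc_10_2 lc_b_rc_12_2 lc_b_Cert_tree lc_b_rc_7_0 lc_b_rc_7_0 lc_b_rc_10_2) (@D3.rec (fun _ => (Cert rels S Gen.b)) lc_b_Cert_tree lc_b_Cert_tree lc_b_rc_30_13 lc_b_rc_12_2 lc_b_rc_7_0 lc_b_rc_31_12 lc_b_rc_9_2 lc_b_rc_31_9 lc_b_Cert_tree lc_b_rc_10_2 lc_b_Cert_tree lc_b_rc_12_2 lc_b_rc_9_2 lc_b_rc_1_1 lc_b_rc_7_0 lc_b_rc_1_3 lc_b_rc_12_2 lc_b_rc_9_2 lc_b_rc_11_4 lc_b_Cert_tree lc_b_rc_31_9 lc_b_rc_7_0 lc_b_rc_9_2 lc_b_rc_10_2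 lc_b_Cert_tree lc_b_rc_11_4 lc_b_rc_8_2 lc_b_rc_10_2 lc_b_rc_9_2 lc_b_rc_12_2 lc_b_rc_9_2 lc_b_Cert_tree lc_b_rc_12_2 lc_b_rc_7_0 lc_b_rc_10_0 lc_b_Cert_tree lc_b_rc_9_2 lc_b_Cert_tree lc_b_rc_7_0 lc_b_Cert_tree) (@D3.rec (fun _ => (Cert rels S Gen.b)) lc_b_Cert_tree lc_b_rc_7_0 lc_b_rc_11_2 lc_b_rc_8_4 lc_b_rc_7_0 lc_b_rc_7_0 lc_b_rc_7_1 lc_b_rc_8_2 lc_b_rc_11_2 lc_b_rc_8_2 lc_b_rc_7_1 lc_b_rc_7_1 lc_b_rc_10_2 lc_b_rc_7_0 lc_b_rc_7_0 lc_b_rc_11_0 lc_b_rc_7_0 lc_b_rc_12_4 lc_b_rc_11_4 lc_b_rc_7_0 lc_b_rc_1_7 lc_b_rc_8_2 lc_b_rc_9_2 lc_b_rc_7_0 lc_b_rc_7_0 lc_b_rc_7_0 lc_b_rc_1_3 lc_b_rc_12_4 lc_b_rc_9_2 lc_b_Cert_tree lc_b_rc_1_3 lc_b_rc_11_2 lc_b_rc_1_7 lc_b_rc_8_2 lc_b_rc_7_0 lc_b_rc_9_2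 lc_b_rc_30_9 lc_b_rc_10_2 lc_b_Cert_tree lc_b_rc_7_0) (@D3.rec (fun _ => (Cert rels S Gen.b)) lc_b_rc_9_2 lc_b_rc_1_7 lc_b_rc_1_3 lc_b_rc_12_2 lc_b_rc_7_0 lc_b_Cert_tree lc_b_rc_8_2 lc_b_rc_7_0 lc_b_rc_7_0 lc_b_rc_30_9 lc_b_rc_9_2 lc_b_rc_8_2 lc_b_rc_9_2 lc_b_rc_12_2 lc_b_rc_7_0 lc_b_rc_1_3 lc_b_rc_1_1 lc_b_rc_7_1 lc_b_rc_11_2 lc_b_rc_9_2 lc_b_Cert_tree lc_b_rc_7_0 lc_b_rc_9_2 lc_b_rc_12_4 lc_b_Cert_tree lc_b_rc_10_2 lc_b_rc_9_2 lc_b_rc_12_4 lc_b_rc_9_2 lc_b_Cert_tree lc_b_rc_30_5 lc_b_rc_7_0 lc_b_rc_9_2 lc_b_rc_10_2 lc_b_Cert_tree lc_b_rc_7_1 lc_b_rc_7_0 lc_b_rc_8_0 lc_b_rc_31_12 lc_b_rc_11_4) (@D3.rec (fun _ => (Cert rels S Gen.b)) lc_b_rc_12_2 lc_b_Cert_tree lc_b_rc_30_5 lc_b_rc_31_12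 lc_b_rc_8_2 lc_b_rc_8_2 lc_b_rc_7_0 lc_b_rc_7_0 lc_b_rc_9_2 lc_b_rc_8_2 lc_b_rc_12_2 lc_b_rc_8_2 lc_b_rc_11_2 lc_b_rc_11_2 lc_b_rc_9_2 lc_b_rc_8_2 lc_b_rc_30_9 lc_b_rc_31_3 lc_b_rc_9_2 lc_b_rc_1_3 lc_b_Cert_tree lc_b_rc_10_2 lc_b_rc_7_1 lc_b_rc_7_0 lc_b_rc_30_9 lc_b_rc_9_2 lc_b_rc_10_2 lc_b_rc_11_0 lc_b_rc_8_0 lc_b_rc_7_0 lc_b_rc_30_9 lc_b_rc_7_0 lc_b_rc_9_2 lc_b_rc_11_2 lc_b_rc_9_2 lc_b_Cert_tree lc_b_rc_12_4 lc_b_Cert_tree lc_b_rc_10_2 lc_b_Cert_tree) (@D3.rec (fun _ => (Cert rels S Gen.b)) lc_b_rc_1_1 lc_b_rc_7_0 lc_b_rc_9_2 lc_b_rc_30_13 lc_b_rc_11_2 lc_b_rc_12_2 lc_b_rc_31_9 lc_b_rc_7_1 lc_b_rc_9_2 lc_b_rc_10_2 lc_b_rc_11_2 lc_b_rc_32_57 lc_b_rc_10_2 lc_b_rc_9_2 lc_b_rc_30_17 lc_b_rc_7_0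 lc_b_rc_7_0 lc_b_Cert_tree lc_b_rc_8_2 lc_b_rc_11_2 lc_b_rc_7_0 lc_b_rc_10_2 lc_b_rc_10_2 lc_b_rc_9_2 lc_b_rc_8_4 lc_b_rc_7_0 lc_b_rc_9_2 lc_b_rc_9_2 lc_b_rc_7_0 lc_b_rc_11_0 lc_b_rc_10_2 lc_b_Cert_tree lc_b_rc_7_0 lc_b_rc_9_2 lc_b_Cert_tree lc_b_rc_30_13 lc_b_rc_7_0 lc_b_Cert_tree lc_b_Cert_tree lc_b_rc_7_0) (@D3.rec (fun _ => (Cert rels S Gen.b)) lc_b_rc_9_2 lc_b_rc_8_4 lc_b_Cert_tree lc_b_Cert_tree lc_b_rc_7_0 lc_b_rc_7_0 lc_b_rc_9_2 lc_b_rc_10_2 lc_b_rc_10_2 lc_b_Cert_tree lc_b_Cert_tree lc_b_rc_7_0 lc_b_rc_7_0 lc_b_rc_12_2 lc_b_rc_7_0 lc_b_rc_7_0 lc_b_rc_8_4 lc_b_rc_11_2 lc_b_rc_9_2 lc_b_rc_1_3 lc_b_rc_12_2 lc_b_Cert_tree lc_b_rc_9_2 lc_b_rc_7_0 lc_b_rc_7_0 lc_b_rc_10_2 lc_b_Cert_tree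 lc_b_Cert_tree lc_b_rc_30_13 lc_b_rc_12_4 lc_b_rc_31_3 lc_b_rc_7_0 lc_b_rc_7_1 lc_b_rc_11_4 lc_b_Cert_tree lc_b_rc_10_2 lc_b_rc_11_2 lc_b_rc_9_2 lc_b_rc_30_9 lc_b_rc_7_0) (@D3.rec (fun _ => (Cert rels S Gen.b)) lc_b_rc_1_3 lc_b_rc_11_2 lc_b_rc_9_2 lc_b_rc_12_4 lc_b_rc_12_2 lc_b_rc_1_3 lc_b_rc_7_0 lc_b_rc_9_2 lc_b_rc_10_2 lc_b_rc_11_4 lc_b_Cert_tree lc_b_rc_8_2 lc_b_rc_10_2 lc_b_rc_11_2 lc_b_rc_9_2 lc_b_rc_9_2 lc_b_rc_11_2 lc_b_Cert_tree lc_b_rc_8_4 lc_b_rc_7_0 lc_b_rc_10_0 lc_b_rc_9_2 lc_b_Cert_tree lc_b_rc_7_0 lc_b_Cert_tree lc_b_Cert_tree lc_b_rc_7_0 lc_b_rc_31_12 lc_b_rc_11_4 lc_b_rc_7_0 lc_b_rc_7_0 lc_b_rc_9_2 lc_b_rc_8_2 lc_b_rc_12_2 lc_b_rc_11_2 lc_b_rc_31_6 lc_b_rc_31_9 lc_b_rc_31_6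 lc_b_rc_7_0 lc_b_rc_7_0) (@D3.rec (fun _ => (Cert rels S Gen.b)) lc_b_rc_7_0 lc_b_rc_1_7 lc_b_rc_12_2 lc_b_rc_11_2 lc_b_rc_30_5 lc_b_rc_8_4 lc_b_rc_8_2 lc_b_rc_10_2 lc_b_rc_9_2 lc_b_rc_12_2 lc_b_Cert_tree lc_b_Cert_tree lc_b_rc_1_7 lc_b_rc_31_3 lc_b_rc_9_2 lc_b_rc_7_0 lc_b_rc_9_2 lc_b_rc_10_2 lc_b_rc_8_4 lc_b_rc_7_1 lc_b_rc_9_2 lc_b_rc_10_2 lc_b_rc_1_5 lc_b_rc_9_2 lc_b_rc_1_7 lc_b_rc_10_2 lc_b_rc_11_2 lc_b_rc_12_2 lc_b_Cert_tree lc_b_rc_10_2 lc_b_Cert_tree lc_b_rc_7_0 lc_b_rc_7_0 lc_b_rc_31_3 lc_b_rc_12_2 lc_b_rc_7_0 lc_b_rc_9_2 lc_b_rc_10_2 lc_b_Cert_tree lc_b_Cert_tree) (@D3.rec (fun _ => (Cert rels S Gen.b)) lc_b_rc_10_2 lc_b_Cert_tree lc_b_rc_7_0 lc_b_rc_7_0 lc_b_rc_1_3 lc_b_Cert_tree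 lc_b_rc_10_2 lc_b_rc_7_1 lc_b_Cert_tree lc_b_rc_9_2 lc_b_rc_9_2 lc_b_Cert_tree lc_b_rc_7_0 lc_b_Cert_tree lc_b_rc_7_0 lc_b_Cert_tree lc_b_Cert_tree lc_b_Cert_tree lc_b_rc_7_0 lc_b_rc_7_0 lc_b_rc_11_2 lc_b_rc_12_0 lc_b_rc_10_2 lc_b_rc_11_2 lc_b_rc_1_3 lc_b_rc_10_2 lc_b_rc_9_2 lc_b_Cert_tree lc_b_rc_10_2 lc_b_Cert_tree lc_b_rc_7_0 lc_b_rc_7_0 lc_b_Cert_tree lc_b_Cert_tree lc_b_rc_7_0 lc_b_rc_7_0 lc_b_rc_7_0 lc_b_rc_31_3 lc_b_rc_11_2 lc_b_rc_12_2) (@D3.rec (fun _ => (Cert rels S Gen.b)) lc_b_rc_30_5 lc_b_rc_8_4 lc_b_rc_8_2 lc_b_rc_10_2 lc_b_rc_11_2 lc_b_rc_12_2 lc_b_Cert_tree lc_b_Cert_tree lc_b_rc_31_9 lc_b_rc_9_2 lc_b_rc_7_1 lc_b_rc_7_0 lc_b_rc_9_2 lc_b_rc_10_2 lc_b_rc_30_17 lc_b_rc_7_1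 lc_b_rc_11_2 lc_b_rc_9_2 lc_b_rc_9_2 lc_b_rc_9_2 lc_b_rc_1_7 lc_b_rc_10_2 lc_b_rc_11_2 lc_b_rc_12_2 lc_b_Cert_tree lc_b_rc_10_2 lc_b_rc_11_4 lc_b_Cert_tree lc_b_rc_8_2 lc_b_rc_7_0 lc_b_rc_9_0 lc_b_rc_7_0 lc_b_rc_9_2 lc_b_rc_10_2 lc_b_Cert_tree lc_b_Cert_tree lc_b_Cert_tree lc_b_rc_1_3 lc_b_rc_7_0 lc_b_rc_7_0) (@D3.rec (fun _ => (Cert rels S Gen.b)) lc_b_rc_1_3 lc_b_Cert_tree lc_b_rc_10_2 lc_b_Cert_tree lc_b_rc_12_4 lc_b_rc_9_2 lc_b_Cert_tree lc_b_rc_1_5 lc_b_rc_7_0 lc_b_Cert_tree lc_b_rc_7_0 lc_b_Cert_tree lc_b_Cert_tree lc_b_Cert_tree lc_b_rc_7_0 lc_b_rc_7_0 lc_b_rc_10_2 lc_b_rc_12_2 lc_b_rc_1_3 lc_b_rc_12_2 lc_b_rc_12_2 lc_b_rc_10_2 lc_b_Cert_tree lc_b_rc_9_2 lc_b_Cert_tree lc_b_rc_7_0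 lc_b_rc_7_0 lc_b_rc_7_0 lc_b_Cert_tree lc_b_Cert_tree lc_b_rc_7_0 lc_b_rc_7_0 lc_b_rc_7_0 lc_b_rc_9_2 lc_b_Cert_tree lc_b_rc_11_2 lc_b_rc_12_2 lc_b_rc_7_0 lc_b_rc_8_2 lc_b_Cert_tree) (@D3.rec (fun _ => (Cert rels S Gen.b)) lc_b_Cert_tree lc_b_rc_8_2 lc_b_rc_10_2 lc_b_rc_11_2 lc_b_rc_12_2 lc_b_Cert_tree lc_b_rc_30_17 lc_b_rc_7_0 lc_b_rc_9_2 lc_b_Cert_tree lc_b_rc_11_2 lc_b_rc_12_2 lc_b_rc_7_0 lc_b_rc_8_2 lc_b_Cert_tree lc_b_Cert_tree lc_b_rc_8_2 lc_b_rc_10_2 lc_b_rc_11_2 lc_b_rc_12_2 lc_b_rc_9_0 lc_b_Cert_tree lc_b_rc_31_3 lc_b_rc_11_2 lc_b_rc_7_0 lc_b_rc_12_2 lc_b_rc_10_2 lc_b_rc_11_4 lc_b_rc_1_3 lc_b_rc_8_2 lc_b_rc_10_2 lc_b_rc_8_2 lc_b_rc_31_6 lc_b_rc_9_0 lc_b_rc_7_0 lc_b_rc_10_2 lc_b_rc_7_0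 lc_b_rc_9_2 lc_b_rc_31_9 lc_b_rc_7_0) (@D3.rec (fun _ => (Cert rels S Gen.b)) lc_b_rc_31_9 lc_b_rc_7_0 lc_b_rc_31_6 lc_b_rc_7_0 lc_b_rc_7_0 lc_b_rc_31_6 lc_b_rc_9_2 lc_b_rc_31_3 lc_b_rc_31_3 lc_b_rc_9_0 lc_b_Cert_tree lc_b_rc_7_0 lc_b_rc_10_2 lc_b_rc_7_1 lc_b_rc_7_0 lc_b_rc_9_2 lc_b_rc_30_5 lc_b_rc_9_2 lc_b_rc_9_2 lc_b_Cert_tree lc_b_rc_7_0 lc_b_rc_7_0 lc_b_rc_31_9 lc_b_rc_8_2 lc_b_rc_31_6 lc_b_rc_7_1 lc_b_Cert_tree lc_b_rc_7_0 lc_b_rc_31_3 lc_b_rc_9_0 lc_b_rc_7_0 lc_b_rc_9_2 lc_b_rc_8_2 lc_b_rc_7_0 lc_b_rc_7_1 lc_b_rc_7_0 lc_b_rc_9_2 lc_b_rc_30_5 lc_b_rc_31_3 lc_b_rc_9_0) (@D3.rec (fun _ => (Cert rels S Gen.b)) lc_b_Cert_tree lc_b_rc_7_0 lc_b_rc_10_2 lc_b_rc_31_6 lc_b_rc_7_0 lc_b_rc_30_9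 lc_b_rc_31_9 lc_b_rc_9_2 lc_b_rc_9_2 lc_b_Cert_tree lc_b_rc_7_0 lc_b_rc_7_0 lc_b_rc_31_3 lc_b_rc_30_5 lc_b_rc_7_0 lc_b_rc_31_6 lc_b_Cert_tree lc_b_rc_7_0 lc_b_rc_9_0 lc_b_rc_7_0 lc_b_rc_9_2 lc_b_rc_30_5 lc_b_rc_7_0 lc_b_rc_31_9 lc_b_rc_10_2 lc_b_rc_8_2 lc_b_rc_9_2 lc_b_Cert_tree lc_b_rc_8_2 lc_b_rc_10_2 lc_b_rc_7_0 lc_b_rc_7_1 lc_b_rc_9_2 lc_b_rc_9_2 lc_b_Cert_tree lc_b_rc_7_0 lc_b_rc_8_2 lc_b_rc_12_2 lc_b_rc_10_2 lc_b_rc_7_0) (@D3.rec (fun _ => (Cert rels S Gen.b)) lc_b_rc_7_0 lc_b_rc_8_4 lc_b_Cert_tree lc_b_rc_7_0 lc_b_rc_10_0 lc_b_rc_12_2 lc_b_rc_11_4 lc_b_rc_1_5 lc_b_rc_8_2 lc_b_rc_1_3 lc_b_rc_7_0 lc_b_Cert_tree lc_b_rc_7_0 lc_b_rc_7_0 lc_b_rc_1_1 lc_b_rc_12_4 lc_b_rc_30_5 lc_b_rc_7_0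 lc_b_rc_30_13 lc_b_rc_9_2 lc_b_rc_7_0 lc_b_rc_7_0 lc_b_rc_8_2 lc_b_rc_11_2 lc_b_rc_1_3 lc_b_rc_10_2 lc_b_rc_9_2 lc_b_rc_9_2 lc_b_rc_10_2 lc_b_rc_31_6 lc_b_rc_11_2 lc_b_rc_8_2 lc_b_rc_30_9 lc_b_rc_8_2 lc_b_rc_11_2 lc_b_rc_12_2 lc_b_rc_8_2 lc_b_rc_8_2 lc_b_rc_10_2 lc_b_rc_7_1) (@D3.rec (fun _ => (Cert rels S Gen.b)) lc_b_rc_9_0 lc_b_rc_9_2 lc_b_rc_31_3 lc_b_rc_11_2 lc_b_rc_9_2 lc_b_rc_10_2 lc_b_rc_30_13 lc_b_rc_10_2 lc_b_rc_12_2 lc_b_rc_7_0 lc_b_rc_1_3 lc_b_rc_10_2 lc_b_rc_7_1 lc_b_rc_30_5 lc_b_rc_1_5 lc_b_rc_12_2 lc_b_rc_10_0 lc_b_rc_10_2 lc_b_rc_10_2 lc_b_rc_9_2 lc_b_rc_9_2 lc_b_Cert_tree lc_b_rc_12_2 lc_b_rc_7_0 lc_b_rc_10_0 lc_b_rc_9_2 lc_b_rc_8_4 lc_b_Cert_tree lc_b_rc_7_0 lc_b_rc_12_2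 lc_b_rc_7_1 lc_b_rc_7_0 lc_b_rc_1_5 lc_b_rc_1_7 lc_b_rc_12_2 lc_b_rc_8_4 lc_b_rc_7_0 lc_b_rc_7_1 lc_b_rc_7_0 lc_b_rc_7_0) (@D3.rec (fun _ => (Cert rels S Gen.b)) lc_b_rc_10_0 lc_b_rc_10_2 lc_b_rc_1_3 lc_b_rc_9_0 lc_b_rc_1_3 lc_b_rc_10_2 lc_b_rc_8_2 lc_b_rc_9_2 lc_b_rc_31_6 lc_b_rc_11_0 lc_b_rc_31_9 lc_b_rc_9_2 lc_b_rc_7_0 lc_b_rc_7_0 lc_b_rc_10_2 lc_b_rc_12_2 lc_b_rc_31_3 lc_b_rc_9_2 lc_b_rc_11_4 lc_b_rc_11_2 lc_b_rc_31_3 lc_b_rc_10_0 lc_b_rc_30_5 lc_b_rc_9_2 lc_b_rc_1_5 lc_b_rc_9_2 lc_b_rc_10_2 lc_b_rc_30_5 lc_b_rc_1_3 lc_b_rc_1_3 lc_b_rc_10_2 lc_b_rc_30_5 lc_b_rc_11_2 lc_b_rc_9_2 lc_b_rc_30_13 lc_b_rc_8_2 lc_b_rc_10_2 lc_b_rc_11_2 lc_b_rc_9_2 lc_b_rc_1_3) (@D3.rec (fun _ => (Cert rels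 S Gen.b)) lc_b_rc_12_2 lc_b_rc_10_0 lc_b_rc_1_3 lc_b_rc_31_6 lc_b_rc_12_2 lc_b_rc_31_12 lc_b_Cert_tree lc_b_rc_7_0 lc_b_rc_8_4 lc_b_rc_10_2 lc_b_rc_30_17 lc_b_Cert_tree lc_b_rc_7_0 lc_b_rc_1_7 lc_b_rc_1_3 lc_b_rc_8_2 lc_b_rc_9_2 lc_b_rc_7_0 lc_b_rc_8_2 lc_b_rc_8_2 lc_b_rc_12_2 lc_b_rc_10_2 lc_b_Cert_tree lc_b_rc_8_2 lc_b_rc_10_2 lc_b_rc_7_0 lc_b_rc_30_13 lc_b_rc_9_2 lc_b_rc_9_2 lc_b_Cert_tree lc_b_rc_31_6 lc_b_rc_8_2 lc_b_rc_11_2 lc_b_rc_10_2 lc_b_rc_7_0 lc_b_rc_8_4 lc_b_rc_30_5 lc_b_Cert_tree lc_b_rc_7_0 lc_b_rc_30_13) (@D3.rec (fun _ => (Cert rels S Gen.b)) lc_b_rc_9_2 lc_b_rc_12_2 lc_b_rc_30_9 lc_b_rc_11_4 lc_b_rc_9_2 lc_b_rc_7_0 lc_b_rc_7_0 lc_b_rc_31_9 lc_b_rc_10_2 lc_b_rc_30_5 lc_b_rc_7_0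 lc_b_rc_8_0 lc_b_rc_7_0 lc_b_rc_1_3 lc_b_rc_10_2 lc_b_rc_8_2 lc_b_rc_9_2 lc_b_rc_10_2 lc_b_rc_7_0 lc_b_rc_12_2 lc_b_rc_8_2 lc_b_rc_30_5 lc_b_rc_8_2 lc_b_rc_11_2 lc_b_rc_12_2 lc_b_rc_7_0 lc_b_rc_9_2 lc_b_rc_7_1 lc_b_rc_7_0 lc_b_rc_10_2 lc_b_rc_10_2 lc_b_rc_7_0 lc_b_rc_7_1 lc_b_rc_10_2 lc_b_rc_8_2 lc_b_rc_8_4 lc_b_rc_11_2 lc_b_rc_1_5 lc_b_rc_1_3 lc_b_rc_10_2) (@D3.rec (fun _ => (Cert rels S Gen.b)) lc_b_rc_9_2 lc_b_rc_9_2 lc_b_rc_11_2 lc_b_Cert_tree lc_b_rc_30_5 lc_b_rc_7_0 lc_b_rc_8_4 lc_b_Cert_tree lc_b_rc_7_0 lc_b_rc_11_2 lc_b_rc_10_2 lc_b_rc_11_2 lc_b_rc_1_5 lc_b_rc_1_7 lc_b_rc_8_4 lc_b_rc_12_2 lc_b_rc_7_0 lc_b_rc_7_1 lc_b_rc_11_2 lc_b_rc_31_6 lc_b_rc_10_2 lc_b_rc_9_2 lc_b_rc_9_0 lc_b_rc_7_0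 lc_b_rc_10_2 lc_b_rc_31_6 lc_b_rc_10_2 lc_b_rc_30_1 lc_b_rc_31_9 lc_b_rc_9_2 lc_b_rc_7_1 lc_b_rc_30_9 lc_b_rc_11_2 lc_b_rc_12_4 lc_b_Cert_tree lc_b_rc_31_12 lc_b_rc_7_0 lc_b_rc_10_2 lc_b_Cert_tree lc_b_rc_7_0) (@D3.rec (fun _ => (Cert rels S Gen.b)) lc_b_rc_10_2 lc_b_rc_31_9 lc_b_rc_8_2 lc_b_rc_11_2 lc_b_rc_31_3 lc_b_rc_7_0 lc_b_rc_30_5 lc_b_rc_11_2 lc_b_rc_9_2 lc_b_rc_7_0 lc_b_rc_10_2 lc_b_rc_1_1 lc_b_rc_31_9 lc_b_rc_30_13 lc_b_rc_10_2 lc_b_rc_12_2 lc_b_rc_7_0 lc_b_rc_9_0 lc_b_rc_10_2 lc_b_rc_9_2 lc_b_rc_11_2 lc_b_rc_9_2 lc_b_rc_10_2 lc_b_rc_1_3 lc_b_rc_10_2 lc_b_rc_31_9 lc_b_rc_9_2 lc_b_rc_10_2 lc_b_rc_9_2 lc_b_Cert_tree lc_b_rc_7_0 lc_b_Cert_tree lc_b_Cert_tree lc_b_rc_7_0 lc_b_rc_11_4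 lc_b_rc_7_0 lc_b_rc_7_0 lc_b_rc_1_5 lc_b_rc_1_5 lc_b_rc_8_2) (@D3.rec (fun _ => (Cert rels S Gen.b)) lc_b_rc_30_9 lc_b_Cert_tree lc_b_rc_9_2 lc_b_rc_9_2 lc_b_rc_12_2 lc_b_rc_31_6 lc_b_rc_30_5 lc_b_rc_1_3 lc_b_rc_30_9 lc_b_rc_11_2 lc_b_rc_10_2 lc_b_rc_7_0 lc_b_rc_9_0 lc_b_rc_9_0 lc_b_rc_9_2 lc_b_rc_30_9 lc_b_rc_9_2 lc_b_rc_10_2 lc_b_rc_10_2 lc_b_rc_10_2 lc_b_rc_1_3 lc_b_rc_9_2 lc_b_rc_11_4 lc_b_rc_9_2 lc_b_Cert_tree lc_b_rc_7_0 lc_b_Cert_tree lc_b_Cert_tree lc_b_rc_7_0 lc_b_rc_12_4 lc_b_rc_7_0 lc_b_rc_7_0 lc_b_rc_31_3 lc_b_rc_31_9 lc_b_rc_7_1 lc_b_rc_9_2 lc_b_Cert_tree lc_b_rc_9_2 lc_b_rc_30_9 lc_b_rc_10_2) (@D3.rec (fun _ => (Cert rels S Gen.b)) lc_b_rc_7_0 lc_b_rc_10_2 lc_b_rc_10_2 lc_b_rc_30_13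 lc_b_rc_10_2 lc_b_rc_9_2 lc_b_Cert_tree lc_b_Cert_tree lc_b_rc_7_0 lc_b_rc_7_0 lc_b_rc_7_0 lc_b_rc_9_2 lc_b_Cert_tree lc_b_rc_7_0 lc_b_Cert_tree lc_b_rc_9_2 lc_b_Cert_tree lc_b_rc_7_0 lc_b_rc_9_2 lc_b_Cert_tree lc_b_rc_7_0 lc_b_rc_1_7 lc_b_rc_10_2 lc_b_rc_7_0 lc_b_rc_10_2 lc_b_rc_10_2 lc_b_rc_30_5 lc_b_rc_10_2 lc_b_rc_9_2 lc_b_rc_7_0 lc_b_rc_9_2 lc_b_Cert_tree lc_b_Cert_tree lc_b_rc_9_2 lc_b_rc_7_0 lc_b_rc_9_2 lc_b_rc_11_2 lc_b_rc_7_0 lc_b_rc_10_2 lc_b_rc_32_62)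
def ce_b_16 : D2 → D3 → (Cert rels S Gen.b) := @D2.rec (fun _ => D3 → (Cert rels S Gen.b)) (@D3.rec (fun _ => (Cert rels S Gen.b)) lc_b_rc_30_1 lc_b_rc_11_2 lc_b_rc_7_0 lc_b_rc_10_2 lc_b_rc_30_9 lc_b_rc_7_0 lc_b_rc_1_5 lc_b_rc_9_2 lc_b_rc_11_2 lc_b_rc_10_2 lc_b_rc_8_4 lc_b_rc_7_0 lc_b_rc_10_2 lc_b_rc_11_2 lc_b_rc_8_2 lc_b_rc_7_0 lc_b_rc_10_2 lc_b_rc_31_6 lc_b_rc_7_0 lc_b_rc_10_2 lc_b_rc_31_3 lc_b_rc_7_0 lc_b_rc_31_9 lc_b_rc_7_0 lc_b_rc_9_0 lc_b_rc_9_2 lc_b_rc_12_2 lc_b_rc_10_2 lc_b_rc_8_4 lc_b_rc_7_0 lc_b_rc_10_2 lc_b_rc_12_2 lc_b_rc_12_2 lc_b_rc_7_0 lc_b_rc_10_2 lc_b_rc_30_17 lc_b_rc_7_0 lc_b_rc_10_2 lc_b_rc_30_5 lc_b_rc_7_0) (@D3.rec (fun _ => (Cert rels S Gen.b)) lc_b_rc_7_0 lc_b_rc_7_0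 lc_b_rc_7_0 lc_b_rc_1_1 lc_b_rc_1_3 lc_b_rc_9_2 lc_b_Cert_tree lc_b_rc_11_4 lc_b_rc_7_0 lc_b_rc_8_4 lc_b_rc_9_2 lc_b_rc_9_2 lc_b_Cert_tree lc_b_rc_12_4 lc_b_rc_31_12 lc_b_rc_11_4 lc_b_Cert_tree lc_b_rc_8_2 lc_b_rc_10_2 lc_b_rc_7_0 lc_b_Cert_tree lc_b_rc_7_0 lc_b_rc_9_2 lc_b_rc_12_2 lc_b_rc_7_1 lc_b_Cert_tree lc_b_rc_8_2 lc_b_rc_9_2 lc_b_rc_7_0 lc_b_Cert_tree lc_b_rc_31_6 lc_b_rc_9_2 lc_b_rc_8_4 lc_b_rc_31_9 lc_b_rc_7_0 lc_b_rc_8_4 lc_b_rc_12_2 lc_b_rc_7_0 lc_b_rc_30_5 lc_b_rc_30_5) (@D3.rec (fun _ => (Cert rels S Gen.b)) lc_b_rc_7_0 lc_b_rc_8_4 lc_b_rc_11_2 lc_b_rc_7_0 lc_b_rc_7_1 lc_b_rc_8_4 lc_b_rc_10_2 lc_b_rc_12_2 lc_b_rc_8_2 lc_b_rc_11_0 lc_b_rc_10_2 lc_b_rc_11_2 lc_b_rc_8_2 lc_b_rc_7_0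 lc_b_Cert_tree lc_b_rc_9_2 lc_b_rc_31_6 lc_b_Cert_tree lc_b_rc_9_2 lc_b_rc_7_0 lc_b_rc_11_2 lc_b_rc_8_2 lc_b_rc_12_2 lc_b_rc_12_2 lc_b_rc_7_0 lc_b_rc_7_0 lc_b_rc_7_0 lc_b_rc_31_6 lc_b_rc_8_2 lc_b_rc_7_0 lc_b_rc_10_0 lc_b_rc_8_2 lc_b_rc_7_0 lc_b_rc_30_9 lc_b_rc_8_2 lc_b_rc_11_2 lc_b_rc_9_0 lc_b_rc_8_4 lc_b_rc_7_1 lc_b_Cert_tree) (@D3.rec (fun _ => (Cert rels S Gen.b)) lc_b_rc_7_0 lc_b_rc_30_13 lc_b_rc_8_2 lc_b_rc_12_2 lc_b_rc_9_0 lc_b_rc_8_4 lc_b_rc_8_2 lc_b_Cert_tree lc_b_rc_7_0 lc_b_rc_8_2 lc_b_rc_31_9 lc_b_rc_7_0 lc_b_rc_12_2 lc_b_rc_7_0 lc_b_rc_8_2 lc_b_rc_12_2 lc_b_rc_7_0 lc_b_rc_11_2 lc_b_rc_12_4 lc_b_rc_10_2 lc_b_Cert_tree lc_b_rc_7_0 lc_b_rc_7_1 lc_b_rc_7_0 lc_b_Cert_tree lc_b_rc_8_2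 lc_b_rc_1_5 lc_b_rc_7_0 lc_b_rc_10_0 lc_b_Cert_tree lc_b_rc_7_0 lc_b_Cert_tree lc_b_rc_7_0 lc_b_rc_11_0 lc_b_rc_9_2 lc_b_rc_11_2 lc_b_rc_12_2 lc_b_rc_11_2 lc_b_rc_8_2 lc_b_Cert_tree) (@D3.rec (fun _ => (Cert rels S Gen.b)) lc_b_rc_11_2 lc_b_Cert_tree lc_b_rc_7_0 lc_b_rc_8_2 lc_b_rc_11_4 lc_b_rc_8_2 lc_b_Cert_tree lc_b_rc_7_0 lc_b_rc_31_9 lc_b_rc_7_0 lc_b_Cert_tree lc_b_rc_8_2 lc_b_rc_32_5 lc_b_rc_7_0 lc_b_rc_7_0 lc_b_Cert_tree lc_b_rc_31_9 lc_b_Cert_tree lc_b_rc_7_0 lc_b_rc_8_4 lc_b_rc_9_2 lc_b_rc_11_2 lc_b_rc_12_2 lc_b_rc_31_6 lc_b_rc_10_2 lc_b_Cert_tree lc_b_rc_12_2 lc_b_Cert_tree lc_b_rc_7_0 lc_b_rc_7_0 lc_b_rc_10_2 lc_b_rc_9_2 lc_b_rc_1_7 lc_b_rc_9_2 lc_b_rc_31_12 lc_b_rc_9_2 lc_b_rc_7_0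 lc_b_rc_8_2 lc_b_rc_9_2 lc_b_rc_1_7) (@D3.rec (fun _ => (Cert rels S Gen.b)) lc_b_rc_9_2 lc_b_rc_1_5 lc_b_rc_10_0 lc_b_rc_7_0 lc_b_Cert_tree lc_b_rc_7_0 lc_b_Cert_tree lc_b_rc_7_0 lc_b_Cert_tree lc_b_rc_7_0 lc_b_Cert_tree lc_b_rc_7_0 lc_b_rc_7_0 lc_b_rc_7_0 lc_b_rc_12_2 lc_b_rc_12_2 lc_b_rc_8_2 lc_b_rc_7_0 lc_b_rc_8_2 lc_b_rc_9_2 lc_b_rc_8_2 lc_b_rc_7_0 lc_b_rc_10_2 lc_b_rc_10_2 lc_b_rc_11_2 lc_b_rc_8_2 lc_b_rc_7_0 lc_b_rc_7_0 lc_b_rc_11_2 lc_b_rc_8_2 lc_b_rc_12_2 lc_b_rc_11_2 lc_b_rc_8_2 lc_b_rc_11_2 lc_b_rc_12_2 lc_b_rc_7_0 lc_b_rc_12_2 lc_b_rc_8_2 lc_b_rc_1_5 lc_b_rc_8_2) (@D3.rec (fun _ => (Cert rels S Gen.b)) lc_b_rc_12_2 lc_b_rc_11_2 lc_b_rc_7_0 lc_b_rc_1_7 lc_b_rc_8_2 lc_b_rc_9_2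 lc_b_rc_1_5 lc_b_rc_9_2 lc_b_rc_12_4 lc_b_rc_9_2 lc_b_Cert_tree lc_b_rc_7_0 lc_b_rc_30_9 lc_b_rc_10_2 lc_b_Cert_tree lc_b_rc_7_0 lc_b_Cert_tree lc_b_rc_1_5 lc_b_rc_9_2 lc_b_rc_11_2 lc_b_rc_9_2 lc_b_Cert_tree lc_b_rc_7_0 lc_b_rc_32_72 lc_b_rc_10_2 lc_b_Cert_tree lc_b_rc_7_0 lc_b_Cert_tree lc_b_rc_30_5 lc_b_rc_1_3 lc_b_rc_1_3 lc_b_rc_1_3 lc_b_rc_9_0 lc_b_Cert_tree lc_b_rc_11_4 lc_b_rc_7_0 lc_b_Cert_tree lc_b_Cert_tree lc_b_rc_9_2 lc_b_rc_7_0) (@D3.rec (fun _ => (Cert rels S Gen.b)) lc_b_Cert_tree lc_b_rc_7_0 lc_b_Cert_tree lc_b_rc_7_0 lc_b_rc_32_46 lc_b_Cert_tree lc_b_rc_12_4 lc_b_rc_7_0 lc_b_Cert_tree lc_b_Cert_tree lc_b_rc_9_2 lc_b_rc_7_0 lc_b_Cert_tree lc_b_rc_7_0 lc_b_Cert_tree lc_b_rc_7_0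 lc_b_rc_7_0 lc_b_rc_31_6 lc_b_rc_8_2 lc_b_rc_11_2 lc_b_rc_30_5 lc_b_rc_1_3 lc_b_rc_30_17 lc_b_rc_11_0 lc_b_rc_30_13 lc_b_Cert_tree lc_b_rc_7_0 lc_b_rc_9_2 lc_b_rc_30_9 lc_b_rc_10_2 lc_b_rc_7_0 lc_b_rc_7_0 lc_b_rc_10_0 lc_b_rc_8_2 lc_b_rc_12_2 lc_b_rc_30_13 lc_b_rc_12_4 lc_b_rc_30_9 lc_b_rc_1_3 lc_b_rc_31_9) (@D3.rec (fun _ => (Cert rels S Gen.b)) lc_b_Cert_tree lc_b_rc_7_0 lc_b_rc_9_2 lc_b_rc_12_4 lc_b_rc_31_3 lc_b_rc_7_0 lc_b_rc_7_0 lc_b_rc_31_6 lc_b_rc_12_2 lc_b_rc_31_6 lc_b_rc_10_0 lc_b_rc_9_2 lc_b_Cert_tree lc_b_rc_12_2 lc_b_rc_8_2 lc_b_rc_11_2 lc_b_rc_12_2 lc_b_rc_12_2 lc_b_rc_8_2 lc_b_rc_1_3 lc_b_Cert_tree lc_b_rc_31_6 lc_b_rc_9_2 lc_b_Cert_tree lc_b_rc_31_6 lc_b_rc_7_1 lc_b_rc_9_2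 lc_b_rc_1_5 lc_b_rc_10_0 lc_b_rc_9_2 lc_b_rc_11_2 lc_b_rc_7_0 lc_b_rc_7_0 lc_b_rc_11_2 lc_b_rc_7_0 lc_b_rc_1_7 lc_b_rc_9_2 lc_b_Cert_tree lc_b_rc_11_2 lc_b_rc_8_2) (@D3.rec (fun _ => (Cert rels S Gen.b)) lc_b_rc_11_2 lc_b_rc_12_2 lc_b_rc_11_2 lc_b_rc_8_2 lc_b_rc_12_2 lc_b_Cert_tree lc_b_rc_7_0 lc_b_rc_9_2 lc_b_Cert_tree lc_b_rc_7_0 lc_b_rc_12_2 lc_b_rc_11_2 lc_b_rc_9_2 lc_b_rc_8_2 lc_b_rc_11_2 lc_b_rc_12_2 lc_b_rc_9_0 lc_b_rc_9_2 lc_b_rc_7_0 lc_b_rc_8_2 lc_b_rc_9_2 lc_b_rc_10_2 lc_b_rc_1_3 lc_b_rc_9_2 lc_b_rc_7_0 lc_b_Cert_tree lc_b_rc_8_2 lc_b_rc_8_2 lc_b_rc_7_0 lc_b_rc_9_2 lc_b_rc_7_0 lc_b_Cert_tree lc_b_Cert_tree lc_b_rc_7_0 lc_b_Cert_tree lc_b_rc_7_0 lc_b_rc_31_6 lc_b_rc_8_2 lc_b_rc_31_9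 lc_b_rc_7_0) (@D3.rec (fun _ => (Cert rels S Gen.b)) lc_b_rc_7_0 lc_b_Cert_tree lc_b_rc_32_31 lc_b_rc_11_2 lc_b_rc_7_0 lc_b_rc_7_0 lc_b_rc_9_2 lc_b_rc_31_3 lc_b_rc_11_0 lc_b_rc_12_2 lc_b_rc_11_4 lc_b_rc_9_0 lc_b_rc_10_2 lc_b_Cert_tree lc_b_rc_7_0 lc_b_rc_31_6 lc_b_rc_10_2 lc_b_Cert_tree lc_b_rc_7_0 lc_b_rc_7_0 lc_b_Cert_tree lc_b_rc_8_2 lc_b_Cert_tree lc_b_rc_7_0 lc_b_rc_8_2 lc_b_rc_8_2 lc_b_rc_12_2 lc_b_rc_12_2 lc_b_rc_11_2 lc_b_rc_12_2 lc_b_rc_12_4 lc_b_rc_10_2 lc_b_Cert_tree lc_b_rc_7_0 lc_b_rc_10_2 lc_b_rc_10_2 lc_b_rc_12_2 lc_b_rc_7_0 lc_b_rc_8_4 lc_b_rc_31_6) (@D3.rec (fun _ => (Cert rels S Gen.b)) lc_b_rc_9_2 lc_b_rc_12_4 lc_b_rc_11_2 lc_b_rc_8_2 lc_b_rc_7_0 lc_b_rc_9_2 lc_b_Cert_tree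 lc_b_rc_8_4 lc_b_rc_1_5 lc_b_rc_9_2 lc_b_rc_12_2 lc_b_rc_7_0 lc_b_rc_1_5 lc_b_rc_8_2 lc_b_rc_8_2 lc_b_rc_9_2 lc_b_rc_7_0 lc_b_rc_9_2 lc_b_rc_12_4 lc_b_rc_9_2 lc_b_rc_7_0 lc_b_rc_7_0 lc_b_rc_7_0 lc_b_rc_9_2 lc_b_rc_8_2 lc_b_rc_10_2 lc_b_rc_12_2 lc_b_rc_9_0 lc_b_rc_31_9 lc_b_rc_12_4 lc_b_rc_8_4 lc_b_rc_12_4 lc_b_rc_9_2 lc_b_rc_9_2 lc_b_rc_7_0 lc_b_Cert_tree lc_b_rc_9_2 lc_b_rc_8_2 lc_b_rc_30_9 lc_b_rc_7_0) (@D3.rec (fun _ => (Cert rels S Gen.b)) lc_b_rc_9_2 lc_b_Cert_tree lc_b_rc_7_0 lc_b_Cert_tree lc_b_rc_30_5 lc_b_rc_10_2 lc_b_rc_8_2 lc_b_rc_10_2 lc_b_rc_7_0 lc_b_rc_7_0 lc_b_rc_7_0 lc_b_Cert_tree lc_b_rc_31_6 lc_b_rc_12_2 lc_b_rc_7_0 lc_b_rc_8_2 lc_b_rc_9_2 lc_b_rc_8_4 lc_b_rc_12_0 lc_b_rc_11_2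 lc_b_rc_8_4 lc_b_rc_1_3 lc_b_Cert_tree lc_b_rc_7_0 lc_b_rc_11_2 lc_b_rc_8_2 lc_b_Cert_tree lc_b_rc_7_0 lc_b_rc_7_0 lc_b_rc_12_2 lc_b_rc_1_3 lc_b_Cert_tree lc_b_rc_7_0 lc_b_rc_31_3 lc_b_rc_10_2 lc_b_rc_12_2 lc_b_rc_7_0 lc_b_rc_1_3 lc_b_rc_31_9 lc_b_rc_7_0) (@D3.rec (fun _ => (Cert rels S Gen.b)) lc_b_rc_30_9 lc_b_rc_1_3 lc_b_rc_11_2 lc_b_rc_7_0 lc_b_rc_31_3 lc_b_rc_7_1 lc_b_rc_9_2 lc_b_rc_7_1 lc_b_rc_8_2 lc_b_rc_7_0 lc_b_rc_9_2 lc_b_rc_1_5 lc_b_Cert_tree lc_b_rc_11_0 lc_b_rc_11_2 lc_b_rc_7_0 lc_b_rc_8_2 lc_b_rc_9_2 lc_b_rc_9_2 lc_b_rc_9_0 lc_b_rc_7_1 lc_b_rc_7_0 lc_b_rc_7_0 lc_b_rc_9_2 lc_b_rc_8_2 lc_b_rc_31_12 lc_b_rc_7_0 lc_b_rc_7_0 lc_b_rc_7_0 lc_b_rc_7_0 lc_b_rc_7_0 lc_b_rc_31_6 lc_b_rc_11_2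 lc_b_rc_10_2 lc_b_rc_9_2 lc_b_Cert_tree lc_b_rc_7_0 lc_b_rc_12_4 lc_b_rc_10_2 lc_b_rc_8_4) (@D3.rec (fun _ => (Cert rels S Gen.b)) lc_b_rc_9_2 lc_b_rc_7_0 lc_b_rc_1_7 lc_b_rc_7_0 lc_b_rc_31_12 lc_b_rc_9_2 lc_b_rc_8_2 lc_b_rc_9_2 lc_b_rc_7_0 lc_b_rc_30_13 lc_b_Cert_tree lc_b_rc_1_5 lc_b_rc_8_2 lc_b_rc_11_4 lc_b_rc_10_2 lc_b_Cert_tree lc_b_rc_7_0 lc_b_rc_1_7 lc_b_rc_8_2 lc_b_rc_12_2 lc_b_rc_10_2 lc_b_rc_8_4 lc_b_rc_8_2 lc_b_rc_7_0 lc_b_rc_10_2 lc_b_rc_7_0 lc_b_Cert_tree lc_b_rc_7_0 lc_b_rc_11_2 lc_b_rc_7_0 lc_b_rc_7_0 lc_b_rc_10_2 lc_b_rc_10_2 lc_b_rc_12_2 lc_b_rc_31_9 lc_b_rc_10_2 lc_b_rc_11_2 lc_b_rc_12_2 lc_b_rc_9_2 lc_b_rc_31_3) (@D3.rec (fun _ => (Cert rels S Gen.b)) lc_b_rc_30_13 lc_b_rc_1_3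 lc_b_rc_31_6 lc_b_Cert_tree lc_b_Cert_tree lc_b_rc_7_0 lc_b_rc_7_0 lc_b_rc_9_2 lc_b_rc_10_2 lc_b_Cert_tree lc_b_Cert_tree lc_b_rc_9_2 lc_b_rc_7_1 lc_b_rc_7_0 lc_b_rc_7_0 lc_b_rc_10_2 lc_b_Cert_tree lc_b_Cert_tree lc_b_rc_11_2 lc_b_rc_12_2 lc_b_rc_30_17 lc_b_rc_8_2 lc_b_rc_7_0 lc_b_rc_7_0 lc_b_rc_7_0 lc_b_rc_7_0 lc_b_rc_7_0 lc_b_rc_10_2 lc_b_rc_10_2 lc_b_rc_10_2 lc_b_rc_9_2 lc_b_Cert_tree lc_b_rc_7_0 lc_b_rc_9_2 lc_b_rc_8_2 lc_b_rc_8_4 lc_b_rc_9_2 lc_b_rc_7_0 lc_b_rc_1_7 lc_b_rc_7_0) (@D3.rec (fun _ => (Cert rels S Gen.b)) lc_b_rc_9_0 lc_b_rc_31_9 lc_b_rc_8_2 lc_b_rc_9_2 lc_b_rc_7_0 lc_b_rc_30_13 lc_b_Cert_tree lc_b_rc_8_2 lc_b_rc_8_2 lc_b_rc_11_4 lc_b_rc_10_2 lc_b_Cert_tree lc_b_rc_7_0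 lc_b_rc_7_0 lc_b_rc_8_2 lc_b_rc_11_2 lc_b_rc_8_4 lc_b_rc_8_4 lc_b_rc_8_2 lc_b_rc_7_0 lc_b_rc_31_9 lc_b_rc_12_4 lc_b_Cert_tree lc_b_rc_7_0 lc_b_rc_12_2 lc_b_rc_7_0 lc_b_rc_7_0 lc_b_rc_30_13 lc_b_rc_10_2 lc_b_rc_11_2 lc_b_rc_12_4 lc_b_rc_10_2 lc_b_rc_11_2 lc_b_rc_12_2 lc_b_rc_9_2 lc_b_rc_11_4 lc_b_rc_7_1 lc_b_rc_1_3 lc_b_rc_7_0 lc_b_Cert_tree) (@D3.rec (fun _ => (Cert rels S Gen.b)) lc_b_Cert_tree lc_b_rc_7_0 lc_b_rc_7_0 lc_b_rc_9_2 lc_b_rc_10_2 lc_b_Cert_tree lc_b_Cert_tree lc_b_rc_11_4 lc_b_rc_9_2 lc_b_rc_7_0 lc_b_rc_7_0 lc_b_rc_10_2 lc_b_Cert_tree lc_b_Cert_tree lc_b_rc_11_2 lc_b_rc_12_2 lc_b_rc_12_4 lc_b_rc_8_4 lc_b_rc_7_0 lc_b_rc_8_2 lc_b_rc_7_0 lc_b_rc_8_2 lc_b_rc_11_2 lc_b_rc_12_2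 lc_b_rc_7_0 lc_b_Cert_tree lc_b_Cert_tree lc_b_rc_10_2 lc_b_rc_11_2 lc_b_rc_12_2 lc_b_Cert_tree lc_b_rc_7_0 lc_b_Cert_tree lc_b_Cert_tree lc_b_rc_30_1 lc_b_rc_9_2 lc_b_rc_8_2 lc_b_rc_10_2 lc_b_Cert_tree lc_b_rc_7_0) (@D3.rec (fun _ => (Cert rels S Gen.b)) lc_b_rc_9_2 lc_b_rc_10_2 lc_b_Cert_tree lc_b_Cert_tree lc_b_rc_11_2 lc_b_rc_12_2 lc_b_rc_7_0 lc_b_rc_8_2 lc_b_rc_7_0 lc_b_rc_8_2 lc_b_rc_11_2 lc_b_rc_12_2 lc_b_rc_7_0 lc_b_Cert_tree lc_b_Cert_tree lc_b_rc_10_2 lc_b_rc_11_2 lc_b_rc_12_2 lc_b_Cert_tree lc_b_rc_7_0 lc_b_Cert_tree lc_b_Cert_tree lc_b_rc_12_4 lc_b_rc_9_0 lc_b_rc_8_2 lc_b_rc_10_2 lc_b_rc_9_2 lc_b_rc_10_2 lc_b_Cert_tree lc_b_rc_11_2 lc_b_rc_31_9 lc_b_rc_7_0 lc_b_rc_7_0 lc_b_rc_12_4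 lc_b_rc_8_2 lc_b_rc_7_0 lc_b_rc_7_0 lc_b_rc_11_4 lc_b_rc_7_0 lc_b_rc_8_4) (@D3.rec (fun _ => (Cert rels S Gen.b)) lc_b_rc_1_7 lc_b_rc_7_1 lc_b_rc_10_2 lc_b_rc_31_6 lc_b_rc_31_6 lc_b_rc_9_2 lc_b_rc_10_0 lc_b_rc_1_1 lc_b_rc_9_2 lc_b_rc_9_0 lc_b_rc_31_9 lc_b_rc_7_0 lc_b_rc_9_2 lc_b_rc_9_0 lc_b_rc_9_0 lc_b_rc_11_2 lc_b_rc_7_0 lc_b_rc_10_2 lc_b_rc_12_2 lc_b_rc_30_5 lc_b_rc_10_2 lc_b_rc_10_2 lc_b_rc_31_9 lc_b_rc_10_0 lc_b_rc_9_2 lc_b_rc_7_0 lc_b_rc_31_3 lc_b_rc_7_0 lc_b_rc_31_3 lc_b_rc_7_0 lc_b_rc_7_0 lc_b_rc_8_2 lc_b_rc_9_2 lc_b_rc_10_0 lc_b_rc_8_2 lc_b_rc_9_0 lc_b_rc_9_2 lc_b_rc_1_3 lc_b_rc_9_2 lc_b_rc_31_6) (@D3.rec (fun _ => (Cert rels S Gen.b)) lc_b_rc_1_7 lc_b_rc_10_2 lc_b_rc_31_9 lc_b_rc_10_2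 lc_b_rc_12_2 lc_b_rc_11_2 lc_b_rc_8_2 lc_b_rc_7_1 lc_b_rc_1_7 lc_b_rc_8_2 lc_b_rc_11_2 lc_b_rc_1_5 lc_b_rc_30_9 lc_b_Cert_tree lc_b_rc_7_0 lc_b_rc_7_0 lc_b_rc_10_0 lc_b_rc_8_2 lc_b_rc_7_0 lc_b_rc_8_2 lc_b_rc_31_6 lc_b_rc_10_2 lc_b_rc_1_3 lc_b_rc_9_2 lc_b_rc_8_2 lc_b_rc_10_0 lc_b_rc_10_2 lc_b_rc_7_0 lc_b_rc_10_2 lc_b_rc_11_2 lc_b_rc_30_9 lc_b_rc_9_0 lc_b_rc_12_2 lc_b_rc_1_3 lc_b_rc_8_2 lc_b_rc_12_2 lc_b_rc_1_5 lc_b_rc_30_13 lc_b_Cert_tree lc_b_rc_7_0) (@D3.rec (fun _ => (Cert rels S Gen.b)) lc_b_rc_7_1 lc_b_rc_1_3 lc_b_rc_31_6 lc_b_rc_12_2 lc_b_rc_1_5 lc_b_rc_10_2 lc_b_rc_7_0 lc_b_rc_7_0 lc_b_rc_31_9 lc_b_rc_30_13 lc_b_rc_1_3 lc_b_rc_10_2 lc_b_rc_11_2 lc_b_rc_1_5 lc_b_rc_10_2 lc_b_rc_7_0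 lc_b_rc_7_0 lc_b_rc_10_0 lc_b_rc_7_0 lc_b_rc_7_0 lc_b_rc_8_2 lc_b_rc_12_2 lc_b_rc_7_0 lc_b_rc_7_0 lc_b_rc_7_0 lc_b_rc_8_2 lc_b_rc_11_2 lc_b_rc_7_0 lc_b_rc_30_9 lc_b_rc_7_1 lc_b_rc_9_2 lc_b_rc_1_5 lc_b_rc_10_2 lc_b_rc_31_6 lc_b_rc_9_2 lc_b_rc_7_1 lc_b_rc_30_13 lc_b_rc_9_2 lc_b_rc_30_9 lc_b_rc_9_2) (@D3.rec (fun _ => (Cert rels S Gen.b)) lc_b_rc_1_5 lc_b_rc_9_2 lc_b_rc_32_46 lc_b_rc_11_0 lc_b_rc_32_67 lc_b_rc_9_2 lc_b_rc_11_2 lc_b_Cert_tree lc_b_rc_9_2 lc_b_rc_11_2 lc_b_rc_12_2 lc_b_Cert_tree lc_b_rc_9_2 lc_b_rc_12_2 lc_b_Cert_tree lc_b_Cert_tree lc_b_rc_30_5 lc_b_rc_10_2 lc_b_Cert_tree lc_b_Cert_tree lc_b_rc_30_9 lc_b_rc_12_2 lc_b_rc_7_0 lc_b_rc_7_0 lc_b_rc_10_2 lc_b_rc_9_2 lc_b_rc_8_4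 lc_b_rc_7_0 lc_b_rc_31_6 lc_b_rc_30_9 lc_b_rc_9_2 lc_b_rc_7_1 lc_b_rc_30_5 lc_b_rc_7_0 lc_b_rc_8_2 lc_b_rc_8_2 lc_b_rc_9_2 lc_b_rc_9_2 lc_b_rc_7_0 lc_b_rc_7_0) (@D3.rec (fun _ => (Cert rels S Gen.b)) lc_b_rc_7_0 lc_b_rc_7_0 lc_b_Cert_tree lc_b_rc_12_2 lc_b_rc_7_0 lc_b_rc_10_2 lc_b_rc_10_2 lc_b_Cert_tree lc_b_rc_9_2 lc_b_Cert_tree lc_b_rc_7_0 lc_b_rc_7_0 lc_b_rc_11_2 lc_b_rc_8_2 lc_b_rc_11_2 lc_b_rc_8_4 lc_b_rc_9_2 lc_b_rc_9_2 lc_b_rc_7_0 lc_b_rc_8_4 lc_b_rc_7_0 lc_b_rc_9_2 lc_b_rc_8_4 lc_b_Cert_tree lc_b_rc_9_2 lc_b_Cert_tree lc_b_rc_10_2 lc_b_rc_7_0 lc_b_Cert_tree lc_b_rc_7_0 lc_b_Cert_tree lc_b_rc_11_2 lc_b_rc_7_0 lc_b_rc_10_2 lc_b_rc_10_2 lc_b_Cert_tree lc_b_rc_9_2 lc_b_Cert_tree lc_b_rc_7_0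 lc_b_rc_7_0) (@D3.rec (fun _ => (Cert rels S Gen.b)) lc_b_rc_12_2 lc_b_rc_8_2 lc_b_rc_12_2 lc_b_rc_30_13 lc_b_rc_9_2 lc_b_rc_9_2 lc_b_rc_7_0 lc_b_rc_7_1 lc_b_rc_7_0 lc_b_rc_9_2 lc_b_rc_12_2 lc_b_Cert_tree lc_b_rc_9_2 lc_b_Cert_tree lc_b_rc_30_17 lc_b_rc_7_0 lc_b_Cert_tree lc_b_rc_7_0 lc_b_rc_9_2 lc_b_rc_8_2 lc_b_rc_9_2 lc_b_rc_7_0 lc_b_rc_9_2 lc_b_rc_8_2 lc_b_rc_9_2 lc_b_rc_7_0 lc_b_rc_11_4 lc_b_rc_1_5 lc_b_rc_10_2 lc_b_Cert_tree lc_b_rc_7_0 lc_b_rc_1_5 lc_b_rc_12_0 lc_b_rc_11_2 lc_b_rc_1_5 lc_b_rc_10_2 lc_b_rc_9_2 lc_b_rc_12_4 lc_b_rc_9_2 lc_b_rc_11_4) (@D3.rec (fun _ => (Cert rels S Gen.b)) lc_b_rc_8_4 lc_b_Cert_tree lc_b_rc_7_0 lc_b_Cert_tree lc_b_rc_31_9 lc_b_rc_8_2 lc_b_rc_7_0 lc_b_rc_7_0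 lc_b_rc_31_3 lc_b_rc_8_2 lc_b_rc_12_2 lc_b_rc_7_0 lc_b_rc_31_6 lc_b_rc_9_2 lc_b_rc_12_4 lc_b_rc_31_6 lc_b_rc_7_0 lc_b_rc_8_2 lc_b_rc_10_2 lc_b_rc_1_5 lc_b_rc_9_2 lc_b_rc_11_2 lc_b_rc_12_2 lc_b_rc_9_2 lc_b_rc_9_2 lc_b_rc_7_0 lc_b_rc_10_2 lc_b_rc_31_9 lc_b_rc_7_0 lc_b_rc_7_0 lc_b_rc_9_2 lc_b_rc_11_2 lc_b_rc_9_2 lc_b_rc_8_2 lc_b_rc_10_2 lc_b_rc_9_2 lc_b_rc_9_2 lc_b_rc_12_2 lc_b_rc_31_9 lc_b_rc_10_2)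
def ce_b_17 : D2 → D3 → (Cert rels S Gen.b) := @D2.rec (fun _ => D3 → (Cert rels S Gen.b)) (@D3.rec (fun _ => (Cert rels S Gen.b)) lc_b_rc_9_2 lc_b_rc_9_2 lc_b_rc_7_0 lc_b_rc_8_2 lc_b_rc_10_2 lc_b_Cert_tree lc_b_rc_8_4 lc_b_rc_9_2 lc_b_Cert_tree lc_b_rc_7_0 lc_b_rc_9_2 lc_b_rc_7_1 lc_b_rc_7_0 lc_b_rc_1_7 lc_b_rc_8_2 lc_b_rc_11_2 lc_b_rc_10_2 lc_b_rc_9_2 lc_b_rc_1_3 lc_b_rc_7_0 lc_b_rc_10_2 lc_b_Cert_tree lc_b_rc_7_0 lc_b_rc_1_5 lc_b_rc_30_1 lc_b_rc_12_2 lc_b_rc_9_0 lc_b_rc_10_2 lc_b_rc_9_2 lc_b_rc_11_4 lc_b_rc_30_5 lc_b_rc_9_2 lc_b_rc_8_4 lc_b_Cert_tree lc_b_rc_7_0 lc_b_Cert_tree lc_b_rc_7_0 lc_b_rc_9_0 lc_b_rc_7_0 lc_b_rc_7_0) (@D3.rec (fun _ => (Cert rels S Gen.b)) lc_b_rc_11_2 lc_b_rc_30_9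 lc_b_rc_1_7 lc_b_rc_9_2 lc_b_rc_7_0 lc_b_rc_7_0 lc_b_rc_10_2 lc_b_rc_8_4 lc_b_rc_1_5 lc_b_rc_9_2 lc_b_rc_11_2 lc_b_rc_12_2 lc_b_rc_9_2 lc_b_rc_7_0 lc_b_rc_7_0 lc_b_rc_10_2 lc_b_rc_7_0 lc_b_rc_7_0 lc_b_rc_12_2 lc_b_rc_11_4 lc_b_rc_9_2 lc_b_rc_10_2 lc_b_rc_8_2 lc_b_rc_9_2 lc_b_rc_9_2 lc_b_rc_31_6 lc_b_rc_11_2 lc_b_rc_7_0 lc_b_rc_9_2 lc_b_rc_9_2 lc_b_rc_7_0 lc_b_rc_8_2 lc_b_rc_10_2 lc_b_rc_9_0 lc_b_Cert_tree lc_b_rc_1_5 lc_b_Cert_tree lc_b_rc_7_0 lc_b_rc_1_1 lc_b_rc_31_12) (@D3.rec (fun _ => (Cert rels S Gen.b)) lc_b_rc_7_0 lc_b_rc_11_2 lc_b_rc_8_2 lc_b_rc_12_2 lc_b_rc_9_2 lc_b_rc_9_2 lc_b_rc_11_4 lc_b_rc_9_2 lc_b_rc_10_2 lc_b_Cert_tree lc_b_rc_9_2 lc_b_rc_7_0 lc_b_rc_9_2 lc_b_rc_10_2 lc_b_Cert_tree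 lc_b_rc_12_4 lc_b_rc_7_1 lc_b_rc_31_9 lc_b_rc_7_0 lc_b_rc_10_2 lc_b_rc_8_0 lc_b_rc_10_0 lc_b_rc_11_2 lc_b_rc_12_2 lc_b_Cert_tree lc_b_rc_10_2 lc_b_rc_7_0 lc_b_rc_9_2 lc_b_Cert_tree lc_b_rc_7_0 lc_b_rc_9_2 lc_b_rc_10_2 lc_b_rc_30_9 lc_b_Cert_tree lc_b_rc_7_0 lc_b_rc_10_2 lc_b_rc_30_13 lc_b_rc_8_0 lc_b_rc_11_2 lc_b_rc_12_2) (@D3.rec (fun _ => (Cert rels S Gen.b)) lc_b_rc_9_2 lc_b_Cert_tree lc_b_rc_7_0 lc_b_Cert_tree lc_b_Cert_tree lc_b_rc_32_31 lc_b_rc_32_57 lc_b_rc_1_1 lc_b_rc_1_7 lc_b_Cert_tree lc_b_rc_7_0 lc_b_rc_9_2 lc_b_rc_10_2 lc_b_Cert_tree lc_b_rc_8_4 lc_b_rc_11_2 lc_b_rc_12_2 lc_b_rc_7_0 lc_b_Cert_tree lc_b_Cert_tree lc_b_rc_8_4 lc_b_rc_9_2 lc_b_rc_7_0 lc_b_rc_1_7 lc_b_rc_9_2 lc_b_rc_10_2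 lc_b_rc_8_4 lc_b_rc_11_2 lc_b_rc_7_0 lc_b_rc_7_0 lc_b_rc_11_2 lc_b_rc_30_17 lc_b_rc_7_0 lc_b_rc_10_2 lc_b_rc_7_0 lc_b_rc_7_1 lc_b_rc_8_2 lc_b_rc_12_2 lc_b_rc_7_0 lc_b_rc_12_2) (@D3.rec (fun _ => (Cert rels S Gen.b)) lc_b_rc_12_2 lc_b_rc_8_4 lc_b_rc_7_0 lc_b_rc_10_2 lc_b_rc_7_0 lc_b_rc_31_12 lc_b_rc_11_2 lc_b_rc_8_2 lc_b_rc_7_0 lc_b_rc_30_13 lc_b_rc_11_2 lc_b_rc_31_3 lc_b_rc_31_9 lc_b_rc_11_2 lc_b_rc_30_13 lc_b_rc_12_2 lc_b_rc_12_4 lc_b_rc_31_6 lc_b_rc_8_2 lc_b_rc_10_2 lc_b_rc_12_2 lc_b_rc_30_9 lc_b_rc_10_2 lc_b_rc_31_3 lc_b_rc_10_2 lc_b_rc_7_0 lc_b_rc_30_9 lc_b_rc_11_2 lc_b_rc_31_6 lc_b_rc_30_9 lc_b_rc_8_2 lc_b_rc_10_2 lc_b_rc_11_2 lc_b_rc_1_5 lc_b_rc_9_2 lc_b_rc_31_9 lc_b_rc_12_4 lc_b_rc_7_0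 lc_b_rc_9_2 lc_b_rc_10_2) (@D3.rec (fun _ => (Cert rels S Gen.b)) lc_b_rc_1_3 lc_b_rc_1_3 lc_b_rc_7_0 lc_b_rc_31_6 lc_b_rc_7_0 lc_b_rc_31_9 lc_b_rc_1_3 lc_b_rc_1_3 lc_b_rc_31_6 lc_b_rc_7_0 lc_b_rc_10_2 lc_b_rc_7_0 lc_b_rc_9_2 lc_b_rc_8_4 lc_b_rc_1_3 lc_b_rc_31_6 lc_b_rc_10_2 lc_b_rc_9_2 lc_b_rc_31_6 lc_b_rc_9_2 lc_b_rc_9_0 lc_b_rc_31_3 lc_b_rc_7_1 lc_b_rc_7_1 lc_b_rc_7_1 lc_b_rc_11_4 lc_b_rc_7_0 lc_b_rc_7_0 lc_b_rc_11_2 lc_b_rc_8_2 lc_b_rc_8_2 lc_b_rc_1_7 lc_b_rc_10_2 lc_b_rc_10_2 lc_b_rc_9_2 lc_b_rc_12_4 lc_b_rc_31_9 lc_b_rc_1_7 lc_b_rc_10_2 lc_b_rc_9_2) (@D3.rec (fun _ => (Cert rels S Gen.b)) lc_b_rc_1_1 lc_b_rc_9_2 lc_b_rc_8_4 lc_b_rc_7_0 lc_b_rc_12_2 lc_b_rc_7_0 lc_b_rc_8_2 lc_b_rc_10_2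 lc_b_rc_10_2 lc_b_rc_8_2 lc_b_rc_10_2 lc_b_rc_9_2 lc_b_Cert_tree lc_b_rc_7_0 lc_b_rc_1_7 lc_b_rc_10_2 lc_b_rc_31_3 lc_b_rc_10_2 lc_b_rc_10_2 lc_b_rc_12_2 lc_b_rc_30_9 lc_b_rc_11_2 lc_b_Cert_tree lc_b_rc_7_0 lc_b_rc_1_7 lc_b_rc_10_2 lc_b_rc_31_6 lc_b_rc_10_2 lc_b_rc_11_2 lc_b_rc_10_2 lc_b_rc_10_2 lc_b_rc_12_2 lc_b_rc_8_2 lc_b_rc_8_4 lc_b_rc_12_2 lc_b_rc_8_4 lc_b_rc_9_2 lc_b_rc_8_4 lc_b_rc_7_0 lc_b_rc_8_2) (@D3.rec (fun _ => (Cert rels S Gen.b)) lc_b_rc_9_2 lc_b_rc_9_2 lc_b_rc_31_12 lc_b_rc_7_0 lc_b_rc_30_17 lc_b_rc_9_2 lc_b_rc_32_36 lc_b_rc_7_0 lc_b_rc_8_2 lc_b_rc_32_67 lc_b_rc_31_6 lc_b_rc_8_2 lc_b_rc_1_7 lc_b_Cert_tree lc_b_rc_8_2 lc_b_rc_10_2 lc_b_rc_31_9 lc_b_rc_7_0 lc_b_rc_9_2 lc_b_Cert_tree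 lc_b_rc_8_2 lc_b_rc_10_2 lc_b_rc_31_3 lc_b_rc_7_0 lc_b_rc_10_2 lc_b_rc_8_2 lc_b_rc_11_0 lc_b_rc_7_0 lc_b_rc_9_2 lc_b_Cert_tree lc_b_rc_11_4 lc_b_rc_7_0 lc_b_rc_10_2 lc_b_rc_8_2 lc_b_rc_12_0 lc_b_rc_7_0 lc_b_rc_9_2 lc_b_Cert_tree lc_b_rc_9_0 lc_b_rc_7_0) (@D3.rec (fun _ => (Cert rels S Gen.b)) lc_b_rc_9_2 lc_b_rc_11_2 lc_b_rc_12_2 lc_b_rc_32_67 lc_b_rc_9_2 lc_b_rc_11_2 lc_b_rc_12_2 lc_b_rc_8_2 lc_b_rc_1_5 lc_b_Cert_tree lc_b_rc_7_0 lc_b_rc_9_2 lc_b_rc_30_5 lc_b_rc_10_2 lc_b_rc_1_5 lc_b_Cert_tree lc_b_rc_7_0 lc_b_rc_9_2 lc_b_rc_8_4 lc_b_rc_10_2 lc_b_rc_10_2 lc_b_rc_9_2 lc_b_Cert_tree lc_b_Cert_tree lc_b_rc_7_0 lc_b_rc_1_9 lc_b_rc_31_12 lc_b_rc_7_0 lc_b_rc_8_4 lc_b_rc_8_2 lc_b_rc_10_2 lc_b_rc_11_2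 lc_b_rc_7_0 lc_b_rc_7_0 lc_b_rc_1_1 lc_b_rc_11_2 lc_b_rc_9_2 lc_b_Cert_tree lc_b_rc_30_17 lc_b_rc_12_2) (@D3.rec (fun _ => (Cert rels S Gen.b)) lc_b_Cert_tree lc_b_rc_7_0 lc_b_Cert_tree lc_b_rc_12_0 lc_b_rc_7_0 lc_b_rc_1_7 lc_b_Cert_tree lc_b_rc_9_0 lc_b_rc_7_0 lc_b_rc_32_31 lc_b_Cert_tree lc_b_rc_9_2 lc_b_rc_7_0 lc_b_rc_7_1 lc_b_Cert_tree lc_b_rc_9_2 lc_b_rc_7_0 lc_b_rc_8_4 lc_b_rc_8_2 lc_b_rc_10_2 lc_b_rc_12_2 lc_b_rc_7_0 lc_b_rc_7_0 lc_b_rc_9_2 lc_b_rc_10_0 lc_b_rc_9_2 lc_b_rc_30_17 lc_b_Cert_tree lc_b_rc_10_2 lc_b_Cert_tree lc_b_rc_7_0 lc_b_Cert_tree lc_b_rc_30_5 lc_b_rc_7_0 lc_b_rc_9_2 lc_b_Cert_tree lc_b_rc_9_0 lc_b_rc_7_0 lc_b_rc_11_0 lc_b_rc_9_2) (@D3.rec (fun _ => (Cert rels S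 Gen.b)) lc_b_rc_7_0 lc_b_rc_7_0 lc_b_rc_1_3 lc_b_Cert_tree lc_b_Cert_tree lc_b_rc_9_2 lc_b_rc_7_0 lc_b_rc_12_2 lc_b_rc_9_2 lc_b_rc_7_0 lc_b_Cert_tree lc_b_rc_12_2 lc_b_rc_7_1 lc_b_rc_10_2 lc_b_Cert_tree lc_b_rc_12_4 lc_b_Cert_tree lc_b_rc_7_0 lc_b_rc_9_2 lc_b_rc_7_0 lc_b_Cert_tree lc_b_rc_7_0 lc_b_Cert_tree lc_b_rc_8_2 lc_b_rc_11_2 lc_b_rc_9_2 lc_b_rc_8_2 lc_b_rc_7_0 lc_b_rc_30_13 lc_b_Cert_tree lc_b_rc_31_12 lc_b_rc_7_1 lc_b_rc_7_0 lc_b_rc_8_4 lc_b_rc_12_2 lc_b_rc_11_2 lc_b_rc_9_0 lc_b_rc_7_0 lc_b_rc_11_2 lc_b_rc_7_0) (@D3.rec (fun _ => (Cert rels S Gen.b)) lc_b_rc_9_2 lc_b_Cert_tree lc_b_rc_31_3 lc_b_rc_7_0 lc_b_rc_31_6 lc_b_rc_7_0 lc_b_rc_12_4 lc_b_rc_12_2 lc_b_rc_31_3 lc_b_rc_9_0 lc_b_rc_7_0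 lc_b_rc_11_2 lc_b_rc_9_0 lc_b_rc_31_12 lc_b_rc_7_0 lc_b_rc_7_0 lc_b_rc_10_2 lc_b_Cert_tree lc_b_Cert_tree lc_b_rc_7_0 lc_b_rc_7_1 lc_b_rc_9_2 lc_b_rc_7_0 lc_b_rc_7_0 lc_b_Cert_tree lc_b_rc_11_2 lc_b_rc_11_2 lc_b_rc_10_2 lc_b_Cert_tree lc_b_rc_31_12 lc_b_Cert_tree lc_b_rc_7_0 lc_b_rc_9_2 lc_b_rc_7_0 lc_b_Cert_tree lc_b_rc_7_0 lc_b_Cert_tree lc_b_rc_8_2 lc_b_rc_12_2 lc_b_rc_10_2) (@D3.rec (fun _ => (Cert rels S Gen.b)) lc_b_rc_8_2 lc_b_rc_7_0 lc_b_rc_8_4 lc_b_Cert_tree lc_b_rc_32_41 lc_b_rc_31_6 lc_b_rc_7_0 lc_b_rc_11_4 lc_b_rc_12_4 lc_b_rc_12_2 lc_b_rc_32_26 lc_b_rc_1_5 lc_b_rc_9_0 lc_b_rc_7_0 lc_b_Cert_tree lc_b_rc_7_0 lc_b_rc_7_0 lc_b_rc_7_0 lc_b_rc_11_4 lc_b_rc_10_2 lc_b_rc_31_3 lc_b_rc_9_0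 lc_b_rc_7_0 lc_b_rc_12_2 lc_b_Cert_tree lc_b_rc_9_2 lc_b_rc_10_2 lc_b_rc_7_0 lc_b_Cert_tree lc_b_rc_9_2 lc_b_Cert_tree lc_b_rc_31_9 lc_b_rc_7_0 lc_b_Cert_tree lc_b_rc_7_0 lc_b_Cert_tree lc_b_rc_8_2 lc_b_rc_11_2 lc_b_rc_8_2 lc_b_rc_1_5) (@D3.rec (fun _ => (Cert rels S Gen.b)) lc_b_rc_1_3 lc_b_rc_12_2 lc_b_rc_7_0 lc_b_rc_7_0 lc_b_rc_8_2 lc_b_rc_8_2 lc_b_Cert_tree lc_b_rc_7_0 lc_b_Cert_tree lc_b_Cert_tree lc_b_rc_9_2 lc_b_rc_10_2 lc_b_rc_7_0 lc_b_Cert_tree lc_b_rc_9_2 lc_b_Cert_tree lc_b_rc_7_0 lc_b_rc_30_13 lc_b_Cert_tree lc_b_rc_7_0 lc_b_Cert_tree lc_b_rc_8_2 lc_b_rc_12_2 lc_b_rc_8_2 lc_b_rc_9_2 lc_b_rc_31_9 lc_b_rc_30_17 lc_b_rc_7_0 lc_b_rc_9_2 lc_b_rc_8_2 lc_b_rc_12_2 lc_b_Cert_tree lc_b_rc_7_0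 lc_b_Cert_tree lc_b_rc_11_2 lc_b_Cert_tree lc_b_rc_9_2 lc_b_rc_12_4 lc_b_rc_9_0 lc_b_rc_7_0) (@D3.rec (fun _ => (Cert rels S Gen.b)) lc_b_rc_8_4 lc_b_Cert_tree lc_b_rc_7_0 lc_b_Cert_tree lc_b_rc_8_2 lc_b_rc_11_2 lc_b_rc_11_0 lc_b_rc_30_9 lc_b_rc_7_0 lc_b_rc_11_0 lc_b_rc_9_2 lc_b_rc_32_41 lc_b_rc_9_2 lc_b_Cert_tree lc_b_rc_7_0 lc_b_rc_7_1 lc_b_rc_12_2 lc_b_rc_12_2 lc_b_rc_7_0 lc_b_rc_10_2 lc_b_Cert_tree lc_b_rc_8_2 lc_b_rc_11_4 lc_b_rc_7_0 lc_b_rc_8_4 lc_b_Cert_tree lc_b_rc_9_2 lc_b_rc_31_6 lc_b_Cert_tree lc_b_rc_7_0 lc_b_Cert_tree lc_b_rc_9_2 lc_b_rc_12_2 lc_b_rc_9_2 lc_b_Cert_tree lc_b_rc_11_2 lc_b_rc_7_0 lc_b_rc_11_0 lc_b_rc_9_2 lc_b_rc_12_4) (@D3.rec (fun _ => (Cert rels S Gen.b)) lc_b_rc_30_13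 lc_b_rc_7_0 lc_b_rc_7_0 lc_b_rc_9_2 lc_b_rc_7_0 lc_b_rc_7_0 lc_b_rc_31_6 lc_b_rc_30_5 lc_b_Cert_tree lc_b_rc_10_2 lc_b_rc_8_2 lc_b_rc_12_2 lc_b_rc_7_0 lc_b_rc_7_1 lc_b_Cert_tree lc_b_rc_9_2 lc_b_rc_9_0 lc_b_rc_7_0 lc_b_rc_11_4 lc_b_rc_9_0 lc_b_Cert_tree lc_b_rc_7_0 lc_b_Cert_tree lc_b_rc_8_2 lc_b_rc_12_2 lc_b_rc_1_7 lc_b_rc_7_0 lc_b_rc_31_9 lc_b_rc_7_1 lc_b_rc_9_2 lc_b_Cert_tree lc_b_rc_7_0 lc_b_rc_7_1 lc_b_rc_11_2 lc_b_rc_31_9 lc_b_rc_7_0 lc_b_rc_9_2 lc_b_Cert_tree lc_b_rc_8_2 lc_b_rc_12_4) (@D3.rec (fun _ => (Cert rels S Gen.b)) lc_b_rc_7_0 lc_b_rc_9_0 lc_b_Cert_tree lc_b_rc_9_2 lc_b_rc_8_4 lc_b_Cert_tree lc_b_rc_7_0 lc_b_Cert_tree lc_b_rc_9_2 lc_b_rc_11_2 lc_b_rc_9_2 lc_b_Cert_tree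 lc_b_rc_12_2 lc_b_rc_7_0 lc_b_rc_1_1 lc_b_rc_9_2 lc_b_rc_10_2 lc_b_rc_12_4 lc_b_rc_7_0 lc_b_rc_11_0 lc_b_rc_9_2 lc_b_rc_11_2 lc_b_rc_7_0 lc_b_rc_30_13 lc_b_rc_1_7 lc_b_Cert_tree lc_b_rc_9_2 lc_b_rc_8_2 lc_b_rc_10_2 lc_b_rc_7_0 lc_b_rc_7_0 lc_b_Cert_tree lc_b_rc_9_2 lc_b_Cert_tree lc_b_rc_10_2 lc_b_Cert_tree lc_b_rc_7_0 lc_b_rc_7_0 lc_b_Cert_tree lc_b_rc_8_2) (@D3.rec (fun _ => (Cert rels S Gen.b)) lc_b_rc_7_0 lc_b_Cert_tree lc_b_rc_7_0 lc_b_Cert_tree lc_b_Cert_tree lc_b_rc_7_0 lc_b_Cert_tree lc_b_rc_7_0 lc_b_rc_31_6 lc_b_Cert_tree lc_b_rc_7_0 lc_b_rc_7_0 lc_b_rc_7_0 lc_b_rc_12_2 lc_b_rc_8_2 lc_b_rc_31_3 lc_b_rc_8_2 lc_b_rc_12_2 lc_b_rc_10_2 lc_b_rc_7_1 lc_b_rc_8_2 lc_b_rc_10_2 lc_b_rc_1_3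 lc_b_Cert_tree lc_b_rc_11_2 lc_b_rc_7_0 lc_b_rc_7_1 lc_b_Cert_tree lc_b_rc_9_2 lc_b_rc_1_7 lc_b_rc_7_0 lc_b_Cert_tree lc_b_rc_7_0 lc_b_rc_7_0 lc_b_rc_12_2 lc_b_Cert_tree lc_b_rc_9_2 lc_b_rc_10_2 lc_b_rc_9_2 lc_b_rc_11_4) (@D3.rec (fun _ => (Cert rels S Gen.b)) lc_b_rc_12_2 lc_b_rc_9_0 lc_b_rc_7_0 lc_b_rc_9_0 lc_b_rc_10_2 lc_b_rc_10_0 lc_b_rc_7_0 lc_b_rc_31_3 lc_b_rc_8_2 lc_b_rc_11_2 lc_b_rc_1_5 lc_b_rc_1_1 lc_b_rc_7_0 lc_b_Cert_tree lc_b_rc_1_5 lc_b_Cert_tree lc_b_rc_7_0 lc_b_Cert_tree lc_b_rc_7_0 lc_b_rc_7_0 lc_b_Cert_tree lc_b_rc_30_5 lc_b_rc_7_0 lc_b_Cert_tree lc_b_rc_7_0 lc_b_Cert_tree lc_b_Cert_tree lc_b_rc_7_0 lc_b_Cert_tree lc_b_rc_30_13 lc_b_Cert_tree lc_b_rc_7_0 lc_b_rc_7_0 lc_b_rc_7_0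 lc_b_rc_7_0 lc_b_rc_12_0 lc_b_rc_8_2 lc_b_rc_7_0 lc_b_rc_9_2 lc_b_rc_8_2) (@D3.rec (fun _ => (Cert rels S Gen.b)) lc_b_rc_7_0 lc_b_rc_10_2 lc_b_rc_31_3 lc_b_rc_10_2 lc_b_rc_1_3 lc_b_Cert_tree lc_b_rc_31_6 lc_b_rc_7_0 lc_b_rc_9_2 lc_b_Cert_tree lc_b_rc_9_2 lc_b_rc_1_7 lc_b_rc_7_0 lc_b_Cert_tree lc_b_rc_7_0 lc_b_rc_7_0 lc_b_Cert_tree lc_b_rc_8_4 lc_b_rc_1_1 lc_b_rc_10_2 lc_b_rc_11_2 lc_b_rc_7_1 lc_b_rc_11_2 lc_b_rc_10_0 lc_b_rc_7_0 lc_b_rc_9_2 lc_b_rc_8_2 lc_b_rc_12_2 lc_b_rc_1_5 lc_b_rc_30_9 lc_b_Cert_tree lc_b_Cert_tree lc_b_rc_7_0 lc_b_rc_8_2 lc_b_rc_9_2 lc_b_rc_8_2 lc_b_rc_11_2 lc_b_rc_31_3 lc_b_Cert_tree lc_b_rc_8_2) (@D3.rec (fun _ => (Cert rels S Gen.b)) lc_b_rc_7_0 lc_b_Cert_tree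 lc_b_rc_10_0 lc_b_Cert_tree lc_b_rc_30_17 lc_b_rc_7_0 lc_b_Cert_tree lc_b_rc_7_0 lc_b_rc_12_2 lc_b_Cert_tree lc_b_rc_7_0 lc_b_rc_7_0 lc_b_rc_1_7 lc_b_rc_11_2 lc_b_rc_9_2 lc_b_rc_8_2 lc_b_rc_12_2 lc_b_rc_9_2 lc_b_Cert_tree lc_b_Cert_tree lc_b_rc_7_0 lc_b_rc_9_2 lc_b_rc_8_2 lc_b_rc_12_2 lc_b_rc_32_46 lc_b_rc_7_0 lc_b_Cert_tree lc_b_rc_7_0 lc_b_Cert_tree lc_b_rc_30_13 lc_b_rc_32_36 lc_b_Cert_tree lc_b_rc_7_0 lc_b_Cert_tree lc_b_rc_30_17 lc_b_rc_30_13 lc_b_Cert_tree lc_b_rc_7_0 lc_b_rc_7_0 lc_b_rc_7_0) (@D3.rec (fun _ => (Cert rels S Gen.b)) lc_b_rc_9_2 lc_b_rc_8_2 lc_b_rc_31_9 lc_b_rc_1_7 lc_b_rc_12_2 lc_b_rc_9_2 lc_b_rc_7_1 lc_b_rc_8_2 lc_b_rc_7_0 lc_b_rc_12_4 lc_b_rc_7_0 lc_b_rc_11_4 lc_b_Cert_tree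 lc_b_rc_10_2 lc_b_rc_7_0 lc_b_rc_12_4 lc_b_Cert_tree lc_b_rc_10_2 lc_b_rc_7_0 lc_b_rc_7_1 lc_b_rc_10_2 lc_b_rc_8_2 lc_b_rc_31_3 lc_b_rc_1_5 lc_b_rc_10_0 lc_b_rc_10_2 lc_b_rc_7_0 lc_b_rc_1_3 lc_b_rc_9_2 lc_b_rc_7_0 lc_b_rc_10_2 lc_b_rc_10_2 lc_b_rc_9_2 lc_b_rc_7_0 lc_b_rc_10_0 lc_b_rc_9_2 lc_b_rc_8_2 lc_b_rc_7_0 lc_b_rc_9_2 lc_b_rc_10_2) (@D3.rec (fun _ => (Cert rels S Gen.b)) lc_b_rc_7_0 lc_b_rc_9_2 lc_b_rc_30_5 lc_b_rc_1_5 lc_b_rc_10_2 lc_b_rc_7_0 lc_b_rc_9_2 lc_b_rc_10_2 lc_b_rc_9_0 lc_b_rc_10_2 lc_b_rc_8_2 lc_b_rc_7_0 lc_b_rc_9_2 lc_b_rc_10_2 lc_b_rc_30_9 lc_b_rc_9_2 lc_b_rc_1_3 lc_b_rc_10_2 lc_b_rc_10_2 lc_b_rc_9_2 lc_b_rc_10_2 lc_b_rc_9_0 lc_b_rc_31_6 lc_b_rc_10_2 lc_b_rc_11_2 lc_b_rc_7_0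 lc_b_rc_11_2 lc_b_rc_7_0 lc_b_rc_10_2 lc_b_rc_12_4 lc_b_rc_7_0 lc_b_rc_30_9 lc_b_rc_7_0 lc_b_rc_7_0 lc_b_rc_12_2 lc_b_rc_30_13 lc_b_rc_7_0 lc_b_rc_10_2 lc_b_rc_9_2 lc_b_rc_7_0) (@D3.rec (fun _ => (Cert rels S Gen.b)) lc_b_rc_11_2 lc_b_rc_7_0 lc_b_rc_8_2 lc_b_rc_30_9 lc_b_rc_9_2 lc_b_rc_30_13 lc_b_rc_9_2 lc_b_rc_10_2 lc_b_rc_8_2 lc_b_rc_9_2 lc_b_rc_9_2 lc_b_rc_10_2 lc_b_rc_9_2 lc_b_rc_7_0 lc_b_rc_11_4 lc_b_rc_7_0 lc_b_rc_30_9 lc_b_rc_9_2 lc_b_rc_12_2 lc_b_rc_7_0 lc_b_rc_7_1 lc_b_Cert_tree lc_b_rc_7_0 lc_b_rc_10_2 lc_b_rc_8_2 lc_b_rc_11_2 lc_b_rc_9_2 lc_b_rc_7_0 lc_b_rc_10_2 lc_b_rc_9_2 lc_b_Cert_tree lc_b_rc_31_6 lc_b_rc_9_2 lc_b_rc_11_2 lc_b_rc_7_0 lc_b_rc_9_2 lc_b_Cert_tree lc_b_rc_7_0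 lc_b_rc_1_7 lc_b_rc_8_2) (@D3.rec (fun _ => (Cert rels S Gen.b)) lc_b_rc_12_2 lc_b_rc_9_2 lc_b_rc_7_0 lc_b_rc_1_7 lc_b_rc_9_2 lc_b_Cert_tree lc_b_rc_9_0 lc_b_rc_31_6 lc_b_rc_7_0 lc_b_rc_10_2 lc_b_Cert_tree lc_b_rc_10_2 lc_b_rc_8_4 lc_b_rc_30_5 lc_b_rc_7_0 lc_b_rc_10_2 lc_b_Cert_tree lc_b_rc_11_2 lc_b_rc_9_2 lc_b_rc_8_2 lc_b_rc_9_2 lc_b_rc_8_2 lc_b_rc_1_3 lc_b_rc_9_2 lc_b_rc_8_4 lc_b_rc_9_2 lc_b_rc_30_5 lc_b_rc_7_0 lc_b_rc_8_4 lc_b_rc_7_0 lc_b_rc_30_13 lc_b_rc_1_3 lc_b_rc_7_0 lc_b_rc_30_13 lc_b_rc_7_0 lc_b_rc_8_2 lc_b_Cert_tree lc_b_rc_7_0 lc_b_rc_8_2 lc_b_rc_11_2) (@D3.rec (fun _ => (Cert rels S Gen.b)) lc_b_rc_7_0 lc_b_rc_7_0 lc_b_Cert_tree lc_b_rc_7_1 lc_b_rc_9_2 lc_b_rc_7_0 lc_b_rc_12_2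 lc_b_Cert_tree lc_b_rc_7_0 lc_b_rc_8_2 lc_b_rc_12_2 lc_b_rc_7_0 lc_b_rc_7_0 lc_b_Cert_tree lc_b_rc_1_3 lc_b_rc_9_2 lc_b_rc_7_0 lc_b_rc_11_2 lc_b_rc_7_0 lc_b_rc_11_4 lc_b_rc_9_2 lc_b_rc_7_0 lc_b_rc_8_2 lc_b_rc_8_2 lc_b_rc_9_2 lc_b_rc_7_0 lc_b_rc_12_4 lc_b_rc_9_2 lc_b_rc_7_0 lc_b_rc_8_2 lc_b_rc_8_2 lc_b_rc_9_2 lc_b_rc_1_5 lc_b_rc_8_2 lc_b_rc_1_5 lc_b_rc_30_5 lc_b_rc_10_2 lc_b_rc_1_3 lc_b_rc_7_0 lc_b_rc_9_2)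
def ce_b_18 : D2 → D3 → (Cert rels S Gen.b) := @D2.rec (fun _ => D3 → (Cert rels S Gen.b)) (@D3.rec (fun _ => (Cert rels S Gen.b)) lc_b_rc_9_2 lc_b_rc_9_2 lc_b_rc_11_2 lc_b_rc_12_2 lc_b_rc_10_2 lc_b_rc_7_0 lc_b_rc_10_2 lc_b_rc_9_0 lc_b_rc_1_3 lc_b_rc_7_0 lc_b_rc_31_0 lc_b_rc_9_2 lc_b_rc_9_2 lc_b_rc_11_2 lc_b_rc_12_2 lc_b_rc_10_2 lc_b_rc_7_0 lc_b_rc_10_2 lc_b_rc_7_0 lc_b_rc_31_9 lc_b_rc_11_4 lc_b_rc_7_0 lc_b_Cert_tree lc_b_rc_7_0 lc_b_Cert_tree lc_b_rc_7_0 lc_b_rc_9_2 lc_b_rc_11_2 lc_b_rc_12_2 lc_b_rc_10_2 lc_b_rc_7_0 lc_b_rc_8_4 lc_b_Cert_tree lc_b_rc_10_2 lc_b_rc_7_0 lc_b_Cert_tree lc_b_rc_12_2 lc_b_rc_11_4 lc_b_rc_8_4 lc_b_Cert_tree) (@D3.rec (fun _ => (Cert rels S Gen.b)) lc_b_rc_7_0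 lc_b_rc_9_2 lc_b_rc_10_2 lc_b_rc_9_2 lc_b_rc_31_9 lc_b_rc_7_0 lc_b_rc_12_4 lc_b_rc_12_2 lc_b_Cert_tree lc_b_rc_7_0 lc_b_rc_7_0 lc_b_rc_12_2 lc_b_rc_10_2 lc_b_Cert_tree lc_b_rc_12_2 lc_b_Cert_tree lc_b_rc_7_0 lc_b_Cert_tree lc_b_rc_7_0 lc_b_Cert_tree lc_b_Cert_tree lc_b_rc_30_5 lc_b_Cert_tree lc_b_rc_7_0 lc_b_rc_7_0 lc_b_rc_7_0 lc_b_rc_31_3 lc_b_rc_8_2 lc_b_rc_11_2 lc_b_rc_9_2 lc_b_rc_1_3 lc_b_rc_7_0 lc_b_rc_7_0 lc_b_rc_30_9 lc_b_rc_7_0 lc_b_Cert_tree lc_b_rc_1_5 lc_b_rc_9_2 lc_b_rc_11_2 lc_b_rc_12_2) (@D3.rec (fun _ => (Cert rels S Gen.b)) lc_b_rc_10_2 lc_b_rc_7_0 lc_b_rc_8_4 lc_b_Cert_tree lc_b_rc_9_2 lc_b_rc_7_0 lc_b_Cert_tree lc_b_rc_11_2 lc_b_rc_8_4 lc_b_Cert_tree lc_b_rc_8_4 lc_b_rc_7_0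 lc_b_rc_9_2 lc_b_rc_10_2 lc_b_rc_30_13 lc_b_rc_11_2 lc_b_rc_11_2 lc_b_rc_7_0 lc_b_rc_31_12 lc_b_Cert_tree lc_b_rc_7_0 lc_b_rc_12_2 lc_b_rc_11_2 lc_b_rc_10_2 lc_b_rc_11_2 lc_b_Cert_tree lc_b_Cert_tree lc_b_rc_7_0 lc_b_Cert_tree lc_b_rc_7_0 lc_b_Cert_tree lc_b_Cert_tree lc_b_rc_1_3 lc_b_Cert_tree lc_b_rc_7_0 lc_b_rc_7_0 lc_b_rc_7_0 lc_b_rc_11_2 lc_b_rc_8_2 lc_b_rc_12_2) (@D3.rec (fun _ => (Cert rels S Gen.b)) lc_b_rc_8_2 lc_b_rc_9_2 lc_b_Cert_tree lc_b_rc_9_0 lc_b_rc_1_5 lc_b_rc_7_0 lc_b_rc_30_9 lc_b_rc_30_1 lc_b_rc_32_46 lc_b_Cert_tree lc_b_rc_7_0 lc_b_Cert_tree lc_b_rc_10_2 lc_b_rc_9_2 lc_b_rc_12_2 lc_b_rc_7_0 lc_b_rc_10_2 lc_b_rc_9_2 lc_b_rc_10_2 lc_b_rc_1_5 lc_b_Cert_tree lc_b_rc_7_0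 lc_b_rc_7_0 lc_b_rc_9_2 lc_b_rc_8_2 lc_b_rc_9_2 lc_b_rc_7_0 lc_b_rc_7_1 lc_b_rc_9_0 lc_b_Cert_tree lc_b_rc_7_0 lc_b_rc_9_2 lc_b_rc_12_2 lc_b_Cert_tree lc_b_rc_7_0 lc_b_rc_7_0 lc_b_rc_31_9 lc_b_rc_31_3 lc_b_rc_9_2 lc_b_rc_7_1) (@D3.rec (fun _ => (Cert rels S Gen.b)) lc_b_Cert_tree lc_b_rc_7_0 lc_b_Cert_tree lc_b_rc_7_0 lc_b_Cert_tree lc_b_Cert_tree lc_b_rc_8_2 lc_b_rc_8_2 lc_b_rc_7_0 lc_b_rc_8_2 lc_b_rc_10_2 lc_b_rc_7_0 lc_b_rc_9_2 lc_b_Cert_tree lc_b_rc_7_0 lc_b_rc_1_7 lc_b_rc_8_2 lc_b_rc_9_2 lc_b_rc_9_0 lc_b_rc_30_13 lc_b_rc_7_0 lc_b_rc_8_0 lc_b_rc_11_2 lc_b_rc_9_0 lc_b_Cert_tree lc_b_rc_7_0 lc_b_Cert_tree lc_b_rc_10_2 lc_b_rc_11_2 lc_b_rc_12_2 lc_b_rc_7_0 lc_b_rc_10_2 lc_b_rc_9_2 lc_b_rc_10_2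 lc_b_rc_31_6 lc_b_Cert_tree lc_b_rc_7_0 lc_b_rc_7_0 lc_b_rc_12_2 lc_b_rc_1_5) (@D3.rec (fun _ => (Cert rels S Gen.b)) lc_b_rc_9_2 lc_b_rc_7_0 lc_b_rc_12_2 lc_b_rc_7_1 lc_b_Cert_tree lc_b_rc_7_0 lc_b_rc_11_2 lc_b_rc_32_31 lc_b_Cert_tree lc_b_rc_7_0 lc_b_rc_7_0 lc_b_rc_31_3 lc_b_rc_31_3 lc_b_rc_11_2 lc_b_rc_31_6 lc_b_Cert_tree lc_b_rc_7_0 lc_b_Cert_tree lc_b_rc_7_0 lc_b_Cert_tree lc_b_Cert_tree lc_b_rc_8_2 lc_b_rc_31_9 lc_b_rc_7_0 lc_b_rc_8_2 lc_b_rc_31_9 lc_b_rc_7_0 lc_b_Cert_tree lc_b_rc_7_0 lc_b_rc_7_1 lc_b_rc_9_2 lc_b_rc_7_0 lc_b_rc_9_2 lc_b_Cert_tree lc_b_rc_10_2 lc_b_rc_7_1 lc_b_rc_7_0 lc_b_rc_11_0 lc_b_rc_31_3 lc_b_rc_8_2) (@D3.rec (fun _ => (Cert rels S Gen.b)) lc_b_rc_12_2 lc_b_Cert_tree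 lc_b_rc_9_2 lc_b_rc_7_0 lc_b_rc_9_2 lc_b_Cert_tree lc_b_Cert_tree lc_b_rc_10_2 lc_b_Cert_tree lc_b_rc_7_0 lc_b_rc_10_2 lc_b_rc_9_2 lc_b_rc_7_0 lc_b_rc_10_2 lc_b_rc_7_1 lc_b_Cert_tree lc_b_rc_7_0 lc_b_rc_30_13 lc_b_rc_10_0 lc_b_rc_12_2 lc_b_rc_8_2 lc_b_rc_10_2 lc_b_rc_9_2 lc_b_rc_10_0 lc_b_rc_9_2 lc_b_rc_11_4 lc_b_rc_1_3 lc_b_rc_31_3 lc_b_rc_7_0 lc_b_rc_8_2 lc_b_rc_10_2 lc_b_rc_9_0 lc_b_Cert_tree lc_b_rc_7_0 lc_b_rc_8_2 lc_b_rc_9_2 lc_b_rc_12_2 lc_b_rc_30_5 lc_b_rc_10_2 lc_b_rc_7_1) (@D3.rec (fun _ => (Cert rels S Gen.b)) lc_b_rc_9_2 lc_b_Cert_tree lc_b_rc_9_2 lc_b_Cert_tree lc_b_rc_30_13 lc_b_Cert_tree lc_b_rc_10_2 lc_b_rc_8_4 lc_b_rc_9_2 lc_b_rc_7_0 lc_b_rc_7_1 lc_b_Cert_tree lc_b_rc_8_2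 lc_b_rc_10_2 lc_b_rc_9_2 lc_b_rc_12_2 lc_b_rc_10_2 lc_b_rc_12_2 lc_b_rc_30_9 lc_b_Cert_tree lc_b_rc_7_0 lc_b_rc_7_0 lc_b_Cert_tree lc_b_rc_8_2 lc_b_rc_7_0 lc_b_Cert_tree lc_b_rc_9_2 lc_b_rc_7_0 lc_b_rc_11_4 lc_b_Cert_tree lc_b_rc_7_0 lc_b_rc_9_2 lc_b_rc_10_2 lc_b_rc_9_2 lc_b_rc_7_0 lc_b_rc_8_2 lc_b_rc_10_2 lc_b_Cert_tree lc_b_rc_9_2 lc_b_rc_9_2) (@D3.rec (fun _ => (Cert rels S Gen.b)) lc_b_Cert_tree lc_b_rc_10_2 lc_b_rc_9_2 lc_b_rc_31_12 lc_b_rc_9_2 lc_b_rc_10_2 lc_b_Cert_tree lc_b_rc_9_2 lc_b_Cert_tree lc_b_rc_12_2 lc_b_rc_7_0 lc_b_Cert_tree lc_b_Cert_tree lc_b_rc_11_2 lc_b_rc_7_0 lc_b_rc_7_0 lc_b_rc_7_0 lc_b_rc_9_2 lc_b_rc_31_3 lc_b_rc_9_2 lc_b_Cert_tree lc_b_Cert_tree lc_b_rc_9_2 lc_b_rc_12_2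 lc_b_Cert_tree lc_b_rc_10_2 lc_b_rc_7_0 lc_b_rc_10_2 lc_b_rc_9_0 lc_b_rc_9_2 lc_b_Cert_tree lc_b_rc_12_2 lc_b_rc_7_0 lc_b_Cert_tree lc_b_Cert_tree lc_b_rc_7_0 lc_b_Cert_tree lc_b_rc_9_2 lc_b_rc_8_2 lc_b_rc_8_2) (@D3.rec (fun _ => (Cert rels S Gen.b)) lc_b_rc_7_0 lc_b_rc_31_3 lc_b_rc_7_1 lc_b_rc_7_0 lc_b_Cert_tree lc_b_rc_12_2 lc_b_rc_7_0 lc_b_Cert_tree lc_b_rc_9_2 lc_b_rc_10_2 lc_b_rc_7_0 lc_b_rc_7_0 lc_b_rc_9_2 lc_b_Cert_tree lc_b_rc_10_2 lc_b_rc_9_2 lc_b_rc_7_0 lc_b_rc_9_2 lc_b_rc_11_2 lc_b_rc_31_6 lc_b_rc_8_2 lc_b_Cert_tree lc_b_rc_9_2 lc_b_rc_7_0 lc_b_rc_9_2 lc_b_Cert_tree lc_b_Cert_tree lc_b_rc_10_2 lc_b_rc_9_2 lc_b_rc_7_0 lc_b_rc_31_9 lc_b_rc_7_0 lc_b_rc_10_2 lc_b_rc_30_9 lc_b_Cert_tree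 lc_b_rc_7_0 lc_b_rc_10_0 lc_b_rc_1_3 lc_b_rc_11_2 lc_b_rc_8_2) (@D3.rec (fun _ => (Cert rels S Gen.b)) lc_b_rc_1_7 lc_b_rc_9_2 lc_b_rc_10_0 lc_b_rc_9_2 lc_b_rc_10_2 lc_b_rc_10_2 lc_b_rc_12_2 lc_b_rc_7_0 lc_b_rc_8_2 lc_b_rc_31_9 lc_b_rc_9_0 lc_b_Cert_tree lc_b_rc_7_0 lc_b_rc_8_2 lc_b_rc_9_2 lc_b_rc_11_2 lc_b_rc_32_67 lc_b_rc_10_2 lc_b_rc_12_2 lc_b_rc_1_1 lc_b_Cert_tree lc_b_rc_9_2 lc_b_rc_7_0 lc_b_Cert_tree lc_b_Cert_tree lc_b_rc_10_2 lc_b_rc_9_2 lc_b_rc_12_4 lc_b_rc_7_0 lc_b_rc_9_2 lc_b_rc_12_4 lc_b_rc_8_2 lc_b_rc_10_2 lc_b_rc_11_2 lc_b_rc_9_2 lc_b_rc_11_2 lc_b_rc_9_2 lc_b_rc_7_0 lc_b_rc_7_0 lc_b_Cert_tree) (@D3.rec (fun _ => (Cert rels S Gen.b)) lc_b_rc_32_10 lc_b_rc_7_0 lc_b_Cert_tree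 lc_b_rc_9_2 lc_b_rc_7_0 lc_b_rc_11_2 lc_b_Cert_tree lc_b_rc_7_0 lc_b_rc_9_2 lc_b_rc_31_9 lc_b_rc_11_4 lc_b_rc_7_0 lc_b_rc_30_9 lc_b_rc_10_2 lc_b_Cert_tree lc_b_rc_9_2 lc_b_rc_9_2 lc_b_Cert_tree lc_b_rc_10_2 lc_b_rc_9_2 lc_b_rc_31_12 lc_b_rc_9_2 lc_b_rc_10_2 lc_b_rc_9_2 lc_b_rc_30_1 lc_b_rc_11_2 lc_b_Cert_tree lc_b_Cert_tree lc_b_rc_7_0 lc_b_Cert_tree lc_b_rc_7_0 lc_b_rc_12_2 lc_b_rc_7_0 lc_b_rc_7_0 lc_b_rc_31_3 lc_b_rc_8_2 lc_b_rc_9_2 lc_b_rc_1_3 lc_b_rc_1_3 lc_b_rc_9_2) (@D3.rec (fun _ => (Cert rels S Gen.b)) lc_b_rc_11_2 lc_b_Cert_tree lc_b_rc_10_2 lc_b_rc_7_0 lc_b_rc_10_2 lc_b_rc_9_2 lc_b_rc_31_12 lc_b_Cert_tree lc_b_Cert_tree lc_b_rc_7_0 lc_b_Cert_tree lc_b_rc_30_13 lc_b_rc_8_2 lc_b_rc_32_41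 lc_b_rc_7_0 lc_b_rc_31_3 lc_b_rc_10_2 lc_b_rc_7_0 lc_b_Cert_tree lc_b_rc_8_2 lc_b_rc_7_0 lc_b_Cert_tree lc_b_rc_9_2 lc_b_rc_10_2 lc_b_rc_7_0 lc_b_rc_9_2 lc_b_rc_8_2 lc_b_rc_11_4 lc_b_rc_10_2 lc_b_rc_9_2 lc_b_rc_9_2 lc_b_rc_10_2 lc_b_rc_1_7 lc_b_rc_8_2 lc_b_rc_11_2 lc_b_rc_9_2 lc_b_rc_9_2 lc_b_rc_1_3 lc_b_rc_8_2 lc_b_rc_12_2) (@D3.rec (fun _ => (Cert rels S Gen.b)) lc_b_rc_9_2 lc_b_rc_10_0 lc_b_rc_10_2 lc_b_rc_7_0 lc_b_rc_9_2 lc_b_Cert_tree lc_b_rc_9_2 lc_b_rc_9_2 lc_b_rc_7_0 lc_b_rc_30_13 lc_b_rc_10_2 lc_b_rc_8_4 lc_b_Cert_tree lc_b_rc_7_0 lc_b_rc_8_2 lc_b_Cert_tree lc_b_rc_31_6 lc_b_rc_10_2 lc_b_rc_31_3 lc_b_rc_1_3 lc_b_rc_7_0 lc_b_rc_7_0 lc_b_rc_1_3 lc_b_rc_9_2 lc_b_rc_9_2 lc_b_rc_9_2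 lc_b_rc_30_13 lc_b_rc_10_2 lc_b_rc_7_1 lc_b_Cert_tree lc_b_rc_7_1 lc_b_rc_7_0 lc_b_rc_1_7 lc_b_rc_9_2 lc_b_Cert_tree lc_b_rc_10_2 lc_b_Cert_tree lc_b_rc_7_0 lc_b_rc_7_0 lc_b_rc_30_5) (@D3.rec (fun _ => (Cert rels S Gen.b)) lc_b_rc_31_3 lc_b_rc_12_0 lc_b_rc_10_2 lc_b_rc_7_0 lc_b_rc_10_2 lc_b_Cert_tree lc_b_rc_9_2 lc_b_rc_7_0 lc_b_rc_9_2 lc_b_rc_9_2 lc_b_rc_10_2 lc_b_rc_30_13 lc_b_rc_12_2 lc_b_rc_31_3 lc_b_rc_31_3 lc_b_rc_10_2 lc_b_rc_9_0 lc_b_rc_7_0 lc_b_rc_9_2 lc_b_rc_8_2 lc_b_rc_9_2 lc_b_rc_7_0 lc_b_rc_9_0 lc_b_rc_11_2 lc_b_rc_10_2 lc_b_rc_8_4 lc_b_rc_30_17 lc_b_rc_30_1 lc_b_rc_9_0 lc_b_rc_7_0 lc_b_rc_9_2 lc_b_rc_7_0 lc_b_rc_8_4 lc_b_rc_12_4 lc_b_rc_31_6 lc_b_rc_7_0 lc_b_rc_9_2 lc_b_rc_8_4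 lc_b_rc_30_13 lc_b_rc_12_0) (@D3.rec (fun _ => (Cert rels S Gen.b)) lc_b_rc_8_2 lc_b_rc_10_2 lc_b_rc_12_2 lc_b_rc_31_9 lc_b_rc_10_2 lc_b_rc_9_2 lc_b_Cert_tree lc_b_rc_11_2 lc_b_rc_7_0 lc_b_rc_7_0 lc_b_rc_8_2 lc_b_Cert_tree lc_b_rc_7_0 lc_b_rc_11_4 lc_b_rc_10_2 lc_b_rc_9_2 lc_b_rc_30_17 lc_b_rc_7_1 lc_b_rc_11_2 lc_b_rc_12_2 lc_b_rc_12_4 lc_b_rc_12_2 lc_b_rc_10_2 lc_b_rc_8_0 lc_b_rc_8_2 lc_b_rc_8_2 lc_b_rc_10_2 lc_b_rc_12_2 lc_b_rc_9_2 lc_b_rc_8_0 lc_b_rc_12_2 lc_b_rc_7_0 lc_b_rc_30_13 lc_b_rc_12_2 lc_b_rc_9_2 lc_b_rc_9_0 lc_b_Cert_tree lc_b_rc_7_0 lc_b_rc_32_46 lc_b_rc_8_2) (@D3.rec (fun _ => (Cert rels S Gen.b)) lc_b_rc_12_2 lc_b_rc_9_2 lc_b_rc_9_2 lc_b_rc_7_0 lc_b_rc_7_0 lc_b_rc_9_0 lc_b_rc_31_6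 lc_b_rc_9_2 lc_b_Cert_tree lc_b_rc_31_6 lc_b_rc_12_2 lc_b_rc_9_0 lc_b_rc_7_0 lc_b_rc_8_4 lc_b_Cert_tree lc_b_rc_7_0 lc_b_rc_7_0 lc_b_rc_7_0 lc_b_rc_7_1 lc_b_rc_8_2 lc_b_rc_9_2 lc_b_rc_7_0 lc_b_rc_7_0 lc_b_rc_7_0 lc_b_rc_12_2 lc_b_rc_9_2 lc_b_rc_7_0 lc_b_rc_9_2 lc_b_rc_7_0 lc_b_rc_7_0 lc_b_rc_7_0 lc_b_rc_10_2 lc_b_rc_9_2 lc_b_rc_30_9 lc_b_rc_10_2 lc_b_rc_10_2 lc_b_rc_11_2 lc_b_rc_10_2 lc_b_rc_7_0 lc_b_rc_7_0) (@D3.rec (fun _ => (Cert rels S Gen.b)) lc_b_rc_1_5 lc_b_rc_10_2 lc_b_Cert_tree lc_b_rc_32_20 lc_b_rc_9_2 lc_b_Cert_tree lc_b_rc_30_17 lc_b_rc_7_0 lc_b_rc_7_0 lc_b_Cert_tree lc_b_rc_31_6 lc_b_rc_12_2 lc_b_rc_8_2 lc_b_rc_31_9 lc_b_rc_7_0 lc_b_rc_8_0 lc_b_rc_30_13 lc_b_rc_9_2 lc_b_rc_11_4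 lc_b_rc_7_0 lc_b_rc_9_2 lc_b_rc_12_2 lc_b_Cert_tree lc_b_rc_11_4 lc_b_rc_7_0 lc_b_rc_31_3 lc_b_rc_1_5 lc_b_rc_9_2 lc_b_rc_10_2 lc_b_rc_11_4 lc_b_rc_10_2 lc_b_Cert_tree lc_b_rc_12_4 lc_b_rc_11_4 lc_b_rc_7_0 lc_b_rc_10_2 lc_b_rc_11_4 lc_b_rc_12_4 lc_b_rc_9_2 lc_b_rc_10_2) (@D3.rec (fun _ => (Cert rels S Gen.b)) lc_b_rc_12_2 lc_b_rc_30_1 lc_b_Cert_tree lc_b_rc_30_17 lc_b_rc_7_0 lc_b_rc_8_4 lc_b_rc_9_2 lc_b_rc_7_0 lc_b_Cert_tree lc_b_Cert_tree lc_b_rc_7_0 lc_b_rc_7_0 lc_b_rc_1_5 lc_b_rc_7_0 lc_b_rc_8_2 lc_b_rc_9_2 lc_b_rc_32_0 lc_b_rc_11_2 lc_b_rc_12_2 lc_b_rc_7_1 lc_b_rc_11_2 lc_b_rc_8_4 lc_b_rc_9_2 lc_b_rc_1_3 lc_b_rc_12_2 lc_b_rc_9_2 lc_b_rc_8_2 lc_b_rc_8_2 lc_b_rc_11_2 lc_b_rc_9_2 lc_b_rc_9_2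 lc_b_rc_1_3 lc_b_rc_8_2 lc_b_rc_11_2 lc_b_rc_1_7 lc_b_rc_8_2 lc_b_rc_12_2 lc_b_rc_10_0 lc_b_rc_10_2 lc_b_rc_7_0) (@D3.rec (fun _ => (Cert rels S Gen.b)) lc_b_rc_9_2 lc_b_rc_31_9 lc_b_rc_9_2 lc_b_rc_30_17 lc_b_rc_10_2 lc_b_rc_8_4 lc_b_rc_10_2 lc_b_rc_7_0 lc_b_rc_30_13 lc_b_Cert_tree lc_b_rc_30_9 lc_b_rc_7_0 lc_b_rc_1_3 lc_b_rc_10_2 lc_b_rc_7_0 lc_b_rc_10_2 lc_b_rc_9_2 lc_b_rc_31_3 lc_b_rc_12_0 lc_b_rc_7_1 lc_b_rc_9_2 lc_b_rc_1_3 lc_b_Cert_tree lc_b_rc_11_2 lc_b_rc_7_0 lc_b_rc_7_0 lc_b_rc_9_2 lc_b_Cert_tree lc_b_rc_10_2 lc_b_rc_9_2 lc_b_rc_7_0 lc_b_rc_8_0 lc_b_rc_31_3 lc_b_rc_11_0 lc_b_rc_10_2 lc_b_rc_7_0 lc_b_rc_10_2 lc_b_rc_30_5 lc_b_rc_9_2 lc_b_rc_10_2) (@D3.rec (fun _ => (Cert rels S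 Gen.b)) lc_b_rc_30_9 lc_b_rc_8_2 lc_b_rc_7_0 lc_b_rc_32_31 lc_b_rc_8_4 lc_b_rc_7_0 lc_b_rc_9_2 lc_b_rc_8_2 lc_b_rc_9_2 lc_b_rc_7_0 lc_b_rc_9_0 lc_b_rc_12_2 lc_b_rc_7_0 lc_b_rc_30_9 lc_b_rc_8_2 lc_b_rc_32_15 lc_b_rc_9_0 lc_b_rc_10_2 lc_b_rc_9_2 lc_b_rc_9_2 lc_b_rc_8_4 lc_b_rc_30_9 lc_b_rc_7_0 lc_b_rc_9_2 lc_b_rc_8_4 lc_b_rc_12_2 lc_b_rc_11_0 lc_b_rc_8_2 lc_b_rc_11_2 lc_b_rc_8_4 lc_b_rc_10_2 lc_b_Cert_tree lc_b_rc_7_0 lc_b_rc_7_0 lc_b_rc_12_2 lc_b_rc_7_0 lc_b_rc_8_2 lc_b_Cert_tree lc_b_rc_7_0 lc_b_rc_11_4) (@D3.rec (fun _ => (Cert rels S Gen.b)) lc_b_rc_11_4 lc_b_rc_9_2 lc_b_rc_10_2 lc_b_rc_8_2 lc_b_rc_8_2 lc_b_rc_10_2 lc_b_rc_11_2 lc_b_rc_9_2 lc_b_rc_11_2 lc_b_rc_12_4 lc_b_rc_9_2 lc_b_rc_9_0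 lc_b_rc_31_3 lc_b_rc_31_3 lc_b_rc_8_2 lc_b_rc_11_2 lc_b_rc_31_6 lc_b_rc_30_5 lc_b_rc_11_2 lc_b_rc_7_0 lc_b_rc_12_2 lc_b_rc_31_6 lc_b_rc_9_2 lc_b_Cert_tree lc_b_rc_7_0 lc_b_rc_8_4 lc_b_rc_9_0 lc_b_rc_7_0 lc_b_rc_12_2 lc_b_Cert_tree lc_b_rc_7_0 lc_b_rc_7_0 lc_b_rc_7_0 lc_b_rc_7_1 lc_b_rc_8_2 lc_b_rc_9_2 lc_b_rc_7_0 lc_b_rc_7_0 lc_b_rc_9_2 lc_b_rc_7_0) (@D3.rec (fun _ => (Cert rels S Gen.b)) lc_b_rc_7_0 lc_b_rc_11_2 lc_b_rc_1_3 lc_b_rc_10_2 lc_b_rc_10_2 lc_b_rc_7_0 lc_b_rc_1_5 lc_b_rc_10_2 lc_b_rc_30_17 lc_b_rc_9_2 lc_b_rc_8_2 lc_b_Cert_tree lc_b_rc_7_0 lc_b_Cert_tree lc_b_rc_7_0 lc_b_rc_9_2 lc_b_rc_7_0 lc_b_rc_8_2 lc_b_rc_31_9 lc_b_rc_7_0 lc_b_rc_7_0 lc_b_rc_9_2 lc_b_rc_8_2 lc_b_rc_11_2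 lc_b_Cert_tree lc_b_rc_12_4 lc_b_rc_8_2 lc_b_rc_7_1 lc_b_rc_9_2 lc_b_rc_10_2 lc_b_rc_30_5 lc_b_rc_8_4 lc_b_rc_12_2 lc_b_Cert_tree lc_b_rc_11_4 lc_b_rc_7_0 lc_b_rc_10_2 lc_b_rc_9_2 lc_b_rc_12_4 lc_b_rc_9_2) (@D3.rec (fun _ => (Cert rels S Gen.b)) lc_b_rc_11_2 lc_b_rc_10_2 lc_b_rc_9_2 lc_b_rc_9_2 lc_b_rc_30_5 lc_b_rc_10_2 lc_b_rc_7_0 lc_b_rc_30_5 lc_b_Cert_tree lc_b_Cert_tree lc_b_rc_7_0 lc_b_rc_7_0 lc_b_rc_1_5 lc_b_rc_7_0 lc_b_rc_8_2 lc_b_rc_8_0 lc_b_rc_32_0 lc_b_rc_31_9 lc_b_rc_10_2 lc_b_rc_31_6 lc_b_rc_11_2 lc_b_rc_30_5 lc_b_rc_31_6 lc_b_rc_7_0 lc_b_rc_11_2 lc_b_rc_11_2 lc_b_rc_30_9 lc_b_rc_10_2 lc_b_rc_12_4 lc_b_rc_7_0 lc_b_rc_7_0 lc_b_rc_10_2 lc_b_Cert_tree lc_b_Cert_tree lc_b_rc_8_2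 lc_b_rc_9_2 lc_b_rc_10_2 lc_b_rc_8_4 lc_b_rc_7_0 lc_b_rc_8_2) (@D3.rec (fun _ => (Cert rels S Gen.b)) lc_b_rc_10_2 lc_b_rc_10_2 lc_b_rc_12_2 lc_b_Cert_tree lc_b_rc_10_2 lc_b_rc_9_0 lc_b_Cert_tree lc_b_rc_11_2 lc_b_rc_12_2 lc_b_Cert_tree lc_b_rc_11_4 lc_b_rc_7_0 lc_b_rc_10_2 lc_b_rc_9_2 lc_b_rc_31_9 lc_b_rc_10_2 lc_b_rc_7_0 lc_b_rc_9_2 lc_b_rc_12_2 lc_b_rc_9_2 lc_b_rc_9_2 lc_b_rc_10_2 lc_b_rc_9_2 lc_b_Cert_tree lc_b_rc_10_2 lc_b_rc_8_2 lc_b_Cert_tree lc_b_rc_30_9 lc_b_rc_8_4 lc_b_rc_11_4 lc_b_rc_7_0 lc_b_rc_7_0 lc_b_rc_7_0 lc_b_rc_10_2 lc_b_rc_9_2 lc_b_rc_1_3 lc_b_rc_7_0 lc_b_rc_10_2 lc_b_rc_30_5 lc_b_Cert_tree) (@D3.rec (fun _ => (Cert rels S Gen.b)) lc_b_rc_9_2 lc_b_rc_30_13 lc_b_rc_31_9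 lc_b_rc_8_2 lc_b_rc_7_0 lc_b_rc_8_2 lc_b_rc_31_9 lc_b_rc_9_2 lc_b_rc_7_0 lc_b_rc_9_0 lc_b_rc_7_0 lc_b_rc_1_3 lc_b_rc_7_0 lc_b_rc_7_0 lc_b_rc_7_0 lc_b_rc_12_0 lc_b_rc_10_2 lc_b_rc_8_2 lc_b_rc_1_3 lc_b_rc_1_5 lc_b_rc_9_2 lc_b_rc_1_5 lc_b_rc_7_0 lc_b_rc_11_2 lc_b_rc_7_1 lc_b_rc_7_0 lc_b_rc_31_12 lc_b_rc_7_0 lc_b_rc_10_2 lc_b_rc_12_2 lc_b_rc_11_2 lc_b_rc_7_1 lc_b_rc_7_0 lc_b_rc_7_0 lc_b_rc_9_0 lc_b_rc_11_2 lc_b_rc_12_2 lc_b_rc_9_2 lc_b_rc_12_2 lc_b_rc_12_2)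
def ce_b_19 : D2 → D3 → (Cert rels S Gen.b) := @D2.rec (fun _ => D3 → (Cert rels S Gen.b)) (@D3.rec (fun _ => (Cert rels S Gen.b)) lc_b_rc_32_31 lc_b_rc_10_2 lc_b_rc_7_0 lc_b_rc_7_0 lc_b_rc_7_0 lc_b_rc_10_2 lc_b_Cert_tree lc_b_Cert_tree lc_b_rc_8_2 lc_b_rc_9_2 lc_b_rc_10_2 lc_b_rc_8_4 lc_b_rc_9_2 lc_b_rc_8_2 lc_b_rc_8_4 lc_b_rc_10_2 lc_b_Cert_tree lc_b_rc_11_2 lc_b_rc_10_2 lc_b_Cert_tree lc_b_rc_10_0 lc_b_rc_11_2 lc_b_rc_12_2 lc_b_rc_8_0 lc_b_Cert_tree lc_b_rc_7_0 lc_b_rc_10_2 lc_b_rc_8_4 lc_b_rc_9_2 lc_b_rc_11_4 lc_b_rc_1_5 lc_b_rc_7_0 lc_b_rc_31_12 lc_b_rc_9_2 lc_b_rc_9_2 lc_b_rc_10_2 lc_b_Cert_tree lc_b_rc_9_2 lc_b_rc_8_2 lc_b_Cert_tree) (@D3.rec (fun _ => (Cert rels S Gen.b)) lc_b_rc_30_5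 lc_b_rc_1_3 lc_b_rc_1_5 lc_b_rc_8_4 lc_b_rc_7_0 lc_b_rc_7_0 lc_b_rc_7_0 lc_b_rc_30_17 lc_b_rc_10_2 lc_b_rc_1_3 lc_b_rc_7_0 lc_b_rc_10_2 lc_b_Cert_tree lc_b_rc_30_13 lc_b_rc_9_2 lc_b_rc_10_2 lc_b_rc_30_13 lc_b_rc_7_0 lc_b_rc_12_4 lc_b_rc_30_13 lc_b_rc_31_9 lc_b_rc_7_0 lc_b_rc_11_2 lc_b_rc_30_17 lc_b_rc_30_5 lc_b_rc_7_0 lc_b_rc_7_0 lc_b_rc_7_0 lc_b_rc_7_0 lc_b_rc_1_7 lc_b_rc_31_6 lc_b_rc_1_3 lc_b_rc_12_2 lc_b_rc_31_3 lc_b_rc_12_2 lc_b_rc_31_9 lc_b_rc_30_13 lc_b_rc_12_4 lc_b_rc_7_0 lc_b_rc_31_3) (@D3.rec (fun _ => (Cert rels S Gen.b)) lc_b_rc_9_2 lc_b_rc_7_0 lc_b_rc_31_3 lc_b_rc_12_2 lc_b_rc_1_3 lc_b_rc_7_1 lc_b_rc_7_0 lc_b_rc_7_0 lc_b_rc_11_2 lc_b_rc_7_1 lc_b_rc_11_2 lc_b_rc_12_2 lc_b_rc_12_2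 lc_b_rc_9_0 lc_b_rc_7_0 lc_b_rc_8_4 lc_b_Cert_tree lc_b_Cert_tree lc_b_Cert_tree lc_b_Cert_tree lc_b_Cert_tree lc_b_Cert_tree lc_b_rc_7_0 lc_b_rc_7_0 lc_b_rc_10_2 lc_b_rc_9_0 lc_b_rc_7_0 lc_b_rc_11_2 lc_b_rc_12_2 lc_b_Cert_tree lc_b_rc_31_9 lc_b_rc_7_0 lc_b_rc_12_2 lc_b_rc_7_0 lc_b_Cert_tree lc_b_rc_11_2 lc_b_Cert_tree lc_b_Cert_tree lc_b_Cert_tree lc_b_Cert_tree) (@D3.rec (fun _ => (Cert rels S Gen.b)) lc_b_rc_7_0 lc_b_rc_7_0 lc_b_rc_10_2 lc_b_rc_7_0 lc_b_rc_9_0 lc_b_rc_11_2 lc_b_rc_12_2 lc_b_rc_1_1 lc_b_Cert_tree lc_b_rc_7_0 lc_b_rc_7_1 lc_b_rc_31_9 lc_b_rc_9_2 lc_b_rc_9_2 lc_b_rc_30_17 lc_b_rc_7_0 lc_b_rc_7_1 lc_b_rc_10_2 lc_b_rc_30_5 lc_b_rc_7_0 lc_b_rc_10_2 lc_b_rc_8_2 lc_b_rc_31_6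 lc_b_rc_9_2 lc_b_rc_7_0 lc_b_rc_10_2 lc_b_rc_30_1 lc_b_rc_30_9 lc_b_rc_7_0 lc_b_rc_31_6 lc_b_rc_1_7 lc_b_rc_8_2 lc_b_rc_7_0 lc_b_rc_31_3 lc_b_rc_30_5 lc_b_rc_7_0 lc_b_rc_9_2 lc_b_rc_7_0 lc_b_rc_10_2 lc_b_rc_10_2) (@D3.rec (fun _ => (Cert rels S Gen.b)) lc_b_rc_7_0 lc_b_rc_9_0 lc_b_Cert_tree lc_b_rc_7_0 lc_b_rc_32_62 lc_b_rc_7_0 lc_b_rc_7_0 lc_b_rc_7_0 lc_b_rc_30_13 lc_b_rc_9_0 lc_b_rc_9_2 lc_b_rc_10_2 lc_b_rc_9_0 lc_b_rc_10_2 lc_b_rc_1_3 lc_b_rc_9_2 lc_b_rc_11_2 lc_b_rc_10_2 lc_b_rc_10_2 lc_b_rc_1_5 lc_b_Cert_tree lc_b_rc_12_2 lc_b_rc_7_0 lc_b_rc_31_12 lc_b_rc_8_4 lc_b_rc_7_0 lc_b_rc_12_2 lc_b_rc_10_2 lc_b_rc_8_2 lc_b_rc_10_2 lc_b_rc_9_2 lc_b_rc_8_2 lc_b_rc_30_13 lc_b_rc_10_2 lc_b_rc_1_7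 lc_b_rc_12_2 lc_b_rc_30_5 lc_b_rc_11_4 lc_b_rc_12_2 lc_b_rc_12_4) (@D3.rec (fun _ => (Cert rels S Gen.b)) lc_b_rc_7_0 lc_b_rc_10_2 lc_b_rc_9_2 lc_b_rc_10_2 lc_b_rc_12_2 lc_b_rc_30_5 lc_b_rc_11_2 lc_b_rc_1_5 lc_b_rc_9_2 lc_b_rc_9_2 lc_b_rc_12_2 lc_b_rc_9_2 lc_b_rc_12_2 lc_b_rc_10_2 lc_b_rc_11_4 lc_b_rc_7_1 lc_b_rc_1_3 lc_b_rc_7_0 lc_b_rc_7_0 lc_b_rc_8_2 lc_b_rc_7_0 lc_b_rc_7_0 lc_b_rc_12_4 lc_b_Cert_tree lc_b_rc_31_6 lc_b_rc_30_9 lc_b_rc_7_0 lc_b_rc_7_0 lc_b_rc_9_0 lc_b_rc_9_0 lc_b_rc_9_2 lc_b_rc_10_2 lc_b_rc_10_2 lc_b_rc_10_2 lc_b_rc_9_2 lc_b_rc_10_2 lc_b_rc_10_2 lc_b_rc_10_2 lc_b_rc_1_5 lc_b_rc_11_2) (@D3.rec (fun _ => (Cert rels S Gen.b)) lc_b_Cert_tree lc_b_rc_30_5 lc_b_rc_7_0 lc_b_rc_30_5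 lc_b_rc_7_0 lc_b_rc_11_2 lc_b_rc_10_2 lc_b_rc_8_2 lc_b_rc_10_2 lc_b_rc_9_2 lc_b_rc_9_2 lc_b_rc_9_2 lc_b_rc_1_3 lc_b_rc_10_0 lc_b_rc_7_0 lc_b_rc_7_0 lc_b_rc_8_2 lc_b_rc_11_2 lc_b_rc_10_2 lc_b_rc_8_2 lc_b_rc_30_9 lc_b_rc_9_2 lc_b_rc_9_2 lc_b_rc_10_2 lc_b_rc_9_2 lc_b_rc_9_2 lc_b_rc_31_9 lc_b_rc_30_5 lc_b_rc_30_5 lc_b_Cert_tree lc_b_Cert_tree lc_b_rc_7_0 lc_b_rc_7_0 lc_b_rc_9_2 lc_b_Cert_tree lc_b_rc_7_0 lc_b_rc_11_4 lc_b_rc_7_0 lc_b_rc_1_3 lc_b_rc_31_9) (@D3.rec (fun _ => (Cert rels S Gen.b)) lc_b_rc_32_31 lc_b_rc_31_9 lc_b_rc_9_2 lc_b_rc_10_2 lc_b_rc_9_2 lc_b_rc_9_2 lc_b_rc_1_3 lc_b_rc_9_2 lc_b_rc_12_4 lc_b_Cert_tree lc_b_Cert_tree lc_b_rc_7_0 lc_b_rc_7_0 lc_b_rc_9_2 lc_b_Cert_tree lc_b_rc_7_0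 lc_b_rc_12_4 lc_b_rc_7_0 lc_b_rc_31_6 lc_b_rc_9_2 lc_b_Cert_tree lc_b_Cert_tree lc_b_Cert_tree lc_b_rc_7_0 lc_b_rc_7_0 lc_b_Cert_tree lc_b_Cert_tree lc_b_rc_7_0 lc_b_rc_7_0 lc_b_rc_8_2 lc_b_Cert_tree lc_b_rc_7_0 lc_b_Cert_tree lc_b_Cert_tree lc_b_rc_7_0 lc_b_rc_31_6 lc_b_rc_9_2 lc_b_Cert_tree lc_b_Cert_tree lc_b_rc_7_0) (@D3.rec (fun _ => (Cert rels S Gen.b)) lc_b_Cert_tree lc_b_rc_9_2 lc_b_rc_7_0 lc_b_Cert_tree lc_b_rc_10_2 lc_b_rc_11_2 lc_b_rc_31_6 lc_b_rc_11_2 lc_b_rc_11_2 lc_b_rc_10_2 lc_b_rc_9_2 lc_b_rc_30_13 lc_b_rc_10_2 lc_b_rc_12_2 lc_b_rc_9_2 lc_b_rc_31_6 lc_b_rc_12_2 lc_b_rc_10_2 lc_b_rc_9_2 lc_b_rc_30_17 lc_b_rc_8_2 lc_b_rc_8_2 lc_b_rc_31_12 lc_b_rc_9_2 lc_b_rc_8_2 lc_b_rc_8_2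 lc_b_rc_9_2 lc_b_rc_12_4 lc_b_rc_7_0 lc_b_Cert_tree lc_b_rc_11_4 lc_b_rc_9_2 lc_b_rc_8_2 lc_b_rc_8_2 lc_b_rc_9_2 lc_b_rc_11_4 lc_b_rc_7_0 lc_b_Cert_tree lc_b_rc_7_0 lc_b_rc_9_2) (@D3.rec (fun _ => (Cert rels S Gen.b)) lc_b_rc_1_5 lc_b_rc_9_0 lc_b_rc_7_0 lc_b_Cert_tree lc_b_rc_30_13 lc_b_rc_7_0 lc_b_rc_9_2 lc_b_rc_10_2 lc_b_rc_1_5 lc_b_rc_7_0 lc_b_Cert_tree lc_b_rc_30_9 lc_b_rc_12_2 lc_b_rc_11_2 lc_b_rc_11_2 lc_b_rc_11_2 lc_b_rc_12_2 lc_b_rc_12_2 lc_b_rc_9_2 lc_b_Cert_tree lc_b_rc_10_2 lc_b_rc_31_6 lc_b_rc_9_2 lc_b_Cert_tree lc_b_rc_10_2 lc_b_rc_7_0 lc_b_rc_7_0 lc_b_rc_9_2 lc_b_Cert_tree lc_b_rc_7_0 lc_b_rc_11_2 lc_b_Cert_tree lc_b_rc_31_12 lc_b_rc_8_2 lc_b_rc_11_2 lc_b_rc_30_9 lc_b_rc_7_0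 lc_b_rc_7_1 lc_b_rc_8_2 lc_b_rc_12_2) (@D3.rec (fun _ => (Cert rels S Gen.b)) lc_b_rc_30_13 lc_b_rc_7_0 lc_b_rc_9_2 lc_b_rc_9_2 lc_b_rc_10_2 lc_b_rc_7_0 lc_b_rc_8_2 lc_b_Cert_tree lc_b_rc_9_2 lc_b_rc_8_2 lc_b_rc_7_0 lc_b_rc_7_0 lc_b_rc_10_2 lc_b_Cert_tree lc_b_rc_7_0 lc_b_rc_11_2 lc_b_rc_12_2 lc_b_rc_8_2 lc_b_rc_7_0 lc_b_Cert_tree lc_b_rc_7_0 lc_b_rc_10_2 lc_b_rc_7_0 lc_b_rc_8_2 lc_b_Cert_tree lc_b_rc_9_2 lc_b_rc_8_2 lc_b_rc_7_0 lc_b_rc_7_0 lc_b_rc_10_2 lc_b_Cert_tree lc_b_rc_7_0 lc_b_rc_11_2 lc_b_rc_12_2 lc_b_rc_8_2 lc_b_rc_7_0 lc_b_Cert_tree lc_b_rc_7_0 lc_b_rc_9_2 lc_b_rc_11_4) (@D3.rec (fun _ => (Cert rels S Gen.b)) lc_b_rc_12_4 lc_b_rc_9_0 lc_b_rc_9_2 lc_b_rc_12_4 lc_b_rc_10_2 lc_b_rc_8_0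 lc_b_rc_7_0 lc_b_rc_11_2 lc_b_rc_7_0 lc_b_rc_12_2 lc_b_rc_7_0 lc_b_rc_7_0 lc_b_rc_9_2 lc_b_rc_9_2 lc_b_rc_9_2 lc_b_rc_8_2 lc_b_rc_1_7 lc_b_rc_11_2 lc_b_rc_8_2 lc_b_rc_1_7 lc_b_Cert_tree lc_b_rc_7_0 lc_b_rc_8_4 lc_b_rc_7_0 lc_b_rc_1_7 lc_b_Cert_tree lc_b_rc_7_0 lc_b_Cert_tree lc_b_rc_7_0 lc_b_rc_11_4 lc_b_rc_7_0 lc_b_rc_1_7 lc_b_Cert_tree lc_b_rc_7_0 lc_b_rc_1_3 lc_b_rc_1_3 lc_b_rc_7_0 lc_b_rc_7_1 lc_b_rc_7_0 lc_b_rc_7_0) (@D3.rec (fun _ => (Cert rels S Gen.b)) lc_b_rc_9_2 lc_b_Cert_tree lc_b_Cert_tree lc_b_rc_12_2 lc_b_rc_7_0 lc_b_Cert_tree lc_b_rc_7_0 lc_b_rc_10_2 lc_b_rc_7_0 lc_b_rc_8_2 lc_b_rc_7_0 lc_b_rc_7_0 lc_b_rc_9_2 lc_b_Cert_tree lc_b_Cert_tree lc_b_rc_11_2 lc_b_rc_7_0 lc_b_Cert_tree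 lc_b_rc_7_0 lc_b_rc_30_13 lc_b_rc_8_2 lc_b_rc_11_2 lc_b_rc_1_3 lc_b_rc_30_17 lc_b_rc_11_0 lc_b_rc_9_2 lc_b_rc_7_0 lc_b_rc_12_4 lc_b_rc_9_2 lc_b_rc_9_2 lc_b_rc_9_2 lc_b_rc_8_2 lc_b_rc_7_0 lc_b_rc_31_9 lc_b_rc_11_2 lc_b_rc_1_3 lc_b_rc_31_9 lc_b_rc_7_0 lc_b_rc_31_3 lc_b_rc_9_2) (@D3.rec (fun _ => (Cert rels S Gen.b)) lc_b_rc_9_2 lc_b_rc_9_2 lc_b_Cert_tree lc_b_rc_12_2 lc_b_rc_31_6 lc_b_rc_11_2 lc_b_Cert_tree lc_b_rc_10_2 lc_b_rc_9_2 lc_b_rc_7_0 lc_b_rc_10_2 lc_b_rc_9_2 lc_b_rc_10_2 lc_b_rc_12_2 lc_b_rc_12_2 lc_b_rc_7_0 lc_b_rc_9_2 lc_b_rc_30_9 lc_b_rc_9_0 lc_b_Cert_tree lc_b_rc_7_0 lc_b_rc_8_4 lc_b_Cert_tree lc_b_rc_11_2 lc_b_rc_8_4 lc_b_rc_9_2 lc_b_Cert_tree lc_b_rc_10_2 lc_b_rc_9_2 lc_b_rc_7_0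 lc_b_rc_1_7 lc_b_rc_9_2 lc_b_rc_11_2 lc_b_rc_8_4 lc_b_rc_31_6 lc_b_rc_7_0 lc_b_rc_9_2 lc_b_rc_30_13 lc_b_rc_9_0 lc_b_Cert_tree) (@D3.rec (fun _ => (Cert rels S Gen.b)) lc_b_rc_7_0 lc_b_rc_30_13 lc_b_rc_9_2 lc_b_rc_7_0 lc_b_rc_9_2 lc_b_rc_9_0 lc_b_rc_7_0 lc_b_rc_7_0 lc_b_rc_31_12 lc_b_rc_7_0 lc_b_rc_9_2 lc_b_rc_30_13 lc_b_rc_11_4 lc_b_rc_7_0 lc_b_rc_11_2 lc_b_rc_7_0 lc_b_rc_30_5 lc_b_rc_30_13 lc_b_rc_31_3 lc_b_Cert_tree lc_b_rc_11_4 lc_b_rc_30_5 lc_b_rc_10_2 lc_b_rc_9_0 lc_b_rc_7_0 lc_b_rc_12_0 lc_b_rc_10_2 lc_b_rc_7_0 lc_b_rc_9_2 lc_b_rc_11_2 lc_b_rc_10_2 lc_b_rc_7_0 lc_b_rc_7_0 lc_b_rc_9_2 lc_b_rc_8_2 lc_b_rc_12_2 lc_b_rc_31_6 lc_b_rc_12_4 lc_b_rc_9_2 lc_b_rc_12_2) (@D3.rec (fun _ =>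 (Cert rels S Gen.b)) lc_b_rc_9_0 lc_b_rc_31_9 lc_b_rc_7_0 lc_b_rc_9_0 lc_b_rc_9_2 lc_b_rc_9_0 lc_b_rc_1_1 lc_b_rc_9_2 lc_b_rc_10_2 lc_b_rc_9_2 lc_b_rc_10_2 lc_b_rc_9_2 lc_b_rc_9_2 lc_b_rc_12_2 lc_b_rc_7_0 lc_b_rc_1_7 lc_b_rc_31_3 lc_b_rc_7_0 lc_b_rc_9_2 lc_b_rc_8_2 lc_b_rc_12_2 lc_b_rc_1_5 lc_b_rc_8_2 lc_b_rc_9_2 lc_b_rc_10_2 lc_b_rc_9_2 lc_b_rc_10_2 lc_b_rc_9_2 lc_b_rc_7_0 lc_b_rc_8_2 lc_b_rc_1_1 lc_b_rc_7_0 lc_b_rc_31_6 lc_b_rc_7_0 lc_b_rc_9_2 lc_b_rc_31_3 lc_b_rc_7_0 lc_b_rc_31_3 lc_b_rc_7_0 lc_b_rc_10_2) (@D3.rec (fun _ => (Cert rels S Gen.b)) lc_b_rc_7_0 lc_b_rc_9_2 lc_b_Cert_tree lc_b_rc_31_3 lc_b_rc_10_2 lc_b_rc_9_0 lc_b_rc_7_0 lc_b_rc_10_2 lc_b_rc_7_0 lc_b_rc_1_5 lc_b_rc_7_0 lc_b_rc_11_2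 lc_b_rc_9_2 lc_b_rc_9_0 lc_b_rc_9_2 lc_b_rc_9_0 lc_b_rc_7_0 lc_b_rc_9_2 lc_b_rc_9_2 lc_b_rc_9_2 lc_b_rc_8_4 lc_b_rc_10_2 lc_b_rc_9_2 lc_b_rc_31_3 lc_b_rc_7_0 lc_b_rc_9_2 lc_b_rc_9_2 lc_b_rc_9_0 lc_b_rc_10_2 lc_b_rc_11_4 lc_b_rc_9_2 lc_b_rc_31_6 lc_b_rc_8_2 lc_b_rc_11_2 lc_b_rc_8_2 lc_b_rc_7_0 lc_b_rc_8_2 lc_b_rc_1_3 lc_b_rc_1_7 lc_b_rc_8_2) (@D3.rec (fun _ => (Cert rels S Gen.b)) lc_b_rc_12_2 lc_b_rc_8_2 lc_b_rc_8_4 lc_b_rc_9_2 lc_b_rc_30_13 lc_b_rc_9_2 lc_b_rc_32_5 lc_b_rc_7_0 lc_b_rc_32_62 lc_b_rc_12_2 lc_b_rc_8_4 lc_b_rc_7_0 lc_b_rc_9_2 lc_b_rc_10_2 lc_b_rc_31_12 lc_b_rc_7_0 lc_b_rc_31_9 lc_b_rc_11_2 lc_b_rc_12_2 lc_b_Cert_tree lc_b_rc_11_4 lc_b_rc_8_4 lc_b_rc_1_3 lc_b_rc_1_5 lc_b_rc_10_2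 lc_b_rc_8_4 lc_b_Cert_tree lc_b_rc_7_0 lc_b_rc_7_0 lc_b_rc_32_62 lc_b_Cert_tree lc_b_Cert_tree lc_b_rc_9_2 lc_b_rc_7_0 lc_b_Cert_tree lc_b_rc_7_0 lc_b_rc_8_4 lc_b_rc_10_2 lc_b_rc_30_1 lc_b_rc_31_9) (@D3.rec (fun _ => (Cert rels S Gen.b)) lc_b_rc_10_2 lc_b_Cert_tree lc_b_rc_8_0 lc_b_rc_30_13 lc_b_rc_7_0 lc_b_rc_7_0 lc_b_rc_12_0 lc_b_rc_1_3 lc_b_rc_9_2 lc_b_rc_8_2 lc_b_rc_10_2 lc_b_rc_8_2 lc_b_rc_10_2 lc_b_rc_7_0 lc_b_rc_8_2 lc_b_rc_1_3 lc_b_rc_7_0 lc_b_rc_8_2 lc_b_rc_11_2 lc_b_rc_8_2 lc_b_rc_8_4 lc_b_rc_9_2 lc_b_rc_31_12 lc_b_rc_9_2 lc_b_rc_12_2 lc_b_rc_7_0 lc_b_rc_32_62 lc_b_rc_11_2 lc_b_rc_9_2 lc_b_rc_7_0 lc_b_rc_9_2 lc_b_rc_10_2 lc_b_rc_31_9 lc_b_rc_7_0 lc_b_rc_12_4 lc_b_rc_11_2 lc_b_rc_12_2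 lc_b_rc_11_2 lc_b_Cert_tree lc_b_rc_8_4) (@D3.rec (fun _ => (Cert rels S Gen.b)) lc_b_rc_11_4 lc_b_rc_9_2 lc_b_rc_10_2 lc_b_Cert_tree lc_b_rc_8_4 lc_b_rc_7_0 lc_b_rc_7_0 lc_b_rc_32_67 lc_b_Cert_tree lc_b_Cert_tree lc_b_rc_9_2 lc_b_rc_7_0 lc_b_rc_8_4 lc_b_rc_7_0 lc_b_Cert_tree lc_b_rc_7_0 lc_b_rc_9_2 lc_b_rc_10_2 lc_b_rc_10_2 lc_b_rc_8_0 lc_b_Cert_tree lc_b_rc_30_17 lc_b_rc_7_0 lc_b_rc_7_0 lc_b_rc_9_2 lc_b_rc_9_2 lc_b_rc_32_62 lc_b_Cert_tree lc_b_rc_32_57 lc_b_rc_7_0 lc_b_rc_7_0 lc_b_rc_11_2 lc_b_rc_12_2 lc_b_rc_7_0 lc_b_Cert_tree lc_b_rc_9_2 lc_b_rc_7_0 lc_b_rc_7_0 lc_b_rc_9_2 lc_b_Cert_tree) (@D3.rec (fun _ => (Cert rels S Gen.b)) lc_b_Cert_tree lc_b_rc_7_0 lc_b_Cert_tree lc_b_rc_8_2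 lc_b_Cert_tree lc_b_rc_9_2 lc_b_Cert_tree lc_b_rc_11_0 lc_b_rc_7_0 lc_b_rc_7_0 lc_b_rc_9_2 lc_b_rc_7_1 lc_b_rc_31_6 lc_b_rc_32_10 lc_b_rc_7_0 lc_b_rc_7_0 lc_b_rc_11_2 lc_b_rc_12_2 lc_b_rc_7_0 lc_b_rc_9_2 lc_b_Cert_tree lc_b_rc_7_0 lc_b_rc_7_0 lc_b_rc_9_2 lc_b_rc_9_2 lc_b_rc_11_4 lc_b_rc_7_0 lc_b_rc_9_2 lc_b_rc_8_4 lc_b_rc_7_0 lc_b_rc_11_2 lc_b_rc_9_2 lc_b_rc_12_2 lc_b_rc_7_0 lc_b_rc_30_13 lc_b_rc_31_3 lc_b_rc_30_9 lc_b_rc_30_13 lc_b_rc_30_13 lc_b_rc_30_13) (@D3.rec (fun _ => (Cert rels S Gen.b)) lc_b_rc_30_5 lc_b_rc_30_9 lc_b_rc_30_9 lc_b_rc_11_4 lc_b_rc_12_4 lc_b_rc_7_0 lc_b_rc_7_0 lc_b_rc_7_0 lc_b_rc_7_0 lc_b_rc_31_6 lc_b_rc_7_0 lc_b_rc_7_0 lc_b_rc_30_9 lc_b_rc_9_2 lc_b_Cert_tree lc_b_rc_11_4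 lc_b_rc_9_2 lc_b_Cert_tree lc_b_rc_9_2 lc_b_rc_8_4 lc_b_rc_31_9 lc_b_rc_7_0 lc_b_rc_10_2 lc_b_rc_10_2 lc_b_Cert_tree lc_b_rc_7_0 lc_b_Cert_tree lc_b_rc_7_0 lc_b_Cert_tree lc_b_rc_8_2 lc_b_rc_11_2 lc_b_rc_8_2 lc_b_rc_9_2 lc_b_Cert_tree lc_b_rc_30_17 lc_b_rc_12_2 lc_b_rc_9_2 lc_b_rc_30_17 lc_b_rc_8_4 lc_b_rc_10_2) (@D3.rec (fun _ => (Cert rels S Gen.b)) lc_b_rc_9_2 lc_b_rc_7_0 lc_b_rc_7_0 lc_b_rc_7_1 lc_b_rc_8_2 lc_b_rc_12_2 lc_b_rc_7_0 lc_b_rc_12_2 lc_b_rc_7_0 lc_b_rc_10_2 lc_b_rc_10_2 lc_b_Cert_tree lc_b_rc_7_0 lc_b_Cert_tree lc_b_rc_7_0 lc_b_Cert_tree lc_b_rc_8_2 lc_b_rc_12_2 lc_b_rc_8_2 lc_b_rc_9_2 lc_b_Cert_tree lc_b_rc_12_4 lc_b_rc_9_2 lc_b_rc_9_2 lc_b_rc_30_1 lc_b_rc_9_2 lc_b_rc_7_0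 lc_b_rc_7_0 lc_b_rc_31_12 lc_b_rc_11_2 lc_b_rc_8_2 lc_b_rc_7_0 lc_b_rc_30_13 lc_b_rc_10_2 lc_b_rc_10_2 lc_b_rc_9_2 lc_b_rc_7_0 lc_b_rc_11_2 lc_b_rc_9_2 lc_b_rc_12_2) (@D3.rec (fun _ => (Cert rels S Gen.b)) lc_b_rc_7_0 lc_b_rc_8_2 lc_b_rc_10_2 lc_b_rc_10_2 lc_b_rc_7_0 lc_b_rc_9_2 lc_b_rc_30_9 lc_b_rc_31_6 lc_b_rc_9_2 lc_b_rc_31_6 lc_b_rc_12_4 lc_b_rc_9_2 lc_b_rc_11_0 lc_b_rc_10_2 lc_b_rc_9_2 lc_b_rc_8_2 lc_b_rc_7_0 lc_b_rc_9_2 lc_b_rc_7_0 lc_b_rc_9_2 lc_b_rc_7_0 lc_b_rc_10_2 lc_b_rc_9_2 lc_b_rc_7_0 lc_b_rc_10_2 lc_b_Cert_tree lc_b_rc_7_0 lc_b_rc_10_2 lc_b_rc_9_0 lc_b_rc_9_2 lc_b_rc_8_2 lc_b_rc_31_3 lc_b_rc_9_2 lc_b_rc_7_0 lc_b_rc_12_2 lc_b_rc_1_7 lc_b_rc_11_2 lc_b_rc_7_0 lc_b_rc_30_5 lc_b_rc_8_2)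 (@D3.rec (fun _ => (Cert rels S Gen.b)) lc_b_rc_10_2 lc_b_rc_7_0 lc_b_rc_9_2 lc_b_rc_9_0 lc_b_rc_7_0 lc_b_rc_31_3 lc_b_rc_9_2 lc_b_rc_11_2 lc_b_rc_10_2 lc_b_rc_7_0 lc_b_rc_8_2 lc_b_rc_10_2 lc_b_rc_9_2 lc_b_rc_12_2 lc_b_rc_12_2 lc_b_rc_9_2 lc_b_rc_7_0 lc_b_rc_12_2 lc_b_Cert_tree lc_b_rc_7_0 lc_b_rc_12_2 lc_b_rc_9_0 lc_b_rc_9_2 lc_b_rc_8_2 lc_b_rc_7_0 lc_b_rc_30_13 lc_b_rc_10_2 lc_b_rc_7_0 lc_b_rc_10_2 lc_b_Cert_tree lc_b_rc_12_4 lc_b_rc_9_2 lc_b_rc_10_2 lc_b_rc_7_0 lc_b_rc_12_2 lc_b_rc_11_4 lc_b_rc_30_5 lc_b_rc_7_0 lc_b_rc_12_2 lc_b_rc_7_0) (@D3.rec (fun _ => (Cert rels S Gen.b)) lc_b_rc_10_2 lc_b_rc_9_2 lc_b_Cert_tree lc_b_rc_30_9 lc_b_rc_7_0 lc_b_rc_11_2 lc_b_rc_30_5 lc_b_rc_8_4 lc_b_rc_7_0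 lc_b_rc_9_2 lc_b_rc_30_5 lc_b_rc_7_0 lc_b_rc_7_0 lc_b_rc_9_2 lc_b_rc_11_2 lc_b_Cert_tree lc_b_rc_7_0 lc_b_Cert_tree lc_b_rc_8_2 lc_b_rc_10_2 lc_b_Cert_tree lc_b_rc_9_2 lc_b_rc_11_2 lc_b_rc_7_0 lc_b_rc_30_9 lc_b_rc_9_2 lc_b_rc_7_0 lc_b_rc_7_0 lc_b_rc_8_2 lc_b_rc_10_2 lc_b_rc_9_2 lc_b_rc_32_46 lc_b_rc_12_2 lc_b_rc_8_4 lc_b_rc_31_6 lc_b_rc_30_9 lc_b_rc_11_2 lc_b_rc_10_2 lc_b_rc_7_0 lc_b_rc_9_2)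
def ce_b_20 : D2 → D3 → (Cert rels S Gen.b) := @D2.rec (fun _ => D3 → (Cert rels S Gen.b)) (@D3.rec (fun _ => (Cert rels S Gen.b)) lc_b_rc_8_2 lc_b_rc_31_9 lc_b_rc_1_3 lc_b_rc_31_6 lc_b_rc_31_6 lc_b_rc_9_2 lc_b_rc_30_17 lc_b_rc_31_6 lc_b_rc_10_2 lc_b_rc_11_4 lc_b_rc_7_1 lc_b_rc_31_6 lc_b_rc_9_2 lc_b_rc_1_7 lc_b_rc_7_0 lc_b_rc_9_2 lc_b_rc_31_12 lc_b_rc_8_2 lc_b_rc_10_2 lc_b_rc_8_2 lc_b_rc_8_2 lc_b_rc_7_0 lc_b_rc_7_0 lc_b_rc_10_2 lc_b_rc_10_2 lc_b_rc_10_2 lc_b_rc_10_2 lc_b_rc_32_46 lc_b_rc_1_7 lc_b_rc_8_2 lc_b_rc_10_2 lc_b_rc_9_2 lc_b_rc_7_0 lc_b_rc_30_13 lc_b_rc_9_2 lc_b_rc_7_0 lc_b_rc_11_4 lc_b_rc_8_2 lc_b_rc_10_2 lc_b_rc_11_2) (@D3.rec (fun _ => (Cert rels S Gen.b)) lc_b_rc_7_0 lc_b_rc_8_2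 lc_b_rc_10_2 lc_b_rc_8_4 lc_b_rc_7_0 lc_b_rc_9_2 lc_b_rc_11_2 lc_b_rc_10_2 lc_b_rc_7_0 lc_b_rc_30_9 lc_b_rc_9_2 lc_b_rc_11_2 lc_b_rc_32_46 lc_b_rc_10_2 lc_b_rc_10_2 lc_b_rc_7_0 lc_b_rc_30_13 lc_b_rc_9_2 lc_b_rc_12_2 lc_b_rc_9_2 lc_b_rc_10_2 lc_b_rc_8_2 lc_b_Cert_tree lc_b_rc_12_2 lc_b_rc_7_0 lc_b_rc_7_0 lc_b_rc_12_2 lc_b_rc_10_2 lc_b_rc_10_2 lc_b_rc_10_2 lc_b_rc_8_4 lc_b_rc_10_2 lc_b_rc_10_2 lc_b_rc_12_2 lc_b_rc_12_2 lc_b_rc_9_2 lc_b_rc_12_2 lc_b_rc_7_0 lc_b_rc_7_0 lc_b_rc_12_2) (@D3.rec (fun _ => (Cert rels S Gen.b)) lc_b_rc_7_0 lc_b_rc_9_2 lc_b_rc_10_2 lc_b_rc_7_0 lc_b_rc_7_0 lc_b_Cert_tree lc_b_rc_32_67 lc_b_rc_7_0 lc_b_rc_9_2 lc_b_rc_11_2 lc_b_rc_1_3 lc_b_rc_7_0 lc_b_rc_1_5 lc_b_rc_9_2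 lc_b_rc_7_0 lc_b_rc_12_2 lc_b_rc_1_7 lc_b_rc_11_2 lc_b_rc_11_2 lc_b_rc_9_2 lc_b_rc_11_2 lc_b_rc_7_0 lc_b_rc_7_0 lc_b_rc_11_2 lc_b_rc_7_0 lc_b_rc_7_1 lc_b_rc_32_46 lc_b_rc_7_0 lc_b_rc_32_31 lc_b_Cert_tree lc_b_rc_7_0 lc_b_Cert_tree lc_b_rc_7_0 lc_b_rc_7_0 lc_b_rc_7_0 lc_b_rc_7_0 lc_b_rc_10_2 lc_b_rc_8_2 lc_b_rc_7_1 lc_b_rc_8_2) (@D3.rec (fun _ => (Cert rels S Gen.b)) lc_b_rc_11_2 lc_b_rc_7_0 lc_b_Cert_tree lc_b_rc_8_2 lc_b_rc_11_2 lc_b_rc_7_0 lc_b_Cert_tree lc_b_rc_7_1 lc_b_rc_32_15 lc_b_rc_9_0 lc_b_rc_8_4 lc_b_rc_8_4 lc_b_rc_7_0 lc_b_Cert_tree lc_b_rc_30_13 lc_b_rc_7_0 lc_b_rc_11_2 lc_b_rc_12_4 lc_b_Cert_tree lc_b_rc_7_0 lc_b_Cert_tree lc_b_rc_7_0 lc_b_rc_7_0 lc_b_rc_7_0 lc_b_rc_7_0 lc_b_rc_10_2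 lc_b_rc_31_3 lc_b_rc_12_4 lc_b_rc_8_2 lc_b_rc_12_2 lc_b_rc_7_0 lc_b_rc_9_0 lc_b_rc_8_2 lc_b_rc_12_2 lc_b_rc_7_0 lc_b_rc_8_4 lc_b_rc_31_9 lc_b_rc_30_5 lc_b_rc_11_4 lc_b_rc_32_36) (@D3.rec (fun _ => (Cert rels S Gen.b)) lc_b_rc_12_4 lc_b_rc_7_0 lc_b_rc_30_17 lc_b_rc_7_0 lc_b_rc_11_4 lc_b_rc_7_0 lc_b_rc_9_2 lc_b_rc_8_2 lc_b_rc_10_2 lc_b_rc_8_0 lc_b_rc_7_0 lc_b_rc_7_0 lc_b_Cert_tree lc_b_rc_12_2 lc_b_rc_11_2 lc_b_rc_7_0 lc_b_Cert_tree lc_b_rc_8_2 lc_b_rc_11_2 lc_b_rc_7_0 lc_b_rc_31_6 lc_b_rc_9_2 lc_b_rc_31_6 lc_b_rc_7_0 lc_b_rc_1_3 lc_b_rc_30_13 lc_b_rc_12_2 lc_b_rc_7_0 lc_b_rc_11_2 lc_b_rc_12_2 lc_b_rc_7_0 lc_b_rc_7_0 lc_b_rc_9_2 lc_b_rc_8_2 lc_b_rc_10_2 lc_b_rc_8_0 lc_b_rc_7_0 lc_b_rc_7_0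 lc_b_Cert_tree lc_b_rc_11_2) (@D3.rec (fun _ => (Cert rels S Gen.b)) lc_b_rc_11_4 lc_b_rc_7_0 lc_b_Cert_tree lc_b_rc_8_2 lc_b_rc_10_2 lc_b_rc_7_0 lc_b_rc_7_0 lc_b_rc_7_1 lc_b_rc_8_4 lc_b_rc_30_9 lc_b_rc_30_13 lc_b_rc_10_0 lc_b_rc_11_2 lc_b_rc_7_0 lc_b_rc_1_7 lc_b_rc_10_2 lc_b_rc_7_0 lc_b_rc_7_0 lc_b_rc_12_4 lc_b_rc_11_4 lc_b_rc_7_0 lc_b_rc_11_2 lc_b_rc_7_0 lc_b_Cert_tree lc_b_rc_31_6 lc_b_rc_9_2 lc_b_rc_10_2 lc_b_rc_11_4 lc_b_rc_8_4 lc_b_rc_7_0 lc_b_rc_7_0 lc_b_rc_30_13 lc_b_rc_8_2 lc_b_rc_8_2 lc_b_rc_7_0 lc_b_rc_7_0 lc_b_rc_8_4 lc_b_Cert_tree lc_b_rc_9_2 lc_b_rc_10_2) (@D3.rec (fun _ => (Cert rels S Gen.b)) lc_b_rc_9_0 lc_b_Cert_tree lc_b_rc_7_0 lc_b_rc_7_0 lc_b_rc_7_1 lc_b_rc_7_0 lc_b_rc_8_4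 lc_b_rc_30_17 lc_b_rc_7_1 lc_b_Cert_tree lc_b_rc_7_0 lc_b_rc_9_2 lc_b_rc_11_4 lc_b_rc_12_2 lc_b_rc_9_0 lc_b_rc_7_0 lc_b_rc_7_0 lc_b_rc_8_2 lc_b_rc_31_6 lc_b_rc_7_0 lc_b_rc_12_2 lc_b_rc_7_0 lc_b_Cert_tree lc_b_rc_9_2 lc_b_rc_9_2 lc_b_rc_10_0 lc_b_rc_7_0 lc_b_rc_10_2 lc_b_rc_7_0 lc_b_rc_8_2 lc_b_rc_8_2 lc_b_rc_9_2 lc_b_rc_7_0 lc_b_rc_12_2 lc_b_Cert_tree lc_b_rc_9_2 lc_b_rc_10_2 lc_b_rc_10_2 lc_b_Cert_tree lc_b_rc_7_0) (@D3.rec (fun _ => (Cert rels S Gen.b)) lc_b_rc_7_0 lc_b_rc_9_0 lc_b_rc_7_0 lc_b_rc_7_1 lc_b_Cert_tree lc_b_rc_7_0 lc_b_rc_9_2 lc_b_rc_7_1 lc_b_rc_11_2 lc_b_rc_31_9 lc_b_rc_7_0 lc_b_rc_8_2 lc_b_rc_7_0 lc_b_rc_7_0 lc_b_rc_7_0 lc_b_rc_30_5 lc_b_rc_8_2 lc_b_rc_11_2 lc_b_rc_8_2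 lc_b_rc_7_0 lc_b_rc_12_0 lc_b_rc_9_2 lc_b_rc_7_0 lc_b_rc_9_2 lc_b_rc_8_2 lc_b_rc_7_0 lc_b_rc_7_0 lc_b_rc_10_2 lc_b_Cert_tree lc_b_rc_7_0 lc_b_rc_30_5 lc_b_rc_8_2 lc_b_rc_11_2 lc_b_rc_30_13 lc_b_rc_7_0 lc_b_rc_31_6 lc_b_rc_30_1 lc_b_rc_8_2 lc_b_rc_12_2 lc_b_rc_9_2) (@D3.rec (fun _ => (Cert rels S Gen.b)) lc_b_rc_8_2 lc_b_rc_8_2 lc_b_rc_9_2 lc_b_rc_7_0 lc_b_Cert_tree lc_b_rc_7_0 lc_b_rc_9_2 lc_b_rc_10_2 lc_b_rc_7_0 lc_b_rc_8_2 lc_b_rc_1_5 lc_b_Cert_tree lc_b_rc_7_0 lc_b_rc_1_5 lc_b_rc_11_4 lc_b_rc_12_2 lc_b_rc_31_6 lc_b_Cert_tree lc_b_rc_8_2 lc_b_rc_11_2 lc_b_rc_7_0 lc_b_rc_8_2 lc_b_rc_12_2 lc_b_rc_8_2 lc_b_rc_9_2 lc_b_Cert_tree lc_b_rc_8_2 lc_b_rc_7_0 lc_b_rc_7_0 lc_b_rc_7_0 lc_b_rc_12_2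 lc_b_rc_12_4 lc_b_rc_7_0 lc_b_rc_31_9 lc_b_rc_30_13 lc_b_rc_7_0 lc_b_rc_9_2 lc_b_rc_8_2 lc_b_rc_7_0 lc_b_rc_7_0) (@D3.rec (fun _ => (Cert rels S Gen.b)) lc_b_rc_10_2 lc_b_Cert_tree lc_b_rc_7_0 lc_b_rc_9_0 lc_b_rc_7_0 lc_b_rc_31_9 lc_b_rc_9_0 lc_b_rc_8_2 lc_b_rc_11_2 lc_b_rc_9_0 lc_b_rc_8_2 lc_b_rc_12_2 lc_b_rc_30_1 lc_b_rc_8_2 lc_b_rc_8_2 lc_b_rc_7_0 lc_b_rc_7_0 lc_b_Cert_tree lc_b_rc_7_0 lc_b_rc_9_2 lc_b_rc_10_2 lc_b_rc_7_0 lc_b_rc_8_2 lc_b_rc_1_5 lc_b_Cert_tree lc_b_rc_7_0 lc_b_rc_31_6 lc_b_Cert_tree lc_b_rc_31_12 lc_b_rc_8_2 lc_b_rc_8_2 lc_b_rc_12_2 lc_b_rc_8_2 lc_b_rc_9_2 lc_b_Cert_tree lc_b_rc_7_0 lc_b_rc_7_0 lc_b_rc_8_2 lc_b_rc_11_2 lc_b_rc_31_3) (@D3.rec (fun _ => (Cert rels S Gen.b))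 lc_b_rc_7_0 lc_b_rc_8_2 lc_b_rc_1_5 lc_b_rc_7_0 lc_b_rc_7_0 lc_b_rc_8_2 lc_b_Cert_tree lc_b_rc_7_0 lc_b_rc_9_0 lc_b_rc_7_0 lc_b_Cert_tree lc_b_rc_8_2 lc_b_rc_12_2 lc_b_rc_9_2 lc_b_Cert_tree lc_b_rc_7_0 lc_b_rc_7_0 lc_b_rc_8_2 lc_b_rc_9_2 lc_b_rc_9_2 lc_b_rc_7_0 lc_b_rc_8_2 lc_b_rc_12_4 lc_b_rc_7_0 lc_b_rc_7_0 lc_b_rc_11_2 lc_b_rc_31_6 lc_b_rc_7_0 lc_b_rc_7_0 lc_b_Cert_tree lc_b_rc_8_2 lc_b_rc_9_0 lc_b_rc_1_7 lc_b_rc_9_2 lc_b_Cert_tree lc_b_rc_7_0 lc_b_rc_7_0 lc_b_rc_8_4 lc_b_rc_8_4 lc_b_rc_9_2) (@D3.rec (fun _ => (Cert rels S Gen.b)) lc_b_rc_10_2 lc_b_rc_7_0 lc_b_Cert_tree lc_b_rc_9_2 lc_b_rc_10_0 lc_b_rc_9_2 lc_b_rc_8_2 lc_b_rc_8_4 lc_b_rc_10_2 lc_b_rc_9_2 lc_b_rc_9_2 lc_b_rc_10_2 lc_b_rc_9_2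 lc_b_Cert_tree lc_b_rc_9_2 lc_b_rc_31_3 lc_b_rc_7_0 lc_b_rc_8_4 lc_b_rc_8_4 lc_b_rc_12_2 lc_b_rc_10_2 lc_b_rc_10_2 lc_b_rc_10_2 lc_b_rc_10_2 lc_b_rc_10_2 lc_b_rc_7_0 lc_b_rc_12_2 lc_b_rc_8_2 lc_b_rc_11_2 lc_b_rc_9_2 lc_b_rc_12_4 lc_b_rc_11_2 lc_b_rc_11_2 lc_b_rc_7_0 lc_b_rc_7_0 lc_b_rc_9_2 lc_b_rc_8_2 lc_b_rc_12_2 lc_b_rc_9_2 lc_b_rc_11_4) (@D3.rec (fun _ => (Cert rels S Gen.b)) lc_b_rc_31_9 lc_b_rc_12_2 lc_b_rc_7_0 lc_b_rc_10_2 lc_b_rc_11_4 lc_b_rc_10_2 lc_b_rc_8_4 lc_b_rc_7_0 lc_b_rc_10_2 lc_b_rc_12_4 lc_b_rc_30_13 lc_b_rc_8_4 lc_b_rc_7_0 lc_b_rc_30_13 lc_b_rc_9_2 lc_b_rc_8_2 lc_b_rc_9_2 lc_b_rc_32_46 lc_b_rc_32_46 lc_b_rc_11_2 lc_b_rc_12_2 lc_b_rc_7_0 lc_b_rc_11_2 lc_b_rc_30_13 lc_b_rc_10_0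 lc_b_Cert_tree lc_b_rc_30_5 lc_b_rc_7_0 lc_b_rc_1_3 lc_b_rc_1_5 lc_b_rc_8_2 lc_b_rc_11_2 lc_b_rc_7_0 lc_b_rc_12_2 lc_b_rc_7_0 lc_b_rc_31_6 lc_b_rc_31_12 lc_b_rc_10_2 lc_b_rc_7_0 lc_b_rc_7_0) (@D3.rec (fun _ => (Cert rels S Gen.b)) lc_b_rc_12_2 lc_b_rc_8_2 lc_b_rc_12_2 lc_b_rc_30_5 lc_b_rc_8_2 lc_b_rc_9_2 lc_b_rc_9_2 lc_b_rc_31_3 lc_b_rc_30_5 lc_b_rc_8_2 lc_b_rc_9_2 lc_b_rc_9_2 lc_b_rc_8_2 lc_b_Cert_tree lc_b_rc_9_2 lc_b_Cert_tree lc_b_rc_9_2 lc_b_rc_8_2 lc_b_rc_8_2 lc_b_rc_10_2 lc_b_rc_9_2 lc_b_rc_11_2 lc_b_rc_10_2 lc_b_rc_30_5 lc_b_rc_9_2 lc_b_rc_11_2 lc_b_rc_8_2 lc_b_rc_10_2 lc_b_rc_11_2 lc_b_rc_12_2 lc_b_rc_10_2 lc_b_rc_9_0 lc_b_rc_9_2 lc_b_Cert_tree lc_b_rc_10_0 lc_b_rc_7_0 lc_b_rc_12_2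 lc_b_rc_11_2 lc_b_rc_7_0 lc_b_rc_9_2) (@D3.rec (fun _ => (Cert rels S Gen.b)) lc_b_rc_12_2 lc_b_Cert_tree lc_b_rc_7_0 lc_b_rc_9_2 lc_b_rc_9_2 lc_b_rc_7_0 lc_b_rc_9_2 lc_b_rc_7_0 lc_b_rc_12_2 lc_b_rc_9_2 lc_b_rc_9_2 lc_b_rc_1_5 lc_b_rc_7_0 lc_b_rc_8_2 lc_b_rc_1_3 lc_b_rc_10_2 lc_b_rc_12_2 lc_b_rc_7_0 lc_b_rc_1_5 lc_b_rc_7_0 lc_b_Cert_tree lc_b_rc_7_0 lc_b_rc_1_7 lc_b_rc_10_2 lc_b_rc_10_2 lc_b_rc_7_0 lc_b_rc_7_0 lc_b_rc_12_2 lc_b_rc_7_0 lc_b_rc_9_2 lc_b_rc_8_2 lc_b_rc_9_2 lc_b_rc_8_2 lc_b_rc_7_0 lc_b_rc_12_2 lc_b_rc_11_2 lc_b_rc_8_2 lc_b_rc_7_1 lc_b_rc_30_17 lc_b_Cert_tree) (@D3.rec (fun _ => (Cert rels S Gen.b)) lc_b_rc_10_0 lc_b_rc_31_9 lc_b_rc_10_2 lc_b_rc_7_0 lc_b_rc_11_2 lc_b_rc_32_36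 lc_b_Cert_tree lc_b_rc_7_0 lc_b_rc_8_2 lc_b_rc_31_9 lc_b_rc_7_0 lc_b_rc_10_2 lc_b_rc_7_0 lc_b_rc_11_2 lc_b_rc_11_2 lc_b_rc_9_2 lc_b_rc_7_0 lc_b_rc_8_2 lc_b_rc_12_4 lc_b_rc_10_2 lc_b_rc_30_13 lc_b_rc_30_5 lc_b_rc_7_0 lc_b_rc_7_0 lc_b_Cert_tree lc_b_rc_7_0 lc_b_rc_1_7 lc_b_rc_10_2 lc_b_rc_9_2 lc_b_rc_7_0 lc_b_rc_7_0 lc_b_rc_31_9 lc_b_rc_7_0 lc_b_rc_11_2 lc_b_rc_8_2 lc_b_rc_9_2 lc_b_rc_8_2 lc_b_rc_11_2 lc_b_rc_12_2 lc_b_rc_12_2) (@D3.rec (fun _ => (Cert rels S Gen.b)) lc_b_rc_30_13 lc_b_rc_31_6 lc_b_rc_12_2 lc_b_Cert_tree lc_b_rc_7_0 lc_b_rc_10_2 lc_b_rc_10_2 lc_b_rc_9_2 lc_b_rc_7_0 lc_b_rc_32_41 lc_b_rc_7_0 lc_b_rc_9_2 lc_b_rc_32_67 lc_b_rc_10_2 lc_b_rc_32_57 lc_b_rc_10_2 lc_b_rc_12_2 lc_b_rc_10_2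 lc_b_rc_7_0 lc_b_rc_9_2 lc_b_rc_8_2 lc_b_rc_32_57 lc_b_rc_9_2 lc_b_rc_8_2 lc_b_rc_7_0 lc_b_Cert_tree lc_b_rc_7_0 lc_b_rc_10_2 lc_b_rc_10_2 lc_b_rc_10_2 lc_b_rc_9_2 lc_b_rc_7_0 lc_b_rc_10_0 lc_b_rc_8_2 lc_b_rc_9_2 lc_b_rc_7_0 lc_b_rc_1_7 lc_b_rc_8_2 lc_b_rc_8_2 lc_b_rc_7_0) (@D3.rec (fun _ => (Cert rels S Gen.b)) lc_b_rc_7_0 lc_b_rc_9_2 lc_b_rc_7_1 lc_b_rc_9_2 lc_b_rc_9_2 lc_b_rc_10_2 lc_b_rc_7_0 lc_b_rc_8_2 lc_b_rc_10_2 lc_b_rc_9_2 lc_b_rc_7_0 lc_b_rc_8_2 lc_b_rc_7_0 lc_b_rc_7_0 lc_b_rc_11_2 lc_b_rc_12_2 lc_b_rc_31_9 lc_b_rc_10_2 lc_b_rc_11_2 lc_b_rc_10_2 lc_b_rc_7_0 lc_b_rc_9_2 lc_b_rc_32_36 lc_b_rc_30_5 lc_b_rc_32_41 lc_b_rc_32_62 lc_b_rc_7_0 lc_b_rc_32_10 lc_b_rc_7_0 lc_b_rc_1_3 lc_b_rc_9_0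 lc_b_rc_11_2 lc_b_rc_9_2 lc_b_rc_7_0 lc_b_rc_1_7 lc_b_rc_8_2 lc_b_rc_31_9 lc_b_rc_7_0 lc_b_rc_31_6 lc_b_rc_8_2) (@D3.rec (fun _ => (Cert rels S Gen.b)) lc_b_rc_31_9 lc_b_rc_7_0 lc_b_rc_7_0 lc_b_rc_31_9 lc_b_rc_9_2 lc_b_rc_9_2 lc_b_rc_7_0 lc_b_rc_9_2 lc_b_rc_11_2 lc_b_rc_7_0 lc_b_rc_7_1 lc_b_rc_7_0 lc_b_rc_12_2 lc_b_rc_8_2 lc_b_rc_10_2 lc_b_rc_1_5 lc_b_rc_9_2 lc_b_rc_31_3 lc_b_Cert_tree lc_b_rc_10_2 lc_b_rc_1_5 lc_b_rc_7_0 lc_b_rc_7_0 lc_b_rc_30_13 lc_b_rc_8_4 lc_b_rc_9_2 lc_b_rc_7_0 lc_b_rc_1_7 lc_b_rc_10_2 lc_b_rc_12_2 lc_b_rc_7_0 lc_b_rc_30_9 lc_b_rc_1_3 lc_b_rc_12_2 lc_b_rc_9_2 lc_b_rc_9_2 lc_b_rc_10_2 lc_b_rc_12_2 lc_b_rc_32_36 lc_b_rc_10_2) (@D3.rec (fun _ => (Cert rels S Gen.b))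 lc_b_rc_7_0 lc_b_rc_30_17 lc_b_rc_9_2 lc_b_rc_8_2 lc_b_rc_10_2 lc_b_rc_7_0 lc_b_rc_9_2 lc_b_rc_8_4 lc_b_Cert_tree lc_b_rc_10_2 lc_b_rc_11_4 lc_b_rc_9_2 lc_b_rc_7_0 lc_b_rc_7_0 lc_b_rc_8_4 lc_b_rc_7_1 lc_b_Cert_tree lc_b_rc_7_0 lc_b_rc_10_2 lc_b_rc_10_2 lc_b_rc_12_2 lc_b_rc_12_2 lc_b_rc_1_5 lc_b_rc_1_1 lc_b_rc_7_0 lc_b_Cert_tree lc_b_rc_10_2 lc_b_rc_7_0 lc_b_rc_31_3 lc_b_rc_1_5 lc_b_rc_11_2 lc_b_rc_7_1 lc_b_rc_7_0 lc_b_rc_11_0 lc_b_rc_7_0 lc_b_rc_9_0 lc_b_rc_31_3 lc_b_rc_7_0 lc_b_rc_8_4 lc_b_rc_10_2) (@D3.rec (fun _ => (Cert rels S Gen.b)) lc_b_rc_7_0 lc_b_rc_31_3 lc_b_rc_10_2 lc_b_rc_31_12 lc_b_rc_9_2 lc_b_Cert_tree lc_b_rc_9_2 lc_b_rc_7_0 lc_b_rc_12_2 lc_b_rc_7_0 lc_b_Cert_tree lc_b_Cert_tree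 lc_b_rc_7_0 lc_b_rc_7_0 lc_b_rc_11_2 lc_b_rc_1_7 lc_b_rc_8_2 lc_b_rc_31_6 lc_b_rc_10_2 lc_b_rc_31_3 lc_b_rc_10_2 lc_b_Cert_tree lc_b_rc_7_0 lc_b_rc_9_2 lc_b_rc_9_2 lc_b_rc_7_0 lc_b_rc_10_2 lc_b_rc_7_0 lc_b_rc_7_0 lc_b_rc_1_5 lc_b_rc_10_2 lc_b_rc_30_5 lc_b_rc_10_2 lc_b_rc_31_3 lc_b_Cert_tree lc_b_rc_9_2 lc_b_rc_7_0 lc_b_Cert_tree lc_b_rc_11_2 lc_b_rc_7_0) (@D3.rec (fun _ => (Cert rels S Gen.b)) lc_b_rc_8_4 lc_b_rc_7_0 lc_b_Cert_tree lc_b_rc_10_2 lc_b_rc_7_0 lc_b_rc_32_62 lc_b_Cert_tree lc_b_rc_7_0 lc_b_rc_12_2 lc_b_rc_1_5 lc_b_rc_31_3 lc_b_rc_11_2 lc_b_rc_7_0 lc_b_rc_1_5 lc_b_rc_31_0 lc_b_rc_10_2 lc_b_rc_9_0 lc_b_rc_12_2 lc_b_rc_9_2 lc_b_rc_12_2 lc_b_rc_7_0 lc_b_rc_30_9 lc_b_rc_7_0 lc_b_rc_7_1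 lc_b_rc_8_2 lc_b_rc_10_2 lc_b_rc_9_2 lc_b_rc_31_9 lc_b_rc_30_9 lc_b_rc_10_2 lc_b_rc_9_2 lc_b_rc_7_0 lc_b_rc_7_0 lc_b_rc_31_6 lc_b_rc_30_17 lc_b_rc_9_2 lc_b_rc_30_5 lc_b_rc_10_2 lc_b_rc_11_2 lc_b_rc_7_0) (@D3.rec (fun _ => (Cert rels S Gen.b)) lc_b_rc_11_2 lc_b_rc_9_2 lc_b_rc_9_2 lc_b_rc_11_2 lc_b_rc_1_5 lc_b_rc_10_2 lc_b_rc_7_0 lc_b_rc_11_2 lc_b_rc_9_2 lc_b_rc_7_1 lc_b_rc_10_2 lc_b_rc_7_0 lc_b_rc_9_2 lc_b_rc_30_13 lc_b_Cert_tree lc_b_rc_10_2 lc_b_rc_9_2 lc_b_rc_31_3 lc_b_rc_7_0 lc_b_rc_7_0 lc_b_rc_10_2 lc_b_rc_7_1 lc_b_rc_10_2 lc_b_rc_11_2 lc_b_rc_10_2 lc_b_Cert_tree lc_b_rc_10_2 lc_b_rc_7_0 lc_b_rc_30_5 lc_b_rc_12_2 lc_b_rc_7_0 lc_b_rc_1_7 lc_b_rc_7_0 lc_b_rc_9_0 lc_b_rc_7_0 lc_b_rc_30_5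 lc_b_rc_10_2 lc_b_rc_7_0 lc_b_rc_11_4 lc_b_rc_10_2) (@D3.rec (fun _ => (Cert rels S Gen.b)) lc_b_rc_31_12 lc_b_rc_9_2 lc_b_rc_10_2 lc_b_rc_10_2 lc_b_rc_12_2 lc_b_Cert_tree lc_b_rc_7_0 lc_b_Cert_tree lc_b_rc_7_0 lc_b_rc_7_0 lc_b_rc_12_2 lc_b_rc_8_2 lc_b_rc_31_3 lc_b_rc_10_2 lc_b_rc_10_2 lc_b_rc_1_3 lc_b_rc_9_2 lc_b_rc_31_9 lc_b_rc_10_2 lc_b_rc_11_2 lc_b_rc_7_0 lc_b_rc_1_5 lc_b_rc_10_2 lc_b_rc_31_3 lc_b_rc_8_4 lc_b_rc_7_0 lc_b_rc_10_2 lc_b_rc_7_0 lc_b_Cert_tree lc_b_rc_10_2 lc_b_rc_7_0 lc_b_rc_30_5 lc_b_Cert_tree lc_b_rc_7_0 lc_b_rc_7_0 lc_b_rc_30_9 lc_b_rc_7_0 lc_b_rc_31_6 lc_b_rc_31_3 lc_b_rc_10_2) (@D3.rec (fun _ => (Cert rels S Gen.b)) lc_b_rc_10_2 lc_b_rc_7_0 lc_b_rc_12_4 lc_b_rc_8_2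 lc_b_Cert_tree lc_b_rc_30_1 lc_b_rc_7_0 lc_b_rc_10_2 lc_b_rc_10_2 lc_b_rc_11_2 lc_b_rc_10_2 lc_b_rc_7_0 lc_b_rc_7_0 lc_b_rc_10_2 lc_b_rc_9_2 lc_b_rc_10_0 lc_b_rc_11_4 lc_b_rc_7_0 lc_b_rc_8_2 lc_b_rc_10_2 lc_b_rc_7_0 lc_b_rc_8_4 lc_b_Cert_tree lc_b_rc_7_0 lc_b_rc_9_0 lc_b_rc_10_2 lc_b_rc_12_2 lc_b_Cert_tree lc_b_rc_7_0 lc_b_rc_12_4 lc_b_rc_10_2 lc_b_rc_8_2 lc_b_Cert_tree lc_b_rc_11_2 lc_b_Cert_tree lc_b_rc_8_2 lc_b_rc_7_0 lc_b_rc_31_6 lc_b_rc_10_2 lc_b_rc_31_6) (@D3.rec (fun _ => (Cert rels S Gen.b)) lc_b_rc_10_2 lc_b_rc_30_17 lc_b_rc_7_1 lc_b_rc_7_0 lc_b_rc_31_9 lc_b_rc_7_0 lc_b_rc_9_2 lc_b_rc_10_2 lc_b_rc_9_2 lc_b_rc_10_2 lc_b_rc_10_2 lc_b_rc_31_6 lc_b_rc_9_2 lc_b_rc_12_2 lc_b_rc_12_2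 lc_b_rc_31_9 lc_b_rc_10_2 lc_b_rc_9_2 lc_b_rc_7_0 lc_b_rc_9_2 lc_b_rc_31_6 lc_b_rc_8_2 lc_b_rc_7_1 lc_b_rc_30_13 lc_b_rc_7_0 lc_b_rc_7_0 lc_b_rc_31_3 lc_b_rc_9_0 lc_b_rc_9_2 lc_b_rc_10_2 lc_b_rc_10_2 lc_b_rc_7_0 lc_b_Cert_tree lc_b_rc_8_2 lc_b_rc_7_0 lc_b_Cert_tree lc_b_rc_12_4 lc_b_rc_7_0 lc_b_rc_8_2 lc_b_rc_8_2)
def ce_b_21 : D2 → D3 → (Cert rels S Gen.b) := @D2.rec (fun _ => D3 → (Cert rels S Gen.b)) (@D3.rec (fun _ => (Cert rels S Gen.b)) lc_b_rc_30_5 lc_b_rc_7_0 lc_b_rc_8_4 lc_b_rc_10_2 lc_b_rc_11_4 lc_b_rc_7_0 lc_b_Cert_tree lc_b_rc_31_9 lc_b_rc_12_2 lc_b_rc_12_2 lc_b_rc_7_0 lc_b_rc_9_2 lc_b_rc_11_4 lc_b_rc_12_4 lc_b_rc_30_17 lc_b_Cert_tree lc_b_rc_7_0 lc_b_rc_7_0 lc_b_rc_32_26 lc_b_rc_7_0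 lc_b_rc_11_2 lc_b_rc_32_41 lc_b_rc_30_13 lc_b_rc_9_2 lc_b_rc_12_4 lc_b_rc_8_2 lc_b_rc_30_13 lc_b_rc_30_5 lc_b_Cert_tree lc_b_rc_12_4 lc_b_rc_12_2 lc_b_rc_10_2 lc_b_rc_7_0 lc_b_rc_9_2 lc_b_rc_8_4 lc_b_rc_7_0 lc_b_rc_8_2 lc_b_rc_10_2 lc_b_rc_7_0 lc_b_rc_8_4) (@D3.rec (fun _ => (Cert rels S Gen.b)) lc_b_Cert_tree lc_b_rc_31_9 lc_b_rc_10_2 lc_b_rc_31_6 lc_b_rc_31_0 lc_b_rc_8_2 lc_b_Cert_tree lc_b_rc_30_13 lc_b_Cert_tree lc_b_rc_10_2 lc_b_rc_7_0 lc_b_rc_31_3 lc_b_rc_12_2 lc_b_rc_12_4 lc_b_rc_7_0 lc_b_rc_10_0 lc_b_rc_7_0 lc_b_rc_10_2 lc_b_rc_9_2 lc_b_rc_10_2 lc_b_rc_9_2 lc_b_rc_11_2 lc_b_rc_12_4 lc_b_rc_9_0 lc_b_rc_9_2 lc_b_rc_1_5 lc_b_rc_12_2 lc_b_rc_30_13 lc_b_rc_30_9 lc_b_rc_7_0 lc_b_rc_7_0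 lc_b_rc_1_7 lc_b_rc_8_2 lc_b_rc_9_2 lc_b_Cert_tree lc_b_rc_8_2 lc_b_rc_7_0 lc_b_rc_30_13 lc_b_rc_7_0 lc_b_rc_8_2) (@D3.rec (fun _ => (Cert rels S Gen.b)) lc_b_rc_8_4 lc_b_rc_7_0 lc_b_Cert_tree lc_b_rc_9_2 lc_b_rc_12_4 lc_b_rc_7_0 lc_b_rc_9_2 lc_b_rc_10_2 lc_b_rc_1_5 lc_b_rc_7_1 lc_b_rc_8_4 lc_b_rc_7_0 lc_b_rc_31_6 lc_b_rc_7_0 lc_b_rc_10_2 lc_b_rc_32_41 lc_b_rc_30_5 lc_b_rc_12_4 lc_b_rc_32_46 lc_b_rc_10_2 lc_b_rc_11_4 lc_b_rc_10_0 lc_b_rc_7_0 lc_b_rc_7_0 lc_b_rc_31_6 lc_b_rc_8_4 lc_b_rc_1_7 lc_b_rc_7_0 lc_b_rc_7_0 lc_b_Cert_tree lc_b_rc_7_0 lc_b_rc_8_4 lc_b_rc_10_2 lc_b_rc_7_0 lc_b_rc_11_4 lc_b_rc_8_2 lc_b_rc_9_2 lc_b_rc_9_0 lc_b_rc_1_5 lc_b_rc_10_2) (@D3.rec (fun _ => (Cert rels S Gen.b))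 lc_b_rc_12_4 lc_b_rc_7_0 lc_b_rc_9_2 lc_b_rc_7_0 lc_b_rc_7_0 lc_b_rc_11_2 lc_b_rc_10_2 lc_b_rc_10_2 lc_b_rc_10_2 lc_b_rc_9_2 lc_b_rc_7_0 lc_b_rc_11_2 lc_b_rc_1_5 lc_b_rc_1_5 lc_b_rc_31_6 lc_b_rc_12_2 lc_b_rc_8_4 lc_b_rc_10_2 lc_b_rc_12_4 lc_b_rc_10_0 lc_b_rc_7_0 lc_b_rc_7_0 lc_b_rc_7_1 lc_b_rc_8_4 lc_b_rc_12_4 lc_b_rc_9_2 lc_b_rc_7_0 lc_b_Cert_tree lc_b_rc_7_0 lc_b_rc_11_2 lc_b_rc_8_4 lc_b_rc_7_0 lc_b_rc_9_2 lc_b_rc_8_2 lc_b_rc_30_5 lc_b_rc_9_2 lc_b_rc_1_5 lc_b_rc_10_2 lc_b_rc_12_4 lc_b_rc_7_0) (@D3.rec (fun _ => (Cert rels S Gen.b)) lc_b_rc_9_2 lc_b_rc_31_6 lc_b_rc_7_0 lc_b_rc_12_2 lc_b_rc_31_6 lc_b_rc_10_2 lc_b_rc_10_2 lc_b_rc_9_2 lc_b_rc_7_0 lc_b_rc_12_2 lc_b_rc_31_6 lc_b_rc_31_6 lc_b_rc_11_2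 lc_b_rc_10_2 lc_b_rc_8_4 lc_b_rc_9_2 lc_b_rc_7_0 lc_b_rc_7_0 lc_b_rc_7_0 lc_b_rc_7_0 lc_b_rc_7_0 lc_b_rc_7_0 lc_b_rc_32_36 lc_b_rc_32_41 lc_b_rc_11_2 lc_b_rc_10_2 lc_b_rc_10_2 lc_b_rc_10_2 lc_b_rc_7_0 lc_b_rc_32_67 lc_b_rc_30_9 lc_b_rc_7_0 lc_b_rc_7_0 lc_b_rc_7_0 lc_b_rc_7_0 lc_b_rc_7_0 lc_b_rc_32_36 lc_b_rc_31_9 lc_b_rc_30_5 lc_b_rc_10_2) (@D3.rec (fun _ => (Cert rels S Gen.b)) lc_b_rc_10_2 lc_b_rc_11_4 lc_b_rc_7_0 lc_b_rc_9_0 lc_b_rc_9_2 lc_b_rc_10_2 lc_b_rc_9_2 lc_b_rc_10_2 lc_b_rc_7_0 lc_b_rc_8_0 lc_b_rc_10_2 lc_b_rc_7_0 lc_b_rc_9_2 lc_b_rc_12_2 lc_b_rc_31_6 lc_b_rc_30_9 lc_b_rc_12_2 lc_b_rc_1_5 lc_b_rc_9_2 lc_b_rc_1_3 lc_b_rc_9_2 lc_b_rc_7_0 lc_b_rc_30_5 lc_b_rc_9_2 lc_b_rc_7_0 lc_b_rc_10_2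 lc_b_rc_1_3 lc_b_rc_1_5 lc_b_rc_7_0 lc_b_rc_11_2 lc_b_rc_9_2 lc_b_rc_10_2 lc_b_rc_9_2 lc_b_rc_30_5 lc_b_rc_12_4 lc_b_rc_7_0 lc_b_rc_9_2 lc_b_Cert_tree lc_b_rc_7_0 lc_b_rc_9_2) (@D3.rec (fun _ => (Cert rels S Gen.b)) lc_b_rc_11_2 lc_b_rc_7_0 lc_b_rc_8_2 lc_b_rc_9_2 lc_b_rc_10_2 lc_b_rc_9_2 lc_b_rc_32_57 lc_b_rc_30_9 lc_b_rc_7_0 lc_b_rc_30_13 lc_b_Cert_tree lc_b_rc_7_0 lc_b_rc_9_2 lc_b_rc_8_2 lc_b_rc_7_0 lc_b_rc_8_2 lc_b_Cert_tree lc_b_rc_7_0 lc_b_rc_30_9 lc_b_Cert_tree lc_b_rc_7_0 lc_b_rc_7_0 lc_b_rc_7_0 lc_b_Cert_tree lc_b_rc_7_0 lc_b_rc_30_9 lc_b_rc_11_4 lc_b_rc_11_2 lc_b_rc_7_0 lc_b_rc_9_2 lc_b_rc_7_0 lc_b_rc_9_2 lc_b_rc_7_0 lc_b_Cert_tree lc_b_rc_7_0 lc_b_rc_7_0 lc_b_rc_30_17 lc_b_rc_11_4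 lc_b_rc_12_4 lc_b_rc_7_0) (@D3.rec (fun _ => (Cert rels S Gen.b)) lc_b_rc_8_2 lc_b_rc_7_0 lc_b_rc_11_2 lc_b_rc_32_36 lc_b_rc_9_2 lc_b_Cert_tree lc_b_rc_12_2 lc_b_rc_30_13 lc_b_rc_9_2 lc_b_Cert_tree lc_b_rc_9_2 lc_b_rc_7_0 lc_b_rc_9_2 lc_b_rc_7_0 lc_b_rc_7_0 lc_b_rc_7_0 lc_b_rc_9_2 lc_b_rc_31_6 lc_b_rc_30_13 lc_b_rc_7_0 lc_b_rc_30_5 lc_b_rc_7_0 lc_b_rc_8_2 lc_b_rc_7_0 lc_b_rc_9_2 lc_b_rc_11_2 lc_b_rc_7_0 lc_b_rc_9_2 lc_b_Cert_tree lc_b_Cert_tree lc_b_rc_8_2 lc_b_rc_7_0 lc_b_rc_10_2 lc_b_rc_10_2 lc_b_rc_7_0 lc_b_rc_8_2 lc_b_rc_30_9 lc_b_rc_7_0 lc_b_rc_30_9 lc_b_rc_8_2) (@D3.rec (fun _ => (Cert rels S Gen.b)) lc_b_rc_7_0 lc_b_rc_10_2 lc_b_rc_10_2 lc_b_rc_7_0 lc_b_rc_8_2 lc_b_rc_31_6 lc_b_rc_7_0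 lc_b_rc_12_2 lc_b_rc_7_0 lc_b_rc_7_0 lc_b_rc_31_6 lc_b_rc_12_2 lc_b_rc_11_2 lc_b_rc_7_0 lc_b_rc_10_0 lc_b_rc_7_0 lc_b_rc_9_0 lc_b_rc_7_0 lc_b_rc_8_2 lc_b_rc_9_2 lc_b_rc_7_0 lc_b_rc_1_3 lc_b_rc_9_2 lc_b_rc_9_2 lc_b_rc_32_31 lc_b_Cert_tree lc_b_rc_7_0 lc_b_rc_7_0 lc_b_rc_7_0 lc_b_rc_31_6 lc_b_rc_9_2 lc_b_rc_32_36 lc_b_Cert_tree lc_b_rc_7_0 lc_b_rc_7_0 lc_b_rc_7_0 lc_b_rc_11_4 lc_b_rc_11_4 lc_b_rc_12_2 lc_b_rc_8_2) (@D3.rec (fun _ => (Cert rels S Gen.b)) lc_b_rc_8_2 lc_b_rc_12_4 lc_b_rc_12_4 lc_b_rc_30_9 lc_b_rc_30_9 lc_b_rc_8_2 lc_b_rc_7_0 lc_b_rc_31_6 lc_b_rc_9_2 lc_b_rc_10_2 lc_b_rc_7_0 lc_b_rc_9_2 lc_b_rc_8_4 lc_b_rc_10_2 lc_b_rc_9_2 lc_b_rc_12_2 lc_b_rc_9_2 lc_b_rc_10_2 lc_b_rc_10_2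 lc_b_rc_7_1 lc_b_rc_7_0 lc_b_rc_7_0 lc_b_rc_31_9 lc_b_rc_9_2 lc_b_rc_10_2 lc_b_rc_7_0 lc_b_rc_9_2 lc_b_rc_30_9 lc_b_rc_9_0 lc_b_rc_11_2 lc_b_rc_9_2 lc_b_rc_9_2 lc_b_rc_10_2 lc_b_rc_10_2 lc_b_rc_1_5 lc_b_rc_7_0 lc_b_rc_8_2 lc_b_rc_31_3 lc_b_rc_1_3 lc_b_rc_9_2) (@D3.rec (fun _ => (Cert rels S Gen.b)) lc_b_rc_7_0 lc_b_rc_9_2 lc_b_rc_12_2 lc_b_rc_31_12 lc_b_rc_7_1 lc_b_rc_7_1 lc_b_rc_9_2 lc_b_rc_9_2 lc_b_rc_7_0 lc_b_rc_7_0 lc_b_rc_9_2 lc_b_rc_9_2 lc_b_rc_9_2 lc_b_rc_10_0 lc_b_rc_10_2 lc_b_rc_8_2 lc_b_rc_1_3 lc_b_rc_31_9 lc_b_rc_7_0 lc_b_rc_11_2 lc_b_rc_31_6 lc_b_rc_31_6 lc_b_rc_11_2 lc_b_rc_7_0 lc_b_rc_8_2 lc_b_rc_30_13 lc_b_rc_30_9 lc_b_rc_12_2 lc_b_rc_12_4 lc_b_rc_7_0 lc_b_rc_7_0 lc_b_Cert_tree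 lc_b_rc_32_36 lc_b_rc_7_0 lc_b_rc_1_3 lc_b_rc_7_0 lc_b_rc_9_2 lc_b_rc_10_0 lc_b_rc_7_0 lc_b_rc_10_2) (@D3.rec (fun _ => (Cert rels S Gen.b)) lc_b_rc_31_6 lc_b_rc_30_13 lc_b_rc_7_0 lc_b_Cert_tree lc_b_rc_8_2 lc_b_rc_8_2 lc_b_rc_30_5 lc_b_rc_11_2 lc_b_rc_8_2 lc_b_rc_7_0 lc_b_rc_7_0 lc_b_rc_30_13 lc_b_Cert_tree lc_b_rc_7_0 lc_b_rc_9_2 lc_b_rc_7_0 lc_b_rc_31_3 lc_b_rc_7_0 lc_b_rc_30_9 lc_b_rc_30_9 lc_b_rc_30_9 lc_b_rc_7_0 lc_b_Cert_tree lc_b_Cert_tree lc_b_rc_7_0 lc_b_rc_32_31 lc_b_rc_7_0 lc_b_Cert_tree lc_b_rc_7_0 lc_b_rc_7_0 lc_b_Cert_tree lc_b_rc_8_2 lc_b_rc_7_0 lc_b_rc_9_2 lc_b_rc_7_0 lc_b_Cert_tree lc_b_rc_7_0 lc_b_rc_31_9 lc_b_rc_7_0 lc_b_Cert_tree) (@D3.rec (fun _ => (Cert rels S Gen.b))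 lc_b_rc_7_0 lc_b_Cert_tree lc_b_Cert_tree lc_b_rc_7_0 lc_b_Cert_tree lc_b_rc_7_0 lc_b_rc_11_2 lc_b_rc_7_0 lc_b_Cert_tree lc_b_rc_8_2 lc_b_rc_11_2 lc_b_rc_7_0 lc_b_rc_8_2 lc_b_rc_12_2 lc_b_rc_32_31 lc_b_rc_7_0 lc_b_rc_8_2 lc_b_rc_32_31 lc_b_rc_11_2 lc_b_rc_7_0 lc_b_rc_12_2 lc_b_rc_7_0 lc_b_Cert_tree lc_b_rc_8_2 lc_b_rc_12_2 lc_b_rc_7_0 lc_b_rc_9_0 lc_b_rc_30_5 lc_b_rc_32_31 lc_b_rc_7_0 lc_b_rc_12_2 lc_b_rc_11_2 lc_b_rc_11_4 lc_b_rc_9_2 lc_b_rc_7_0 lc_b_rc_9_2 lc_b_rc_9_2 lc_b_rc_7_0 lc_b_Cert_tree lc_b_rc_12_2) (@D3.rec (fun _ => (Cert rels S Gen.b)) lc_b_rc_31_6 lc_b_rc_10_2 lc_b_rc_9_2 lc_b_rc_7_0 lc_b_Cert_tree lc_b_rc_32_36 lc_b_Cert_tree lc_b_rc_10_2 lc_b_rc_7_0 lc_b_rc_11_2 lc_b_rc_8_2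 lc_b_rc_10_2 lc_b_Cert_tree lc_b_rc_7_0 lc_b_rc_11_2 lc_b_rc_7_0 lc_b_rc_10_0 lc_b_rc_8_2 lc_b_rc_7_0 lc_b_rc_9_2 lc_b_Cert_tree lc_b_rc_10_2 lc_b_rc_7_0 lc_b_rc_9_2 lc_b_rc_11_2 lc_b_rc_12_2 lc_b_rc_10_0 lc_b_rc_10_2 lc_b_rc_9_2 lc_b_rc_11_2 lc_b_rc_10_2 lc_b_rc_7_0 lc_b_Cert_tree lc_b_rc_7_0 lc_b_rc_31_9 lc_b_rc_8_2 lc_b_rc_11_4 lc_b_rc_1_3 lc_b_rc_7_0 lc_b_Cert_tree) (@D3.rec (fun _ => (Cert rels S Gen.b)) lc_b_rc_9_2 lc_b_rc_8_2 lc_b_rc_8_4 lc_b_rc_12_2 lc_b_rc_7_0 lc_b_rc_7_0 lc_b_rc_8_2 lc_b_rc_11_2 lc_b_rc_7_1 lc_b_rc_31_9 lc_b_Cert_tree lc_b_rc_9_2 lc_b_rc_11_2 lc_b_rc_7_0 lc_b_rc_8_4 lc_b_rc_31_9 lc_b_rc_30_17 lc_b_rc_30_5 lc_b_rc_9_0 lc_b_rc_7_0 lc_b_Cert_tree lc_b_rc_8_2 lc_b_rc_7_0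 lc_b_rc_7_0 lc_b_rc_7_0 lc_b_rc_8_2 lc_b_rc_12_2 lc_b_rc_30_17 lc_b_rc_31_6 lc_b_Cert_tree lc_b_rc_10_0 lc_b_rc_12_2 lc_b_rc_31_9 lc_b_rc_10_2 lc_b_Cert_tree lc_b_rc_8_2 lc_b_rc_9_2 lc_b_rc_7_1 lc_b_rc_31_3 lc_b_rc_10_2) (@D3.rec (fun _ => (Cert rels S Gen.b)) lc_b_rc_9_2 lc_b_rc_11_2 lc_b_rc_7_0 lc_b_rc_12_2 lc_b_rc_7_0 lc_b_rc_10_2 lc_b_rc_30_9 lc_b_rc_7_1 lc_b_rc_9_2 lc_b_rc_9_2 lc_b_rc_12_2 lc_b_rc_31_6 lc_b_rc_10_2 lc_b_rc_9_2 lc_b_rc_11_0 lc_b_rc_7_0 lc_b_rc_11_2 lc_b_rc_7_0 lc_b_rc_10_2 lc_b_rc_8_4 lc_b_rc_11_2 lc_b_rc_12_2 lc_b_rc_11_2 lc_b_rc_31_6 lc_b_rc_7_0 lc_b_rc_11_4 lc_b_rc_11_2 lc_b_rc_7_0 lc_b_rc_7_0 lc_b_rc_8_2 lc_b_rc_31_9 lc_b_rc_7_0 lc_b_rc_32_26 lc_b_rc_11_2 lc_b_rc_12_2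 lc_b_rc_30_5 lc_b_rc_7_0 lc_b_rc_12_0 lc_b_rc_7_0 lc_b_rc_7_0) (@D3.rec (fun _ => (Cert rels S Gen.b)) lc_b_rc_7_0 lc_b_rc_30_9 lc_b_rc_30_5 lc_b_rc_7_0 lc_b_rc_30_5 lc_b_rc_12_2 lc_b_rc_11_2 lc_b_rc_30_13 lc_b_rc_8_2 lc_b_rc_12_2 lc_b_rc_8_2 lc_b_rc_11_2 lc_b_rc_9_2 lc_b_rc_10_2 lc_b_rc_31_6 lc_b_rc_11_2 lc_b_rc_7_0 lc_b_rc_10_2 lc_b_rc_12_0 lc_b_rc_8_2 lc_b_rc_30_9 lc_b_rc_7_0 lc_b_rc_31_6 lc_b_rc_9_0 lc_b_rc_8_2 lc_b_rc_7_0 lc_b_rc_8_2 lc_b_rc_7_0 lc_b_rc_30_9 lc_b_rc_1_7 lc_b_rc_31_6 lc_b_rc_7_0 lc_b_rc_12_2 lc_b_rc_30_5 lc_b_rc_7_0 lc_b_rc_9_0 lc_b_rc_8_2 lc_b_rc_12_2 lc_b_rc_10_2 lc_b_rc_10_2) (@D3.rec (fun _ => (Cert rels S Gen.b)) lc_b_rc_12_2 lc_b_rc_7_0 lc_b_rc_10_2 lc_b_rc_10_2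 lc_b_rc_8_2 lc_b_rc_12_2 lc_b_rc_31_6 lc_b_rc_31_9 lc_b_rc_7_0 lc_b_rc_8_2 lc_b_rc_7_0 lc_b_rc_10_0 lc_b_rc_31_9 lc_b_rc_7_0 lc_b_rc_32_57 lc_b_rc_7_0 lc_b_rc_1_7 lc_b_rc_9_2 lc_b_rc_7_0 lc_b_rc_9_2 lc_b_rc_31_3 lc_b_rc_7_0 lc_b_rc_30_13 lc_b_rc_9_2 lc_b_Cert_tree lc_b_Cert_tree lc_b_rc_7_0 lc_b_rc_1_7 lc_b_rc_12_2 lc_b_rc_30_5 lc_b_rc_7_0 lc_b_rc_1_5 lc_b_rc_9_2 lc_b_Cert_tree lc_b_Cert_tree lc_b_rc_7_0 lc_b_rc_7_0 lc_b_rc_8_2 lc_b_rc_7_0 lc_b_rc_32_41) (@D3.rec (fun _ => (Cert rels S Gen.b)) lc_b_rc_7_0 lc_b_rc_32_41 lc_b_rc_7_0 lc_b_rc_7_0 lc_b_rc_12_2 lc_b_rc_9_2 lc_b_rc_9_2 lc_b_rc_10_2 lc_b_rc_9_2 lc_b_rc_10_2 lc_b_rc_7_0 lc_b_rc_31_9 lc_b_rc_7_0 lc_b_rc_31_12 lc_b_rc_30_5 lc_b_rc_7_0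 lc_b_rc_11_0 lc_b_rc_1_1 lc_b_rc_7_0 lc_b_rc_7_0 lc_b_rc_10_2 lc_b_rc_7_0 lc_b_rc_8_2 lc_b_rc_32_36 lc_b_rc_30_13 lc_b_rc_8_2 lc_b_rc_8_2 lc_b_rc_9_2 lc_b_rc_32_46 lc_b_rc_8_2 lc_b_rc_10_0 lc_b_rc_7_0 lc_b_rc_7_0 lc_b_rc_10_2 lc_b_rc_7_0 lc_b_rc_8_2 lc_b_rc_30_13 lc_b_rc_12_2 lc_b_rc_30_5 lc_b_rc_8_2) (@D3.rec (fun _ => (Cert rels S Gen.b)) lc_b_rc_9_2 lc_b_rc_31_9 lc_b_rc_8_2 lc_b_rc_8_2 lc_b_rc_7_0 lc_b_rc_31_6 lc_b_rc_10_2 lc_b_rc_32_57 lc_b_rc_32_36 lc_b_rc_31_3 lc_b_rc_7_0 lc_b_rc_9_2 lc_b_rc_8_0 lc_b_rc_10_2 lc_b_rc_32_57 lc_b_rc_1_3 lc_b_rc_12_2 lc_b_rc_30_9 lc_b_rc_9_2 lc_b_rc_32_36 lc_b_rc_8_2 lc_b_rc_10_2 lc_b_rc_8_4 lc_b_rc_30_5 lc_b_rc_31_6 lc_b_rc_9_2 lc_b_rc_31_6 lc_b_rc_10_2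 lc_b_rc_31_9 lc_b_rc_1_3 lc_b_rc_11_2 lc_b_rc_31_9 lc_b_rc_9_2 lc_b_rc_31_9 lc_b_rc_12_2 lc_b_rc_9_2 lc_b_rc_30_9 lc_b_rc_30_5 lc_b_rc_10_2 lc_b_rc_7_0) (@D3.rec (fun _ => (Cert rels S Gen.b)) lc_b_rc_12_2 lc_b_rc_30_5 lc_b_rc_32_26 lc_b_rc_12_2 lc_b_rc_9_2 lc_b_rc_11_4 lc_b_rc_11_2 lc_b_rc_12_2 lc_b_rc_7_0 lc_b_rc_32_57 lc_b_Cert_tree lc_b_rc_7_0 lc_b_rc_30_17 lc_b_rc_7_0 lc_b_rc_31_3 lc_b_rc_10_2 lc_b_rc_1_5 lc_b_rc_9_2 lc_b_rc_11_2 lc_b_rc_1_5 lc_b_rc_32_26 lc_b_rc_7_0 lc_b_rc_12_2 lc_b_rc_7_0 lc_b_rc_7_0 lc_b_rc_7_0 lc_b_rc_31_6 lc_b_rc_31_3 lc_b_rc_7_0 lc_b_rc_9_2 lc_b_Cert_tree lc_b_rc_7_0 lc_b_rc_9_2 lc_b_rc_31_6 lc_b_rc_30_5 lc_b_rc_10_2 lc_b_rc_9_2 lc_b_Cert_tree lc_b_rc_7_0 lc_b_rc_7_0)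 (@D3.rec (fun _ => (Cert rels S Gen.b)) lc_b_rc_10_2 lc_b_rc_7_0 lc_b_rc_30_5 lc_b_rc_7_0 lc_b_rc_1_5 lc_b_rc_9_2 lc_b_rc_30_9 lc_b_rc_9_2 lc_b_rc_10_0 lc_b_rc_1_5 lc_b_rc_11_2 lc_b_rc_30_5 lc_b_rc_10_2 lc_b_rc_31_6 lc_b_rc_11_2 lc_b_rc_11_2 lc_b_rc_9_2 lc_b_rc_12_4 lc_b_rc_12_2 lc_b_rc_10_0 lc_b_rc_7_0 lc_b_rc_7_1 lc_b_rc_7_0 lc_b_rc_30_5 lc_b_rc_10_2 lc_b_rc_10_2 lc_b_rc_12_2 lc_b_rc_7_0 lc_b_rc_7_0 lc_b_rc_30_9 lc_b_rc_9_2 lc_b_rc_1_3 lc_b_rc_30_9 lc_b_rc_12_2 lc_b_rc_7_0 lc_b_rc_31_9 lc_b_rc_7_0 lc_b_rc_9_2 lc_b_rc_7_0 lc_b_rc_30_9) (@D3.rec (fun _ => (Cert rels S Gen.b)) lc_b_rc_12_2 lc_b_rc_10_2 lc_b_rc_7_0 lc_b_rc_12_2 lc_b_rc_12_2 lc_b_rc_7_0 lc_b_rc_7_0 lc_b_rc_12_2 lc_b_rc_7_0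 lc_b_rc_8_2 lc_b_rc_12_2 lc_b_rc_11_2 lc_b_rc_7_0 lc_b_rc_7_0 lc_b_rc_7_0 lc_b_rc_7_0 lc_b_rc_7_0 lc_b_rc_31_9 lc_b_rc_7_0 lc_b_rc_7_0 lc_b_rc_11_2 lc_b_rc_7_0 lc_b_rc_12_4 lc_b_rc_7_0 lc_b_rc_7_0 lc_b_rc_7_0 lc_b_rc_7_1 lc_b_rc_11_2 lc_b_rc_7_0 lc_b_rc_8_2 lc_b_rc_8_2 lc_b_rc_9_2 lc_b_rc_7_0 lc_b_rc_7_0 lc_b_rc_8_2 lc_b_rc_31_6 lc_b_rc_7_0 lc_b_rc_30_9 lc_b_rc_8_2 lc_b_rc_7_0) (@D3.rec (fun _ => (Cert rels S Gen.b)) lc_b_rc_1_7 lc_b_Cert_tree lc_b_rc_7_0 lc_b_rc_10_2 lc_b_rc_11_2 lc_b_rc_32_46 lc_b_rc_7_0 lc_b_rc_12_2 lc_b_rc_11_2 lc_b_rc_7_1 lc_b_rc_12_2 lc_b_rc_7_0 lc_b_rc_1_7 lc_b_rc_11_2 lc_b_rc_32_36 lc_b_rc_32_57 lc_b_rc_12_2 lc_b_rc_1_7 lc_b_rc_11_2 lc_b_rc_7_0 lc_b_rc_7_0 lc_b_rc_9_2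 lc_b_rc_1_3 lc_b_rc_9_2 lc_b_rc_7_0 lc_b_rc_7_0 lc_b_rc_10_2 lc_b_rc_31_6 lc_b_rc_8_2 lc_b_rc_10_2 lc_b_rc_7_0 lc_b_rc_8_2 lc_b_rc_8_4 lc_b_rc_30_5 lc_b_rc_7_0 lc_b_rc_7_0 lc_b_rc_10_2 lc_b_rc_10_2 lc_b_rc_7_0 lc_b_rc_7_0) (@D3.rec (fun _ => (Cert rels S Gen.b)) lc_b_rc_7_0 lc_b_rc_7_0 lc_b_rc_7_0 lc_b_rc_7_0 lc_b_rc_8_2 lc_b_rc_9_2 lc_b_rc_8_2 lc_b_rc_7_0 lc_b_rc_30_13 lc_b_rc_31_6 lc_b_rc_10_2 lc_b_rc_7_0 lc_b_rc_7_0 lc_b_Cert_tree lc_b_rc_11_2 lc_b_rc_7_0 lc_b_rc_7_0 lc_b_rc_7_0 lc_b_rc_9_0 lc_b_rc_7_0 lc_b_rc_11_2 lc_b_rc_12_2 lc_b_rc_7_0 lc_b_rc_7_1 lc_b_rc_7_0 lc_b_rc_7_0 lc_b_rc_7_0 lc_b_rc_7_0 lc_b_rc_11_2 lc_b_rc_10_2 lc_b_rc_7_0 lc_b_rc_7_0 lc_b_rc_8_2 lc_b_rc_8_2 lc_b_rc_7_0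 lc_b_rc_30_13 lc_b_rc_7_0 lc_b_rc_11_2 lc_b_rc_31_3 lc_b_rc_12_2) (@D3.rec (fun _ => (Cert rels S Gen.b)) lc_b_rc_7_0 lc_b_rc_11_2 lc_b_rc_30_13 lc_b_rc_7_0 lc_b_rc_7_0 lc_b_rc_32_57 lc_b_rc_10_2 lc_b_rc_30_5 lc_b_rc_10_2 lc_b_rc_31_9 lc_b_rc_12_2 lc_b_rc_7_0 lc_b_rc_7_0 lc_b_rc_7_0 lc_b_rc_7_0 lc_b_rc_12_2 lc_b_rc_11_2 lc_b_rc_10_2 lc_b_rc_10_2 lc_b_rc_30_13 lc_b_rc_9_2 lc_b_rc_30_9 lc_b_rc_1_3 lc_b_rc_7_0 lc_b_rc_1_5 lc_b_rc_10_2 lc_b_rc_7_0 lc_b_rc_31_6 lc_b_rc_7_0 lc_b_rc_7_0 lc_b_rc_1_5 lc_b_rc_10_2 lc_b_rc_31_6 lc_b_rc_10_2 lc_b_rc_7_0 lc_b_rc_11_2 lc_b_rc_9_2 lc_b_rc_8_2 lc_b_rc_30_13 lc_b_rc_7_0)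
def ce_b : Pt → (Cert rels S Gen.b) := @Pt.rec (fun _ => (Cert rels S Gen.b)) (@D1.rec (fun _ => D2 → D3 → (Cert rels S Gen.b)) ce_b_0 ce_b_1 ce_b_2 ce_b_3 ce_b_4 ce_b_5 ce_b_6 ce_b_7 ce_b_8 ce_b_9 ce_b_10 ce_b_11 ce_b_12 ce_b_13 ce_b_14 ce_b_15 ce_b_16 ce_b_17 ce_b_18 ce_b_19 ce_b_20 ce_b_21)
def isSeed_b (p : Pt) : Bool := false

end

end Cfsg.Agent.Helper28.S1681
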