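import Cfsg.Agent.Lib.Helper28.S1681.Tree

set_option autoImplicit false
set_option maxRecDepth 100000
set_option linter.all false

namespace Cfsg.Agent.Helper28.S1681

open Cfsg.Agent.Helper28
open Cfsg.Spor.Suz (Gen)

noncomputable section

def lv_c_0 : D2 → D3 → Nat := @D2.rec (fun _ => D3 → Nat) (@D3.rec (fun _ => Nat) 1 2 0 1 4 4 6 0 5 5 5 68 0 7 7 1 2 2 2 6 8 68 0 69 69 1 2 2 2 0 0 5 2 2 2 3 3 3 4 0) (@D3.rec (fun _ => Nat) 0 0 69 69 1 2 2 2 9 70 72 70 3 5 2 2 2 3 3 0 0 10 1 2 71 1 2 6 6 6 0 3 3 7 3 7 4 4 5 0) (@D3.rec (fun _ => Nat) 0 0 1 2 0 1 2 1 2 2 2 70 72 3 67 2 2 2 3 3 0 3 0 4 15 71 71 11 4 7 4 4 4 6 6 6 0 3 3 0) (@D3.rec (fun _ => Nat) 0 0 0 0 1 2 0 1 2 70 0 2 73 0 2 0 7 7 0 7 0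 7 1 2 2 8 4 8 5 8 0 8 0 0 0 0 1 2 0 1) (@D3.rec (fun _ => Nat) 2 1 2 2 1 2 2 7 69 2 2 2 3 3 55 41 4 8 4 4 4 67 68 68 0 3 3 0 3 0 4 0 4 0 5 1 2 0 1 2) (@D3.rec (fun _ => Nat) 0 65 9 6 5 5 8 8 8 0 5 5 0 5 0 6 0 7 7 0 0 1 2 2 0 0 0 1 2 0 1 2 0 1 2 0 1 2 56 1) (@D3.rec (fun _ => Nat) 10 2 7 40 1 73 2 3 1 2 1 2 1 2 2 0 8 0 8 1 64 1 62 8 2 2 0 3 0 4 9 0 9 0 0 0 1 0 0 1) (@D3.rec (fun _ => Nat) 0 1 2 0 1 2 1 2 2 1 2 2 2 2 0 8 69 70 70 0 3 3 56 42 8 6 5 5 9 9 9 0 5 5 0 5 0 6 0 68) (@D3.rec (fun _ => Nat) 68 0 69 0 71 1 2 2 0 4 0 5 0 1 2 0 0 1 2 0 1 2 0 1 2 0 11 2 1 72 2 1 0 62 10 10 10 0 7 7) (@D3.rec (fun _ => Nat) 0 9 9 59 9 66 11 1 2 2 0 6 0 8 1 0 1 0 1 2 2 0 0 61 1 61 69 1 65 4 2 2 0 0 0 1 2 0 1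 2) (@D3.rec (fun _ => Nat) 1 2 62 2 1 2 65 2 57 1 0 2 8 41 1 0 2 3 4 12 12 6 6 4 73 73 7 3 10 4 2 10 4 2 9 7 2 2 0 3) (@D3.rec (fun _ => Nat) 0 4 1 66 1 61 62 64 9 9 9 0 3 0 4 1 2 0 1 2 0 0 0 1 0 0 1 1 0 1 110 1 0 1 102 1 2 0 2 1) (@D3.rec (fun _ => Nat) 2 0 2 2 7 2 6 9 10 1 2 0 0 70 70 1 2 2 9 9 9 0 7 7 55 54 0 10 10 66 10 77 10 1 2 2 0 6 0 8) (@D3.rec (fun _ => Nat) 0 1 2 0 0 1 2 0 1 2 2 0 69 0 71 64 1 2 0 75 1 2 0 4 2 2 0 3 0 4 0 1 2 0 0 1 2 0 67 1) (@D3.rec (fun _ => Nat) 63 2 0 6 0 1 58 1 74 2 0 3 0 1 0 2 1 0 2 1 11 11 8 74 74 74 9 12 1 2 0 0 11 11 1 2 2 1 2 2) (@D3.rec (fun _ => Nat) 58 10 71 12 0 0 4 0 2 2 0 3 0 4 1 0 1 0 62 110 1 70 114 1 5 7 2 2 0 0 63 1 60 70 1 67 60 64 5 5) (@D3.rec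 (fun _ => Nat) 5 0 0 0 1 2 0 1 2 1 2 0 2 1 2 0 2 59 62 2 63 63 54 41 65 2 71 63 55 0 1 2 2 7 7 0 1 2 2 8) (@D3.rec (fun _ => Nat) 3 5 12 0 13 7 7 111 5 75 115 75 8 8 101 66 11 11 5 0 41 11 11 5 0 11 0 10 10 8 8 0 3 0 4 1 2 0 1 2) (@D3.rec (fun _ => Nat) 0 64 63 0 0 0 10 10 0 10 0 11 0 1 2 0 0 1 2 0 58 2 0 0 1 43 2 0 0 1 1 0 1 0 1 0 1 0 60 0) (@D3.rec (fun _ => Nat) 1 2 61 110 68 0 1 2 66 100 0 2 1 2 8 0 2 1 2 7 10 8 8 11 7 7 64 2 0 1 1 2 2 4 2 2 0 10 10 65) (@D3.rec (fun _ => Nat) 76 1 2 2 56 55 1 2 2 65 11 77 11 68 69 68 67 4 7 2 2 0 3 0 4 0 1 2 0 0 1 2 0 1 63 2 1 1 73 2) (@D3.rec (fun _ => Nat) 1 5 68 2 2 0 3 0 4 67 1 2 0 76 1 2 0 67 2 0 0 1 78 2 0 0 1 5 5 5 0 3 0 4 0 1 2 0 0 1) (@D3.rec (fun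 _ => Nat) 2 0 64 1 0 2 0 7 0 1 57 1 0 2 0 3 0 1 65 64 110 10 5 107 1 1 115 78 74 104 9 3 114 1 1 112 1 2 2 9) (@D3.rec (fun _ => Nat) 0 1 2 2 10 0 13 113 10 10 76 74 113 9 9 14 66 2 0 1 1 2 2 4 5 2 2 5 9 2 2 0 3 0 4 0 0 0 1 0) (@D3.rec (fun _ => Nat) 1 5 9 5 5 1 81 2 2 0 3 0 4 1 0 1 0 0 103 1 0 114 1 63 66 6 0 6 6 8 8 0 0 0 1 2 0 1 2 59) (@D3.rec (fun _ => Nat) 0 69 0 0 6 6 0 6 0 7 0 1 2 0 1 2 1 2 0 2 1 2 0 2 57 0 2 1 2 2 51 40 0 2 1 2 2 52 61 62)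
def lv_c_1 : D2 → D3 → Nat := @D2.rec (fun _ => D3 → Nat) (@D3.rec (fun _ => Nat) 110 56 69 67 105 55 1 2 6 2 2 3 0 3 8 8 109 1 2 6 2 2 3 0 3 10 9 101 0 13 110 1 106 113 75 111 67 0 12 0) (@D3.rec (fun _ => Nat) 1 42 0 12 0 1 0 0 12 12 1 2 2 0 11 0 13 0 9 0 9 0 1 2 0 0 1 2 0 0 2 0 1 0 2 0 1 0 0 0) (@D3.rec (fun _ => Nat) 1 0 1 0 1 2 2 0 0 0 1 2 0 0 1 2 0 0 1 2 0 2 0 6 0 1 2 0 1 2 0 2 0 3 0 1 2 59 57 0) (@D3.rec (fun _ => Nat) 1 0 1 0 44 44 0 1 0 1 0 0 0 1 2 0 1 2 0 0 1 2 0 1 2 63 1 2 108 104 47 64 66 1 2 114 109 46 64 1) (@D3.rec (fun _ => Nat) 2 11 7 2 0 10 9 1 2 12 8 2 0 8 8 111 105 1 4 61 5 68 2 2 5 5 5 60 45 1 2 2 68 77 64 2 2 0 0 5) (@D3.rec (fun _ => Nat) 10 2 2 0 3 0 4 68 69 69 68 5 0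 5 5 6 8 8 0 3 0 4 0 1 2 0 0 1 2 0 1 0 2 1 1 0 2 1 66 65) (@D3.rec (fun _ => Nat) 64 78 56 77 75 66 6 0 6 6 69 69 0 3 0 4 0 1 2 0 0 1 2 0 66 0 2 0 0 1 78 0 2 0 0 1 0 1 1 0) (@D3.rec (fun _ => Nat) 1 1 76 6 6 0 6 0 7 0 1 2 0 0 1 2 0 0 1 0 2 0 3 0 1 0 1 0 2 0 3 0 1 0 1 2 2 11 6 109) (@D3.rec (fun _ => Nat) 1 1 0 0 1 2 2 10 3 114 1 1 0 65 110 112 66 116 113 78 104 106 79 112 110 6 2 2 3 0 11 11 1 2 6 2 2 3 0 12) (@D3.rec (fun _ => Nat) 10 1 2 113 113 1 4 63 5 9 2 2 5 0 5 5 8 6 6 55 54 6 6 6 10 10 10 0 3 0 4 1 0 1 0 0 1 0 1 1) (@D3.rec (fun _ => Nat) 1 9 6 6 10 10 0 6 0 7 80 2 2 81 81 0 7 0 7 0 1 2 0 0 1 2 0 0 0 1 0 0 1 1 2 0 1 2 0 78) (@D3.rec (fun _ => Nat) 0 7 7 1 2 2 0 7 0 8 0 0 0 1 2 0 1 2 1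 2 59 2 1 2 72 2 1 1 87 1 2 2 0 0 0 1 2 0 0 1) (@D3.rec (fun _ => Nat) 2 0 76 1 2 0 2 6 84 1 2 0 2 3 57 4 2 1 2 2 54 43 4 2 1 2 2 54 0 1 2 2 6 4 2 2 3 0 53 0) (@D3.rec (fun _ => Nat) 1 2 2 6 4 2 2 3 0 54 108 103 63 2 7 7 7 7 0 3 0 3 0 4 0 1 2 0 58 43 2 7 7 7 7 0 3 0 3 0) (@D3.rec (fun _ => Nat) 4 0 1 2 0 54 110 1 0 1 2 1 4 0 1 2 1 4 0 1 73 2 2 1 2 2 0 0 10 2 2 0 3 0 4 0 1 2 0 0) (@D3.rec (fun _ => Nat) 1 2 0 0 1 2 0 0 1 2 0 0 1 2 0 2 0 6 0 1 2 0 1 2 0 2 0 3 0 1 2 1 2 65 0 1 0 1 2 67) (@D3.rec (fun _ => Nat) 0 1 0 0 1 0 1 1 1 1 2 2 0 2 2 0 3 0 5 0 1 2 0 1 2 0 1 0 2 0 0 1 2 0 1 0 2 0 0 1) (@D3.rec (fun _ => Nat) 2 75 1 2 2 2 0 2 0 1 2 2 0 5 0 1 2 0 0 1 2 0 2 3 83 1 2 2 2 0 2 0 1 2 2 0 3 0 1 2)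 (@D3.rec (fun _ => Nat) 0 0 1 2 0 2 6 58 0 0 1 2 58 0 1 2 5 1 2 45 0 0 1 2 54 0 1 2 6 1 2 1 2 1 2 0 104 0 46 1) (@D3.rec (fun _ => Nat) 2 7 5 2 1 2 1 2 0 109 0 45 1 2 8 6 2 108 115 107 2 0 8 8 8 0 0 1 2 109 107 2 0 9 9 9 0 0 1 2) (@D3.rec (fun _ => Nat) 103 5 5 0 5 5 6 0 6 6 69 69 61 46 0 6 6 61 6 46 7 62 61 47 46 64 2 2 0 0 65 65 65 0 0 1 1 6 72 6) (@D3.rec (fun _ => Nat) 6 11 11 0 3 0 4 1 2 0 1 2 0 77 0 6 6 1 2 2 2 0 6 0 7 7 7 0 7 0 7 0 1 2 0 0 1 2 0 1) (@D3.rec (fun _ => Nat) 0 2 1 1 0 2 1 63 0 1 2 2 0 53 0 1 2 2 0 66 65 102 79 79 112 75 72 7 7 1 2 2 0 7 0 8 0 70 0 70) (@D3.rec (fun _ => Nat) 0 1 2 0 0 1 2 0 0 1 66 2 0 3 0 1 0 1 78 2 0 3 0 1 1 0 1 1 0 1 0 1 1 0 1 1 76 77 77 0) (@D3.rec (fun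 _ => Nat) 0 0 1 2 0 0 1 2 0 0 1 2 61 2 0 6 0 1 2 0 1 2 46 2 0 3 0 1 2 1 2 4 1 2 2 0 3 0 1 1) (@D3.rec (fun _ => Nat) 0 1 2 4 1 2 2 0 3 0 1 1 0 1 2 6 4 2 2 3 0 3 114 55 111 0 0 1 2 1 2 6 4 2 2 3 0 3 112 56)
def lv_c_2 : D2 → D3 → Nat := @D2.rec (fun _ => D3 → Nat) (@D3.rec (fun _ => Nat) 103 0 0 1 2 7 7 7 7 13 3 0 0 0 1 2 7 2 7 7 7 7 74 3 0 0 0 1 2 8 2 5 6 0 5 5 6 77 6 6) (@D3.rec (fun _ => Nat) 10 10 10 58 55 87 0 6 6 1 2 2 2 56 6 55 8 9 9 0 0 56 56 55 55 7 7 0 7 0 8 11 11 0 11 0 11 0 1 2) (@D3.rec (fun _ => Nat) 0 0 1 2 0 64 0 1 71 0 1 1 0 1 0 10 10 0 0 0 11 0 11 0 1 2 0 0 1 2 0 82 82 0 0 0 8 0 8 0) (@D3.rec (fun _ => Nat) 1 2 0 0 1 2 0 0 1 2 0 2 0 6 0 1 2 0 1 2 0 2 0 3 0 1 2 1 2 1 0 1 2 1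 0 8 57 2 1 8) (@D3.rec (fun _ => Nat) 52 2 1 81 74 78 78 1 2 2 0 0 2 2 0 3 0 4 0 1 2 0 0 1 2 0 0 1 2 0 1 2 76 1 2 0 2 6 84 1) (@D3.rec (fun _ => Nat) 2 0 2 3 61 4 2 65 65 57 44 4 2 72 64 57 66 4 74 4 79 88 2 2 56 3 90 4 61 1 2 91 1 2 0 1 0 2 0 0) (@D3.rec (fun _ => Nat) 1 2 0 1 0 2 0 0 1 2 77 78 78 76 9 2 0 1 2 2 55 5 0 85 86 86 84 9 2 0 1 2 2 55 3 0 58 0 58 58) (@D3.rec (fun _ => Nat) 5 5 59 5 2 2 3 0 55 55 44 0 44 44 5 5 61 5 2 2 3 0 55 55 1 3 2 2 7 64 7 7 7 5 5 0 3 0 0 0) (@D3.rec (fun _ => Nat) 1 1 3 2 2 7 44 7 7 7 5 5 0 3 0 0 0 1 65 64 64 64 12 0 8 8 8 0 8 8 8 0 9 1 2 0 4 0 1 2) (@D3.rec (fun _ => Nat) 0 0 1 0 1 0 2 1 45 44 44 44 75 0 8 8 8 0 8 8 0 8 9 1 2 0 4 0 1 2 0 0 1 0 1 0 2 1 1 4)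 (@D3.rec (fun _ => Nat) 64 2 5 5 5 5 1 4 44 2 5 5 5 5 1 2 2 71 2 2 73 73 0 3 0 5 73 10 2 2 0 0 0 1 2 0 1 2 11 11) (@D3.rec (fun _ => Nat) 0 3 0 4 0 1 2 0 0 1 2 0 85 1 0 2 0 0 1 2 85 1 0 2 0 0 1 2 73 1 2 0 2 0 7 0 1 2 81 1) (@D3.rec (fun _ => Nat) 2 0 2 0 3 0 1 2 75 1 2 2 2 0 2 0 1 2 2 67 5 0 1 2 0 0 1 2 0 2 3 83 1 2 2 2 0 2 0 1) (@D3.rec (fun _ => Nat) 2 2 75 3 0 1 2 0 0 1 2 0 2 6 5 2 67 65 0 1 2 61 1 2 5 2 75 75 0 1 2 68 1 2 1 0 1 0 4 5) (@D3.rec (fun _ => Nat) 0 2 2 0 0 1 2 2 2 0 3 0 5 0 1 2 0 0 1 2 0 0 1 2 62 2 6 0 1 2 89 2 3 82 1 61 2 2 0 1) (@D3.rec (fun _ => Nat) 2 2 0 0 1 2 0 1 2 0 2 3 83 1 2 91 2 0 1 2 2 0 0 1 2 0 1 2 0 2 6 77 77 2 75 2 2 3 0 4) (@D3.rec (fun _ => Nat) 74 0 98 3 1 2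 2 0 0 1 2 9 2 2 3 0 3 0 1 2 0 0 1 0 2 0 0 1 2 0 1 2 2 2 0 2 0 1 2 2) (@D3.rec (fun _ => Nat) 3 0 85 85 2 83 2 2 0 3 4 82 0 3 104 1 2 2 0 0 1 2 9 2 2 3 0 3 0 1 2 0 0 1 0 2 0 0 1 2) (@D3.rec (fun _ => Nat) 0 1 2 2 2 10 2 0 1 2 2 5 0 0 0 1 0 1 2 0 2 3 58 1 2 0 3 0 3 3 6 6 2 0 0 1 0 1 2 0) (@D3.rec (fun _ => Nat) 2 3 53 1 2 0 3 0 3 3 7 7 2 12 2 0 0 1 2 0 1 2 3 2 8 0 106 8 8 6 63 12 2 0 0 1 2 0 1 2) (@D3.rec (fun _ => Nat) 3 2 9 0 106 9 9 7 68 109 107 0 1 0 9 9 0 9 0 1 2 0 1 11 2 0 1 0 10 0 0 1 2 0 1 8 2 6 6 6) (@D3.rec (fun _ => Nat) 94 11 6 6 1 2 2 6 7 0 77 7 7 1 2 2 62 7 47 8 0 0 62 62 47 47 77 1 95 100 98 98 62 62 0 47 49 0 84 63) (@D3.rec (fun _ => Nat) 64 92 48 47 65 65 0 0 1 1 80 66 66 0 66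 0 67 0 1 2 0 1 2 64 56 76 72 7 7 72 72 0 7 0 8 0 12 0 12 0) (@D3.rec (fun _ => Nat) 1 2 0 0 1 2 0 68 2 1 77 2 1 64 78 78 1 2 101 96 94 98 11 2 2 2 3 3 0 3 0 4 0 1 2 0 0 1 2 0) (@D3.rec (fun _ => Nat) 0 8 0 8 86 1 2 0 90 1 2 0 92 1 2 95 2 0 6 0 1 2 104 1 2 99 2 0 3 0 1 2 64 4 1 2 2 62 59 54) (@D3.rec (fun _ => Nat) 4 1 2 2 61 62 0 64 1 96 8 4 2 2 1 2 0 54 1 99 8 4 2 2 1 2 75 74 76 76 74 74 0 0 2 2 0 74 0 74)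
def lv_c_3 : D2 → D3 → Nat := @D2.rec (fun _ => D3 → Nat) (@D3.rec (fun _ => Nat) 0 1 2 0 0 1 2 0 71 1 2 0 79 1 2 0 0 1 2 72 2 0 6 0 1 2 0 1 2 80 2 0 3 0 1 2 1 2 4 69) (@D3.rec (fun _ => Nat) 69 0 3 0 1 1 0 1 2 4 78 78 0 3 0 1 1 0 71 4 1 0 0 1 71 4 1 0 0 1 68 68 77 77 0 78 0 78 0 1) (@D3.rec (fun _ => Nat) 2 0 1 2 0 1 99 2 0 0 1 2 0 1 105 2 0 0 1 2 0 1 2 2 2 61 2 0 62 62 0 5 0 1 2 0 0 1 2 112) (@D3.rec (fun _ => Nat) 2 114 0 1 2 2 2 46 2 0 47 47 0 3 111 1 113 0 0 1 2 114 2 113 2 65 3 97 3 3 5 62 2 2 3 0 8 0 1 2) (@D3.rec (fun _ => Nat) 62 1 0 53 5 1 2 2 58 3 106 3 3 5 47 2 2 3 0 6 0 1 2 52 1 0 63 6 1 2 63 2 7 99 7 7 7 5 64 97) (@D3.rec (fun _ => Nat) 3 0 3 0 4 0 1 1 1 7 5 2 59 2 7 98 7 7 7 5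 58 102 3 0 3 0 4 0 1 1 1 8 6 2 89 8 8 8 87 95) (@D3.rec (fun _ => Nat) 8 8 0 9 15 0 0 1 2 1 1 0 2 8 8 8 8 75 93 8 8 8 91 100 99 100 100 8 77 101 0 1 2 1 1 12 2 9 9 9) (@D3.rec (fun _ => Nat) 9 15 6 6 6 79 7 7 1 2 2 6 8 80 7 7 77 77 59 7 56 8 11 11 0 0 59 59 56 56 82 80 88 1 2 2 0 0 0 2) (@D3.rec (fun _ => Nat) 2 2 3 3 86 3 90 4 57 57 0 56 57 0 0 0 0 1 2 0 1 2 87 57 58 92 56 56 0 0 0 1 2 0 0 1 2 0 83 12) (@D3.rec (fun _ => Nat) 92 12 84 1 2 0 86 1 2 0 0 1 2 0 2 0 6 0 1 2 0 1 2 0 2 0 3 0 1 2 60 1 0 73 1 0 0 1 0 1) (@D3.rec (fun _ => Nat) 94 97 58 1 62 90 1 89 100 1 2 0 96 1 2 0 98 1 97 2 0 0 1 2 103 1 100 2 0 0 1 2 86 97 89 1 2 96 1 2) (@D3.rec (fun _ => Nat) 98 1 2 0 97 1 2 0 94 1 2 95 2 0 7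 0 1 2 98 1 2 101 2 0 3 0 1 2 88 1 96 2 101 0 2 0 1 2 2 5) (@D3.rec (fun _ => Nat) 0 1 2 0 0 1 2 0 2 3 88 1 2 100 106 0 2 0 1 2 2 3 0 1 2 0 0 1 2 0 2 6 96 2 58 5 1 2 101 2) (@D3.rec (fun _ => Nat) 60 6 1 2 93 0 93 97 9 57 95 9 5 94 0 97 9 98 55 100 11 6 79 81 75 75 59 78 93 78 78 2 2 0 0 60 1 2 86 1) (@D3.rec (fun _ => Nat) 2 0 3 0 4 0 1 2 0 0 1 2 0 0 1 0 2 0 0 1 2 0 1 0 2 0 0 1 2 73 1 2 0 2 7 81 1 2 0 2) (@D3.rec (fun _ => Nat) 3 75 76 76 74 0 2 0 1 2 2 58 5 0 83 84 84 82 0 2 0 1 2 2 58 3 0 63 0 62 62 5 58 62 0 59 58 46 0 45) (@D3.rec (fun _ => Nat) 45 5 58 69 0 59 58 66 0 66 66 5 68 0 68 68 5 0 0 62 3 86 4 62 0 90 0 57 57 2 90 89 2 0 1 2 2 2 10 1) (@D3.rec (fun _ => Nat) 2 2 0 0 1 2 0 1 2 0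 2 3 0 1 2 2 2 10 1 2 2 0 0 1 2 0 1 2 0 2 6 77 77 78 0 79 61 76 76 10) (@D3.rec (fun _ => Nat) 10 0 0 1 2 5 2 2 3 101 3 56 57 0 0 1 2 85 85 0 86 87 46 84 84 10 10 0 0 1 2 5 2 2 3 102 3 56 56 0) (@D3.rec (fun _ => Nat) 0 1 2 75 0 59 59 1 2 101 2 59 61 60 6 102 61 61 6 6 93 6 68 3 0 0 0 1 104 81 56 56 83 0 45 45 1 2 2 103) (@D3.rec (fun _ => Nat) 59 45 46 6 106 59 59 6 6 6 76 3 0 0 105 1 103 83 56 57 3 63 4 100 67 64 8 8 8 65 93 65 0 8 8 8 0 9 68 6) (@D3.rec (fun _ => Nat) 0 1 65 0 0 1 2 1 1 0 3 36 4 100 47 44 8 8 8 45 45 101 0 8 8 0 8 9 76 6 0 1 65 0 0 1 2 1 1 54) (@D3.rec (fun _ => Nat) 0 66 65 65 92 1 94 94 2 9 105 1 93 9 0 0 0 1 2 0 2 0 0 1 2 101 0 1 2 114 2 0 116 0 1 100 1 113 1 2) (@D3.rec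 (fun _ => Nat) 8 1 2 58 107 106 0 46 45 45 96 1 98 2 98 9 100 1 108 0 106 0 1 2 0 104 2 0 0 1 2 105 0 1 2 104 2 0 114 0) (@D3.rec (fun _ => Nat) 1 95 1 112 1 2 9 1 2 57 111 101 5 69 5 0 5 5 65 65 102 6 6 87 89 6 6 7 5 44 5 0 5 5 45 45 95 6 6 92) (@D3.rec (fun _ => Nat) 6 93 6 7 73 2 2 0 0 81 73 73 0 3 0 5 0 75 0 75 0 1 2 0 0 1 2 0 76 11 75 75 11 11 0 0 0 1 2 0)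
def lv_c_4 : D2 → D3 → Nat := @D2.rec (fun _ => D3 → Nat) (@D3.rec (fun _ => Nat) 1 2 80 1 2 0 2 6 84 1 2 0 2 3 0 12 0 12 1 2 0 1 2 0 0 1 0 2 0 0 1 2 0 1 0 2 0 0 1 2) (@D3.rec (fun _ => Nat) 61 83 85 0 1 83 2 0 0 1 2 84 1 2 0 2 3 86 87 87 0 1 92 2 0 0 1 2 86 1 2 0 2 6 72 72 72 4 2 0) (@D3.rec (fun _ => Nat) 1 2 2 0 6 0 1 2 0 84 1 2 0 2 3 80 80 80 4 2 0 1 2 2 0 3 0 1 2 0 87 1 2 0 2 6 75 75 2 70) (@D3.rec (fun _ => Nat) 2 2 3 0 4 74 72 98 3 1 2 2 0 0 1 2 5 4 2 2 3 70 3 67 65 0 0 1 0 2 0 0 1 2 0 1 2 2 2 0) (@D3.rec (fun _ => Nat) 2 0 1 2 2 3 0 83 83 2 78 2 2 0 3 4 82 80 3 99 1 2 2 0 0 1 2 5 4 2 2 3 71 3 69 69 0 0 1 0) (@D3.rec (fun _ => Nat) 2 0 0 1 2 0 1 2 2 2 0 2 0 1 2 2 5 0 6 6 6 0 65 67 1 2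 0 4 0 3 3 66 6 2 6 6 6 0 69 77) (@D3.rec (fun _ => Nat) 1 2 0 4 0 3 3 65 7 2 4 0 1 5 0 1 1 2 2 2 0 0 0 1 2 0 1 2 12 83 2 2 2 3 3 64 3 94 4 1) (@D3.rec (fun _ => Nat) 2 0 1 2 0 0 1 62 2 0 0 1 2 0 1 92 2 0 0 1 2 82 1 64 2 2 62 2 0 63 62 6 5 88 1 2 85 2 89 2) (@D3.rec (fun _ => Nat) 0 93 89 4 3 84 2 2 63 57 3 0 98 3 1 2 12 10 2 2 98 0 1 2 0 1 0 2 82 1 56 2 0 2 1 110 2 5 3 0) (@D3.rec (fun _ => Nat) 93 2 2 88 90 3 0 3 97 1 2 12 10 2 2 103 0 1 2 0 1 0 2 88 1 92 2 0 2 1 110 2 4 5 0 0 0 3 74 76) (@D3.rec (fun _ => Nat) 3 0 4 0 0 1 2 0 0 96 76 1 2 2 2 98 0 4 3 2 2 3 101 0 1 2 0 1 2 0 2 10 10 95 3 0 3 0 4 91) (@D3.rec (fun _ => Nat) 1 93 0 0 1 0 2 0 0 1 2 0 1 2 2 2 0 1 2 2 0 0 1 2 1 2 0 2 6 1 2 2 2 108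 2 2 0 109 3 0) (@D3.rec (fun _ => Nat) 3 3 1 2 2 0 1 6 10 2 2 3 3 0 0 1 2 0 0 3 82 84 0 3 4 0 1 2 0 0 84 107 1 2 2 2 0 4 105 3) (@D3.rec (fun _ => Nat) 2 2 3 105 0 1 2 0 1 0 2 10 10 101 3 0 3 0 4 94 1 95 0 0 1 0 2 0 0 1 2 0 1 2 2 2 11 1 2 2) (@D3.rec (fun _ => Nat) 0 0 1 2 1 2 0 2 3 1 2 109 2 109 2 2 110 0 3 0 3 3 11 11 0 1 7 2 2 3 3 0 0 1 2 0 1 89 1 89) (@D3.rec (fun _ => Nat) 1 2 89 91 2 1 2 93 3 0 4 8 4 0 3 3 1 2 84 0 4 4 1 2 103 2 4 5 7 7 7 7 62 0 1 98 1 91 1 2) (@D3.rec (fun _ => Nat) 89 95 2 1 2 95 3 0 5 9 4 0 3 3 1 2 81 0 4 4 1 2 2 106 4 5 8 8 8 8 70 13 13 13 1 1 3 8 2 1) (@D3.rec (fun _ => Nat) 3 104 2 4 108 4 4 105 0 0 108 9 9 1 2 2 2 0 108 9 62 13 13 1 1 3 9 2 1 3 109 2 4 100 4 4 100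 0 0 10) (@D3.rec (fun _ => Nat) 1 2 2 2 0 70 0 0 0 1 2 46 1 2 0 0 0 1 0 0 1 0 2 3 1 2 10 58 32 0 1 2 29 1 2 0 0 1 0 1) (@D3.rec (fun _ => Nat) 0 2 3 1 2 9 58 49 7 7 7 8 12 12 2 2 3 4 0 0 76 1 75 95 99 74 74 98 99 2 2 0 76 0 76 63 63 0 48 49) (@D3.rec (fun _ => Nat) 0 74 1 2 82 1 2 63 64 48 48 78 78 80 79 98 98 112 101 87 0 0 1 2 94 0 0 1 2 84 84 0 0 91 93 0 0 0 0 0) (@D3.rec (fun _ => Nat) 1 2 0 1 2 69 79 0 0 0 1 2 0 1 2 89 1 2 87 2 6 103 1 2 96 2 3 65 57 77 77 0 74 0 76 0 1 2 0 0) (@D3.rec (fun _ => Nat) 1 2 0 72 1 2 109 80 1 2 109 92 1 2 71 2 0 6 0 1 2 102 1 2 79 2 0 3 0 1 2 67 69 62 79 79 79 63 75 79) (@D3.rec (fun _ => Nat) 80 2 78 12 12 83 3 3 90 3 95 4 93 97 93 1 2 94 97 1 2 101 100 1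 2 0 0 1 2 104 1 2 0 0 1 2 93 1 92 113) (@D3.rec (fun _ => Nat) 97 1 99 113 88 2 0 95 115 1 2 92 2 0 99 114 1 2 94 94 97 2 0 100 97 62 5 0 1 2 0 0 1 2 0 2 3 102 102 95) (@D3.rec (fun _ => Nat) 2 0 104 100 63 3 0 1 2 0 0 1 2 0 2 6 65 65 5 106 2 2 3 100 62 62 59 55 55 5 103 2 2 3 98 63 61 66 1 101)
def lv_c_5 : D2 → D3 → Nat := @D2.rec (fun _ => D3 → Nat) (@D3.rec (fun _ => Nat) 9 5 9 59 9 2 1 98 9 5 7 51 11 2 76 76 76 74 74 0 77 0 77 0 0 0 1 2 0 1 2 0 0 74 1 73 0 82 1 81) (@D3.rec (fun _ => Nat) 0 0 1 71 2 0 0 1 2 0 1 79 2 0 0 1 2 74 74 2 0 73 85 1 2 82 82 2 0 81 86 1 2 0 1 2 2 2 75 2) (@D3.rec (fun _ => Nat) 0 71 71 0 5 0 1 2 0 0 1 2 88 2 112 0 1 2 2 2 83 2 0 79 79 0 3 0 1 2 0 0 1 2 86 2 111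 2 69 81) (@D3.rec (fun _ => Nat) 0 3 3 5 70 0 76 0 1 2 64 1 0 53 5 1 2 2 78 88 0 3 3 5 80 0 80 0 1 2 54 1 0 63 6 1 2 72 107 72) (@D3.rec (fun _ => Nat) 5 68 0 1 1 72 5 72 113 72 5 67 0 1 1 74 6 90 106 94 1 2 0 101 1 2 0 0 1 2 2 96 0 1 2 2 102 66 1 65) (@D3.rec (fun _ => Nat) 2 106 63 0 105 1 103 0 1 2 111 2 103 92 1 2 92 107 48 0 115 1 113 0 1 2 117 2 113 1 2 2 2 95 2 2 3 0 5 62) (@D3.rec (fun _ => Nat) 3 3 62 62 0 0 1 2 63 0 63 0 1 2 0 0 1 117 2 0 0 1 2 99 1 103 2 104 113 2 100 111 116 1 2 2 2 95 2 2) (@D3.rec (fun _ => Nat) 0 3 5 47 3 3 47 47 0 0 1 2 48 0 48 0 1 2 0 0 0 0 1 2 97 1 2 103 109 2 105 110 108 3 0 3 3 66 97 4) (@D3.rec (fun _ => Nat) 4 99 99 4 5 63 100 63 105 3 99 0 10 101 1 102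 0 103 1 2 0 2 64 3 64 64 64 6 1 2 53 102 53 53 6 112 2 3 0 3) (@D3.rec (fun _ => Nat) 3 59 105 4 4 106 106 4 5 48 48 103 104 3 101 0 8 105 1 107 0 103 1 2 0 2 54 3 54 54 63 7 1 2 63 112 63 63 7 117) (@D3.rec (fun _ => Nat) 2 64 64 65 102 89 93 8 8 8 99 99 8 8 101 9 105 67 97 107 97 4 100 1 96 98 1 1 109 13 6 105 8 102 8 8 8 6 60 60) (@D3.rec (fun _ => Nat) 61 104 93 97 8 8 8 98 101 8 104 60 102 104 4 101 1 101 101 1 1 114 14 7 115 9 112 9 9 9 7 88 87 89 97 9 0 87 103 99) (@D3.rec (fun _ => Nat) 0 0 1 100 0 110 1 102 112 1 104 0 2 103 113 60 11 1 2 11 13 110 9 9 9 0 9 9 107 9 92 91 93 97 102 0 91 105 109 0) (@D3.rec (fun _ => Nat) 0 104 105 116 1 103 0 2 104 108 60 12 12 14 109 10 10 10 0 10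 10 10 119 7 7 7 8 79 79 98 97 5 2 2 3 4 0 0 78 82) (@D3.rec (fun _ => Nat) 0 0 79 79 83 79 60 60 0 57 58 0 84 89 79 1 2 85 1 2 86 60 61 90 57 57 82 84 0 0 84 5 2 2 1 2 1 2 1 84) (@D3.rec (fun _ => Nat) 2 2 3 3 3 4 86 4 91 5 88 0 95 0 0 0 1 2 0 0 1 2 0 1 2 0 1 2 92 1 2 2 3 94 1 2 2 3 87 87) (@D3.rec (fun _ => Nat) 0 0 90 69 0 0 61 1 61 86 1 85 106 1 0 2 0 0 1 2 105 1 0 2 0 0 1 2 83 84 92 89 86 84 0 2 0 87 87 1) (@D3.rec (fun _ => Nat) 90 86 85 0 2 0 87 83 1 85 86 1 101 2 100 0 2 0 1 2 2 5 0 1 2 0 0 1 2 0 2 3 86 1 2 101 106 0 2 0) (@D3.rec (fun _ => Nat) 1 2 2 3 0 1 2 0 0 1 2 0 2 6 59 5 1 2 57 6 1 2 1 13 5 1 15 6 91 95 62 83 2 0 105 1 2 2 0 104) (@D3.rec (fun _ => Nat) 1 2 103 98 97 99 99 0 0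 1 2 0 1 2 0 2 3 105 104 111 97 99 0 0 1 2 0 1 2 0 2 6 90 100 87 2 98 2 94 2) (@D3.rec (fun _ => Nat) 0 0 1 2 97 2 0 0 1 2 2 101 93 95 0 6 0 1 2 110 0 1 2 0 2 104 2 104 100 102 0 3 0 1 2 102 0 1 2 0) (@D3.rec (fun _ => Nat) 2 110 96 2 96 90 98 1 2 97 0 92 1 2 2 2 3 99 0 0 1 0 2 55 0 1 2 82 1 2 2 2 0 2 58 1 2 108 3 0) (@D3.rec (fun _ => Nat) 96 2 55 103 101 1 2 111 0 55 1 2 2 2 3 102 0 0 1 0 2 89 0 1 2 82 1 2 2 2 0 2 91 1 2 110 5 0 94 66) (@D3.rec (fun _ => Nat) 62 103 62 62 6 6 2 98 73 60 104 60 60 7 7 2 0 93 1 2 93 2 92 67 10 0 10 101 6 0 96 1 2 2 103 96 68 12 0 100) (@D3.rec (fun _ => Nat) 12 7 0 0 0 75 0 75 58 0 86 0 76 76 76 0 0 0 1 2 0 1 2 78 60 0 2 84 85 0 2 1 94 0 1 93 0 0 1 0) (@D3.rec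 (fun _ => Nat) 2 0 0 1 2 0 1 0 2 0 0 1 2 0 1 2 2 2 0 1 2 2 0 0 1 2 0 1 2 0 2 3 0 1 2 2 2 0 1 2)
def lv_c_6 : D2 → D3 → Nat := @D2.rec (fun _ => D3 → Nat) (@D3.rec (fun _ => Nat) 2 0 0 1 2 0 1 2 0 2 6 75 75 90 4 2 0 1 2 2 12 6 0 83 83 92 4 2 0 1 2 2 12 3 0 77 77 78 86 77) (@D3.rec (fun _ => Nat) 76 76 76 1 2 2 0 86 1 86 4 2 2 3 0 3 60 61 0 0 1 2 85 85 86 86 85 84 84 84 1 2 2 0 84 1 86 4 2 2) (@D3.rec (fun _ => Nat) 3 0 3 60 59 0 0 1 2 73 0 63 64 1 2 2 2 63 58 64 58 58 0 0 1 2 83 60 59 81 0 47 46 1 2 2 2 60 46 47) (@D3.rec (fun _ => Nat) 60 60 0 0 1 2 83 60 61 87 0 64 68 1 2 2 2 66 66 87 0 76 76 1 2 2 2 76 70 1 2 1 2 58 58 0 91 86 0 106) (@D3.rec (fun _ => Nat) 1 107 1 63 88 1 2 92 2 2 3 4 12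 0 11 3 11 2 2 3 113 0 1 2 0 1 110 2 1 2 112 2 1 115 2 3 1 2 102 2) (@D3.rec (fun _ => Nat) 2 3 4 88 0 3 89 11 2 2 3 120 0 1 2 0 1 112 2 1 116 112 2 1 116 2 5 86 1 82 62 62 93 11 0 89 1 88 0 1) (@D3.rec (fun _ => Nat) 83 0 2 6 6 6 0 3 3 101 4 105 101 101 0 0 1 2 1 108 2 109 85 1 47 47 54 11 0 55 1 56 0 1 0 2 6 6 6 0) (@D3.rec (fun _ => Nat) 3 3 102 4 104 100 99 0 0 1 2 1 113 2 108 75 1 2 104 2 95 107 2 2 101 3 101 104 3 111 61 109 113 103 109 83 102 110 0 99) (@D3.rec (fun _ => Nat) 67 0 0 1 100 0 1 99 0 1 104 101 97 0 83 1 2 2 107 111 102 2 2 3 103 114 3 105 63 110 113 117 104 104 89 63 63 0 102 66) (@D3.rec (fun _ => Nat) 0 0 1 107 105 1 103 0 98 104 0 0 4 64 100 102 105 68 96 100 68 65 65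 90 9 0 91 66 93 97 1 89 2 9 0 91 105 0 1 2) (@D3.rec (fun _ => Nat) 0 67 0 1 100 0 0 1 2 1 2 0 2 3 110 113 53 1 2 0 4 37 104 106 106 48 108 48 109 45 45 106 9 0 46 105 104 105 1 2) (@D3.rec (fun _ => Nat) 108 0 110 0 1 2 64 0 1 104 0 0 1 2 1 0 2 6 105 107 54 94 1 2 0 0 94 0 2 94 94 105 96 103 107 105 92 105 105 107) (@D3.rec (fun _ => Nat) 1 106 110 1 107 0 1 116 2 121 0 1 0 0 1 2 107 1 2 110 2 104 101 99 107 1 105 2 111 114 2 0 112 109 102 1 2 109 1 102) (@D3.rec (fun _ => Nat) 102 111 110 111 2 60 3 109 3 3 9 107 2 58 0 109 109 98 1 2 107 0 98 0 2 98 100 98 98 103 104 106 104 111 110 1 107 0 1 106) (@D3.rec (fun _ => Nat) 2 118 0 1 107 104 0 0 1 2 108 1 2 111 2 101 105 99 104 1 2 102 105 104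 2 0 116 108 107 1 2 114 1 95 95 103 114 112 2 61) (@D3.rec (fun _ => Nat) 3 109 3 104 12 114 2 60 0 101 101 6 79 6 70 99 6 1 98 95 2 6 7 66 85 7 7 90 87 0 0 99 6 89 6 45 98 6 1 102) (@D3.rec (fun _ => Nat) 2 99 6 7 46 89 7 7 94 94 0 100 0 0 1 2 0 1 2 0 73 0 75 1 2 0 1 2 0 0 1 2 0 0 1 2 0 65 1 93) (@D3.rec (fun _ => Nat) 2 0 0 1 2 90 1 106 2 0 0 1 2 77 12 77 77 12 12 0 75 0 79 0 0 0 1 2 0 1 2 80 1 2 0 2 7 86 1 2) (@D3.rec (fun _ => Nat) 0 2 3 80 80 80 0 2 0 1 103 2 6 5 84 82 86 0 2 0 1 107 2 4 3 1 100 1 102 0 2 0 0 1 0 2 0 0 1 1) (@D3.rec (fun _ => Nat) 2 2 1 85 2 0 0 1 2 0 1 2 0 2 3 1 2 2 1 99 2 0 0 1 2 0 1 2 0 2 6 84 60 87 80 100 87 1 85 91) (@D3.rec (fun _ => Nat) 2 85 0 1 2 0 1 0 2 82 84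 0 2 1 2 2 5 3 0 84 86 93 88 87 99 1 91 93 2 93 0 1 2 0 1 0 2 84 88 0) (@D3.rec (fun _ => Nat) 2 1 2 2 4 5 0 75 0 75 0 88 75 5 0 0 1 2 11 2 2 3 0 9 1 2 0 0 1 0 2 0 0 1 2 85 87 87 5 2) (@D3.rec (fun _ => Nat) 0 1 2 2 12 3 0 0 83 83 0 83 100 6 0 0 1 2 11 2 2 3 0 6 1 2 0 0 1 0 2 0 0 1 2 84 86 86 6 2) (@D3.rec (fun _ => Nat) 0 1 2 2 12 5 0 0 82 71 3 73 73 73 3 0 4 0 0 1 2 0 98 74 85 73 73 100 0 4 73 2 2 91 0 0 1 2 0 1) (@D3.rec (fun _ => Nat) 2 0 2 6 0 6 6 69 89 5 3 70 3 67 85 67 68 0 0 0 0 1 2 0 1 2 2 2 0 1 2 2 0 0 1 2 1 2 0 2) (@D3.rec (fun _ => Nat) 6 1 2 2 2 87 2 2 0 110 3 0 3 3 1 2 2 0 1 6 5 2 2 3 3 0 0 1 2 82 0 79 3 81 81 81 0 3 4 0)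
def lv_c_7 : D2 → D3 → Nat := @D2.rec (fun _ => D3 → Nat) (@D3.rec (fun _ => Nat) 1 2 0 82 107 90 81 83 0 4 105 81 2 2 98 0 0 1 2 0 1 0 2 6 0 6 78 6 99 5 3 79 3 79 92 73 80 0 0 0) (@D3.rec (fun _ => Nat) 0 1 2 0 1 2 2 2 0 1 2 2 0 0 1 2 1 2 0 2 3 1 2 2 2 86 2 2 109 0 3 0 3 3 1 2 2 0 1 7) (@D3.rec (fun _ => Nat) 6 2 2 3 3 0 0 1 2 85 90 7 88 7 84 1 2 0 4 7 4 0 3 3 1 2 84 0 5 5 1 2 2 2 4 5 7 7 7 7) (@D3.rec (fun _ => Nat) 98 100 7 95 7 89 1 2 0 5 8 4 0 3 3 1 2 79 0 5 5 1 2 2 2 4 5 8 8 8 8 0 1 62 7 0 1 72 8 2) (@D3.rec (fun _ => Nat) 2 2 1 2 1 2 1 92 2 1 106 2 83 13 81 83 82 3 3 3 4 65 4 95 5 65 99 95 103 63 2 96 97 1 93 2 96 105 1 1) (@D3.rec (fun _ => Nat) 57 63 58 1 1 0 2 83 1 90 90 90 1 1 0 2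 47 2 2 88 89 86 58 62 0 1 59 0 63 5 15 2 2 68 99 67 91 89 0 1) (@D3.rec (fun _ => Nat) 91 0 88 6 18 3 3 5 91 94 94 100 1 2 100 100 100 94 2 0 11 100 1 2 0 2 1 53 111 0 1 106 2 7 2 56 116 56 56 1) (@D3.rec (fun _ => Nat) 112 2 10 2 108 0 3 5 0 1 3 3 6 97 98 105 98 1 2 100 99 98 100 2 0 11 105 1 2 0 2 1 92 110 0 1 107 2 5 2) (@D3.rec (fun _ => Nat) 88 110 90 90 1 108 2 11 2 106 0 3 7 0 1 1 1 0 4 75 0 77 0 0 1 2 0 1 1 0 2 1 1 78 2 2 0 3 98 2) (@D3.rec (fun _ => Nat) 2 2 3 3 3 103 4 0 0 1 3 103 105 99 0 1 2 0 2 110 1 66 0 2 1 2 111 5 103 11 0 95 0 4 0 1 2 0 92 1) (@D3.rec (fun _ => Nat) 90 0 0 0 99 1 99 0 1 90 97 106 94 1 2 0 0 1 1 2 0 2 3 1 2 108 2 2 3 0 3 3 1 2 5 11 2 2 3 93) (@D3.rec (fun _ =>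 Nat) 0 1 2 1 106 2 109 2 1 117 109 6 5 4 2 2 3 110 3 3 111 111 0 5 1 80 105 84 4 1 2 109 2 0 4 105 3 2 2 3) (@D3.rec (fun _ => Nat) 1 59 108 7 0 7 7 7 11 11 0 3 3 4 0 0 1 2 1 108 2 1 1 89 4 83 0 85 0 1 2 9 0 1 0 2 1 1 86 2) (@D3.rec (fun _ => Nat) 2 0 3 102 2 2 2 3 3 100 3 4 0 1 0 3 105 101 99 0 1 2 102 2 106 1 87 0 1 2 113 5 104 11 0 102 0 4 0 1) (@D3.rec (fun _ => Nat) 2 0 96 1 95 0 0 104 100 1 100 0 1 99 93 102 96 1 2 0 0 1 1 2 0 2 3 1 2 104 2 2 3 0 3 3 12 5 2 2) (@D3.rec (fun _ => Nat) 3 97 0 1 2 1 109 2 115 2 1 119 110 5 3 5 2 3 109 3 3 110 6 59 1 83 105 4 67 1 2 2 109 109 85 109 12 1 81 108) (@D3.rec (fun _ => Nat) 8 8 8 8 0 3 3 4 0 0 1 2 1 107 2 88 1 88 90 88 94 2 87 100 93 2 92 92 0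 0 1 2 111 6 6 9 109 4 4 1) (@D3.rec (fun _ => Nat) 2 113 2 4 5 115 2 0 85 82 1 2 105 2 0 82 111 2 2 103 3 105 3 0 0 8 8 8 0 8 8 8 9 98 1 97 100 85 96 2) (@D3.rec (fun _ => Nat) 91 101 97 2 96 95 0 0 1 2 107 5 5 10 110 4 4 1 2 2 112 4 5 116 2 0 50 81 1 2 2 108 46 0 112 2 2 3 108 3) (@D3.rec (fun _ => Nat) 110 0 0 9 9 9 0 9 9 9 10 61 3 3 106 115 101 9 31 3 4 0 4 4 106 28 60 108 5 5 0 108 108 5 6 1 111 2 1 2) (@D3.rec (fun _ => Nat) 2 2 108 103 109 2 2 2 0 3 3 108 1 2 111 59 3 3 114 102 116 10 50 3 4 0 4 4 111 48 49 112 5 5 0 112 104 5 6 1) (@D3.rec (fun _ => Nat) 2 1 2 110 106 107 2 2 2 0 3 3 1 1 2 0 1 0 1 114 2 3 115 107 2 0 0 1 0 1 2 0 1 0 1 0 1 2 2 0) (@D3.rec (fun _ => Nat) 1 2 119 117 3 122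 2 3 3 109 60 111 32 1 112 2 3 112 114 2 0 1 0 1 0 0 1 2 2 0 1 2 114 114 3 111 2 3 105 3) (@D3.rec (fun _ => Nat) 58 114 51 0 0 3 4 1 118 1 117 79 77 77 79 79 79 78 0 0 97 100 110 98 77 86 73 1 76 0 81 1 84 0 0 0 1 2 0 0) (@D3.rec (fun _ => Nat) 1 2 73 2 76 81 2 84 0 0 0 0 101 104 93 98 96 107 103 112 89 89 0 1 103 0 1 103 108 2 105 96 94 0 1 113 0 1 113 117) (@D3.rec (fun _ => Nat) 2 115 86 0 87 0 1 101 110 1 114 92 0 100 0 1 111 115 1 108 85 1 2 93 1 2 93 1 2 84 2 86 103 1 2 96 2 92 92 98)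
def lv_c_8 : D2 → D3 → Nat := @D2.rec (fun _ => D3 → Nat) (@D3.rec (fun _ => Nat) 85 1 2 89 1 2 1 90 2 1 95 2 93 93 87 2 91 88 5 0 103 103 97 2 96 96 3 0 78 79 73 1 74 97 83 1 82 99 102 1) (@D3.rec (fun _ => Nat) 100 2 0 0 1 2 102 1 104 2 0 0 1 2 73 73 2 107 75 109 108 81 81 2 109 82 111 107 92 92 74 2 0 99 72 64 5 0 1 2) (@D3.rec (fun _ => Nat) 119 0 1 2 0 2 3 106 104 82 2 0 102 80 63 3 0 1 2 118 0 1 2 0 2 6 70 0 64 64 81 79 0 63 65 77 82 80 80 85) (@D3.rec (fun _ => Nat) 85 93 97 93 97 2 96 96 2 101 101 100 102 0 0 1 2 1 2 112 2 3 106 104 0 0 1 2 1 2 110 2 6 95 109 110 99 111 109 111) (@D3.rec (fun _ => Nat) 120 1 105 0 103 2 3 114 115 1 102 0 101 2 3 82 94 97 97 84 1 84 102 101 62 62 117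 1 107 2 0 0 1 2 0 1 2 2 2 1) (@D3.rec (fun _ => Nat) 2 2 3 0 54 106 102 104 56 1 56 104 98 63 63 117 1 100 2 0 0 1 2 0 1 2 2 2 1 2 2 5 0 100 106 98 3 102 104 98) (@D3.rec (fun _ => Nat) 64 64 107 103 103 3 100 98 98 63 63 99 9 97 101 100 10 105 10 104 99 7 98 99 101 12 118 12 99 77 77 90 109 0 76 0 78 94 1 2) (@D3.rec (fun _ => Nat) 0 101 1 2 0 0 1 2 0 1 2 0 1 2 2 94 0 1 2 2 101 78 1 81 85 1 83 0 0 0 1 2 0 0 0 1 2 66 1 67) (@D3.rec (fun _ => Nat) 2 77 105 74 0 111 1 111 0 1 2 2 115 89 1 2 91 85 108 84 0 109 1 111 0 1 2 2 111 86 73 0 88 88 1 85 0 88 86 2) (@D3.rec (fun _ => Nat) 86 98 81 0 86 83 1 86 0 85 85 2 86 1 2 2 2 0 2 2 3 0 5 77 3 3 77 77 0 0 1 2 74 0 76 0 1 2 0 0) (@D3.rec (fun _ => Nat)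 1 88 2 0 0 1 2 102 1 101 2 104 88 2 96 87 86 111 1 2 2 2 0 2 2 0 3 5 85 3 3 85 85 0 0 1 2 82 0 82) (@D3.rec (fun _ => Nat) 0 1 2 0 0 1 86 2 0 0 1 2 95 1 2 111 109 86 2 103 88 88 110 3 3 76 79 81 1 99 98 2 4 5 0 76 0 1 2 0) (@D3.rec (fun _ => Nat) 102 1 2 0 2 64 3 64 64 64 6 1 2 55 0 55 55 6 87 2 3 3 84 89 92 1 105 2 103 4 5 0 80 0 1 2 0 100 1 2) (@D3.rec (fun _ => Nat) 0 2 54 3 54 54 65 7 1 2 65 0 65 65 7 88 2 105 73 99 73 0 1 77 6 80 73 0 73 73 6 109 73 109 73 0 1 78 7 76) (@D3.rec (fun _ => Nat) 75 0 75 7 93 90 103 94 89 2 105 101 1 81 101 2 99 99 1 57 91 1 93 2 2 104 6 107 1 2 109 2 103 4 66 2 67 64 0 0) (@D3.rec (fun _ => Nat) 1 2 0 0 1 2 2 2 5 112 91 2 91 49 0 0 1 2 0 0 1 2 2 2 4 114 97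 2 2 91 106 3 3 99 98 3 0 5 94 85) (@D3.rec (fun _ => Nat) 1 101 0 63 63 67 0 68 63 0 98 1 2 107 1 2 102 2 0 64 103 1 106 108 1 0 2 0 0 1 2 0 1 2 2 2 0 0 1 108) (@D3.rec (fun _ => Nat) 1 113 2 117 103 109 2 105 104 0 104 116 117 95 2 2 95 105 3 3 102 104 0 3 5 55 1 108 89 48 48 0 63 64 48 0 105 1 2 91) (@D3.rec (fun _ => Nat) 1 109 2 0 49 108 1 109 103 1 2 0 0 1 96 0 1 2 2 68 1 111 1 104 2 111 102 105 2 104 107 107 108 119 4 4 1 97 2 4) (@D3.rec (fun _ => Nat) 5 97 106 99 0 0 103 64 99 100 64 107 101 102 1 103 0 98 102 1 0 2 0 1 2 64 3 64 64 110 64 66 64 120 55 7 5 2 108 102) (@D3.rec (fun _ => Nat) 55 55 102 55 55 112 112 118 4 4 1 2 103 4 5 104 105 106 0 0 108 49 103 49 103 106 103 106 1 107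 0 100 110 1 0 2 0 1 2 54) (@D3.rec (fun _ => Nat) 3 54 56 111 54 54 65 118 65 8 5 2 105 108 65 65 112 65 65 117 113 116 65 66 66 66 89 95 95 9 93 106 101 101 105 98 107 99 109 102) (@D3.rec (fun _ => Nat) 106 103 112 11 105 112 0 15 16 7 106 106 0 104 9 9 9 104 104 9 9 9 61 62 62 62 93 99 99 103 97 97 107 104 103 100 101 103 106 12) (@D3.rec (fun _ => Nat) 114 115 0 17 14 8 117 117 0 114 10 10 10 114 114 10 10 10 88 90 91 0 90 0 112 1 100 105 107 101 113 1 2 104 1 108 103 1 2 111) (@D3.rec (fun _ => Nat) 104 103 1 2 112 16 110 115 60 112 60 60 13 110 2 13 0 15 110 108 110 0 10 10 113 121 1 2 109 10 111 92 94 94 0 93 116 116 1 117) (@D3.rec (fun _ => Nat) 106 106 106 1 2 1 2 110 97 1 2 111 17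 106 104 62 62 12 109 14 115 107 105 0 11 11 112 110 1 2 11 118 96 101 0 0 6 6 3 4)
def lv_c_9 : D2 → D3 → Nat := @D2.rec (fun _ => D3 → Nat) (@D3.rec (fun _ => Nat) 0 0 0 1 2 0 1 2 0 0 1 2 1 2 81 79 0 83 83 0 0 0 1 2 0 0 1 2 83 88 81 81 81 2 81 85 83 85 2 81) (@D3.rec (fun _ => Nat) 83 89 0 0 88 90 0 0 1 1 66 6 6 2 2 2 2 84 84 7 7 4 5 0 0 86 0 90 0 0 0 1 2 0 0 1 2 57 1 120) (@D3.rec (fun _ => Nat) 57 1 2 117 2 3 87 1 116 89 1 2 116 2 3 90 1 2 2 3 93 1 2 2 3 2 116 9 3 104 2 109 9 3 104 87 0 86 64 1) (@D3.rec (fun _ => Nat) 2 1 2 0 68 90 84 1 2 1 2 0 0 106 102 0 1 2 2 0 0 1 2 0 1 2 117 2 3 105 107 0 1 2 2 0 0 1 2 0) (@D3.rec (fun _ => Nat) 1 2 118 2 6 87 83 88 86 84 1 2 2 85 1 83 0 87 87 0 94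 88 87 1 2 2 88 1 83 0 83 83 0 98 2 101 92 98 108 1) (@D3.rec (fun _ => Nat) 2 2 0 93 1 2 2 2 3 3 0 0 1 0 2 57 0 1 2 82 1 2 2 2 0 2 1 2 2 3 0 101 2 54 103 103 114 1 2 2) (@D3.rec (fun _ => Nat) 0 54 1 2 2 2 3 3 0 0 1 0 2 89 0 1 2 84 1 2 2 2 0 2 1 2 2 5 0 59 0 59 59 6 6 2 59 0 59 59) (@D3.rec (fun _ => Nat) 7 7 2 73 15 0 14 14 6 67 17 0 16 7 94 84 104 1 101 101 0 2 104 107 1 104 104 0 2 101 98 96 99 115 0 1 114 112 1 114) (@D3.rec (fun _ => Nat) 2 0 1 2 2 0 2 1 2 2 3 89 102 111 100 120 0 1 112 112 1 116 2 113 1 2 2 0 2 1 114 2 5 64 102 0 1 89 108 1) (@D3.rec (fun _ => Nat) 2 2 104 0 1 87 112 1 2 2 101 99 95 110 1 104 0 1 113 2 107 106 1 2 5 2 1 2 2 9 106 106 102 113 1 107 0 1 110 2) (@D3.rec (fun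 _ => Nat) 116 116 1 2 6 2 1 2 2 9 90 90 55 2 97 0 1 82 92 0 2 0 3 58 99 96 0 1 2 111 1 2 2 2 0 1 2 2 57 57) (@D3.rec (fun _ => Nat) 1 57 2 56 2 103 2 2 84 0 3 78 1 2 110 56 6 5 2 116 110 0 67 1 2 56 57 2 111 0 1 60 0 2 0 3 56 110 106 0) (@D3.rec (fun _ => Nat) 1 102 85 1 2 2 2 0 1 2 2 91 89 1 89 2 89 2 112 2 2 89 0 60 3 1 2 116 93 7 6 2 112 112 0 94 1 2 86 111) (@D3.rec (fun _ => Nat) 60 60 114 108 60 7 7 112 7 85 62 110 8 8 8 118 1 2 104 105 2 2 93 3 95 0 0 100 1 2 114 2 100 1 2 107 102 2 2 3) (@D3.rec (fun _ => Nat) 103 105 0 0 98 1 2 2 114 100 1 2 1 2 1 2 0 1 2 0 110 1 111 1 80 80 80 0 80 0 78 0 1 2 0 1 2 81 1 2) (@D3.rec (fun _ => Nat) 60 2 7 89 1 2 94 2 3 80 1 82 1 95 0 0 1 99 0 0 1 1 2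 2 89 4 1 2 2 0 1 2 0 1 2 0 2 3 1 2) (@D3.rec (fun _ => Nat) 2 91 4 1 2 2 0 1 2 0 1 2 0 2 6 1 2 0 2 2 3 4 13 0 12 3 1 2 9 4 2 2 3 0 0 1 2 0 1 0) (@D3.rec (fun _ => Nat) 2 1 2 0 2 1 118 2 3 1 2 0 2 2 3 4 85 0 3 86 1 2 9 4 2 2 3 0 0 1 2 0 1 0 2 1 2 0 2 1) (@D3.rec (fun _ => Nat) 116 2 5 74 0 74 5 0 0 1 2 11 2 2 3 0 9 13 0 107 1 2 0 82 82 6 0 0 1 2 11 2 2 3 0 6 13 0 110 1) (@D3.rec (fun _ => Nat) 2 76 76 76 94 76 2 2 3 0 91 1 93 0 90 5 0 3 0 3 0 4 0 1 2 0 101 0 0 1 2 1 2 111 84 84 84 53 84 2) (@D3.rec (fun _ => Nat) 2 3 0 54 1 55 0 92 5 0 3 0 3 0 4 0 1 2 0 99 0 0 1 2 1 2 112 75 75 1 2 2 2 104 115 62 2 2 2 95) (@D3.rec (fun _ => Nat) 3 3 4 113 60 113 115 96 60 60 0 1 2 0 1 2 0 2 3 103 99 0 83 83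 1 2 2 2 113 105 45 2 2 2 3 106 3 4 60 111) (@D3.rec (fun _ => Nat) 115 122 96 60 60 0 1 2 0 1 2 60 2 3 98 104 0 74 102 1 2 2 2 66 106 69 2 2 2 3 3 3 4 112 0 82 103 1 2 2) (@D3.rec (fun _ => Nat) 2 103 89 79 2 2 2 3 3 3 4 0 120 92 2 108 2 1 2 1 2 100 3 90 90 3 5 4 94 12 1 94 2 13 3 115 113 94 1 111) (@D3.rec (fun _ => Nat) 2 3 1 49 110 112 88 2 111 117 116 114 112 10 2 116 110 10 104 3 104 104 6 3 4 104 90 1 110 2 89 3 120 106 91 1 116 2 3 1) (@D3.rec (fun _ => Nat) 81 111 110 58 112 112 110 110 11 2 121 111 11 0 91 0 0 1 108 91 88 110 1 1 0 1 2 4 103 96 106 106 100 94 103 80 1 2 82 1)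
def lv_c_10 : D2 → D3 → Nat := @D2.rec (fun _ => D3 → Nat) (@D3.rec (fun _ => Nat) 2 114 2 6 17 107 6 0 56 0 0 1 108 56 58 108 1 1 0 1 2 4 104 98 109 102 100 63 100 58 1 2 58 1 2 109 2 3 14 106) (@D3.rec (fun _ => Nat) 5 109 2 2 93 3 107 97 109 97 3 3 103 102 98 0 104 103 0 113 103 113 115 105 0 85 85 0 1 2 101 101 0 1 98 1 102 104 0 1) (@D3.rec (fun _ => Nat) 0 108 1 101 112 102 100 91 0 1 2 113 2 2 3 101 112 115 103 102 3 3 109 103 103 103 103 107 0 112 109 113 124 112 0 88 90 0 1 2) (@D3.rec (fun _ => Nat) 104 100 0 1 109 1 107 107 0 0 1 106 93 104 0 1 2 1 94 103 103 103 103 69 103 89 66 89 1 94 2 93 98 95 2 91 0 91 0 1) (@D3.rec (fun _ => Nat) 2 105 103 1 0 2 1 0 1 97 99 0 1 1 104 106 2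 106 0 2 1 2 2 3 110 116 0 117 115 55 5 2 1 98 107 104 104 111 49 106) (@D3.rec (fun _ => Nat) 102 46 106 1 2 109 106 103 2 0 104 0 1 2 106 1 0 2 0 1 106 102 0 1 1 106 2 106 0 1 2 2 5 105 118 107 119 96 2 103) (@D3.rec (fun _ => Nat) 103 1 103 109 1 104 1 2 103 105 101 107 107 107 107 106 0 115 107 110 1 111 2 110 117 116 0 1 113 103 1 2 109 1 110 2 2 0 110 104) (@D3.rec (fun _ => Nat) 101 102 106 2 105 105 114 112 114 106 1 110 109 104 2 110 118 115 113 120 112 3 107 3 3 62 0 109 112 111 109 112 106 108 107 117 117 114 0 108) (@D3.rec (fun _ => Nat) 1 111 109 108 100 2 113 107 106 1 116 1 2 100 101 109 100 105 108 107 0 117 1 116 2 112 120 112 0 1 117 123 108 107 1 2 112 1 114 2) (@D3.rec (fun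 _ => Nat) 2 0 110 105 105 103 106 2 105 104 110 117 117 117 1 118 105 107 2 112 107 109 104 107 112 3 3 61 0 107 101 104 109 107 104 111 114 112 113 0) (@D3.rec (fun _ => Nat) 116 1 116 110 113 7 79 7 101 0 2 98 99 99 0 88 87 0 98 0 0 1 2 103 1 110 7 87 7 101 0 2 102 99 99 0 92 91 0 99) (@D3.rec (fun _ => Nat) 0 0 1 2 118 1 116 1 78 2 1 85 2 1 77 1 91 76 2 98 99 1 92 2 103 105 1 0 1 0 2 0 0 1 2 0 1 0 2 0) (@D3.rec (fun _ => Nat) 0 1 2 97 95 1 1 0 2 81 113 108 1 1 0 2 47 0 13 13 77 13 107 14 1 0 1 0 78 1 101 108 1 101 1 2 78 2 1 2) (@D3.rec (fun _ => Nat) 105 2 82 87 4 2 87 1 104 2 6 6 87 90 4 2 84 1 110 2 7 3 82 1 2 0 1 4 2 101 0 3 5 16 86 1 2 0 1 4) (@D3.rec (fun _ => Nat) 2 108 0 3 6 19 100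 104 1 1 0 1 0 1 1 0 1 0 2 2 3 4 2 87 0 1 94 0 1 0 2 1 2 2 5 2 1 2 2 7) (@D3.rec (fun _ => Nat) 3 0 2 2 3 4 2 99 0 1 102 0 1 0 2 1 2 2 7 2 1 2 2 6 5 0 94 101 80 82 100 96 8 0 0 1 2 0 2 1) (@D3.rec (fun _ => Nat) 56 111 0 1 2 2 7 86 0 85 56 1 2 2 11 5 2 2 3 0 3 5 0 1 106 98 89 93 100 100 6 0 0 1 2 0 2 1 88 110) (@D3.rec (fun _ => Nat) 0 1 2 2 5 90 0 88 88 1 2 2 12 7 2 2 3 0 3 7 0 1 0 0 1 2 0 1 94 0 0 0 1 2 85 1 2 0 2 12) (@D3.rec (fun _ => Nat) 12 12 3 0 0 1 2 0 0 2 0 0 1 2 0 1 2 2 2 6 1 2 2 0 0 1 2 1 2 0 2 6 0 85 86 0 86 86 6 6) (@D3.rec (fun _ => Nat) 0 1 12 2 2 3 0 3 13 0 0 1 2 0 1 2 0 1 0 98 0 0 1 2 81 1 0 2 12 12 12 3 0 0 1 2 0 0 2 0) (@D3.rec (fun _ => Nat) 0 1 2 0 1 2 2 2 7 1 2 2 0 0 1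 2 1 2 0 2 3 87 0 89 0 89 89 7 7 0 1 12 2 2 3 0 3 13 0 0) (@D3.rec (fun _ => Nat) 1 2 1 72 0 4 72 72 0 74 0 0 1 2 0 1 1 0 2 1 0 83 75 0 74 0 0 1 89 74 109 109 0 1 2 0 1 2 0 2) (@D3.rec (fun _ => Nat) 113 1 66 0 2 1 2 2 5 67 7 66 1 93 2 2 65 7 71 69 95 0 0 88 90 0 0 0 0 1 2 0 1 90 97 0 1 1 2 0) (@D3.rec (fun _ => Nat) 2 3 1 2 0 2 2 3 0 3 3 1 2 63 6 2 2 3 0 0 1 2 1 119 2 0 2 1 119 2 85 5 4 87 2 2 3 87 3 3) (@D3.rec (fun _ => Nat) 87 84 86 0 5 1 80 89 84 4 1 2 2 2 72 4 112 3 2 2 3 0 1 57 0 7 0 7 7 7 6 6 0 3 60 3 4 0 0 1) (@D3.rec (fun _ => Nat) 2 1 2 1 80 87 4 80 0 80 82 0 1 2 9 0 1 0 2 1 0 83 0 82 82 0 1 0 82 103 103 103 0 1 2 0 1 2 0 2)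
def lv_c_11 : D2 → D3 → Nat := @D2.rec (fun _ => D3 → Nat) (@D3.rec (fun _ => Nat) 115 1 88 0 1 2 2 5 75 72 7 1 101 2 2 72 72 79 7 99 0 0 102 95 0 0 0 0 1 2 0 1 100 93 0 1 1 2 0 2) (@D3.rec (fun _ => Nat) 3 1 2 0 2 2 3 114 3 3 1 116 77 7 2 2 3 0 0 1 2 1 111 2 0 2 1 111 2 86 3 5 87 2 2 3 89 3 3 89) (@D3.rec (fun _ => Nat) 87 89 6 61 1 83 88 4 67 1 2 2 2 109 83 4 3 2 2 3 0 1 79 0 8 0 8 8 8 7 7 0 3 58 3 4 0 0 1 2) (@D3.rec (fun _ => Nat) 1 2 84 88 90 0 88 2 88 0 1 2 0 6 6 8 0 4 5 1 2 2 2 4 5 3 2 0 87 82 1 2 2 2 0 80 0 2 2 2) (@D3.rec (fun _ => Nat) 3 3 3 4 0 0 95 8 8 8 8 8 8 9 94 95 93 0 84 2 89 0 1 2 0 5 5 9 0 5 4 1 2 2 2 4 5 3 2 0) (@D3.rec (fun _ => Nat) 50 81 1 2 2 2 48 0 0 2 2 2 3 3 3 4 0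 0 97 9 9 9 9 9 9 10 1 3 68 0 68 68 8 1 3 74 0 74 74 9) (@D3.rec (fun _ => Nat) 2 2 92 92 49 108 105 83 88 4 5 99 104 64 64 94 94 63 63 110 1 2 110 90 90 109 1 2 104 89 64 101 1 101 63 1 2 99 99 89) (@D3.rec (fun _ => Nat) 100 1 105 90 1 2 100 100 2 97 99 100 97 1 101 0 2 1 2 2 114 111 99 56 1 108 2 108 0 6 89 118 56 117 114 12 2 108 0 110) (@D3.rec (fun _ => Nat) 12 3 108 110 1 2 0 114 0 1 100 2 102 101 100 102 1 105 94 2 1 2 2 114 110 90 91 1 110 2 109 0 6 90 112 90 110 103 11 2) (@D3.rec (fun _ => Nat) 110 0 111 11 3 106 108 1 2 0 119 0 1 94 0 1 60 0 0 1 2 0 108 1 105 79 1 60 113 2 60 1 114 115 1 2 118 8 111 2) (@D3.rec (fun _ => Nat) 2 97 80 100 0 1 2 98 3 3 3 4 80 104 97 98 100 1 99 1 112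 105 101 0 100 98 1 2 102 2 1 109 107 1 111 113 8 5 88 2) (@D3.rec (fun _ => Nat) 113 8 103 98 0 1 110 1 2 0 1 2 1 0 0 101 1 101 100 1 100 2 104 1 99 1 97 84 122 82 93 5 2 87 1 58 1 103 2 1) (@D3.rec (fun _ => Nat) 115 114 68 3 110 108 3 110 3 3 110 6 0 91 1 2 109 2 4 2 6 6 92 60 12 0 3 93 93 102 102 83 1 106 104 2 3 107 57 116) (@D3.rec (fun _ => Nat) 11 116 108 63 7 115 84 65 4 108 93 4 6 111 90 1 90 106 104 82 106 107 110 3 2 2 110 3 107 103 1 2 4 4 4 109 0 3 102 47) (@D3.rec (fun _ => Nat) 108 106 0 8 8 8 1 2 111 2 117 8 8 8 9 0 12 1 100 4 107 0 0 1 1 2 0 2 3 59 110 91 0 0 1 2 0 60 1 92) (@D3.rec (fun _ => Nat) 112 2 90 109 107 1 98 109 1 2 117 7 2 2 88 101 102 0 1 2 102 3 3 3 4 100 101 88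 102 99 103 1 115 1 105 103 0 104 99 1) (@D3.rec (fun _ => Nat) 2 2 113 94 1 111 103 86 2 113 6 90 107 0 1 115 1 2 0 1 2 1 0 104 100 1 100 99 1 101 99 98 1 105 117 46 96 5 2 59) (@D3.rec (fun _ => Nat) 1 87 1 102 2 1 119 117 92 3 113 3 115 3 3 113 5 0 59 1 2 2 113 113 6 6 53 98 0 3 99 99 102 107 60 1 105 105 2 3) (@D3.rec (fun _ => Nat) 107 81 119 10 111 108 90 6 111 84 4 107 7 61 61 106 105 82 107 107 117 2 2 3 111 109 107 83 104 83 108 101 9 9 9 106 9 9 9 10) (@D3.rec (fun _ => Nat) 1 104 4 112 0 0 1 1 2 0 2 3 88 88 89 89 0 94 119 113 1 112 1 117 2 113 111 3 2 2 110 3 117 114 114 1 103 102 2 64) (@D3.rec (fun _ => Nat) 85 84 3 3 2 2 105 3 1 111 113 0 3 59 3 105 4 114 97 1 82 0 1 2 0 9 9 1 2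 103 9 10 98 101 100 0 98 117 122 1) (@D3.rec (fun _ => Nat) 115 1 120 2 111 112 3 2 2 3 114 114 116 118 1 107 2 103 83 95 88 3 3 2 2 3 110 1 115 115 0 3 57 3 4 110 106 110 0 1) (@D3.rec (fun _ => Nat) 2 1 50 0 10 10 1 102 2 10 11 61 61 102 4 108 116 109 33 4 5 5 1 2 112 5 6 112 110 112 1 116 110 105 2 111 106 103 2 2) (@D3.rec (fun _ => Nat) 2 110 3 3 109 102 109 109 0 3 3 100 1 2 114 2 113 61 61 61 4 114 115 114 50 4 5 5 1 2 113 5 6 107 106 111 1 110 109 105) (@D3.rec (fun _ => Nat) 2 105 109 2 110 111 105 113 0 3 3 103 1 2 105 1 111 0 1 108 119 114 3 117 107 108 113 1 122 1 115 109 1 2 2 107 119 1 117 121) (@D3.rec (fun _ => Nat) 2 113 1 2 1 2 2 103 112 98 104 1 2 2 121 117 121 116 118 122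 3 3 116 101 111 115 112 3 119 114 114 117 107 1 1 117 2 115 1 2)
def lv_c_12 : D2 → D3 → Nat := @D2.rec (fun _ => D3 → Nat) (@D3.rec (fun _ => Nat) 1 2 2 114 116 110 111 1 2 2 114 115 114 121 3 3 117 116 116 1 118 1 116 77 77 77 81 101 101 0 1 2 0 1 2 93 100 98 109 109) (@D3.rec (fun _ => Nat) 110 79 87 0 0 1 2 0 0 1 2 0 1 103 0 1 105 113 2 105 0 1 113 0 1 115 121 2 115 0 88 0 0 88 0 0 1 103 114 1) (@D3.rec (fun _ => Nat) 115 0 1 113 118 1 118 93 111 89 57 1 1 59 110 101 84 1 1 87 120 106 1 111 109 1 101 113 93 1 92 1 118 2 2 91 2 105 2 84) (@D3.rec (fun _ => Nat) 2 84 2 88 97 95 101 89 111 0 1 105 105 99 102 0 1 95 97 99 99 102 98 100 0 0 1 2 1 2 2 3 104 104 103 0 0 1 2 1) (@D3.rec (fun _ =>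 Nat) 2 2 6 74 0 105 109 107 118 86 109 108 82 0 107 109 109 116 85 109 107 81 76 94 96 76 83 1 83 99 0 73 66 66 1 0 2 119 119 0) (@D3.rec (fun _ => Nat) 1 2 2 111 2 1 2 2 3 0 58 84 99 100 84 56 1 58 102 0 81 67 65 1 0 2 122 118 0 1 2 2 111 2 1 2 2 5 0 0) (@D3.rec (fun _ => Nat) 0 1 2 96 66 64 0 0 1 2 101 65 65 0 1 87 1 102 2 2 98 3 0 1 60 1 107 2 2 103 5 105 1 105 3 107 1 102 3 103) (@D3.rec (fun _ => Nat) 99 97 107 102 104 113 106 105 108 0 1 1 2 2 1 92 2 2 2 2 3 111 1 107 106 102 104 101 104 96 103 106 102 115 0 1 1 2 2 1) (@D3.rec (fun _ => Nat) 96 2 2 2 2 3 114 1 118 104 106 100 104 108 105 98 116 99 113 98 113 92 94 0 1 2 0 0 1 2 0 2 103 86 1 80 2 96 84 1) (@D3.rec (fun _ => Nat) 57 89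 1 2 0 2 7 98 1 2 0 2 3 93 1 95 2 2 101 107 1 2 111 2 104 78 85 0 1 2 114 1 2 0 1 2 109 2 3 0) (@D3.rec (fun _ => Nat) 1 2 109 1 2 0 1 2 108 2 6 91 2 98 0 0 1 2 0 0 1 2 2 2 100 115 101 2 114 0 0 1 2 0 0 1 2 2 2 99) (@D3.rec (fun _ => Nat) 113 86 0 0 1 2 89 0 0 0 1 2 87 87 87 0 88 100 0 0 1 2 85 0 0 0 1 2 88 88 88 0 85 73 2 2 106 79 3 3) (@D3.rec (fun _ => Nat) 1 2 94 97 3 0 5 84 1 106 0 77 77 77 70 0 69 101 0 100 1 2 103 1 2 0 2 0 100 0 1 2 0 110 1 0 2 0 0 1) (@D3.rec (fun _ => Nat) 2 0 1 2 2 2 114 117 88 0 0 1 109 1 115 0 2 118 103 109 2 106 104 0 104 113 86 118 117 81 2 2 97 87 3 3 1 2 105 97) (@D3.rec (fun _ => Nat) 0 3 5 57 1 112 85 85 85 0 65 64 110 0 107 1 2 90 1 0 2 0 110 0 1 2 118 98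 1 0 2 0 0 1 96 0 1 2 2 2) (@D3.rec (fun _ => Nat) 0 68 1 109 1 104 0 2 111 104 113 2 101 109 0 109 88 112 119 4 5 99 97 75 106 2 101 100 97 113 109 0 1 2 0 0 1 2 94 2) (@D3.rec (fun _ => Nat) 0 3 0 1 2 94 2 0 1 2 2 66 3 66 66 118 66 68 66 90 55 7 92 2 110 0 55 55 1 2 2 2 55 57 89 90 90 90 4 5) (@D3.rec (fun _ => Nat) 103 83 101 105 2 104 101 103 113 114 0 1 2 0 0 1 2 96 2 0 3 0 1 2 97 2 0 1 2 2 56 3 56 58 118 56 56 65 89 65) (@D3.rec (fun _ => Nat) 8 91 2 105 0 65 65 1 2 2 2 65 67 90 88 88 88 99 0 100 0 1 92 77 88 77 77 7 79 79 79 0 74 1 2 2 2 115 0 115) (@D3.rec (fun _ => Nat) 0 1 94 81 90 81 81 8 78 78 78 0 1 2 2 2 2 0 1 1 88 2 88 1 1 2 2 117 3 115 0 1 1 61 2 60 1 1 2 2) (@D3.rec (fun _ =>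 Nat) 3 105 105 97 98 96 1 103 105 1 64 99 64 88 101 1 89 106 0 105 1 102 109 97 2 89 2 105 116 104 1 104 104 107 106 106 1 105 107 0) (@D3.rec (fun _ => Nat) 1 2 0 1 2 2 6 1 2 96 2 2 112 113 115 1 1 97 67 109 106 109 1 111 104 104 1 114 107 91 49 103 49 53 1 59 107 60 0 103) (@D3.rec (fun _ => Nat) 1 108 112 107 2 61 109 114 108 1 109 111 101 106 0 1 2 0 1 98 98 1 103 2 2 106 109 104 2 99 99 0 0 118 1 96 1 103 101 65) (@D3.rec (fun _ => Nat) 110 0 100 103 1 101 1 2 112 102 1 110 5 2 66 66 110 117 100 110 109 55 116 55 112 6 118 102 104 110 102 105 0 0 113 109 111 115 120 104) (@D3.rec (fun _ => Nat) 2 103 103 0 0 1 115 1 108 108 105 50 105 0 102 108 1 104 1 2 106 106 1 108 5 2 56 56 118 111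 54 106 109 65 118 65 116 6 116 112) (@D3.rec (fun _ => Nat) 107 109 112 0 101 112 0 117 119 117 118 111 95 106 104 111 100 105 101 106 99 106 13 0 110 1 2 104 108 105 1 115 110 109 104 10 10 114 104 10)
def lv_c_13 : D2 → D3 → Nat := @D2.rec (fun _ => D3 → Nat) (@D3.rec (fun _ => Nat) 104 112 99 102 102 108 12 0 115 1 2 114 117 120 1 116 109 117 114 11 11 112 114 11 117 106 113 101 1 108 1 110 114 113 115 2 2 116 2 113) (@D3.rec (fun _ => Nat) 113 120 62 118 1 114 110 123 108 1 113 116 114 119 116 2 106 115 106 1 115 116 2 2 2 114 111 62 117 108 123 1 120 112 112 117 2 0 1 2) (@D3.rec (fun _ => Nat) 0 1 2 7 7 1 1 1 2 115 2 1 2 116 2 1 1 0 2 0 2 81 0 1 2 83 0 1 2 59 1 2 56 1 2 112 2 3 89 1) (@D3.rec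 (fun _ => Nat) 2 90 1 2 115 2 6 81 81 88 83 88 0 1 2 1 2 0 90 1 2 1 2 98 92 100 99 0 0 1 1 100 102 1 113 111 1 116 1 120) (@D3.rec (fun _ => Nat) 108 1 111 121 2 114 116 1 106 101 1 113 113 2 115 2 117 3 2 112 3 2 3 2 3 109 106 119 103 1 85 66 2 2 112 1 2 2 112 1) (@D3.rec (fun _ => Nat) 1 0 104 1 2 9 2 2 3 0 0 1 116 118 1 121 2 0 1 2 2 119 2 117 3 85 0 109 1 2 9 2 2 3 0 0 1 112 112 1) (@D3.rec (fun _ => Nat) 120 2 0 1 2 2 119 2 120 5 67 86 2 2 0 1 89 89 1 87 2 2 0 1 85 84 1 92 92 54 2 2 3 0 0 1 84 94 119 2) (@D3.rec (fun _ => Nat) 0 3 61 3 4 0 0 1 2 1 2 2 0 1 2 87 57 1 0 2 2 91 2 2 3 80 1 2 2 57 6 2 2 3 3 0 1 2 55 56) (@D3.rec (fun _ => Nat) 2 2 3 0 0 1 61 118 2 0 3 60 3 4 112 0 1 100 1 2 2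 0 1 2 85 89 1 0 2 2 93 2 2 59 3 1 2 2 85 7) (@D3.rec (fun _ => Nat) 2 2 3 3 0 1 2 96 0 61 61 1 2 2 2 61 7 7 7 7 96 0 59 59 1 2 2 2 59 8 8 8 8 73 73 73 0 16 1 2) (@D3.rec (fun _ => Nat) 2 2 63 63 63 0 1 2 2 105 1 116 111 1 116 120 116 1 115 115 115 88 1 2 113 2 116 115 3 1 117 115 8 110 2 2 118 117 89 122) (@D3.rec (fun _ => Nat) 112 1 112 109 59 2 2 117 119 3 1 116 119 9 110 2 116 118 60 1 111 2 101 1 102 2 117 117 1 108 6 116 107 2 82 116 0 94 3 6) (@D3.rec (fun _ => Nat) 106 110 2 2 3 118 114 1 116 7 112 118 2 107 119 0 3 119 7 115 114 2 2 3 113 93 92 0 1 101 100 1 119 110 1 2 60 98 1 2) (@D3.rec (fun _ => Nat) 2 93 2 2 2 86 116 115 85 1 2 6 2 2 3 101 104 3 103 113 84 113 84 84 1 2 114 86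 85 2 114 7 117 7 7 6 0 111 117 1) (@D3.rec (fun _ => Nat) 2 2 112 111 0 1 102 104 1 120 108 1 2 58 108 1 102 87 2 2 2 115 113 1 2 7 2 2 3 114 3 114 117 85 114 88 90 1 2 89) (@D3.rec (fun _ => Nat) 2 114 8 116 8 8 7 0 114 117 1 2 2 104 91 60 109 0 8 110 113 112 8 112 88 90 0 9 111 123 9 121 123 2 99 101 3 61 93 112) (@D3.rec (fun _ => Nat) 1 108 102 113 1 2 114 106 2 2 114 3 114 104 2 100 105 3 55 105 110 1 107 118 103 1 2 116 103 2 2 3 114 112 115 79 2 86 2 61) (@D3.rec (fun _ => Nat) 2 0 1 87 2 0 1 110 115 1 0 1 0 1 2 0 2 1 2 0 2 4 2 62 62 6 6 4 2 88 85 7 3 10 4 10 4 1 0 1) (@D3.rec (fun _ => Nat) 0 1 0 1 0 0 2 2 3 4 2 2 0 1 0 2 1 2 5 2 1 114 2 7 3 0 2 2 3 4 2 2 0 1 0 2 1 2 7 2) (@D3.rec (fun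 _ => Nat) 1 117 2 6 5 0 102 3 1 95 105 2 3 5 4 103 13 1 99 102 2 14 3 2 78 92 10 10 8 93 3 0 0 0 1 2 92 1 113 2) (@D3.rec (fun _ => Nat) 3 1 51 0 1 2 88 2 0 117 118 114 1 2 11 5 2 116 3 11 0 109 3 1 107 2 110 6 3 4 109 87 1 111 2 109 86 3 2 110) (@D3.rec (fun _ => Nat) 100 10 10 6 105 3 0 0 0 1 2 93 1 118 2 3 1 79 0 1 2 58 2 0 118 113 117 1 2 12 7 2 121 3 12 1 0 1 1 88) (@D3.rec (fun _ => Nat) 2 12 12 12 12 89 3 0 0 1 2 0 0 0 1 2 3 1 0 1 1 86 2 12 12 12 12 98 3 0 0 1 2 0 0 0 1 2 3 120) (@D3.rec (fun _ => Nat) 93 78 78 78 78 8 3 0 117 0 1 2 93 90 1 93 93 0 1 2 0 4 0 1 2 0 1 112 0 1 0 2 0 121 1 2 97 109 78 1) (@D3.rec (fun _ => Nat) 2 80 1 2 2 6 18 6 115 55 86 86 86 86 8 3 0 114 0 1 118 55 57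 1 98 101 0 1 2 0 4 0 1 2 0 1 120 0 1 0) (@D3.rec (fun _ => Nat) 2 0 115 1 2 63 100 56 1 2 56 1 2 2 3 15 5 75 114 75 62 2 2 2 97 3 0 96 113 63 63 96 3 3 65 4 98 4 0 0)
def lv_c_14 : D2 → D3 → Nat := @D2.rec (fun _ => D3 → Nat) (@D3.rec (fun _ => Nat) 111 103 115 115 94 96 0 0 1 0 2 3 1 2 2 2 58 2 1 2 61 59 3 0 103 0 1 2 83 113 83 45 2 2 2 3 105 0 117 108) (@D3.rec (fun _ => Nat) 46 46 105 3 73 3 4 4 106 0 0 112 117 113 122 99 96 0 0 1 0 2 3 1 2 2 2 2 59 61 59 3 0 104 0 1 2 77 75 2) (@D3.rec (fun _ => Nat) 2 2 3 0 0 82 80 90 68 71 0 3 3 79 3 63 4 4 5 114 0 112 119 82 1 68 85 83 2 2 2 3 0 0 80 80 102 76 78 0) (@D3.rec (fun _ => Nat) 3 3 69 3 103 4 4 5 0 116 72 1 89 122 119 94 94 108 110 2 2 94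 6 94 112 94 96 2 94 115 113 3 57 114 97 112 12 12 112 12) (@D3.rec (fun _ => Nat) 104 7 104 112 107 106 2 109 108 106 3 83 112 90 112 11 11 113 11 1 0 1 110 1 108 1 8 2 105 98 96 104 106 2 103 2 107 7 5 82) (@D3.rec (fun _ => Nat) 1 0 1 110 1 108 1 8 2 113 100 100 103 102 2 100 2 109 6 3 56 3 107 109 94 119 105 108 0 1 106 1 108 0 1 107 86 85 1 111) (@D3.rec (fun _ => Nat) 2 1 100 114 99 1 103 112 1 105 82 108 1 105 2 3 112 115 102 100 103 109 118 115 1 0 1 106 89 111 1 112 2 1 109 106 109 1 106 1) (@D3.rec (fun _ => Nat) 1 113 2 92 66 2 91 0 93 1 1 2 103 104 1 2 99 99 95 1 0 1 106 1 2 99 5 99 2 2 3 112 1 2 113 6 108 104 46 2) (@D3.rec (fun _ => Nat) 0 1 1 2 108 108 1 2 100 98 1 0 1 114 1 2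 103 2 2 3 101 98 104 109 107 2 107 118 1 106 2 112 115 108 104 1 104 2 105 110) (@D3.rec (fun _ => Nat) 17 116 1 107 116 110 111 109 116 120 1 111 119 113 109 112 113 114 117 109 119 118 116 108 1 115 119 111 114 102 112 116 117 2 116 119 1 2 118 107) (@D3.rec (fun _ => Nat) 116 121 1 115 119 2 113 115 78 112 1 104 110 110 114 105 113 104 1 112 117 122 109 107 104 110 109 117 116 114 113 119 1 111 109 107 109 0 81 101) (@D3.rec (fun _ => Nat) 0 1 98 101 1 2 1 1 1 108 2 0 89 101 1 101 102 1 1 1 1 119 2 78 80 82 51 85 87 86 83 97 107 1 89 95 1 101 2 0) (@D3.rec (fun _ => Nat) 1 1 106 2 3 1 94 109 1 110 2 0 1 1 111 2 3 111 0 1 2 2 126 0 1 2 2 1 0 0 79 0 1 109 0 1 99 105 99 2) (@D3.rec (fun _ =>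 Nat) 103 99 94 101 2 111 103 92 102 5 87 2 103 0 100 7 7 113 108 6 87 2 112 0 110 8 8 107 2 0 1 87 5 0 3 105 95 1 108 105) (@D3.rec (fun _ => Nat) 2 0 1 112 5 0 3 104 105 1 104 102 0 0 100 0 1 2 98 1 2 102 0 1 2 102 1 2 3 6 4 98 0 1 96 1 2 108 6 1) (@D3.rec (fun _ => Nat) 2 2 8 2 2 3 86 3 3 6 6 12 6 2 2 3 0 3 8 8 0 1 7 3 4 92 0 1 102 1 2 113 8 1 2 2 6 2 2 3) (@D3.rec (fun _ => Nat) 90 3 3 8 8 13 7 2 2 3 0 3 7 7 0 1 99 0 1 1 106 0 2 1 2 2 114 120 0 99 58 1 2 116 6 2 2 3 0 9) (@D3.rec (fun _ => Nat) 91 92 104 1 117 2 2 13 3 2 2 3 0 110 13 6 6 110 3 0 3 0 4 1 103 105 115 0 1 103 0 1 1 105 89 2 1 2 2 116) (@D3.rec (fun _ => Nat) 112 0 90 89 1 2 118 8 2 2 3 0 7 90 93 108 1 110 2 2 12 3 2 2 3 0 111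 12 8 8 110 3 0 3 0 4 1 113 125 119) (@D3.rec (fun _ => Nat) 0 1 1 1 0 2 1 0 1 0 1 1 2 0 2 8 2 1 2 2 6 13 13 0 13 0 0 1 2 1 2 117 2 1 1 2 2 0 1 1) (@D3.rec (fun _ => Nat) 2 0 2 1 2 0 2 2 3 0 3 3 7 5 2 2 3 0 0 1 1 120 2 13 15 2 1 117 2 7 5 1 90 0 89 89 1 2 2 2) (@D3.rec (fun _ => Nat) 0 89 88 7 0 0 1 2 0 13 13 13 13 0 3 0 3 0 4 1 101 103 0 0 1 1 112 2 1 0 2 1 1 0 0 1 1 2 0 2) (@D3.rec (fun _ => Nat) 7 1 2 2 6 13 13 0 13 0 0 1 2 1 2 105 2 1 1 2 2 0 1 1 2 0 2 1 2 0 2 2 3 0 3 3 8 5 2 2) (@D3.rec (fun _ => Nat) 3 0 0 1 1 121 2 14 14 2 1 113 2 6 3 1 88 0 88 88 1 2 2 2 88 0 91 8 0 0 1 2 0 13 13 13 0 3 0 3) (@D3.rec (fun _ => Nat) 0 4 1 106 112 0 0 1 1 108 2 79 0 73 0 1 60 113 0 95 1 2 0 110 1 103 79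 1 62 96 2 62 1 112 0 0 1 2 2 8) (@D3.rec (fun _ => Nat) 0 0 1 2 113 120 0 1 1 99 1 0 102 113 107 1 111 0 2 110 1 2 0 2 1 2 2 84 90 1 2 2 8 5 8 2 2 3 0 7)
def lv_c_15 : D2 → D3 → Nat := @D2.rec (fun _ => D3 → Nat) (@D3.rec (fun _ => Nat) 99 67 70 2 2 91 67 93 67 95 1 1 118 90 102 1 0 1 2 2 0 1 1 106 0 2 3 1 0 99 1 0 2 1 108 85 3 110 0 3) (@D3.rec (fun _ => Nat) 0 3 3 1 110 2 110 6 0 86 1 114 2 2 4 117 2 64 0 63 64 64 7 0 3 0 0 0 1 2 83 1 113 117 2 3 116 112 55 1) (@D3.rec (fun _ => Nat) 118 2 12 12 2 117 119 117 68 7 0 6 6 118 87 80 82 89 4 89 89 89 89 4 6 115 95 89 88 1 88 0 89 80 89 89 89 110 3 2) (@D3.rec (fun _ => Nat) 2 2 3 3 0 117 3 81 4 4 4 4 9 3 103 1 2 117 72 1 2 105 62 8 8 8 1 2 2 2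 104 8 8 64 8 9 0 7 102 1) (@D3.rec (fun _ => Nat) 2 60 4 104 0 0 0 1 2 1 2 2 3 69 112 82 0 81 89 113 95 1 2 0 0 59 1 88 93 2 88 111 109 1 98 0 1 2 2 7) (@D3.rec (fun _ => Nat) 0 0 1 2 103 0 1 115 101 1 0 1 103 111 106 1 98 0 2 91 1 2 0 2 1 2 2 82 91 1 2 5 7 2 2 3 0 7 88 80) (@D3.rec (fun _ => Nat) 78 2 2 80 1 1 113 95 103 1 0 1 2 2 0 1 1 102 0 2 3 1 0 101 1 0 2 1 104 88 3 115 0 3 0 3 3 1 113 110) (@D3.rec (fun _ => Nat) 2 5 113 60 118 115 4 70 0 70 71 70 8 0 3 0 0 0 1 2 61 1 107 108 2 3 118 118 79 1 118 2 11 7 2 119 120 118 86 6) (@D3.rec (fun _ => Nat) 0 5 5 87 82 84 91 4 88 88 88 7 61 4 88 94 61 97 91 80 91 91 91 116 3 2 2 2 3 3 3 0 115 81 4 4 4 10 3 113) (@D3.rec (fun _ => Nat) 1 2 116 81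 1 2 102 70 9 9 9 1 2 2 2 114 9 9 9 71 10 0 8 105 1 2 57 4 116 0 0 0 1 2 1 2 2 3 88 111) (@D3.rec (fun _ => Nat) 116 119 1 2 1 2 1 2 93 2 109 1 2 2 2 3 5 2 2 2 3 3 3 4 4 4 4 97 1 2 2 2 62 85 84 3 3 2 2 2) (@D3.rec (fun _ => Nat) 3 3 0 0 1 1 2 2 2 104 3 3 68 3 60 4 4 5 109 0 1 80 0 1 2 95 95 97 103 9 0 121 9 10 121 0 108 115 1 2) (@D3.rec (fun _ => Nat) 1 2 1 2 2 104 112 1 2 2 2 3 5 2 2 2 3 3 3 4 4 4 101 4 1 2 2 2 83 98 85 3 3 2 2 2 3 3 0 0) (@D3.rec (fun _ => Nat) 1 1 2 2 2 106 3 3 59 3 67 4 4 5 0 113 0 1 2 1 50 98 98 95 10 103 120 0 10 11 0 105 3 68 111 4 98 95 87 64) (@D3.rec (fun _ => Nat) 64 1 2 2 2 64 70 3 63 111 97 4 96 89 74 74 1 2 2 2 74 76 102 100 99 104 65 95 111 2 110 108 2 106 101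 103 101 65 2 102) (@D3.rec (fun _ => Nat) 105 100 95 2 100 1 2 64 2 2 106 112 116 114 0 105 1 118 110 114 114 0 114 1 116 113 105 0 95 2 118 114 1 86 1 99 96 96 2 2) (@D3.rec (fun _ => Nat) 105 114 110 112 0 114 1 119 110 105 115 0 115 1 114 115 105 0 2 117 115 1 94 1 96 1 113 121 1 2 105 1 2 111 2 111 1 105 119 96) (@D3.rec (fun _ => Nat) 117 2 116 116 8 112 100 102 1 2 97 104 100 106 101 99 1 2 104 103 85 5 107 113 111 118 116 108 1 112 2 1 103 1 99 2 104 1 99 104) (@D3.rec (fun _ => Nat) 2 106 84 108 6 6 112 110 4 7 1 2 2 2 111 3 102 106 7 95 0 94 60 94 95 106 1 2 95 103 100 112 93 94 3 11 65 7 65 112) (@D3.rec (fun _ => Nat) 90 108 104 107 4 4 4 0 3 109 106 105 2 112 5 111 111 105 5 111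 115 107 1 102 103 110 97 103 103 1 2 110 110 120 9 9 2 2 120 113) (@D3.rec (fun _ => Nat) 3 108 110 122 110 9 10 100 1 103 9 103 110 0 1 1 102 2 1 103 3 110 115 1 2 117 1 2 111 2 117 1 102 113 92 116 2 113 117 9) (@D3.rec (fun _ => Nat) 101 102 1 2 102 98 105 104 100 1 2 104 96 111 113 104 112 1 115 2 1 98 1 104 98 100 95 103 6 6 113 6 1 2 2 2 3 115 111 7) (@D3.rec (fun _ => Nat) 99 0 56 98 98 98 1 2 99 104 102 107 99 100 3 12 88 8 108 96 107 0 3 109 109 112 114 112 112 106 10 10 114 121 10 11 99 10 106 118) (@D3.rec (fun _ => Nat) 0 1 1 109 2 1 110 3 1 117 4 4 0 3 115 116 3 2 101 97 104 0 103 106 4 4 0 3 0 113 105 1 2 59 4 112 99 1 2 1) (@D3.rec (fun _ => Nat) 117 2 109 1 112 4 4 0 3 116 120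 3 2 104 105 108 0 107 104 4 4 0 3 0 117 105 1 2 57 4 106 110 1 2 1 109 2 117 63 111) (@D3.rec (fun _ => Nat) 112 2 112 109 103 0 3 3 107 111 115 0 111 102 1 2 2 102 0 2 104 61 114 111 2 113 107 112 0 116 0 1 2 2 102 0 117 109 113 1)
def lv_c_16 : D2 → D3 → Nat := @D2.rec (fun _ => D3 → Nat) (@D3.rec (fun _ => Nat) 122 109 119 115 2 2 120 113 110 113 2 114 119 112 101 119 2 0 119 121 116 113 121 2 121 117 122 117 2 114 116 116 112 116 2 0 118 119 117 112) (@D3.rec (fun _ => Nat) 0 0 88 1 2 0 2 3 97 1 2 0 2 3 95 106 114 1 2 0 1 2 111 2 3 109 1 2 0 1 2 117 2 6 57 1 1 61 113 118) (@D3.rec (fun _ => Nat) 85 1 1 86 121 120 1 0 1 2 1 0 1 2 1 0 117 1 0 120 61 60 88 88 95 93 102 112 1 107 112 1 0 0 1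 88 1 2 2 3) (@D3.rec (fun _ => Nat) 0 0 1 60 1 2 2 5 85 1 104 116 118 94 1 104 115 118 76 100 98 0 0 0 100 1 99 113 107 1 2 2 109 1 97 2 2 108 2 2) (@D3.rec (fun _ => Nat) 3 3 111 1 84 106 102 0 0 0 99 1 96 105 109 1 2 2 120 1 96 2 2 107 2 2 3 3 114 1 1 1 2 97 2 3 104 1 1 2) (@D3.rec (fun _ => Nat) 97 2 3 115 1 110 1 122 107 111 104 111 99 104 102 106 1 105 2 116 3 104 103 98 106 1 105 2 122 3 105 107 1 96 2 0 98 1 2 1) (@D3.rec (fun _ => Nat) 106 2 0 94 1 2 90 89 89 102 2 90 1 105 93 6 6 98 96 99 106 2 90 1 109 99 7 3 98 2 112 2 1 2 89 0 2 1 2 2) (@D3.rec (fun _ => Nat) 2 7 3 0 1 2 98 0 2 1 2 2 2 6 5 0 0 113 1 2 1 87 2 87 1 1 2 0 2 119 115 0 112 1 2 1 63 2 62 1) (@D3.rec (fun _ => Nat) 1 2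 0 2 105 105 97 0 1 2 1 0 2 0 1 2 2 0 1 102 1 2 105 2 3 90 90 89 1 88 88 94 0 1 2 1 0 2 0 1) (@D3.rec (fun _ => Nat) 2 2 0 1 99 1 2 94 2 3 87 87 87 1 88 88 93 92 76 102 79 2 97 97 97 94 1 104 105 0 1 79 79 0 79 87 101 1 88 106) (@D3.rec (fun _ => Nat) 121 0 1 121 109 97 0 2 121 0 2 1 2 2 116 0 1 2 0 110 1 96 2 0 114 1 2 107 108 97 1 2 96 106 0 1 2 0 1 2) (@D3.rec (fun _ => Nat) 120 2 6 1 2 0 2 2 112 0 113 0 117 1 1 107 95 105 1 98 69 109 106 90 1 2 2 102 84 97 87 106 2 103 103 97 97 1 114 107) (@D3.rec (fun _ => Nat) 0 87 116 87 87 55 1 61 107 62 118 118 1 118 112 107 115 2 118 0 1 2 2 115 111 1 2 117 111 1 98 2 115 115 99 99 97 1 96 104) (@D3.rec (fun _ => Nat) 0 1 2 0 1 96 119 96 1 2 0 2 2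 49 47 118 1 96 96 1 98 106 111 93 1 2 109 0 68 0 0 113 119 1 116 2 0 115 1 1) (@D3.rec (fun _ => Nat) 2 0 94 0 3 0 1 2 115 1 2 100 2 6 96 97 95 104 1 110 2 2 3 90 98 66 66 118 117 102 119 57 90 90 57 92 90 92 0 106) (@D3.rec (fun _ => Nat) 112 1 2 2 2 105 111 96 2 2 2 3 4 0 92 110 92 92 111 111 111 111 113 0 65 0 0 117 113 1 114 2 0 118 1 1 2 0 94 0) (@D3.rec (fun _ => Nat) 3 0 1 2 120 1 2 99 2 3 98 97 98 107 1 111 2 2 3 92 96 56 56 118 118 56 117 67 109 92 67 99 97 92 0 94 111 1 2 2) (@D3.rec (fun _ => Nat) 2 91 101 97 2 2 2 3 4 0 91 114 90 90 114 111 90 112 114 1 116 1 92 94 91 79 79 90 90 90 79 116 82 82 113 82 1 2 2 0) (@D3.rec (fun _ => Nat) 96 2 2 2 3 3 115 1 119 1 97 91 92 80 80 89 89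 89 80 110 78 78 78 119 1 2 97 2 2 3 1 107 4 3 1 95 5 3 100 65) (@D3.rec (fun _ => Nat) 90 105 1 101 104 1 2 1 2 5 101 115 97 97 109 106 103 50 60 105 1 108 111 1 2 1 98 117 108 109 99 1 92 108 1 112 1 99 0 2) (@D3.rec (fun _ => Nat) 111 6 112 103 118 104 1 111 116 1 2 115 114 116 120 102 110 1 111 1 107 1 114 0 2 101 6 118 107 116 110 1 94 107 1 2 119 119 119 121) (@D3.rec (fun _ => Nat) 1 2 2 106 117 115 112 110 123 1 2 2 116 118 116 105 110 115 20 110 116 118 20 19 119 115 112 19 1 2 114 2 1 2 114 2 2 117 2 118) (@D3.rec (fun _ => Nat) 102 107 1 2 1 2 81 1 112 2 85 1 113 2 2 2 121 3 2 2 114 5 83 83 1 0 2 2 114 1 0 2 2 115 1 1 119 117 8 9) (@D3.rec (fun _ => Nat) 10 10 1 2 3 2 10 10 105 3 0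 0 0 1 2 1 117 115 83 1 2 0 2 118 119 3 117 9 117 85 1 2 3 2 10 10 110 3 0 0) (@D3.rec (fun _ => Nat) 0 1 2 1 115 114 71 1 2 0 2 115 114 3 116 10 119 63 86 1 93 14 90 1 91 14 96 95 8 3 120 118 1 117 1 100 121 101 123 118) (@D3.rec (fun _ => Nat) 1 2 63 4 99 61 108 117 113 1 116 1 2 118 2 98 2 114 2 84 116 113 83 1 2 98 2 92 0 101 92 1 98 3 93 91 93 86 83 2)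
def lv_c_17 : D2 → D3 → Nat := @D2.rec (fun _ => D3 → Nat) (@D3.rec (fun _ => Nat) 2 3 112 7 7 7 7 114 3 59 3 4 0 116 1 2 116 2 114 113 8 3 117 117 1 122 1 104 122 104 121 119 1 2 58 4 98 60 112 114) (@D3.rec (fun _ => Nat) 114 1 102 119 86 2 114 2 58 116 56 117 1 2 99 2 87 0 93 1 96 3 98 98 90 88 88 2 2 3 110 8 8 8 8 109 3 62 3 4) (@D3.rec (fun _ => Nat) 0 87 1 2 115 2 89 1 104 2 2 61 64 2 2 2 3 111 119 108 8 102 8 103 8 108 96 1 2 87 67 2 2 2 115 118 91 9 112 9) (@D3.rec (fun _ => Nat) 113 9 98 75 75 75 75 1 104 2 0 14 2 2 2 3 120 97 69 69 69 65 1 118 16 2 2 120 14 14 116 3 91 123 120 115 92 92 117 89) (@D3.rec (fun _ => Nat) 114 3 96 121 113 116 59 58 120 97 95 97 121 109 7 3 114 122 1 119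 116 96 108 0 3 119 8 3 113 122 1 118 119 123 115 0 3 113 1 118) (@D3.rec (fun _ => Nat) 8 2 0 2 111 2 7 110 3 103 106 120 117 2 116 8 117 0 8 0 1 2 1 108 8 2 0 112 2 8 109 3 115 117 116 2 116 9 116 0) (@D3.rec (fun _ => Nat) 9 0 1 2 108 106 1 2 114 1 2 123 101 61 104 110 2 115 107 3 116 115 102 54 103 113 2 118 103 3 114 115 79 79 86 84 61 61 96 1) (@D3.rec (fun _ => Nat) 104 95 86 105 1 113 0 114 1 0 115 1 103 2 1 114 120 95 109 2 1 115 117 95 5 62 62 94 61 7 7 13 5 85 87 103 84 8 8 14) (@D3.rec (fun _ => Nat) 105 86 11 5 108 11 93 5 0 1 2 0 1 110 0 1 2 0 1 117 1 2 2 3 6 4 1 111 6 1 116 2 8 2 109 122 124 115 3 121) (@D3.rec (fun _ => Nat) 6 12 2 119 115 3 8 8 12 1 2 2 7 3 4 1 111 8 1 122 2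 6 2 114 110 108 3 105 115 8 13 2 121 117 3 7 7 13 1 103) (@D3.rec (fun _ => Nat) 121 104 84 2 96 104 113 3 102 3 2 96 103 104 69 92 11 0 68 0 98 0 0 1 2 0 1 118 1 2 2 3 114 3 115 55 1 6 2 114) (@D3.rec (fun _ => Nat) 0 1 2 95 112 13 2 13 6 3 102 13 1 109 110 107 91 2 106 107 3 110 111 3 2 111 109 109 76 92 11 0 77 0 106 0 0 1 2 0) (@D3.rec (fun _ => Nat) 1 114 1 2 2 3 117 3 111 81 1 8 2 121 1 89 112 12 2 12 8 3 99 12 1 0 91 6 13 101 13 13 0 91 0 0 1 2 1 108) (@D3.rec (fun _ => Nat) 98 2 0 0 1 1 1 7 3 1 0 86 6 13 105 13 0 13 96 0 0 1 2 1 105 87 2 0 0 1 1 1 6 3 120 78 101 78 78 118) (@D3.rec (fun _ => Nat) 80 9 118 117 1 2 109 120 0 1 2 2 86 93 93 0 1 2 0 98 0 1 2 96 1 2 103 2 99 0 1 0 111 0 1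 2 2 59 1 2) (@D3.rec (fun _ => Nat) 60 117 126 1 115 121 109 2 115 2 2 5 80 110 86 106 86 114 86 88 9 119 107 1 2 119 0 1 108 80 96 100 0 1 2 0 106 0 1 2) (@D3.rec (fun _ => Nat) 102 1 2 102 2 104 0 1 104 125 0 1 2 2 59 1 2 60 116 107 1 114 113 111 2 114 2 2 3 54 0 77 63 63 96 3 0 0 0 1) (@D3.rec (fun _ => Nat) 109 96 0 95 99 65 4 0 65 65 0 120 0 115 1 118 1 2 116 84 87 1 113 1 2 2 9 1 2 102 61 3 0 2 2 2 93 3 71 117) (@D3.rec (fun _ => Nat) 3 61 64 2 102 60 0 0 1 2 1 2 0 85 46 46 104 3 111 0 0 1 113 109 0 110 107 72 4 72 72 0 0 0 119 121 1 2 118 1) (@D3.rec (fun _ => Nat) 115 89 87 1 114 1 2 2 9 1 2 103 59 3 0 2 2 2 96 3 3 114 103 60 0 0 1 2 1 2 74 3 0 1 118 1 123 82 90 68) (@D3.rec (fun _ =>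 Nat) 0 68 1 95 4 64 5 118 64 64 0 112 112 117 113 1 2 119 82 3 0 118 1 117 1 73 102 0 78 94 1 99 78 4 5 78 78 0 114 119) (@D3.rec (fun _ => Nat) 116 1 2 118 121 109 94 107 111 92 108 90 1 110 115 9 1 108 120 9 108 1 1 107 0 110 116 9 102 111 1 108 0 117 9 115 1 105 115 106) (@D3.rec (fun _ => Nat) 2 0 1 2 6 106 0 3 112 2 1 112 113 106 2 0 1 2 108 0 3 103 105 114 120 16 118 111 111 111 113 109 118 115 119 116 80 109 111 105) (@D3.rec (fun _ => Nat) 117 111 1 1 103 2 116 114 1 103 116 121 80 91 85 90 102 105 124 99 2 104 0 99 1 100 107 10 106 108 3 108 113 113 112 2 110 0 104 1) (@D3.rec (fun _ => Nat) 104 123 10 114 121 3 1 113 99 2 2 3 1 114 104 2 2 3 0 1 0 1 1 0 1 0 101 98 104 99 93 103 101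 106 104 95 103 114 89 89) (@D3.rec (fun _ => Nat) 119 108 101 1 2 0 116 110 117 86 86 114 110 109 1 2 0 107 111 1 0 119 99 1 67 102 1 0 115 97 1 88 0 1 0 1 100 1 2 108)
def lv_c_18 : D2 → D3 → Nat := @D2.rec (fun _ => D3 → Nat) (@D3.rec (fun _ => Nat) 3 91 101 3 105 6 2 102 1 2 115 3 94 3 107 105 7 2 13 8 102 8 1 2 2 108 110 111 124 7 98 2 2 3 0 7 7 3 3 3) (@D3.rec (fun _ => Nat) 5 4 115 88 88 14 111 90 7 0 98 14 7 7 102 3 104 3 0 4 102 1 2 0 0 108 0 1 2 7 103 7 14 1 100 2 111 115 108 111) (@D3.rec (fun _ => Nat) 9 106 2 2 3 0 7 7 3 3 3 6 4 119 90 90 99 13 108 9 0 102 13 8 96 8 3 114 3 0 4 109 1 2 0 0 121 0 1 2) (@D3.rec (fun _ => Nat) 1 0 1 2 115 111 66 2 2 3 0 1 2 106 118 3 2 112 7 108 3 106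 0 0 1 93 3 2 2 116 105 4 116 3 104 0 104 1 99 115) (@D3.rec (fun _ => Nat) 7 0 110 0 4 98 1 107 101 1 105 105 90 105 87 1 1 0 91 105 94 89 2 2 3 0 1 2 111 118 3 2 118 9 109 3 125 0 0 1) (@D3.rec (fun _ => Nat) 91 3 2 2 105 121 120 4 3 114 0 122 1 120 115 9 0 108 0 4 122 1 125 117 1 113 118 123 97 1 17 15 9 1 114 110 9 13 0 1) (@D3.rec (fun _ => Nat) 111 1 0 97 0 2 1 112 2 92 9 10 5 2 2 113 0 9 9 1 1 1 113 2 114 2 117 0 5 97 2 2 3 0 1 119 2 1 113 2) (@D3.rec (fun _ => Nat) 13 3 0 3 3 1 107 102 109 6 0 4 1 2 104 119 6 6 0 3 104 0 0 1 0 1 119 8 119 118 10 101 98 13 13 2 120 7 115 0) (@D3.rec (fun _ => Nat) 1 2 105 113 102 2 2 2 3 3 103 101 3 1 0 91 0 102 1 104 1 2 102 2 1 112 113 14 14 0 14 14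 0 1 2 115 4 115 1 105) (@D3.rec (fun _ => Nat) 105 1 101 103 103 1 0 1 0 113 5 15 8 1 114 107 8 17 117 0 1 1 0 88 0 2 1 119 2 102 8 5 2 2 109 113 7 7 1 1) (@D3.rec (fun _ => Nat) 1 103 2 113 2 108 0 5 87 2 2 3 0 1 115 2 1 119 2 10 3 0 3 3 1 112 119 108 5 104 4 1 2 115 113 6 3 110 0 0) (@D3.rec (fun _ => Nat) 1 0 1 115 7 114 118 10 92 91 14 12 2 118 8 109 0 1 2 104 115 100 2 2 2 3 3 3 107 103 91 1 0 0 108 1 112 1 2 115) (@D3.rec (fun _ => Nat) 2 1 106 110 14 0 14 1 2 110 4 120 1 109 113 1 106 113 112 1 0 1 0 110 6 93 1 96 1 98 119 112 0 1 2 94 2 95 1 116) (@D3.rec (fun _ => Nat) 0 94 103 95 0 1 1 2 97 9 2 2 3 98 8 1 2 1 110 2 110 112 1 113 0 0 1 116 4 1 113 2 103 97 1 2 2 82 5 4) (@D3.rec (fun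 _ => Nat) 2 2 107 93 2 2 3 0 116 114 115 116 118 9 10 110 3 0 0 1 2 100 119 118 105 1 2 2 113 1 0 8 1 108 3 119 0 1 1 9) (@D3.rec (fun _ => Nat) 1 112 113 1 120 2 116 4 7 121 9 2 90 1 115 116 2 2 114 117 116 0 65 66 66 1 2 2 116 65 66 116 65 66 0 1 2 115 118 1) (@D3.rec (fun _ => Nat) 115 115 1 110 117 1 2 114 2 111 3 2 101 12 12 119 119 61 7 1 100 82 118 0 84 91 97 89 90 96 94 88 93 1 2 91 91 91 91 91) (@D3.rec (fun _ => Nat) 4 4 4 4 113 3 3 0 114 3 116 4 1 2 109 110 5 112 5 105 103 118 2 7 114 2 105 105 105 105 68 68 68 9 103 2 2 2 105 3) (@D3.rec (fun _ => Nat) 3 115 115 105 107 9 10 118 1 2 102 105 2 107 1 100 1 119 1 2 114 2 3 2 3 95 1 96 114 94 2 96 1 116 0 1 2 95 104 89) (@D3.rec (fun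 _ => Nat) 0 1 2 8 2 2 3 96 9 1 1 114 2 94 112 1 113 0 1 116 109 4 1 115 2 98 97 1 2 2 5 4 2 2 96 91 2 126 113 119) (@D3.rec (fun _ => Nat) 113 8 10 115 3 0 0 1 2 101 114 110 101 1 2 2 112 1 0 5 1 3 117 0 1 1 5 1 117 1 106 119 2 6 4 109 10 2 89 116) (@D3.rec (fun _ => Nat) 115 119 79 74 1 2 116 118 74 74 0 1 106 117 1 116 114 1 119 120 1 2 107 2 119 3 2 98 13 8 111 120 84 8 1 95 84 0 90 89) (@D3.rec (fun _ => Nat) 94 98 90 90 90 90 4 4 4 119 3 3 115 3 0 4 113 1 2 110 116 118 106 119 2 3 2 101 101 101 101 65 65 65 10 115 2 2 2 110) (@D3.rec (fun _ => Nat) 3 3 111 110 102 10 115 11 1 2 107 114 2 106 1 107 1 115 1 2 125 2 3 2 3 118 2 2 2 117 90 2 2 2 4 96 4 4 6 111) (@D3.rec (fun _ => Nat) 3 3 3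 4 108 5 95 5 97 95 95 3 2 2 2 116 0 92 91 100 96 105 4 105 99 97 4 10 3 3 105 111 0 1 1 0 68 2 2 2) (@D3.rec (fun _ => Nat) 111 100 108 7 101 97 102 4 62 5 109 62 117 107 107 116 113 1 121 1 118 2 98 98 95 119 98 119 1 103 119 117 116 0 116 118 116 1 2 110)
def lv_c_19 : D2 → D3 → Nat := @D2.rec (fun _ => D3 → Nat) (@D3.rec (fun _ => Nat) 2 2 2 112 91 2 2 2 4 103 4 4 6 112 3 3 3 4 116 106 5 101 5 103 104 3 2 2 2 111 93 0 93 96 95 102 98 4 103 4) (@D3.rec (fun _ => Nat) 106 11 3 3 121 113 0 1 1 0 67 2 2 2 108 102 106 100 106 6 122 59 4 5 61 115 115 116 116 115 1 120 114 1 119 2 116 98 118 95) (@D3.rec (fun _ => Nat) 98 120 122 120 1 107 0 106 118 1 2 107 120 4 100 95 106 95 97 117 87 87 121 0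 2 2 2 3 3 89 89 115 4 101 115 104 106 116 91 91) (@D3.rec (fun _ => Nat) 0 124 2 2 2 3 3 91 93 119 102 106 103 107 2 111 116 108 1 116 117 1 118 113 118 114 1 97 119 114 105 1 115 115 1 114 118 117 118 1) (@D3.rec (fun _ => Nat) 105 120 2 113 2 109 116 103 104 112 110 118 2 7 2 116 3 106 95 1 2 108 94 94 2 107 101 96 94 5 0 5 1 116 100 113 109 116 119 100) (@D3.rec (fun _ => Nat) 105 110 107 2 115 112 112 117 114 0 3 117 108 108 110 118 117 99 109 1 101 116 115 2 117 2 119 117 104 113 114 116 7 2 116 3 103 99 1 114) (@D3.rec (fun _ => Nat) 2 100 100 2 106 104 99 100 1 111 106 122 113 117 98 115 1 113 115 5 1 118 1 2 107 0 5 1 112 1 2 109 9 10 2 0 107 95 119 5) (@D3.rec (fun _ => Nat) 1 117 1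 2 115 0 5 1 125 1 2 105 10 11 2 0 120 99 117 0 1 2 2 107 113 1 2 102 9 2 2 0 1 2 99 116 0 1 1 10) (@D3.rec (fun _ => Nat) 2 2 0 1 115 112 0 105 112 114 0 1 116 116 0 116 118 118 0 1 1 1 90 104 2 1 104 100 98 3 97 109 2 1 109 101 107 3 107 116) (@D3.rec (fun _ => Nat) 2 1 123 2 3 100 119 2 1 114 2 5 0 61 62 0 89 89 0 1 2 87 0 1 2 90 95 0 1 89 0 1 113 1 2 1 101 124 1 2) (@D3.rec (fun _ => Nat) 1 96 102 104 94 0 1 1 2 1 98 103 2 2 0 98 101 3 66 3 0 100 0 1 1 2 1 98 99 2 2 0 97 99 3 68 3 0 116 2) (@D3.rec (fun _ => Nat) 3 107 114 2 3 109 106 106 93 119 123 109 119 120 96 1 2 105 1 2 102 89 105 0 7 102 15 100 89 110 0 8 103 16 97 108 6 1 8 2) (@D3.rec (fun _ => Nat) 0 2 118 123 12 8 95 1 7 1 6 2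 0 2 126 109 13 7 94 1 1 2 120 2 3 0 4 0 114 1 2 1 2 126 2 3 0 5 0 117) (@D3.rec (fun _ => Nat) 1 2 1 111 2 7 1 115 105 6 1 0 2 2 1 13 102 2 105 105 7 3 1 113 2 7 1 124 109 6 1 0 2 2 1 14 96 2 96 96) (@D3.rec (fun _ => Nat) 6 3 99 0 0 1 0 121 105 114 115 1 119 109 116 121 1 1 113 1 2 7 2 2 109 1 2 116 116 1 112 115 114 119 1 116 119 2 116 98) (@D3.rec (fun _ => Nat) 2 99 0 1 118 2 1 120 2 118 5 115 117 1 115 111 2 120 114 1 119 118 1 117 97 119 97 100 92 2 2 3 107 0 0 1 116 104 116 115) (@D3.rec (fun _ => Nat) 120 115 1 7 2 2 114 2 117 113 112 120 120 1 117 2 1 119 108 108 1 108 2 112 119 113 108 2 1 99 69 111 1 102 1 0 1 2 100 1) (@D3.rec (fun _ => Nat) 2 1 1 102 2 115 2 117 113 5 96 114 117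 3 92 110 94 101 94 92 92 1 103 102 2 2 2 114 117 111 98 98 104 50 3 100 4 120 1 2) (@D3.rec (fun _ => Nat) 91 91 122 109 115 91 1 107 67 1 114 1 105 0 1 2 108 1 2 1 1 101 2 118 2 119 115 3 96 108 115 3 92 115 91 97 107 99 91 1) (@D3.rec (fun _ => Nat) 105 105 2 2 2 109 106 117 99 99 114 106 3 70 4 109 1 2 92 120 92 109 92 123 117 92 92 92 123 99 116 90 90 117 111 121 115 123 2 2) (@D3.rec (fun _ => Nat) 3 0 100 1 96 113 3 3 51 90 117 94 93 123 120 121 92 92 119 122 115 99 118 2 115 3 92 1 2 122 122 1 2 123 121 2 119 2 116 2) (@D3.rec (fun _ => Nat) 113 2 117 2 2 112 112 88 9 121 115 10 116 0 1 2 0 1 2 11 11 3 2 102 11 112 105 0 112 1 2 1 2 1 2 0 118 3 1 117) (@D3.rec (fun _ => Nat) 2 89 120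 115 88 87 122 88 3 2 112 11 120 108 0 112 1 2 1 2 1 2 117 3 1 2 96 109 115 60 59 120 95 92 93 9 118 120 118 2) (@D3.rec (fun _ => Nat) 114 101 99 109 110 108 110 116 120 2 118 115 2 100 100 1 101 117 93 112 3 8 8 60 8 109 60 4 60 0 1 2 9 116 116 117 2 115 99 98) (@D3.rec (fun _ => Nat) 109 111 112 111 117 121 116 2 101 105 1 98 107 3 9 9 63 9 113 63 4 63 0 1 2 2 2 112 71 71 71 114 3 60 112 106 103 109 2 116) (@D3.rec (fun _ => Nat) 63 63 63 110 64 109 114 114 113 98 98 110 124 14 2 104 0 115 1 111 15 125 3 61 97 97 119 120 16 109 122 121 123 1 93 120 124 1 89 9)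
def lv_c_20 : D2 → D3 → Nat := @D2.rec (fun _ => D3 → Nat) (@D3.rec (fun _ => Nat) 1 110 113 112 117 119 1 114 1 9 1 109 109 109 116 119 1 118 1 2 2 108 118 83 87 63 86 1 106 1 109 122 115 96 117 106 96 62 63 96) (@D3.rec (fun _ => Nat) 104 85 86 99 101 107 110 1 2 108 0 110 1 106 1 2 107 0 107 1 109 2 2 3 0 13 8 8 110 121 2 114 102 7 3 116 120 14 116 14) (@D3.rec (fun _ => Nat) 117 3 117 104 105 2 2 0 3 7 7 14 111 118 2 122 101 7 3 108 108 13 119 13 117 3 117 103 118 18 113 3 113 110 0 0 94 1 2 1) (@D3.rec (fun _ => Nat) 98 98 0 1 2 0 1 2 2 3 1 2 117 3 1 122 2 90 15 121 3 115 110 0 0 97 1 2 1 105 103 113 1 123 111 1 2 2 6 1) (@D3.rec (fun _ => Nat) 2 119 3 114 87 95 0 1 117 9 119 116 118 1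 2 111 125 1 106 110 1 2 2 3 1 1 118 102 7 7 4 88 0 1 116 7 111 106 112 1) (@D3.rec (fun _ => Nat) 2 111 106 1 108 105 1 2 2 6 1 1 118 101 8 8 4 103 106 119 119 117 120 120 2 115 109 1 2 110 93 1 110 1 110 98 1 2 112 2) (@D3.rec (fun _ => Nat) 101 2 110 0 1 117 103 1 114 1 2 118 2 105 2 121 97 103 111 113 112 114 107 2 113 1 111 96 1 109 1 111 104 1 2 111 2 106 2 109) (@D3.rec (fun _ => Nat) 0 1 121 114 1 2 115 2 102 2 121 1 89 0 0 110 1 110 1 117 1 111 0 101 1 97 116 116 124 0 120 1 118 65 120 67 122 1 2 115) (@D3.rec (fun _ => Nat) 1 2 115 2 2 109 2 104 0 1 3 3 123 100 124 105 120 4 100 107 61 1 2 1 114 2 1 85 0 111 109 1 116 1 115 0 103 1 110 118) (@D3.rec (fun _ => Nat) 114 119 0 116 115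 117 114 1 121 112 1 119 119 1 2 120 2 2 114 2 103 0 1 3 3 118 120 4 119 61 1 2 1 111 2 99 118 1 118 116) (@D3.rec (fun _ => Nat) 104 1 100 90 114 64 64 108 119 0 0 1 2 111 2 103 117 1 118 118 103 1 104 94 118 71 120 119 113 0 1 2 109 114 2 121 123 1 1 97) (@D3.rec (fun _ => Nat) 117 120 1 104 0 110 108 1 106 112 103 115 114 1 101 0 109 1 109 113 113 105 115 105 116 103 0 1 2 111 100 11 93 15 112 0 1 2 116 102) (@D3.rec (fun _ => Nat) 11 96 16 100 99 110 3 114 102 104 109 3 107 1 114 1 111 1 1 108 113 118 119 89 116 116 108 0 2 105 1 102 114 116 89 121 116 118 115 2) (@D3.rec (fun _ => Nat) 104 1 107 117 1 115 117 117 107 1 117 112 103 1 103 1 107 3 3 91 106 100 7 7 115 3 3 119 115 101 8 8 117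 15 93 2 126 100 6 98) (@D3.rec (fun _ => Nat) 102 3 112 120 1 95 4 110 114 90 88 101 0 1 100 111 124 106 116 106 4 0 112 1 108 0 118 2 0 0 1 2 1 102 2 112 1 98 2 14) (@D3.rec (fun _ => Nat) 89 118 101 5 108 104 3 117 111 1 98 4 108 120 92 92 0 1 99 116 116 118 116 116 4 0 114 1 114 0 110 2 0 0 1 2 1 2 104 109) (@D3.rec (fun _ => Nat) 1 104 2 1 5 2 115 3 118 1 3 113 2 106 4 119 116 116 108 122 1 1 0 4 105 118 104 106 1 106 106 0 0 1 2 110 114 1 107 107) (@D3.rec (fun _ => Nat) 100 0 116 108 107 90 121 1 105 3 117 1 3 112 2 120 119 126 115 115 122 119 1 1 0 4 123 121 112 122 1 124 122 0 0 1 2 108 126 1) (@D3.rec (fun _ => Nat) 123 119 123 119 104 123 120 110 113 77 1 104 4 1 118 94 0 96 1 108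 115 106 5 4 2 117 110 115 110 116 107 116 1 90 116 1 6 6 0 3) (@D3.rec (fun _ => Nat) 0 1 117 2 119 96 119 4 1 118 118 113 97 3 1 2 106 100 2 104 120 7 1 2 106 0 1 109 1 0 1 101 99 113 108 11 112 100 1 2) (@D3.rec (fun _ => Nat) 118 2 106 109 109 3 3 103 3 103 109 4 110 110 103 0 1 90 102 1 104 104 89 102 2 0 104 104 104 110 115 116 15 1 2 116 115 111 1 112) (@D3.rec (fun _ => Nat) 2 112 3 105 105 105 103 121 103 101 1 2 102 105 1 2 121 108 111 110 85 1 103 4 1 116 0 89 1 112 112 114 5 4 2 119 118 116 122 121) (@D3.rec (fun _ => Nat) 94 107 1 6 0 3 0 1 115 2 117 88 115 4 1 119 113 123 94 3 104 115 2 117 114 0 1 123 1 1 99 115 108 11 102 1 2 108 2 105) (@D3.rec (fun _ => Nat) 111 113 3 3 3 4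 109 106 114 118 110 1 108 1 113 112 111 2 108 113 112 105 112 110 1 107 2 108 3 117 114 125 113 118 116 1 98 111 1 113) (@D3.rec (fun _ => Nat) 118 113 1 2 1 1 6 2 98 92 3 110 111 2 105 1 1 117 104 102 101 2 2 0 119 120 119 3 126 1 118 1 1 118 2 10 1 112 1 9) (@D3.rec (fun _ => Nat) 107 2 113 91 121 121 1 2 96 65 2 2 116 120 99 118 1 2 117 105 110 116 2 110 7 108 124 1 2 116 2 113 5 5 105 108 116 111 4 1)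
def lv_c_21 : D2 → D3 → Nat := @D2.rec (fun _ => D3 → Nat) (@D3.rec (fun _ => Nat) 116 105 2 114 114 7 6 116 107 64 114 110 3 3 104 111 118 106 2 104 121 118 2 124 3 113 1 2 1 2 88 3 7 109 1 107 100 106 100 2) (@D3.rec (fun _ => Nat) 2 117 114 117 121 1 1 113 2 6 1 1 6 2 90 108 114 113 108 2 117 114 107 1 114 121 107 2 107 9 118 122 1 120 109 4 109 117 111 1) (@D3.rec (fun _ => Nat) 2 7 3 118 72 113 110 3 3 109 112 110 2 108 117 117 2 113 3 93 93 112 116 115 5 5 9 116 101 97 118 95 97 95 4 1 100 98 99 107) (@D3.rec (fun _ => Nat) 107 113 111 101 99 111 1 1 108 119 101 109 120 120 97 1 2 92 92 122 117 116 5 5 5 111 95 106 114 105 106 106 4 1 97 99 106 104 106 119) (@D3.rec (fun _ => Nat) 121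 103 101 119 1 1 104 124 100 118 119 119 118 1 2 100 120 118 124 120 0 117 119 1 121 3 3 109 107 118 101 114 117 77 116 0 79 1 120 3) (@D3.rec (fun _ => Nat) 3 119 110 118 116 113 114 117 110 106 2 106 110 108 118 1 117 120 117 116 120 112 1 115 117 103 2 119 107 105 120 2 110 1 116 10 113 2 107 110) (@D3.rec (fun _ => Nat) 10 0 1 117 2 122 1 127 11 119 2 107 109 11 0 1 1 4 2 2 108 113 10 2 112 111 10 112 120 1 70 2 115 1 4 11 125 111 11 117) (@D3.rec (fun _ => Nat) 1 67 114 1 121 1 119 1 118 1 106 13 109 14 12 13 1 1 1 15 1 16 1 66 93 1 51 86 2 2 1 85 2 104 0 1 66 119 1 1) (@D3.rec (fun _ => Nat) 60 2 99 0 1 69 115 1 108 92 107 1 2 95 100 113 100 116 1 2 104 99 124 115 1 95 61 115 101 107 125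 1 86 86 118 108 2 3 1 1) (@D3.rec (fun _ => Nat) 2 2 3 1 1 2 86 8 109 110 75 113 1 111 105 116 109 111 102 107 114 59 8 114 118 83 115 1 124 103 112 108 97 96 96 120 1 1 8 1) (@D3.rec (fun _ => Nat) 89 2 115 1 120 120 118 118 2 112 117 119 119 113 3 1 1 8 86 119 119 119 2 118 1 2 2 66 92 114 116 121 115 122 121 100 57 51 111 2) (@D3.rec (fun _ => Nat) 115 115 116 115 1 2 2 56 94 119 113 112 120 108 67 122 120 112 2 123 117 116 118 93 101 116 119 3 0 0 0 1 102 0 120 111 52 120 120 1) (@D3.rec (fun _ => Nat) 63 2 1 60 2 112 112 120 113 1 122 120 114 2 2 61 1 121 2 123 124 121 112 1 122 117 116 2 2 59 2 115 115 120 100 106 121 107 1 119) (@D3.rec (fun _ => Nat) 122 105 103 111 1 111 66 112 120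 61 107 112 69 118 15 104 108 1 121 0 113 123 112 126 115 112 1 106 118 1 111 116 3 0 110 1 15 103 112 3) (@D3.rec (fun _ => Nat) 109 1 14 97 96 69 1 118 1 2 2 117 100 110 1 2 2 3 1 114 2 3 123 105 90 1 112 1 2 2 119 105 115 120 2 5 0 98 1 125) (@D3.rec (fun _ => Nat) 106 122 100 2 103 125 2 3 124 0 89 1 117 103 115 106 2 101 106 2 5 116 119 120 113 101 2 110 118 1 107 119 115 122 113 119 109 115 2 117) (@D3.rec (fun _ => Nat) 119 1 113 120 110 107 110 123 1 112 1 116 90 1 114 121 116 66 125 1 120 118 115 116 2 123 1 107 4 123 115 119 115 2 127 109 1 111 1 114) (@D3.rec (fun _ => Nat) 117 113 115 119 1 116 112 117 113 1 104 4 121 116 2 106 114 116 114 113 1 113 1 113 2 110 70 112 118 119 119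 1 114 2 107 91 65 1 73 1) (@D3.rec (fun _ => Nat) 1 2 112 1 2 111 114 114 111 111 114 1 4 109 108 5 117 107 102 110 1 122 1 1 118 1 1 2 108 2 2 102 111 1 117 1 1 114 1 1) (@D3.rec (fun _ => Nat) 2 121 2 2 5 89 112 4 118 1 120 106 0 1 114 1 2 118 110 116 1 111 94 119 1 124 0 1 120 1 2 117 106 121 90 110 97 1 113 114) (@D3.rec (fun _ => Nat) 7 1 108 1 116 95 113 106 3 2 106 114 2 122 1 122 109 118 1 111 2 103 4 115 112 110 110 103 1 110 104 118 123 89 104 1 114 2 112 115) (@D3.rec (fun _ => Nat) 3 121 105 121 121 123 103 119 2 2 120 1 124 1 110 1 124 90 117 114 3 120 112 1 120 2 4 121 115 112 125 113 118 3 119 115 122 122 6 115) (@D3.rec (fun _ => Nat) 111 117 123 1 122 126 100 124 127 2 121 2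 92 124 60 114 7 110 116 95 125 117 123 109 60 118 120 107 112 1 1 109 111 119 1 119 108 120 1 4) (@D3.rec (fun _ => Nat) 123 119 115 113 115 113 112 113 117 106 66 4 116 121 111 113 124 112 74 124 121 95 67 91 117 119 87 111 1 60 121 1 2 2 106 110 109 110 123 121) (@D3.rec (fun _ => Nat) 123 125 101 0 1 0 1 103 1 1 107 111 105 64 64 90 109 120 118 126 121 118 125 131 116 91 112 112 1 123 113 93 113 1 97 2 118 2 3 114) (@D3.rec (fun _ => Nat) 129 125 2 118 113 1 114 1 119 118 119 92 108 98 108 71 68 110 109 2 2 1 1 123 121 120 122 122 113 114 121 114 125 124 119 123 96 1 1 126)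
def lv_c : Pt → Nat := @Pt.rec (fun _ => Nat) (@D1.rec (fun _ => D2 → D3 → Nat) lv_c_0 lv_c_1 lv_c_2 lv_c_3 lv_c_4 lv_c_5 lv_c_6 lv_c_7 lv_c_8 lv_c_9 lv_c_10 lv_c_11 lv_c_12 lv_c_13 lv_c_14 lv_c_15 lv_c_16 lv_c_17 lv_c_18 lv_c_19 lv_c_20 lv_c_21)
abbrev lc_c_Cert_tree : Cert rels S Gen.c := Cert.tree
abbrev lc_c_rc_13_0 : Cert rels S Gen.c := rc_13_0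
abbrev lc_c_rc_13_1 : Cert rels S Gen.c := rc_13_1
abbrev lc_c_rc_14_10 : Cert rels S Gen.c := rc_14_10
abbrev lc_c_rc_14_12 : Cert rels S Gen.c := rc_14_12
abbrev lc_c_rc_14_14 : Cert rels S Gen.c := rc_14_14
abbrev lc_c_rc_14_2 : Cert rels S Gen.c := rc_14_2
abbrev lc_c_rc_14_4 : Cert rels S Gen.c := rc_14_4
abbrev lc_c_rc_14_6 : Cert rels S Gen.c := rc_14_6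
abbrev lc_c_rc_14_8 : Cert rels S Gen.c := rc_14_8
abbrev lc_c_rc_15_0 : Cert rels S Gen.c := rc_15_0
abbrev lc_c_rc_15_2 : Cert rels S Gen.c := rc_15_2
abbrev lc_c_rc_16_0 : Cert rels S Gen.c := rc_16_0
abbrev lc_c_rc_16_2 : Cert rels S Gen.c := rc_16_2
abbrev lc_c_rc_17_0 : Cert rels S Gen.c := rc_17_0
abbrev lc_c_rc_17_2 : Cert rels S Gen.c := rc_17_2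
abbrev lc_c_rc_28_2 : Cert rels S Gen.c := rc_28_2
abbrev lc_c_rc_28_4 : Cert rels S Gen.c := rc_28_4
abbrev lc_c_rc_28_6 : Cert rels S Gen.c := rc_28_6
abbrev lc_c_rc_28_8 : Cert rels S Gen.c := rc_28_8
abbrev lc_c_rc_2_1 : Cert rels S Gen.c := rc_2_1
abbrev lc_c_rc_2_3 : Cert rels S Gen.c := rc_2_3
abbrev lc_c_rc_30_10 : Cert rels S Gen.c := rc_30_10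
abbrev lc_c_rc_30_14 : Cert rels S Gen.c := rc_30_14
abbrev lc_c_rc_30_18 : Cert rels S Gen.c := rc_30_18
abbrev lc_c_rc_30_2 : Cert rels S Gen.c := rc_30_2
abbrev lc_c_rc_30_6 : Cert rels S Gen.c := rc_30_6
abbrev lc_c_rc_32_11 : Cert rels S Gen.c := rc_32_11
abbrev lc_c_rc_32_13 : Cert rels S Gen.c := rc_32_13
abbrev lc_c_rc_32_16 : Cert rels S Gen.c := rc_32_16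
abbrev lc_c_rc_32_18 : Cert rels S Gen.c := rc_32_18
abbrev lc_c_rc_32_21 : Cert rels S Gen.c := rc_32_21
abbrev lc_c_rc_32_23 : Cert rels S Gen.c := rc_32_23
abbrev lc_c_rc_32_27 : Cert rels S Gen.c := rc_32_27
abbrev lc_c_rc_32_29 : Cert rels S Gen.c := rc_32_29
abbrev lc_c_rc_32_3 : Cert rels S Gen.c := rc_32_3
abbrev lc_c_rc_32_32 : Cert rels S Gen.c := rc_32_32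
abbrev lc_c_rc_32_34 : Cert rels S Gen.c := rc_32_34
abbrev lc_c_rc_32_37 : Cert rels S Gen.c := rc_32_37
abbrev lc_c_rc_32_39 : Cert rels S Gen.c := rc_32_39
abbrev lc_c_rc_32_42 : Cert rels S Gen.c := rc_32_42
abbrev lc_c_rc_32_44 : Cert rels S Gen.c := rc_32_44
abbrev lc_c_rc_32_47 : Cert rels S Gen.c := rc_32_47
abbrev lc_c_rc_32_49 : Cert rels S Gen.c := rc_32_49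
abbrev lc_c_rc_32_53 : Cert rels S Gen.c := rc_32_53
abbrev lc_c_rc_32_55 : Cert rels S Gen.c := rc_32_55
abbrev lc_c_rc_32_58 : Cert rels S Gen.c := rc_32_58
abbrev lc_c_rc_32_6 : Cert rels S Gen.c := rc_32_6
abbrev lc_c_rc_32_60 : Cert rels S Gen.c := rc_32_60
abbrev lc_c_rc_32_63 : Cert rels S Gen.c := rc_32_63
abbrev lc_c_rc_32_65 : Cert rels S Gen.c := rc_32_65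
abbrev lc_c_rc_32_68 : Cert rels S Gen.c := rc_32_68
abbrev lc_c_rc_32_70 : Cert rels S Gen.c := rc_32_70
abbrev lc_c_rc_32_73 : Cert rels S Gen.c := rc_32_73
abbrev lc_c_rc_32_75 : Cert rels S Gen.c := rc_32_75
abbrev lc_c_rc_32_8 : Cert rels S Gen.c := rc_32_8
abbrev lc_c_rc_8_1 : Cert rels S Gen.c := rc_8_1
abbrev lc_c_rc_8_3 : Cert rels S Gen.c := rc_8_3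
abbrev lc_c_rc_8_5 : Cert rels S Gen.c := rc_8_5
abbrev lc_c_sc_2_0 : Cert rels S Gen.c := sc_2_0
def ce_c_0 : D2 → D3 → (Cert rels S Gen.c) := @D2.rec (fun _ => D3 → (Cert rels S Gen.c)) (@D3.rec (fun _ => (Cert rels S Gen.c)) lc_c_sc_2_0 lc_c_rc_15_2 lc_c_Cert_tree lc_c_rc_13_0 lc_c_rc_8_3 lc_c_rc_28_4 lc_c_rc_28_2 lc_c_Cert_tree lc_c_rc_16_2 lc_c_rc_17_2 lc_c_rc_15_2 lc_c_rc_28_8 lc_c_Cert_tree lc_c_rc_28_2 lc_c_rc_28_2 lc_c_rc_13_0 lc_c_rc_15_2 lc_c_rc_16_2 lc_c_rc_17_2 lc_c_rc_17_2 lc_c_rc_28_2 lc_c_rc_28_2 lc_c_Cert_tree lc_c_rc_28_8 lc_c_rc_28_8 lc_c_rc_13_0 lc_c_rc_15_2 lc_c_rc_16_2 lc_c_rc_17_2 lc_c_Cert_tree lc_c_Cert_tree lc_c_rc_28_6 lc_c_rc_15_2 lc_c_rc_16_2 lc_c_rc_17_2 lc_c_rc_16_2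 lc_c_rc_17_2 lc_c_rc_17_2 lc_c_rc_2_3 lc_c_Cert_tree) (@D3.rec (fun _ => (Cert rels S Gen.c)) lc_c_Cert_tree lc_c_Cert_tree lc_c_rc_28_2 lc_c_rc_28_2 lc_c_rc_13_0 lc_c_rc_15_2 lc_c_rc_16_2 lc_c_rc_17_2 lc_c_rc_16_2 lc_c_rc_28_8 lc_c_rc_2_1 lc_c_rc_28_2 lc_c_rc_8_3 lc_c_rc_28_4 lc_c_rc_15_2 lc_c_rc_16_2 lc_c_rc_17_2 lc_c_rc_16_2 lc_c_rc_17_2 lc_c_Cert_tree lc_c_Cert_tree lc_c_rc_28_8 lc_c_rc_13_0 lc_c_rc_17_2 lc_c_rc_30_2 lc_c_rc_13_0 lc_c_rc_16_2 lc_c_rc_15_2 lc_c_rc_28_6 lc_c_rc_28_6 lc_c_Cert_tree lc_c_rc_16_2 lc_c_rc_17_2 lc_c_rc_8_3 lc_c_rc_17_2 lc_c_rc_8_3 lc_c_rc_2_1 lc_c_rc_17_2 lc_c_rc_2_3 lc_c_Cert_tree) (@D3.rec (fun _ => (Cert rels S Gen.c)) lc_c_Cert_tree lc_c_Cert_tree lc_c_rc_13_0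 lc_c_rc_16_2 lc_c_Cert_tree lc_c_rc_13_0 lc_c_rc_17_2 lc_c_rc_13_0 lc_c_rc_15_2 lc_c_rc_16_2 lc_c_rc_17_2 lc_c_rc_8_3 lc_c_rc_8_3 lc_c_rc_8_3 lc_c_rc_8_5 lc_c_rc_15_2 lc_c_rc_16_2 lc_c_rc_17_2 lc_c_rc_16_2 lc_c_rc_17_2 lc_c_Cert_tree lc_c_rc_17_2 lc_c_Cert_tree lc_c_rc_2_3 lc_c_rc_2_1 lc_c_rc_8_3 lc_c_rc_8_1 lc_c_rc_2_3 lc_c_rc_2_1 lc_c_rc_8_3 lc_c_rc_8_3 lc_c_rc_16_2 lc_c_rc_17_2 lc_c_rc_15_2 lc_c_rc_28_4 lc_c_rc_28_4 lc_c_Cert_tree lc_c_rc_16_2 lc_c_rc_17_2 lc_c_Cert_tree) (@D3.rec (fun _ => (Cert rels S Gen.c)) lc_c_Cert_tree lc_c_Cert_tree lc_c_Cert_tree lc_c_Cert_tree lc_c_rc_13_0 lc_c_rc_17_2 lc_c_Cert_tree lc_c_rc_13_0 lc_c_rc_16_2 lc_c_rc_8_1 lc_c_Cert_tree lc_c_rc_17_2 lc_c_rc_8_1 lc_c_Cert_tree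 lc_c_rc_16_2 lc_c_Cert_tree lc_c_rc_15_2 lc_c_rc_15_2 lc_c_Cert_tree lc_c_rc_28_6 lc_c_Cert_tree lc_c_rc_28_4 lc_c_rc_13_0 lc_c_rc_16_2 lc_c_rc_17_2 lc_c_rc_8_3 lc_c_rc_17_2 lc_c_rc_8_3 lc_c_rc_2_1 lc_c_rc_17_2 lc_c_Cert_tree lc_c_rc_16_2 lc_c_Cert_tree lc_c_Cert_tree lc_c_Cert_tree lc_c_Cert_tree lc_c_rc_13_0 lc_c_rc_16_2 lc_c_Cert_tree lc_c_rc_13_0) (@D3.rec (fun _ => (Cert rels S Gen.c)) lc_c_rc_17_2 lc_c_rc_13_0 lc_c_rc_16_2 lc_c_rc_16_2 lc_c_rc_13_0 lc_c_rc_17_2 lc_c_rc_17_2 lc_c_rc_8_3 lc_c_rc_28_6 lc_c_rc_15_2 lc_c_rc_16_2 lc_c_rc_17_2 lc_c_rc_16_2 lc_c_rc_17_2 lc_c_rc_30_2 lc_c_rc_16_0 lc_c_rc_2_1 lc_c_rc_28_6 lc_c_rc_8_3 lc_c_rc_16_2 lc_c_rc_17_2 lc_c_rc_8_5 lc_c_rc_16_2 lc_c_rc_17_2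 lc_c_Cert_tree lc_c_rc_16_2 lc_c_rc_17_2 lc_c_Cert_tree lc_c_rc_17_2 lc_c_Cert_tree lc_c_rc_2_1 lc_c_Cert_tree lc_c_rc_17_2 lc_c_Cert_tree lc_c_rc_2_3 lc_c_rc_13_0 lc_c_rc_17_2 lc_c_Cert_tree lc_c_rc_13_0 lc_c_rc_16_2) (@D3.rec (fun _ => (Cert rels S Gen.c)) lc_c_Cert_tree lc_c_rc_8_1 lc_c_rc_28_6 lc_c_rc_28_2 lc_c_rc_2_1 lc_c_rc_2_1 lc_c_rc_15_2 lc_c_rc_16_2 lc_c_rc_17_2 lc_c_Cert_tree lc_c_rc_16_2 lc_c_rc_17_2 lc_c_Cert_tree lc_c_rc_17_2 lc_c_Cert_tree lc_c_rc_2_3 lc_c_Cert_tree lc_c_rc_15_2 lc_c_rc_15_2 lc_c_Cert_tree lc_c_Cert_tree lc_c_rc_13_0 lc_c_rc_16_2 lc_c_rc_17_2 lc_c_Cert_tree lc_c_Cert_tree lc_c_Cert_tree lc_c_rc_13_0 lc_c_rc_17_2 lc_c_Cert_tree lc_c_rc_13_0 lc_c_rc_16_2 lc_c_Cert_tree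 lc_c_rc_13_0 lc_c_rc_17_2 lc_c_Cert_tree lc_c_rc_13_0 lc_c_rc_16_2 lc_c_rc_17_2 lc_c_rc_13_0) (@D3.rec (fun _ => (Cert rels S Gen.c)) lc_c_rc_28_4 lc_c_rc_17_2 lc_c_rc_2_3 lc_c_rc_8_1 lc_c_rc_13_0 lc_c_rc_14_12 lc_c_rc_16_2 lc_c_rc_17_2 lc_c_rc_13_0 lc_c_rc_15_2 lc_c_rc_13_0 lc_c_rc_15_2 lc_c_rc_13_0 lc_c_rc_16_2 lc_c_rc_17_2 lc_c_Cert_tree lc_c_rc_15_2 lc_c_Cert_tree lc_c_rc_15_2 lc_c_rc_13_0 lc_c_rc_28_4 lc_c_rc_13_0 lc_c_rc_8_3 lc_c_rc_8_3 lc_c_rc_16_2 lc_c_rc_17_2 lc_c_Cert_tree lc_c_rc_17_2 lc_c_Cert_tree lc_c_rc_2_3 lc_c_rc_17_2 lc_c_Cert_tree lc_c_rc_16_2 lc_c_Cert_tree lc_c_Cert_tree lc_c_Cert_tree lc_c_rc_13_0 lc_c_Cert_tree lc_c_Cert_tree lc_c_rc_13_0) (@D3.rec (fun _ => (Cert rels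 S Gen.c)) lc_c_Cert_tree lc_c_rc_13_0 lc_c_rc_16_2 lc_c_Cert_tree lc_c_rc_13_0 lc_c_rc_17_2 lc_c_rc_13_0 lc_c_rc_16_2 lc_c_rc_16_2 lc_c_rc_13_0 lc_c_rc_17_2 lc_c_rc_17_2 lc_c_rc_16_2 lc_c_rc_17_2 lc_c_Cert_tree lc_c_rc_15_2 lc_c_rc_28_2 lc_c_rc_28_6 lc_c_rc_28_6 lc_c_Cert_tree lc_c_rc_16_2 lc_c_rc_17_2 lc_c_rc_30_2 lc_c_rc_16_0 lc_c_rc_28_2 lc_c_rc_28_2 lc_c_rc_2_1 lc_c_rc_2_1 lc_c_rc_15_2 lc_c_rc_28_6 lc_c_rc_28_6 lc_c_Cert_tree lc_c_rc_16_2 lc_c_rc_17_2 lc_c_Cert_tree lc_c_rc_17_2 lc_c_Cert_tree lc_c_rc_2_1 lc_c_Cert_tree lc_c_rc_16_2) (@D3.rec (fun _ => (Cert rels S Gen.c)) lc_c_rc_17_2 lc_c_Cert_tree lc_c_rc_17_2 lc_c_Cert_tree lc_c_rc_28_6 lc_c_rc_13_0 lc_c_rc_16_2 lc_c_rc_17_2 lc_c_Cert_tree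 lc_c_rc_17_2 lc_c_Cert_tree lc_c_rc_2_1 lc_c_Cert_tree lc_c_rc_13_0 lc_c_rc_17_2 lc_c_Cert_tree lc_c_Cert_tree lc_c_rc_13_0 lc_c_rc_16_2 lc_c_Cert_tree lc_c_rc_13_0 lc_c_rc_17_2 lc_c_Cert_tree lc_c_rc_13_0 lc_c_rc_16_2 lc_c_Cert_tree lc_c_rc_28_6 lc_c_rc_17_2 lc_c_rc_13_0 lc_c_rc_14_12 lc_c_rc_16_2 lc_c_rc_13_0 lc_c_Cert_tree lc_c_rc_8_1 lc_c_rc_28_2 lc_c_rc_28_6 lc_c_rc_28_6 lc_c_Cert_tree lc_c_rc_28_2 lc_c_rc_28_2) (@D3.rec (fun _ => (Cert rels S Gen.c)) lc_c_Cert_tree lc_c_rc_16_2 lc_c_rc_17_2 lc_c_rc_16_2 lc_c_rc_17_2 lc_c_rc_28_2 lc_c_rc_28_6 lc_c_rc_13_0 lc_c_rc_16_2 lc_c_rc_17_2 lc_c_Cert_tree lc_c_rc_17_2 lc_c_Cert_tree lc_c_rc_28_2 lc_c_rc_13_0 lc_c_Cert_tree lc_c_rc_13_0 lc_c_Cert_tree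 lc_c_rc_13_0 lc_c_rc_16_2 lc_c_rc_17_2 lc_c_Cert_tree lc_c_Cert_tree lc_c_rc_16_0 lc_c_rc_13_0 lc_c_rc_17_2 lc_c_rc_28_6 lc_c_rc_13_0 lc_c_rc_8_1 lc_c_rc_8_3 lc_c_rc_16_2 lc_c_rc_17_2 lc_c_Cert_tree lc_c_Cert_tree lc_c_Cert_tree lc_c_rc_13_0 lc_c_rc_17_2 lc_c_Cert_tree lc_c_rc_13_0 lc_c_rc_16_2) (@D3.rec (fun _ => (Cert rels S Gen.c)) lc_c_rc_13_0 lc_c_rc_17_2 lc_c_rc_28_6 lc_c_rc_17_2 lc_c_rc_13_0 lc_c_rc_16_2 lc_c_rc_28_6 lc_c_rc_16_2 lc_c_rc_17_2 lc_c_rc_13_0 lc_c_Cert_tree lc_c_rc_17_2 lc_c_rc_2_3 lc_c_rc_15_2 lc_c_rc_13_0 lc_c_Cert_tree lc_c_rc_16_2 lc_c_rc_17_2 lc_c_rc_28_2 lc_c_rc_15_2 lc_c_rc_13_1 lc_c_rc_8_3 lc_c_rc_2_1 lc_c_rc_28_2 lc_c_rc_15_2 lc_c_rc_16_2 lc_c_rc_8_3 lc_c_rc_17_2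 lc_c_rc_8_3 lc_c_rc_28_6 lc_c_rc_15_2 lc_c_rc_8_3 lc_c_rc_28_6 lc_c_rc_15_2 lc_c_rc_8_3 lc_c_rc_28_4 lc_c_rc_16_2 lc_c_rc_17_2 lc_c_Cert_tree lc_c_rc_17_2) (@D3.rec (fun _ => (Cert rels S Gen.c)) lc_c_Cert_tree lc_c_rc_2_3 lc_c_rc_13_0 lc_c_rc_28_2 lc_c_rc_13_0 lc_c_rc_8_3 lc_c_rc_17_2 lc_c_rc_28_8 lc_c_rc_2_1 lc_c_rc_16_2 lc_c_rc_17_2 lc_c_Cert_tree lc_c_rc_17_2 lc_c_Cert_tree lc_c_rc_2_1 lc_c_rc_13_0 lc_c_rc_17_2 lc_c_Cert_tree lc_c_rc_13_0 lc_c_rc_16_2 lc_c_Cert_tree lc_c_Cert_tree lc_c_Cert_tree lc_c_rc_13_0 lc_c_Cert_tree lc_c_Cert_tree lc_c_rc_13_0 lc_c_rc_13_0 lc_c_Cert_tree lc_c_rc_13_0 lc_c_rc_16_2 lc_c_rc_13_0 lc_c_Cert_tree lc_c_rc_13_0 lc_c_rc_16_0 lc_c_rc_13_0 lc_c_rc_16_2 lc_c_Cert_tree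 lc_c_rc_16_2 lc_c_rc_13_0) (@D3.rec (fun _ => (Cert rels S Gen.c)) lc_c_rc_17_2 lc_c_Cert_tree lc_c_rc_17_2 lc_c_rc_16_2 lc_c_rc_8_3 lc_c_rc_17_2 lc_c_rc_8_3 lc_c_rc_8_3 lc_c_rc_8_3 lc_c_rc_13_0 lc_c_rc_15_2 lc_c_Cert_tree lc_c_Cert_tree lc_c_rc_28_2 lc_c_rc_28_2 lc_c_rc_13_0 lc_c_rc_16_2 lc_c_rc_17_2 lc_c_rc_15_2 lc_c_rc_28_2 lc_c_rc_28_2 lc_c_Cert_tree lc_c_rc_28_2 lc_c_rc_28_2 lc_c_rc_8_3 lc_c_rc_8_3 lc_c_Cert_tree lc_c_rc_15_2 lc_c_rc_15_2 lc_c_rc_28_2 lc_c_rc_28_6 lc_c_rc_2_1 lc_c_rc_28_2 lc_c_rc_13_0 lc_c_rc_16_2 lc_c_rc_17_2 lc_c_Cert_tree lc_c_rc_17_2 lc_c_Cert_tree lc_c_rc_28_2) (@D3.rec (fun _ => (Cert rels S Gen.c)) lc_c_Cert_tree lc_c_rc_13_0 lc_c_rc_17_2 lc_c_Cert_tree lc_c_Cert_tree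 lc_c_rc_13_0 lc_c_rc_16_2 lc_c_Cert_tree lc_c_rc_13_0 lc_c_rc_16_2 lc_c_rc_17_2 lc_c_Cert_tree lc_c_rc_17_2 lc_c_Cert_tree lc_c_rc_28_2 lc_c_rc_28_2 lc_c_rc_13_0 lc_c_rc_17_2 lc_c_Cert_tree lc_c_rc_30_2 lc_c_rc_13_0 lc_c_rc_16_2 lc_c_Cert_tree lc_c_rc_8_3 lc_c_rc_16_2 lc_c_rc_17_2 lc_c_Cert_tree lc_c_rc_17_2 lc_c_Cert_tree lc_c_rc_2_3 lc_c_Cert_tree lc_c_rc_13_0 lc_c_rc_17_2 lc_c_Cert_tree lc_c_Cert_tree lc_c_rc_13_0 lc_c_rc_16_2 lc_c_Cert_tree lc_c_rc_17_2 lc_c_rc_13_0) (@D3.rec (fun _ => (Cert rels S Gen.c)) lc_c_rc_8_3 lc_c_rc_17_2 lc_c_Cert_tree lc_c_rc_2_3 lc_c_Cert_tree lc_c_rc_13_0 lc_c_rc_16_2 lc_c_rc_13_0 lc_c_rc_8_3 lc_c_rc_16_2 lc_c_Cert_tree lc_c_rc_17_2 lc_c_Cert_tree lc_c_rc_13_0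 lc_c_Cert_tree lc_c_rc_17_2 lc_c_rc_13_0 lc_c_Cert_tree lc_c_rc_16_2 lc_c_rc_13_0 lc_c_rc_15_2 lc_c_rc_28_4 lc_c_rc_8_3 lc_c_rc_17_2 lc_c_rc_15_2 lc_c_rc_16_2 lc_c_rc_8_3 lc_c_rc_2_1 lc_c_rc_13_0 lc_c_rc_15_2 lc_c_Cert_tree lc_c_Cert_tree lc_c_rc_28_2 lc_c_rc_28_2 lc_c_rc_13_0 lc_c_rc_16_2 lc_c_rc_17_2 lc_c_rc_13_0 lc_c_rc_16_2 lc_c_rc_17_2) (@D3.rec (fun _ => (Cert rels S Gen.c)) lc_c_rc_16_2 lc_c_rc_17_2 lc_c_rc_2_1 lc_c_rc_28_2 lc_c_Cert_tree lc_c_Cert_tree lc_c_rc_8_3 lc_c_Cert_tree lc_c_rc_16_2 lc_c_rc_17_2 lc_c_Cert_tree lc_c_rc_17_2 lc_c_Cert_tree lc_c_rc_2_3 lc_c_rc_13_0 lc_c_Cert_tree lc_c_rc_13_0 lc_c_Cert_tree lc_c_rc_28_6 lc_c_rc_8_1 lc_c_rc_13_0 lc_c_rc_28_8 lc_c_rc_2_3 lc_c_rc_13_0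 lc_c_rc_8_3 lc_c_rc_28_4 lc_c_rc_16_2 lc_c_rc_17_2 lc_c_Cert_tree lc_c_Cert_tree lc_c_rc_16_0 lc_c_rc_13_0 lc_c_rc_17_2 lc_c_rc_2_3 lc_c_rc_13_0 lc_c_rc_8_1 lc_c_rc_17_2 lc_c_rc_30_14 lc_c_rc_2_1 lc_c_rc_16_2) (@D3.rec (fun _ => (Cert rels S Gen.c)) lc_c_rc_17_2 lc_c_Cert_tree lc_c_Cert_tree lc_c_Cert_tree lc_c_rc_13_0 lc_c_rc_17_2 lc_c_Cert_tree lc_c_rc_13_0 lc_c_rc_16_2 lc_c_rc_13_0 lc_c_rc_17_2 lc_c_Cert_tree lc_c_rc_17_2 lc_c_rc_13_0 lc_c_rc_16_2 lc_c_Cert_tree lc_c_rc_16_2 lc_c_rc_8_3 lc_c_rc_28_4 lc_c_rc_17_2 lc_c_rc_15_2 lc_c_rc_28_4 lc_c_rc_17_2 lc_c_rc_15_0 lc_c_rc_28_4 lc_c_rc_16_2 lc_c_rc_15_2 lc_c_rc_28_6 lc_c_rc_17_2 lc_c_Cert_tree lc_c_rc_13_0 lc_c_rc_15_2 lc_c_rc_17_2 lc_c_rc_8_3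 lc_c_rc_2_1 lc_c_Cert_tree lc_c_rc_13_0 lc_c_rc_15_2 lc_c_rc_16_2 lc_c_rc_8_3) (@D3.rec (fun _ => (Cert rels S Gen.c)) lc_c_rc_17_2 lc_c_rc_15_2 lc_c_rc_15_2 lc_c_Cert_tree lc_c_rc_13_0 lc_c_rc_2_1 lc_c_rc_16_2 lc_c_rc_16_0 lc_c_rc_15_2 lc_c_rc_16_2 lc_c_rc_2_1 lc_c_rc_17_2 lc_c_rc_2_1 lc_c_rc_17_2 lc_c_rc_16_0 lc_c_rc_8_3 lc_c_rc_8_3 lc_c_rc_17_2 lc_c_rc_15_2 lc_c_Cert_tree lc_c_rc_8_3 lc_c_rc_8_3 lc_c_rc_16_2 lc_c_rc_15_2 lc_c_Cert_tree lc_c_rc_28_2 lc_c_Cert_tree lc_c_rc_16_2 lc_c_rc_17_2 lc_c_rc_28_4 lc_c_rc_28_4 lc_c_Cert_tree lc_c_rc_17_2 lc_c_Cert_tree lc_c_rc_2_1 lc_c_rc_13_0 lc_c_rc_17_2 lc_c_Cert_tree lc_c_rc_13_0 lc_c_rc_16_2) (@D3.rec (fun _ => (Cert rels S Gen.c)) lc_c_Cert_tree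 lc_c_rc_17_2 lc_c_rc_28_2 lc_c_Cert_tree lc_c_Cert_tree lc_c_Cert_tree lc_c_rc_2_1 lc_c_rc_2_1 lc_c_Cert_tree lc_c_rc_17_2 lc_c_Cert_tree lc_c_rc_2_1 lc_c_Cert_tree lc_c_rc_13_0 lc_c_rc_17_2 lc_c_Cert_tree lc_c_Cert_tree lc_c_rc_13_0 lc_c_rc_16_2 lc_c_Cert_tree lc_c_rc_28_4 lc_c_rc_17_2 lc_c_Cert_tree lc_c_Cert_tree lc_c_rc_13_0 lc_c_rc_28_4 lc_c_rc_16_2 lc_c_Cert_tree lc_c_Cert_tree lc_c_rc_13_0 lc_c_rc_13_0 lc_c_Cert_tree lc_c_rc_13_0 lc_c_Cert_tree lc_c_rc_13_0 lc_c_Cert_tree lc_c_rc_13_0 lc_c_Cert_tree lc_c_rc_28_6 lc_c_Cert_tree) (@D3.rec (fun _ => (Cert rels S Gen.c)) lc_c_rc_13_0 lc_c_rc_8_3 lc_c_rc_28_6 lc_c_rc_16_2 lc_c_rc_28_6 lc_c_Cert_tree lc_c_rc_13_0 lc_c_rc_8_3 lc_c_rc_28_4 lc_c_rc_16_0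 lc_c_Cert_tree lc_c_rc_16_2 lc_c_rc_13_0 lc_c_rc_16_2 lc_c_rc_8_3 lc_c_Cert_tree lc_c_rc_17_2 lc_c_rc_13_0 lc_c_rc_17_2 lc_c_rc_8_3 lc_c_rc_8_3 lc_c_rc_2_1 lc_c_rc_17_2 lc_c_rc_8_3 lc_c_rc_2_1 lc_c_rc_16_2 lc_c_rc_28_4 lc_c_rc_15_2 lc_c_Cert_tree lc_c_rc_13_0 lc_c_rc_13_0 lc_c_rc_16_2 lc_c_rc_17_2 lc_c_rc_8_3 lc_c_rc_16_2 lc_c_rc_17_2 lc_c_Cert_tree lc_c_rc_15_2 lc_c_rc_15_2 lc_c_rc_8_3) (@D3.rec (fun _ => (Cert rels S Gen.c)) lc_c_rc_8_3 lc_c_rc_13_0 lc_c_rc_16_2 lc_c_rc_17_2 lc_c_rc_8_3 lc_c_rc_8_3 lc_c_rc_13_0 lc_c_rc_16_2 lc_c_rc_17_2 lc_c_rc_15_2 lc_c_rc_15_2 lc_c_rc_2_1 lc_c_rc_15_2 lc_c_rc_17_2 lc_c_rc_8_3 lc_c_rc_8_1 lc_c_rc_17_2 lc_c_rc_8_3 lc_c_rc_28_4 lc_c_rc_16_2 lc_c_rc_17_2 lc_c_Cert_tree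 lc_c_rc_17_2 lc_c_Cert_tree lc_c_rc_2_3 lc_c_Cert_tree lc_c_rc_13_0 lc_c_rc_17_2 lc_c_Cert_tree lc_c_Cert_tree lc_c_rc_13_0 lc_c_rc_16_2 lc_c_Cert_tree lc_c_rc_13_0 lc_c_rc_8_1 lc_c_rc_17_2 lc_c_rc_13_0 lc_c_rc_13_0 lc_c_rc_8_1 lc_c_rc_16_2) (@D3.rec (fun _ => (Cert rels S Gen.c)) lc_c_rc_13_0 lc_c_rc_8_3 lc_c_rc_28_6 lc_c_rc_16_2 lc_c_rc_17_2 lc_c_Cert_tree lc_c_rc_17_2 lc_c_Cert_tree lc_c_rc_2_3 lc_c_rc_15_2 lc_c_rc_13_0 lc_c_rc_17_2 lc_c_Cert_tree lc_c_rc_30_2 lc_c_rc_13_0 lc_c_rc_16_2 lc_c_Cert_tree lc_c_rc_8_1 lc_c_rc_17_2 lc_c_Cert_tree lc_c_Cert_tree lc_c_rc_13_0 lc_c_rc_8_1 lc_c_rc_16_2 lc_c_Cert_tree lc_c_Cert_tree lc_c_rc_13_0 lc_c_rc_2_1 lc_c_rc_16_2 lc_c_rc_17_2 lc_c_Cert_tree lc_c_rc_17_2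 lc_c_Cert_tree lc_c_rc_2_1 lc_c_Cert_tree lc_c_rc_13_0 lc_c_rc_17_2 lc_c_Cert_tree lc_c_Cert_tree lc_c_rc_13_0) (@D3.rec (fun _ => (Cert rels S Gen.c)) lc_c_rc_16_2 lc_c_Cert_tree lc_c_rc_17_2 lc_c_rc_13_0 lc_c_Cert_tree lc_c_rc_17_2 lc_c_Cert_tree lc_c_rc_2_3 lc_c_Cert_tree lc_c_rc_13_0 lc_c_rc_16_2 lc_c_rc_13_0 lc_c_Cert_tree lc_c_rc_16_2 lc_c_Cert_tree lc_c_rc_17_2 lc_c_Cert_tree lc_c_rc_13_0 lc_c_rc_28_4 lc_c_rc_15_2 lc_c_rc_17_2 lc_c_rc_17_2 lc_c_rc_2_1 lc_c_rc_16_2 lc_c_rc_13_0 lc_c_rc_13_0 lc_c_rc_2_1 lc_c_rc_14_10 lc_c_rc_8_3 lc_c_rc_15_0 lc_c_rc_16_2 lc_c_rc_17_2 lc_c_rc_16_2 lc_c_rc_13_0 lc_c_rc_13_0 lc_c_rc_8_1 lc_c_rc_13_0 lc_c_rc_15_2 lc_c_rc_17_2 lc_c_rc_8_3) (@D3.rec (fun _ =>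 (Cert rels S Gen.c)) lc_c_Cert_tree lc_c_rc_13_0 lc_c_rc_15_2 lc_c_rc_16_2 lc_c_rc_8_3 lc_c_Cert_tree lc_c_rc_15_2 lc_c_rc_8_3 lc_c_rc_2_1 lc_c_rc_16_2 lc_c_rc_17_2 lc_c_rc_16_2 lc_c_rc_8_3 lc_c_rc_2_1 lc_c_rc_17_2 lc_c_rc_15_2 lc_c_rc_28_4 lc_c_rc_15_2 lc_c_Cert_tree lc_c_rc_13_0 lc_c_rc_13_0 lc_c_rc_16_2 lc_c_rc_17_2 lc_c_rc_8_3 lc_c_rc_28_4 lc_c_rc_16_2 lc_c_rc_17_2 lc_c_rc_8_3 lc_c_rc_28_6 lc_c_rc_16_2 lc_c_rc_17_2 lc_c_Cert_tree lc_c_rc_17_2 lc_c_Cert_tree lc_c_rc_2_3 lc_c_Cert_tree lc_c_Cert_tree lc_c_Cert_tree lc_c_rc_13_0 lc_c_Cert_tree) (@D3.rec (fun _ => (Cert rels S Gen.c)) lc_c_rc_13_0 lc_c_rc_2_1 lc_c_rc_28_6 lc_c_rc_16_2 lc_c_rc_17_2 lc_c_rc_13_0 lc_c_rc_28_6 lc_c_rc_16_2 lc_c_rc_17_2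 lc_c_Cert_tree lc_c_rc_17_2 lc_c_Cert_tree lc_c_rc_2_1 lc_c_rc_13_0 lc_c_Cert_tree lc_c_rc_13_0 lc_c_Cert_tree lc_c_Cert_tree lc_c_rc_8_1 lc_c_rc_13_0 lc_c_Cert_tree lc_c_rc_2_3 lc_c_rc_13_0 lc_c_rc_15_2 lc_c_rc_15_2 lc_c_rc_2_1 lc_c_Cert_tree lc_c_rc_16_2 lc_c_rc_17_2 lc_c_rc_28_4 lc_c_rc_28_4 lc_c_Cert_tree lc_c_Cert_tree lc_c_Cert_tree lc_c_rc_13_0 lc_c_rc_17_2 lc_c_Cert_tree lc_c_rc_13_0 lc_c_rc_16_2 lc_c_rc_17_2) (@D3.rec (fun _ => (Cert rels S Gen.c)) lc_c_Cert_tree lc_c_rc_28_2 lc_c_Cert_tree lc_c_Cert_tree lc_c_rc_2_1 lc_c_rc_2_1 lc_c_Cert_tree lc_c_rc_17_2 lc_c_Cert_tree lc_c_rc_2_3 lc_c_Cert_tree lc_c_rc_13_0 lc_c_rc_17_2 lc_c_Cert_tree lc_c_rc_13_0 lc_c_rc_16_2 lc_c_rc_13_0 lc_c_rc_17_2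 lc_c_Cert_tree lc_c_rc_17_2 lc_c_rc_13_0 lc_c_rc_16_2 lc_c_Cert_tree lc_c_rc_16_2 lc_c_rc_8_3 lc_c_Cert_tree lc_c_rc_17_2 lc_c_rc_13_0 lc_c_rc_15_2 lc_c_rc_17_2 lc_c_rc_17_2 lc_c_rc_28_8 lc_c_Cert_tree lc_c_rc_16_2 lc_c_rc_13_0 lc_c_rc_15_2 lc_c_rc_16_2 lc_c_rc_17_2 lc_c_rc_15_2 lc_c_rc_15_2)
def ce_c_1 : D2 → D3 → (Cert rels S Gen.c) := @D2.rec (fun _ => D3 → (Cert rels S Gen.c)) (@D3.rec (fun _ => (Cert rels S Gen.c)) lc_c_rc_16_2 lc_c_rc_2_1 lc_c_rc_15_2 lc_c_rc_15_2 lc_c_rc_2_1 lc_c_rc_2_1 lc_c_rc_13_0 lc_c_rc_15_2 lc_c_rc_8_3 lc_c_rc_15_2 lc_c_rc_17_2 lc_c_rc_17_2 lc_c_Cert_tree lc_c_rc_16_2 lc_c_rc_2_1 lc_c_rc_16_2 lc_c_rc_16_0 lc_c_rc_13_0 lc_c_rc_15_2 lc_c_rc_8_3 lc_c_rc_15_2 lc_c_rc_16_2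 lc_c_rc_16_2 lc_c_Cert_tree lc_c_rc_17_2 lc_c_rc_28_2 lc_c_rc_17_2 lc_c_rc_16_0 lc_c_Cert_tree lc_c_rc_15_2 lc_c_rc_30_10 lc_c_rc_13_0 lc_c_rc_15_0 lc_c_rc_2_1 lc_c_rc_17_2 lc_c_rc_8_3 lc_c_rc_8_3 lc_c_Cert_tree lc_c_rc_17_2 lc_c_Cert_tree) (@D3.rec (fun _ => (Cert rels S Gen.c)) lc_c_rc_13_0 lc_c_rc_8_3 lc_c_Cert_tree lc_c_rc_16_2 lc_c_Cert_tree lc_c_rc_13_0 lc_c_Cert_tree lc_c_Cert_tree lc_c_rc_28_2 lc_c_rc_28_2 lc_c_rc_13_0 lc_c_rc_16_2 lc_c_rc_17_2 lc_c_Cert_tree lc_c_rc_17_2 lc_c_Cert_tree lc_c_rc_28_2 lc_c_Cert_tree lc_c_rc_28_4 lc_c_Cert_tree lc_c_rc_28_4 lc_c_Cert_tree lc_c_rc_13_0 lc_c_rc_17_2 lc_c_Cert_tree lc_c_Cert_tree lc_c_rc_13_0 lc_c_rc_16_2 lc_c_Cert_tree lc_c_Cert_tree lc_c_rc_17_2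 lc_c_Cert_tree lc_c_rc_13_0 lc_c_Cert_tree lc_c_rc_16_2 lc_c_Cert_tree lc_c_rc_13_0 lc_c_Cert_tree lc_c_Cert_tree lc_c_Cert_tree) (@D3.rec (fun _ => (Cert rels S Gen.c)) lc_c_rc_13_0 lc_c_Cert_tree lc_c_rc_13_0 lc_c_Cert_tree lc_c_rc_13_0 lc_c_rc_16_2 lc_c_rc_17_2 lc_c_Cert_tree lc_c_Cert_tree lc_c_Cert_tree lc_c_rc_13_0 lc_c_rc_17_2 lc_c_Cert_tree lc_c_Cert_tree lc_c_rc_13_0 lc_c_rc_16_2 lc_c_Cert_tree lc_c_Cert_tree lc_c_rc_13_0 lc_c_rc_17_2 lc_c_Cert_tree lc_c_rc_17_2 lc_c_Cert_tree lc_c_rc_2_3 lc_c_Cert_tree lc_c_rc_13_0 lc_c_rc_16_2 lc_c_Cert_tree lc_c_rc_13_0 lc_c_rc_16_2 lc_c_Cert_tree lc_c_rc_16_2 lc_c_Cert_tree lc_c_rc_17_2 lc_c_Cert_tree lc_c_rc_13_0 lc_c_rc_17_2 lc_c_rc_15_2 lc_c_rc_28_4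 lc_c_Cert_tree) (@D3.rec (fun _ => (Cert rels S Gen.c)) lc_c_rc_13_0 lc_c_Cert_tree lc_c_rc_13_0 lc_c_Cert_tree lc_c_rc_15_2 lc_c_rc_28_4 lc_c_Cert_tree lc_c_rc_13_0 lc_c_Cert_tree lc_c_rc_13_0 lc_c_Cert_tree lc_c_Cert_tree lc_c_Cert_tree lc_c_rc_13_0 lc_c_rc_8_3 lc_c_Cert_tree lc_c_rc_13_0 lc_c_rc_15_2 lc_c_Cert_tree lc_c_Cert_tree lc_c_rc_13_0 lc_c_rc_8_3 lc_c_Cert_tree lc_c_rc_13_0 lc_c_rc_15_2 lc_c_rc_15_2 lc_c_rc_13_0 lc_c_rc_8_3 lc_c_rc_16_0 lc_c_rc_2_1 lc_c_rc_13_1 lc_c_rc_15_2 lc_c_rc_15_2 lc_c_rc_13_0 lc_c_rc_8_3 lc_c_rc_16_0 lc_c_rc_16_2 lc_c_rc_16_2 lc_c_rc_15_2 lc_c_rc_13_0) (@D3.rec (fun _ => (Cert rels S Gen.c)) lc_c_rc_16_2 lc_c_rc_8_3 lc_c_rc_8_3 lc_c_rc_16_2 lc_c_Cert_tree lc_c_rc_28_2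 lc_c_rc_17_2 lc_c_rc_13_0 lc_c_rc_17_2 lc_c_rc_8_3 lc_c_rc_8_3 lc_c_rc_17_2 lc_c_Cert_tree lc_c_rc_2_1 lc_c_rc_16_2 lc_c_rc_17_2 lc_c_rc_15_0 lc_c_rc_13_0 lc_c_rc_8_3 lc_c_rc_28_4 lc_c_rc_8_3 lc_c_rc_28_4 lc_c_rc_16_2 lc_c_rc_17_2 lc_c_rc_2_1 lc_c_rc_16_2 lc_c_rc_17_2 lc_c_rc_8_3 lc_c_rc_8_3 lc_c_rc_13_0 lc_c_rc_16_2 lc_c_rc_17_2 lc_c_rc_15_2 lc_c_rc_8_3 lc_c_rc_8_3 lc_c_rc_16_2 lc_c_rc_17_2 lc_c_Cert_tree lc_c_Cert_tree lc_c_rc_8_3) (@D3.rec (fun _ => (Cert rels S Gen.c)) lc_c_rc_28_4 lc_c_rc_16_2 lc_c_rc_17_2 lc_c_Cert_tree lc_c_rc_17_2 lc_c_Cert_tree lc_c_rc_2_3 lc_c_rc_17_2 lc_c_rc_8_3 lc_c_rc_8_1 lc_c_rc_17_2 lc_c_rc_2_1 lc_c_Cert_tree lc_c_rc_16_2 lc_c_rc_17_2 lc_c_rc_15_2 lc_c_rc_28_4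 lc_c_rc_28_4 lc_c_Cert_tree lc_c_rc_17_2 lc_c_Cert_tree lc_c_rc_2_1 lc_c_Cert_tree lc_c_rc_13_0 lc_c_rc_17_2 lc_c_Cert_tree lc_c_Cert_tree lc_c_rc_13_0 lc_c_rc_16_2 lc_c_Cert_tree lc_c_rc_13_0 lc_c_Cert_tree lc_c_rc_17_2 lc_c_rc_13_0 lc_c_rc_13_0 lc_c_Cert_tree lc_c_rc_16_2 lc_c_rc_13_0 lc_c_rc_8_3 lc_c_rc_28_2) (@D3.rec (fun _ => (Cert rels S Gen.c)) lc_c_rc_15_2 lc_c_rc_16_2 lc_c_rc_8_3 lc_c_rc_14_10 lc_c_rc_8_1 lc_c_rc_17_2 lc_c_rc_2_1 lc_c_Cert_tree lc_c_rc_16_2 lc_c_rc_17_2 lc_c_rc_28_6 lc_c_rc_28_6 lc_c_Cert_tree lc_c_rc_17_2 lc_c_Cert_tree lc_c_rc_2_1 lc_c_Cert_tree lc_c_rc_13_0 lc_c_rc_17_2 lc_c_Cert_tree lc_c_Cert_tree lc_c_rc_13_0 lc_c_rc_16_2 lc_c_Cert_tree lc_c_rc_15_2 lc_c_Cert_tree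 lc_c_rc_17_2 lc_c_Cert_tree lc_c_Cert_tree lc_c_rc_13_0 lc_c_rc_8_1 lc_c_Cert_tree lc_c_rc_16_2 lc_c_Cert_tree lc_c_Cert_tree lc_c_rc_13_0 lc_c_Cert_tree lc_c_rc_13_0 lc_c_rc_13_0 lc_c_Cert_tree) (@D3.rec (fun _ => (Cert rels S Gen.c)) lc_c_rc_13_0 lc_c_rc_13_0 lc_c_rc_15_2 lc_c_rc_2_1 lc_c_rc_2_1 lc_c_Cert_tree lc_c_rc_17_2 lc_c_Cert_tree lc_c_rc_2_3 lc_c_Cert_tree lc_c_rc_13_0 lc_c_rc_17_2 lc_c_Cert_tree lc_c_Cert_tree lc_c_rc_13_0 lc_c_rc_16_2 lc_c_Cert_tree lc_c_Cert_tree lc_c_rc_13_0 lc_c_Cert_tree lc_c_rc_17_2 lc_c_Cert_tree lc_c_rc_16_2 lc_c_Cert_tree lc_c_rc_13_0 lc_c_Cert_tree lc_c_rc_13_0 lc_c_Cert_tree lc_c_rc_16_2 lc_c_Cert_tree lc_c_rc_17_2 lc_c_Cert_tree lc_c_rc_13_0 lc_c_Cert_tree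 lc_c_rc_13_0 lc_c_rc_15_2 lc_c_rc_17_2 lc_c_rc_17_2 lc_c_rc_2_1 lc_c_rc_16_2) (@D3.rec (fun _ => (Cert rels S Gen.c)) lc_c_rc_13_0 lc_c_rc_13_0 lc_c_Cert_tree lc_c_Cert_tree lc_c_rc_13_0 lc_c_rc_15_2 lc_c_rc_16_2 lc_c_rc_16_2 lc_c_rc_17_2 lc_c_rc_16_2 lc_c_rc_13_0 lc_c_rc_13_0 lc_c_Cert_tree lc_c_rc_2_1 lc_c_rc_17_2 lc_c_rc_8_1 lc_c_rc_17_2 lc_c_rc_8_1 lc_c_rc_2_1 lc_c_rc_15_2 lc_c_rc_8_1 lc_c_rc_15_0 lc_c_rc_16_0 lc_c_rc_8_1 lc_c_rc_8_1 lc_c_rc_8_3 lc_c_rc_15_2 lc_c_rc_17_2 lc_c_rc_17_2 lc_c_Cert_tree lc_c_rc_28_2 lc_c_rc_16_2 lc_c_rc_13_0 lc_c_rc_15_2 lc_c_rc_8_3 lc_c_rc_15_2 lc_c_rc_16_2 lc_c_rc_16_2 lc_c_Cert_tree lc_c_rc_28_2) (@D3.rec (fun _ => (Cert rels S Gen.c)) lc_c_rc_17_2 lc_c_rc_13_0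 lc_c_rc_15_2 lc_c_rc_8_3 lc_c_rc_8_3 lc_c_rc_13_0 lc_c_rc_8_3 lc_c_rc_28_4 lc_c_rc_8_3 lc_c_rc_28_4 lc_c_rc_16_2 lc_c_rc_17_2 lc_c_rc_2_1 lc_c_Cert_tree lc_c_rc_16_2 lc_c_rc_17_2 lc_c_rc_15_2 lc_c_rc_28_4 lc_c_rc_28_4 lc_c_rc_8_3 lc_c_rc_8_3 lc_c_rc_2_1 lc_c_rc_16_2 lc_c_rc_17_2 lc_c_rc_15_2 lc_c_rc_28_6 lc_c_rc_28_6 lc_c_Cert_tree lc_c_rc_17_2 lc_c_Cert_tree lc_c_rc_2_1 lc_c_rc_13_0 lc_c_Cert_tree lc_c_rc_13_0 lc_c_Cert_tree lc_c_Cert_tree lc_c_rc_13_0 lc_c_Cert_tree lc_c_rc_13_0 lc_c_rc_13_0) (@D3.rec (fun _ => (Cert rels S Gen.c)) lc_c_rc_13_0 lc_c_rc_28_2 lc_c_rc_2_1 lc_c_rc_2_1 lc_c_rc_28_6 lc_c_rc_28_6 lc_c_Cert_tree lc_c_rc_17_2 lc_c_Cert_tree lc_c_rc_2_1 lc_c_rc_28_2 lc_c_rc_16_2 lc_c_rc_17_2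 lc_c_rc_28_6 lc_c_rc_28_6 lc_c_Cert_tree lc_c_rc_28_6 lc_c_Cert_tree lc_c_rc_28_4 lc_c_Cert_tree lc_c_rc_13_0 lc_c_rc_17_2 lc_c_Cert_tree lc_c_Cert_tree lc_c_rc_13_0 lc_c_rc_16_2 lc_c_Cert_tree lc_c_Cert_tree lc_c_Cert_tree lc_c_rc_13_0 lc_c_Cert_tree lc_c_Cert_tree lc_c_rc_13_0 lc_c_rc_13_0 lc_c_rc_15_2 lc_c_Cert_tree lc_c_rc_13_0 lc_c_rc_15_2 lc_c_Cert_tree lc_c_rc_28_4) (@D3.rec (fun _ => (Cert rels S Gen.c)) lc_c_Cert_tree lc_c_rc_2_1 lc_c_rc_2_1 lc_c_rc_13_0 lc_c_rc_16_2 lc_c_rc_17_2 lc_c_Cert_tree lc_c_rc_17_2 lc_c_Cert_tree lc_c_rc_2_3 lc_c_Cert_tree lc_c_Cert_tree lc_c_Cert_tree lc_c_rc_13_0 lc_c_rc_17_2 lc_c_Cert_tree lc_c_rc_13_0 lc_c_rc_16_2 lc_c_rc_13_0 lc_c_rc_17_2 lc_c_rc_28_4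 lc_c_rc_17_2 lc_c_rc_13_0 lc_c_rc_16_2 lc_c_rc_14_12 lc_c_rc_16_2 lc_c_rc_13_0 lc_c_rc_13_0 lc_c_rc_2_3 lc_c_rc_13_0 lc_c_rc_16_2 lc_c_rc_17_2 lc_c_Cert_tree lc_c_Cert_tree lc_c_Cert_tree lc_c_rc_13_0 lc_c_rc_17_2 lc_c_Cert_tree lc_c_Cert_tree lc_c_rc_13_0) (@D3.rec (fun _ => (Cert rels S Gen.c)) lc_c_rc_16_2 lc_c_Cert_tree lc_c_rc_15_2 lc_c_rc_13_0 lc_c_rc_17_2 lc_c_Cert_tree lc_c_rc_17_2 lc_c_rc_2_3 lc_c_rc_15_2 lc_c_rc_13_0 lc_c_rc_16_2 lc_c_Cert_tree lc_c_rc_16_2 lc_c_rc_17_2 lc_c_rc_8_3 lc_c_rc_28_2 lc_c_rc_17_2 lc_c_rc_13_0 lc_c_rc_15_2 lc_c_rc_17_2 lc_c_rc_8_3 lc_c_rc_8_3 lc_c_rc_28_2 lc_c_rc_16_2 lc_c_rc_13_0 lc_c_rc_15_2 lc_c_rc_16_2 lc_c_rc_8_3 lc_c_Cert_tree lc_c_rc_13_0 lc_c_rc_15_2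 lc_c_rc_17_2 lc_c_rc_8_3 lc_c_rc_28_6 lc_c_rc_15_2 lc_c_rc_17_2 lc_c_rc_17_2 lc_c_Cert_tree lc_c_rc_28_2 lc_c_Cert_tree) (@D3.rec (fun _ => (Cert rels S Gen.c)) lc_c_rc_13_0 lc_c_rc_15_2 lc_c_rc_16_2 lc_c_rc_8_3 lc_c_rc_28_6 lc_c_rc_15_2 lc_c_rc_16_2 lc_c_rc_16_2 lc_c_Cert_tree lc_c_rc_28_2 lc_c_rc_16_2 lc_c_rc_2_1 lc_c_rc_8_3 lc_c_rc_15_2 lc_c_rc_2_1 lc_c_rc_8_3 lc_c_rc_16_2 lc_c_rc_17_2 lc_c_Cert_tree lc_c_rc_17_2 lc_c_Cert_tree lc_c_rc_16_2 lc_c_Cert_tree lc_c_rc_16_2 lc_c_Cert_tree lc_c_rc_13_0 lc_c_rc_16_2 lc_c_Cert_tree lc_c_rc_2_3 lc_c_rc_8_3 lc_c_rc_15_2 lc_c_rc_2_1 lc_c_rc_8_3 lc_c_rc_16_2 lc_c_rc_17_2 lc_c_Cert_tree lc_c_rc_16_2 lc_c_Cert_tree lc_c_rc_17_2 lc_c_Cert_tree) (@D3.rec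 (fun _ => (Cert rels S Gen.c)) lc_c_rc_17_2 lc_c_Cert_tree lc_c_rc_13_0 lc_c_rc_17_2 lc_c_Cert_tree lc_c_rc_16_2 lc_c_rc_30_10 lc_c_rc_13_0 lc_c_Cert_tree lc_c_rc_13_0 lc_c_rc_17_2 lc_c_rc_13_0 lc_c_rc_8_3 lc_c_Cert_tree lc_c_rc_13_0 lc_c_rc_16_2 lc_c_rc_13_0 lc_c_rc_8_3 lc_c_Cert_tree lc_c_rc_13_0 lc_c_rc_28_2 lc_c_rc_16_2 lc_c_rc_17_2 lc_c_rc_13_0 lc_c_rc_16_2 lc_c_rc_17_2 lc_c_Cert_tree lc_c_Cert_tree lc_c_rc_28_6 lc_c_rc_16_2 lc_c_rc_17_2 lc_c_Cert_tree lc_c_rc_17_2 lc_c_Cert_tree lc_c_rc_2_3 lc_c_Cert_tree lc_c_rc_13_0 lc_c_rc_17_2 lc_c_Cert_tree lc_c_Cert_tree) (@D3.rec (fun _ => (Cert rels S Gen.c)) lc_c_rc_13_0 lc_c_rc_16_2 lc_c_Cert_tree lc_c_Cert_tree lc_c_rc_13_0 lc_c_rc_17_2 lc_c_Cert_tree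 lc_c_Cert_tree lc_c_rc_13_0 lc_c_rc_16_2 lc_c_Cert_tree lc_c_Cert_tree lc_c_rc_13_0 lc_c_rc_17_2 lc_c_Cert_tree lc_c_rc_17_2 lc_c_Cert_tree lc_c_rc_2_3 lc_c_Cert_tree lc_c_rc_13_0 lc_c_rc_16_2 lc_c_Cert_tree lc_c_rc_13_0 lc_c_rc_16_2 lc_c_Cert_tree lc_c_rc_16_2 lc_c_Cert_tree lc_c_rc_17_2 lc_c_Cert_tree lc_c_rc_13_0 lc_c_rc_17_2 lc_c_rc_13_0 lc_c_rc_15_2 lc_c_rc_30_6 lc_c_Cert_tree lc_c_rc_13_0 lc_c_Cert_tree lc_c_rc_13_0 lc_c_rc_15_2 lc_c_rc_8_3) (@D3.rec (fun _ => (Cert rels S Gen.c)) lc_c_Cert_tree lc_c_rc_13_0 lc_c_Cert_tree lc_c_Cert_tree lc_c_rc_13_0 lc_c_Cert_tree lc_c_rc_13_0 lc_c_rc_13_0 lc_c_rc_13_0 lc_c_rc_13_0 lc_c_rc_16_2 lc_c_rc_17_2 lc_c_Cert_tree lc_c_rc_16_2 lc_c_rc_17_2 lc_c_Cert_tree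 lc_c_rc_17_2 lc_c_Cert_tree lc_c_rc_17_2 lc_c_Cert_tree lc_c_rc_13_0 lc_c_rc_17_2 lc_c_Cert_tree lc_c_rc_13_0 lc_c_rc_16_2 lc_c_Cert_tree lc_c_rc_13_0 lc_c_Cert_tree lc_c_rc_17_2 lc_c_Cert_tree lc_c_Cert_tree lc_c_rc_13_0 lc_c_rc_16_2 lc_c_Cert_tree lc_c_rc_13_0 lc_c_Cert_tree lc_c_rc_16_2 lc_c_Cert_tree lc_c_Cert_tree lc_c_rc_13_0) (@D3.rec (fun _ => (Cert rels S Gen.c)) lc_c_rc_17_2 lc_c_rc_15_0 lc_c_rc_13_0 lc_c_rc_16_2 lc_c_rc_17_2 lc_c_rc_8_3 lc_c_Cert_tree lc_c_rc_17_2 lc_c_Cert_tree lc_c_rc_13_0 lc_c_rc_15_2 lc_c_rc_17_2 lc_c_Cert_tree lc_c_rc_2_1 lc_c_Cert_tree lc_c_rc_13_0 lc_c_rc_16_2 lc_c_Cert_tree lc_c_Cert_tree lc_c_rc_13_0 lc_c_rc_16_2 lc_c_Cert_tree lc_c_rc_16_2 lc_c_rc_17_2 lc_c_rc_15_0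 lc_c_rc_13_0 lc_c_rc_16_2 lc_c_rc_17_2 lc_c_rc_8_3 lc_c_Cert_tree lc_c_rc_16_2 lc_c_Cert_tree lc_c_rc_13_0 lc_c_rc_15_2 lc_c_rc_16_2 lc_c_Cert_tree lc_c_rc_17_2 lc_c_Cert_tree lc_c_rc_13_0 lc_c_rc_17_2) (@D3.rec (fun _ => (Cert rels S Gen.c)) lc_c_Cert_tree lc_c_Cert_tree lc_c_rc_13_0 lc_c_rc_17_2 lc_c_Cert_tree lc_c_rc_17_2 lc_c_rc_2_3 lc_c_rc_15_2 lc_c_Cert_tree lc_c_Cert_tree lc_c_rc_13_0 lc_c_rc_16_2 lc_c_rc_2_3 lc_c_Cert_tree lc_c_rc_13_0 lc_c_rc_8_3 lc_c_rc_28_2 lc_c_rc_13_0 lc_c_rc_15_2 lc_c_rc_15_2 lc_c_Cert_tree lc_c_Cert_tree lc_c_rc_13_0 lc_c_rc_17_2 lc_c_rc_16_2 lc_c_Cert_tree lc_c_rc_13_0 lc_c_rc_8_3 lc_c_rc_28_2 lc_c_rc_13_0 lc_c_rc_15_2 lc_c_rc_13_0 lc_c_rc_15_2 lc_c_rc_13_0 lc_c_rc_8_3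 lc_c_Cert_tree lc_c_rc_2_1 lc_c_Cert_tree lc_c_rc_13_1 lc_c_rc_13_0) (@D3.rec (fun _ => (Cert rels S Gen.c)) lc_c_rc_15_2 lc_c_rc_8_3 lc_c_rc_28_6 lc_c_rc_15_2 lc_c_rc_13_0 lc_c_rc_15_2 lc_c_rc_13_0 lc_c_rc_8_3 lc_c_Cert_tree lc_c_rc_16_2 lc_c_Cert_tree lc_c_rc_16_2 lc_c_rc_13_0 lc_c_rc_15_2 lc_c_rc_8_3 lc_c_rc_28_6 lc_c_rc_15_2 lc_c_rc_16_0 lc_c_rc_16_0 lc_c_rc_8_3 lc_c_rc_16_2 lc_c_Cert_tree lc_c_rc_2_1 lc_c_rc_16_2 lc_c_rc_17_2 lc_c_Cert_tree lc_c_Cert_tree lc_c_rc_13_0 lc_c_rc_17_2 lc_c_rc_17_2 lc_c_rc_2_3 lc_c_rc_17_2 lc_c_Cert_tree lc_c_rc_2_1 lc_c_rc_16_2 lc_c_rc_17_2 lc_c_Cert_tree lc_c_Cert_tree lc_c_rc_13_0 lc_c_rc_16_2) (@D3.rec (fun _ => (Cert rels S Gen.c)) lc_c_rc_8_3 lc_c_rc_8_3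 lc_c_rc_2_1 lc_c_Cert_tree lc_c_rc_16_2 lc_c_rc_17_2 lc_c_rc_2_1 lc_c_Cert_tree lc_c_rc_16_2 lc_c_rc_17_2 lc_c_rc_28_4 lc_c_rc_28_4 lc_c_rc_8_3 lc_c_rc_8_3 lc_c_Cert_tree lc_c_rc_2_1 lc_c_rc_2_1 lc_c_rc_16_2 lc_c_rc_17_2 lc_c_rc_17_2 lc_c_rc_2_3 lc_c_rc_28_8 lc_c_rc_17_2 lc_c_rc_28_8 lc_c_rc_16_2 lc_c_rc_8_3 lc_c_rc_16_2 lc_c_rc_17_2 lc_c_Cert_tree lc_c_Cert_tree lc_c_rc_2_1 lc_c_rc_16_2 lc_c_rc_17_2 lc_c_Cert_tree lc_c_Cert_tree lc_c_rc_13_0 lc_c_rc_13_0 lc_c_rc_2_1 lc_c_rc_8_3 lc_c_rc_16_2) (@D3.rec (fun _ => (Cert rels S Gen.c)) lc_c_rc_17_2 lc_c_rc_28_4 lc_c_rc_28_4 lc_c_Cert_tree lc_c_rc_17_2 lc_c_Cert_tree lc_c_rc_2_1 lc_c_rc_13_0 lc_c_rc_17_2 lc_c_Cert_tree lc_c_rc_13_0 lc_c_rc_16_2 lc_c_Cert_tree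 lc_c_rc_15_0 lc_c_Cert_tree lc_c_rc_2_1 lc_c_rc_2_1 lc_c_rc_13_0 lc_c_rc_15_2 lc_c_rc_16_2 lc_c_rc_17_2 lc_c_Cert_tree lc_c_rc_17_2 lc_c_Cert_tree lc_c_rc_2_1 lc_c_rc_15_2 lc_c_rc_15_2 lc_c_Cert_tree lc_c_rc_28_6 lc_c_Cert_tree lc_c_rc_28_4 lc_c_Cert_tree lc_c_rc_13_0 lc_c_rc_17_2 lc_c_Cert_tree lc_c_Cert_tree lc_c_rc_13_0 lc_c_rc_16_2 lc_c_Cert_tree lc_c_rc_13_0) (@D3.rec (fun _ => (Cert rels S Gen.c)) lc_c_Cert_tree lc_c_rc_17_2 lc_c_rc_13_0 lc_c_rc_13_0 lc_c_Cert_tree lc_c_rc_16_2 lc_c_rc_13_0 lc_c_rc_8_3 lc_c_Cert_tree lc_c_rc_13_0 lc_c_rc_15_2 lc_c_rc_17_2 lc_c_Cert_tree lc_c_rc_8_3 lc_c_Cert_tree lc_c_rc_13_0 lc_c_rc_15_2 lc_c_rc_16_2 lc_c_Cert_tree lc_c_rc_30_10 lc_c_rc_2_1 lc_c_rc_8_3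 lc_c_rc_8_3 lc_c_rc_15_2 lc_c_rc_28_2 lc_c_rc_28_8 lc_c_rc_28_2 lc_c_rc_2_1 lc_c_rc_2_1 lc_c_rc_13_0 lc_c_rc_16_2 lc_c_rc_17_2 lc_c_Cert_tree lc_c_rc_17_2 lc_c_Cert_tree lc_c_rc_2_3 lc_c_Cert_tree lc_c_rc_28_6 lc_c_Cert_tree lc_c_rc_28_4) (@D3.rec (fun _ => (Cert rels S Gen.c)) lc_c_Cert_tree lc_c_rc_13_0 lc_c_rc_17_2 lc_c_Cert_tree lc_c_Cert_tree lc_c_rc_13_0 lc_c_rc_16_2 lc_c_Cert_tree lc_c_Cert_tree lc_c_rc_13_0 lc_c_rc_28_4 lc_c_rc_17_2 lc_c_Cert_tree lc_c_rc_16_2 lc_c_Cert_tree lc_c_rc_13_0 lc_c_Cert_tree lc_c_rc_13_0 lc_c_rc_14_12 lc_c_rc_16_2 lc_c_Cert_tree lc_c_rc_17_2 lc_c_Cert_tree lc_c_rc_13_0 lc_c_rc_13_0 lc_c_Cert_tree lc_c_rc_13_0 lc_c_rc_13_0 lc_c_Cert_tree lc_c_rc_13_0 lc_c_Cert_tree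 lc_c_rc_13_0 lc_c_rc_13_0 lc_c_Cert_tree lc_c_rc_13_0 lc_c_rc_13_0 lc_c_rc_15_0 lc_c_rc_15_2 lc_c_rc_15_2 lc_c_Cert_tree) (@D3.rec (fun _ => (Cert rels S Gen.c)) lc_c_Cert_tree lc_c_Cert_tree lc_c_rc_13_0 lc_c_rc_17_2 lc_c_Cert_tree lc_c_Cert_tree lc_c_rc_13_0 lc_c_rc_16_2 lc_c_Cert_tree lc_c_Cert_tree lc_c_rc_13_0 lc_c_rc_17_2 lc_c_rc_28_6 lc_c_rc_17_2 lc_c_Cert_tree lc_c_rc_2_3 lc_c_Cert_tree lc_c_rc_13_0 lc_c_rc_16_2 lc_c_Cert_tree lc_c_rc_13_0 lc_c_rc_16_2 lc_c_rc_28_6 lc_c_rc_16_2 lc_c_Cert_tree lc_c_rc_17_2 lc_c_Cert_tree lc_c_rc_13_0 lc_c_rc_17_2 lc_c_rc_13_0 lc_c_rc_8_3 lc_c_rc_28_2 lc_c_rc_13_0 lc_c_rc_15_2 lc_c_rc_17_2 lc_c_Cert_tree lc_c_rc_16_2 lc_c_Cert_tree lc_c_rc_13_0 lc_c_rc_13_0)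 (@D3.rec (fun _ => (Cert rels S Gen.c)) lc_c_Cert_tree lc_c_rc_13_0 lc_c_rc_8_3 lc_c_rc_28_2 lc_c_rc_13_0 lc_c_rc_15_2 lc_c_rc_16_2 lc_c_Cert_tree lc_c_rc_17_2 lc_c_Cert_tree lc_c_rc_13_0 lc_c_rc_13_0 lc_c_Cert_tree lc_c_rc_13_0 lc_c_rc_15_2 lc_c_rc_8_3 lc_c_rc_28_6 lc_c_rc_15_2 lc_c_rc_17_2 lc_c_rc_17_2 lc_c_Cert_tree lc_c_rc_16_2 lc_c_rc_8_1 lc_c_rc_13_0 lc_c_rc_2_1 lc_c_Cert_tree lc_c_Cert_tree lc_c_rc_13_0 lc_c_rc_15_2 lc_c_rc_13_0 lc_c_rc_15_2 lc_c_rc_8_3 lc_c_rc_28_6 lc_c_rc_15_2 lc_c_rc_16_2 lc_c_rc_16_2 lc_c_Cert_tree lc_c_rc_17_2 lc_c_rc_8_1 lc_c_rc_17_2)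
def ce_c_2 : D2 → D3 → (Cert rels S Gen.c) := @D2.rec (fun _ => D3 → (Cert rels S Gen.c)) (@D3.rec (fun _ => (Cert rels S Gen.c)) lc_c_rc_8_3 lc_c_Cert_tree lc_c_Cert_tree lc_c_rc_13_0 lc_c_rc_15_2 lc_c_rc_2_1 lc_c_rc_8_3 lc_c_rc_16_2 lc_c_rc_17_2 lc_c_rc_28_4 lc_c_rc_17_2 lc_c_Cert_tree lc_c_Cert_tree lc_c_Cert_tree lc_c_rc_13_0 lc_c_rc_16_2 lc_c_rc_8_3 lc_c_rc_15_2 lc_c_rc_2_1 lc_c_rc_8_3 lc_c_rc_16_2 lc_c_rc_17_2 lc_c_rc_28_6 lc_c_rc_16_2 lc_c_Cert_tree lc_c_Cert_tree lc_c_Cert_tree lc_c_rc_13_0 lc_c_rc_17_2 lc_c_rc_8_3 lc_c_rc_15_2 lc_c_rc_8_3 lc_c_rc_28_2 lc_c_Cert_tree lc_c_rc_16_2 lc_c_rc_17_2 lc_c_rc_2_1 lc_c_rc_28_8 lc_c_rc_16_2 lc_c_rc_17_2) (@D3.rec (fun _ => (Cert rels S Gen.c))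 lc_c_rc_15_2 lc_c_rc_28_4 lc_c_rc_28_4 lc_c_rc_8_3 lc_c_rc_15_2 lc_c_rc_2_1 lc_c_Cert_tree lc_c_rc_2_1 lc_c_rc_2_1 lc_c_rc_13_0 lc_c_rc_15_2 lc_c_rc_16_2 lc_c_rc_17_2 lc_c_rc_16_2 lc_c_rc_17_2 lc_c_rc_17_2 lc_c_rc_28_2 lc_c_rc_15_2 lc_c_rc_15_2 lc_c_Cert_tree lc_c_Cert_tree lc_c_rc_2_1 lc_c_rc_17_2 lc_c_rc_2_1 lc_c_rc_16_2 lc_c_rc_2_1 lc_c_rc_2_1 lc_c_Cert_tree lc_c_rc_17_2 lc_c_Cert_tree lc_c_rc_2_1 lc_c_rc_15_2 lc_c_rc_15_2 lc_c_Cert_tree lc_c_rc_28_6 lc_c_Cert_tree lc_c_rc_28_4 lc_c_Cert_tree lc_c_rc_13_0 lc_c_rc_17_2) (@D3.rec (fun _ => (Cert rels S Gen.c)) lc_c_Cert_tree lc_c_Cert_tree lc_c_rc_13_0 lc_c_rc_16_2 lc_c_Cert_tree lc_c_rc_28_6 lc_c_Cert_tree lc_c_rc_13_0 lc_c_rc_14_12 lc_c_Cert_tree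 lc_c_rc_13_0 lc_c_rc_13_0 lc_c_Cert_tree lc_c_rc_13_0 lc_c_Cert_tree lc_c_rc_28_2 lc_c_rc_28_2 lc_c_Cert_tree lc_c_Cert_tree lc_c_Cert_tree lc_c_rc_28_6 lc_c_Cert_tree lc_c_rc_28_2 lc_c_Cert_tree lc_c_rc_13_0 lc_c_rc_17_2 lc_c_Cert_tree lc_c_Cert_tree lc_c_rc_13_0 lc_c_rc_16_2 lc_c_Cert_tree lc_c_rc_28_2 lc_c_rc_28_2 lc_c_Cert_tree lc_c_Cert_tree lc_c_Cert_tree lc_c_rc_15_2 lc_c_Cert_tree lc_c_rc_15_2 lc_c_Cert_tree) (@D3.rec (fun _ => (Cert rels S Gen.c)) lc_c_rc_13_0 lc_c_rc_17_2 lc_c_Cert_tree lc_c_Cert_tree lc_c_rc_13_0 lc_c_rc_16_2 lc_c_Cert_tree lc_c_Cert_tree lc_c_rc_13_0 lc_c_rc_17_2 lc_c_Cert_tree lc_c_rc_17_2 lc_c_Cert_tree lc_c_rc_2_3 lc_c_Cert_tree lc_c_rc_13_0 lc_c_rc_16_2 lc_c_Cert_tree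 lc_c_rc_13_0 lc_c_rc_16_2 lc_c_Cert_tree lc_c_rc_16_2 lc_c_Cert_tree lc_c_rc_17_2 lc_c_Cert_tree lc_c_rc_13_0 lc_c_rc_17_2 lc_c_rc_13_0 lc_c_rc_15_2 lc_c_rc_13_0 lc_c_Cert_tree lc_c_rc_13_0 lc_c_rc_15_2 lc_c_rc_13_0 lc_c_Cert_tree lc_c_rc_8_3 lc_c_rc_2_1 lc_c_rc_15_2 lc_c_rc_13_0 lc_c_rc_8_3) (@D3.rec (fun _ => (Cert rels S Gen.c)) lc_c_rc_16_0 lc_c_rc_15_2 lc_c_rc_13_0 lc_c_rc_2_1 lc_c_rc_2_1 lc_c_rc_28_4 lc_c_rc_28_4 lc_c_rc_13_0 lc_c_rc_16_2 lc_c_rc_17_2 lc_c_Cert_tree lc_c_Cert_tree lc_c_rc_16_2 lc_c_rc_17_2 lc_c_Cert_tree lc_c_rc_17_2 lc_c_Cert_tree lc_c_rc_2_3 lc_c_Cert_tree lc_c_rc_13_0 lc_c_rc_17_2 lc_c_Cert_tree lc_c_Cert_tree lc_c_rc_13_0 lc_c_rc_16_2 lc_c_Cert_tree lc_c_Cert_tree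 lc_c_rc_13_0 lc_c_rc_17_2 lc_c_Cert_tree lc_c_rc_13_0 lc_c_rc_16_2 lc_c_rc_13_1 lc_c_rc_13_0 lc_c_rc_17_2 lc_c_Cert_tree lc_c_rc_17_2 lc_c_rc_2_3 lc_c_rc_13_1 lc_c_rc_13_0) (@D3.rec (fun _ => (Cert rels S Gen.c)) lc_c_rc_16_2 lc_c_Cert_tree lc_c_rc_16_2 lc_c_rc_17_2 lc_c_rc_8_3 lc_c_rc_28_2 lc_c_rc_17_2 lc_c_rc_15_2 lc_c_rc_28_4 lc_c_rc_8_3 lc_c_rc_8_3 lc_c_rc_28_2 lc_c_rc_16_2 lc_c_rc_15_2 lc_c_rc_28_4 lc_c_rc_8_3 lc_c_rc_8_3 lc_c_rc_28_6 lc_c_rc_8_3 lc_c_rc_28_6 lc_c_rc_8_5 lc_c_rc_17_2 lc_c_rc_16_2 lc_c_rc_17_2 lc_c_rc_16_2 lc_c_rc_17_2 lc_c_rc_28_8 lc_c_rc_2_3 lc_c_rc_16_0 lc_c_rc_13_0 lc_c_rc_17_2 lc_c_rc_28_6 lc_c_rc_13_0 lc_c_rc_16_2 lc_c_Cert_tree lc_c_rc_13_0 lc_c_Cert_tree lc_c_rc_17_2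 lc_c_Cert_tree lc_c_Cert_tree) (@D3.rec (fun _ => (Cert rels S Gen.c)) lc_c_rc_13_0 lc_c_rc_16_2 lc_c_Cert_tree lc_c_rc_13_0 lc_c_Cert_tree lc_c_rc_16_2 lc_c_Cert_tree lc_c_Cert_tree lc_c_rc_13_0 lc_c_rc_17_2 lc_c_rc_15_0 lc_c_rc_16_2 lc_c_rc_17_2 lc_c_rc_15_0 lc_c_rc_28_2 lc_c_rc_17_2 lc_c_Cert_tree lc_c_rc_13_0 lc_c_rc_15_2 lc_c_rc_17_2 lc_c_rc_17_2 lc_c_rc_2_1 lc_c_Cert_tree lc_c_rc_15_0 lc_c_rc_16_2 lc_c_rc_17_2 lc_c_rc_15_0 lc_c_rc_28_2 lc_c_rc_16_2 lc_c_Cert_tree lc_c_rc_13_0 lc_c_rc_15_2 lc_c_rc_16_2 lc_c_rc_16_2 lc_c_rc_17_2 lc_c_Cert_tree lc_c_rc_2_1 lc_c_Cert_tree lc_c_rc_16_2 lc_c_rc_17_2) (@D3.rec (fun _ => (Cert rels S Gen.c)) lc_c_rc_15_2 lc_c_rc_28_2 lc_c_rc_8_3 lc_c_rc_8_3 lc_c_rc_15_2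 lc_c_rc_17_2 lc_c_rc_17_2 lc_c_Cert_tree lc_c_rc_2_1 lc_c_rc_16_2 lc_c_rc_2_1 lc_c_Cert_tree lc_c_rc_16_2 lc_c_rc_17_2 lc_c_rc_15_2 lc_c_rc_28_2 lc_c_rc_8_3 lc_c_rc_8_3 lc_c_rc_15_2 lc_c_rc_16_2 lc_c_rc_16_2 lc_c_Cert_tree lc_c_rc_2_1 lc_c_rc_17_2 lc_c_rc_13_0 lc_c_rc_8_3 lc_c_rc_15_2 lc_c_rc_17_2 lc_c_rc_2_1 lc_c_rc_28_6 lc_c_rc_8_3 lc_c_rc_16_2 lc_c_rc_17_2 lc_c_rc_15_2 lc_c_rc_28_6 lc_c_Cert_tree lc_c_rc_17_2 lc_c_Cert_tree lc_c_Cert_tree lc_c_Cert_tree) (@D3.rec (fun _ => (Cert rels S Gen.c)) lc_c_rc_13_0 lc_c_rc_13_0 lc_c_rc_8_3 lc_c_rc_15_2 lc_c_rc_16_2 lc_c_rc_2_1 lc_c_rc_28_6 lc_c_rc_8_3 lc_c_rc_16_2 lc_c_rc_17_2 lc_c_rc_15_2 lc_c_rc_28_6 lc_c_Cert_tree lc_c_rc_16_2 lc_c_Cert_tree lc_c_Cert_tree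 lc_c_Cert_tree lc_c_rc_13_0 lc_c_rc_28_6 lc_c_rc_8_3 lc_c_rc_16_2 lc_c_rc_17_2 lc_c_rc_28_4 lc_c_Cert_tree lc_c_rc_2_1 lc_c_rc_2_1 lc_c_rc_2_1 lc_c_Cert_tree lc_c_rc_16_2 lc_c_rc_17_2 lc_c_rc_17_2 lc_c_Cert_tree lc_c_rc_2_3 lc_c_rc_13_0 lc_c_rc_17_2 lc_c_Cert_tree lc_c_rc_16_2 lc_c_Cert_tree lc_c_rc_13_0 lc_c_rc_16_2) (@D3.rec (fun _ => (Cert rels S Gen.c)) lc_c_Cert_tree lc_c_Cert_tree lc_c_rc_13_0 lc_c_Cert_tree lc_c_rc_13_0 lc_c_Cert_tree lc_c_rc_16_2 lc_c_rc_13_0 lc_c_rc_28_6 lc_c_rc_15_2 lc_c_rc_16_2 lc_c_rc_17_2 lc_c_rc_28_4 lc_c_Cert_tree lc_c_rc_2_1 lc_c_rc_2_1 lc_c_rc_2_1 lc_c_Cert_tree lc_c_rc_16_2 lc_c_rc_17_2 lc_c_Cert_tree lc_c_rc_17_2 lc_c_rc_2_3 lc_c_rc_13_0 lc_c_rc_16_2 lc_c_Cert_tree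 lc_c_rc_17_2 lc_c_Cert_tree lc_c_rc_13_0 lc_c_rc_17_2 lc_c_Cert_tree lc_c_Cert_tree lc_c_rc_13_0 lc_c_Cert_tree lc_c_rc_13_0 lc_c_Cert_tree lc_c_rc_17_2 lc_c_rc_13_0 lc_c_rc_13_0 lc_c_rc_8_3) (@D3.rec (fun _ => (Cert rels S Gen.c)) lc_c_rc_28_4 lc_c_rc_17_2 lc_c_rc_8_3 lc_c_rc_2_1 lc_c_rc_16_2 lc_c_rc_17_2 lc_c_rc_13_0 lc_c_rc_8_3 lc_c_rc_28_4 lc_c_rc_16_2 lc_c_rc_8_3 lc_c_rc_2_1 lc_c_rc_16_2 lc_c_rc_17_2 lc_c_rc_13_0 lc_c_rc_16_2 lc_c_rc_17_2 lc_c_rc_32_32 lc_c_rc_16_2 lc_c_rc_17_2 lc_c_rc_28_6 lc_c_rc_28_6 lc_c_Cert_tree lc_c_rc_17_2 lc_c_Cert_tree lc_c_rc_17_2 lc_c_rc_8_3 lc_c_rc_28_4 lc_c_rc_16_2 lc_c_rc_17_2 lc_c_Cert_tree lc_c_Cert_tree lc_c_Cert_tree lc_c_rc_13_0 lc_c_rc_17_2 lc_c_Cert_tree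 lc_c_rc_13_0 lc_c_rc_16_2 lc_c_rc_28_6 lc_c_rc_28_6) (@D3.rec (fun _ => (Cert rels S Gen.c)) lc_c_Cert_tree lc_c_rc_17_2 lc_c_Cert_tree lc_c_rc_2_1 lc_c_Cert_tree lc_c_rc_13_0 lc_c_rc_17_2 lc_c_Cert_tree lc_c_Cert_tree lc_c_rc_13_0 lc_c_rc_16_2 lc_c_Cert_tree lc_c_rc_2_1 lc_c_rc_13_0 lc_c_Cert_tree lc_c_rc_17_2 lc_c_Cert_tree lc_c_Cert_tree lc_c_rc_13_0 lc_c_rc_16_2 lc_c_rc_2_1 lc_c_rc_13_0 lc_c_Cert_tree lc_c_rc_16_2 lc_c_Cert_tree lc_c_Cert_tree lc_c_rc_13_0 lc_c_rc_17_2 lc_c_rc_28_8 lc_c_rc_13_0 lc_c_rc_17_2 lc_c_Cert_tree lc_c_rc_17_2 lc_c_Cert_tree lc_c_rc_2_3 lc_c_Cert_tree lc_c_rc_13_0 lc_c_rc_16_2 lc_c_rc_28_8 lc_c_rc_13_0) (@D3.rec (fun _ => (Cert rels S Gen.c)) lc_c_rc_16_2 lc_c_Cert_tree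 lc_c_rc_16_2 lc_c_Cert_tree lc_c_rc_17_2 lc_c_Cert_tree lc_c_rc_13_0 lc_c_rc_17_2 lc_c_rc_13_1 lc_c_rc_13_0 lc_c_rc_16_2 lc_c_rc_17_2 lc_c_rc_8_3 lc_c_Cert_tree lc_c_rc_17_2 lc_c_Cert_tree lc_c_rc_13_0 lc_c_rc_15_2 lc_c_rc_17_2 lc_c_rc_17_2 lc_c_rc_2_1 lc_c_Cert_tree lc_c_rc_13_0 lc_c_rc_16_2 lc_c_Cert_tree lc_c_Cert_tree lc_c_rc_13_0 lc_c_rc_16_2 lc_c_Cert_tree lc_c_rc_16_2 lc_c_rc_17_2 lc_c_rc_13_1 lc_c_rc_13_0 lc_c_rc_16_2 lc_c_rc_17_2 lc_c_rc_8_3 lc_c_Cert_tree lc_c_rc_16_2 lc_c_Cert_tree lc_c_rc_13_0) (@D3.rec (fun _ => (Cert rels S Gen.c)) lc_c_rc_15_2 lc_c_rc_16_2 lc_c_rc_16_2 lc_c_rc_17_2 lc_c_Cert_tree lc_c_rc_13_0 lc_c_rc_17_2 lc_c_Cert_tree lc_c_Cert_tree lc_c_rc_13_0 lc_c_rc_17_2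 lc_c_Cert_tree lc_c_rc_17_2 lc_c_rc_2_3 lc_c_rc_8_3 lc_c_rc_15_2 lc_c_rc_13_1 lc_c_rc_2_3 lc_c_Cert_tree lc_c_rc_13_0 lc_c_rc_8_3 lc_c_rc_28_4 lc_c_rc_13_0 lc_c_rc_15_2 lc_c_rc_8_3 lc_c_rc_15_2 lc_c_rc_2_1 lc_c_rc_17_2 lc_c_Cert_tree lc_c_rc_13_0 lc_c_rc_8_3 lc_c_rc_28_4 lc_c_rc_13_0 lc_c_rc_15_2 lc_c_rc_13_0 lc_c_Cert_tree lc_c_rc_13_0 lc_c_Cert_tree lc_c_rc_8_3 lc_c_rc_8_3) (@D3.rec (fun _ => (Cert rels S Gen.c)) lc_c_Cert_tree lc_c_rc_16_2 lc_c_rc_17_2 lc_c_Cert_tree lc_c_Cert_tree lc_c_rc_13_0 lc_c_rc_15_2 lc_c_rc_16_2 lc_c_rc_17_2 lc_c_Cert_tree lc_c_rc_17_2 lc_c_Cert_tree lc_c_rc_17_0 lc_c_Cert_tree lc_c_rc_13_0 lc_c_rc_17_2 lc_c_Cert_tree lc_c_Cert_tree lc_c_rc_13_0 lc_c_rc_16_2 lc_c_Cert_tree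 lc_c_Cert_tree lc_c_rc_13_0 lc_c_rc_17_2 lc_c_rc_28_6 lc_c_rc_17_2 lc_c_rc_2_3 lc_c_Cert_tree lc_c_rc_13_0 lc_c_rc_16_2 lc_c_rc_28_6 lc_c_rc_16_2 lc_c_rc_17_2 lc_c_rc_16_0 lc_c_rc_13_0 lc_c_rc_16_2 lc_c_rc_17_2 lc_c_rc_8_3 lc_c_Cert_tree lc_c_rc_13_0) (@D3.rec (fun _ => (Cert rels S Gen.c)) lc_c_rc_15_2 lc_c_rc_17_2 lc_c_Cert_tree lc_c_Cert_tree lc_c_rc_13_0 lc_c_rc_16_2 lc_c_Cert_tree lc_c_rc_13_0 lc_c_rc_16_2 lc_c_Cert_tree lc_c_rc_16_2 lc_c_rc_17_2 lc_c_rc_30_14 lc_c_rc_13_0 lc_c_rc_16_2 lc_c_rc_2_1 lc_c_rc_8_3 lc_c_Cert_tree lc_c_rc_13_0 lc_c_rc_15_2 lc_c_rc_16_2 lc_c_Cert_tree lc_c_Cert_tree lc_c_rc_13_0 lc_c_rc_17_2 lc_c_Cert_tree lc_c_rc_13_0 lc_c_rc_17_2 lc_c_Cert_tree lc_c_rc_17_2 lc_c_rc_2_3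 lc_c_rc_16_2 lc_c_rc_17_2 lc_c_rc_8_3 lc_c_rc_15_0 lc_c_rc_16_2 lc_c_rc_17_2 lc_c_rc_17_2 lc_c_Cert_tree lc_c_rc_2_3) (@D3.rec (fun _ => (Cert rels S Gen.c)) lc_c_rc_15_0 lc_c_Cert_tree lc_c_rc_13_1 lc_c_rc_17_2 lc_c_rc_13_0 lc_c_rc_15_2 lc_c_rc_17_2 lc_c_Cert_tree lc_c_Cert_tree lc_c_rc_13_0 lc_c_rc_16_2 lc_c_rc_28_6 lc_c_rc_15_2 lc_c_rc_17_2 lc_c_rc_17_2 lc_c_Cert_tree lc_c_rc_16_2 lc_c_Cert_tree lc_c_rc_13_0 lc_c_rc_16_2 lc_c_Cert_tree lc_c_Cert_tree lc_c_rc_13_0 lc_c_Cert_tree lc_c_rc_16_2 lc_c_Cert_tree lc_c_Cert_tree lc_c_rc_13_0 lc_c_rc_17_2 lc_c_Cert_tree lc_c_rc_13_0 lc_c_rc_16_2 lc_c_rc_17_2 lc_c_rc_8_3 lc_c_Cert_tree lc_c_rc_16_2 lc_c_Cert_tree lc_c_rc_13_0 lc_c_rc_15_2 lc_c_rc_16_2)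 (@D3.rec (fun _ => (Cert rels S Gen.c)) lc_c_rc_17_2 lc_c_Cert_tree lc_c_rc_16_2 lc_c_rc_17_2 lc_c_rc_8_3 lc_c_rc_15_0 lc_c_rc_16_2 lc_c_rc_17_2 lc_c_Cert_tree lc_c_rc_17_2 lc_c_rc_2_3 lc_c_rc_15_0 lc_c_Cert_tree lc_c_rc_16_2 lc_c_rc_32_49 lc_c_rc_13_0 lc_c_rc_15_2 lc_c_rc_16_2 lc_c_Cert_tree lc_c_Cert_tree lc_c_rc_13_0 lc_c_rc_17_2 lc_c_rc_28_6 lc_c_rc_15_2 lc_c_rc_16_2 lc_c_rc_16_2 lc_c_Cert_tree lc_c_rc_17_2 lc_c_Cert_tree lc_c_rc_13_0 lc_c_rc_17_2 lc_c_Cert_tree lc_c_Cert_tree lc_c_rc_13_0 lc_c_Cert_tree lc_c_rc_17_2 lc_c_Cert_tree lc_c_Cert_tree lc_c_rc_13_0 lc_c_rc_16_2) (@D3.rec (fun _ => (Cert rels S Gen.c)) lc_c_Cert_tree lc_c_rc_13_0 lc_c_rc_16_2 lc_c_rc_17_2 lc_c_rc_8_3 lc_c_rc_28_2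 lc_c_rc_17_2 lc_c_Cert_tree lc_c_rc_13_0 lc_c_rc_15_2 lc_c_rc_17_2 lc_c_rc_2_1 lc_c_Cert_tree lc_c_Cert_tree lc_c_Cert_tree lc_c_rc_13_0 lc_c_Cert_tree lc_c_rc_13_0 lc_c_rc_16_2 lc_c_Cert_tree lc_c_rc_16_2 lc_c_rc_17_2 lc_c_rc_2_3 lc_c_rc_13_0 lc_c_rc_8_3 lc_c_Cert_tree lc_c_rc_2_1 lc_c_Cert_tree lc_c_rc_16_2 lc_c_rc_17_2 lc_c_rc_15_2 lc_c_rc_8_3 lc_c_rc_15_2 lc_c_Cert_tree lc_c_Cert_tree lc_c_rc_13_0 lc_c_Cert_tree lc_c_rc_13_0 lc_c_rc_17_2 lc_c_Cert_tree) (@D3.rec (fun _ => (Cert rels S Gen.c)) lc_c_rc_17_2 lc_c_rc_16_2 lc_c_rc_16_2 lc_c_rc_13_0 lc_c_rc_8_3 lc_c_Cert_tree lc_c_rc_2_1 lc_c_Cert_tree lc_c_rc_16_2 lc_c_rc_17_2 lc_c_rc_15_2 lc_c_rc_8_3 lc_c_rc_15_2 lc_c_rc_8_3 lc_c_rc_15_2 lc_c_Cert_tree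 lc_c_Cert_tree lc_c_rc_13_0 lc_c_rc_15_2 lc_c_Cert_tree lc_c_rc_13_0 lc_c_rc_17_2 lc_c_rc_8_3 lc_c_rc_15_2 lc_c_rc_2_1 lc_c_Cert_tree lc_c_rc_8_3 lc_c_rc_16_2 lc_c_rc_17_2 lc_c_rc_15_2 lc_c_rc_28_4 lc_c_rc_8_3 lc_c_rc_15_2 lc_c_Cert_tree lc_c_Cert_tree lc_c_rc_13_0 lc_c_rc_15_2 lc_c_Cert_tree lc_c_rc_13_0 lc_c_rc_16_2) (@D3.rec (fun _ => (Cert rels S Gen.c)) lc_c_rc_8_3 lc_c_rc_15_2 lc_c_rc_2_1 lc_c_Cert_tree lc_c_rc_2_3 lc_c_rc_16_2 lc_c_rc_17_2 lc_c_rc_15_2 lc_c_rc_28_4 lc_c_rc_28_8 lc_c_rc_16_2 lc_c_Cert_tree lc_c_rc_13_0 lc_c_Cert_tree lc_c_rc_2_1 lc_c_rc_2_1 lc_c_Cert_tree lc_c_rc_17_2 lc_c_Cert_tree lc_c_rc_13_0 lc_c_rc_17_2 lc_c_Cert_tree lc_c_rc_13_0 lc_c_rc_28_4 lc_c_rc_17_2 lc_c_Cert_tree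 lc_c_rc_13_0 lc_c_Cert_tree lc_c_rc_2_1 lc_c_Cert_tree lc_c_Cert_tree lc_c_rc_13_0 lc_c_rc_16_2 lc_c_Cert_tree lc_c_rc_13_0 lc_c_rc_28_6 lc_c_rc_16_2 lc_c_rc_2_1 lc_c_rc_16_2 lc_c_rc_17_2) (@D3.rec (fun _ => (Cert rels S Gen.c)) lc_c_rc_16_2 lc_c_rc_28_2 lc_c_rc_2_1 lc_c_rc_2_1 lc_c_rc_13_0 lc_c_rc_16_2 lc_c_rc_17_2 lc_c_rc_17_2 lc_c_rc_2_1 lc_c_Cert_tree lc_c_rc_2_3 lc_c_rc_2_1 lc_c_rc_2_1 lc_c_rc_13_0 lc_c_rc_16_2 lc_c_rc_17_2 lc_c_rc_16_2 lc_c_rc_17_2 lc_c_rc_17_2 lc_c_rc_2_3 lc_c_Cert_tree lc_c_Cert_tree lc_c_rc_2_1 lc_c_rc_17_2 lc_c_rc_2_1 lc_c_rc_16_2 lc_c_rc_15_0 lc_c_rc_13_0 lc_c_rc_28_6 lc_c_rc_2_3 lc_c_rc_28_2 lc_c_rc_8_1 lc_c_rc_2_1 lc_c_rc_17_2 lc_c_Cert_tree lc_c_rc_2_1 lc_c_rc_28_8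 lc_c_Cert_tree lc_c_rc_15_2 lc_c_rc_28_8) (@D3.rec (fun _ => (Cert rels S Gen.c)) lc_c_rc_28_8 lc_c_rc_2_3 lc_c_rc_28_8 lc_c_rc_17_2 lc_c_rc_16_2 lc_c_rc_17_2 lc_c_Cert_tree lc_c_Cert_tree lc_c_rc_13_0 lc_c_rc_13_0 lc_c_rc_15_2 lc_c_rc_2_1 lc_c_rc_2_1 lc_c_Cert_tree lc_c_rc_17_2 lc_c_Cert_tree lc_c_rc_2_1 lc_c_Cert_tree lc_c_rc_13_0 lc_c_rc_17_2 lc_c_Cert_tree lc_c_rc_13_0 lc_c_rc_16_2 lc_c_rc_28_4 lc_c_rc_28_4 lc_c_rc_8_3 lc_c_rc_2_1 lc_c_rc_2_1 lc_c_rc_2_1 lc_c_rc_16_2 lc_c_rc_17_2 lc_c_Cert_tree lc_c_rc_17_2 lc_c_Cert_tree lc_c_rc_2_1 lc_c_Cert_tree lc_c_rc_28_4 lc_c_Cert_tree lc_c_rc_28_4 lc_c_Cert_tree) (@D3.rec (fun _ => (Cert rels S Gen.c)) lc_c_rc_13_0 lc_c_rc_17_2 lc_c_Cert_tree lc_c_Cert_tree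 lc_c_rc_13_0 lc_c_rc_16_2 lc_c_Cert_tree lc_c_rc_28_6 lc_c_rc_17_2 lc_c_rc_13_0 lc_c_rc_14_12 lc_c_rc_16_2 lc_c_rc_13_0 lc_c_rc_8_1 lc_c_rc_16_2 lc_c_rc_17_2 lc_c_rc_13_0 lc_c_rc_15_2 lc_c_rc_17_2 lc_c_rc_16_2 lc_c_rc_15_0 lc_c_rc_15_0 lc_c_rc_28_6 lc_c_rc_15_2 lc_c_rc_16_2 lc_c_rc_17_2 lc_c_rc_16_2 lc_c_rc_17_2 lc_c_Cert_tree lc_c_rc_17_2 lc_c_Cert_tree lc_c_rc_2_3 lc_c_Cert_tree lc_c_rc_13_0 lc_c_rc_17_2 lc_c_Cert_tree lc_c_Cert_tree lc_c_rc_13_0 lc_c_rc_16_2 lc_c_Cert_tree) (@D3.rec (fun _ => (Cert rels S Gen.c)) lc_c_Cert_tree lc_c_rc_15_2 lc_c_Cert_tree lc_c_rc_15_2 lc_c_rc_30_14 lc_c_rc_13_0 lc_c_rc_17_2 lc_c_Cert_tree lc_c_rc_2_3 lc_c_rc_13_0 lc_c_rc_16_2 lc_c_Cert_tree lc_c_rc_15_0 lc_c_rc_13_0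 lc_c_rc_17_2 lc_c_rc_28_6 lc_c_rc_17_2 lc_c_Cert_tree lc_c_rc_2_3 lc_c_Cert_tree lc_c_rc_13_0 lc_c_rc_16_2 lc_c_rc_8_5 lc_c_rc_13_0 lc_c_rc_16_2 lc_c_rc_28_6 lc_c_rc_16_2 lc_c_Cert_tree lc_c_rc_17_2 lc_c_Cert_tree lc_c_rc_13_0 lc_c_rc_17_2 lc_c_rc_8_3 lc_c_rc_28_2 lc_c_rc_13_0 lc_c_rc_15_2 lc_c_rc_17_2 lc_c_rc_8_3 lc_c_rc_2_3 lc_c_rc_8_3) (@D3.rec (fun _ => (Cert rels S Gen.c)) lc_c_rc_28_2 lc_c_rc_13_0 lc_c_rc_15_2 lc_c_rc_16_2 lc_c_rc_8_3 lc_c_rc_28_8 lc_c_Cert_tree lc_c_rc_17_2 lc_c_rc_13_0 lc_c_rc_30_6 lc_c_rc_8_3 lc_c_rc_28_6 lc_c_rc_15_2 lc_c_rc_17_2 lc_c_rc_13_0 lc_c_rc_15_2 lc_c_Cert_tree lc_c_rc_16_2 lc_c_rc_13_0 lc_c_rc_2_3 lc_c_rc_8_3 lc_c_rc_28_6 lc_c_rc_15_2 lc_c_rc_16_2 lc_c_rc_13_0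 lc_c_rc_15_2 lc_c_rc_28_2 lc_c_rc_8_3 lc_c_rc_28_8 lc_c_rc_28_8 lc_c_rc_28_2 lc_c_rc_28_2 lc_c_Cert_tree lc_c_Cert_tree lc_c_rc_16_2 lc_c_rc_17_2 lc_c_Cert_tree lc_c_rc_28_6 lc_c_Cert_tree lc_c_rc_28_2)
def ce_c_3 : D2 → D3 → (Cert rels S Gen.c) := @D2.rec (fun _ => D3 → (Cert rels S Gen.c)) (@D3.rec (fun _ => (Cert rels S Gen.c)) lc_c_Cert_tree lc_c_rc_13_0 lc_c_rc_17_2 lc_c_Cert_tree lc_c_Cert_tree lc_c_rc_13_0 lc_c_rc_16_2 lc_c_Cert_tree lc_c_rc_28_2 lc_c_rc_13_0 lc_c_rc_17_2 lc_c_Cert_tree lc_c_rc_28_2 lc_c_rc_13_0 lc_c_rc_16_2 lc_c_Cert_tree lc_c_Cert_tree lc_c_rc_13_0 lc_c_rc_17_2 lc_c_rc_8_3 lc_c_rc_17_2 lc_c_Cert_tree lc_c_rc_2_3 lc_c_Cert_tree lc_c_rc_13_0 lc_c_rc_16_2 lc_c_Cert_tree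 lc_c_rc_13_0 lc_c_rc_16_2 lc_c_rc_8_3 lc_c_rc_16_2 lc_c_Cert_tree lc_c_rc_17_2 lc_c_Cert_tree lc_c_rc_13_0 lc_c_rc_17_2 lc_c_rc_13_0 lc_c_rc_8_3 lc_c_rc_28_2 lc_c_rc_15_2) (@D3.rec (fun _ => (Cert rels S Gen.c)) lc_c_rc_28_4 lc_c_Cert_tree lc_c_rc_16_2 lc_c_Cert_tree lc_c_rc_13_0 lc_c_rc_13_0 lc_c_Cert_tree lc_c_rc_13_0 lc_c_rc_8_3 lc_c_rc_28_2 lc_c_rc_15_2 lc_c_rc_16_2 lc_c_Cert_tree lc_c_rc_17_2 lc_c_Cert_tree lc_c_rc_13_0 lc_c_rc_13_0 lc_c_Cert_tree lc_c_rc_8_3 lc_c_rc_28_6 lc_c_rc_13_0 lc_c_Cert_tree lc_c_Cert_tree lc_c_rc_13_0 lc_c_rc_8_3 lc_c_rc_28_6 lc_c_rc_13_0 lc_c_Cert_tree lc_c_Cert_tree lc_c_rc_13_0 lc_c_rc_8_3 lc_c_rc_8_3 lc_c_rc_15_0 lc_c_rc_15_0 lc_c_Cert_tree lc_c_rc_15_0 lc_c_Cert_tree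 lc_c_rc_15_0 lc_c_Cert_tree lc_c_rc_13_0) (@D3.rec (fun _ => (Cert rels S Gen.c)) lc_c_rc_17_2 lc_c_Cert_tree lc_c_rc_13_0 lc_c_rc_16_2 lc_c_Cert_tree lc_c_rc_13_0 lc_c_rc_16_2 lc_c_rc_17_2 lc_c_Cert_tree lc_c_Cert_tree lc_c_rc_13_0 lc_c_rc_16_2 lc_c_Cert_tree lc_c_rc_13_0 lc_c_rc_8_3 lc_c_rc_16_2 lc_c_Cert_tree lc_c_Cert_tree lc_c_rc_13_0 lc_c_rc_17_2 lc_c_Cert_tree lc_c_rc_13_0 lc_c_rc_16_2 lc_c_rc_17_2 lc_c_rc_8_3 lc_c_rc_28_4 lc_c_rc_17_2 lc_c_Cert_tree lc_c_rc_15_2 lc_c_rc_28_6 lc_c_Cert_tree lc_c_rc_2_1 lc_c_Cert_tree lc_c_rc_13_0 lc_c_rc_16_2 lc_c_Cert_tree lc_c_Cert_tree lc_c_rc_13_0 lc_c_rc_16_2 lc_c_rc_28_4) (@D3.rec (fun _ => (Cert rels S Gen.c)) lc_c_rc_16_2 lc_c_rc_28_6 lc_c_Cert_tree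 lc_c_rc_13_0 lc_c_rc_16_2 lc_c_rc_17_2 lc_c_rc_8_3 lc_c_rc_28_4 lc_c_rc_16_2 lc_c_Cert_tree lc_c_rc_15_2 lc_c_rc_28_6 lc_c_Cert_tree lc_c_rc_17_2 lc_c_rc_28_6 lc_c_rc_13_0 lc_c_rc_16_2 lc_c_Cert_tree lc_c_Cert_tree lc_c_rc_13_0 lc_c_rc_17_2 lc_c_rc_28_4 lc_c_rc_17_2 lc_c_rc_28_6 lc_c_rc_8_3 lc_c_rc_28_4 lc_c_rc_2_1 lc_c_rc_2_3 lc_c_rc_16_2 lc_c_rc_17_2 lc_c_rc_15_2 lc_c_rc_8_3 lc_c_rc_15_2 lc_c_rc_17_2 lc_c_rc_17_2 lc_c_Cert_tree lc_c_rc_2_3 lc_c_Cert_tree lc_c_rc_13_0 lc_c_rc_16_2) (@D3.rec (fun _ => (Cert rels S Gen.c)) lc_c_rc_8_3 lc_c_rc_13_0 lc_c_Cert_tree lc_c_rc_8_3 lc_c_rc_28_2 lc_c_rc_13_0 lc_c_rc_15_2 lc_c_rc_8_3 lc_c_rc_28_4 lc_c_rc_2_1 lc_c_rc_30_14 lc_c_rc_16_2 lc_c_rc_17_2 lc_c_rc_15_2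 lc_c_rc_8_3 lc_c_rc_15_2 lc_c_rc_16_2 lc_c_rc_16_2 lc_c_Cert_tree lc_c_rc_28_4 lc_c_Cert_tree lc_c_rc_13_0 lc_c_rc_17_2 lc_c_rc_8_3 lc_c_rc_13_0 lc_c_Cert_tree lc_c_rc_8_3 lc_c_rc_28_2 lc_c_rc_13_0 lc_c_rc_15_2 lc_c_rc_8_3 lc_c_rc_15_2 lc_c_rc_2_1 lc_c_rc_13_1 lc_c_rc_8_3 lc_c_rc_16_2 lc_c_rc_17_2 lc_c_rc_15_2 lc_c_rc_2_1 lc_c_rc_32_32) (@D3.rec (fun _ => (Cert rels S Gen.c)) lc_c_rc_17_2 lc_c_Cert_tree lc_c_rc_16_2 lc_c_Cert_tree lc_c_rc_16_2 lc_c_Cert_tree lc_c_rc_13_0 lc_c_rc_13_0 lc_c_rc_13_0 lc_c_rc_8_3 lc_c_rc_28_6 lc_c_rc_15_2 lc_c_rc_8_3 lc_c_rc_15_2 lc_c_rc_2_1 lc_c_rc_17_2 lc_c_rc_8_3 lc_c_rc_16_2 lc_c_rc_17_2 lc_c_rc_15_2 lc_c_rc_2_1 lc_c_rc_32_73 lc_c_rc_16_2 lc_c_Cert_tree lc_c_rc_17_2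 lc_c_Cert_tree lc_c_rc_17_2 lc_c_Cert_tree lc_c_rc_13_0 lc_c_rc_13_0 lc_c_rc_13_0 lc_c_rc_8_3 lc_c_rc_28_6 lc_c_rc_15_2 lc_c_rc_15_0 lc_c_rc_2_1 lc_c_rc_2_1 lc_c_rc_2_1 lc_c_rc_2_1 lc_c_rc_16_2) (@D3.rec (fun _ => (Cert rels S Gen.c)) lc_c_rc_17_2 lc_c_rc_17_2 lc_c_Cert_tree lc_c_rc_2_3 lc_c_rc_28_4 lc_c_Cert_tree lc_c_Cert_tree lc_c_rc_13_0 lc_c_rc_16_2 lc_c_rc_13_0 lc_c_rc_13_0 lc_c_Cert_tree lc_c_rc_16_2 lc_c_rc_2_1 lc_c_rc_8_3 lc_c_rc_16_2 lc_c_rc_17_2 lc_c_rc_28_4 lc_c_rc_15_0 lc_c_rc_2_1 lc_c_rc_2_1 lc_c_rc_2_1 lc_c_rc_2_1 lc_c_rc_15_2 lc_c_rc_17_2 lc_c_rc_8_3 lc_c_rc_17_2 lc_c_rc_16_2 lc_c_rc_28_4 lc_c_rc_8_3 lc_c_Cert_tree lc_c_rc_13_0 lc_c_rc_17_2 lc_c_rc_13_0 lc_c_rc_13_0 lc_c_rc_28_4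 lc_c_rc_17_2 lc_c_rc_2_1 lc_c_rc_8_3 lc_c_rc_16_2) (@D3.rec (fun _ => (Cert rels S Gen.c)) lc_c_rc_17_2 lc_c_rc_28_4 lc_c_rc_2_1 lc_c_rc_16_2 lc_c_rc_17_2 lc_c_rc_15_2 lc_c_rc_28_2 lc_c_rc_28_2 lc_c_rc_13_0 lc_c_rc_16_2 lc_c_rc_17_2 lc_c_rc_17_2 lc_c_rc_28_2 lc_c_rc_2_1 lc_c_rc_2_1 lc_c_rc_2_1 lc_c_rc_28_8 lc_c_rc_28_8 lc_c_rc_16_2 lc_c_rc_17_2 lc_c_rc_17_2 lc_c_rc_2_3 lc_c_rc_15_2 lc_c_rc_15_2 lc_c_Cert_tree lc_c_Cert_tree lc_c_rc_2_1 lc_c_rc_17_2 lc_c_rc_2_1 lc_c_rc_16_2 lc_c_rc_2_3 lc_c_rc_8_5 lc_c_rc_17_2 lc_c_rc_13_0 lc_c_rc_16_2 lc_c_rc_17_2 lc_c_Cert_tree lc_c_Cert_tree lc_c_Cert_tree lc_c_rc_15_2) (@D3.rec (fun _ => (Cert rels S Gen.c)) lc_c_rc_16_2 lc_c_rc_17_2 lc_c_rc_16_2 lc_c_rc_17_2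 lc_c_rc_15_0 lc_c_rc_17_2 lc_c_rc_15_0 lc_c_rc_2_3 lc_c_rc_2_1 lc_c_rc_17_2 lc_c_Cert_tree lc_c_rc_2_1 lc_c_rc_2_3 lc_c_Cert_tree lc_c_Cert_tree lc_c_Cert_tree lc_c_Cert_tree lc_c_rc_13_0 lc_c_rc_17_2 lc_c_Cert_tree lc_c_rc_13_0 lc_c_rc_16_2 lc_c_rc_30_10 lc_c_rc_2_1 lc_c_rc_2_1 lc_c_rc_2_1 lc_c_rc_2_1 lc_c_rc_17_2 lc_c_Cert_tree lc_c_Cert_tree lc_c_Cert_tree lc_c_rc_13_0 lc_c_rc_17_2 lc_c_Cert_tree lc_c_Cert_tree lc_c_rc_13_0 lc_c_rc_16_2 lc_c_Cert_tree lc_c_rc_15_2 lc_c_rc_15_2) (@D3.rec (fun _ => (Cert rels S Gen.c)) lc_c_rc_2_1 lc_c_rc_15_2 lc_c_rc_2_3 lc_c_rc_13_0 lc_c_rc_17_2 lc_c_Cert_tree lc_c_rc_2_3 lc_c_rc_13_0 lc_c_rc_16_2 lc_c_Cert_tree lc_c_Cert_tree lc_c_rc_13_0 lc_c_rc_17_2 lc_c_Cert_tree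 lc_c_rc_17_2 lc_c_Cert_tree lc_c_rc_2_3 lc_c_Cert_tree lc_c_rc_13_0 lc_c_rc_16_2 lc_c_Cert_tree lc_c_rc_13_0 lc_c_rc_16_2 lc_c_Cert_tree lc_c_rc_16_2 lc_c_Cert_tree lc_c_rc_17_2 lc_c_Cert_tree lc_c_rc_13_0 lc_c_rc_17_2 lc_c_rc_15_2 lc_c_rc_13_0 lc_c_Cert_tree lc_c_rc_15_2 lc_c_rc_13_0 lc_c_Cert_tree lc_c_Cert_tree lc_c_rc_13_0 lc_c_Cert_tree lc_c_rc_13_0) (@D3.rec (fun _ => (Cert rels S Gen.c)) lc_c_rc_28_2 lc_c_rc_28_2 lc_c_rc_2_3 lc_c_rc_13_0 lc_c_rc_17_2 lc_c_rc_2_3 lc_c_rc_13_0 lc_c_rc_16_2 lc_c_rc_14_6 lc_c_rc_13_0 lc_c_rc_17_2 lc_c_Cert_tree lc_c_rc_15_2 lc_c_rc_13_0 lc_c_rc_16_2 lc_c_Cert_tree lc_c_rc_2_1 lc_c_rc_13_0 lc_c_rc_28_8 lc_c_rc_17_2 lc_c_Cert_tree lc_c_Cert_tree lc_c_rc_13_0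 lc_c_rc_16_2 lc_c_rc_2_1 lc_c_rc_13_0 lc_c_rc_8_1 lc_c_rc_16_2 lc_c_Cert_tree lc_c_Cert_tree lc_c_rc_13_0 lc_c_rc_17_2 lc_c_rc_16_2 lc_c_rc_28_8 lc_c_rc_28_8 lc_c_rc_13_0 lc_c_rc_17_2 lc_c_rc_28_2 lc_c_rc_13_0 lc_c_rc_16_2) (@D3.rec (fun _ => (Cert rels S Gen.c)) lc_c_rc_15_2 lc_c_rc_13_0 lc_c_rc_17_2 lc_c_Cert_tree lc_c_rc_17_2 lc_c_rc_13_0 lc_c_rc_16_2 lc_c_Cert_tree lc_c_rc_16_2 lc_c_rc_13_0 lc_c_rc_17_2 lc_c_rc_15_0 lc_c_rc_17_2 lc_c_Cert_tree lc_c_rc_2_3 lc_c_Cert_tree lc_c_rc_13_0 lc_c_rc_16_2 lc_c_rc_17_2 lc_c_rc_13_0 lc_c_rc_16_2 lc_c_rc_32_47 lc_c_rc_16_2 lc_c_Cert_tree lc_c_rc_17_2 lc_c_Cert_tree lc_c_rc_13_0 lc_c_rc_17_2 lc_c_rc_8_3 lc_c_rc_13_0 lc_c_rc_28_6 lc_c_rc_17_2 lc_c_rc_28_6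 lc_c_Cert_tree lc_c_rc_17_2 lc_c_Cert_tree lc_c_rc_13_0 lc_c_rc_15_2 lc_c_rc_17_2 lc_c_rc_2_1) (@D3.rec (fun _ => (Cert rels S Gen.c)) lc_c_Cert_tree lc_c_rc_13_0 lc_c_rc_16_2 lc_c_Cert_tree lc_c_Cert_tree lc_c_rc_13_0 lc_c_rc_16_2 lc_c_Cert_tree lc_c_rc_16_2 lc_c_rc_17_2 lc_c_rc_2_3 lc_c_rc_13_0 lc_c_rc_16_2 lc_c_rc_28_6 lc_c_rc_8_3 lc_c_Cert_tree lc_c_rc_16_2 lc_c_Cert_tree lc_c_rc_13_0 lc_c_rc_15_2 lc_c_rc_16_2 lc_c_rc_17_2 lc_c_Cert_tree lc_c_rc_13_0 lc_c_rc_17_2 lc_c_Cert_tree lc_c_Cert_tree lc_c_rc_13_0 lc_c_rc_17_2 lc_c_Cert_tree lc_c_rc_17_2 lc_c_rc_2_3 lc_c_rc_28_8 lc_c_rc_15_2 lc_c_rc_8_3 lc_c_rc_28_2 lc_c_rc_13_0 lc_c_rc_15_2 lc_c_rc_2_3 lc_c_rc_15_2) (@D3.rec (fun _ => (Cert rels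 S Gen.c)) lc_c_rc_8_3 lc_c_rc_28_2 lc_c_rc_13_0 lc_c_rc_15_2 lc_c_rc_28_6 lc_c_Cert_tree lc_c_rc_15_2 lc_c_rc_15_0 lc_c_rc_17_2 lc_c_rc_2_1 lc_c_rc_15_0 lc_c_rc_8_3 lc_c_rc_28_6 lc_c_rc_28_2 lc_c_Cert_tree lc_c_rc_15_2 lc_c_rc_16_2 lc_c_rc_17_2 lc_c_rc_16_0 lc_c_rc_15_0 lc_c_rc_8_3 lc_c_rc_28_6 lc_c_rc_8_5 lc_c_rc_17_2 lc_c_rc_15_2 lc_c_rc_15_2 lc_c_rc_16_2 lc_c_rc_28_4 lc_c_rc_2_1 lc_c_rc_28_6 lc_c_rc_8_3 lc_c_rc_16_2 lc_c_rc_17_2 lc_c_Cert_tree lc_c_Cert_tree lc_c_rc_28_8 lc_c_rc_13_0 lc_c_rc_17_2 lc_c_rc_2_3 lc_c_rc_13_0) (@D3.rec (fun _ => (Cert rels S Gen.c)) lc_c_rc_16_2 lc_c_Cert_tree lc_c_rc_17_2 lc_c_Cert_tree lc_c_rc_2_1 lc_c_Cert_tree lc_c_rc_13_0 lc_c_rc_17_2 lc_c_Cert_tree lc_c_Cert_tree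 lc_c_rc_13_0 lc_c_rc_16_2 lc_c_Cert_tree lc_c_Cert_tree lc_c_rc_13_0 lc_c_Cert_tree lc_c_rc_17_2 lc_c_Cert_tree lc_c_Cert_tree lc_c_rc_13_0 lc_c_rc_16_2 lc_c_Cert_tree lc_c_rc_13_0 lc_c_Cert_tree lc_c_rc_16_2 lc_c_Cert_tree lc_c_Cert_tree lc_c_rc_13_0 lc_c_rc_17_2 lc_c_rc_2_1 lc_c_rc_13_0 lc_c_rc_17_2 lc_c_Cert_tree lc_c_rc_17_2 lc_c_rc_2_3 lc_c_rc_2_1 lc_c_rc_13_0 lc_c_rc_16_2 lc_c_Cert_tree lc_c_rc_16_2) (@D3.rec (fun _ => (Cert rels S Gen.c)) lc_c_rc_17_2 lc_c_rc_8_1 lc_c_rc_16_2 lc_c_rc_17_2 lc_c_rc_32_34 lc_c_Cert_tree lc_c_rc_17_2 lc_c_Cert_tree lc_c_rc_13_0 lc_c_rc_15_2 lc_c_rc_17_2 lc_c_rc_17_2 lc_c_rc_2_1 lc_c_Cert_tree lc_c_rc_8_1 lc_c_rc_16_2 lc_c_rc_17_2 lc_c_rc_32_34 lc_c_Cert_tree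 lc_c_rc_16_2 lc_c_Cert_tree lc_c_rc_13_0 lc_c_rc_15_2 lc_c_rc_16_2 lc_c_rc_16_2 lc_c_rc_17_2 lc_c_Cert_tree lc_c_rc_28_2 lc_c_Cert_tree lc_c_rc_16_2 lc_c_rc_17_2 lc_c_rc_15_2 lc_c_rc_8_3 lc_c_rc_15_2 lc_c_Cert_tree lc_c_rc_28_2 lc_c_rc_16_2 lc_c_rc_28_2 lc_c_Cert_tree lc_c_rc_16_2) (@D3.rec (fun _ => (Cert rels S Gen.c)) lc_c_rc_17_2 lc_c_rc_15_2 lc_c_rc_8_3 lc_c_rc_15_2 lc_c_Cert_tree lc_c_rc_28_2 lc_c_rc_17_2 lc_c_rc_2_1 lc_c_Cert_tree lc_c_rc_13_0 lc_c_rc_17_2 lc_c_rc_15_2 lc_c_rc_2_1 lc_c_Cert_tree lc_c_rc_16_2 lc_c_rc_17_2 lc_c_rc_15_2 lc_c_Cert_tree lc_c_Cert_tree lc_c_rc_8_3 lc_c_rc_17_2 lc_c_rc_2_3 lc_c_rc_2_1 lc_c_rc_17_2 lc_c_Cert_tree lc_c_rc_28_2 lc_c_Cert_tree lc_c_rc_8_1 lc_c_rc_17_2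 lc_c_rc_17_2 lc_c_rc_30_2 lc_c_rc_28_6 lc_c_rc_16_2 lc_c_Cert_tree lc_c_rc_13_0 lc_c_rc_16_2 lc_c_rc_17_2 lc_c_rc_8_3 lc_c_rc_28_2 lc_c_rc_13_0) (@D3.rec (fun _ => (Cert rels S Gen.c)) lc_c_rc_15_2 lc_c_rc_17_2 lc_c_Cert_tree lc_c_Cert_tree lc_c_rc_13_0 lc_c_rc_16_2 lc_c_Cert_tree lc_c_rc_13_0 lc_c_rc_16_2 lc_c_Cert_tree lc_c_rc_16_2 lc_c_rc_17_2 lc_c_Cert_tree lc_c_rc_13_0 lc_c_rc_16_2 lc_c_rc_17_2 lc_c_rc_8_3 lc_c_rc_28_2 lc_c_rc_13_0 lc_c_rc_15_2 lc_c_rc_16_2 lc_c_Cert_tree lc_c_Cert_tree lc_c_rc_13_0 lc_c_rc_17_2 lc_c_Cert_tree lc_c_rc_13_0 lc_c_rc_17_2 lc_c_Cert_tree lc_c_rc_17_2 lc_c_rc_2_3 lc_c_rc_16_2 lc_c_rc_17_2 lc_c_rc_17_2 lc_c_Cert_tree lc_c_rc_17_2 lc_c_rc_8_1 lc_c_rc_16_2 lc_c_rc_17_2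 lc_c_rc_15_2) (@D3.rec (fun _ => (Cert rels S Gen.c)) lc_c_rc_28_2 lc_c_Cert_tree lc_c_Cert_tree lc_c_rc_13_0 lc_c_rc_16_2 lc_c_rc_8_3 lc_c_rc_15_2 lc_c_rc_17_2 lc_c_rc_17_2 lc_c_rc_8_1 lc_c_rc_16_2 lc_c_rc_2_1 lc_c_rc_2_3 lc_c_Cert_tree lc_c_Cert_tree lc_c_rc_13_0 lc_c_rc_17_2 lc_c_rc_16_2 lc_c_rc_17_2 lc_c_Cert_tree lc_c_rc_17_2 lc_c_rc_17_2 lc_c_rc_8_1 lc_c_rc_16_2 lc_c_rc_17_2 lc_c_rc_15_2 lc_c_rc_28_2 lc_c_Cert_tree lc_c_Cert_tree lc_c_rc_13_0 lc_c_rc_17_2 lc_c_rc_8_3 lc_c_rc_15_2 lc_c_rc_16_2 lc_c_rc_16_2 lc_c_rc_8_1 lc_c_rc_17_2 lc_c_rc_2_1 lc_c_rc_17_2 lc_c_Cert_tree) (@D3.rec (fun _ => (Cert rels S Gen.c)) lc_c_Cert_tree lc_c_rc_13_0 lc_c_rc_16_2 lc_c_rc_15_0 lc_c_Cert_tree lc_c_rc_2_1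 lc_c_rc_2_1 lc_c_rc_13_0 lc_c_rc_15_2 lc_c_rc_8_1 lc_c_rc_17_2 lc_c_rc_17_2 lc_c_rc_17_2 lc_c_rc_2_1 lc_c_rc_15_2 lc_c_rc_8_3 lc_c_rc_2_1 lc_c_rc_16_2 lc_c_rc_2_1 lc_c_rc_8_3 lc_c_rc_16_2 lc_c_rc_17_2 lc_c_rc_28_2 lc_c_rc_17_2 lc_c_Cert_tree lc_c_Cert_tree lc_c_Cert_tree lc_c_rc_13_0 lc_c_rc_28_6 lc_c_rc_30_2 lc_c_rc_2_1 lc_c_rc_17_2 lc_c_rc_15_0 lc_c_Cert_tree lc_c_rc_2_1 lc_c_rc_2_1 lc_c_rc_13_0 lc_c_rc_15_2 lc_c_rc_16_2 lc_c_rc_15_0) (@D3.rec (fun _ => (Cert rels S Gen.c)) lc_c_rc_16_2 lc_c_rc_17_2 lc_c_rc_2_1 lc_c_rc_15_2 lc_c_rc_8_3 lc_c_rc_2_1 lc_c_rc_17_2 lc_c_rc_2_1 lc_c_rc_8_3 lc_c_rc_16_2 lc_c_rc_28_2 lc_c_rc_16_2 lc_c_Cert_tree lc_c_Cert_tree lc_c_rc_28_2 lc_c_rc_13_0 lc_c_rc_28_6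 lc_c_rc_8_3 lc_c_rc_2_1 lc_c_rc_2_1 lc_c_rc_8_3 lc_c_rc_28_4 lc_c_rc_17_2 lc_c_rc_17_0 lc_c_rc_28_8 lc_c_rc_28_2 lc_c_rc_2_1 lc_c_rc_2_1 lc_c_rc_2_1 lc_c_rc_15_2 lc_c_rc_15_0 lc_c_rc_28_6 lc_c_Cert_tree lc_c_rc_16_2 lc_c_rc_17_2 lc_c_rc_17_2 lc_c_Cert_tree lc_c_rc_2_1 lc_c_rc_28_6 lc_c_rc_15_2) (@D3.rec (fun _ => (Cert rels S Gen.c)) lc_c_Cert_tree lc_c_rc_13_0 lc_c_rc_28_6 lc_c_Cert_tree lc_c_Cert_tree lc_c_rc_13_0 lc_c_rc_16_2 lc_c_rc_13_0 lc_c_rc_13_0 lc_c_Cert_tree lc_c_rc_8_3 lc_c_Cert_tree lc_c_rc_16_2 lc_c_rc_16_0 lc_c_rc_28_8 lc_c_rc_28_2 lc_c_rc_2_1 lc_c_rc_2_1 lc_c_rc_2_1 lc_c_rc_15_2 lc_c_rc_28_6 lc_c_rc_32_27 lc_c_Cert_tree lc_c_rc_16_2 lc_c_rc_17_2 lc_c_Cert_tree lc_c_rc_17_2 lc_c_rc_2_1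 lc_c_rc_28_6 lc_c_rc_15_2 lc_c_Cert_tree lc_c_rc_13_0 lc_c_rc_28_6 lc_c_Cert_tree lc_c_Cert_tree lc_c_rc_13_0 lc_c_rc_17_2 lc_c_rc_13_0 lc_c_rc_13_0 lc_c_rc_28_4) (@D3.rec (fun _ => (Cert rels S Gen.c)) lc_c_Cert_tree lc_c_rc_28_6 lc_c_rc_17_2 lc_c_rc_17_2 lc_c_rc_2_3 lc_c_rc_13_0 lc_c_rc_15_2 lc_c_rc_16_2 lc_c_rc_17_2 lc_c_rc_2_1 lc_c_rc_15_0 lc_c_rc_13_0 lc_c_rc_2_3 lc_c_rc_17_2 lc_c_Cert_tree lc_c_Cert_tree lc_c_Cert_tree lc_c_rc_13_0 lc_c_rc_16_2 lc_c_Cert_tree lc_c_rc_17_2 lc_c_Cert_tree lc_c_Cert_tree lc_c_rc_13_0 lc_c_rc_16_2 lc_c_rc_17_0 lc_c_Cert_tree lc_c_rc_13_0 lc_c_rc_16_2 lc_c_rc_28_8 lc_c_rc_16_2 lc_c_Cert_tree lc_c_rc_28_6 lc_c_Cert_tree lc_c_rc_13_0 lc_c_rc_8_1 lc_c_rc_13_0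 lc_c_rc_16_0 lc_c_rc_13_0 lc_c_rc_8_3) (@D3.rec (fun _ => (Cert rels S Gen.c)) lc_c_rc_28_2 lc_c_rc_13_0 lc_c_rc_15_2 lc_c_rc_16_2 lc_c_rc_8_3 lc_c_rc_15_0 lc_c_Cert_tree lc_c_rc_28_6 lc_c_rc_16_2 lc_c_rc_16_2 lc_c_rc_2_3 lc_c_rc_13_0 lc_c_rc_15_2 lc_c_rc_16_2 lc_c_rc_17_2 lc_c_rc_2_1 lc_c_rc_16_0 lc_c_rc_13_0 lc_c_rc_28_2 lc_c_Cert_tree lc_c_rc_16_2 lc_c_Cert_tree lc_c_rc_13_0 lc_c_rc_17_2 lc_c_Cert_tree lc_c_rc_8_3 lc_c_rc_16_2 lc_c_Cert_tree lc_c_Cert_tree lc_c_rc_13_0 lc_c_rc_17_2 lc_c_rc_16_0 lc_c_Cert_tree lc_c_rc_13_0 lc_c_rc_17_2 lc_c_rc_28_8 lc_c_rc_17_2 lc_c_Cert_tree lc_c_rc_32_34 lc_c_Cert_tree) (@D3.rec (fun _ => (Cert rels S Gen.c)) lc_c_rc_13_0 lc_c_rc_8_1 lc_c_rc_13_0 lc_c_rc_16_0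 lc_c_rc_13_0 lc_c_rc_8_3 lc_c_rc_28_4 lc_c_rc_13_0 lc_c_rc_15_2 lc_c_rc_16_2 lc_c_rc_8_3 lc_c_rc_15_0 lc_c_rc_8_3 lc_c_rc_28_4 lc_c_rc_2_1 lc_c_Cert_tree lc_c_rc_16_2 lc_c_rc_17_2 lc_c_rc_15_2 lc_c_rc_28_4 lc_c_rc_17_0 lc_c_rc_2_1 lc_c_rc_17_2 lc_c_rc_15_0 lc_c_rc_16_2 lc_c_rc_2_1 lc_c_rc_17_2 lc_c_rc_2_3 lc_c_rc_8_3 lc_c_rc_28_4 lc_c_rc_2_1 lc_c_Cert_tree lc_c_rc_16_2 lc_c_rc_17_2 lc_c_rc_15_2 lc_c_rc_28_4 lc_c_rc_16_0 lc_c_rc_2_1 lc_c_rc_16_2 lc_c_rc_15_0) (@D3.rec (fun _ => (Cert rels S Gen.c)) lc_c_rc_2_1 lc_c_rc_17_2 lc_c_rc_17_2 lc_c_rc_2_3 lc_c_rc_13_0 lc_c_rc_16_2 lc_c_rc_17_2 lc_c_Cert_tree lc_c_Cert_tree lc_c_rc_8_1 lc_c_rc_16_2 lc_c_rc_17_2 lc_c_Cert_tree lc_c_rc_17_2 lc_c_Cert_tree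 lc_c_rc_17_0 lc_c_Cert_tree lc_c_rc_28_6 lc_c_Cert_tree lc_c_rc_28_2 lc_c_Cert_tree lc_c_rc_13_0 lc_c_rc_17_2 lc_c_Cert_tree lc_c_Cert_tree lc_c_rc_13_0 lc_c_rc_16_2 lc_c_Cert_tree lc_c_rc_28_2 lc_c_rc_8_3 lc_c_rc_16_2 lc_c_rc_17_2 lc_c_rc_28_4 lc_c_rc_28_4 lc_c_Cert_tree lc_c_Cert_tree lc_c_Cert_tree lc_c_rc_13_0 lc_c_rc_17_2 lc_c_Cert_tree)
def ce_c_4 : D2 → D3 → (Cert rels S Gen.c) := @D2.rec (fun _ => D3 → (Cert rels S Gen.c)) (@D3.rec (fun _ => (Cert rels S Gen.c)) lc_c_rc_13_0 lc_c_rc_16_2 lc_c_rc_13_1 lc_c_rc_13_0 lc_c_rc_17_2 lc_c_Cert_tree lc_c_rc_17_2 lc_c_rc_2_3 lc_c_rc_16_0 lc_c_rc_13_0 lc_c_rc_16_2 lc_c_Cert_tree lc_c_rc_16_2 lc_c_rc_17_2 lc_c_Cert_tree lc_c_rc_28_6 lc_c_Cert_tree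 lc_c_rc_28_4 lc_c_rc_13_0 lc_c_rc_17_2 lc_c_Cert_tree lc_c_rc_13_0 lc_c_rc_16_2 lc_c_Cert_tree lc_c_Cert_tree lc_c_rc_13_0 lc_c_Cert_tree lc_c_rc_17_2 lc_c_Cert_tree lc_c_Cert_tree lc_c_rc_13_0 lc_c_rc_16_2 lc_c_Cert_tree lc_c_rc_13_0 lc_c_Cert_tree lc_c_rc_16_2 lc_c_Cert_tree lc_c_Cert_tree lc_c_rc_13_0 lc_c_rc_17_2) (@D3.rec (fun _ => (Cert rels S Gen.c)) lc_c_rc_2_1 lc_c_rc_2_1 lc_c_rc_8_3 lc_c_Cert_tree lc_c_rc_13_0 lc_c_rc_15_2 lc_c_rc_17_2 lc_c_Cert_tree lc_c_Cert_tree lc_c_rc_13_0 lc_c_rc_16_2 lc_c_rc_17_0 lc_c_rc_13_0 lc_c_rc_16_2 lc_c_Cert_tree lc_c_rc_16_2 lc_c_rc_17_2 lc_c_rc_17_0 lc_c_rc_2_1 lc_c_rc_8_3 lc_c_Cert_tree lc_c_rc_13_0 lc_c_rc_2_3 lc_c_rc_16_2 lc_c_Cert_tree lc_c_Cert_tree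 lc_c_rc_13_0 lc_c_rc_17_2 lc_c_rc_17_0 lc_c_rc_13_0 lc_c_rc_17_2 lc_c_Cert_tree lc_c_rc_17_2 lc_c_rc_2_3 lc_c_rc_28_8 lc_c_rc_28_8 lc_c_rc_8_3 lc_c_rc_28_2 lc_c_rc_17_2 lc_c_Cert_tree) (@D3.rec (fun _ => (Cert rels S Gen.c)) lc_c_rc_13_0 lc_c_rc_15_2 lc_c_rc_17_2 lc_c_Cert_tree lc_c_rc_2_1 lc_c_Cert_tree lc_c_rc_13_0 lc_c_rc_16_2 lc_c_Cert_tree lc_c_rc_16_0 lc_c_rc_13_0 lc_c_rc_16_2 lc_c_Cert_tree lc_c_rc_16_2 lc_c_rc_17_2 lc_c_rc_28_8 lc_c_rc_28_8 lc_c_rc_8_3 lc_c_rc_28_2 lc_c_rc_16_2 lc_c_Cert_tree lc_c_rc_13_0 lc_c_rc_15_2 lc_c_rc_16_2 lc_c_Cert_tree lc_c_rc_17_2 lc_c_Cert_tree lc_c_rc_13_0 lc_c_rc_17_2 lc_c_Cert_tree lc_c_rc_16_0 lc_c_rc_13_0 lc_c_rc_17_2 lc_c_Cert_tree lc_c_rc_17_2 lc_c_rc_2_3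 lc_c_rc_16_2 lc_c_rc_17_2 lc_c_rc_8_3 lc_c_rc_32_32) (@D3.rec (fun _ => (Cert rels S Gen.c)) lc_c_rc_16_2 lc_c_rc_17_2 lc_c_rc_17_2 lc_c_Cert_tree lc_c_rc_2_3 lc_c_rc_8_1 lc_c_rc_28_8 lc_c_rc_15_2 lc_c_rc_17_2 lc_c_rc_13_0 lc_c_rc_15_2 lc_c_rc_17_2 lc_c_Cert_tree lc_c_Cert_tree lc_c_rc_13_0 lc_c_rc_16_2 lc_c_rc_8_3 lc_c_rc_28_6 lc_c_rc_15_2 lc_c_rc_17_2 lc_c_rc_17_2 lc_c_rc_16_0 lc_c_rc_16_2 lc_c_rc_17_2 lc_c_rc_17_2 lc_c_Cert_tree lc_c_Cert_tree lc_c_rc_13_0 lc_c_Cert_tree lc_c_rc_16_2 lc_c_Cert_tree lc_c_Cert_tree lc_c_rc_13_0 lc_c_rc_17_2 lc_c_Cert_tree lc_c_rc_13_0 lc_c_rc_16_2 lc_c_rc_17_2 lc_c_rc_8_3 lc_c_Cert_tree) (@D3.rec (fun _ => (Cert rels S Gen.c)) lc_c_rc_16_2 lc_c_Cert_tree lc_c_rc_13_0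 lc_c_rc_15_2 lc_c_rc_16_2 lc_c_rc_17_2 lc_c_Cert_tree lc_c_rc_16_2 lc_c_rc_17_2 lc_c_rc_8_3 lc_c_rc_32_32 lc_c_rc_16_2 lc_c_rc_17_2 lc_c_Cert_tree lc_c_rc_17_2 lc_c_rc_2_3 lc_c_rc_8_1 lc_c_rc_28_8 lc_c_rc_16_2 lc_c_rc_8_1 lc_c_rc_13_0 lc_c_rc_15_2 lc_c_rc_16_2 lc_c_Cert_tree lc_c_Cert_tree lc_c_rc_13_0 lc_c_rc_17_2 lc_c_rc_8_3 lc_c_rc_28_6 lc_c_rc_15_2 lc_c_rc_16_2 lc_c_rc_16_2 lc_c_rc_16_2 lc_c_rc_17_2 lc_c_rc_2_1 lc_c_rc_17_2 lc_c_Cert_tree lc_c_Cert_tree lc_c_rc_13_0 lc_c_Cert_tree) (@D3.rec (fun _ => (Cert rels S Gen.c)) lc_c_rc_17_2 lc_c_Cert_tree lc_c_Cert_tree lc_c_rc_13_0 lc_c_rc_16_2 lc_c_Cert_tree lc_c_rc_13_0 lc_c_rc_16_2 lc_c_rc_17_2 lc_c_rc_8_3 lc_c_Cert_tree lc_c_rc_17_2 lc_c_Cert_tree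 lc_c_rc_13_0 lc_c_rc_15_2 lc_c_rc_17_2 lc_c_rc_2_1 lc_c_Cert_tree lc_c_rc_2_1 lc_c_rc_8_3 lc_c_rc_16_2 lc_c_Cert_tree lc_c_rc_13_1 lc_c_rc_17_2 lc_c_rc_13_0 lc_c_rc_8_3 lc_c_Cert_tree lc_c_rc_28_2 lc_c_Cert_tree lc_c_rc_16_2 lc_c_rc_17_2 lc_c_rc_15_2 lc_c_rc_8_3 lc_c_rc_15_2 lc_c_rc_2_1 lc_c_rc_8_3 lc_c_rc_17_2 lc_c_Cert_tree lc_c_rc_2_1 lc_c_rc_2_3) (@D3.rec (fun _ => (Cert rels S Gen.c)) lc_c_rc_13_0 lc_c_rc_8_3 lc_c_Cert_tree lc_c_rc_28_2 lc_c_Cert_tree lc_c_rc_16_2 lc_c_rc_17_2 lc_c_rc_15_2 lc_c_rc_8_3 lc_c_rc_15_2 lc_c_rc_8_3 lc_c_Cert_tree lc_c_rc_13_0 lc_c_rc_8_3 lc_c_Cert_tree lc_c_rc_13_0 lc_c_rc_13_0 lc_c_rc_15_2 lc_c_rc_16_2 lc_c_rc_17_2 lc_c_Cert_tree lc_c_Cert_tree lc_c_Cert_tree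 lc_c_rc_13_0 lc_c_rc_17_2 lc_c_Cert_tree lc_c_rc_13_0 lc_c_rc_16_2 lc_c_rc_8_3 lc_c_rc_2_1 lc_c_rc_15_2 lc_c_rc_16_2 lc_c_rc_17_2 lc_c_rc_16_2 lc_c_rc_17_2 lc_c_rc_28_2 lc_c_rc_17_2 lc_c_rc_28_2 lc_c_rc_2_3 lc_c_rc_13_0) (@D3.rec (fun _ => (Cert rels S Gen.c)) lc_c_rc_17_2 lc_c_Cert_tree lc_c_rc_13_0 lc_c_rc_16_2 lc_c_Cert_tree lc_c_Cert_tree lc_c_rc_13_0 lc_c_rc_28_6 lc_c_rc_17_2 lc_c_Cert_tree lc_c_Cert_tree lc_c_rc_13_0 lc_c_rc_16_2 lc_c_Cert_tree lc_c_rc_13_0 lc_c_rc_28_8 lc_c_rc_16_2 lc_c_Cert_tree lc_c_Cert_tree lc_c_rc_13_0 lc_c_rc_17_2 lc_c_rc_15_0 lc_c_rc_13_0 lc_c_rc_16_2 lc_c_rc_17_2 lc_c_rc_8_3 lc_c_rc_28_4 lc_c_rc_17_2 lc_c_Cert_tree lc_c_rc_15_2 lc_c_rc_28_6 lc_c_rc_8_3 lc_c_rc_2_1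 lc_c_rc_2_3 lc_c_rc_13_0 lc_c_rc_16_2 lc_c_rc_16_2 lc_c_rc_8_3 lc_c_rc_28_4 lc_c_rc_16_2) (@D3.rec (fun _ => (Cert rels S Gen.c)) lc_c_Cert_tree lc_c_rc_15_2 lc_c_rc_28_6 lc_c_rc_8_3 lc_c_rc_17_2 lc_c_rc_17_2 lc_c_rc_8_3 lc_c_rc_17_2 lc_c_rc_2_1 lc_c_rc_17_2 lc_c_rc_2_1 lc_c_Cert_tree lc_c_rc_8_1 lc_c_rc_17_2 lc_c_rc_13_0 lc_c_rc_15_2 lc_c_rc_8_3 lc_c_rc_28_6 lc_c_rc_15_2 lc_c_rc_17_2 lc_c_rc_28_4 lc_c_Cert_tree lc_c_rc_13_0 lc_c_rc_16_2 lc_c_Cert_tree lc_c_rc_13_0 lc_c_Cert_tree lc_c_rc_16_2 lc_c_rc_17_2 lc_c_rc_13_0 lc_c_rc_17_2 lc_c_rc_8_3 lc_c_Cert_tree lc_c_rc_16_2 lc_c_rc_13_0 lc_c_rc_16_0 lc_c_rc_16_2 lc_c_rc_8_3 lc_c_rc_17_2 lc_c_Cert_tree) (@D3.rec (fun _ => (Cert rels S Gen.c)) lc_c_rc_2_3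 lc_c_rc_8_3 lc_c_rc_16_2 lc_c_rc_16_2 lc_c_rc_2_1 lc_c_rc_2_1 lc_c_Cert_tree lc_c_rc_16_2 lc_c_rc_17_2 lc_c_rc_13_0 lc_c_rc_15_2 lc_c_rc_8_3 lc_c_rc_28_6 lc_c_rc_15_2 lc_c_rc_16_2 lc_c_rc_28_4 lc_c_Cert_tree lc_c_rc_13_0 lc_c_rc_17_2 lc_c_Cert_tree lc_c_rc_13_0 lc_c_Cert_tree lc_c_rc_17_2 lc_c_rc_17_0 lc_c_rc_13_0 lc_c_rc_13_1 lc_c_rc_8_3 lc_c_Cert_tree lc_c_rc_17_2 lc_c_rc_13_0 lc_c_rc_8_1 lc_c_rc_17_2 lc_c_rc_8_3 lc_c_rc_2_1 lc_c_Cert_tree lc_c_Cert_tree lc_c_Cert_tree lc_c_rc_17_2 lc_c_rc_28_6 lc_c_rc_15_0) (@D3.rec (fun _ => (Cert rels S Gen.c)) lc_c_rc_17_2 lc_c_Cert_tree lc_c_rc_2_1 lc_c_Cert_tree lc_c_Cert_tree lc_c_rc_13_0 lc_c_rc_16_2 lc_c_Cert_tree lc_c_Cert_tree lc_c_rc_30_10 lc_c_rc_17_2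 lc_c_rc_13_0 lc_c_rc_15_2 lc_c_rc_16_2 lc_c_rc_17_2 lc_c_rc_17_2 lc_c_Cert_tree lc_c_rc_16_2 lc_c_rc_8_3 lc_c_rc_15_2 lc_c_rc_17_2 lc_c_rc_17_2 lc_c_rc_8_1 lc_c_Cert_tree lc_c_rc_13_0 lc_c_rc_16_2 lc_c_Cert_tree lc_c_rc_13_0 lc_c_rc_16_2 lc_c_Cert_tree lc_c_rc_16_2 lc_c_rc_15_2 lc_c_rc_28_6 lc_c_rc_28_8 lc_c_rc_17_2 lc_c_Cert_tree lc_c_rc_16_2 lc_c_Cert_tree lc_c_rc_16_2 lc_c_rc_15_0) (@D3.rec (fun _ => (Cert rels S Gen.c)) lc_c_rc_13_0 lc_c_rc_15_0 lc_c_Cert_tree lc_c_Cert_tree lc_c_rc_13_0 lc_c_Cert_tree lc_c_rc_16_2 lc_c_Cert_tree lc_c_Cert_tree lc_c_rc_13_0 lc_c_rc_17_2 lc_c_Cert_tree lc_c_rc_13_0 lc_c_rc_16_2 lc_c_rc_17_2 lc_c_rc_8_3 lc_c_Cert_tree lc_c_rc_13_0 lc_c_rc_15_2 lc_c_rc_16_2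 lc_c_Cert_tree lc_c_Cert_tree lc_c_rc_13_0 lc_c_rc_17_2 lc_c_rc_13_0 lc_c_rc_17_2 lc_c_Cert_tree lc_c_rc_17_2 lc_c_rc_2_3 lc_c_rc_13_0 lc_c_rc_16_2 lc_c_rc_17_2 lc_c_rc_8_3 lc_c_rc_8_1 lc_c_rc_16_2 lc_c_rc_17_2 lc_c_Cert_tree lc_c_rc_30_18 lc_c_rc_2_1 lc_c_Cert_tree) (@D3.rec (fun _ => (Cert rels S Gen.c)) lc_c_rc_16_2 lc_c_rc_17_2 lc_c_rc_13_0 lc_c_rc_15_2 lc_c_rc_16_2 lc_c_Cert_tree lc_c_rc_13_0 lc_c_rc_8_3 lc_c_rc_28_6 lc_c_rc_15_2 lc_c_rc_16_2 lc_c_rc_16_2 lc_c_rc_17_2 lc_c_Cert_tree lc_c_Cert_tree lc_c_rc_13_0 lc_c_rc_16_2 lc_c_Cert_tree lc_c_Cert_tree lc_c_rc_16_2 lc_c_rc_28_6 lc_c_rc_15_0 lc_c_Cert_tree lc_c_rc_17_2 lc_c_rc_2_1 lc_c_Cert_tree lc_c_rc_13_0 lc_c_rc_17_2 lc_c_Cert_tree lc_c_Cert_tree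 lc_c_rc_16_2 lc_c_rc_2_1 lc_c_rc_13_0 lc_c_rc_15_2 lc_c_rc_16_2 lc_c_rc_17_2 lc_c_Cert_tree lc_c_rc_17_2 lc_c_rc_2_3 lc_c_rc_8_3) (@D3.rec (fun _ => (Cert rels S Gen.c)) lc_c_rc_15_2 lc_c_rc_16_2 lc_c_rc_16_2 lc_c_rc_8_1 lc_c_Cert_tree lc_c_rc_13_0 lc_c_rc_17_2 lc_c_Cert_tree lc_c_rc_13_0 lc_c_Cert_tree lc_c_rc_17_2 lc_c_rc_15_2 lc_c_rc_28_6 lc_c_rc_28_8 lc_c_rc_16_2 lc_c_Cert_tree lc_c_rc_17_2 lc_c_Cert_tree lc_c_rc_17_2 lc_c_rc_28_2 lc_c_rc_13_0 lc_c_rc_28_8 lc_c_Cert_tree lc_c_Cert_tree lc_c_rc_13_0 lc_c_Cert_tree lc_c_rc_17_2 lc_c_Cert_tree lc_c_Cert_tree lc_c_rc_13_0 lc_c_rc_16_2 lc_c_Cert_tree lc_c_rc_13_0 lc_c_rc_16_2 lc_c_rc_17_2 lc_c_rc_8_3 lc_c_rc_28_2 lc_c_rc_13_0 lc_c_rc_15_2 lc_c_rc_17_2)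 (@D3.rec (fun _ => (Cert rels S Gen.c)) lc_c_Cert_tree lc_c_Cert_tree lc_c_rc_13_0 lc_c_rc_16_2 lc_c_rc_13_0 lc_c_rc_16_2 lc_c_Cert_tree lc_c_rc_16_2 lc_c_rc_17_2 lc_c_rc_13_0 lc_c_rc_16_2 lc_c_rc_16_2 lc_c_rc_8_3 lc_c_rc_2_1 lc_c_rc_16_2 lc_c_rc_17_2 lc_c_rc_30_18 lc_c_Cert_tree lc_c_rc_2_1 lc_c_Cert_tree lc_c_rc_16_2 lc_c_rc_17_2 lc_c_rc_15_2 lc_c_rc_28_2 lc_c_Cert_tree lc_c_rc_13_0 lc_c_rc_8_3 lc_c_rc_15_2 lc_c_rc_17_2 lc_c_rc_17_2 lc_c_rc_16_2 lc_c_Cert_tree lc_c_Cert_tree lc_c_rc_13_0 lc_c_rc_17_2 lc_c_Cert_tree lc_c_rc_13_0 lc_c_rc_15_0 lc_c_rc_13_0 lc_c_rc_30_10) (@D3.rec (fun _ => (Cert rels S Gen.c)) lc_c_rc_13_0 lc_c_rc_17_2 lc_c_rc_8_3 lc_c_rc_16_2 lc_c_rc_16_2 lc_c_rc_13_0 lc_c_rc_15_2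 lc_c_rc_28_6 lc_c_rc_17_2 lc_c_Cert_tree lc_c_rc_8_3 lc_c_rc_28_2 lc_c_rc_28_2 lc_c_Cert_tree lc_c_rc_16_2 lc_c_rc_17_2 lc_c_rc_13_0 lc_c_rc_15_2 lc_c_rc_17_0 lc_c_Cert_tree lc_c_rc_2_1 lc_c_rc_2_1 lc_c_rc_13_0 lc_c_rc_15_2 lc_c_rc_30_2 lc_c_rc_17_2 lc_c_rc_17_2 lc_c_rc_2_3 lc_c_rc_2_1 lc_c_rc_8_3 lc_c_rc_16_2 lc_c_rc_17_2 lc_c_rc_28_6 lc_c_Cert_tree lc_c_rc_13_0 lc_c_rc_15_0 lc_c_rc_13_0 lc_c_rc_2_3 lc_c_rc_13_0 lc_c_rc_16_2) (@D3.rec (fun _ => (Cert rels S Gen.c)) lc_c_rc_2_1 lc_c_rc_17_2 lc_c_rc_17_2 lc_c_rc_13_0 lc_c_rc_15_2 lc_c_rc_28_4 lc_c_rc_16_2 lc_c_Cert_tree lc_c_rc_8_3 lc_c_rc_28_2 lc_c_rc_28_2 lc_c_Cert_tree lc_c_rc_16_2 lc_c_rc_17_2 lc_c_rc_13_0 lc_c_rc_15_2 lc_c_rc_16_0 lc_c_Cert_tree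 lc_c_rc_2_1 lc_c_rc_2_1 lc_c_rc_13_0 lc_c_rc_15_2 lc_c_rc_16_2 lc_c_rc_30_6 lc_c_rc_17_2 lc_c_rc_2_3 lc_c_rc_2_1 lc_c_rc_8_3 lc_c_rc_16_2 lc_c_rc_17_2 lc_c_rc_28_6 lc_c_rc_2_1 lc_c_rc_16_2 lc_c_rc_17_2 lc_c_rc_13_0 lc_c_rc_13_0 lc_c_rc_8_3 lc_c_rc_28_6 lc_c_rc_15_2 lc_c_rc_13_0) (@D3.rec (fun _ => (Cert rels S Gen.c)) lc_c_rc_8_3 lc_c_rc_14_12 lc_c_rc_17_2 lc_c_rc_2_1 lc_c_rc_8_3 lc_c_rc_16_2 lc_c_rc_17_2 lc_c_rc_15_0 lc_c_Cert_tree lc_c_Cert_tree lc_c_rc_28_2 lc_c_rc_2_1 lc_c_rc_2_1 lc_c_rc_13_0 lc_c_rc_15_2 lc_c_rc_16_2 lc_c_rc_17_2 lc_c_Cert_tree lc_c_rc_16_2 lc_c_rc_17_2 lc_c_rc_28_4 lc_c_rc_2_1 lc_c_rc_16_2 lc_c_rc_13_0 lc_c_rc_13_0 lc_c_rc_8_3 lc_c_rc_28_6 lc_c_rc_15_2 lc_c_rc_13_0 lc_c_rc_8_3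 lc_c_rc_28_4 lc_c_rc_16_2 lc_c_rc_2_1 lc_c_rc_8_3 lc_c_rc_16_2 lc_c_rc_17_2 lc_c_rc_15_0 lc_c_Cert_tree lc_c_Cert_tree lc_c_rc_2_1) (@D3.rec (fun _ => (Cert rels S Gen.c)) lc_c_rc_13_0 lc_c_rc_15_2 lc_c_rc_16_2 lc_c_rc_17_2 lc_c_Cert_tree lc_c_rc_28_4 lc_c_Cert_tree lc_c_Cert_tree lc_c_Cert_tree lc_c_rc_13_0 lc_c_rc_17_2 lc_c_rc_28_4 lc_c_rc_13_0 lc_c_rc_16_2 lc_c_Cert_tree lc_c_Cert_tree lc_c_Cert_tree lc_c_rc_13_0 lc_c_Cert_tree lc_c_Cert_tree lc_c_rc_13_0 lc_c_Cert_tree lc_c_rc_17_2 lc_c_rc_16_2 lc_c_rc_13_0 lc_c_rc_8_3 lc_c_rc_15_2 lc_c_rc_17_2 lc_c_rc_8_3 lc_c_Cert_tree lc_c_rc_13_0 lc_c_rc_16_2 lc_c_rc_13_1 lc_c_rc_13_0 lc_c_rc_17_2 lc_c_Cert_tree lc_c_Cert_tree lc_c_rc_13_0 lc_c_Cert_tree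 lc_c_rc_13_0) (@D3.rec (fun _ => (Cert rels S Gen.c)) lc_c_Cert_tree lc_c_rc_16_2 lc_c_rc_17_2 lc_c_rc_13_0 lc_c_rc_8_3 lc_c_rc_15_2 lc_c_rc_17_2 lc_c_rc_8_3 lc_c_rc_2_1 lc_c_rc_2_1 lc_c_rc_17_2 lc_c_rc_2_1 lc_c_rc_28_2 lc_c_rc_28_2 lc_c_rc_16_2 lc_c_rc_17_2 lc_c_rc_17_2 lc_c_rc_2_3 lc_c_Cert_tree lc_c_Cert_tree lc_c_rc_8_1 lc_c_rc_13_0 lc_c_rc_8_3 lc_c_rc_16_2 lc_c_rc_17_2 lc_c_rc_15_2 lc_c_rc_15_2 lc_c_rc_15_2 lc_c_rc_8_1 lc_c_rc_16_2 lc_c_rc_17_2 lc_c_Cert_tree lc_c_rc_15_2 lc_c_Cert_tree lc_c_rc_15_2 lc_c_rc_2_1 lc_c_rc_17_2 lc_c_Cert_tree lc_c_rc_2_1 lc_c_rc_2_3) (@D3.rec (fun _ => (Cert rels S Gen.c)) lc_c_Cert_tree lc_c_rc_2_3 lc_c_rc_13_0 lc_c_rc_17_2 lc_c_rc_2_3 lc_c_rc_13_0 lc_c_rc_16_2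 lc_c_rc_2_1 lc_c_rc_2_1 lc_c_rc_2_1 lc_c_rc_17_2 lc_c_rc_16_2 lc_c_rc_17_2 lc_c_rc_2_3 lc_c_rc_17_2 lc_c_rc_28_6 lc_c_rc_28_2 lc_c_rc_17_0 lc_c_rc_16_2 lc_c_rc_15_2 lc_c_Cert_tree lc_c_Cert_tree lc_c_rc_13_0 lc_c_rc_16_2 lc_c_rc_16_0 lc_c_Cert_tree lc_c_Cert_tree lc_c_rc_13_0 lc_c_rc_17_2 lc_c_rc_15_2 lc_c_rc_17_2 lc_c_Cert_tree lc_c_Cert_tree lc_c_rc_15_2 lc_c_rc_2_3 lc_c_Cert_tree lc_c_Cert_tree lc_c_Cert_tree lc_c_Cert_tree lc_c_Cert_tree) (@D3.rec (fun _ => (Cert rels S Gen.c)) lc_c_rc_13_0 lc_c_rc_17_2 lc_c_Cert_tree lc_c_rc_13_0 lc_c_rc_16_2 lc_c_rc_28_4 lc_c_rc_28_4 lc_c_Cert_tree lc_c_Cert_tree lc_c_Cert_tree lc_c_rc_13_0 lc_c_rc_17_2 lc_c_Cert_tree lc_c_rc_13_0 lc_c_rc_16_2 lc_c_rc_28_6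 lc_c_rc_13_0 lc_c_rc_17_2 lc_c_rc_28_4 lc_c_rc_17_2 lc_c_rc_2_3 lc_c_rc_28_6 lc_c_rc_13_0 lc_c_rc_16_2 lc_c_rc_8_3 lc_c_rc_16_2 lc_c_rc_17_2 lc_c_rc_15_2 lc_c_rc_15_2 lc_c_rc_16_2 lc_c_rc_17_2 lc_c_Cert_tree lc_c_rc_17_2 lc_c_Cert_tree lc_c_rc_28_2 lc_c_Cert_tree lc_c_rc_13_0 lc_c_rc_17_2 lc_c_Cert_tree lc_c_Cert_tree) (@D3.rec (fun _ => (Cert rels S Gen.c)) lc_c_rc_13_0 lc_c_rc_16_2 lc_c_Cert_tree lc_c_rc_28_2 lc_c_rc_13_0 lc_c_rc_17_2 lc_c_rc_2_3 lc_c_rc_28_2 lc_c_rc_13_0 lc_c_rc_16_2 lc_c_rc_16_0 lc_c_rc_13_1 lc_c_rc_13_0 lc_c_rc_17_2 lc_c_rc_8_3 lc_c_rc_17_2 lc_c_Cert_tree lc_c_rc_2_3 lc_c_Cert_tree lc_c_rc_13_0 lc_c_rc_16_2 lc_c_rc_15_2 lc_c_rc_13_0 lc_c_rc_16_2 lc_c_rc_8_3 lc_c_rc_16_2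 lc_c_Cert_tree lc_c_rc_17_2 lc_c_Cert_tree lc_c_rc_13_0 lc_c_rc_17_2 lc_c_rc_15_2 lc_c_rc_28_6 lc_c_rc_8_3 lc_c_rc_17_2 lc_c_rc_15_2 lc_c_rc_16_2 lc_c_rc_8_3 lc_c_rc_28_4 lc_c_rc_17_2) (@D3.rec (fun _ => (Cert rels S Gen.c)) lc_c_rc_2_1 lc_c_rc_15_2 lc_c_rc_15_2 lc_c_rc_28_6 lc_c_rc_28_6 lc_c_rc_32_21 lc_c_rc_16_2 lc_c_rc_17_2 lc_c_rc_16_2 lc_c_rc_17_2 lc_c_rc_17_2 lc_c_rc_2_1 lc_c_rc_2_1 lc_c_rc_2_1 lc_c_rc_15_2 lc_c_rc_13_0 lc_c_rc_17_2 lc_c_rc_8_1 lc_c_rc_15_2 lc_c_rc_13_0 lc_c_rc_16_2 lc_c_rc_8_1 lc_c_rc_8_1 lc_c_rc_13_0 lc_c_rc_17_2 lc_c_Cert_tree lc_c_Cert_tree lc_c_rc_13_0 lc_c_rc_16_2 lc_c_rc_15_0 lc_c_rc_13_0 lc_c_rc_16_2 lc_c_Cert_tree lc_c_Cert_tree lc_c_rc_13_0 lc_c_rc_17_2 lc_c_rc_16_2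 lc_c_rc_13_0 lc_c_rc_28_8 lc_c_rc_28_6) (@D3.rec (fun _ => (Cert rels S Gen.c)) lc_c_rc_17_2 lc_c_rc_13_0 lc_c_rc_17_2 lc_c_rc_28_6 lc_c_rc_2_3 lc_c_rc_17_2 lc_c_Cert_tree lc_c_rc_17_2 lc_c_rc_8_5 lc_c_rc_13_0 lc_c_rc_16_2 lc_c_rc_2_3 lc_c_rc_16_2 lc_c_Cert_tree lc_c_rc_16_2 lc_c_rc_15_2 lc_c_rc_13_0 lc_c_rc_17_2 lc_c_rc_15_0 lc_c_rc_15_0 lc_c_rc_8_3 lc_c_rc_17_2 lc_c_Cert_tree lc_c_rc_28_4 lc_c_rc_28_6 lc_c_rc_8_3 lc_c_rc_2_1 lc_c_Cert_tree lc_c_rc_13_0 lc_c_rc_16_2 lc_c_Cert_tree lc_c_Cert_tree lc_c_rc_13_0 lc_c_rc_16_2 lc_c_Cert_tree lc_c_rc_16_2 lc_c_rc_17_2 lc_c_rc_16_2 lc_c_rc_8_3 lc_c_rc_28_4) (@D3.rec (fun _ => (Cert rels S Gen.c)) lc_c_rc_16_2 lc_c_Cert_tree lc_c_rc_28_4 lc_c_rc_8_5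 lc_c_rc_16_2 lc_c_rc_17_2 lc_c_Cert_tree lc_c_rc_13_0 lc_c_rc_17_2 lc_c_Cert_tree lc_c_Cert_tree lc_c_rc_13_0 lc_c_rc_17_2 lc_c_Cert_tree lc_c_rc_17_2 lc_c_rc_2_3 lc_c_rc_2_1 lc_c_rc_17_2 lc_c_rc_15_2 lc_c_rc_32_3 lc_c_rc_15_2 lc_c_rc_17_2 lc_c_rc_17_2 lc_c_rc_8_1 lc_c_rc_2_1 lc_c_rc_16_2 lc_c_rc_15_2 lc_c_rc_2_1 lc_c_rc_16_2 lc_c_rc_15_2 lc_c_rc_8_3 lc_c_rc_15_2 lc_c_rc_16_2 lc_c_rc_16_2 lc_c_rc_8_1 lc_c_rc_2_1 lc_c_rc_8_1 lc_c_rc_2_3 lc_c_rc_13_0 lc_c_rc_32_29)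
def ce_c_5 : D2 → D3 → (Cert rels S Gen.c) := @D2.rec (fun _ => D3 → (Cert rels S Gen.c)) (@D3.rec (fun _ => (Cert rels S Gen.c)) lc_c_rc_17_2 lc_c_rc_15_2 lc_c_rc_2_1 lc_c_rc_8_3 lc_c_rc_8_3 lc_c_rc_15_2 lc_c_rc_13_0 lc_c_rc_2_1 lc_c_rc_16_2 lc_c_rc_15_2 lc_c_rc_28_4 lc_c_rc_8_3 lc_c_rc_8_3 lc_c_rc_15_2 lc_c_rc_28_8 lc_c_rc_28_2 lc_c_rc_28_2 lc_c_rc_16_2 lc_c_rc_17_2 lc_c_Cert_tree lc_c_rc_28_8 lc_c_Cert_tree lc_c_rc_28_2 lc_c_Cert_tree lc_c_Cert_tree lc_c_Cert_tree lc_c_rc_13_0 lc_c_rc_17_2 lc_c_Cert_tree lc_c_rc_13_0 lc_c_rc_16_2 lc_c_Cert_tree lc_c_Cert_tree lc_c_rc_28_2 lc_c_rc_13_0 lc_c_rc_28_8 lc_c_Cert_tree lc_c_rc_28_2 lc_c_rc_13_0 lc_c_rc_28_2) (@D3.rec (fun _ => (Cert rels S Gen.c))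 lc_c_Cert_tree lc_c_Cert_tree lc_c_rc_13_0 lc_c_rc_16_2 lc_c_rc_17_2 lc_c_Cert_tree lc_c_Cert_tree lc_c_rc_13_0 lc_c_rc_16_2 lc_c_Cert_tree lc_c_rc_13_0 lc_c_rc_17_2 lc_c_rc_16_2 lc_c_Cert_tree lc_c_Cert_tree lc_c_rc_13_0 lc_c_rc_17_2 lc_c_rc_8_3 lc_c_rc_28_2 lc_c_rc_17_2 lc_c_Cert_tree lc_c_rc_28_2 lc_c_rc_16_0 lc_c_rc_13_0 lc_c_rc_16_2 lc_c_rc_8_3 lc_c_rc_28_2 lc_c_rc_16_2 lc_c_Cert_tree lc_c_rc_28_8 lc_c_rc_16_0 lc_c_rc_13_0 lc_c_rc_17_2 lc_c_Cert_tree lc_c_rc_13_0 lc_c_rc_16_2 lc_c_rc_17_2 lc_c_rc_8_3 lc_c_rc_14_10 lc_c_rc_17_2) (@D3.rec (fun _ => (Cert rels S Gen.c)) lc_c_Cert_tree lc_c_rc_15_2 lc_c_rc_17_2 lc_c_Cert_tree lc_c_rc_2_1 lc_c_Cert_tree lc_c_rc_13_0 lc_c_rc_16_2 lc_c_Cert_tree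 lc_c_Cert_tree lc_c_rc_13_0 lc_c_rc_16_2 lc_c_rc_28_6 lc_c_rc_16_2 lc_c_rc_28_4 lc_c_Cert_tree lc_c_rc_13_0 lc_c_rc_16_2 lc_c_rc_17_2 lc_c_rc_8_3 lc_c_rc_14_10 lc_c_rc_16_2 lc_c_Cert_tree lc_c_rc_15_2 lc_c_rc_16_2 lc_c_Cert_tree lc_c_rc_17_2 lc_c_Cert_tree lc_c_rc_13_0 lc_c_rc_17_2 lc_c_Cert_tree lc_c_Cert_tree lc_c_rc_13_0 lc_c_rc_17_2 lc_c_rc_28_6 lc_c_rc_17_2 lc_c_rc_28_4 lc_c_rc_8_3 lc_c_rc_28_4 lc_c_rc_16_0) (@D3.rec (fun _ => (Cert rels S Gen.c)) lc_c_Cert_tree lc_c_rc_16_2 lc_c_rc_17_2 lc_c_rc_15_2 lc_c_rc_15_2 lc_c_Cert_tree lc_c_rc_28_4 lc_c_Cert_tree lc_c_rc_13_0 lc_c_rc_16_2 lc_c_rc_8_3 lc_c_rc_13_0 lc_c_Cert_tree lc_c_rc_8_3 lc_c_rc_28_2 lc_c_rc_13_0 lc_c_rc_15_2 lc_c_rc_8_3 lc_c_rc_28_4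 lc_c_rc_28_2 lc_c_Cert_tree lc_c_rc_16_2 lc_c_rc_17_2 lc_c_rc_15_2 lc_c_rc_16_2 lc_c_Cert_tree lc_c_rc_17_2 lc_c_Cert_tree lc_c_rc_13_0 lc_c_rc_17_2 lc_c_rc_8_3 lc_c_rc_13_0 lc_c_Cert_tree lc_c_rc_8_3 lc_c_rc_28_2 lc_c_rc_13_0 lc_c_rc_15_2 lc_c_rc_2_1 lc_c_rc_32_70 lc_c_rc_17_2) (@D3.rec (fun _ => (Cert rels S Gen.c)) lc_c_rc_15_2 lc_c_rc_8_3 lc_c_Cert_tree lc_c_rc_13_0 lc_c_rc_13_0 lc_c_rc_8_3 lc_c_rc_28_6 lc_c_rc_2_1 lc_c_rc_15_2 lc_c_rc_16_2 lc_c_rc_15_2 lc_c_rc_8_3 lc_c_Cert_tree lc_c_rc_13_0 lc_c_rc_13_0 lc_c_rc_8_3 lc_c_rc_28_6 lc_c_rc_13_1 lc_c_rc_16_0 lc_c_rc_15_0 lc_c_rc_13_0 lc_c_rc_17_2 lc_c_Cert_tree lc_c_rc_8_1 lc_c_rc_13_0 lc_c_rc_16_2 lc_c_Cert_tree lc_c_Cert_tree lc_c_rc_13_0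 lc_c_rc_17_2 lc_c_rc_17_2 lc_c_rc_17_2 lc_c_Cert_tree lc_c_rc_13_0 lc_c_rc_16_2 lc_c_rc_16_2 lc_c_rc_16_2 lc_c_rc_2_3 lc_c_rc_13_0 lc_c_rc_16_2) (@D3.rec (fun _ => (Cert rels S Gen.c)) lc_c_rc_17_2 lc_c_rc_30_6 lc_c_rc_28_6 lc_c_Cert_tree lc_c_rc_28_2 lc_c_rc_13_0 lc_c_rc_28_6 lc_c_Cert_tree lc_c_rc_13_0 lc_c_rc_16_2 lc_c_rc_8_5 lc_c_rc_16_2 lc_c_rc_28_2 lc_c_rc_16_0 lc_c_rc_13_0 lc_c_rc_16_2 lc_c_rc_16_0 lc_c_rc_15_2 lc_c_rc_28_4 lc_c_Cert_tree lc_c_rc_28_2 lc_c_rc_13_0 lc_c_rc_28_6 lc_c_Cert_tree lc_c_rc_13_0 lc_c_rc_17_2 lc_c_rc_28_4 lc_c_rc_17_2 lc_c_rc_28_2 lc_c_rc_13_0 lc_c_rc_16_2 lc_c_rc_17_2 lc_c_rc_8_3 lc_c_rc_30_6 lc_c_rc_16_2 lc_c_rc_17_2 lc_c_rc_17_2 lc_c_Cert_tree lc_c_rc_17_2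 lc_c_rc_8_3) (@D3.rec (fun _ => (Cert rels S Gen.c)) lc_c_rc_16_2 lc_c_rc_17_2 lc_c_rc_15_2 lc_c_rc_28_4 lc_c_Cert_tree lc_c_Cert_tree lc_c_rc_13_0 lc_c_rc_16_2 lc_c_rc_15_2 lc_c_Cert_tree lc_c_rc_28_4 lc_c_Cert_tree lc_c_rc_13_0 lc_c_rc_16_2 lc_c_Cert_tree lc_c_Cert_tree lc_c_rc_13_0 lc_c_rc_28_8 lc_c_rc_16_2 lc_c_Cert_tree lc_c_Cert_tree lc_c_rc_13_0 lc_c_rc_17_2 lc_c_rc_13_1 lc_c_rc_13_0 lc_c_rc_8_1 lc_c_rc_17_2 lc_c_rc_13_0 lc_c_rc_16_0 lc_c_rc_16_2 lc_c_rc_28_6 lc_c_rc_28_8 lc_c_rc_28_6 lc_c_rc_13_0 lc_c_rc_16_2 lc_c_rc_17_2 lc_c_rc_8_3 lc_c_rc_28_6 lc_c_rc_16_2 lc_c_rc_17_2) (@D3.rec (fun _ => (Cert rels S Gen.c)) lc_c_Cert_tree lc_c_rc_17_2 lc_c_rc_17_2 lc_c_rc_8_3 lc_c_rc_16_2 lc_c_rc_17_2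 lc_c_rc_15_2 lc_c_rc_28_4 lc_c_Cert_tree lc_c_Cert_tree lc_c_rc_13_0 lc_c_rc_17_2 lc_c_rc_15_2 lc_c_Cert_tree lc_c_rc_28_6 lc_c_Cert_tree lc_c_rc_13_0 lc_c_rc_17_2 lc_c_Cert_tree lc_c_Cert_tree lc_c_Cert_tree lc_c_Cert_tree lc_c_rc_13_0 lc_c_rc_16_2 lc_c_rc_30_2 lc_c_rc_13_0 lc_c_rc_16_2 lc_c_rc_30_2 lc_c_rc_8_3 lc_c_rc_17_2 lc_c_rc_17_2 lc_c_rc_28_8 lc_c_rc_28_8 lc_c_rc_2_1 lc_c_Cert_tree lc_c_rc_16_2 lc_c_rc_17_2 lc_c_rc_15_2 lc_c_rc_8_5 lc_c_rc_2_1) (@D3.rec (fun _ => (Cert rels S Gen.c)) lc_c_rc_2_1 lc_c_rc_15_2 lc_c_rc_17_2 lc_c_rc_17_2 lc_c_rc_2_3 lc_c_rc_15_2 lc_c_rc_30_10 lc_c_rc_17_2 lc_c_rc_32_73 lc_c_rc_17_2 lc_c_rc_16_2 lc_c_Cert_tree lc_c_rc_15_2 lc_c_rc_8_3 lc_c_rc_13_0 lc_c_rc_8_1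 lc_c_Cert_tree lc_c_rc_28_2 lc_c_rc_13_0 lc_c_rc_16_2 lc_c_Cert_tree lc_c_rc_16_2 lc_c_rc_16_2 lc_c_rc_17_2 lc_c_rc_2_1 lc_c_rc_17_2 lc_c_rc_8_3 lc_c_rc_28_2 lc_c_rc_13_0 lc_c_rc_15_2 lc_c_rc_2_1 lc_c_rc_28_8 lc_c_rc_16_2 lc_c_rc_17_2 lc_c_rc_15_2 lc_c_rc_28_8 lc_c_rc_15_2 lc_c_rc_2_1 lc_c_Cert_tree lc_c_rc_16_2) (@D3.rec (fun _ => (Cert rels S Gen.c)) lc_c_rc_17_2 lc_c_rc_15_2 lc_c_rc_2_1 lc_c_rc_2_1 lc_c_rc_2_1 lc_c_rc_30_14 lc_c_rc_2_1 lc_c_rc_17_2 lc_c_rc_2_3 lc_c_rc_15_2 lc_c_rc_16_2 lc_c_rc_16_0 lc_c_rc_15_2 lc_c_rc_16_2 lc_c_rc_2_3 lc_c_Cert_tree lc_c_rc_15_2 lc_c_rc_17_2 lc_c_rc_13_0 lc_c_rc_17_2 lc_c_Cert_tree lc_c_rc_28_2 lc_c_rc_13_0 lc_c_rc_17_2 lc_c_Cert_tree lc_c_rc_17_2 lc_c_rc_17_2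 lc_c_rc_16_2 lc_c_rc_2_1 lc_c_rc_16_2 lc_c_rc_8_3 lc_c_rc_28_2 lc_c_rc_13_0 lc_c_rc_15_2 lc_c_rc_2_1 lc_c_rc_28_2 lc_c_rc_16_2 lc_c_rc_17_2 lc_c_rc_15_2 lc_c_rc_2_3) (@D3.rec (fun _ => (Cert rels S Gen.c)) lc_c_rc_15_2 lc_c_rc_2_1 lc_c_rc_15_2 lc_c_rc_8_5 lc_c_rc_32_6 lc_c_rc_15_0 lc_c_rc_16_2 lc_c_rc_2_1 lc_c_rc_2_1 lc_c_rc_2_1 lc_c_rc_15_2 lc_c_rc_17_2 lc_c_rc_17_2 lc_c_rc_17_2 lc_c_rc_15_2 lc_c_rc_2_1 lc_c_rc_32_75 lc_c_rc_2_1 lc_c_rc_16_2 lc_c_rc_17_2 lc_c_rc_16_0 lc_c_rc_16_2 lc_c_rc_16_2 lc_c_rc_13_0 lc_c_rc_17_2 lc_c_rc_16_2 lc_c_rc_13_0 lc_c_rc_13_0 lc_c_rc_2_3 lc_c_rc_8_3 lc_c_rc_28_6 lc_c_rc_8_3 lc_c_rc_2_1 lc_c_rc_8_3 lc_c_rc_8_3 lc_c_rc_16_2 lc_c_rc_17_2 lc_c_rc_15_2 lc_c_rc_2_1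 lc_c_rc_15_2) (@D3.rec (fun _ => (Cert rels S Gen.c)) lc_c_rc_8_5 lc_c_rc_13_0 lc_c_rc_15_0 lc_c_rc_17_2 lc_c_rc_2_1 lc_c_rc_2_1 lc_c_rc_2_1 lc_c_rc_17_2 lc_c_rc_28_8 lc_c_rc_16_2 lc_c_rc_15_2 lc_c_rc_15_2 lc_c_rc_28_6 lc_c_rc_16_2 lc_c_rc_17_2 lc_c_rc_2_3 lc_c_rc_13_0 lc_c_rc_28_6 lc_c_rc_17_2 lc_c_rc_13_0 lc_c_rc_13_0 lc_c_rc_14_12 lc_c_rc_8_3 lc_c_rc_28_6 lc_c_rc_15_2 lc_c_rc_2_1 lc_c_rc_8_3 lc_c_rc_8_3 lc_c_rc_16_2 lc_c_rc_17_2 lc_c_rc_15_2 lc_c_rc_15_0 lc_c_rc_28_8 lc_c_rc_17_2 lc_c_rc_16_2 lc_c_rc_2_1 lc_c_Cert_tree lc_c_rc_2_1 lc_c_rc_28_8 lc_c_rc_8_1) (@D3.rec (fun _ => (Cert rels S Gen.c)) lc_c_Cert_tree lc_c_Cert_tree lc_c_rc_13_0 lc_c_rc_8_1 lc_c_Cert_tree lc_c_rc_28_2 lc_c_rc_13_0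 lc_c_rc_2_1 lc_c_rc_30_10 lc_c_rc_13_0 lc_c_rc_2_3 lc_c_Cert_tree lc_c_rc_16_2 lc_c_rc_15_0 lc_c_rc_14_4 lc_c_rc_8_3 lc_c_rc_28_4 lc_c_rc_13_0 lc_c_rc_15_2 lc_c_rc_28_6 lc_c_rc_8_3 lc_c_rc_28_2 lc_c_rc_2_1 lc_c_rc_2_1 lc_c_rc_2_1 lc_c_Cert_tree lc_c_rc_16_2 lc_c_rc_17_2 lc_c_rc_2_3 lc_c_rc_16_2 lc_c_rc_15_0 lc_c_rc_28_8 lc_c_rc_16_2 lc_c_rc_16_2 lc_c_rc_28_6 lc_c_Cert_tree lc_c_rc_2_1 lc_c_rc_16_2 lc_c_rc_28_8 lc_c_Cert_tree) (@D3.rec (fun _ => (Cert rels S Gen.c)) lc_c_Cert_tree lc_c_rc_15_2 lc_c_rc_2_1 lc_c_rc_30_18 lc_c_rc_13_0 lc_c_rc_2_3 lc_c_Cert_tree lc_c_rc_17_2 lc_c_rc_28_4 lc_c_rc_2_3 lc_c_rc_8_3 lc_c_rc_15_2 lc_c_rc_28_6 lc_c_rc_8_3 lc_c_rc_17_0 lc_c_rc_2_1 lc_c_rc_2_1 lc_c_rc_2_1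 lc_c_Cert_tree lc_c_rc_16_2 lc_c_rc_17_2 lc_c_rc_17_2 lc_c_rc_2_3 lc_c_rc_2_1 lc_c_rc_2_1 lc_c_rc_17_2 lc_c_rc_2_1 lc_c_rc_15_2 lc_c_rc_15_2 lc_c_rc_2_3 lc_c_rc_28_6 lc_c_rc_28_6 lc_c_rc_16_2 lc_c_rc_17_2 lc_c_rc_17_2 lc_c_rc_2_3 lc_c_Cert_tree lc_c_Cert_tree lc_c_rc_8_5 lc_c_rc_17_2) (@D3.rec (fun _ => (Cert rels S Gen.c)) lc_c_Cert_tree lc_c_Cert_tree lc_c_rc_8_3 lc_c_rc_28_8 lc_c_rc_16_0 lc_c_rc_28_2 lc_c_rc_2_1 lc_c_rc_17_2 lc_c_Cert_tree lc_c_rc_2_1 lc_c_rc_2_3 lc_c_Cert_tree lc_c_rc_2_1 lc_c_rc_2_1 lc_c_rc_30_14 lc_c_rc_13_0 lc_c_rc_17_2 lc_c_rc_16_0 lc_c_rc_13_0 lc_c_rc_16_2 lc_c_rc_32_34 lc_c_rc_2_1 lc_c_rc_2_1 lc_c_rc_2_1 lc_c_rc_2_1 lc_c_rc_17_2 lc_c_rc_14_4 lc_c_rc_17_2 lc_c_Cert_tree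 lc_c_Cert_tree lc_c_rc_8_3 lc_c_rc_28_4 lc_c_rc_16_2 lc_c_rc_17_2 lc_c_rc_13_0 lc_c_rc_17_2 lc_c_rc_13_0 lc_c_rc_16_2 lc_c_rc_13_0 lc_c_rc_13_0) (@D3.rec (fun _ => (Cert rels S Gen.c)) lc_c_rc_16_2 lc_c_rc_17_2 lc_c_rc_16_2 lc_c_rc_17_2 lc_c_rc_17_2 lc_c_rc_2_1 lc_c_rc_28_6 lc_c_rc_17_2 lc_c_rc_28_6 lc_c_rc_2_3 lc_c_rc_15_0 lc_c_Cert_tree lc_c_rc_2_3 lc_c_Cert_tree lc_c_Cert_tree lc_c_Cert_tree lc_c_rc_13_0 lc_c_rc_16_2 lc_c_Cert_tree lc_c_Cert_tree lc_c_rc_13_0 lc_c_rc_17_2 lc_c_Cert_tree lc_c_rc_13_0 lc_c_rc_17_2 lc_c_Cert_tree lc_c_rc_13_0 lc_c_rc_16_2 lc_c_rc_28_6 lc_c_rc_13_0 lc_c_rc_17_2 lc_c_rc_17_2 lc_c_rc_16_2 lc_c_rc_8_1 lc_c_rc_13_0 lc_c_rc_16_2 lc_c_rc_16_2 lc_c_rc_17_2 lc_c_rc_2_1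 lc_c_rc_2_1) (@D3.rec (fun _ => (Cert rels S Gen.c)) lc_c_Cert_tree lc_c_Cert_tree lc_c_rc_2_1 lc_c_rc_2_1 lc_c_Cert_tree lc_c_Cert_tree lc_c_rc_2_3 lc_c_rc_13_0 lc_c_rc_13_1 lc_c_rc_2_3 lc_c_rc_13_0 lc_c_rc_16_2 lc_c_rc_2_1 lc_c_rc_13_0 lc_c_Cert_tree lc_c_rc_17_2 lc_c_Cert_tree lc_c_Cert_tree lc_c_rc_13_0 lc_c_rc_16_2 lc_c_rc_15_2 lc_c_rc_13_0 lc_c_Cert_tree lc_c_rc_16_2 lc_c_Cert_tree lc_c_Cert_tree lc_c_rc_13_0 lc_c_rc_17_2 lc_c_rc_17_2 lc_c_rc_17_0 lc_c_rc_2_1 lc_c_rc_17_0 lc_c_rc_8_3 lc_c_rc_2_3 lc_c_Cert_tree lc_c_rc_17_2 lc_c_Cert_tree lc_c_rc_28_8 lc_c_rc_17_0 lc_c_rc_13_0) (@D3.rec (fun _ => (Cert rels S Gen.c)) lc_c_rc_28_8 lc_c_rc_8_3 lc_c_rc_17_0 lc_c_Cert_tree lc_c_rc_16_2 lc_c_Cert_tree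 lc_c_rc_28_8 lc_c_rc_17_0 lc_c_rc_13_0 lc_c_rc_8_1 lc_c_rc_28_2 lc_c_rc_13_0 lc_c_rc_28_8 lc_c_rc_17_2 lc_c_rc_16_0 lc_c_Cert_tree lc_c_rc_17_2 lc_c_Cert_tree lc_c_rc_13_0 lc_c_rc_15_2 lc_c_rc_17_2 lc_c_rc_2_1 lc_c_Cert_tree lc_c_rc_13_0 lc_c_rc_16_2 lc_c_Cert_tree lc_c_Cert_tree lc_c_rc_13_0 lc_c_rc_16_2 lc_c_Cert_tree lc_c_rc_16_2 lc_c_rc_17_2 lc_c_rc_2_3 lc_c_rc_13_0 lc_c_rc_16_2 lc_c_rc_28_8 lc_c_rc_15_2 lc_c_Cert_tree lc_c_rc_16_2 lc_c_Cert_tree) (@D3.rec (fun _ => (Cert rels S Gen.c)) lc_c_rc_13_0 lc_c_rc_15_2 lc_c_rc_16_2 lc_c_rc_17_2 lc_c_Cert_tree lc_c_rc_13_0 lc_c_rc_17_2 lc_c_Cert_tree lc_c_Cert_tree lc_c_rc_13_0 lc_c_rc_17_2 lc_c_Cert_tree lc_c_rc_17_2 lc_c_rc_2_3 lc_c_rc_8_3 lc_c_rc_28_2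 lc_c_rc_13_0 lc_c_rc_15_2 lc_c_rc_8_3 lc_c_rc_28_2 lc_c_rc_13_0 lc_c_rc_15_2 lc_c_rc_13_0 lc_c_rc_8_3 lc_c_rc_28_6 lc_c_rc_13_0 lc_c_rc_8_3 lc_c_rc_28_6 lc_c_rc_28_8 lc_c_rc_28_8 lc_c_rc_17_2 lc_c_rc_30_14 lc_c_rc_17_2 lc_c_Cert_tree lc_c_rc_2_3 lc_c_rc_13_0 lc_c_rc_16_2 lc_c_rc_16_2 lc_c_Cert_tree lc_c_rc_2_3) (@D3.rec (fun _ => (Cert rels S Gen.c)) lc_c_rc_13_0 lc_c_rc_17_2 lc_c_rc_17_2 lc_c_rc_16_2 lc_c_rc_28_4 lc_c_rc_15_2 lc_c_rc_28_8 lc_c_Cert_tree lc_c_Cert_tree lc_c_rc_13_0 lc_c_rc_16_2 lc_c_Cert_tree lc_c_rc_13_0 lc_c_rc_16_2 lc_c_Cert_tree lc_c_rc_16_2 lc_c_rc_17_2 lc_c_rc_16_2 lc_c_rc_16_0 lc_c_rc_17_2 lc_c_rc_8_1 lc_c_rc_16_2 lc_c_Cert_tree lc_c_Cert_tree lc_c_rc_13_0 lc_c_rc_17_2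 lc_c_Cert_tree lc_c_rc_13_0 lc_c_rc_17_2 lc_c_Cert_tree lc_c_rc_17_2 lc_c_rc_2_3 lc_c_rc_28_2 lc_c_rc_28_2 lc_c_rc_17_2 lc_c_rc_17_2 lc_c_rc_28_2 lc_c_rc_16_2 lc_c_rc_16_2 lc_c_rc_17_2) (@D3.rec (fun _ => (Cert rels S Gen.c)) lc_c_Cert_tree lc_c_Cert_tree lc_c_rc_13_0 lc_c_rc_16_2 lc_c_rc_17_2 lc_c_rc_16_2 lc_c_Cert_tree lc_c_Cert_tree lc_c_rc_13_0 lc_c_rc_17_2 lc_c_rc_17_2 lc_c_rc_16_0 lc_c_rc_8_5 lc_c_rc_17_2 lc_c_Cert_tree lc_c_rc_2_1 lc_c_Cert_tree lc_c_rc_13_0 lc_c_rc_16_2 lc_c_rc_8_3 lc_c_Cert_tree lc_c_rc_13_0 lc_c_rc_16_2 lc_c_Cert_tree lc_c_rc_16_2 lc_c_rc_8_3 lc_c_rc_16_2 lc_c_rc_15_0 lc_c_rc_8_5 lc_c_rc_16_2 lc_c_Cert_tree lc_c_rc_17_2 lc_c_Cert_tree lc_c_rc_13_0 lc_c_rc_17_2 lc_c_rc_8_3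 lc_c_Cert_tree lc_c_rc_13_0 lc_c_rc_17_2 lc_c_Cert_tree) (@D3.rec (fun _ => (Cert rels S Gen.c)) lc_c_rc_17_2 lc_c_rc_15_2 lc_c_rc_8_3 lc_c_rc_17_2 lc_c_rc_28_6 lc_c_rc_2_1 lc_c_rc_17_2 lc_c_rc_13_0 lc_c_rc_15_2 lc_c_rc_28_4 lc_c_Cert_tree lc_c_rc_2_3 lc_c_rc_13_0 lc_c_rc_16_2 lc_c_rc_15_2 lc_c_rc_17_2 lc_c_rc_17_2 lc_c_rc_28_4 lc_c_Cert_tree lc_c_Cert_tree lc_c_rc_13_0 lc_c_Cert_tree lc_c_rc_16_2 lc_c_rc_17_2 lc_c_Cert_tree lc_c_rc_13_0 lc_c_rc_17_2 lc_c_rc_2_3 lc_c_rc_13_0 lc_c_rc_16_2 lc_c_rc_17_2 lc_c_rc_8_3 lc_c_Cert_tree lc_c_rc_16_2 lc_c_rc_2_1 lc_c_rc_13_0 lc_c_rc_15_2 lc_c_rc_28_4 lc_c_rc_17_2 lc_c_Cert_tree) (@D3.rec (fun _ => (Cert rels S Gen.c)) lc_c_rc_28_6 lc_c_rc_16_2 lc_c_rc_2_1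 lc_c_rc_15_0 lc_c_rc_13_0 lc_c_rc_13_0 lc_c_rc_15_2 lc_c_rc_16_2 lc_c_Cert_tree lc_c_rc_13_1 lc_c_rc_13_0 lc_c_rc_17_2 lc_c_rc_15_2 lc_c_rc_16_2 lc_c_rc_16_2 lc_c_rc_28_4 lc_c_Cert_tree lc_c_Cert_tree lc_c_rc_13_0 lc_c_Cert_tree lc_c_rc_17_2 lc_c_rc_16_2 lc_c_Cert_tree lc_c_rc_13_0 lc_c_rc_16_2 lc_c_rc_8_1 lc_c_rc_13_0 lc_c_rc_16_2 lc_c_rc_17_2 lc_c_rc_8_3 lc_c_Cert_tree lc_c_rc_17_2 lc_c_rc_2_1 lc_c_rc_13_0 lc_c_rc_15_2 lc_c_rc_30_6 lc_c_rc_2_1 lc_c_Cert_tree lc_c_rc_16_2 lc_c_rc_28_6) (@D3.rec (fun _ => (Cert rels S Gen.c)) lc_c_rc_2_1 lc_c_rc_17_0 lc_c_rc_16_2 lc_c_rc_17_2 lc_c_rc_15_2 lc_c_rc_8_3 lc_c_rc_15_2 lc_c_rc_17_2 lc_c_rc_28_6 lc_c_rc_2_1 lc_c_rc_28_2 lc_c_rc_16_2 lc_c_rc_17_2 lc_c_rc_15_2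 lc_c_rc_8_3 lc_c_rc_15_2 lc_c_Cert_tree lc_c_rc_28_2 lc_c_rc_13_0 lc_c_rc_15_2 lc_c_rc_15_0 lc_c_rc_17_2 lc_c_rc_16_0 lc_c_rc_28_6 lc_c_rc_2_1 lc_c_Cert_tree lc_c_rc_16_2 lc_c_rc_17_2 lc_c_rc_15_2 lc_c_Cert_tree lc_c_rc_28_2 lc_c_rc_13_0 lc_c_rc_15_2 lc_c_rc_16_2 lc_c_rc_32_42 lc_c_rc_17_0 lc_c_rc_28_6 lc_c_rc_2_1 lc_c_Cert_tree lc_c_rc_16_2) (@D3.rec (fun _ => (Cert rels S Gen.c)) lc_c_rc_17_2 lc_c_rc_15_2 lc_c_Cert_tree lc_c_Cert_tree lc_c_Cert_tree lc_c_rc_15_2 lc_c_Cert_tree lc_c_rc_15_2 lc_c_rc_2_1 lc_c_Cert_tree lc_c_rc_28_2 lc_c_Cert_tree lc_c_rc_2_1 lc_c_rc_16_2 lc_c_rc_17_2 lc_c_Cert_tree lc_c_Cert_tree lc_c_Cert_tree lc_c_rc_13_0 lc_c_rc_17_2 lc_c_Cert_tree lc_c_rc_13_0 lc_c_rc_16_2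 lc_c_rc_8_1 lc_c_rc_17_2 lc_c_Cert_tree lc_c_rc_17_2 lc_c_rc_16_0 lc_c_rc_28_6 lc_c_Cert_tree lc_c_rc_16_2 lc_c_rc_13_0 lc_c_rc_8_5 lc_c_Cert_tree lc_c_rc_13_0 lc_c_rc_16_2 lc_c_Cert_tree lc_c_Cert_tree lc_c_rc_13_0 lc_c_Cert_tree) (@D3.rec (fun _ => (Cert rels S Gen.c)) lc_c_rc_17_2 lc_c_Cert_tree lc_c_Cert_tree lc_c_rc_13_0 lc_c_rc_16_2 lc_c_Cert_tree lc_c_rc_13_0 lc_c_Cert_tree lc_c_rc_16_2 lc_c_Cert_tree lc_c_Cert_tree lc_c_rc_13_0 lc_c_rc_17_2 lc_c_Cert_tree lc_c_rc_13_0 lc_c_rc_16_2 lc_c_rc_17_2 lc_c_rc_8_3 lc_c_Cert_tree lc_c_rc_13_0 lc_c_rc_15_2 lc_c_rc_17_2 lc_c_Cert_tree lc_c_Cert_tree lc_c_rc_13_0 lc_c_rc_16_2 lc_c_Cert_tree lc_c_rc_13_0 lc_c_rc_16_2 lc_c_Cert_tree lc_c_rc_16_2 lc_c_rc_17_2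 lc_c_Cert_tree lc_c_rc_13_0 lc_c_rc_16_2 lc_c_rc_17_2 lc_c_rc_8_3 lc_c_Cert_tree lc_c_rc_13_0 lc_c_rc_15_2)
def ce_c_6 : D2 → D3 → (Cert rels S Gen.c) := @D2.rec (fun _ => D3 → (Cert rels S Gen.c)) (@D3.rec (fun _ => (Cert rels S Gen.c)) lc_c_rc_16_2 lc_c_Cert_tree lc_c_Cert_tree lc_c_rc_13_0 lc_c_rc_17_2 lc_c_Cert_tree lc_c_rc_13_0 lc_c_rc_17_2 lc_c_Cert_tree lc_c_rc_17_2 lc_c_rc_2_3 lc_c_rc_15_2 lc_c_rc_15_2 lc_c_rc_14_4 lc_c_rc_28_2 lc_c_rc_17_2 lc_c_Cert_tree lc_c_rc_13_0 lc_c_rc_15_2 lc_c_rc_17_2 lc_c_rc_8_3 lc_c_rc_2_1 lc_c_Cert_tree lc_c_rc_15_2 lc_c_rc_15_2 lc_c_rc_14_4 lc_c_rc_28_2 lc_c_rc_16_2 lc_c_Cert_tree lc_c_rc_13_0 lc_c_rc_15_2 lc_c_rc_16_2 lc_c_rc_8_3 lc_c_rc_17_2 lc_c_Cert_tree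 lc_c_rc_16_2 lc_c_rc_17_2 lc_c_rc_17_2 lc_c_rc_17_2 lc_c_rc_17_2) (@D3.rec (fun _ => (Cert rels S Gen.c)) lc_c_rc_14_10 lc_c_rc_16_2 lc_c_rc_17_2 lc_c_rc_13_0 lc_c_rc_15_2 lc_c_rc_17_2 lc_c_Cert_tree lc_c_rc_16_2 lc_c_rc_13_0 lc_c_rc_13_1 lc_c_rc_28_6 lc_c_rc_15_2 lc_c_rc_17_2 lc_c_rc_17_2 lc_c_Cert_tree lc_c_rc_16_2 lc_c_rc_28_2 lc_c_rc_28_2 lc_c_Cert_tree lc_c_Cert_tree lc_c_rc_13_0 lc_c_rc_17_2 lc_c_rc_16_2 lc_c_rc_17_2 lc_c_rc_8_1 lc_c_rc_17_2 lc_c_rc_17_2 lc_c_rc_14_10 lc_c_rc_16_2 lc_c_rc_17_2 lc_c_rc_13_0 lc_c_rc_15_2 lc_c_rc_16_2 lc_c_Cert_tree lc_c_rc_13_1 lc_c_rc_13_0 lc_c_rc_17_2 lc_c_rc_28_6 lc_c_rc_15_2 lc_c_rc_16_2) (@D3.rec (fun _ => (Cert rels S Gen.c)) lc_c_rc_16_2 lc_c_Cert_tree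 lc_c_rc_17_2 lc_c_rc_28_2 lc_c_rc_17_2 lc_c_Cert_tree lc_c_Cert_tree lc_c_rc_13_0 lc_c_rc_16_2 lc_c_rc_32_34 lc_c_Cert_tree lc_c_rc_2_1 lc_c_rc_28_2 lc_c_rc_13_0 lc_c_rc_15_2 lc_c_rc_16_2 lc_c_rc_17_2 lc_c_rc_17_2 lc_c_rc_17_2 lc_c_rc_2_1 lc_c_rc_2_1 lc_c_rc_16_2 lc_c_Cert_tree lc_c_Cert_tree lc_c_rc_13_0 lc_c_rc_16_2 lc_c_rc_15_2 lc_c_rc_28_2 lc_c_rc_17_2 lc_c_rc_32_34 lc_c_Cert_tree lc_c_rc_28_2 lc_c_rc_2_1 lc_c_rc_13_0 lc_c_rc_15_2 lc_c_rc_16_2 lc_c_rc_17_2 lc_c_rc_16_2 lc_c_rc_17_2 lc_c_rc_2_1) (@D3.rec (fun _ => (Cert rels S Gen.c)) lc_c_rc_2_1 lc_c_rc_17_2 lc_c_Cert_tree lc_c_Cert_tree lc_c_rc_13_0 lc_c_rc_17_2 lc_c_rc_15_2 lc_c_rc_28_2 lc_c_rc_28_2 lc_c_rc_28_8 lc_c_Cert_tree lc_c_rc_30_10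 lc_c_rc_17_2 lc_c_rc_13_0 lc_c_rc_15_2 lc_c_rc_16_2 lc_c_rc_17_2 lc_c_rc_17_2 lc_c_rc_17_0 lc_c_rc_2_1 lc_c_Cert_tree lc_c_rc_2_1 lc_c_rc_2_1 lc_c_rc_13_0 lc_c_rc_15_2 lc_c_rc_16_2 lc_c_rc_17_2 lc_c_rc_17_2 lc_c_rc_2_1 lc_c_rc_13_0 lc_c_rc_17_2 lc_c_rc_13_0 lc_c_rc_16_2 lc_c_rc_2_1 lc_c_rc_17_2 lc_c_Cert_tree lc_c_rc_2_1 lc_c_rc_28_2 lc_c_Cert_tree lc_c_rc_28_6) (@D3.rec (fun _ => (Cert rels S Gen.c)) lc_c_rc_13_0 lc_c_rc_28_6 lc_c_rc_13_0 lc_c_rc_17_2 lc_c_rc_28_8 lc_c_rc_13_0 lc_c_rc_8_3 lc_c_rc_28_6 lc_c_rc_16_2 lc_c_rc_17_2 lc_c_rc_17_2 lc_c_rc_2_3 lc_c_rc_2_1 lc_c_Cert_tree lc_c_rc_16_2 lc_c_rc_17_2 lc_c_rc_15_2 lc_c_rc_15_2 lc_c_rc_17_2 lc_c_rc_17_2 lc_c_rc_28_6 lc_c_Cert_tree lc_c_rc_13_0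 lc_c_rc_16_2 lc_c_Cert_tree lc_c_rc_13_0 lc_c_rc_28_8 lc_c_rc_16_2 lc_c_rc_13_0 lc_c_rc_8_3 lc_c_rc_28_4 lc_c_rc_16_2 lc_c_rc_13_0 lc_c_rc_15_2 lc_c_rc_16_2 lc_c_rc_17_2 lc_c_rc_13_0 lc_c_rc_8_3 lc_c_rc_28_6 lc_c_rc_16_2) (@D3.rec (fun _ => (Cert rels S Gen.c)) lc_c_rc_17_2 lc_c_rc_17_2 lc_c_rc_2_3 lc_c_rc_30_2 lc_c_Cert_tree lc_c_rc_16_2 lc_c_rc_13_0 lc_c_rc_15_2 lc_c_rc_15_2 lc_c_rc_16_2 lc_c_rc_16_2 lc_c_rc_14_10 lc_c_Cert_tree lc_c_rc_13_0 lc_c_rc_17_2 lc_c_Cert_tree lc_c_rc_13_0 lc_c_rc_28_4 lc_c_rc_17_2 lc_c_rc_13_0 lc_c_rc_8_3 lc_c_rc_28_4 lc_c_rc_17_2 lc_c_rc_13_0 lc_c_rc_8_5 lc_c_rc_17_2 lc_c_rc_2_1 lc_c_rc_28_6 lc_c_rc_13_0 lc_c_rc_17_2 lc_c_rc_8_1 lc_c_rc_17_2 lc_c_rc_2_1 lc_c_rc_15_2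 lc_c_Cert_tree lc_c_rc_2_3 lc_c_rc_13_0 lc_c_rc_16_2 lc_c_Cert_tree lc_c_rc_13_0) (@D3.rec (fun _ => (Cert rels S Gen.c)) lc_c_rc_30_14 lc_c_Cert_tree lc_c_rc_16_2 lc_c_rc_2_1 lc_c_rc_8_3 lc_c_rc_17_2 lc_c_Cert_tree lc_c_rc_17_2 lc_c_rc_16_2 lc_c_rc_8_1 lc_c_rc_16_2 lc_c_rc_28_6 lc_c_rc_8_1 lc_c_rc_17_0 lc_c_Cert_tree lc_c_Cert_tree lc_c_rc_13_0 lc_c_rc_17_2 lc_c_rc_13_0 lc_c_rc_28_8 lc_c_rc_17_2 lc_c_rc_17_2 lc_c_rc_2_3 lc_c_rc_13_0 lc_c_rc_8_1 lc_c_rc_16_2 lc_c_rc_16_2 lc_c_rc_15_2 lc_c_Cert_tree lc_c_rc_2_3 lc_c_rc_13_0 lc_c_rc_17_2 lc_c_Cert_tree lc_c_rc_13_0 lc_c_Cert_tree lc_c_rc_17_2 lc_c_rc_2_1 lc_c_rc_8_3 lc_c_rc_16_2 lc_c_Cert_tree) (@D3.rec (fun _ => (Cert rels S Gen.c)) lc_c_rc_16_2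 lc_c_rc_17_2 lc_c_rc_8_1 lc_c_rc_17_2 lc_c_rc_28_4 lc_c_rc_15_0 lc_c_rc_2_3 lc_c_Cert_tree lc_c_Cert_tree lc_c_rc_13_0 lc_c_rc_16_2 lc_c_rc_13_0 lc_c_rc_16_0 lc_c_rc_16_2 lc_c_rc_28_2 lc_c_rc_17_2 lc_c_rc_13_0 lc_c_rc_15_2 lc_c_rc_32_29 lc_c_rc_17_2 lc_c_rc_2_1 lc_c_rc_28_6 lc_c_rc_15_2 lc_c_rc_17_2 lc_c_rc_15_2 lc_c_rc_17_2 lc_c_rc_17_2 lc_c_rc_17_2 lc_c_rc_16_2 lc_c_rc_2_3 lc_c_rc_2_1 lc_c_rc_17_0 lc_c_rc_16_2 lc_c_rc_8_3 lc_c_rc_30_14 lc_c_rc_2_1 lc_c_rc_28_6 lc_c_rc_17_2 lc_c_Cert_tree lc_c_rc_15_0) (@D3.rec (fun _ => (Cert rels S Gen.c)) lc_c_rc_28_6 lc_c_Cert_tree lc_c_Cert_tree lc_c_rc_13_0 lc_c_rc_30_10 lc_c_Cert_tree lc_c_rc_13_0 lc_c_rc_28_2 lc_c_Cert_tree lc_c_rc_13_0 lc_c_rc_28_6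 lc_c_rc_16_2 lc_c_rc_16_0 lc_c_Cert_tree lc_c_rc_16_2 lc_c_rc_13_0 lc_c_rc_15_2 lc_c_rc_16_2 lc_c_rc_13_1 lc_c_rc_8_3 lc_c_rc_30_2 lc_c_rc_15_2 lc_c_rc_16_2 lc_c_rc_16_2 lc_c_rc_13_1 lc_c_rc_8_1 lc_c_rc_17_2 lc_c_rc_16_2 lc_c_rc_2_1 lc_c_rc_28_6 lc_c_rc_16_0 lc_c_rc_16_2 lc_c_rc_8_3 lc_c_rc_2_1 lc_c_rc_16_0 lc_c_rc_2_1 lc_c_rc_16_2 lc_c_Cert_tree lc_c_rc_8_1 lc_c_rc_28_6) (@D3.rec (fun _ => (Cert rels S Gen.c)) lc_c_Cert_tree lc_c_Cert_tree lc_c_rc_13_0 lc_c_rc_16_0 lc_c_rc_30_14 lc_c_rc_13_0 lc_c_rc_28_2 lc_c_Cert_tree lc_c_rc_17_0 lc_c_rc_30_2 lc_c_Cert_tree lc_c_Cert_tree lc_c_rc_17_2 lc_c_rc_15_2 lc_c_rc_8_1 lc_c_rc_2_1 lc_c_rc_2_3 lc_c_rc_13_0 lc_c_rc_16_2 lc_c_rc_16_2 lc_c_rc_28_8 lc_c_rc_15_2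 lc_c_rc_28_2 lc_c_rc_2_3 lc_c_rc_2_1 lc_c_Cert_tree lc_c_rc_28_4 lc_c_rc_15_2 lc_c_rc_15_0 lc_c_rc_16_0 lc_c_rc_13_0 lc_c_rc_16_2 lc_c_rc_17_2 lc_c_rc_17_2 lc_c_Cert_tree lc_c_rc_28_2 lc_c_rc_16_2 lc_c_Cert_tree lc_c_rc_13_0 lc_c_rc_16_2) (@D3.rec (fun _ => (Cert rels S Gen.c)) lc_c_Cert_tree lc_c_rc_28_6 lc_c_Cert_tree lc_c_rc_13_0 lc_c_rc_30_10 lc_c_Cert_tree lc_c_Cert_tree lc_c_rc_13_0 lc_c_rc_16_2 lc_c_rc_13_0 lc_c_rc_16_2 lc_c_Cert_tree lc_c_rc_16_2 lc_c_rc_17_2 lc_c_rc_28_6 lc_c_rc_15_2 lc_c_rc_28_4 lc_c_rc_13_0 lc_c_rc_15_2 lc_c_Cert_tree lc_c_rc_16_2 lc_c_rc_15_2 lc_c_rc_8_1 lc_c_rc_17_0 lc_c_rc_17_2 lc_c_rc_13_0 lc_c_rc_28_4 lc_c_rc_28_8 lc_c_rc_28_4 lc_c_rc_15_2 lc_c_rc_28_2 lc_c_rc_13_1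 lc_c_rc_2_1 lc_c_Cert_tree lc_c_rc_15_2 lc_c_rc_15_2 lc_c_rc_16_2 lc_c_rc_16_2 lc_c_rc_13_0 lc_c_rc_16_2) (@D3.rec (fun _ => (Cert rels S Gen.c)) lc_c_rc_14_4 lc_c_Cert_tree lc_c_rc_28_6 lc_c_Cert_tree lc_c_rc_13_0 lc_c_rc_17_2 lc_c_rc_28_6 lc_c_Cert_tree lc_c_rc_13_0 lc_c_rc_17_2 lc_c_Cert_tree lc_c_Cert_tree lc_c_rc_13_0 lc_c_rc_17_2 lc_c_rc_13_0 lc_c_Cert_tree lc_c_rc_17_2 lc_c_rc_2_3 lc_c_rc_14_12 lc_c_rc_15_2 lc_c_rc_15_2 lc_c_rc_8_1 lc_c_rc_13_0 lc_c_rc_17_2 lc_c_Cert_tree lc_c_Cert_tree lc_c_rc_17_2 lc_c_Cert_tree lc_c_rc_17_2 lc_c_rc_17_2 lc_c_rc_17_2 lc_c_rc_17_2 lc_c_rc_2_3 lc_c_rc_8_1 lc_c_rc_28_2 lc_c_rc_16_2 lc_c_rc_28_6 lc_c_rc_8_3 lc_c_rc_8_1 lc_c_rc_28_2) (@D3.rec (fun _ => (Cert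 rels S Gen.c)) lc_c_rc_13_0 lc_c_rc_16_2 lc_c_rc_2_3 lc_c_rc_13_0 lc_c_rc_8_1 lc_c_Cert_tree lc_c_rc_13_0 lc_c_rc_28_8 lc_c_rc_16_2 lc_c_rc_8_3 lc_c_Cert_tree lc_c_rc_13_0 lc_c_Cert_tree lc_c_Cert_tree lc_c_rc_13_0 lc_c_rc_16_2 lc_c_rc_2_3 lc_c_rc_13_0 lc_c_rc_16_2 lc_c_rc_17_0 lc_c_rc_16_2 lc_c_rc_2_3 lc_c_rc_2_1 lc_c_rc_8_1 lc_c_rc_15_2 lc_c_rc_13_0 lc_c_rc_2_3 lc_c_rc_17_2 lc_c_rc_15_0 lc_c_rc_28_4 lc_c_rc_16_2 lc_c_Cert_tree lc_c_rc_28_8 lc_c_rc_16_2 lc_c_rc_17_2 lc_c_rc_13_0 lc_c_rc_17_2 lc_c_rc_28_4 lc_c_rc_13_0 lc_c_rc_2_1) (@D3.rec (fun _ => (Cert rels S Gen.c)) lc_c_rc_16_2 lc_c_rc_8_3 lc_c_rc_16_0 lc_c_rc_16_0 lc_c_rc_8_3 lc_c_rc_16_0 lc_c_rc_2_1 lc_c_rc_28_6 lc_c_rc_16_2 lc_c_rc_17_2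 lc_c_rc_15_2 lc_c_rc_28_2 lc_c_rc_15_2 lc_c_rc_16_2 lc_c_Cert_tree lc_c_rc_2_1 lc_c_rc_17_2 lc_c_rc_8_1 lc_c_rc_13_0 lc_c_rc_16_2 lc_c_rc_13_1 lc_c_Cert_tree lc_c_rc_16_2 lc_c_Cert_tree lc_c_rc_16_2 lc_c_rc_16_2 lc_c_rc_13_1 lc_c_rc_17_2 lc_c_rc_17_2 lc_c_rc_16_0 lc_c_rc_30_6 lc_c_rc_17_2 lc_c_rc_13_1 lc_c_rc_8_3 lc_c_rc_28_2 lc_c_rc_13_0 lc_c_rc_17_2 lc_c_Cert_tree lc_c_rc_13_0 lc_c_rc_28_8) (@D3.rec (fun _ => (Cert rels S Gen.c)) lc_c_rc_17_2 lc_c_rc_30_2 lc_c_Cert_tree lc_c_rc_13_0 lc_c_rc_28_2 lc_c_rc_8_1 lc_c_Cert_tree lc_c_Cert_tree lc_c_rc_13_0 lc_c_rc_17_2 lc_c_rc_15_2 lc_c_rc_13_0 lc_c_rc_17_2 lc_c_rc_28_8 lc_c_rc_17_2 lc_c_rc_17_2 lc_c_rc_17_0 lc_c_rc_8_1 lc_c_rc_2_3 lc_c_rc_13_0 lc_c_rc_16_2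 lc_c_rc_30_6 lc_c_rc_8_3 lc_c_rc_28_4 lc_c_rc_17_2 lc_c_Cert_tree lc_c_rc_13_1 lc_c_rc_8_3 lc_c_rc_16_2 lc_c_rc_13_0 lc_c_rc_16_2 lc_c_rc_28_6 lc_c_rc_13_0 lc_c_rc_2_1 lc_c_rc_17_2 lc_c_rc_15_2 lc_c_rc_16_0 lc_c_rc_16_0 lc_c_rc_8_3 lc_c_rc_16_2) (@D3.rec (fun _ => (Cert rels S Gen.c)) lc_c_rc_2_1 lc_c_rc_28_2 lc_c_rc_16_2 lc_c_rc_17_2 lc_c_rc_15_2 lc_c_rc_28_2 lc_c_rc_15_2 lc_c_rc_16_2 lc_c_Cert_tree lc_c_rc_2_1 lc_c_rc_16_2 lc_c_rc_2_1 lc_c_rc_8_3 lc_c_rc_17_2 lc_c_rc_15_2 lc_c_rc_28_4 lc_c_rc_2_1 lc_c_rc_13_0 lc_c_rc_28_4 lc_c_rc_28_4 lc_c_rc_17_2 lc_c_rc_17_2 lc_c_rc_2_1 lc_c_rc_15_2 lc_c_rc_28_6 lc_c_rc_2_1 lc_c_rc_16_2 lc_c_rc_15_0 lc_c_rc_15_0 lc_c_Cert_tree lc_c_Cert_tree lc_c_rc_8_1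 lc_c_rc_2_1 lc_c_rc_2_1 lc_c_rc_16_2 lc_c_rc_15_2 lc_c_rc_28_4 lc_c_rc_2_1 lc_c_rc_13_0 lc_c_rc_28_6) (@D3.rec (fun _ => (Cert rels S Gen.c)) lc_c_rc_16_2 lc_c_rc_28_4 lc_c_rc_17_2 lc_c_rc_2_1 lc_c_rc_15_2 lc_c_rc_28_6 lc_c_rc_2_1 lc_c_rc_17_2 lc_c_rc_15_0 lc_c_rc_2_1 lc_c_Cert_tree lc_c_rc_8_1 lc_c_Cert_tree lc_c_Cert_tree lc_c_rc_13_0 lc_c_rc_17_2 lc_c_Cert_tree lc_c_rc_13_0 lc_c_rc_16_2 lc_c_Cert_tree lc_c_rc_17_2 lc_c_Cert_tree lc_c_rc_28_2 lc_c_rc_13_0 lc_c_rc_17_2 lc_c_Cert_tree lc_c_rc_13_0 lc_c_rc_16_2 lc_c_Cert_tree lc_c_Cert_tree lc_c_rc_13_0 lc_c_rc_17_2 lc_c_Cert_tree lc_c_Cert_tree lc_c_rc_13_0 lc_c_rc_16_2 lc_c_Cert_tree lc_c_rc_8_1 lc_c_rc_13_0 lc_c_rc_30_10) (@D3.rec (fun _ =>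 (Cert rels S Gen.c)) lc_c_rc_17_2 lc_c_Cert_tree lc_c_Cert_tree lc_c_rc_13_0 lc_c_rc_16_2 lc_c_rc_16_2 lc_c_rc_13_0 lc_c_rc_32_27 lc_c_rc_16_2 lc_c_Cert_tree lc_c_Cert_tree lc_c_rc_13_0 lc_c_rc_17_2 lc_c_rc_8_3 lc_c_rc_2_1 lc_c_rc_28_2 lc_c_rc_28_2 lc_c_rc_16_2 lc_c_rc_17_2 lc_c_Cert_tree lc_c_rc_17_2 lc_c_Cert_tree lc_c_rc_28_8 lc_c_Cert_tree lc_c_Cert_tree lc_c_Cert_tree lc_c_rc_13_0 lc_c_rc_17_2 lc_c_Cert_tree lc_c_rc_13_0 lc_c_rc_16_2 lc_c_rc_28_4 lc_c_rc_13_0 lc_c_rc_17_2 lc_c_Cert_tree lc_c_rc_17_2 lc_c_rc_2_3 lc_c_rc_28_4 lc_c_rc_13_0 lc_c_rc_16_2) (@D3.rec (fun _ => (Cert rels S Gen.c)) lc_c_Cert_tree lc_c_rc_16_2 lc_c_rc_17_2 lc_c_rc_16_2 lc_c_rc_17_2 lc_c_rc_8_3 lc_c_Cert_tree lc_c_rc_17_2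 lc_c_Cert_tree lc_c_rc_13_0 lc_c_rc_32_16 lc_c_rc_17_2 lc_c_rc_8_3 lc_c_rc_2_1 lc_c_rc_13_1 lc_c_rc_16_2 lc_c_rc_8_3 lc_c_Cert_tree lc_c_rc_16_2 lc_c_Cert_tree lc_c_rc_13_0 lc_c_rc_32_16 lc_c_rc_16_2 lc_c_rc_8_3 lc_c_rc_17_2 lc_c_rc_13_0 lc_c_rc_17_2 lc_c_rc_13_0 lc_c_rc_8_3 lc_c_Cert_tree lc_c_rc_17_2 lc_c_Cert_tree lc_c_Cert_tree lc_c_rc_13_0 lc_c_Cert_tree lc_c_rc_16_2 lc_c_Cert_tree lc_c_Cert_tree lc_c_rc_13_0 lc_c_rc_13_0) (@D3.rec (fun _ => (Cert rels S Gen.c)) lc_c_rc_16_2 lc_c_rc_17_2 lc_c_rc_13_0 lc_c_rc_15_2 lc_c_rc_17_2 lc_c_Cert_tree lc_c_Cert_tree lc_c_rc_13_0 lc_c_rc_16_2 lc_c_Cert_tree lc_c_rc_13_0 lc_c_rc_16_2 lc_c_Cert_tree lc_c_rc_16_2 lc_c_rc_17_2 lc_c_rc_13_0 lc_c_rc_16_2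 lc_c_rc_17_2 lc_c_rc_13_0 lc_c_rc_2_1 lc_c_rc_16_2 lc_c_Cert_tree lc_c_Cert_tree lc_c_rc_13_0 lc_c_rc_17_2 lc_c_Cert_tree lc_c_rc_13_0 lc_c_rc_17_2 lc_c_Cert_tree lc_c_rc_17_2 lc_c_rc_2_3 lc_c_rc_28_2 lc_c_rc_17_2 lc_c_rc_28_2 lc_c_rc_16_0 lc_c_rc_15_2 lc_c_rc_17_2 lc_c_rc_13_0 lc_c_rc_15_2 lc_c_rc_14_10) (@D3.rec (fun _ => (Cert rels S Gen.c)) lc_c_rc_17_2 lc_c_rc_17_2 lc_c_Cert_tree lc_c_rc_13_0 lc_c_rc_16_2 lc_c_Cert_tree lc_c_rc_13_0 lc_c_Cert_tree lc_c_rc_16_2 lc_c_rc_8_1 lc_c_rc_17_0 lc_c_Cert_tree lc_c_rc_16_2 lc_c_rc_13_0 lc_c_rc_15_2 lc_c_rc_16_2 lc_c_rc_8_3 lc_c_rc_17_2 lc_c_Cert_tree lc_c_rc_16_2 lc_c_rc_28_2 lc_c_rc_15_2 lc_c_rc_28_8 lc_c_rc_16_2 lc_c_rc_17_2 lc_c_rc_13_0 lc_c_rc_15_2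 lc_c_rc_14_10 lc_c_rc_16_2 lc_c_rc_2_3 lc_c_Cert_tree lc_c_rc_13_0 lc_c_rc_17_2 lc_c_Cert_tree lc_c_rc_13_0 lc_c_Cert_tree lc_c_rc_17_2 lc_c_rc_17_2 lc_c_rc_8_3 lc_c_Cert_tree) (@D3.rec (fun _ => (Cert rels S Gen.c)) lc_c_rc_17_2 lc_c_rc_13_0 lc_c_rc_15_2 lc_c_rc_17_2 lc_c_rc_8_3 lc_c_rc_2_1 lc_c_Cert_tree lc_c_rc_28_8 lc_c_Cert_tree lc_c_rc_28_2 lc_c_Cert_tree lc_c_rc_2_3 lc_c_rc_17_2 lc_c_rc_28_2 lc_c_Cert_tree lc_c_Cert_tree lc_c_rc_13_0 lc_c_rc_16_2 lc_c_rc_8_3 lc_c_rc_15_2 lc_c_rc_17_2 lc_c_rc_17_2 lc_c_Cert_tree lc_c_rc_28_2 lc_c_rc_13_0 lc_c_rc_16_2 lc_c_Cert_tree lc_c_Cert_tree lc_c_rc_13_0 lc_c_Cert_tree lc_c_rc_16_2 lc_c_Cert_tree lc_c_Cert_tree lc_c_rc_13_0 lc_c_rc_17_2 lc_c_rc_2_1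 lc_c_rc_17_2 lc_c_rc_8_3 lc_c_rc_28_2 lc_c_rc_16_2) (@D3.rec (fun _ => (Cert rels S Gen.c)) lc_c_Cert_tree lc_c_rc_13_0 lc_c_rc_15_2 lc_c_rc_16_2 lc_c_rc_8_3 lc_c_rc_17_2 lc_c_Cert_tree lc_c_Cert_tree lc_c_rc_28_8 lc_c_rc_28_2 lc_c_Cert_tree lc_c_rc_16_2 lc_c_rc_2_3 lc_c_rc_28_4 lc_c_Cert_tree lc_c_Cert_tree lc_c_rc_13_0 lc_c_rc_17_2 lc_c_rc_8_3 lc_c_rc_15_2 lc_c_rc_16_2 lc_c_rc_16_2 lc_c_Cert_tree lc_c_rc_28_4 lc_c_rc_13_0 lc_c_rc_17_2 lc_c_Cert_tree lc_c_Cert_tree lc_c_rc_13_0 lc_c_Cert_tree lc_c_rc_17_2 lc_c_Cert_tree lc_c_Cert_tree lc_c_rc_13_0 lc_c_rc_16_2 lc_c_rc_15_2 lc_c_rc_17_2 lc_c_rc_8_3 lc_c_rc_28_2 lc_c_rc_17_2) (@D3.rec (fun _ => (Cert rels S Gen.c)) lc_c_Cert_tree lc_c_rc_13_0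 lc_c_rc_15_2 lc_c_rc_17_2 lc_c_rc_8_3 lc_c_rc_2_1 lc_c_Cert_tree lc_c_Cert_tree lc_c_rc_13_1 lc_c_rc_32_32 lc_c_rc_17_2 lc_c_rc_15_2 lc_c_rc_16_2 lc_c_rc_17_2 lc_c_rc_17_2 lc_c_Cert_tree lc_c_rc_2_1 lc_c_Cert_tree lc_c_Cert_tree lc_c_rc_13_0 lc_c_rc_16_2 lc_c_Cert_tree lc_c_rc_15_2 lc_c_rc_17_2 lc_c_rc_28_8 lc_c_rc_16_2 lc_c_rc_28_8 lc_c_rc_17_2 lc_c_Cert_tree lc_c_rc_16_2 lc_c_rc_8_3 lc_c_rc_15_2 lc_c_rc_17_2 lc_c_rc_2_3 lc_c_Cert_tree lc_c_Cert_tree lc_c_rc_13_0 lc_c_rc_16_2 lc_c_Cert_tree lc_c_rc_13_0) (@D3.rec (fun _ => (Cert rels S Gen.c)) lc_c_rc_16_2 lc_c_Cert_tree lc_c_rc_16_2 lc_c_rc_2_1 lc_c_Cert_tree lc_c_rc_8_3 lc_c_rc_16_2 lc_c_rc_16_0 lc_c_rc_2_1 lc_c_rc_28_6 lc_c_rc_17_2 lc_c_rc_8_3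 lc_c_rc_16_2 lc_c_rc_17_2 lc_c_rc_17_2 lc_c_rc_16_2 lc_c_rc_28_8 lc_c_Cert_tree lc_c_Cert_tree lc_c_Cert_tree lc_c_Cert_tree lc_c_rc_13_0 lc_c_rc_17_2 lc_c_Cert_tree lc_c_rc_13_0 lc_c_rc_16_2 lc_c_rc_17_2 lc_c_rc_8_3 lc_c_Cert_tree lc_c_rc_13_0 lc_c_rc_15_2 lc_c_rc_16_2 lc_c_Cert_tree lc_c_Cert_tree lc_c_rc_13_0 lc_c_rc_17_2 lc_c_rc_13_0 lc_c_rc_17_2 lc_c_Cert_tree lc_c_rc_17_2) (@D3.rec (fun _ => (Cert rels S Gen.c)) lc_c_rc_2_3 lc_c_rc_13_0 lc_c_rc_16_2 lc_c_rc_17_2 lc_c_rc_8_3 lc_c_rc_28_6 lc_c_rc_16_2 lc_c_rc_17_2 lc_c_Cert_tree lc_c_rc_15_2 lc_c_rc_2_1 lc_c_Cert_tree lc_c_rc_16_2 lc_c_rc_17_2 lc_c_rc_13_0 lc_c_rc_15_2 lc_c_rc_16_2 lc_c_Cert_tree lc_c_rc_13_0 lc_c_rc_8_3 lc_c_rc_28_6 lc_c_rc_15_2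 lc_c_rc_16_2 lc_c_rc_16_2 lc_c_rc_17_2 lc_c_Cert_tree lc_c_Cert_tree lc_c_rc_13_0 lc_c_rc_16_2 lc_c_rc_17_2 lc_c_Cert_tree lc_c_rc_32_32 lc_c_rc_16_2 lc_c_rc_15_2 lc_c_rc_16_2 lc_c_rc_17_2 lc_c_Cert_tree lc_c_rc_17_2 lc_c_rc_2_1 lc_c_Cert_tree)
def ce_c_7 : D2 → D3 → (Cert rels S Gen.c) := @D2.rec (fun _ => D3 → (Cert rels S Gen.c)) (@D3.rec (fun _ => (Cert rels S Gen.c)) lc_c_rc_13_0 lc_c_rc_17_2 lc_c_Cert_tree lc_c_rc_16_2 lc_c_rc_2_1 lc_c_rc_2_1 lc_c_rc_28_8 lc_c_rc_16_0 lc_c_Cert_tree lc_c_rc_17_2 lc_c_rc_2_3 lc_c_rc_8_3 lc_c_rc_15_2 lc_c_rc_16_2 lc_c_rc_2_3 lc_c_Cert_tree lc_c_Cert_tree lc_c_rc_13_0 lc_c_rc_17_2 lc_c_Cert_tree lc_c_rc_13_0 lc_c_Cert_tree lc_c_rc_17_2 lc_c_rc_2_1 lc_c_Cert_tree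 lc_c_rc_8_3 lc_c_rc_16_2 lc_c_rc_17_2 lc_c_rc_2_1 lc_c_rc_28_6 lc_c_rc_16_2 lc_c_rc_8_3 lc_c_rc_17_2 lc_c_rc_16_2 lc_c_rc_16_2 lc_c_rc_16_2 lc_c_rc_2_3 lc_c_Cert_tree lc_c_Cert_tree lc_c_Cert_tree) (@D3.rec (fun _ => (Cert rels S Gen.c)) lc_c_Cert_tree lc_c_rc_13_0 lc_c_rc_16_2 lc_c_Cert_tree lc_c_rc_13_0 lc_c_rc_16_2 lc_c_rc_17_2 lc_c_rc_8_3 lc_c_Cert_tree lc_c_rc_13_0 lc_c_rc_15_2 lc_c_rc_17_2 lc_c_Cert_tree lc_c_Cert_tree lc_c_rc_13_0 lc_c_rc_16_2 lc_c_rc_13_0 lc_c_rc_16_2 lc_c_Cert_tree lc_c_rc_16_2 lc_c_rc_17_2 lc_c_rc_13_0 lc_c_rc_16_2 lc_c_rc_17_2 lc_c_rc_8_3 lc_c_rc_28_6 lc_c_rc_16_2 lc_c_rc_17_2 lc_c_rc_15_2 lc_c_Cert_tree lc_c_rc_2_1 lc_c_Cert_tree lc_c_rc_16_2 lc_c_rc_17_2 lc_c_rc_13_0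 lc_c_rc_15_2 lc_c_rc_17_2 lc_c_Cert_tree lc_c_rc_13_0 lc_c_rc_8_3) (@D3.rec (fun _ => (Cert rels S Gen.c)) lc_c_rc_28_6 lc_c_rc_15_2 lc_c_rc_17_2 lc_c_rc_17_2 lc_c_rc_16_2 lc_c_Cert_tree lc_c_Cert_tree lc_c_rc_13_0 lc_c_rc_17_2 lc_c_rc_28_8 lc_c_rc_16_0 lc_c_rc_2_1 lc_c_rc_15_2 lc_c_rc_17_2 lc_c_rc_2_3 lc_c_rc_13_0 lc_c_rc_17_2 lc_c_Cert_tree lc_c_rc_8_3 lc_c_rc_28_2 lc_c_rc_28_2 lc_c_Cert_tree lc_c_rc_16_2 lc_c_rc_17_2 lc_c_rc_13_0 lc_c_rc_15_2 lc_c_rc_17_0 lc_c_Cert_tree lc_c_rc_28_2 lc_c_rc_28_2 lc_c_rc_13_0 lc_c_rc_15_2 lc_c_rc_16_2 lc_c_rc_17_2 lc_c_rc_17_2 lc_c_rc_2_3 lc_c_rc_2_1 lc_c_rc_8_3 lc_c_rc_16_2 lc_c_rc_17_2) (@D3.rec (fun _ => (Cert rels S Gen.c)) lc_c_rc_17_0 lc_c_rc_2_1 lc_c_rc_2_1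 lc_c_rc_16_0 lc_c_rc_16_2 lc_c_rc_2_3 lc_c_rc_13_0 lc_c_rc_16_2 lc_c_Cert_tree lc_c_rc_8_3 lc_c_rc_28_2 lc_c_rc_28_2 lc_c_Cert_tree lc_c_rc_16_2 lc_c_rc_17_2 lc_c_rc_13_0 lc_c_rc_15_2 lc_c_rc_16_0 lc_c_Cert_tree lc_c_rc_28_2 lc_c_rc_28_2 lc_c_rc_13_0 lc_c_rc_15_2 lc_c_rc_16_2 lc_c_rc_17_2 lc_c_rc_17_2 lc_c_rc_2_3 lc_c_rc_2_1 lc_c_rc_8_3 lc_c_rc_16_2 lc_c_rc_17_2 lc_c_Cert_tree lc_c_rc_13_0 lc_c_rc_8_3 lc_c_rc_28_6 lc_c_Cert_tree lc_c_rc_13_0 lc_c_rc_8_3 lc_c_rc_28_6 lc_c_rc_15_2) (@D3.rec (fun _ => (Cert rels S Gen.c)) lc_c_rc_16_2 lc_c_rc_17_2 lc_c_rc_13_0 lc_c_rc_17_2 lc_c_rc_13_0 lc_c_rc_16_2 lc_c_rc_13_0 lc_c_rc_13_1 lc_c_rc_17_2 lc_c_rc_13_0 lc_c_rc_32_42 lc_c_rc_16_2 lc_c_rc_8_3 lc_c_rc_8_3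 lc_c_rc_14_10 lc_c_rc_17_2 lc_c_rc_28_6 lc_c_rc_16_2 lc_c_rc_17_2 lc_c_rc_17_2 lc_c_rc_2_1 lc_c_rc_15_2 lc_c_rc_17_2 lc_c_rc_15_2 lc_c_rc_2_3 lc_c_rc_28_2 lc_c_rc_28_8 lc_c_rc_28_2 lc_c_rc_28_8 lc_c_rc_8_3 lc_c_rc_17_2 lc_c_rc_2_1 lc_c_rc_2_3 lc_c_rc_13_0 lc_c_rc_8_3 lc_c_rc_16_2 lc_c_rc_2_1 lc_c_rc_2_3 lc_c_rc_13_0 lc_c_rc_13_0) (@D3.rec (fun _ => (Cert rels S Gen.c)) lc_c_rc_28_6 lc_c_rc_15_2 lc_c_rc_28_6 lc_c_rc_13_0 lc_c_rc_13_0 lc_c_Cert_tree lc_c_rc_16_2 lc_c_rc_16_2 lc_c_rc_13_0 lc_c_rc_28_6 lc_c_rc_15_2 lc_c_rc_28_8 lc_c_rc_13_0 lc_c_rc_13_0 lc_c_Cert_tree lc_c_rc_17_2 lc_c_rc_8_1 lc_c_rc_8_3 lc_c_rc_17_2 lc_c_rc_2_1 lc_c_rc_15_0 lc_c_rc_17_2 lc_c_rc_15_2 lc_c_rc_28_4 lc_c_Cert_tree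 lc_c_rc_13_0 lc_c_rc_15_2 lc_c_Cert_tree lc_c_rc_28_6 lc_c_rc_16_2 lc_c_rc_8_3 lc_c_rc_8_3 lc_c_rc_16_2 lc_c_rc_2_1 lc_c_rc_15_0 lc_c_rc_16_2 lc_c_rc_15_2 lc_c_rc_28_4 lc_c_Cert_tree lc_c_rc_13_0) (@D3.rec (fun _ => (Cert rels S Gen.c)) lc_c_rc_15_2 lc_c_Cert_tree lc_c_rc_28_6 lc_c_rc_17_2 lc_c_rc_8_3 lc_c_rc_2_1 lc_c_rc_17_2 lc_c_rc_8_3 lc_c_rc_15_2 lc_c_rc_28_6 lc_c_rc_16_2 lc_c_rc_28_2 lc_c_rc_13_0 lc_c_rc_15_2 lc_c_rc_28_6 lc_c_rc_28_6 lc_c_rc_17_2 lc_c_rc_17_2 lc_c_rc_15_2 lc_c_Cert_tree lc_c_rc_15_2 lc_c_rc_8_1 lc_c_rc_13_0 lc_c_rc_16_2 lc_c_Cert_tree lc_c_rc_16_2 lc_c_rc_13_0 lc_c_rc_30_10 lc_c_rc_17_0 lc_c_Cert_tree lc_c_rc_13_0 lc_c_rc_8_5 lc_c_rc_16_2 lc_c_rc_8_3 lc_c_rc_8_3 lc_c_rc_2_1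 lc_c_rc_30_2 lc_c_rc_16_2 lc_c_rc_13_0 lc_c_rc_13_0) (@D3.rec (fun _ => (Cert rels S Gen.c)) lc_c_rc_28_2 lc_c_rc_16_2 lc_c_rc_8_3 lc_c_rc_16_2 lc_c_rc_8_1 lc_c_Cert_tree lc_c_rc_17_2 lc_c_rc_17_2 lc_c_Cert_tree lc_c_rc_13_0 lc_c_rc_2_1 lc_c_rc_16_2 lc_c_rc_8_3 lc_c_rc_15_2 lc_c_rc_28_6 lc_c_rc_17_2 lc_c_rc_17_2 lc_c_rc_13_0 lc_c_rc_15_2 lc_c_rc_28_6 lc_c_rc_28_6 lc_c_rc_17_2 lc_c_rc_2_3 lc_c_rc_15_2 lc_c_Cert_tree lc_c_rc_15_2 lc_c_rc_30_6 lc_c_rc_13_0 lc_c_rc_17_2 lc_c_Cert_tree lc_c_rc_17_2 lc_c_rc_13_0 lc_c_rc_8_1 lc_c_rc_16_0 lc_c_Cert_tree lc_c_rc_13_0 lc_c_rc_8_5 lc_c_rc_17_2 lc_c_rc_8_3 lc_c_rc_8_3) (@D3.rec (fun _ => (Cert rels S Gen.c)) lc_c_rc_2_1 lc_c_rc_15_0 lc_c_rc_16_2 lc_c_rc_17_2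 lc_c_rc_13_0 lc_c_rc_30_10 lc_c_rc_17_2 lc_c_rc_8_3 lc_c_rc_17_2 lc_c_rc_8_1 lc_c_Cert_tree lc_c_rc_16_2 lc_c_rc_16_2 lc_c_Cert_tree lc_c_rc_13_0 lc_c_rc_13_0 lc_c_rc_13_0 lc_c_Cert_tree lc_c_rc_16_2 lc_c_rc_28_6 lc_c_Cert_tree lc_c_rc_16_2 lc_c_Cert_tree lc_c_Cert_tree lc_c_rc_13_0 lc_c_rc_16_2 lc_c_Cert_tree lc_c_rc_13_0 lc_c_rc_13_0 lc_c_Cert_tree lc_c_rc_16_2 lc_c_rc_13_0 lc_c_rc_13_0 lc_c_rc_15_2 lc_c_rc_16_2 lc_c_rc_17_2 lc_c_Cert_tree lc_c_rc_8_3 lc_c_rc_28_4 lc_c_rc_15_2) (@D3.rec (fun _ => (Cert rels S Gen.c)) lc_c_rc_16_2 lc_c_rc_17_2 lc_c_rc_16_2 lc_c_rc_17_2 lc_c_rc_17_2 lc_c_rc_30_14 lc_c_rc_2_3 lc_c_Cert_tree lc_c_Cert_tree lc_c_rc_13_0 lc_c_rc_17_2 lc_c_rc_8_1 lc_c_rc_17_0 lc_c_rc_8_1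 lc_c_Cert_tree lc_c_rc_13_0 lc_c_rc_16_2 lc_c_Cert_tree lc_c_rc_16_2 lc_c_rc_28_6 lc_c_rc_13_0 lc_c_rc_2_1 lc_c_Cert_tree lc_c_rc_16_2 lc_c_rc_13_0 lc_c_rc_15_2 lc_c_rc_30_14 lc_c_rc_8_3 lc_c_rc_14_4 lc_c_rc_15_2 lc_c_Cert_tree lc_c_rc_28_8 lc_c_Cert_tree lc_c_rc_16_2 lc_c_Cert_tree lc_c_rc_13_0 lc_c_rc_16_2 lc_c_Cert_tree lc_c_rc_28_2 lc_c_rc_13_0) (@D3.rec (fun _ => (Cert rels S Gen.c)) lc_c_rc_28_4 lc_c_Cert_tree lc_c_Cert_tree lc_c_Cert_tree lc_c_rc_17_0 lc_c_rc_13_0 lc_c_rc_2_3 lc_c_Cert_tree lc_c_rc_13_0 lc_c_rc_30_2 lc_c_rc_30_6 lc_c_rc_16_0 lc_c_rc_28_4 lc_c_rc_13_0 lc_c_rc_15_2 lc_c_Cert_tree lc_c_Cert_tree lc_c_rc_13_0 lc_c_rc_13_0 lc_c_rc_17_2 lc_c_Cert_tree lc_c_rc_17_2 lc_c_rc_16_2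 lc_c_rc_13_0 lc_c_rc_8_3 lc_c_rc_28_8 lc_c_rc_16_2 lc_c_rc_17_2 lc_c_rc_2_1 lc_c_Cert_tree lc_c_rc_16_2 lc_c_rc_17_2 lc_c_rc_13_0 lc_c_rc_15_2 lc_c_rc_8_3 lc_c_rc_28_6 lc_c_rc_15_2 lc_c_rc_16_2 lc_c_rc_16_2 lc_c_rc_16_2) (@D3.rec (fun _ => (Cert rels S Gen.c)) lc_c_Cert_tree lc_c_rc_13_0 lc_c_rc_17_2 lc_c_rc_13_0 lc_c_rc_8_1 lc_c_rc_17_2 lc_c_rc_2_3 lc_c_rc_17_2 lc_c_rc_13_0 lc_c_rc_8_1 lc_c_rc_28_4 lc_c_rc_8_3 lc_c_rc_2_1 lc_c_rc_8_3 lc_c_rc_16_2 lc_c_rc_17_2 lc_c_rc_2_1 lc_c_rc_28_8 lc_c_rc_16_2 lc_c_rc_17_2 lc_c_rc_15_2 lc_c_rc_16_2 lc_c_Cert_tree lc_c_rc_8_3 lc_c_rc_13_0 lc_c_rc_16_0 lc_c_rc_8_1 lc_c_rc_30_10 lc_c_rc_2_1 lc_c_rc_13_0 lc_c_rc_15_2 lc_c_rc_28_2 lc_c_rc_17_2 lc_c_Cert_tree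 lc_c_rc_17_2 lc_c_rc_28_6 lc_c_rc_8_3 lc_c_rc_15_2 lc_c_rc_16_2 lc_c_rc_16_2) (@D3.rec (fun _ => (Cert rels S Gen.c)) lc_c_rc_13_0 lc_c_rc_13_1 lc_c_rc_16_2 lc_c_rc_2_1 lc_c_Cert_tree lc_c_rc_8_3 lc_c_rc_16_2 lc_c_rc_17_2 lc_c_rc_15_2 lc_c_rc_28_6 lc_c_Cert_tree lc_c_rc_16_2 lc_c_rc_17_2 lc_c_rc_17_2 lc_c_Cert_tree lc_c_Cert_tree lc_c_rc_13_0 lc_c_rc_16_2 lc_c_rc_13_0 lc_c_rc_28_4 lc_c_rc_16_2 lc_c_rc_13_0 lc_c_rc_13_0 lc_c_rc_17_2 lc_c_rc_17_2 lc_c_rc_28_6 lc_c_Cert_tree lc_c_rc_17_2 lc_c_Cert_tree lc_c_rc_13_0 lc_c_rc_17_2 lc_c_rc_8_3 lc_c_Cert_tree lc_c_rc_13_0 lc_c_Cert_tree lc_c_rc_17_2 lc_c_rc_13_0 lc_c_rc_13_0 lc_c_rc_15_2 lc_c_rc_16_2) (@D3.rec (fun _ => (Cert rels S Gen.c)) lc_c_rc_17_2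 lc_c_Cert_tree lc_c_rc_8_3 lc_c_rc_28_4 lc_c_rc_15_2 lc_c_rc_16_2 lc_c_rc_17_2 lc_c_rc_16_2 lc_c_rc_17_2 lc_c_rc_8_1 lc_c_rc_17_2 lc_c_rc_2_3 lc_c_Cert_tree lc_c_rc_13_0 lc_c_Cert_tree lc_c_rc_16_2 lc_c_rc_8_1 lc_c_rc_17_0 lc_c_rc_30_14 lc_c_Cert_tree lc_c_rc_13_0 lc_c_rc_17_2 lc_c_rc_28_6 lc_c_rc_17_2 lc_c_rc_17_2 lc_c_rc_13_0 lc_c_rc_2_1 lc_c_Cert_tree lc_c_rc_13_0 lc_c_rc_15_2 lc_c_rc_2_3 lc_c_rc_8_3 lc_c_rc_2_3 lc_c_rc_15_2 lc_c_Cert_tree lc_c_rc_28_8 lc_c_Cert_tree lc_c_rc_17_2 lc_c_Cert_tree lc_c_rc_13_0) (@D3.rec (fun _ => (Cert rels S Gen.c)) lc_c_rc_17_2 lc_c_Cert_tree lc_c_rc_15_2 lc_c_rc_13_0 lc_c_rc_15_2 lc_c_Cert_tree lc_c_Cert_tree lc_c_rc_28_8 lc_c_rc_16_0 lc_c_rc_13_0 lc_c_rc_2_3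 lc_c_Cert_tree lc_c_rc_13_0 lc_c_rc_8_1 lc_c_rc_17_2 lc_c_rc_16_0 lc_c_rc_28_8 lc_c_rc_13_0 lc_c_rc_15_2 lc_c_Cert_tree lc_c_Cert_tree lc_c_rc_13_0 lc_c_rc_13_0 lc_c_rc_16_2 lc_c_Cert_tree lc_c_rc_16_2 lc_c_rc_17_2 lc_c_rc_13_0 lc_c_rc_8_3 lc_c_rc_28_4 lc_c_rc_16_2 lc_c_rc_17_2 lc_c_rc_2_1 lc_c_Cert_tree lc_c_rc_16_2 lc_c_rc_17_2 lc_c_rc_15_2 lc_c_rc_8_3 lc_c_rc_15_2 lc_c_rc_17_2) (@D3.rec (fun _ => (Cert rels S Gen.c)) lc_c_rc_17_2 lc_c_rc_17_2 lc_c_Cert_tree lc_c_rc_13_0 lc_c_rc_16_2 lc_c_rc_13_0 lc_c_rc_8_1 lc_c_rc_16_2 lc_c_rc_30_2 lc_c_rc_16_2 lc_c_rc_13_0 lc_c_rc_13_0 lc_c_rc_28_2 lc_c_rc_8_3 lc_c_rc_17_2 lc_c_rc_8_3 lc_c_rc_16_2 lc_c_rc_2_1 lc_c_rc_28_8 lc_c_rc_16_2 lc_c_rc_17_2 lc_c_rc_15_2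 lc_c_rc_8_3 lc_c_rc_16_2 lc_c_rc_13_0 lc_c_rc_17_0 lc_c_rc_8_1 lc_c_rc_2_1 lc_c_rc_2_1 lc_c_rc_13_0 lc_c_rc_15_2 lc_c_rc_16_2 lc_c_rc_28_4 lc_c_rc_28_2 lc_c_rc_8_3 lc_c_rc_28_6 lc_c_rc_15_2 lc_c_rc_13_0 lc_c_rc_16_2 lc_c_rc_17_2) (@D3.rec (fun _ => (Cert rels S Gen.c)) lc_c_rc_2_1 lc_c_rc_8_3 lc_c_rc_16_2 lc_c_rc_17_2 lc_c_Cert_tree lc_c_rc_17_2 lc_c_rc_16_2 lc_c_rc_16_2 lc_c_Cert_tree lc_c_Cert_tree lc_c_rc_13_0 lc_c_rc_17_2 lc_c_rc_13_0 lc_c_rc_28_4 lc_c_rc_17_2 lc_c_rc_28_6 lc_c_rc_13_0 lc_c_rc_15_2 lc_c_rc_15_0 lc_c_rc_2_3 lc_c_rc_16_0 lc_c_rc_17_2 lc_c_rc_2_3 lc_c_rc_2_1 lc_c_rc_2_3 lc_c_rc_15_2 lc_c_rc_16_2 lc_c_rc_17_2 lc_c_Cert_tree lc_c_Cert_tree lc_c_rc_13_0 lc_c_rc_16_2 lc_c_rc_16_2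 lc_c_rc_16_2 lc_c_rc_17_2 lc_c_rc_15_2 lc_c_rc_16_0 lc_c_rc_2_1 lc_c_rc_2_1 lc_c_rc_13_0) (@D3.rec (fun _ => (Cert rels S Gen.c)) lc_c_rc_15_2 lc_c_rc_17_2 lc_c_rc_17_2 lc_c_rc_17_2 lc_c_rc_2_1 lc_c_rc_2_1 lc_c_rc_15_2 lc_c_Cert_tree lc_c_rc_2_3 lc_c_rc_8_3 lc_c_rc_13_0 lc_c_rc_15_2 lc_c_rc_13_1 lc_c_rc_17_2 lc_c_Cert_tree lc_c_rc_16_0 lc_c_rc_28_4 lc_c_rc_15_2 lc_c_rc_17_2 lc_c_rc_30_2 lc_c_rc_17_2 lc_c_rc_17_2 lc_c_rc_16_2 lc_c_Cert_tree lc_c_Cert_tree lc_c_rc_2_1 lc_c_rc_2_1 lc_c_rc_2_1 lc_c_Cert_tree lc_c_rc_16_2 lc_c_rc_17_2 lc_c_rc_17_2 lc_c_rc_2_3 lc_c_rc_13_1 lc_c_rc_13_0 lc_c_rc_15_2 lc_c_rc_16_2 lc_c_rc_30_10 lc_c_rc_17_0 lc_c_rc_16_2) (@D3.rec (fun _ => (Cert rels S Gen.c)) lc_c_rc_17_2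 lc_c_rc_16_2 lc_c_rc_2_3 lc_c_rc_15_2 lc_c_rc_17_2 lc_c_rc_28_2 lc_c_Cert_tree lc_c_Cert_tree lc_c_rc_13_0 lc_c_rc_17_2 lc_c_rc_28_8 lc_c_rc_16_2 lc_c_rc_17_2 lc_c_rc_15_2 lc_c_rc_17_0 lc_c_rc_2_1 lc_c_rc_2_1 lc_c_rc_13_0 lc_c_rc_15_2 lc_c_rc_16_2 lc_c_rc_28_8 lc_c_rc_17_2 lc_c_rc_2_1 lc_c_rc_2_1 lc_c_rc_15_2 lc_c_Cert_tree lc_c_rc_8_3 lc_c_rc_17_2 lc_c_rc_13_0 lc_c_rc_15_2 lc_c_rc_16_2 lc_c_rc_13_1 lc_c_rc_8_1 lc_c_Cert_tree lc_c_rc_28_4 lc_c_rc_15_2 lc_c_rc_16_2 lc_c_rc_16_2 lc_c_rc_30_6 lc_c_rc_17_2) (@D3.rec (fun _ => (Cert rels S Gen.c)) lc_c_rc_16_2 lc_c_Cert_tree lc_c_Cert_tree lc_c_rc_2_1 lc_c_rc_2_1 lc_c_rc_2_1 lc_c_Cert_tree lc_c_rc_16_2 lc_c_rc_17_2 lc_c_rc_17_2 lc_c_rc_2_3 lc_c_rc_8_3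 lc_c_rc_8_3 lc_c_rc_28_6 lc_c_rc_15_2 lc_c_rc_28_6 lc_c_rc_8_1 lc_c_rc_15_2 lc_c_rc_8_3 lc_c_rc_28_4 lc_c_rc_2_1 lc_c_Cert_tree lc_c_rc_16_2 lc_c_rc_17_2 lc_c_rc_15_2 lc_c_rc_28_4 lc_c_rc_8_3 lc_c_rc_2_1 lc_c_rc_2_1 lc_c_rc_2_1 lc_c_Cert_tree lc_c_rc_16_2 lc_c_rc_17_2 lc_c_rc_17_2 lc_c_rc_2_3 lc_c_rc_13_0 lc_c_rc_28_6 lc_c_rc_17_2 lc_c_rc_13_0 lc_c_rc_15_2) (@D3.rec (fun _ => (Cert rels S Gen.c)) lc_c_rc_16_2 lc_c_rc_17_2 lc_c_rc_28_2 lc_c_rc_2_1 lc_c_rc_28_2 lc_c_rc_15_2 lc_c_rc_16_2 lc_c_rc_17_2 lc_c_Cert_tree lc_c_rc_16_2 lc_c_rc_17_2 lc_c_rc_28_4 lc_c_rc_13_0 lc_c_rc_16_2 lc_c_rc_2_3 lc_c_rc_8_3 lc_c_rc_8_3 lc_c_rc_28_6 lc_c_rc_15_2 lc_c_rc_8_1 lc_c_rc_2_1 lc_c_rc_15_2 lc_c_rc_8_3 lc_c_rc_28_4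 lc_c_rc_2_1 lc_c_Cert_tree lc_c_rc_16_2 lc_c_rc_17_2 lc_c_rc_15_2 lc_c_rc_2_1 lc_c_rc_8_3 lc_c_rc_2_1 lc_c_rc_2_1 lc_c_rc_2_1 lc_c_Cert_tree lc_c_rc_16_2 lc_c_rc_8_1 lc_c_rc_17_2 lc_c_rc_2_3 lc_c_rc_13_0) (@D3.rec (fun _ => (Cert rels S Gen.c)) lc_c_rc_16_2 lc_c_rc_13_0 lc_c_rc_15_2 lc_c_rc_28_2 lc_c_rc_2_1 lc_c_rc_28_4 lc_c_rc_15_2 lc_c_rc_16_2 lc_c_rc_17_2 lc_c_Cert_tree lc_c_rc_16_2 lc_c_rc_17_2 lc_c_rc_13_0 lc_c_rc_13_0 lc_c_rc_16_2 lc_c_Cert_tree lc_c_rc_13_0 lc_c_Cert_tree lc_c_rc_13_0 lc_c_rc_30_10 lc_c_rc_17_2 lc_c_rc_16_2 lc_c_rc_28_6 lc_c_rc_8_5 lc_c_rc_16_2 lc_c_Cert_tree lc_c_Cert_tree lc_c_rc_13_0 lc_c_Cert_tree lc_c_rc_13_0 lc_c_rc_16_2 lc_c_Cert_tree lc_c_rc_13_0 lc_c_Cert_tree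 lc_c_rc_13_0 lc_c_Cert_tree lc_c_rc_13_0 lc_c_rc_16_2 lc_c_rc_8_3 lc_c_Cert_tree) (@D3.rec (fun _ => (Cert rels S Gen.c)) lc_c_rc_13_0 lc_c_rc_15_2 lc_c_rc_14_4 lc_c_rc_2_1 lc_c_rc_16_2 lc_c_rc_8_1 lc_c_rc_8_3 lc_c_rc_2_1 lc_c_rc_16_2 lc_c_rc_8_1 lc_c_rc_17_2 lc_c_rc_28_8 lc_c_rc_16_2 lc_c_rc_13_0 lc_c_rc_2_1 lc_c_rc_16_2 lc_c_rc_17_2 lc_c_rc_15_2 lc_c_rc_28_4 lc_c_rc_17_2 lc_c_Cert_tree lc_c_rc_13_0 lc_c_Cert_tree lc_c_rc_13_0 lc_c_Cert_tree lc_c_Cert_tree lc_c_rc_13_0 lc_c_rc_17_2 lc_c_rc_8_3 lc_c_Cert_tree lc_c_rc_13_0 lc_c_rc_15_2 lc_c_rc_28_4 lc_c_rc_2_1 lc_c_rc_17_2 lc_c_rc_8_1 lc_c_rc_8_3 lc_c_rc_2_1 lc_c_rc_16_2 lc_c_rc_17_2) (@D3.rec (fun _ => (Cert rels S Gen.c)) lc_c_rc_17_2 lc_c_rc_28_8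 lc_c_rc_17_2 lc_c_Cert_tree lc_c_Cert_tree lc_c_rc_17_2 lc_c_rc_2_1 lc_c_rc_13_0 lc_c_rc_14_6 lc_c_rc_13_0 lc_c_rc_2_1 lc_c_rc_2_1 lc_c_rc_16_2 lc_c_rc_17_2 lc_c_rc_16_2 lc_c_rc_17_2 lc_c_rc_2_3 lc_c_rc_17_2 lc_c_Cert_tree lc_c_Cert_tree lc_c_rc_8_5 lc_c_rc_15_2 lc_c_rc_17_0 lc_c_rc_16_2 lc_c_rc_2_1 lc_c_rc_28_2 lc_c_rc_15_2 lc_c_rc_13_0 lc_c_rc_15_2 lc_c_Cert_tree lc_c_rc_15_2 lc_c_rc_13_0 lc_c_rc_15_2 lc_c_Cert_tree lc_c_Cert_tree lc_c_Cert_tree lc_c_rc_13_0 lc_c_rc_16_2 lc_c_Cert_tree lc_c_Cert_tree) (@D3.rec (fun _ => (Cert rels S Gen.c)) lc_c_rc_13_0 lc_c_rc_17_2 lc_c_rc_15_2 lc_c_rc_17_2 lc_c_rc_15_2 lc_c_rc_15_2 lc_c_rc_16_2 lc_c_rc_15_2 lc_c_Cert_tree lc_c_Cert_tree lc_c_Cert_tree lc_c_Cert_tree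 lc_c_rc_17_2 lc_c_rc_16_2 lc_c_rc_16_2 lc_c_rc_28_6 lc_c_rc_28_6 lc_c_rc_17_2 lc_c_rc_28_6 lc_c_rc_16_2 lc_c_rc_15_2 lc_c_rc_16_0 lc_c_Cert_tree lc_c_rc_13_0 lc_c_rc_8_1 lc_c_Cert_tree lc_c_rc_13_0 lc_c_rc_17_2 lc_c_rc_2_1 lc_c_rc_16_2 lc_c_rc_28_2 lc_c_rc_16_2 lc_c_rc_15_2 lc_c_Cert_tree lc_c_rc_13_0 lc_c_rc_8_1 lc_c_Cert_tree lc_c_rc_13_0 lc_c_rc_16_2 lc_c_rc_28_8) (@D3.rec (fun _ => (Cert rels S Gen.c)) lc_c_rc_17_2 lc_c_rc_28_2 lc_c_rc_17_2 lc_c_Cert_tree lc_c_rc_2_1 lc_c_Cert_tree lc_c_rc_13_0 lc_c_rc_28_2 lc_c_rc_28_2 lc_c_rc_13_0 lc_c_rc_28_4 lc_c_rc_16_2 lc_c_Cert_tree lc_c_rc_2_1 lc_c_Cert_tree lc_c_rc_13_0 lc_c_rc_28_6 lc_c_rc_28_2 lc_c_rc_13_0 lc_c_rc_2_1 lc_c_rc_28_2 lc_c_rc_13_0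 lc_c_rc_17_2 lc_c_rc_14_6 lc_c_rc_13_0 lc_c_rc_16_2 lc_c_rc_15_2 lc_c_rc_13_0 lc_c_rc_17_2 lc_c_rc_13_1 lc_c_rc_17_2 lc_c_rc_16_2 lc_c_rc_15_2 lc_c_rc_13_0 lc_c_rc_16_2 lc_c_rc_8_3 lc_c_rc_16_2 lc_c_rc_17_2 lc_c_rc_15_2 lc_c_rc_15_2)
def ce_c_8 : D2 → D3 → (Cert rels S Gen.c) := @D2.rec (fun _ => D3 → (Cert rels S Gen.c)) (@D3.rec (fun _ => (Cert rels S Gen.c)) lc_c_rc_2_3 lc_c_rc_13_0 lc_c_rc_17_2 lc_c_rc_2_3 lc_c_rc_13_0 lc_c_rc_16_2 lc_c_rc_13_0 lc_c_rc_28_8 lc_c_rc_17_2 lc_c_rc_13_0 lc_c_rc_32_23 lc_c_rc_16_2 lc_c_rc_28_6 lc_c_rc_8_3 lc_c_rc_28_6 lc_c_rc_17_2 lc_c_rc_15_2 lc_c_rc_28_6 lc_c_rc_2_1 lc_c_Cert_tree lc_c_rc_28_6 lc_c_rc_8_3 lc_c_rc_2_1 lc_c_rc_16_2 lc_c_rc_15_2 lc_c_rc_16_2 lc_c_rc_17_2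 lc_c_Cert_tree lc_c_rc_17_2 lc_c_rc_2_1 lc_c_rc_16_2 lc_c_rc_13_0 lc_c_rc_16_2 lc_c_rc_8_1 lc_c_rc_16_0 lc_c_rc_13_0 lc_c_rc_28_2 lc_c_rc_8_1 lc_c_rc_15_2 lc_c_rc_13_0) (@D3.rec (fun _ => (Cert rels S Gen.c)) lc_c_rc_28_6 lc_c_rc_17_2 lc_c_Cert_tree lc_c_Cert_tree lc_c_rc_13_0 lc_c_rc_16_2 lc_c_rc_2_3 lc_c_rc_13_0 lc_c_rc_15_2 lc_c_rc_16_2 lc_c_Cert_tree lc_c_Cert_tree lc_c_rc_13_0 lc_c_rc_17_2 lc_c_rc_8_3 lc_c_rc_28_2 lc_c_rc_17_2 lc_c_rc_8_3 lc_c_rc_16_2 lc_c_rc_13_0 lc_c_rc_8_5 lc_c_rc_8_3 lc_c_rc_28_2 lc_c_rc_16_2 lc_c_rc_8_3 lc_c_rc_28_8 lc_c_rc_28_8 lc_c_rc_8_5 lc_c_rc_28_6 lc_c_rc_8_3 lc_c_rc_14_10 lc_c_rc_17_2 lc_c_Cert_tree lc_c_rc_28_2 lc_c_rc_17_2 lc_c_rc_8_3 lc_c_rc_2_1 lc_c_Cert_tree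 lc_c_rc_13_0 lc_c_rc_16_2) (@D3.rec (fun _ => (Cert rels S Gen.c)) lc_c_rc_15_2 lc_c_Cert_tree lc_c_rc_13_0 lc_c_rc_16_2 lc_c_Cert_tree lc_c_rc_16_2 lc_c_rc_17_2 lc_c_rc_16_2 lc_c_rc_15_2 lc_c_rc_14_10 lc_c_rc_16_2 lc_c_Cert_tree lc_c_rc_28_2 lc_c_rc_16_2 lc_c_rc_16_2 lc_c_rc_17_2 lc_c_Cert_tree lc_c_rc_13_0 lc_c_rc_17_2 lc_c_rc_15_2 lc_c_Cert_tree lc_c_rc_13_0 lc_c_rc_17_2 lc_c_Cert_tree lc_c_rc_17_2 lc_c_rc_2_3 lc_c_rc_15_2 lc_c_Cert_tree lc_c_rc_2_1 lc_c_rc_16_2 lc_c_rc_17_2 lc_c_rc_16_2 lc_c_Cert_tree lc_c_rc_2_1 lc_c_rc_8_1 lc_c_rc_15_2 lc_c_rc_28_2 lc_c_rc_15_2 lc_c_rc_15_2 lc_c_rc_16_2) (@D3.rec (fun _ => (Cert rels S Gen.c)) lc_c_rc_17_2 lc_c_rc_8_3 lc_c_rc_8_3 lc_c_rc_17_2 lc_c_rc_16_2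 lc_c_rc_17_2 lc_c_rc_17_2 lc_c_rc_2_1 lc_c_rc_16_2 lc_c_rc_16_2 lc_c_rc_2_1 lc_c_rc_30_6 lc_c_rc_17_2 lc_c_Cert_tree lc_c_Cert_tree lc_c_rc_13_0 lc_c_rc_16_2 lc_c_rc_13_0 lc_c_rc_16_2 lc_c_rc_14_10 lc_c_rc_16_2 lc_c_rc_17_2 lc_c_rc_8_5 lc_c_rc_16_2 lc_c_Cert_tree lc_c_Cert_tree lc_c_rc_13_0 lc_c_rc_17_2 lc_c_rc_13_0 lc_c_rc_17_2 lc_c_rc_28_6 lc_c_rc_17_2 lc_c_rc_2_3 lc_c_rc_17_2 lc_c_rc_28_6 lc_c_rc_28_6 lc_c_rc_17_0 lc_c_rc_28_6 lc_c_rc_28_6 lc_c_rc_16_0) (@D3.rec (fun _ => (Cert rels S Gen.c)) lc_c_rc_8_3 lc_c_rc_13_0 lc_c_rc_17_2 lc_c_Cert_tree lc_c_rc_28_4 lc_c_rc_16_2 lc_c_rc_17_2 lc_c_rc_2_1 lc_c_rc_30_14 lc_c_rc_13_0 lc_c_rc_15_0 lc_c_Cert_tree lc_c_rc_28_4 lc_c_rc_17_2 lc_c_rc_16_2 lc_c_rc_13_1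 lc_c_rc_17_2 lc_c_rc_15_2 lc_c_rc_17_2 lc_c_rc_8_3 lc_c_rc_13_0 lc_c_rc_16_2 lc_c_rc_28_2 lc_c_rc_8_3 lc_c_rc_2_1 lc_c_rc_16_2 lc_c_rc_13_1 lc_c_rc_13_0 lc_c_rc_16_0 lc_c_rc_16_2 lc_c_Cert_tree lc_c_Cert_tree lc_c_rc_13_0 lc_c_rc_17_2 lc_c_Cert_tree lc_c_rc_13_0 lc_c_rc_16_2 lc_c_rc_17_2 lc_c_rc_16_2 lc_c_rc_13_0) (@D3.rec (fun _ => (Cert rels S Gen.c)) lc_c_rc_15_2 lc_c_rc_16_2 lc_c_rc_17_2 lc_c_Cert_tree lc_c_rc_16_2 lc_c_rc_2_1 lc_c_rc_28_4 lc_c_rc_15_0 lc_c_rc_8_3 lc_c_rc_13_0 lc_c_rc_17_2 lc_c_rc_2_3 lc_c_rc_13_1 lc_c_rc_17_0 lc_c_rc_17_2 lc_c_rc_16_0 lc_c_rc_13_0 lc_c_rc_16_2 lc_c_rc_17_2 lc_c_Cert_tree lc_c_Cert_tree lc_c_rc_13_0 lc_c_rc_16_2 lc_c_Cert_tree lc_c_rc_13_0 lc_c_rc_16_2 lc_c_rc_17_2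 lc_c_rc_17_2 lc_c_rc_13_0 lc_c_rc_15_2 lc_c_rc_17_2 lc_c_rc_2_1 lc_c_Cert_tree lc_c_rc_2_1 lc_c_rc_2_1 lc_c_rc_17_2 lc_c_rc_17_2 lc_c_rc_8_1 lc_c_rc_14_6 lc_c_rc_8_3) (@D3.rec (fun _ => (Cert rels S Gen.c)) lc_c_rc_17_2 lc_c_rc_17_2 lc_c_rc_2_1 lc_c_rc_15_2 lc_c_rc_16_2 lc_c_rc_16_2 lc_c_rc_8_1 lc_c_rc_2_1 lc_c_rc_13_0 lc_c_rc_2_1 lc_c_rc_16_2 lc_c_rc_2_1 lc_c_rc_15_2 lc_c_rc_17_0 lc_c_rc_17_2 lc_c_rc_17_2 lc_c_rc_2_1 lc_c_rc_30_6 lc_c_rc_16_2 lc_c_rc_16_2 lc_c_rc_2_1 lc_c_rc_15_2 lc_c_rc_16_0 lc_c_rc_16_2 lc_c_rc_16_2 lc_c_rc_2_1 lc_c_rc_2_3 lc_c_rc_17_2 lc_c_rc_17_2 lc_c_rc_28_8 lc_c_rc_28_8 lc_c_rc_16_2 lc_c_rc_15_2 lc_c_Cert_tree lc_c_rc_17_2 lc_c_Cert_tree lc_c_rc_28_8 lc_c_rc_8_3 lc_c_rc_13_0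 lc_c_rc_17_2) (@D3.rec (fun _ => (Cert rels S Gen.c)) lc_c_Cert_tree lc_c_rc_8_3 lc_c_rc_13_0 lc_c_rc_16_2 lc_c_Cert_tree lc_c_Cert_tree lc_c_rc_13_0 lc_c_rc_17_2 lc_c_Cert_tree lc_c_rc_13_0 lc_c_rc_16_2 lc_c_Cert_tree lc_c_rc_13_0 lc_c_rc_17_2 lc_c_rc_17_2 lc_c_rc_17_2 lc_c_Cert_tree lc_c_rc_13_0 lc_c_rc_16_2 lc_c_rc_16_2 lc_c_rc_16_2 lc_c_rc_2_3 lc_c_rc_13_0 lc_c_rc_17_2 lc_c_rc_17_0 lc_c_rc_13_0 lc_c_rc_16_2 lc_c_Cert_tree lc_c_Cert_tree lc_c_Cert_tree lc_c_rc_13_0 lc_c_rc_16_2 lc_c_Cert_tree lc_c_Cert_tree lc_c_Cert_tree lc_c_rc_13_0 lc_c_rc_17_2 lc_c_rc_15_2 lc_c_rc_13_0 lc_c_rc_15_2) (@D3.rec (fun _ => (Cert rels S Gen.c)) lc_c_rc_17_2 lc_c_rc_16_2 lc_c_rc_30_2 lc_c_rc_17_2 lc_c_Cert_tree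 lc_c_rc_28_2 lc_c_rc_13_0 lc_c_rc_8_5 lc_c_Cert_tree lc_c_rc_13_0 lc_c_rc_16_2 lc_c_rc_16_2 lc_c_rc_8_1 lc_c_rc_16_2 lc_c_rc_13_0 lc_c_rc_16_2 lc_c_rc_16_0 lc_c_rc_17_2 lc_c_rc_15_2 lc_c_rc_28_4 lc_c_Cert_tree lc_c_rc_28_6 lc_c_rc_13_0 lc_c_rc_28_8 lc_c_Cert_tree lc_c_rc_13_0 lc_c_rc_17_2 lc_c_rc_17_2 lc_c_rc_28_6 lc_c_rc_15_2 lc_c_rc_17_2 lc_c_Cert_tree lc_c_rc_8_3 lc_c_rc_17_2 lc_c_rc_13_0 lc_c_rc_17_2 lc_c_Cert_tree lc_c_rc_8_3 lc_c_rc_15_0 lc_c_rc_16_2) (@D3.rec (fun _ => (Cert rels S Gen.c)) lc_c_rc_17_2 lc_c_rc_2_1 lc_c_rc_16_2 lc_c_Cert_tree lc_c_rc_8_3 lc_c_rc_30_14 lc_c_rc_13_0 lc_c_rc_17_2 lc_c_Cert_tree lc_c_rc_8_3 lc_c_rc_17_2 lc_c_rc_17_2 lc_c_rc_17_2 lc_c_rc_13_0 lc_c_rc_16_2 lc_c_rc_17_2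 lc_c_rc_8_3 lc_c_Cert_tree lc_c_rc_16_2 lc_c_rc_17_2 lc_c_rc_17_2 lc_c_Cert_tree lc_c_rc_17_2 lc_c_rc_8_3 lc_c_rc_16_2 lc_c_rc_17_2 lc_c_rc_15_2 lc_c_rc_17_2 lc_c_Cert_tree lc_c_Cert_tree lc_c_rc_13_0 lc_c_rc_16_2 lc_c_rc_17_2 lc_c_Cert_tree lc_c_rc_28_4 lc_c_Cert_tree lc_c_rc_13_0 lc_c_rc_16_2 lc_c_Cert_tree lc_c_Cert_tree) (@D3.rec (fun _ => (Cert rels S Gen.c)) lc_c_rc_13_0 lc_c_rc_28_6 lc_c_rc_16_2 lc_c_Cert_tree lc_c_Cert_tree lc_c_rc_13_0 lc_c_rc_17_2 lc_c_rc_8_1 lc_c_rc_13_0 lc_c_rc_8_1 lc_c_rc_17_2 lc_c_rc_13_0 lc_c_rc_28_4 lc_c_rc_16_2 lc_c_rc_17_0 lc_c_rc_15_2 lc_c_rc_28_6 lc_c_rc_8_3 lc_c_rc_13_0 lc_c_rc_16_2 lc_c_rc_17_2 lc_c_rc_8_3 lc_c_Cert_tree lc_c_rc_16_2 lc_c_rc_17_2 lc_c_Cert_tree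 lc_c_rc_17_2 lc_c_rc_17_2 lc_c_rc_8_3 lc_c_rc_16_2 lc_c_rc_17_2 lc_c_rc_15_2 lc_c_rc_16_2 lc_c_Cert_tree lc_c_Cert_tree lc_c_rc_13_0 lc_c_rc_17_2 lc_c_rc_16_2 lc_c_Cert_tree lc_c_rc_17_2) (@D3.rec (fun _ => (Cert rels S Gen.c)) lc_c_Cert_tree lc_c_rc_13_0 lc_c_rc_17_2 lc_c_Cert_tree lc_c_Cert_tree lc_c_rc_13_0 lc_c_rc_28_6 lc_c_rc_17_2 lc_c_Cert_tree lc_c_Cert_tree lc_c_rc_13_0 lc_c_rc_16_2 lc_c_rc_30_2 lc_c_rc_13_0 lc_c_rc_16_2 lc_c_rc_30_2 lc_c_rc_8_3 lc_c_rc_28_4 lc_c_rc_17_2 lc_c_rc_17_2 lc_c_rc_15_2 lc_c_rc_28_6 lc_c_rc_30_2 lc_c_rc_16_2 lc_c_rc_17_2 lc_c_rc_8_1 lc_c_rc_30_10 lc_c_rc_17_2 lc_c_rc_13_0 lc_c_rc_28_6 lc_c_rc_28_8 lc_c_rc_17_2 lc_c_rc_17_2 lc_c_rc_2_3 lc_c_Cert_tree lc_c_rc_15_2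 lc_c_Cert_tree lc_c_rc_13_0 lc_c_rc_16_2 lc_c_Cert_tree) (@D3.rec (fun _ => (Cert rels S Gen.c)) lc_c_rc_28_8 lc_c_rc_13_0 lc_c_rc_16_2 lc_c_Cert_tree lc_c_rc_16_2 lc_c_rc_16_2 lc_c_rc_17_2 lc_c_rc_2_1 lc_c_rc_17_2 lc_c_rc_8_3 lc_c_rc_28_2 lc_c_rc_13_0 lc_c_rc_15_2 lc_c_rc_2_1 lc_c_Cert_tree lc_c_rc_16_2 lc_c_rc_17_2 lc_c_rc_15_2 lc_c_rc_8_3 lc_c_rc_15_2 lc_c_rc_16_2 lc_c_rc_17_2 lc_c_rc_8_1 lc_c_rc_28_2 lc_c_rc_2_1 lc_c_rc_13_0 lc_c_rc_15_2 lc_c_rc_16_2 lc_c_rc_28_8 lc_c_rc_17_2 lc_c_rc_2_3 lc_c_Cert_tree lc_c_rc_17_2 lc_c_Cert_tree lc_c_rc_13_0 lc_c_rc_17_2 lc_c_Cert_tree lc_c_rc_28_8 lc_c_rc_13_0 lc_c_rc_17_2) (@D3.rec (fun _ => (Cert rels S Gen.c)) lc_c_Cert_tree lc_c_rc_17_2 lc_c_rc_17_2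 lc_c_rc_16_2 lc_c_rc_2_1 lc_c_rc_16_2 lc_c_rc_8_3 lc_c_rc_28_2 lc_c_rc_13_0 lc_c_rc_15_2 lc_c_rc_2_1 lc_c_Cert_tree lc_c_rc_16_2 lc_c_rc_17_2 lc_c_rc_15_2 lc_c_rc_8_3 lc_c_rc_15_2 lc_c_rc_32_32 lc_c_rc_2_1 lc_c_rc_15_2 lc_c_rc_16_2 lc_c_Cert_tree lc_c_rc_13_0 lc_c_rc_8_3 lc_c_rc_28_6 lc_c_rc_8_3 lc_c_rc_2_1 lc_c_Cert_tree lc_c_rc_16_2 lc_c_rc_17_2 lc_c_rc_15_2 lc_c_rc_28_2 lc_c_rc_2_1 lc_c_rc_16_2 lc_c_rc_17_2 lc_c_Cert_tree lc_c_rc_13_0 lc_c_rc_8_3 lc_c_rc_28_6 lc_c_rc_8_3) (@D3.rec (fun _ => (Cert rels S Gen.c)) lc_c_rc_2_1 lc_c_Cert_tree lc_c_rc_16_2 lc_c_rc_15_2 lc_c_rc_13_0 lc_c_rc_17_2 lc_c_rc_32_18 lc_c_rc_15_0 lc_c_rc_16_0 lc_c_rc_17_2 lc_c_rc_16_0 lc_c_rc_28_6 lc_c_rc_13_0 lc_c_rc_16_2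 lc_c_rc_13_0 lc_c_rc_16_2 lc_c_rc_2_1 lc_c_rc_2_3 lc_c_rc_13_0 lc_c_rc_16_0 lc_c_rc_32_70 lc_c_rc_13_0 lc_c_rc_28_6 lc_c_rc_17_2 lc_c_rc_17_2 lc_c_rc_2_3 lc_c_rc_8_3 lc_c_rc_32_34 lc_c_rc_13_0 lc_c_rc_16_2 lc_c_rc_17_2 lc_c_rc_16_2 lc_c_rc_17_2 lc_c_rc_8_3 lc_c_rc_17_2 lc_c_rc_17_2 lc_c_rc_2_1 lc_c_rc_15_2 lc_c_Cert_tree lc_c_Cert_tree) (@D3.rec (fun _ => (Cert rels S Gen.c)) lc_c_rc_13_0 lc_c_rc_16_2 lc_c_Cert_tree lc_c_Cert_tree lc_c_rc_13_0 lc_c_rc_17_2 lc_c_rc_8_3 lc_c_rc_16_2 lc_c_rc_8_3 lc_c_rc_28_2 lc_c_rc_8_3 lc_c_rc_16_2 lc_c_rc_8_1 lc_c_rc_15_2 lc_c_Cert_tree lc_c_Cert_tree lc_c_rc_13_0 lc_c_rc_17_2 lc_c_Cert_tree lc_c_Cert_tree lc_c_rc_13_0 lc_c_rc_16_2 lc_c_rc_8_3 lc_c_rc_17_2 lc_c_rc_8_3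 lc_c_rc_28_4 lc_c_rc_30_10 lc_c_rc_16_2 lc_c_rc_17_2 lc_c_rc_28_2 lc_c_rc_17_0 lc_c_rc_16_2 lc_c_rc_17_2 lc_c_rc_15_2 lc_c_rc_2_1 lc_c_rc_17_2 lc_c_Cert_tree lc_c_rc_17_0 lc_c_rc_15_2 lc_c_rc_8_1) (@D3.rec (fun _ => (Cert rels S Gen.c)) lc_c_rc_13_0 lc_c_rc_16_2 lc_c_Cert_tree lc_c_rc_15_2 lc_c_rc_17_2 lc_c_rc_16_2 lc_c_Cert_tree lc_c_rc_16_2 lc_c_rc_15_2 lc_c_Cert_tree lc_c_rc_2_3 lc_c_rc_13_0 lc_c_rc_16_2 lc_c_rc_16_2 lc_c_rc_13_0 lc_c_rc_16_2 lc_c_rc_28_4 lc_c_rc_16_2 lc_c_Cert_tree lc_c_rc_15_2 lc_c_rc_17_2 lc_c_rc_13_0 lc_c_rc_28_6 lc_c_rc_16_0 lc_c_rc_13_0 lc_c_Cert_tree lc_c_rc_16_2 lc_c_Cert_tree lc_c_Cert_tree lc_c_rc_13_0 lc_c_rc_17_2 lc_c_Cert_tree lc_c_rc_13_0 lc_c_rc_16_2 lc_c_rc_17_2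 lc_c_rc_8_3 lc_c_Cert_tree lc_c_Cert_tree lc_c_rc_13_0 lc_c_rc_8_1) (@D3.rec (fun _ => (Cert rels S Gen.c)) lc_c_rc_13_0 lc_c_rc_17_2 lc_c_rc_17_2 lc_c_rc_2_1 lc_c_rc_2_1 lc_c_rc_2_3 lc_c_rc_17_2 lc_c_rc_2_1 lc_c_rc_2_1 lc_c_Cert_tree lc_c_rc_17_2 lc_c_rc_28_8 lc_c_rc_13_1 lc_c_rc_28_8 lc_c_rc_16_2 lc_c_rc_17_2 lc_c_rc_17_2 lc_c_rc_32_23 lc_c_rc_16_2 lc_c_rc_17_2 lc_c_rc_28_6 lc_c_rc_28_6 lc_c_Cert_tree lc_c_rc_17_2 lc_c_rc_17_0 lc_c_rc_8_1 lc_c_rc_13_0 lc_c_rc_28_6 lc_c_rc_17_2 lc_c_rc_15_2 lc_c_rc_16_2 lc_c_Cert_tree lc_c_rc_28_8 lc_c_rc_13_0 lc_c_rc_15_2 lc_c_Cert_tree lc_c_rc_2_3 lc_c_rc_13_0 lc_c_rc_17_2 lc_c_rc_2_1) (@D3.rec (fun _ => (Cert rels S Gen.c)) lc_c_rc_13_0 lc_c_rc_16_2 lc_c_rc_17_2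 lc_c_Cert_tree lc_c_rc_15_2 lc_c_rc_2_3 lc_c_rc_13_0 lc_c_rc_13_1 lc_c_rc_8_1 lc_c_rc_13_0 lc_c_rc_17_2 lc_c_Cert_tree lc_c_Cert_tree lc_c_rc_13_0 lc_c_rc_16_2 lc_c_Cert_tree lc_c_rc_13_0 lc_c_rc_16_2 lc_c_rc_17_2 lc_c_rc_8_3 lc_c_rc_13_0 lc_c_rc_15_0 lc_c_rc_13_0 lc_c_rc_16_2 lc_c_rc_16_2 lc_c_rc_2_1 lc_c_rc_16_2 lc_c_rc_13_0 lc_c_rc_16_2 lc_c_rc_13_1 lc_c_rc_2_1 lc_c_rc_16_2 lc_c_rc_28_2 lc_c_rc_13_1 lc_c_rc_2_1 lc_c_rc_2_1 lc_c_rc_13_0 lc_c_rc_28_4 lc_c_rc_17_2 lc_c_rc_17_2) (@D3.rec (fun _ => (Cert rels S Gen.c)) lc_c_rc_2_1 lc_c_rc_15_2 lc_c_rc_13_0 lc_c_rc_17_2 lc_c_Cert_tree lc_c_Cert_tree lc_c_rc_14_14 lc_c_rc_17_2 lc_c_rc_17_2 lc_c_rc_2_3 lc_c_rc_16_2 lc_c_rc_17_2 lc_c_rc_16_2 lc_c_rc_8_3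 lc_c_rc_13_0 lc_c_rc_8_1 lc_c_Cert_tree lc_c_rc_30_6 lc_c_rc_17_2 lc_c_rc_13_0 lc_c_Cert_tree lc_c_rc_16_2 lc_c_Cert_tree lc_c_rc_13_0 lc_c_rc_15_2 lc_c_rc_16_2 lc_c_rc_17_2 lc_c_rc_2_1 lc_c_rc_17_2 lc_c_rc_8_3 lc_c_rc_2_1 lc_c_rc_2_3 lc_c_rc_2_1 lc_c_rc_16_0 lc_c_rc_8_1 lc_c_rc_15_2 lc_c_rc_8_3 lc_c_rc_15_2 lc_c_rc_8_3 lc_c_rc_28_2) (@D3.rec (fun _ => (Cert rels S Gen.c)) lc_c_rc_2_1 lc_c_rc_2_1 lc_c_rc_15_2 lc_c_rc_17_2 lc_c_rc_2_3 lc_c_rc_28_2 lc_c_rc_8_3 lc_c_rc_8_1 lc_c_rc_2_1 lc_c_rc_2_1 lc_c_rc_13_0 lc_c_rc_16_2 lc_c_rc_28_8 lc_c_rc_17_2 lc_c_rc_2_1 lc_c_rc_8_5 lc_c_rc_8_3 lc_c_rc_2_1 lc_c_Cert_tree lc_c_Cert_tree lc_c_rc_14_14 lc_c_rc_16_2 lc_c_rc_8_3 lc_c_rc_17_2 lc_c_rc_2_3 lc_c_rc_16_2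 lc_c_rc_2_3 lc_c_rc_17_2 lc_c_rc_13_0 lc_c_rc_17_2 lc_c_Cert_tree lc_c_rc_17_2 lc_c_rc_30_10 lc_c_rc_13_0 lc_c_Cert_tree lc_c_rc_17_2 lc_c_Cert_tree lc_c_rc_13_0 lc_c_rc_15_2 lc_c_rc_8_3) (@D3.rec (fun _ => (Cert rels S Gen.c)) lc_c_rc_16_2 lc_c_rc_2_1 lc_c_rc_2_1 lc_c_rc_30_10 lc_c_rc_2_1 lc_c_rc_17_2 lc_c_rc_2_1 lc_c_rc_2_3 lc_c_rc_16_2 lc_c_rc_15_2 lc_c_rc_8_3 lc_c_rc_15_2 lc_c_rc_8_3 lc_c_rc_28_2 lc_c_rc_2_1 lc_c_rc_2_1 lc_c_rc_15_2 lc_c_rc_17_2 lc_c_rc_2_1 lc_c_rc_2_1 lc_c_rc_8_3 lc_c_rc_8_1 lc_c_rc_2_1 lc_c_rc_2_1 lc_c_rc_15_2 lc_c_rc_16_2 lc_c_rc_13_1 lc_c_rc_16_2 lc_c_rc_17_2 lc_c_rc_2_1 lc_c_rc_16_2 lc_c_rc_2_3 lc_c_rc_17_2 lc_c_rc_28_2 lc_c_rc_2_1 lc_c_rc_16_2 lc_c_rc_17_2 lc_c_rc_16_2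 lc_c_rc_17_2 lc_c_rc_28_6) (@D3.rec (fun _ => (Cert rels S Gen.c)) lc_c_rc_16_2 lc_c_rc_2_1 lc_c_rc_8_3 lc_c_rc_28_4 lc_c_rc_2_3 lc_c_rc_16_0 lc_c_Cert_tree lc_c_rc_16_2 lc_c_rc_8_3 lc_c_rc_15_2 lc_c_rc_2_1 lc_c_rc_16_2 lc_c_Cert_tree lc_c_rc_28_8 lc_c_rc_2_1 lc_c_rc_2_1 lc_c_rc_2_1 lc_c_rc_15_2 lc_c_rc_17_2 lc_c_rc_16_2 lc_c_rc_17_2 lc_c_rc_16_2 lc_c_rc_2_1 lc_c_rc_2_1 lc_c_rc_15_2 lc_c_rc_17_2 lc_c_rc_13_1 lc_c_rc_17_2 lc_c_rc_17_2 lc_c_rc_2_3 lc_c_rc_17_2 lc_c_rc_30_18 lc_c_rc_15_0 lc_c_rc_16_2 lc_c_rc_2_3 lc_c_rc_17_0 lc_c_rc_17_2 lc_c_rc_17_2 lc_c_rc_15_0 lc_c_rc_28_4) (@D3.rec (fun _ => (Cert rels S Gen.c)) lc_c_rc_15_2 lc_c_rc_2_1 lc_c_Cert_tree lc_c_rc_8_3 lc_c_rc_17_2 lc_c_rc_15_2 lc_c_rc_28_8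 lc_c_rc_8_1 lc_c_Cert_tree lc_c_rc_28_8 lc_c_rc_2_1 lc_c_rc_2_1 lc_c_rc_2_1 lc_c_rc_15_2 lc_c_rc_16_2 lc_c_rc_16_2 lc_c_rc_17_2 lc_c_rc_17_2 lc_c_rc_13_0 lc_c_rc_17_2 lc_c_rc_28_4 lc_c_Cert_tree lc_c_rc_28_4 lc_c_Cert_tree lc_c_rc_16_2 lc_c_rc_13_0 lc_c_rc_16_2 lc_c_rc_8_3 lc_c_rc_8_3 lc_c_rc_2_1 lc_c_rc_28_6 lc_c_rc_13_0 lc_c_rc_16_2 lc_c_rc_2_3 lc_c_rc_13_0 lc_c_rc_15_0 lc_c_rc_28_2 lc_c_rc_13_0 lc_c_rc_16_2 lc_c_rc_28_6) (@D3.rec (fun _ => (Cert rels S Gen.c)) lc_c_rc_28_4 lc_c_rc_17_2 lc_c_rc_13_0 lc_c_rc_15_2 lc_c_rc_16_2 lc_c_rc_8_3 lc_c_rc_14_2 lc_c_rc_15_2 lc_c_rc_2_1 lc_c_rc_17_2 lc_c_rc_16_2 lc_c_rc_17_2 lc_c_rc_15_2 lc_c_rc_13_1 lc_c_rc_15_2 lc_c_rc_15_2 lc_c_Cert_tree lc_c_rc_17_2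 lc_c_rc_30_10 lc_c_rc_17_2 lc_c_rc_28_8 lc_c_Cert_tree lc_c_rc_2_1 lc_c_rc_2_1 lc_c_rc_8_3 lc_c_rc_8_1 lc_c_rc_13_0 lc_c_rc_17_2 lc_c_rc_2_3 lc_c_rc_16_2 lc_c_rc_28_2 lc_c_rc_13_0 lc_c_rc_16_2 lc_c_rc_28_4 lc_c_Cert_tree lc_c_rc_28_4 lc_c_rc_2_3 lc_c_rc_17_2 lc_c_rc_13_0 lc_c_rc_17_2) (@D3.rec (fun _ => (Cert rels S Gen.c)) lc_c_rc_8_3 lc_c_rc_8_3 lc_c_rc_17_0 lc_c_rc_13_0 lc_c_rc_17_2 lc_c_rc_13_0 lc_c_rc_17_2 lc_c_rc_14_2 lc_c_rc_28_4 lc_c_rc_13_0 lc_c_rc_15_2 lc_c_rc_8_1 lc_c_rc_8_3 lc_c_rc_28_6 lc_c_rc_2_3 lc_c_rc_2_1 lc_c_rc_16_2 lc_c_rc_15_2 lc_c_rc_16_2 lc_c_rc_16_2 lc_c_rc_28_2 lc_c_rc_28_2 lc_c_rc_16_2 lc_c_Cert_tree lc_c_rc_2_1 lc_c_rc_2_1 lc_c_rc_8_1 lc_c_rc_17_2 lc_c_rc_13_0 lc_c_rc_16_2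 lc_c_rc_17_2 lc_c_rc_15_2 lc_c_rc_15_2 lc_c_rc_28_2 lc_c_Cert_tree lc_c_Cert_tree lc_c_rc_28_6 lc_c_rc_28_6 lc_c_rc_17_2 lc_c_rc_2_1)
def ce_c_9 : D2 → D3 → (Cert rels S Gen.c) := @D2.rec (fun _ => D3 → (Cert rels S Gen.c)) (@D3.rec (fun _ => (Cert rels S Gen.c)) lc_c_Cert_tree lc_c_Cert_tree lc_c_Cert_tree lc_c_rc_13_0 lc_c_rc_16_2 lc_c_Cert_tree lc_c_rc_13_0 lc_c_rc_17_2 lc_c_Cert_tree lc_c_Cert_tree lc_c_rc_13_0 lc_c_rc_17_2 lc_c_rc_13_0 lc_c_rc_16_2 lc_c_rc_16_2 lc_c_rc_17_2 lc_c_Cert_tree lc_c_rc_16_0 lc_c_rc_13_1 lc_c_Cert_tree lc_c_Cert_tree lc_c_Cert_tree lc_c_rc_13_0 lc_c_rc_16_2 lc_c_Cert_tree lc_c_Cert_tree lc_c_rc_13_0 lc_c_rc_17_2 lc_c_rc_17_2 lc_c_rc_28_2 lc_c_rc_13_0 lc_c_rc_17_2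 lc_c_rc_28_4 lc_c_rc_17_2 lc_c_rc_17_0 lc_c_rc_8_3 lc_c_rc_8_1 lc_c_rc_28_4 lc_c_rc_16_2 lc_c_rc_30_2) (@D3.rec (fun _ => (Cert rels S Gen.c)) lc_c_rc_32_32 lc_c_rc_15_2 lc_c_Cert_tree lc_c_Cert_tree lc_c_rc_2_1 lc_c_rc_32_32 lc_c_Cert_tree lc_c_Cert_tree lc_c_rc_13_0 lc_c_rc_13_0 lc_c_rc_8_3 lc_c_rc_28_4 lc_c_rc_28_4 lc_c_rc_17_2 lc_c_rc_16_2 lc_c_rc_16_2 lc_c_rc_17_2 lc_c_rc_16_2 lc_c_rc_17_2 lc_c_rc_28_6 lc_c_rc_28_4 lc_c_rc_17_2 lc_c_rc_2_1 lc_c_Cert_tree lc_c_Cert_tree lc_c_rc_28_6 lc_c_Cert_tree lc_c_rc_28_6 lc_c_Cert_tree lc_c_Cert_tree lc_c_Cert_tree lc_c_rc_13_0 lc_c_rc_16_2 lc_c_Cert_tree lc_c_Cert_tree lc_c_rc_13_0 lc_c_rc_17_2 lc_c_rc_8_3 lc_c_rc_13_0 lc_c_rc_14_2) (@D3.rec (fun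 _ => (Cert rels S Gen.c)) lc_c_rc_13_0 lc_c_rc_13_0 lc_c_rc_16_2 lc_c_rc_32_16 lc_c_rc_16_2 lc_c_rc_17_2 lc_c_rc_8_3 lc_c_rc_13_0 lc_c_rc_28_6 lc_c_rc_16_2 lc_c_rc_13_0 lc_c_rc_17_2 lc_c_rc_13_1 lc_c_rc_17_2 lc_c_rc_16_2 lc_c_rc_28_6 lc_c_rc_13_0 lc_c_rc_17_2 lc_c_rc_17_2 lc_c_rc_16_2 lc_c_rc_8_1 lc_c_rc_13_0 lc_c_rc_16_2 lc_c_rc_16_2 lc_c_rc_17_2 lc_c_rc_17_2 lc_c_rc_28_2 lc_c_rc_8_3 lc_c_rc_16_2 lc_c_rc_2_1 lc_c_rc_16_2 lc_c_rc_17_2 lc_c_rc_8_3 lc_c_rc_17_2 lc_c_rc_2_1 lc_c_rc_2_1 lc_c_Cert_tree lc_c_rc_17_2 lc_c_rc_2_3 lc_c_rc_13_0) (@D3.rec (fun _ => (Cert rels S Gen.c)) lc_c_rc_16_2 lc_c_rc_13_0 lc_c_rc_17_2 lc_c_Cert_tree lc_c_rc_16_2 lc_c_rc_17_2 lc_c_rc_15_0 lc_c_rc_13_0 lc_c_rc_17_2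 lc_c_rc_13_0 lc_c_rc_16_2 lc_c_Cert_tree lc_c_Cert_tree lc_c_rc_17_2 lc_c_rc_14_2 lc_c_Cert_tree lc_c_rc_13_0 lc_c_rc_15_2 lc_c_rc_17_2 lc_c_Cert_tree lc_c_Cert_tree lc_c_rc_13_0 lc_c_rc_16_2 lc_c_Cert_tree lc_c_rc_13_0 lc_c_rc_16_2 lc_c_rc_15_0 lc_c_rc_16_2 lc_c_rc_17_2 lc_c_rc_16_2 lc_c_rc_14_2 lc_c_Cert_tree lc_c_rc_13_0 lc_c_rc_15_2 lc_c_rc_16_2 lc_c_Cert_tree lc_c_Cert_tree lc_c_rc_13_0 lc_c_rc_17_2 lc_c_Cert_tree) (@D3.rec (fun _ => (Cert rels S Gen.c)) lc_c_rc_13_0 lc_c_rc_17_2 lc_c_rc_15_0 lc_c_rc_17_2 lc_c_rc_2_3 lc_c_rc_2_1 lc_c_rc_2_1 lc_c_rc_28_8 lc_c_rc_17_2 lc_c_rc_8_3 lc_c_rc_13_0 lc_c_rc_15_2 lc_c_rc_17_2 lc_c_rc_2_3 lc_c_rc_13_0 lc_c_rc_16_2 lc_c_Cert_tree lc_c_rc_8_3 lc_c_rc_17_0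 lc_c_Cert_tree lc_c_rc_15_0 lc_c_rc_16_2 lc_c_rc_8_3 lc_c_rc_13_0 lc_c_rc_15_2 lc_c_rc_16_2 lc_c_rc_30_14 lc_c_rc_13_0 lc_c_rc_30_2 lc_c_Cert_tree lc_c_rc_17_0 lc_c_rc_8_5 lc_c_Cert_tree lc_c_rc_15_2 lc_c_rc_17_2 lc_c_rc_28_8 lc_c_rc_2_1 lc_c_rc_17_2 lc_c_rc_2_1 lc_c_rc_13_0) (@D3.rec (fun _ => (Cert rels S Gen.c)) lc_c_rc_15_2 lc_c_rc_17_2 lc_c_Cert_tree lc_c_rc_2_3 lc_c_rc_13_0 lc_c_rc_16_2 lc_c_rc_15_2 lc_c_rc_17_2 lc_c_rc_17_2 lc_c_rc_16_2 lc_c_Cert_tree lc_c_Cert_tree lc_c_rc_13_0 lc_c_Cert_tree lc_c_rc_16_2 lc_c_rc_15_2 lc_c_Cert_tree lc_c_rc_13_0 lc_c_rc_17_2 lc_c_rc_15_2 lc_c_rc_13_0 lc_c_rc_16_2 lc_c_rc_17_2 lc_c_rc_8_3 lc_c_Cert_tree lc_c_rc_16_2 lc_c_rc_13_0 lc_c_rc_15_2 lc_c_rc_16_2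 lc_c_rc_17_2 lc_c_Cert_tree lc_c_rc_28_2 lc_c_rc_16_2 lc_c_rc_2_1 lc_c_rc_28_4 lc_c_rc_2_3 lc_c_rc_28_6 lc_c_rc_13_0 lc_c_rc_15_2 lc_c_rc_16_2) (@D3.rec (fun _ => (Cert rels S Gen.c)) lc_c_Cert_tree lc_c_rc_13_1 lc_c_rc_13_0 lc_c_rc_17_2 lc_c_rc_15_2 lc_c_rc_16_2 lc_c_rc_16_2 lc_c_rc_17_2 lc_c_Cert_tree lc_c_Cert_tree lc_c_rc_13_0 lc_c_Cert_tree lc_c_rc_17_2 lc_c_rc_16_2 lc_c_Cert_tree lc_c_rc_13_0 lc_c_rc_16_2 lc_c_rc_15_2 lc_c_rc_13_0 lc_c_rc_16_2 lc_c_rc_17_2 lc_c_rc_8_3 lc_c_Cert_tree lc_c_rc_17_2 lc_c_rc_13_0 lc_c_rc_15_2 lc_c_rc_17_2 lc_c_rc_2_1 lc_c_Cert_tree lc_c_rc_2_1 lc_c_Cert_tree lc_c_rc_16_2 lc_c_rc_17_2 lc_c_rc_15_2 lc_c_rc_8_3 lc_c_rc_15_2 lc_c_rc_2_1 lc_c_Cert_tree lc_c_rc_16_2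 lc_c_rc_17_2) (@D3.rec (fun _ => (Cert rels S Gen.c)) lc_c_rc_15_2 lc_c_rc_8_3 lc_c_rc_15_2 lc_c_rc_8_3 lc_c_rc_28_2 lc_c_Cert_tree lc_c_rc_16_2 lc_c_rc_17_2 lc_c_rc_15_2 lc_c_rc_8_3 lc_c_rc_28_2 lc_c_Cert_tree lc_c_rc_16_2 lc_c_rc_15_2 lc_c_rc_8_3 lc_c_rc_17_2 lc_c_rc_2_3 lc_c_rc_13_0 lc_c_rc_13_1 lc_c_rc_17_2 lc_c_Cert_tree lc_c_rc_16_2 lc_c_rc_17_2 lc_c_rc_16_2 lc_c_rc_13_0 lc_c_rc_17_2 lc_c_rc_16_2 lc_c_Cert_tree lc_c_rc_17_2 lc_c_rc_15_0 lc_c_rc_28_8 lc_c_rc_8_5 lc_c_rc_15_2 lc_c_rc_28_2 lc_c_Cert_tree lc_c_rc_13_0 lc_c_rc_16_2 lc_c_rc_28_2 lc_c_rc_13_0 lc_c_rc_8_1) (@D3.rec (fun _ => (Cert rels S Gen.c)) lc_c_rc_16_2 lc_c_Cert_tree lc_c_rc_13_0 lc_c_rc_17_2 lc_c_rc_8_3 lc_c_Cert_tree lc_c_rc_16_2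 lc_c_rc_13_0 lc_c_rc_15_2 lc_c_rc_16_2 lc_c_rc_17_2 lc_c_rc_8_3 lc_c_rc_2_1 lc_c_rc_17_2 lc_c_rc_16_2 lc_c_rc_16_2 lc_c_Cert_tree lc_c_rc_13_0 lc_c_rc_17_2 lc_c_rc_28_2 lc_c_rc_13_0 lc_c_rc_2_3 lc_c_rc_17_2 lc_c_rc_2_3 lc_c_rc_13_0 lc_c_rc_16_2 lc_c_rc_8_3 lc_c_Cert_tree lc_c_rc_17_2 lc_c_rc_13_0 lc_c_rc_15_2 lc_c_rc_17_2 lc_c_rc_2_1 lc_c_rc_16_2 lc_c_rc_16_0 lc_c_Cert_tree lc_c_rc_13_0 lc_c_rc_28_4 lc_c_rc_17_2 lc_c_rc_13_0) (@D3.rec (fun _ => (Cert rels S Gen.c)) lc_c_rc_16_2 lc_c_rc_16_2 lc_c_rc_8_1 lc_c_Cert_tree lc_c_rc_13_0 lc_c_rc_28_4 lc_c_rc_2_1 lc_c_rc_13_0 lc_c_rc_17_2 lc_c_rc_17_2 lc_c_rc_2_1 lc_c_rc_30_6 lc_c_rc_17_2 lc_c_rc_2_3 lc_c_rc_13_0 lc_c_rc_17_2 lc_c_Cert_tree lc_c_rc_13_0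 lc_c_rc_17_2 lc_c_rc_16_2 lc_c_rc_13_0 lc_c_rc_16_2 lc_c_rc_13_0 lc_c_rc_8_3 lc_c_rc_28_2 lc_c_rc_16_2 lc_c_rc_13_0 lc_c_rc_15_2 lc_c_rc_16_2 lc_c_rc_8_3 lc_c_rc_28_8 lc_c_rc_17_2 lc_c_rc_16_2 lc_c_rc_8_3 lc_c_rc_13_0 lc_c_rc_17_2 lc_c_Cert_tree lc_c_rc_13_0 lc_c_rc_16_2 lc_c_rc_17_2) (@D3.rec (fun _ => (Cert rels S Gen.c)) lc_c_rc_2_1 lc_c_rc_17_2 lc_c_rc_13_0 lc_c_rc_8_3 lc_c_rc_28_2 lc_c_rc_17_2 lc_c_rc_13_0 lc_c_rc_15_2 lc_c_rc_17_2 lc_c_rc_8_3 lc_c_rc_8_3 lc_c_rc_30_10 lc_c_rc_17_2 lc_c_rc_15_2 lc_c_rc_15_2 lc_c_Cert_tree lc_c_rc_13_0 lc_c_rc_30_2 lc_c_rc_2_3 lc_c_Cert_tree lc_c_rc_16_2 lc_c_Cert_tree lc_c_rc_17_2 lc_c_rc_8_3 lc_c_rc_15_2 lc_c_rc_17_2 lc_c_Cert_tree lc_c_rc_13_0 lc_c_rc_17_2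 lc_c_rc_16_2 lc_c_rc_13_0 lc_c_rc_16_2 lc_c_rc_17_2 lc_c_rc_8_3 lc_c_Cert_tree lc_c_rc_13_0 lc_c_rc_15_2 lc_c_rc_16_2 lc_c_rc_13_1 lc_c_rc_13_1) (@D3.rec (fun _ => (Cert rels S Gen.c)) lc_c_rc_13_0 lc_c_rc_16_2 lc_c_rc_17_2 lc_c_rc_2_1 lc_c_rc_8_3 lc_c_rc_30_6 lc_c_rc_16_2 lc_c_rc_17_2 lc_c_rc_2_1 lc_c_Cert_tree lc_c_rc_16_2 lc_c_rc_17_2 lc_c_rc_13_0 lc_c_rc_15_2 lc_c_rc_28_4 lc_c_rc_2_1 lc_c_rc_8_3 lc_c_rc_28_6 lc_c_rc_15_2 lc_c_rc_8_1 lc_c_rc_28_4 lc_c_Cert_tree lc_c_rc_2_3 lc_c_rc_13_0 lc_c_rc_16_2 lc_c_rc_8_3 lc_c_rc_2_1 lc_c_rc_15_2 lc_c_rc_16_2 lc_c_Cert_tree lc_c_rc_13_0 lc_c_rc_17_2 lc_c_Cert_tree lc_c_rc_17_2 lc_c_Cert_tree lc_c_rc_16_2 lc_c_rc_8_3 lc_c_rc_28_2 lc_c_rc_17_2 lc_c_Cert_tree)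 (@D3.rec (fun _ => (Cert rels S Gen.c)) lc_c_rc_13_0 lc_c_rc_16_2 lc_c_rc_8_3 lc_c_rc_13_0 lc_c_rc_16_2 lc_c_rc_17_2 lc_c_rc_8_3 lc_c_Cert_tree lc_c_rc_13_0 lc_c_rc_15_2 lc_c_rc_17_2 lc_c_rc_8_3 lc_c_rc_16_2 lc_c_rc_13_0 lc_c_rc_17_2 lc_c_rc_16_2 lc_c_rc_2_1 lc_c_rc_8_3 lc_c_rc_17_0 lc_c_rc_16_2 lc_c_rc_17_2 lc_c_rc_16_0 lc_c_Cert_tree lc_c_rc_15_0 lc_c_rc_17_2 lc_c_rc_13_0 lc_c_rc_15_2 lc_c_rc_8_3 lc_c_rc_13_0 lc_c_rc_8_3 lc_c_rc_28_6 lc_c_rc_15_2 lc_c_rc_30_6 lc_c_rc_17_2 lc_c_Cert_tree lc_c_rc_16_2 lc_c_rc_13_0 lc_c_rc_17_2 lc_c_rc_2_3 lc_c_rc_17_2) (@D3.rec (fun _ => (Cert rels S Gen.c)) lc_c_rc_2_1 lc_c_rc_2_1 lc_c_rc_2_3 lc_c_rc_28_8 lc_c_rc_16_2 lc_c_rc_2_1 lc_c_rc_8_3 lc_c_rc_8_1 lc_c_rc_17_2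 lc_c_rc_8_3 lc_c_rc_2_1 lc_c_rc_2_3 lc_c_rc_2_1 lc_c_rc_8_3 lc_c_rc_16_2 lc_c_rc_16_0 lc_c_rc_13_0 lc_c_rc_15_2 lc_c_rc_2_3 lc_c_rc_8_3 lc_c_rc_15_2 lc_c_rc_17_2 lc_c_rc_13_0 lc_c_rc_17_2 lc_c_rc_17_2 lc_c_Cert_tree lc_c_Cert_tree lc_c_rc_2_1 lc_c_rc_13_0 lc_c_rc_15_2 lc_c_rc_16_2 lc_c_rc_17_2 lc_c_rc_17_2 lc_c_rc_13_0 lc_c_rc_15_2 lc_c_rc_17_2 lc_c_rc_15_2 lc_c_rc_15_2 lc_c_rc_16_2 lc_c_rc_16_2) (@D3.rec (fun _ => (Cert rels S Gen.c)) lc_c_rc_15_2 lc_c_rc_30_10 lc_c_Cert_tree lc_c_Cert_tree lc_c_rc_2_1 lc_c_rc_13_0 lc_c_rc_15_2 lc_c_rc_16_2 lc_c_rc_16_0 lc_c_rc_16_2 lc_c_rc_13_0 lc_c_rc_17_2 lc_c_rc_13_0 lc_c_rc_16_2 lc_c_rc_13_0 lc_c_rc_17_2 lc_c_Cert_tree lc_c_rc_13_0 lc_c_rc_16_2 lc_c_Cert_tree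 lc_c_rc_15_2 lc_c_rc_13_0 lc_c_rc_15_2 lc_c_rc_13_0 lc_c_rc_8_1 lc_c_rc_2_1 lc_c_rc_2_1 lc_c_Cert_tree lc_c_rc_17_2 lc_c_Cert_tree lc_c_rc_2_3 lc_c_Cert_tree lc_c_rc_13_0 lc_c_rc_17_2 lc_c_Cert_tree lc_c_rc_13_0 lc_c_rc_16_2 lc_c_rc_28_4 lc_c_rc_13_0 lc_c_rc_17_2) (@D3.rec (fun _ => (Cert rels S Gen.c)) lc_c_rc_28_4 lc_c_rc_17_2 lc_c_rc_2_3 lc_c_rc_16_0 lc_c_rc_13_0 lc_c_rc_16_2 lc_c_rc_14_12 lc_c_rc_16_2 lc_c_rc_17_2 lc_c_rc_17_2 lc_c_rc_13_0 lc_c_rc_2_1 lc_c_rc_13_0 lc_c_rc_8_5 lc_c_Cert_tree lc_c_Cert_tree lc_c_rc_13_0 lc_c_rc_16_2 lc_c_Cert_tree lc_c_Cert_tree lc_c_rc_13_0 lc_c_rc_13_0 lc_c_rc_16_2 lc_c_rc_17_2 lc_c_rc_8_3 lc_c_rc_28_2 lc_c_rc_13_0 lc_c_rc_15_2 lc_c_rc_17_2 lc_c_Cert_tree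 lc_c_rc_13_0 lc_c_rc_16_2 lc_c_Cert_tree lc_c_rc_13_0 lc_c_rc_16_2 lc_c_Cert_tree lc_c_rc_16_2 lc_c_rc_17_2 lc_c_rc_13_0 lc_c_rc_16_2) (@D3.rec (fun _ => (Cert rels S Gen.c)) lc_c_rc_17_2 lc_c_rc_8_3 lc_c_rc_28_2 lc_c_rc_13_0 lc_c_rc_15_2 lc_c_rc_16_2 lc_c_Cert_tree lc_c_rc_13_0 lc_c_rc_17_2 lc_c_Cert_tree lc_c_rc_13_0 lc_c_rc_17_2 lc_c_Cert_tree lc_c_rc_17_2 lc_c_rc_2_3 lc_c_rc_13_0 lc_c_rc_8_3 lc_c_Cert_tree lc_c_rc_16_2 lc_c_rc_17_2 lc_c_rc_17_2 lc_c_rc_2_3 lc_c_rc_2_1 lc_c_Cert_tree lc_c_rc_16_2 lc_c_rc_17_2 lc_c_rc_13_0 lc_c_rc_15_2 lc_c_rc_8_3 lc_c_rc_28_6 lc_c_rc_15_2 lc_c_rc_17_2 lc_c_rc_17_2 lc_c_Cert_tree lc_c_Cert_tree lc_c_rc_13_0 lc_c_rc_16_2 lc_c_Cert_tree lc_c_rc_13_0 lc_c_Cert_tree)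 (@D3.rec (fun _ => (Cert rels S Gen.c)) lc_c_rc_16_2 lc_c_rc_13_0 lc_c_rc_8_3 lc_c_Cert_tree lc_c_rc_16_2 lc_c_rc_13_0 lc_c_rc_16_0 lc_c_rc_16_2 lc_c_rc_17_2 lc_c_rc_13_0 lc_c_rc_8_3 lc_c_Cert_tree lc_c_rc_16_2 lc_c_rc_17_2 lc_c_rc_17_2 lc_c_rc_2_3 lc_c_rc_30_2 lc_c_Cert_tree lc_c_rc_16_2 lc_c_rc_13_0 lc_c_rc_13_0 lc_c_rc_15_2 lc_c_rc_8_3 lc_c_rc_28_6 lc_c_rc_15_2 lc_c_rc_16_2 lc_c_rc_16_2 lc_c_Cert_tree lc_c_Cert_tree lc_c_rc_13_0 lc_c_rc_17_2 lc_c_Cert_tree lc_c_rc_13_0 lc_c_Cert_tree lc_c_rc_17_2 lc_c_rc_13_0 lc_c_rc_8_3 lc_c_Cert_tree lc_c_rc_17_2 lc_c_rc_13_0) (@D3.rec (fun _ => (Cert rels S Gen.c)) lc_c_rc_32_18 lc_c_rc_17_2 lc_c_rc_2_1 lc_c_rc_15_2 lc_c_Cert_tree lc_c_rc_15_2 lc_c_rc_28_2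 lc_c_Cert_tree lc_c_Cert_tree lc_c_rc_13_0 lc_c_rc_16_2 lc_c_rc_8_3 lc_c_rc_15_2 lc_c_rc_17_2 lc_c_rc_17_2 lc_c_Cert_tree lc_c_rc_28_2 lc_c_rc_16_2 lc_c_Cert_tree lc_c_rc_15_2 lc_c_rc_13_0 lc_c_rc_17_2 lc_c_Cert_tree lc_c_rc_15_2 lc_c_rc_15_2 lc_c_rc_28_4 lc_c_Cert_tree lc_c_Cert_tree lc_c_rc_13_0 lc_c_rc_17_2 lc_c_rc_8_3 lc_c_rc_15_2 lc_c_rc_16_2 lc_c_rc_16_2 lc_c_Cert_tree lc_c_rc_28_4 lc_c_rc_17_2 lc_c_Cert_tree lc_c_rc_17_2 lc_c_rc_13_0) (@D3.rec (fun _ => (Cert rels S Gen.c)) lc_c_rc_16_2 lc_c_rc_15_2 lc_c_rc_16_2 lc_c_rc_17_2 lc_c_rc_2_1 lc_c_rc_8_3 lc_c_rc_15_2 lc_c_rc_17_2 lc_c_rc_17_2 lc_c_Cert_tree lc_c_rc_2_3 lc_c_rc_13_0 lc_c_rc_2_3 lc_c_Cert_tree lc_c_rc_8_3 lc_c_rc_28_6 lc_c_Cert_tree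 lc_c_rc_17_2 lc_c_Cert_tree lc_c_rc_16_2 lc_c_Cert_tree lc_c_rc_16_2 lc_c_Cert_tree lc_c_rc_13_0 lc_c_rc_16_2 lc_c_Cert_tree lc_c_rc_17_0 lc_c_Cert_tree lc_c_Cert_tree lc_c_rc_13_0 lc_c_rc_17_2 lc_c_rc_13_0 lc_c_rc_17_2 lc_c_rc_17_2 lc_c_rc_15_2 lc_c_rc_16_2 lc_c_rc_17_2 lc_c_rc_16_2 lc_c_rc_8_3 lc_c_rc_15_2) (@D3.rec (fun _ => (Cert rels S Gen.c)) lc_c_rc_16_2 lc_c_rc_16_2 lc_c_Cert_tree lc_c_rc_2_3 lc_c_rc_13_0 lc_c_rc_17_2 lc_c_Cert_tree lc_c_rc_8_3 lc_c_rc_28_6 lc_c_Cert_tree lc_c_rc_16_2 lc_c_Cert_tree lc_c_rc_17_2 lc_c_Cert_tree lc_c_rc_17_2 lc_c_Cert_tree lc_c_rc_13_0 lc_c_rc_17_2 lc_c_Cert_tree lc_c_rc_2_3 lc_c_Cert_tree lc_c_Cert_tree lc_c_rc_13_0 lc_c_rc_16_2 lc_c_rc_13_0 lc_c_rc_16_2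 lc_c_rc_30_10 lc_c_rc_14_10 lc_c_rc_17_2 lc_c_rc_13_0 lc_c_rc_15_2 lc_c_rc_16_2 lc_c_rc_17_2 lc_c_rc_14_10 lc_c_rc_2_3 lc_c_rc_28_6 lc_c_rc_15_2 lc_c_rc_16_2 lc_c_rc_17_2 lc_c_rc_15_2) (@D3.rec (fun _ => (Cert rels S Gen.c)) lc_c_rc_17_2 lc_c_rc_17_2 lc_c_rc_2_3 lc_c_rc_15_2 lc_c_rc_2_1 lc_c_rc_2_3 lc_c_rc_16_2 lc_c_rc_2_1 lc_c_rc_2_1 lc_c_rc_17_2 lc_c_Cert_tree lc_c_rc_13_0 lc_c_rc_16_2 lc_c_Cert_tree lc_c_rc_13_0 lc_c_rc_16_2 lc_c_Cert_tree lc_c_rc_16_2 lc_c_rc_17_2 lc_c_rc_16_2 lc_c_rc_16_0 lc_c_Cert_tree lc_c_rc_14_10 lc_c_rc_16_2 lc_c_rc_13_0 lc_c_rc_15_2 lc_c_rc_16_2 lc_c_rc_17_2 lc_c_rc_8_3 lc_c_rc_8_3 lc_c_rc_28_6 lc_c_rc_15_2 lc_c_rc_16_2 lc_c_rc_17_2 lc_c_rc_16_2 lc_c_rc_14_2 lc_c_rc_17_2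 lc_c_rc_2_3 lc_c_rc_2_1 lc_c_rc_2_3) (@D3.rec (fun _ => (Cert rels S Gen.c)) lc_c_rc_16_0 lc_c_rc_16_2 lc_c_rc_2_1 lc_c_rc_2_1 lc_c_rc_16_2 lc_c_Cert_tree lc_c_rc_13_0 lc_c_rc_17_2 lc_c_Cert_tree lc_c_rc_13_0 lc_c_rc_17_2 lc_c_rc_28_4 lc_c_rc_17_2 lc_c_rc_16_2 lc_c_rc_17_0 lc_c_rc_30_2 lc_c_Cert_tree lc_c_rc_8_5 lc_c_rc_2_1 lc_c_rc_13_0 lc_c_rc_15_2 lc_c_rc_16_2 lc_c_rc_17_2 lc_c_rc_13_0 lc_c_rc_16_0 lc_c_rc_28_4 lc_c_rc_15_2 lc_c_rc_16_2 lc_c_rc_17_2 lc_c_rc_16_2 lc_c_rc_17_2 lc_c_rc_17_2 lc_c_rc_2_3 lc_c_rc_28_2 lc_c_Cert_tree lc_c_rc_8_5 lc_c_rc_16_2 lc_c_rc_13_0 lc_c_rc_15_2 lc_c_rc_16_2) (@D3.rec (fun _ => (Cert rels S Gen.c)) lc_c_rc_17_2 lc_c_rc_16_0 lc_c_rc_16_0 lc_c_rc_28_4 lc_c_rc_15_2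 lc_c_rc_16_2 lc_c_rc_17_2 lc_c_rc_16_2 lc_c_rc_17_2 lc_c_rc_17_2 lc_c_rc_2_3 lc_c_Cert_tree lc_c_rc_8_3 lc_c_rc_16_2 lc_c_rc_17_2 lc_c_rc_17_2 lc_c_rc_16_2 lc_c_rc_13_0 lc_c_rc_16_2 lc_c_rc_13_0 lc_c_rc_17_2 lc_c_rc_32_27 lc_c_rc_17_2 lc_c_rc_15_2 lc_c_rc_28_6 lc_c_rc_17_2 lc_c_rc_8_3 lc_c_rc_2_1 lc_c_rc_8_3 lc_c_rc_17_2 lc_c_rc_13_0 lc_c_rc_13_0 lc_c_rc_17_2 lc_c_rc_2_1 lc_c_rc_17_2 lc_c_rc_15_2 lc_c_rc_28_6 lc_c_rc_17_2 lc_c_rc_13_0 lc_c_rc_2_3) (@D3.rec (fun _ => (Cert rels S Gen.c)) lc_c_rc_16_2 lc_c_rc_17_2 lc_c_rc_13_0 lc_c_rc_8_3 lc_c_rc_28_4 lc_c_rc_28_4 lc_c_rc_8_3 lc_c_rc_8_3 lc_c_rc_30_6 lc_c_rc_15_0 lc_c_rc_8_5 lc_c_rc_2_3 lc_c_rc_28_4 lc_c_rc_8_3 lc_c_rc_16_2 lc_c_rc_13_0 lc_c_rc_28_4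 lc_c_rc_8_3 lc_c_rc_32_16 lc_c_rc_16_2 lc_c_rc_15_2 lc_c_rc_28_6 lc_c_rc_8_3 lc_c_rc_17_2 lc_c_rc_2_1 lc_c_rc_17_2 lc_c_rc_16_2 lc_c_rc_13_0 lc_c_rc_32_44 lc_c_rc_16_2 lc_c_rc_16_2 lc_c_rc_16_2 lc_c_rc_15_2 lc_c_rc_8_3 lc_c_rc_2_1 lc_c_rc_13_0 lc_c_rc_30_10 lc_c_rc_17_2 lc_c_rc_16_2 lc_c_rc_13_0) (@D3.rec (fun _ => (Cert rels S Gen.c)) lc_c_rc_8_3 lc_c_rc_28_4 lc_c_rc_28_4 lc_c_rc_8_3 lc_c_rc_2_1 lc_c_rc_8_1 lc_c_rc_2_1 lc_c_rc_28_4 lc_c_rc_8_3 lc_c_rc_17_2 lc_c_rc_13_0 lc_c_rc_28_4 lc_c_rc_8_3 lc_c_Cert_tree lc_c_rc_2_1 lc_c_Cert_tree lc_c_Cert_tree lc_c_rc_13_0 lc_c_rc_28_2 lc_c_rc_8_1 lc_c_rc_30_14 lc_c_rc_15_0 lc_c_rc_13_0 lc_c_rc_13_0 lc_c_Cert_tree lc_c_rc_13_0 lc_c_rc_17_2 lc_c_rc_16_2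 lc_c_rc_28_2 lc_c_rc_8_1 lc_c_rc_16_2 lc_c_rc_28_8 lc_c_rc_15_0 lc_c_rc_8_1 lc_c_rc_28_6 lc_c_rc_8_3 lc_c_rc_13_0 lc_c_rc_17_2 lc_c_rc_16_2 lc_c_rc_13_0)
def ce_c_10 : D2 → D3 → (Cert rels S Gen.c) := @D2.rec (fun _ => D3 → (Cert rels S Gen.c)) (@D3.rec (fun _ => (Cert rels S Gen.c)) lc_c_rc_17_2 lc_c_rc_28_4 lc_c_rc_17_2 lc_c_rc_2_3 lc_c_rc_8_3 lc_c_rc_16_2 lc_c_rc_8_3 lc_c_Cert_tree lc_c_rc_13_0 lc_c_Cert_tree lc_c_Cert_tree lc_c_rc_13_0 lc_c_rc_28_6 lc_c_rc_8_1 lc_c_rc_13_0 lc_c_rc_2_1 lc_c_rc_13_0 lc_c_rc_13_0 lc_c_Cert_tree lc_c_rc_13_0 lc_c_rc_16_2 lc_c_rc_17_2 lc_c_rc_28_2 lc_c_rc_8_1 lc_c_rc_28_8 lc_c_rc_28_8 lc_c_rc_16_2 lc_c_rc_15_0 lc_c_rc_15_0 lc_c_rc_8_3 lc_c_rc_13_0 lc_c_rc_16_2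 lc_c_rc_17_2 lc_c_rc_13_0 lc_c_rc_16_2 lc_c_rc_14_12 lc_c_rc_16_2 lc_c_rc_17_2 lc_c_rc_8_3 lc_c_rc_17_2) (@D3.rec (fun _ => (Cert rels S Gen.c)) lc_c_rc_8_3 lc_c_rc_28_6 lc_c_rc_15_2 lc_c_rc_17_2 lc_c_rc_8_3 lc_c_rc_17_2 lc_c_rc_13_1 lc_c_rc_2_1 lc_c_rc_28_6 lc_c_rc_8_5 lc_c_rc_17_2 lc_c_rc_16_2 lc_c_rc_17_2 lc_c_rc_17_2 lc_c_rc_17_2 lc_c_Cert_tree lc_c_rc_2_1 lc_c_rc_17_2 lc_c_Cert_tree lc_c_rc_8_3 lc_c_rc_8_3 lc_c_rc_17_0 lc_c_rc_17_2 lc_c_rc_28_8 lc_c_Cert_tree lc_c_rc_16_2 lc_c_rc_17_2 lc_c_Cert_tree lc_c_rc_13_0 lc_c_rc_17_2 lc_c_rc_28_2 lc_c_rc_16_2 lc_c_Cert_tree lc_c_rc_13_0 lc_c_rc_30_10 lc_c_rc_13_0 lc_c_rc_13_1 lc_c_rc_17_2 lc_c_Cert_tree lc_c_rc_13_0) (@D3.rec (fun _ => (Cert rels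 S Gen.c)) lc_c_Cert_tree lc_c_rc_2_1 lc_c_rc_13_0 lc_c_rc_30_6 lc_c_rc_17_2 lc_c_rc_28_4 lc_c_rc_2_1 lc_c_rc_30_6 lc_c_Cert_tree lc_c_rc_13_0 lc_c_rc_16_2 lc_c_rc_17_0 lc_c_rc_15_2 lc_c_rc_16_2 lc_c_rc_16_2 lc_c_rc_32_29 lc_c_rc_2_1 lc_c_rc_30_10 lc_c_rc_2_1 lc_c_rc_13_0 lc_c_rc_16_2 lc_c_rc_17_2 lc_c_rc_8_1 lc_c_rc_16_2 lc_c_rc_16_2 lc_c_rc_30_14 lc_c_rc_16_2 lc_c_rc_8_3 lc_c_Cert_tree lc_c_rc_8_3 lc_c_rc_28_2 lc_c_rc_8_3 lc_c_rc_16_2 lc_c_rc_2_1 lc_c_Cert_tree lc_c_rc_2_1 lc_c_rc_17_2 lc_c_Cert_tree lc_c_rc_13_0 lc_c_rc_16_2) (@D3.rec (fun _ => (Cert rels S Gen.c)) lc_c_rc_28_2 lc_c_rc_15_0 lc_c_Cert_tree lc_c_rc_13_0 lc_c_rc_16_0 lc_c_rc_13_0 lc_c_rc_16_2 lc_c_rc_2_1 lc_c_Cert_tree lc_c_Cert_tree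 lc_c_rc_13_0 lc_c_rc_8_1 lc_c_rc_8_1 lc_c_rc_8_1 lc_c_Cert_tree lc_c_rc_13_0 lc_c_rc_17_2 lc_c_rc_13_0 lc_c_rc_17_2 lc_c_rc_28_8 lc_c_rc_15_2 lc_c_rc_17_2 lc_c_rc_2_3 lc_c_rc_13_0 lc_c_rc_15_0 lc_c_rc_2_3 lc_c_rc_15_2 lc_c_rc_2_3 lc_c_rc_13_0 lc_c_rc_2_1 lc_c_rc_17_2 lc_c_rc_13_0 lc_c_rc_2_3 lc_c_rc_15_0 lc_c_rc_17_2 lc_c_rc_13_0 lc_c_Cert_tree lc_c_rc_2_1 lc_c_Cert_tree lc_c_rc_13_0) (@D3.rec (fun _ => (Cert rels S Gen.c)) lc_c_rc_16_2 lc_c_rc_28_2 lc_c_rc_17_0 lc_c_rc_13_0 lc_c_Cert_tree lc_c_rc_16_2 lc_c_rc_13_0 lc_c_Cert_tree lc_c_rc_13_0 lc_c_rc_17_0 lc_c_rc_28_2 lc_c_Cert_tree lc_c_rc_13_0 lc_c_rc_13_0 lc_c_rc_28_2 lc_c_rc_28_4 lc_c_rc_16_2 lc_c_rc_15_0 lc_c_Cert_tree lc_c_rc_16_2 lc_c_rc_13_0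 lc_c_rc_15_2 lc_c_rc_16_2 lc_c_rc_17_2 lc_c_rc_15_2 lc_c_rc_2_1 lc_c_Cert_tree lc_c_rc_2_3 lc_c_rc_17_2 lc_c_rc_15_2 lc_c_rc_8_3 lc_c_rc_15_2 lc_c_rc_13_0 lc_c_rc_16_2 lc_c_rc_28_8 lc_c_rc_15_2 lc_c_rc_16_2 lc_c_rc_8_1 lc_c_rc_13_0 lc_c_rc_8_3) (@D3.rec (fun _ => (Cert rels S Gen.c)) lc_c_rc_8_1 lc_c_rc_15_2 lc_c_rc_16_2 lc_c_rc_13_0 lc_c_rc_16_2 lc_c_rc_16_0 lc_c_rc_16_2 lc_c_rc_16_2 lc_c_rc_16_2 lc_c_Cert_tree lc_c_rc_17_2 lc_c_Cert_tree lc_c_rc_13_0 lc_c_rc_17_2 lc_c_rc_16_0 lc_c_rc_13_0 lc_c_Cert_tree lc_c_rc_17_2 lc_c_Cert_tree lc_c_rc_13_0 lc_c_rc_17_2 lc_c_rc_28_2 lc_c_Cert_tree lc_c_rc_13_0 lc_c_rc_13_0 lc_c_rc_28_4 lc_c_rc_17_2 lc_c_rc_8_3 lc_c_Cert_tree lc_c_rc_13_0 lc_c_rc_15_2 lc_c_rc_17_2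 lc_c_rc_2_1 lc_c_rc_15_2 lc_c_rc_2_1 lc_c_rc_16_2 lc_c_rc_2_3 lc_c_rc_28_4 lc_c_rc_17_2 lc_c_rc_2_1) (@D3.rec (fun _ => (Cert rels S Gen.c)) lc_c_rc_17_2 lc_c_rc_13_0 lc_c_rc_17_2 lc_c_rc_28_2 lc_c_rc_13_0 lc_c_rc_17_2 lc_c_rc_13_0 lc_c_rc_17_2 lc_c_rc_17_2 lc_c_rc_17_2 lc_c_rc_28_6 lc_c_rc_2_1 lc_c_rc_2_3 lc_c_rc_15_2 lc_c_rc_17_2 lc_c_rc_28_2 lc_c_Cert_tree lc_c_rc_17_2 lc_c_rc_17_2 lc_c_rc_30_6 lc_c_rc_13_0 lc_c_rc_13_1 lc_c_rc_8_3 lc_c_rc_28_4 lc_c_rc_13_1 lc_c_rc_2_3 lc_c_Cert_tree lc_c_rc_13_0 lc_c_rc_8_1 lc_c_rc_28_2 lc_c_rc_13_0 lc_c_rc_16_2 lc_c_rc_28_6 lc_c_rc_13_0 lc_c_rc_28_6 lc_c_rc_16_2 lc_c_rc_16_2 lc_c_Cert_tree lc_c_rc_17_0 lc_c_rc_17_0) (@D3.rec (fun _ => (Cert rels S Gen.c))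 lc_c_rc_2_1 lc_c_rc_15_2 lc_c_rc_30_6 lc_c_rc_17_2 lc_c_rc_8_1 lc_c_rc_2_3 lc_c_rc_2_1 lc_c_rc_2_1 lc_c_rc_2_1 lc_c_rc_15_0 lc_c_rc_13_0 lc_c_rc_2_3 lc_c_rc_17_2 lc_c_rc_8_3 lc_c_rc_17_2 lc_c_rc_2_3 lc_c_rc_8_5 lc_c_rc_16_2 lc_c_rc_8_3 lc_c_rc_2_1 lc_c_rc_16_0 lc_c_rc_2_1 lc_c_rc_8_3 lc_c_rc_16_2 lc_c_rc_17_2 lc_c_rc_16_0 lc_c_Cert_tree lc_c_rc_28_2 lc_c_rc_30_14 lc_c_rc_28_2 lc_c_rc_15_2 lc_c_rc_28_6 lc_c_rc_17_2 lc_c_rc_13_1 lc_c_rc_28_8 lc_c_rc_32_70 lc_c_rc_2_1 lc_c_rc_28_2 lc_c_Cert_tree lc_c_rc_8_1) (@D3.rec (fun _ => (Cert rels S Gen.c)) lc_c_rc_13_0 lc_c_rc_8_1 lc_c_rc_2_1 lc_c_rc_13_0 lc_c_rc_28_4 lc_c_rc_16_2 lc_c_rc_28_4 lc_c_rc_2_1 lc_c_rc_28_2 lc_c_rc_13_0 lc_c_rc_28_6 lc_c_rc_13_0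 lc_c_rc_16_2 lc_c_rc_8_3 lc_c_rc_15_2 lc_c_rc_2_1 lc_c_rc_17_2 lc_c_rc_28_6 lc_c_rc_2_1 lc_c_rc_28_2 lc_c_Cert_tree lc_c_rc_8_1 lc_c_rc_13_0 lc_c_rc_2_1 lc_c_rc_8_3 lc_c_rc_28_8 lc_c_rc_13_1 lc_c_rc_2_3 lc_c_Cert_tree lc_c_rc_13_0 lc_c_rc_8_1 lc_c_rc_28_4 lc_c_rc_16_2 lc_c_rc_28_4 lc_c_rc_13_0 lc_c_rc_17_2 lc_c_rc_28_6 lc_c_rc_13_0 lc_c_rc_28_2 lc_c_rc_17_2) (@D3.rec (fun _ => (Cert rels S Gen.c)) lc_c_rc_17_2 lc_c_Cert_tree lc_c_rc_2_1 lc_c_rc_16_0 lc_c_rc_2_1 lc_c_rc_15_2 lc_c_rc_2_3 lc_c_rc_16_2 lc_c_rc_8_1 lc_c_rc_30_6 lc_c_rc_28_6 lc_c_rc_8_1 lc_c_rc_8_3 lc_c_rc_2_3 lc_c_rc_13_0 lc_c_rc_15_0 lc_c_rc_16_2 lc_c_rc_8_3 lc_c_rc_16_2 lc_c_rc_28_6 lc_c_rc_2_1 lc_c_rc_28_6 lc_c_rc_15_2 lc_c_rc_17_2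 lc_c_rc_16_0 lc_c_rc_2_1 lc_c_rc_16_2 lc_c_rc_16_2 lc_c_Cert_tree lc_c_rc_28_2 lc_c_rc_30_10 lc_c_rc_17_2 lc_c_rc_15_2 lc_c_rc_28_6 lc_c_rc_17_2 lc_c_rc_28_2 lc_c_rc_32_49 lc_c_rc_28_4 lc_c_rc_15_2 lc_c_Cert_tree) (@D3.rec (fun _ => (Cert rels S Gen.c)) lc_c_rc_30_2 lc_c_rc_13_0 lc_c_rc_8_1 lc_c_rc_17_2 lc_c_rc_17_2 lc_c_rc_2_1 lc_c_rc_17_2 lc_c_rc_16_2 lc_c_rc_28_4 lc_c_Cert_tree lc_c_rc_17_2 lc_c_rc_28_4 lc_c_rc_28_8 lc_c_rc_28_4 lc_c_Cert_tree lc_c_rc_8_1 lc_c_rc_28_6 lc_c_Cert_tree lc_c_rc_8_1 lc_c_Cert_tree lc_c_Cert_tree lc_c_rc_13_0 lc_c_rc_16_2 lc_c_rc_15_0 lc_c_rc_13_0 lc_c_rc_28_2 lc_c_rc_2_1 lc_c_rc_16_2 lc_c_rc_17_2 lc_c_rc_13_1 lc_c_Cert_tree lc_c_rc_16_2 lc_c_rc_28_6 lc_c_rc_28_4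 lc_c_rc_28_8 lc_c_Cert_tree lc_c_rc_8_1 lc_c_rc_28_6 lc_c_Cert_tree lc_c_rc_8_1) (@D3.rec (fun _ => (Cert rels S Gen.c)) lc_c_Cert_tree lc_c_Cert_tree lc_c_rc_13_0 lc_c_rc_17_2 lc_c_rc_28_2 lc_c_rc_13_0 lc_c_rc_28_8 lc_c_rc_13_0 lc_c_rc_28_6 lc_c_rc_17_2 lc_c_rc_13_0 lc_c_rc_28_6 lc_c_rc_16_2 lc_c_rc_13_0 lc_c_rc_17_2 lc_c_rc_13_0 lc_c_rc_16_2 lc_c_rc_17_2 lc_c_rc_17_2 lc_c_rc_15_2 lc_c_rc_15_2 lc_c_rc_13_0 lc_c_rc_16_2 lc_c_rc_16_2 lc_c_rc_2_1 lc_c_rc_2_3 lc_c_rc_13_0 lc_c_Cert_tree lc_c_rc_13_0 lc_c_Cert_tree lc_c_rc_17_2 lc_c_Cert_tree lc_c_Cert_tree lc_c_rc_13_0 lc_c_rc_16_2 lc_c_Cert_tree lc_c_rc_13_0 lc_c_Cert_tree lc_c_rc_16_2 lc_c_Cert_tree) (@D3.rec (fun _ => (Cert rels S Gen.c)) lc_c_Cert_tree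 lc_c_rc_13_0 lc_c_rc_17_2 lc_c_rc_8_5 lc_c_rc_17_2 lc_c_rc_13_0 lc_c_rc_13_0 lc_c_Cert_tree lc_c_rc_16_2 lc_c_rc_16_2 lc_c_rc_32_34 lc_c_rc_2_3 lc_c_rc_13_0 lc_c_rc_13_0 lc_c_Cert_tree lc_c_rc_17_2 lc_c_rc_15_2 lc_c_Cert_tree lc_c_rc_2_1 lc_c_rc_2_1 lc_c_rc_2_1 lc_c_rc_17_2 lc_c_rc_17_2 lc_c_rc_2_1 lc_c_rc_13_0 lc_c_Cert_tree lc_c_rc_13_0 lc_c_Cert_tree lc_c_rc_2_3 lc_c_rc_13_0 lc_c_rc_17_2 lc_c_rc_17_0 lc_c_rc_13_0 lc_c_rc_8_1 lc_c_rc_13_0 lc_c_rc_17_2 lc_c_rc_28_4 lc_c_rc_17_2 lc_c_rc_13_0 lc_c_rc_16_2) (@D3.rec (fun _ => (Cert rels S Gen.c)) lc_c_rc_28_6 lc_c_rc_16_2 lc_c_rc_28_4 lc_c_rc_8_3 lc_c_rc_28_2 lc_c_rc_17_2 lc_c_rc_17_2 lc_c_rc_13_0 lc_c_rc_28_8 lc_c_rc_17_2 lc_c_rc_8_3 lc_c_rc_2_1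 lc_c_rc_8_3 lc_c_rc_16_2 lc_c_rc_28_2 lc_c_rc_16_2 lc_c_rc_17_2 lc_c_rc_13_0 lc_c_rc_28_8 lc_c_rc_16_2 lc_c_rc_8_3 lc_c_rc_17_2 lc_c_rc_17_2 lc_c_rc_13_0 lc_c_rc_17_2 lc_c_Cert_tree lc_c_rc_13_0 lc_c_rc_28_6 lc_c_rc_17_2 lc_c_rc_17_2 lc_c_Cert_tree lc_c_rc_16_2 lc_c_rc_16_2 lc_c_rc_8_3 lc_c_rc_15_2 lc_c_rc_13_0 lc_c_rc_16_2 lc_c_Cert_tree lc_c_rc_13_0 lc_c_rc_28_6) (@D3.rec (fun _ => (Cert rels S Gen.c)) lc_c_rc_16_2 lc_c_rc_16_2 lc_c_Cert_tree lc_c_rc_17_2 lc_c_rc_17_2 lc_c_rc_8_3 lc_c_rc_17_2 lc_c_rc_28_2 lc_c_rc_13_0 lc_c_rc_13_0 lc_c_Cert_tree lc_c_rc_13_0 lc_c_Cert_tree lc_c_rc_13_0 lc_c_rc_13_0 lc_c_Cert_tree lc_c_rc_13_0 lc_c_Cert_tree lc_c_rc_16_2 lc_c_rc_17_2 lc_c_rc_17_2 lc_c_rc_2_3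 lc_c_rc_17_2 lc_c_rc_15_2 lc_c_Cert_tree lc_c_rc_13_0 lc_c_rc_13_1 lc_c_Cert_tree lc_c_rc_13_0 lc_c_Cert_tree lc_c_rc_16_2 lc_c_rc_13_0 lc_c_rc_17_2 lc_c_rc_8_3 lc_c_rc_28_2 lc_c_rc_16_2 lc_c_rc_13_0 lc_c_rc_15_2 lc_c_rc_16_2 lc_c_rc_8_3) (@D3.rec (fun _ => (Cert rels S Gen.c)) lc_c_rc_17_2 lc_c_Cert_tree lc_c_rc_16_2 lc_c_rc_17_2 lc_c_rc_17_2 lc_c_rc_2_3 lc_c_rc_16_2 lc_c_rc_30_14 lc_c_Cert_tree lc_c_rc_13_0 lc_c_rc_16_2 lc_c_Cert_tree lc_c_rc_13_0 lc_c_Cert_tree lc_c_rc_17_2 lc_c_rc_13_0 lc_c_rc_16_2 lc_c_rc_8_3 lc_c_rc_28_2 lc_c_rc_17_2 lc_c_rc_13_0 lc_c_rc_15_2 lc_c_rc_17_2 lc_c_rc_8_3 lc_c_rc_2_1 lc_c_Cert_tree lc_c_rc_16_2 lc_c_rc_2_1 lc_c_rc_2_1 lc_c_rc_17_2 lc_c_rc_17_2 lc_c_rc_17_2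 lc_c_rc_28_6 lc_c_Cert_tree lc_c_Cert_tree lc_c_rc_13_0 lc_c_rc_16_2 lc_c_Cert_tree lc_c_rc_16_2 lc_c_rc_13_0) (@D3.rec (fun _ => (Cert rels S Gen.c)) lc_c_rc_2_3 lc_c_rc_17_0 lc_c_Cert_tree lc_c_rc_13_0 lc_c_rc_15_2 lc_c_rc_16_2 lc_c_rc_8_3 lc_c_rc_28_2 lc_c_Cert_tree lc_c_rc_2_1 lc_c_rc_15_2 lc_c_rc_13_0 lc_c_rc_15_2 lc_c_rc_16_2 lc_c_rc_8_3 lc_c_rc_28_6 lc_c_rc_15_2 lc_c_rc_16_2 lc_c_rc_16_2 lc_c_Cert_tree lc_c_rc_17_2 lc_c_rc_17_2 lc_c_Cert_tree lc_c_rc_13_0 lc_c_rc_17_2 lc_c_rc_17_2 lc_c_rc_28_8 lc_c_rc_2_1 lc_c_rc_17_2 lc_c_rc_2_3 lc_c_rc_28_6 lc_c_Cert_tree lc_c_Cert_tree lc_c_rc_13_0 lc_c_rc_17_2 lc_c_Cert_tree lc_c_rc_17_2 lc_c_rc_13_0 lc_c_rc_8_3 lc_c_rc_16_0) (@D3.rec (fun _ => (Cert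 rels S Gen.c)) lc_c_Cert_tree lc_c_rc_13_0 lc_c_rc_15_2 lc_c_rc_17_2 lc_c_rc_8_3 lc_c_rc_15_2 lc_c_Cert_tree lc_c_rc_16_2 lc_c_rc_17_2 lc_c_rc_13_0 lc_c_rc_15_2 lc_c_rc_17_2 lc_c_rc_8_3 lc_c_rc_28_6 lc_c_rc_15_2 lc_c_rc_17_2 lc_c_rc_17_2 lc_c_Cert_tree lc_c_rc_16_2 lc_c_rc_16_2 lc_c_Cert_tree lc_c_rc_13_0 lc_c_Cert_tree lc_c_Cert_tree lc_c_rc_13_0 lc_c_rc_16_2 lc_c_Cert_tree lc_c_rc_13_0 lc_c_rc_15_2 lc_c_Cert_tree lc_c_Cert_tree lc_c_Cert_tree lc_c_rc_13_0 lc_c_rc_16_2 lc_c_rc_16_2 lc_c_rc_13_0 lc_c_rc_16_2 lc_c_Cert_tree lc_c_rc_16_2 lc_c_rc_2_1) (@D3.rec (fun _ => (Cert rels S Gen.c)) lc_c_rc_8_3 lc_c_rc_17_2 lc_c_rc_17_2 lc_c_Cert_tree lc_c_Cert_tree lc_c_rc_13_0 lc_c_rc_16_2 lc_c_Cert_tree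 lc_c_Cert_tree lc_c_rc_16_2 lc_c_Cert_tree lc_c_Cert_tree lc_c_rc_13_0 lc_c_rc_17_2 lc_c_Cert_tree lc_c_rc_13_0 lc_c_rc_16_2 lc_c_rc_17_2 lc_c_rc_8_3 lc_c_rc_28_2 lc_c_rc_13_0 lc_c_rc_15_2 lc_c_rc_16_2 lc_c_Cert_tree lc_c_Cert_tree lc_c_rc_13_0 lc_c_rc_17_2 lc_c_rc_13_0 lc_c_rc_17_2 lc_c_Cert_tree lc_c_rc_17_2 lc_c_rc_2_3 lc_c_Cert_tree lc_c_rc_17_2 lc_c_rc_2_1 lc_c_Cert_tree lc_c_rc_8_5 lc_c_rc_17_2 lc_c_rc_15_2 lc_c_rc_28_2) (@D3.rec (fun _ => (Cert rels S Gen.c)) lc_c_Cert_tree lc_c_rc_13_0 lc_c_rc_8_3 lc_c_rc_15_2 lc_c_rc_16_2 lc_c_rc_16_2 lc_c_Cert_tree lc_c_rc_17_2 lc_c_rc_17_2 lc_c_Cert_tree lc_c_Cert_tree lc_c_rc_13_0 lc_c_rc_16_2 lc_c_Cert_tree lc_c_rc_13_0 lc_c_rc_17_2 lc_c_Cert_tree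 lc_c_rc_13_0 lc_c_Cert_tree lc_c_rc_2_3 lc_c_Cert_tree lc_c_Cert_tree lc_c_rc_13_0 lc_c_rc_17_2 lc_c_rc_17_2 lc_c_rc_13_0 lc_c_Cert_tree lc_c_rc_17_2 lc_c_rc_2_1 lc_c_rc_8_3 lc_c_rc_16_2 lc_c_rc_16_2 lc_c_Cert_tree lc_c_Cert_tree lc_c_rc_13_0 lc_c_rc_17_2 lc_c_Cert_tree lc_c_Cert_tree lc_c_rc_17_2 lc_c_Cert_tree) (@D3.rec (fun _ => (Cert rels S Gen.c)) lc_c_Cert_tree lc_c_rc_13_0 lc_c_rc_16_2 lc_c_Cert_tree lc_c_rc_13_0 lc_c_rc_16_2 lc_c_rc_17_2 lc_c_rc_8_3 lc_c_rc_28_2 lc_c_rc_13_0 lc_c_rc_15_2 lc_c_rc_17_2 lc_c_Cert_tree lc_c_Cert_tree lc_c_rc_13_0 lc_c_rc_16_2 lc_c_rc_13_0 lc_c_rc_16_2 lc_c_Cert_tree lc_c_rc_16_2 lc_c_rc_17_2 lc_c_rc_17_2 lc_c_Cert_tree lc_c_rc_2_1 lc_c_Cert_tree lc_c_rc_15_2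 lc_c_rc_17_2 lc_c_rc_15_2 lc_c_rc_28_2 lc_c_Cert_tree lc_c_rc_13_0 lc_c_rc_8_3 lc_c_rc_15_2 lc_c_rc_17_2 lc_c_rc_17_2 lc_c_Cert_tree lc_c_rc_16_2 lc_c_rc_16_2 lc_c_Cert_tree lc_c_Cert_tree) (@D3.rec (fun _ => (Cert rels S Gen.c)) lc_c_rc_13_0 lc_c_rc_17_2 lc_c_rc_13_0 lc_c_rc_17_2 lc_c_Cert_tree lc_c_rc_16_2 lc_c_rc_17_2 lc_c_rc_17_2 lc_c_Cert_tree lc_c_rc_28_4 lc_c_Cert_tree lc_c_Cert_tree lc_c_rc_13_0 lc_c_rc_16_2 lc_c_Cert_tree lc_c_rc_13_0 lc_c_rc_13_0 lc_c_Cert_tree lc_c_rc_16_2 lc_c_rc_13_0 lc_c_Cert_tree lc_c_rc_15_2 lc_c_rc_16_2 lc_c_Cert_tree lc_c_rc_16_2 lc_c_Cert_tree lc_c_Cert_tree lc_c_rc_13_0 lc_c_rc_28_4 lc_c_rc_17_2 lc_c_rc_15_2 lc_c_rc_8_3 lc_c_Cert_tree lc_c_rc_13_0 lc_c_rc_16_2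 lc_c_Cert_tree lc_c_rc_13_0 lc_c_rc_16_2 lc_c_Cert_tree lc_c_rc_16_2) (@D3.rec (fun _ => (Cert rels S Gen.c)) lc_c_rc_2_3 lc_c_rc_13_0 lc_c_rc_2_1 lc_c_Cert_tree lc_c_rc_16_2 lc_c_rc_13_0 lc_c_rc_15_2 lc_c_rc_16_2 lc_c_rc_8_3 lc_c_rc_28_2 lc_c_rc_2_1 lc_c_rc_16_0 lc_c_rc_13_0 lc_c_rc_30_6 lc_c_rc_16_2 lc_c_rc_17_2 lc_c_rc_17_2 lc_c_rc_17_2 lc_c_rc_8_1 lc_c_rc_28_2 lc_c_rc_15_2 lc_c_Cert_tree lc_c_Cert_tree lc_c_rc_15_2 lc_c_rc_17_0 lc_c_Cert_tree lc_c_Cert_tree lc_c_Cert_tree lc_c_Cert_tree lc_c_rc_13_0 lc_c_rc_17_2 lc_c_Cert_tree lc_c_rc_13_0 lc_c_rc_30_2 lc_c_rc_30_6 lc_c_Cert_tree lc_c_rc_13_0 lc_c_rc_13_0 lc_c_rc_17_2 lc_c_Cert_tree) (@D3.rec (fun _ => (Cert rels S Gen.c)) lc_c_rc_17_2 lc_c_rc_16_2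 lc_c_rc_13_0 lc_c_rc_8_3 lc_c_Cert_tree lc_c_rc_16_2 lc_c_rc_17_2 lc_c_rc_2_1 lc_c_Cert_tree lc_c_rc_16_2 lc_c_rc_17_2 lc_c_rc_13_0 lc_c_rc_15_2 lc_c_rc_8_3 lc_c_rc_28_6 lc_c_rc_15_2 lc_c_rc_16_2 lc_c_rc_16_2 lc_c_Cert_tree lc_c_Cert_tree lc_c_rc_13_0 lc_c_rc_17_2 lc_c_rc_13_0 lc_c_rc_8_1 lc_c_rc_17_2 lc_c_Cert_tree lc_c_rc_17_2 lc_c_rc_13_0 lc_c_rc_15_2 lc_c_rc_17_2 lc_c_rc_8_3 lc_c_rc_2_1 lc_c_rc_8_3 lc_c_rc_28_6 lc_c_rc_16_2 lc_c_rc_17_2 lc_c_rc_2_1 lc_c_rc_8_3 lc_c_rc_16_2 lc_c_rc_17_2) (@D3.rec (fun _ => (Cert rels S Gen.c)) lc_c_rc_15_2 lc_c_rc_28_6 lc_c_rc_28_6 lc_c_Cert_tree lc_c_rc_8_3 lc_c_rc_13_0 lc_c_rc_16_0 lc_c_rc_28_2 lc_c_rc_30_10 lc_c_rc_2_1 lc_c_rc_13_0 lc_c_rc_15_2 lc_c_rc_16_2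 lc_c_rc_17_2 lc_c_rc_15_2 lc_c_rc_17_2 lc_c_rc_2_3 lc_c_rc_8_3 lc_c_rc_15_2 lc_c_rc_16_2 lc_c_rc_16_2 lc_c_Cert_tree lc_c_rc_13_0 lc_c_rc_13_1 lc_c_Cert_tree lc_c_rc_2_1 lc_c_Cert_tree lc_c_rc_8_3 lc_c_rc_16_2 lc_c_rc_17_2 lc_c_rc_15_2 lc_c_rc_28_6 lc_c_Cert_tree lc_c_rc_16_2 lc_c_rc_8_3 lc_c_rc_17_2 lc_c_rc_17_2 lc_c_Cert_tree lc_c_Cert_tree lc_c_rc_13_0) (@D3.rec (fun _ => (Cert rels S Gen.c)) lc_c_rc_16_2 lc_c_rc_13_0 lc_c_rc_16_2 lc_c_rc_13_0 lc_c_rc_16_2 lc_c_rc_17_2 lc_c_rc_17_2 lc_c_rc_16_2 lc_c_Cert_tree lc_c_rc_17_2 lc_c_rc_28_4 lc_c_Cert_tree lc_c_rc_13_0 lc_c_rc_17_2 lc_c_rc_8_3 lc_c_Cert_tree lc_c_rc_13_0 lc_c_Cert_tree lc_c_rc_17_2 lc_c_rc_13_0 lc_c_Cert_tree lc_c_rc_15_2 lc_c_Cert_tree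 lc_c_rc_28_8 lc_c_rc_28_2 lc_c_Cert_tree lc_c_rc_13_0 lc_c_Cert_tree lc_c_rc_16_2 lc_c_rc_13_0 lc_c_rc_15_2 lc_c_rc_8_3 lc_c_Cert_tree lc_c_rc_13_0 lc_c_rc_17_2 lc_c_Cert_tree lc_c_rc_13_0 lc_c_rc_17_2 lc_c_Cert_tree lc_c_rc_17_2)
def ce_c_11 : D2 → D3 → (Cert rels S Gen.c) := @D2.rec (fun _ => D3 → (Cert rels S Gen.c)) (@D3.rec (fun _ => (Cert rels S Gen.c)) lc_c_rc_2_3 lc_c_rc_13_0 lc_c_rc_2_1 lc_c_Cert_tree lc_c_rc_13_0 lc_c_rc_15_2 lc_c_rc_17_2 lc_c_rc_8_3 lc_c_rc_28_2 lc_c_rc_16_2 lc_c_rc_2_1 lc_c_rc_13_0 lc_c_rc_8_3 lc_c_rc_16_2 lc_c_rc_17_2 lc_c_rc_16_2 lc_c_rc_8_1 lc_c_rc_2_1 lc_c_rc_16_2 lc_c_rc_2_1 lc_c_Cert_tree lc_c_Cert_tree lc_c_rc_16_2 lc_c_rc_15_2 lc_c_Cert_tree lc_c_Cert_tree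 lc_c_Cert_tree lc_c_Cert_tree lc_c_rc_13_0 lc_c_rc_16_2 lc_c_Cert_tree lc_c_rc_13_0 lc_c_rc_8_1 lc_c_rc_17_2 lc_c_Cert_tree lc_c_rc_13_0 lc_c_rc_13_0 lc_c_rc_16_2 lc_c_Cert_tree lc_c_rc_16_2) (@D3.rec (fun _ => (Cert rels S Gen.c)) lc_c_rc_17_2 lc_c_rc_13_0 lc_c_rc_8_3 lc_c_Cert_tree lc_c_rc_16_2 lc_c_rc_17_2 lc_c_rc_2_1 lc_c_rc_32_6 lc_c_rc_16_2 lc_c_rc_17_2 lc_c_rc_13_0 lc_c_rc_32_75 lc_c_rc_8_3 lc_c_rc_28_6 lc_c_rc_15_2 lc_c_rc_17_2 lc_c_rc_17_2 lc_c_Cert_tree lc_c_Cert_tree lc_c_rc_13_0 lc_c_rc_16_2 lc_c_rc_13_0 lc_c_rc_15_2 lc_c_rc_16_2 lc_c_Cert_tree lc_c_rc_16_2 lc_c_rc_13_0 lc_c_rc_15_2 lc_c_rc_16_2 lc_c_rc_8_3 lc_c_rc_17_2 lc_c_rc_8_3 lc_c_rc_28_6 lc_c_rc_16_2 lc_c_rc_17_2 lc_c_rc_2_1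 lc_c_rc_8_3 lc_c_rc_16_2 lc_c_rc_17_2 lc_c_rc_15_2) (@D3.rec (fun _ => (Cert rels S Gen.c)) lc_c_rc_28_6 lc_c_rc_28_6 lc_c_rc_8_3 lc_c_rc_16_2 lc_c_rc_13_0 lc_c_rc_17_0 lc_c_rc_28_2 lc_c_rc_2_1 lc_c_rc_2_1 lc_c_rc_13_0 lc_c_rc_15_2 lc_c_rc_16_2 lc_c_rc_17_2 lc_c_rc_15_2 lc_c_rc_8_3 lc_c_rc_16_2 lc_c_rc_8_3 lc_c_rc_15_2 lc_c_rc_17_2 lc_c_rc_17_2 lc_c_Cert_tree lc_c_rc_13_0 lc_c_rc_16_2 lc_c_Cert_tree lc_c_rc_2_1 lc_c_Cert_tree lc_c_rc_8_3 lc_c_rc_16_2 lc_c_rc_17_2 lc_c_rc_15_2 lc_c_rc_28_6 lc_c_Cert_tree lc_c_rc_17_2 lc_c_rc_8_3 lc_c_rc_16_2 lc_c_rc_16_2 lc_c_Cert_tree lc_c_Cert_tree lc_c_rc_13_0 lc_c_rc_17_2) (@D3.rec (fun _ => (Cert rels S Gen.c)) lc_c_rc_13_0 lc_c_rc_17_2 lc_c_rc_16_2 lc_c_rc_15_2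 lc_c_rc_16_0 lc_c_Cert_tree lc_c_rc_15_2 lc_c_rc_17_2 lc_c_rc_15_2 lc_c_Cert_tree lc_c_rc_13_0 lc_c_rc_16_2 lc_c_Cert_tree lc_c_rc_16_2 lc_c_rc_17_2 lc_c_rc_15_2 lc_c_Cert_tree lc_c_rc_2_1 lc_c_rc_28_2 lc_c_rc_13_0 lc_c_rc_15_2 lc_c_rc_16_2 lc_c_rc_17_2 lc_c_rc_17_2 lc_c_rc_2_1 lc_c_rc_8_3 lc_c_rc_15_2 lc_c_Cert_tree lc_c_rc_2_3 lc_c_rc_8_3 lc_c_rc_13_0 lc_c_rc_15_2 lc_c_rc_16_2 lc_c_rc_17_2 lc_c_Cert_tree lc_c_rc_16_0 lc_c_Cert_tree lc_c_rc_15_2 lc_c_rc_16_2 lc_c_rc_17_2) (@D3.rec (fun _ => (Cert rels S Gen.c)) lc_c_rc_16_2 lc_c_rc_17_2 lc_c_rc_17_2 lc_c_rc_2_3 lc_c_Cert_tree lc_c_Cert_tree lc_c_rc_28_4 lc_c_rc_2_1 lc_c_rc_2_1 lc_c_rc_2_1 lc_c_rc_16_2 lc_c_rc_17_2 lc_c_rc_17_2 lc_c_rc_2_3 lc_c_rc_16_2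 lc_c_rc_16_0 lc_c_rc_15_2 lc_c_Cert_tree lc_c_rc_30_10 lc_c_rc_16_2 lc_c_rc_17_2 lc_c_Cert_tree lc_c_rc_13_0 lc_c_rc_17_2 lc_c_Cert_tree lc_c_rc_16_2 lc_c_rc_17_2 lc_c_rc_15_2 lc_c_Cert_tree lc_c_rc_28_2 lc_c_rc_2_1 lc_c_rc_13_0 lc_c_rc_15_2 lc_c_rc_16_2 lc_c_rc_17_2 lc_c_rc_17_2 lc_c_rc_2_1 lc_c_rc_8_3 lc_c_rc_15_2 lc_c_Cert_tree) (@D3.rec (fun _ => (Cert rels S Gen.c)) lc_c_rc_8_3 lc_c_rc_17_2 lc_c_rc_13_0 lc_c_rc_15_2 lc_c_rc_16_2 lc_c_rc_17_2 lc_c_rc_15_2 lc_c_Cert_tree lc_c_Cert_tree lc_c_rc_15_2 lc_c_rc_16_2 lc_c_rc_17_2 lc_c_rc_16_2 lc_c_rc_17_2 lc_c_rc_17_2 lc_c_rc_2_3 lc_c_Cert_tree lc_c_Cert_tree lc_c_rc_28_4 lc_c_rc_2_1 lc_c_rc_2_1 lc_c_rc_2_1 lc_c_rc_16_2 lc_c_rc_17_2 lc_c_rc_17_2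 lc_c_rc_2_3 lc_c_rc_13_0 lc_c_rc_8_3 lc_c_rc_2_1 lc_c_Cert_tree lc_c_rc_16_2 lc_c_rc_17_2 lc_c_rc_15_2 lc_c_rc_13_0 lc_c_rc_8_3 lc_c_rc_2_1 lc_c_Cert_tree lc_c_rc_16_2 lc_c_rc_17_2 lc_c_rc_15_2) (@D3.rec (fun _ => (Cert rels S Gen.c)) lc_c_rc_17_2 lc_c_rc_16_2 lc_c_rc_15_2 lc_c_rc_17_2 lc_c_rc_8_3 lc_c_rc_15_2 lc_c_rc_15_0 lc_c_rc_8_3 lc_c_rc_32_55 lc_c_rc_17_2 lc_c_rc_2_1 lc_c_rc_8_3 lc_c_rc_8_3 lc_c_rc_15_2 lc_c_rc_17_2 lc_c_rc_15_2 lc_c_rc_16_2 lc_c_rc_15_2 lc_c_rc_15_2 lc_c_rc_28_6 lc_c_rc_13_0 lc_c_rc_15_2 lc_c_rc_28_8 lc_c_rc_15_2 lc_c_rc_15_2 lc_c_rc_28_6 lc_c_rc_13_0 lc_c_rc_15_2 lc_c_rc_8_5 lc_c_rc_15_0 lc_c_rc_15_2 lc_c_rc_8_3 lc_c_rc_13_0 lc_c_rc_8_3 lc_c_rc_15_2 lc_c_rc_13_0 lc_c_rc_16_2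 lc_c_rc_16_0 lc_c_rc_16_2 lc_c_rc_15_2) (@D3.rec (fun _ => (Cert rels S Gen.c)) lc_c_rc_8_3 lc_c_rc_13_0 lc_c_rc_8_3 lc_c_rc_15_2 lc_c_rc_13_0 lc_c_rc_17_2 lc_c_rc_17_0 lc_c_rc_28_2 lc_c_rc_15_2 lc_c_rc_28_4 lc_c_rc_28_2 lc_c_rc_28_6 lc_c_rc_2_3 lc_c_rc_13_0 lc_c_rc_15_2 lc_c_Cert_tree lc_c_rc_16_2 lc_c_rc_13_0 lc_c_rc_15_2 lc_c_rc_16_2 lc_c_rc_2_1 lc_c_rc_28_4 lc_c_rc_17_2 lc_c_rc_8_1 lc_c_rc_13_0 lc_c_rc_28_2 lc_c_rc_16_2 lc_c_rc_16_2 lc_c_Cert_tree lc_c_rc_2_1 lc_c_rc_8_1 lc_c_rc_13_0 lc_c_rc_2_1 lc_c_rc_30_2 lc_c_rc_17_2 lc_c_rc_16_2 lc_c_rc_16_2 lc_c_rc_17_2 lc_c_Cert_tree lc_c_rc_30_2) (@D3.rec (fun _ => (Cert rels S Gen.c)) lc_c_rc_17_2 lc_c_rc_17_2 lc_c_rc_2_3 lc_c_rc_17_2 lc_c_rc_13_0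 lc_c_rc_17_2 lc_c_Cert_tree lc_c_rc_32_23 lc_c_Cert_tree lc_c_rc_13_0 lc_c_rc_28_2 lc_c_rc_15_2 lc_c_rc_8_5 lc_c_rc_28_4 lc_c_rc_28_2 lc_c_rc_8_1 lc_c_rc_13_0 lc_c_rc_13_1 lc_c_rc_28_4 lc_c_rc_17_2 lc_c_rc_13_0 lc_c_rc_15_2 lc_c_rc_17_2 lc_c_rc_30_10 lc_c_rc_28_4 lc_c_rc_8_1 lc_c_rc_13_1 lc_c_rc_13_0 lc_c_rc_16_2 lc_c_rc_17_2 lc_c_rc_17_2 lc_c_Cert_tree lc_c_rc_2_1 lc_c_rc_8_1 lc_c_rc_2_1 lc_c_rc_16_2 lc_c_rc_13_1 lc_c_rc_16_2 lc_c_rc_17_2 lc_c_rc_17_2) (@D3.rec (fun _ => (Cert rels S Gen.c)) lc_c_rc_17_2 lc_c_Cert_tree lc_c_rc_30_10 lc_c_rc_16_2 lc_c_rc_16_2 lc_c_rc_28_6 lc_c_rc_16_2 lc_c_rc_13_0 lc_c_rc_16_2 lc_c_Cert_tree lc_c_rc_16_2 lc_c_Cert_tree lc_c_rc_13_0 lc_c_rc_16_2 lc_c_Cert_tree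 lc_c_rc_13_0 lc_c_rc_16_2 lc_c_Cert_tree lc_c_Cert_tree lc_c_rc_13_0 lc_c_rc_16_2 lc_c_Cert_tree lc_c_rc_16_0 lc_c_rc_13_0 lc_c_rc_15_0 lc_c_rc_13_0 lc_c_rc_13_0 lc_c_rc_17_2 lc_c_rc_28_8 lc_c_rc_16_2 lc_c_rc_2_1 lc_c_rc_13_0 lc_c_rc_28_2 lc_c_rc_8_3 lc_c_rc_13_0 lc_c_rc_15_2 lc_c_rc_15_0 lc_c_rc_8_3 lc_c_rc_8_3 lc_c_rc_16_2) (@D3.rec (fun _ => (Cert rels S Gen.c)) lc_c_rc_17_2 lc_c_rc_28_6 lc_c_rc_13_0 lc_c_rc_8_1 lc_c_Cert_tree lc_c_rc_13_0 lc_c_rc_16_2 lc_c_rc_28_4 lc_c_rc_16_2 lc_c_rc_17_2 lc_c_rc_17_2 lc_c_rc_2_1 lc_c_rc_16_2 lc_c_rc_13_1 lc_c_rc_28_4 lc_c_rc_8_1 lc_c_rc_2_1 lc_c_rc_13_0 lc_c_rc_13_0 lc_c_rc_13_0 lc_c_rc_28_6 lc_c_rc_17_0 lc_c_rc_15_2 lc_c_Cert_tree lc_c_rc_17_2 lc_c_rc_30_2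 lc_c_rc_13_0 lc_c_rc_8_3 lc_c_rc_28_6 lc_c_rc_16_2 lc_c_rc_13_0 lc_c_rc_15_2 lc_c_rc_17_0 lc_c_rc_13_0 lc_c_rc_8_3 lc_c_rc_30_18 lc_c_rc_8_3 lc_c_rc_8_3 lc_c_rc_28_6 lc_c_rc_15_2) (@D3.rec (fun _ => (Cert rels S Gen.c)) lc_c_rc_8_3 lc_c_rc_2_1 lc_c_rc_17_2 lc_c_rc_15_2 lc_c_Cert_tree lc_c_rc_13_0 lc_c_rc_28_2 lc_c_rc_13_0 lc_c_rc_16_2 lc_c_Cert_tree lc_c_rc_13_0 lc_c_rc_16_2 lc_c_rc_13_0 lc_c_Cert_tree lc_c_Cert_tree lc_c_rc_17_0 lc_c_rc_13_0 lc_c_rc_2_3 lc_c_rc_16_2 lc_c_rc_13_0 lc_c_rc_2_3 lc_c_rc_17_2 lc_c_rc_2_3 lc_c_rc_13_0 lc_c_rc_8_1 lc_c_rc_13_0 lc_c_rc_13_1 lc_c_rc_8_1 lc_c_rc_14_10 lc_c_rc_17_2 lc_c_rc_17_2 lc_c_rc_8_3 lc_c_rc_15_2 lc_c_rc_30_14 lc_c_rc_13_0 lc_c_rc_8_3 lc_c_rc_13_0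 lc_c_rc_28_6 lc_c_rc_17_2 lc_c_rc_13_0) (@D3.rec (fun _ => (Cert rels S Gen.c)) lc_c_rc_2_1 lc_c_rc_28_6 lc_c_rc_2_1 lc_c_rc_16_2 lc_c_rc_13_1 lc_c_rc_28_4 lc_c_rc_2_1 lc_c_rc_8_3 lc_c_rc_16_2 lc_c_rc_17_2 lc_c_rc_15_2 lc_c_rc_8_3 lc_c_Cert_tree lc_c_rc_2_1 lc_c_rc_13_0 lc_c_rc_15_2 lc_c_rc_8_1 lc_c_rc_17_2 lc_c_rc_17_2 lc_c_rc_15_2 lc_c_rc_2_1 lc_c_rc_8_3 lc_c_rc_16_2 lc_c_rc_17_2 lc_c_rc_15_2 lc_c_Cert_tree lc_c_rc_16_2 lc_c_rc_8_3 lc_c_rc_16_2 lc_c_rc_17_0 lc_c_rc_8_3 lc_c_rc_13_0 lc_c_rc_13_0 lc_c_rc_28_6 lc_c_rc_28_6 lc_c_rc_17_2 lc_c_rc_16_2 lc_c_rc_28_8 lc_c_rc_8_3 lc_c_rc_8_1) (@D3.rec (fun _ => (Cert rels S Gen.c)) lc_c_rc_8_3 lc_c_rc_30_6 lc_c_rc_28_8 lc_c_rc_16_2 lc_c_rc_8_3 lc_c_rc_28_6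 lc_c_rc_8_3 lc_c_rc_2_1 lc_c_rc_2_1 lc_c_rc_15_2 lc_c_rc_2_1 lc_c_rc_17_2 lc_c_rc_8_3 lc_c_rc_16_0 lc_c_rc_2_3 lc_c_rc_13_0 lc_c_rc_13_0 lc_c_rc_17_2 lc_c_rc_2_3 lc_c_rc_17_2 lc_c_rc_8_1 lc_c_rc_13_0 lc_c_rc_2_3 lc_c_rc_8_3 lc_c_rc_15_2 lc_c_rc_17_2 lc_c_rc_28_8 lc_c_rc_17_2 lc_c_rc_16_0 lc_c_rc_8_5 lc_c_rc_13_0 lc_c_rc_17_2 lc_c_rc_2_1 lc_c_rc_8_3 lc_c_rc_16_2 lc_c_rc_16_0 lc_c_Cert_tree lc_c_rc_16_2 lc_c_rc_28_6 lc_c_rc_2_3) (@D3.rec (fun _ => (Cert rels S Gen.c)) lc_c_rc_16_2 lc_c_rc_8_3 lc_c_Cert_tree lc_c_rc_2_1 lc_c_rc_2_1 lc_c_rc_2_1 lc_c_rc_13_0 lc_c_rc_15_2 lc_c_rc_16_2 lc_c_rc_17_2 lc_c_rc_15_0 lc_c_rc_16_2 lc_c_rc_17_2 lc_c_rc_17_2 lc_c_rc_2_1 lc_c_Cert_tree lc_c_rc_15_2 lc_c_rc_13_0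 lc_c_rc_8_1 lc_c_rc_17_2 lc_c_rc_8_3 lc_c_Cert_tree lc_c_Cert_tree lc_c_rc_13_0 lc_c_rc_13_0 lc_c_rc_16_2 lc_c_Cert_tree lc_c_rc_16_2 lc_c_rc_17_2 lc_c_rc_8_3 lc_c_rc_17_2 lc_c_rc_13_1 lc_c_Cert_tree lc_c_Cert_tree lc_c_rc_13_0 lc_c_rc_17_2 lc_c_Cert_tree lc_c_rc_15_0 lc_c_rc_13_0 lc_c_rc_2_3) (@D3.rec (fun _ => (Cert rels S Gen.c)) lc_c_rc_28_8 lc_c_rc_17_2 lc_c_rc_2_1 lc_c_rc_8_1 lc_c_rc_30_14 lc_c_rc_13_0 lc_c_rc_17_2 lc_c_rc_2_3 lc_c_rc_13_0 lc_c_rc_15_2 lc_c_rc_8_5 lc_c_rc_8_3 lc_c_rc_16_2 lc_c_rc_17_2 lc_c_rc_13_0 lc_c_rc_28_6 lc_c_rc_30_10 lc_c_Cert_tree lc_c_rc_13_0 lc_c_rc_17_2 lc_c_rc_28_4 lc_c_rc_16_2 lc_c_rc_17_2 lc_c_rc_17_2 lc_c_rc_2_1 lc_c_rc_15_2 lc_c_rc_28_4 lc_c_rc_17_2 lc_c_rc_17_0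 lc_c_rc_8_1 lc_c_rc_14_10 lc_c_rc_13_0 lc_c_rc_17_2 lc_c_rc_13_0 lc_c_rc_17_0 lc_c_rc_30_14 lc_c_Cert_tree lc_c_rc_2_1 lc_c_rc_2_1 lc_c_rc_13_0) (@D3.rec (fun _ => (Cert rels S Gen.c)) lc_c_rc_8_3 lc_c_rc_17_2 lc_c_rc_15_2 lc_c_rc_28_4 lc_c_rc_13_0 lc_c_rc_8_3 lc_c_rc_8_3 lc_c_rc_28_6 lc_c_rc_15_2 lc_c_rc_2_3 lc_c_rc_2_1 lc_c_rc_16_2 lc_c_rc_14_4 lc_c_Cert_tree lc_c_rc_13_0 lc_c_rc_28_2 lc_c_rc_13_0 lc_c_rc_17_2 lc_c_Cert_tree lc_c_rc_13_0 lc_c_rc_17_2 lc_c_rc_13_0 lc_c_Cert_tree lc_c_rc_28_8 lc_c_rc_16_0 lc_c_rc_13_0 lc_c_rc_2_3 lc_c_rc_17_2 lc_c_rc_13_0 lc_c_rc_17_2 lc_c_rc_2_1 lc_c_rc_8_1 lc_c_rc_13_0 lc_c_rc_17_2 lc_c_rc_13_1 lc_c_rc_2_1 lc_c_rc_2_3 lc_c_rc_8_3 lc_c_rc_15_2 lc_c_rc_8_3)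 (@D3.rec (fun _ => (Cert rels S Gen.c)) lc_c_rc_13_0 lc_c_rc_8_3 lc_c_rc_13_0 lc_c_rc_28_2 lc_c_rc_16_2 lc_c_rc_13_0 lc_c_rc_2_1 lc_c_rc_2_1 lc_c_rc_16_2 lc_c_rc_17_2 lc_c_rc_16_2 lc_c_rc_2_1 lc_c_rc_28_8 lc_c_rc_16_2 lc_c_rc_17_2 lc_c_rc_2_1 lc_c_rc_8_3 lc_c_Cert_tree lc_c_rc_30_10 lc_c_rc_13_0 lc_c_rc_15_2 lc_c_rc_16_2 lc_c_rc_28_2 lc_c_rc_28_2 lc_c_rc_2_1 lc_c_rc_8_3 lc_c_rc_8_3 lc_c_rc_13_0 lc_c_Cert_tree lc_c_rc_17_2 lc_c_rc_13_1 lc_c_rc_13_1 lc_c_rc_30_10 lc_c_rc_30_2 lc_c_rc_17_2 lc_c_rc_13_0 lc_c_rc_28_6 lc_c_rc_28_8 lc_c_rc_16_2 lc_c_rc_17_2) (@D3.rec (fun _ => (Cert rels S Gen.c)) lc_c_rc_28_8 lc_c_rc_8_3 lc_c_rc_2_1 lc_c_rc_8_3 lc_c_rc_2_1 lc_c_rc_28_6 lc_c_rc_8_1 lc_c_rc_8_3 lc_c_rc_28_6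 lc_c_rc_15_0 lc_c_rc_2_1 lc_c_rc_15_2 lc_c_rc_8_3 lc_c_rc_17_2 lc_c_rc_2_1 lc_c_rc_16_2 lc_c_rc_13_1 lc_c_rc_2_1 lc_c_rc_15_2 lc_c_rc_16_2 lc_c_rc_2_3 lc_c_rc_15_2 lc_c_rc_16_2 lc_c_rc_16_2 lc_c_rc_28_8 lc_c_rc_28_2 lc_c_rc_17_0 lc_c_rc_2_1 lc_c_rc_28_6 lc_c_rc_17_2 lc_c_rc_17_2 lc_c_rc_8_3 lc_c_rc_2_1 lc_c_rc_2_1 lc_c_rc_2_1 lc_c_rc_13_1 lc_c_rc_16_2 lc_c_rc_17_2 lc_c_rc_17_2 lc_c_rc_2_1) (@D3.rec (fun _ => (Cert rels S Gen.c)) lc_c_rc_13_0 lc_c_rc_8_1 lc_c_rc_16_2 lc_c_rc_28_6 lc_c_Cert_tree lc_c_Cert_tree lc_c_rc_13_0 lc_c_rc_13_0 lc_c_rc_17_2 lc_c_Cert_tree lc_c_rc_17_2 lc_c_rc_16_2 lc_c_rc_8_3 lc_c_rc_28_2 lc_c_rc_15_0 lc_c_rc_15_2 lc_c_Cert_tree lc_c_rc_28_2 lc_c_rc_17_2 lc_c_rc_16_2 lc_c_rc_13_0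 lc_c_rc_2_1 lc_c_rc_13_0 lc_c_rc_2_1 lc_c_rc_16_2 lc_c_rc_30_2 lc_c_rc_16_0 lc_c_rc_28_6 lc_c_rc_15_2 lc_c_rc_17_2 lc_c_rc_30_10 lc_c_rc_17_2 lc_c_rc_2_1 lc_c_rc_8_1 lc_c_rc_2_1 lc_c_rc_13_0 lc_c_rc_17_0 lc_c_rc_28_2 lc_c_rc_17_2 lc_c_rc_15_0) (@D3.rec (fun _ => (Cert rels S Gen.c)) lc_c_rc_30_14 lc_c_rc_16_2 lc_c_rc_8_3 lc_c_rc_28_4 lc_c_rc_15_2 lc_c_rc_17_2 lc_c_rc_13_1 lc_c_rc_17_2 lc_c_rc_13_0 lc_c_rc_8_1 lc_c_rc_28_4 lc_c_Cert_tree lc_c_rc_17_2 lc_c_rc_8_3 lc_c_rc_16_2 lc_c_rc_17_2 lc_c_rc_16_2 lc_c_rc_16_2 lc_c_rc_2_1 lc_c_rc_13_0 lc_c_rc_8_3 lc_c_Cert_tree lc_c_rc_13_0 lc_c_rc_17_2 lc_c_Cert_tree lc_c_rc_2_1 lc_c_rc_2_1 lc_c_rc_13_0 lc_c_rc_16_2 lc_c_rc_8_3 lc_c_rc_17_2 lc_c_rc_2_3 lc_c_rc_16_2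 lc_c_rc_16_2 lc_c_rc_16_2 lc_c_Cert_tree lc_c_rc_2_1 lc_c_rc_8_3 lc_c_rc_15_0 lc_c_rc_13_0) (@D3.rec (fun _ => (Cert rels S Gen.c)) lc_c_rc_2_1 lc_c_rc_13_0 lc_c_rc_17_2 lc_c_rc_17_2 lc_c_rc_30_2 lc_c_rc_17_0 lc_c_rc_28_6 lc_c_rc_15_2 lc_c_rc_16_2 lc_c_rc_16_2 lc_c_rc_2_3 lc_c_rc_2_1 lc_c_rc_8_5 lc_c_rc_16_0 lc_c_rc_13_0 lc_c_rc_15_2 lc_c_rc_16_2 lc_c_rc_28_2 lc_c_rc_16_2 lc_c_rc_8_3 lc_c_rc_30_14 lc_c_rc_8_3 lc_c_rc_28_4 lc_c_rc_15_2 lc_c_rc_16_2 lc_c_rc_16_2 lc_c_rc_13_1 lc_c_rc_13_0 lc_c_rc_2_3 lc_c_rc_2_3 lc_c_Cert_tree lc_c_rc_16_2 lc_c_rc_8_3 lc_c_rc_17_2 lc_c_rc_17_2 lc_c_rc_16_2 lc_c_rc_2_1 lc_c_rc_16_0 lc_c_Cert_tree lc_c_rc_13_0) (@D3.rec (fun _ => (Cert rels S Gen.c)) lc_c_rc_16_2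 lc_c_rc_13_0 lc_c_rc_8_3 lc_c_Cert_tree lc_c_rc_2_1 lc_c_rc_2_1 lc_c_rc_13_0 lc_c_rc_16_2 lc_c_rc_17_2 lc_c_rc_17_2 lc_c_rc_2_3 lc_c_rc_2_1 lc_c_rc_16_2 lc_c_rc_17_2 lc_c_rc_15_2 lc_c_rc_16_2 lc_c_rc_2_1 lc_c_rc_32_6 lc_c_rc_16_2 lc_c_rc_15_2 lc_c_rc_2_1 lc_c_rc_2_1 lc_c_rc_13_0 lc_c_rc_15_2 lc_c_rc_17_2 lc_c_rc_17_2 lc_c_rc_2_1 lc_c_rc_8_3 lc_c_rc_2_1 lc_c_rc_28_6 lc_c_rc_13_0 lc_c_rc_14_6 lc_c_rc_17_2 lc_c_rc_28_4 lc_c_rc_17_2 lc_c_rc_28_6 lc_c_rc_2_1 lc_c_rc_8_3 lc_c_rc_15_2 lc_c_rc_16_2) (@D3.rec (fun _ => (Cert rels S Gen.c)) lc_c_rc_17_2 lc_c_rc_15_2 lc_c_rc_16_2 lc_c_rc_17_2 lc_c_rc_2_3 lc_c_rc_17_0 lc_c_rc_15_2 lc_c_rc_28_6 lc_c_Cert_tree lc_c_rc_16_2 lc_c_rc_17_2 lc_c_rc_17_0 lc_c_rc_13_0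 lc_c_rc_16_2 lc_c_rc_2_3 lc_c_rc_16_2 lc_c_rc_28_6 lc_c_rc_2_1 lc_c_rc_16_2 lc_c_rc_17_2 lc_c_rc_15_2 lc_c_rc_17_2 lc_c_rc_2_1 lc_c_rc_16_0 lc_c_rc_17_2 lc_c_rc_15_2 lc_c_rc_2_1 lc_c_rc_2_1 lc_c_rc_13_0 lc_c_rc_15_2 lc_c_rc_16_2 lc_c_rc_17_2 lc_c_rc_2_1 lc_c_rc_17_2 lc_c_rc_17_0 lc_c_rc_28_6 lc_c_rc_13_0 lc_c_rc_13_1 lc_c_rc_16_2 lc_c_rc_14_4) (@D3.rec (fun _ => (Cert rels S Gen.c)) lc_c_rc_16_2 lc_c_rc_16_2 lc_c_rc_2_3 lc_c_rc_15_2 lc_c_rc_15_2 lc_c_rc_2_3 lc_c_rc_17_2 lc_c_rc_2_1 lc_c_Cert_tree lc_c_rc_16_2 lc_c_rc_17_2 lc_c_rc_16_0 lc_c_rc_13_0 lc_c_rc_16_2 lc_c_rc_8_5 lc_c_rc_13_0 lc_c_rc_17_2 lc_c_Cert_tree lc_c_rc_13_0 lc_c_rc_30_2 lc_c_rc_8_3 lc_c_rc_2_1 lc_c_rc_16_2 lc_c_rc_8_1 lc_c_rc_15_2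 lc_c_rc_16_2 lc_c_rc_8_3 lc_c_rc_13_0 lc_c_rc_32_8 lc_c_rc_13_0 lc_c_rc_16_2 lc_c_rc_8_1 lc_c_rc_13_0 lc_c_rc_16_2 lc_c_rc_16_2 lc_c_rc_17_2 lc_c_rc_30_6 lc_c_rc_13_0 lc_c_rc_32_44 lc_c_rc_16_0) (@D3.rec (fun _ => (Cert rels S Gen.c)) lc_c_rc_8_3 lc_c_rc_28_4 lc_c_rc_13_0 lc_c_rc_15_2 lc_c_rc_13_0 lc_c_rc_8_3 lc_c_rc_16_2 lc_c_rc_2_1 lc_c_rc_28_4 lc_c_rc_16_2 lc_c_rc_17_2 lc_c_rc_13_0 lc_c_rc_15_2 lc_c_rc_15_2 lc_c_rc_15_2 lc_c_rc_14_6 lc_c_rc_16_2 lc_c_rc_2_1 lc_c_rc_28_2 lc_c_rc_17_2 lc_c_rc_2_1 lc_c_rc_16_2 lc_c_rc_32_34 lc_c_rc_30_10 lc_c_rc_15_2 lc_c_rc_32_21 lc_c_rc_15_2 lc_c_rc_17_2 lc_c_rc_8_1 lc_c_rc_15_2 lc_c_rc_28_2 lc_c_rc_2_3 lc_c_rc_8_1 lc_c_rc_13_0 lc_c_rc_13_0 lc_c_rc_17_0 lc_c_rc_8_3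 lc_c_rc_28_2 lc_c_rc_13_0 lc_c_rc_15_2)
def ce_c_12 : D2 → D3 → (Cert rels S Gen.c) := @D2.rec (fun _ => D3 → (Cert rels S Gen.c)) (@D3.rec (fun _ => (Cert rels S Gen.c)) lc_c_rc_13_0 lc_c_rc_8_3 lc_c_rc_17_2 lc_c_rc_13_1 lc_c_rc_13_1 lc_c_rc_8_3 lc_c_rc_16_0 lc_c_rc_13_0 lc_c_rc_15_2 lc_c_rc_15_2 lc_c_rc_15_2 lc_c_rc_32_55 lc_c_rc_28_8 lc_c_rc_17_2 lc_c_rc_2_1 lc_c_rc_17_2 lc_c_rc_13_1 lc_c_rc_2_1 lc_c_rc_15_2 lc_c_rc_13_0 lc_c_rc_15_2 lc_c_rc_13_0 lc_c_rc_15_2 lc_c_rc_2_1 lc_c_rc_2_1 lc_c_rc_17_2 lc_c_rc_2_1 lc_c_rc_17_2 lc_c_rc_16_2 lc_c_Cert_tree lc_c_rc_13_0 lc_c_rc_17_2 lc_c_Cert_tree lc_c_rc_13_0 lc_c_rc_16_2 lc_c_rc_16_2 lc_c_rc_15_2 lc_c_rc_15_2 lc_c_rc_17_2 lc_c_rc_28_8) (@D3.rec (fun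 _ => (Cert rels S Gen.c)) lc_c_rc_16_2 lc_c_rc_17_2 lc_c_rc_28_8 lc_c_Cert_tree lc_c_Cert_tree lc_c_rc_13_0 lc_c_rc_16_2 lc_c_Cert_tree lc_c_Cert_tree lc_c_rc_13_0 lc_c_rc_17_2 lc_c_Cert_tree lc_c_rc_13_0 lc_c_rc_15_2 lc_c_Cert_tree lc_c_rc_13_0 lc_c_rc_17_2 lc_c_rc_28_8 lc_c_rc_16_2 lc_c_rc_2_1 lc_c_Cert_tree lc_c_rc_13_0 lc_c_rc_15_2 lc_c_Cert_tree lc_c_rc_13_0 lc_c_rc_16_2 lc_c_rc_8_1 lc_c_rc_17_2 lc_c_rc_2_1 lc_c_Cert_tree lc_c_rc_8_3 lc_c_Cert_tree lc_c_Cert_tree lc_c_rc_8_3 lc_c_Cert_tree lc_c_Cert_tree lc_c_rc_13_0 lc_c_rc_15_2 lc_c_rc_13_1 lc_c_rc_13_0) (@D3.rec (fun _ => (Cert rels S Gen.c)) lc_c_rc_2_1 lc_c_Cert_tree lc_c_rc_13_0 lc_c_rc_15_2 lc_c_rc_15_2 lc_c_rc_13_0 lc_c_rc_2_1 lc_c_rc_17_2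 lc_c_rc_17_2 lc_c_rc_15_2 lc_c_rc_17_2 lc_c_rc_13_0 lc_c_rc_13_0 lc_c_rc_17_2 lc_c_rc_2_1 lc_c_rc_16_2 lc_c_rc_16_2 lc_c_rc_13_0 lc_c_rc_13_0 lc_c_rc_16_2 lc_c_rc_15_2 lc_c_rc_15_2 lc_c_rc_13_0 lc_c_rc_28_2 lc_c_rc_17_2 lc_c_rc_13_0 lc_c_rc_28_6 lc_c_rc_16_2 lc_c_rc_17_2 lc_c_rc_13_0 lc_c_rc_13_0 lc_c_rc_13_0 lc_c_rc_16_2 lc_c_rc_17_2 lc_c_rc_16_2 lc_c_rc_15_2 lc_c_rc_17_2 lc_c_rc_15_2 lc_c_rc_16_2 lc_c_rc_15_2) (@D3.rec (fun _ => (Cert rels S Gen.c)) lc_c_rc_17_2 lc_c_rc_15_2 lc_c_rc_16_2 lc_c_rc_28_6 lc_c_rc_16_2 lc_c_rc_8_3 lc_c_rc_17_2 lc_c_rc_28_4 lc_c_rc_30_2 lc_c_Cert_tree lc_c_rc_13_0 lc_c_rc_16_2 lc_c_rc_17_2 lc_c_rc_16_2 lc_c_rc_8_3 lc_c_Cert_tree lc_c_rc_13_0 lc_c_rc_8_3 lc_c_rc_2_1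 lc_c_rc_16_2 lc_c_rc_2_1 lc_c_rc_17_2 lc_c_rc_28_4 lc_c_rc_28_6 lc_c_Cert_tree lc_c_Cert_tree lc_c_rc_13_0 lc_c_rc_16_2 lc_c_rc_13_0 lc_c_rc_16_2 lc_c_rc_16_2 lc_c_rc_17_2 lc_c_rc_16_2 lc_c_rc_15_2 lc_c_rc_2_3 lc_c_Cert_tree lc_c_Cert_tree lc_c_rc_13_0 lc_c_rc_17_2 lc_c_rc_13_0) (@D3.rec (fun _ => (Cert rels S Gen.c)) lc_c_rc_17_2 lc_c_rc_17_2 lc_c_rc_2_3 lc_c_rc_17_2 lc_c_Cert_tree lc_c_rc_28_2 lc_c_rc_17_2 lc_c_rc_16_2 lc_c_rc_15_2 lc_c_rc_17_2 lc_c_rc_16_2 lc_c_rc_17_2 lc_c_rc_16_2 lc_c_Cert_tree lc_c_rc_2_1 lc_c_rc_17_0 lc_c_rc_17_2 lc_c_rc_16_0 lc_c_rc_16_2 lc_c_rc_28_8 lc_c_rc_16_2 lc_c_rc_13_1 lc_c_rc_8_3 lc_c_rc_17_2 lc_c_rc_15_2 lc_c_rc_17_2 lc_c_rc_8_3 lc_c_rc_13_0 lc_c_rc_16_2 lc_c_rc_28_2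 lc_c_Cert_tree lc_c_rc_16_2 lc_c_rc_2_1 lc_c_rc_16_2 lc_c_rc_13_0 lc_c_Cert_tree lc_c_rc_16_2 lc_c_rc_16_2 lc_c_rc_17_2 lc_c_Cert_tree) (@D3.rec (fun _ => (Cert rels S Gen.c)) lc_c_rc_13_0 lc_c_rc_16_2 lc_c_rc_17_2 lc_c_rc_28_4 lc_c_rc_16_2 lc_c_rc_13_0 lc_c_rc_15_2 lc_c_rc_16_2 lc_c_rc_17_2 lc_c_Cert_tree lc_c_rc_16_2 lc_c_rc_8_3 lc_c_rc_8_3 lc_c_rc_15_2 lc_c_rc_16_2 lc_c_rc_15_2 lc_c_rc_13_0 lc_c_rc_17_2 lc_c_rc_2_3 lc_c_Cert_tree lc_c_rc_17_2 lc_c_rc_17_0 lc_c_rc_17_2 lc_c_rc_13_0 lc_c_Cert_tree lc_c_rc_17_2 lc_c_rc_13_1 lc_c_rc_15_2 lc_c_Cert_tree lc_c_rc_13_0 lc_c_rc_16_2 lc_c_rc_17_2 lc_c_rc_28_4 lc_c_rc_17_2 lc_c_rc_13_0 lc_c_rc_15_2 lc_c_rc_17_2 lc_c_rc_2_1 lc_c_Cert_tree lc_c_Cert_tree)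 (@D3.rec (fun _ => (Cert rels S Gen.c)) lc_c_Cert_tree lc_c_rc_13_0 lc_c_rc_16_2 lc_c_rc_8_3 lc_c_rc_17_2 lc_c_rc_17_2 lc_c_Cert_tree lc_c_Cert_tree lc_c_rc_13_0 lc_c_rc_17_2 lc_c_rc_2_1 lc_c_rc_2_1 lc_c_rc_16_2 lc_c_Cert_tree lc_c_rc_13_0 lc_c_rc_16_2 lc_c_rc_13_0 lc_c_rc_28_8 lc_c_rc_16_2 lc_c_rc_16_2 lc_c_rc_28_6 lc_c_rc_17_2 lc_c_Cert_tree lc_c_rc_13_0 lc_c_rc_17_2 lc_c_rc_13_0 lc_c_rc_28_6 lc_c_rc_17_2 lc_c_rc_17_2 lc_c_rc_28_6 lc_c_rc_2_1 lc_c_rc_28_4 lc_c_rc_13_0 lc_c_rc_28_4 lc_c_rc_17_2 lc_c_rc_28_4 lc_c_rc_13_0 lc_c_rc_28_4 lc_c_rc_16_2 lc_c_rc_2_1) (@D3.rec (fun _ => (Cert rels S Gen.c)) lc_c_rc_17_2 lc_c_rc_17_2 lc_c_rc_28_4 lc_c_rc_8_3 lc_c_rc_17_2 lc_c_rc_17_0 lc_c_rc_28_6 lc_c_rc_16_0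 lc_c_rc_16_2 lc_c_Cert_tree lc_c_rc_13_0 lc_c_rc_13_0 lc_c_rc_17_2 lc_c_rc_17_2 lc_c_rc_13_0 lc_c_rc_30_10 lc_c_rc_16_2 lc_c_rc_17_2 lc_c_rc_15_2 lc_c_rc_16_2 lc_c_rc_16_2 lc_c_rc_16_0 lc_c_rc_13_0 lc_c_rc_8_3 lc_c_rc_17_2 lc_c_rc_28_4 lc_c_rc_15_0 lc_c_rc_28_4 lc_c_rc_8_3 lc_c_rc_30_14 lc_c_rc_2_1 lc_c_rc_14_2 lc_c_rc_16_2 lc_c_rc_28_6 lc_c_Cert_tree lc_c_rc_13_0 lc_c_rc_13_0 lc_c_rc_16_2 lc_c_rc_16_2 lc_c_rc_13_0) (@D3.rec (fun _ => (Cert rels S Gen.c)) lc_c_rc_15_0 lc_c_rc_16_2 lc_c_rc_17_2 lc_c_rc_15_2 lc_c_rc_17_2 lc_c_rc_17_2 lc_c_rc_28_6 lc_c_rc_13_0 lc_c_rc_8_3 lc_c_rc_17_2 lc_c_rc_17_2 lc_c_rc_8_1 lc_c_rc_8_3 lc_c_rc_16_2 lc_c_rc_16_2 lc_c_rc_2_1 lc_c_rc_17_2 lc_c_rc_17_2 lc_c_rc_28_8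 lc_c_rc_16_2 lc_c_rc_2_1 lc_c_rc_13_1 lc_c_rc_13_1 lc_c_Cert_tree lc_c_rc_13_0 lc_c_rc_17_2 lc_c_Cert_tree lc_c_Cert_tree lc_c_rc_13_0 lc_c_rc_16_2 lc_c_Cert_tree lc_c_rc_17_2 lc_c_rc_16_0 lc_c_rc_17_0 lc_c_rc_13_0 lc_c_rc_16_2 lc_c_rc_16_2 lc_c_rc_16_2 lc_c_rc_16_0 lc_c_rc_13_0) (@D3.rec (fun _ => (Cert rels S Gen.c)) lc_c_rc_16_0 lc_c_rc_8_1 lc_c_rc_13_0 lc_c_rc_17_2 lc_c_Cert_tree lc_c_rc_17_2 lc_c_rc_2_3 lc_c_rc_16_0 lc_c_rc_13_0 lc_c_rc_16_2 lc_c_Cert_tree lc_c_rc_16_2 lc_c_rc_17_2 lc_c_rc_15_2 lc_c_rc_13_0 lc_c_rc_16_2 lc_c_rc_17_2 lc_c_rc_17_2 lc_c_rc_2_3 lc_c_rc_15_2 lc_c_rc_13_0 lc_c_rc_16_2 lc_c_rc_17_2 lc_c_rc_16_2 lc_c_rc_17_2 lc_c_rc_17_2 lc_c_rc_28_8 lc_c_Cert_tree lc_c_rc_13_0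 lc_c_rc_17_2 lc_c_rc_30_6 lc_c_rc_13_0 lc_c_rc_16_2 lc_c_Cert_tree lc_c_rc_13_0 lc_c_rc_16_2 lc_c_rc_17_0 lc_c_rc_16_2 lc_c_rc_17_2 lc_c_Cert_tree) (@D3.rec (fun _ => (Cert rels S Gen.c)) lc_c_rc_13_0 lc_c_rc_16_2 lc_c_rc_13_1 lc_c_rc_13_0 lc_c_rc_17_2 lc_c_Cert_tree lc_c_rc_13_0 lc_c_rc_17_2 lc_c_rc_15_0 lc_c_rc_17_2 lc_c_rc_2_3 lc_c_rc_17_0 lc_c_rc_17_2 lc_c_rc_15_2 lc_c_Cert_tree lc_c_Cert_tree lc_c_rc_13_0 lc_c_rc_16_2 lc_c_Cert_tree lc_c_Cert_tree lc_c_rc_13_0 lc_c_rc_17_2 lc_c_rc_8_3 lc_c_rc_16_2 lc_c_rc_16_2 lc_c_rc_13_0 lc_c_rc_2_3 lc_c_rc_16_2 lc_c_rc_16_2 lc_c_Cert_tree lc_c_Cert_tree lc_c_rc_13_0 lc_c_rc_17_2 lc_c_Cert_tree lc_c_Cert_tree lc_c_rc_13_0 lc_c_rc_16_2 lc_c_rc_8_3 lc_c_rc_17_2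 lc_c_rc_8_3) (@D3.rec (fun _ => (Cert rels S Gen.c)) lc_c_rc_8_3 lc_c_rc_15_2 lc_c_Cert_tree lc_c_Cert_tree lc_c_rc_13_0 lc_c_rc_16_2 lc_c_rc_8_1 lc_c_Cert_tree lc_c_Cert_tree lc_c_Cert_tree lc_c_rc_13_0 lc_c_rc_17_2 lc_c_rc_2_1 lc_c_rc_15_0 lc_c_rc_17_2 lc_c_Cert_tree lc_c_rc_8_1 lc_c_rc_2_1 lc_c_Cert_tree lc_c_Cert_tree lc_c_rc_13_0 lc_c_rc_17_2 lc_c_rc_8_1 lc_c_Cert_tree lc_c_Cert_tree lc_c_Cert_tree lc_c_rc_13_0 lc_c_rc_16_2 lc_c_rc_2_1 lc_c_rc_8_5 lc_c_rc_17_2 lc_c_Cert_tree lc_c_rc_8_1 lc_c_rc_28_4 lc_c_rc_16_2 lc_c_rc_17_2 lc_c_rc_28_8 lc_c_rc_28_4 lc_c_rc_16_2 lc_c_rc_17_2) (@D3.rec (fun _ => (Cert rels S Gen.c)) lc_c_rc_13_0 lc_c_rc_15_2 lc_c_rc_28_6 lc_c_rc_28_6 lc_c_rc_17_2 lc_c_Cert_tree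 lc_c_rc_17_0 lc_c_rc_8_1 lc_c_rc_13_0 lc_c_rc_16_2 lc_c_Cert_tree lc_c_rc_8_3 lc_c_rc_16_2 lc_c_rc_17_2 lc_c_rc_16_2 lc_c_Cert_tree lc_c_rc_16_2 lc_c_rc_2_1 lc_c_Cert_tree lc_c_rc_2_3 lc_c_rc_13_0 lc_c_rc_16_2 lc_c_rc_16_2 lc_c_rc_13_0 lc_c_rc_16_2 lc_c_Cert_tree lc_c_rc_16_2 lc_c_Cert_tree lc_c_rc_15_2 lc_c_Cert_tree lc_c_rc_13_0 lc_c_rc_16_2 lc_c_Cert_tree lc_c_rc_16_0 lc_c_rc_13_0 lc_c_Cert_tree lc_c_rc_16_2 lc_c_Cert_tree lc_c_Cert_tree lc_c_rc_13_0) (@D3.rec (fun _ => (Cert rels S Gen.c)) lc_c_rc_17_2 lc_c_Cert_tree lc_c_rc_13_0 lc_c_rc_16_2 lc_c_rc_17_2 lc_c_rc_8_3 lc_c_rc_28_4 lc_c_rc_2_1 lc_c_rc_28_6 lc_c_Cert_tree lc_c_Cert_tree lc_c_rc_13_0 lc_c_rc_30_10 lc_c_rc_13_0 lc_c_rc_17_2 lc_c_Cert_tree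 lc_c_rc_17_2 lc_c_rc_2_1 lc_c_rc_28_2 lc_c_rc_2_3 lc_c_rc_17_2 lc_c_rc_28_2 lc_c_rc_2_1 lc_c_Cert_tree lc_c_rc_17_2 lc_c_rc_2_1 lc_c_rc_28_4 lc_c_rc_15_2 lc_c_rc_15_2 lc_c_rc_28_4 lc_c_rc_16_2 lc_c_rc_17_2 lc_c_rc_28_2 lc_c_rc_28_4 lc_c_rc_16_2 lc_c_rc_17_2 lc_c_rc_13_0 lc_c_rc_15_2 lc_c_rc_28_6 lc_c_rc_28_2) (@D3.rec (fun _ => (Cert rels S Gen.c)) lc_c_Cert_tree lc_c_rc_17_2 lc_c_rc_17_0 lc_c_rc_15_2 lc_c_rc_13_0 lc_c_rc_2_3 lc_c_rc_8_3 lc_c_rc_16_2 lc_c_rc_17_2 lc_c_Cert_tree lc_c_rc_15_2 lc_c_rc_15_2 lc_c_rc_17_2 lc_c_Cert_tree lc_c_rc_15_2 lc_c_rc_13_0 lc_c_rc_17_2 lc_c_rc_2_1 lc_c_rc_13_0 lc_c_Cert_tree lc_c_rc_17_2 lc_c_Cert_tree lc_c_rc_28_6 lc_c_Cert_tree lc_c_rc_13_0 lc_c_rc_17_2 lc_c_rc_2_1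 lc_c_rc_8_1 lc_c_rc_13_0 lc_c_Cert_tree lc_c_rc_17_2 lc_c_Cert_tree lc_c_Cert_tree lc_c_rc_13_0 lc_c_rc_16_2 lc_c_Cert_tree lc_c_rc_13_0 lc_c_rc_16_2 lc_c_rc_17_2 lc_c_rc_8_3) (@D3.rec (fun _ => (Cert rels S Gen.c)) lc_c_Cert_tree lc_c_rc_8_3 lc_c_rc_13_0 lc_c_rc_8_1 lc_c_rc_13_0 lc_c_rc_16_2 lc_c_Cert_tree lc_c_rc_16_2 lc_c_rc_28_4 lc_c_rc_16_2 lc_c_rc_13_0 lc_c_rc_16_2 lc_c_rc_13_1 lc_c_rc_2_1 lc_c_Cert_tree lc_c_rc_16_2 lc_c_rc_28_4 lc_c_rc_13_1 lc_c_rc_15_2 lc_c_rc_17_2 lc_c_rc_2_1 lc_c_rc_28_6 lc_c_rc_15_2 lc_c_rc_17_2 lc_c_rc_15_2 lc_c_rc_17_2 lc_c_rc_28_6 lc_c_rc_28_8 lc_c_rc_17_2 lc_c_rc_28_6 lc_c_rc_17_2 lc_c_Cert_tree lc_c_rc_13_0 lc_c_rc_16_2 lc_c_Cert_tree lc_c_Cert_tree lc_c_rc_13_0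 lc_c_rc_16_2 lc_c_rc_28_8 lc_c_rc_16_2) (@D3.rec (fun _ => (Cert rels S Gen.c)) lc_c_Cert_tree lc_c_rc_17_2 lc_c_Cert_tree lc_c_rc_13_0 lc_c_rc_17_2 lc_c_rc_30_2 lc_c_rc_16_2 lc_c_Cert_tree lc_c_rc_13_0 lc_c_rc_15_2 lc_c_rc_16_2 lc_c_rc_16_2 lc_c_rc_17_2 lc_c_rc_2_1 lc_c_rc_17_2 lc_c_rc_15_2 lc_c_rc_2_1 lc_c_rc_28_6 lc_c_rc_2_1 lc_c_rc_8_3 lc_c_rc_8_1 lc_c_rc_15_2 lc_c_rc_16_0 lc_c_rc_15_2 lc_c_rc_8_3 lc_c_Cert_tree lc_c_rc_2_1 lc_c_rc_2_1 lc_c_rc_13_0 lc_c_rc_15_2 lc_c_rc_16_2 lc_c_rc_17_2 lc_c_rc_17_2 lc_c_rc_28_6 lc_c_rc_28_2 lc_c_rc_15_2 lc_c_rc_16_2 lc_c_rc_17_2 lc_c_rc_17_2 lc_c_rc_2_1) (@D3.rec (fun _ => (Cert rels S Gen.c)) lc_c_rc_15_2 lc_c_rc_16_2 lc_c_rc_15_2 lc_c_rc_8_3 lc_c_rc_16_2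 lc_c_rc_2_1 lc_c_rc_16_2 lc_c_rc_28_8 lc_c_rc_17_0 lc_c_rc_28_6 lc_c_Cert_tree lc_c_rc_13_0 lc_c_rc_17_2 lc_c_Cert_tree lc_c_Cert_tree lc_c_rc_13_0 lc_c_rc_17_2 lc_c_rc_28_8 lc_c_rc_17_2 lc_c_Cert_tree lc_c_rc_16_2 lc_c_Cert_tree lc_c_rc_13_0 lc_c_rc_16_2 lc_c_rc_2_3 lc_c_rc_17_2 lc_c_Cert_tree lc_c_rc_13_0 lc_c_rc_15_2 lc_c_rc_17_2 lc_c_rc_8_3 lc_c_rc_16_2 lc_c_rc_2_1 lc_c_rc_28_2 lc_c_rc_8_3 lc_c_rc_2_1 lc_c_rc_17_2 lc_c_rc_2_1 lc_c_rc_8_3 lc_c_rc_16_2) (@D3.rec (fun _ => (Cert rels S Gen.c)) lc_c_rc_15_2 lc_c_rc_17_0 lc_c_rc_15_2 lc_c_rc_8_3 lc_c_Cert_tree lc_c_rc_2_1 lc_c_rc_2_1 lc_c_rc_13_0 lc_c_rc_15_2 lc_c_rc_16_2 lc_c_rc_17_2 lc_c_rc_17_2 lc_c_rc_28_2 lc_c_rc_28_2 lc_c_rc_15_2 lc_c_rc_16_2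 lc_c_rc_17_2 lc_c_rc_15_2 lc_c_Cert_tree lc_c_rc_2_1 lc_c_Cert_tree lc_c_rc_13_0 lc_c_rc_28_4 lc_c_rc_2_1 lc_c_rc_28_6 lc_c_rc_16_2 lc_c_rc_17_2 lc_c_rc_15_2 lc_c_rc_2_1 lc_c_rc_16_2 lc_c_rc_17_2 lc_c_Cert_tree lc_c_rc_2_1 lc_c_rc_13_0 lc_c_rc_15_2 lc_c_rc_16_2 lc_c_rc_17_2 lc_c_rc_28_2 lc_c_Cert_tree lc_c_rc_17_2) (@D3.rec (fun _ => (Cert rels S Gen.c)) lc_c_Cert_tree lc_c_rc_13_0 lc_c_rc_28_4 lc_c_rc_2_1 lc_c_rc_28_6 lc_c_rc_16_2 lc_c_rc_17_2 lc_c_rc_15_2 lc_c_rc_2_1 lc_c_rc_16_2 lc_c_rc_17_2 lc_c_Cert_tree lc_c_rc_13_0 lc_c_rc_15_2 lc_c_rc_16_2 lc_c_rc_17_2 lc_c_rc_16_2 lc_c_Cert_tree lc_c_rc_13_0 lc_c_rc_13_0 lc_c_rc_17_2 lc_c_rc_16_2 lc_c_rc_2_1 lc_c_rc_13_0 lc_c_rc_13_0 lc_c_rc_8_3 lc_c_rc_17_2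 lc_c_rc_2_3 lc_c_rc_17_2 lc_c_rc_8_3 lc_c_Cert_tree lc_c_rc_13_0 lc_c_rc_13_0 lc_c_rc_2_3 lc_c_rc_17_2 lc_c_rc_2_1 lc_c_rc_13_0 lc_c_rc_13_0 lc_c_rc_8_3 lc_c_rc_16_2) (@D3.rec (fun _ => (Cert rels S Gen.c)) lc_c_rc_16_2 lc_c_rc_17_2 lc_c_rc_8_3 lc_c_rc_15_2 lc_c_rc_15_2 lc_c_rc_15_0 lc_c_rc_13_0 lc_c_rc_13_0 lc_c_rc_8_3 lc_c_rc_13_0 lc_c_rc_17_2 lc_c_rc_2_1 lc_c_rc_16_2 lc_c_rc_16_2 lc_c_rc_17_2 lc_c_rc_13_0 lc_c_rc_13_0 lc_c_rc_8_3 lc_c_Cert_tree lc_c_rc_16_2 lc_c_rc_13_0 lc_c_rc_17_0 lc_c_rc_16_2 lc_c_rc_17_0 lc_c_rc_16_2 lc_c_rc_2_1 lc_c_rc_16_2 lc_c_rc_30_14 lc_c_rc_30_14 lc_c_rc_17_2 lc_c_rc_13_0 lc_c_rc_2_3 lc_c_rc_8_1 lc_c_rc_16_2 lc_c_rc_2_1 lc_c_rc_28_4 lc_c_rc_13_0 lc_c_rc_28_6 lc_c_rc_16_2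 lc_c_Cert_tree) (@D3.rec (fun _ => (Cert rels S Gen.c)) lc_c_rc_13_0 lc_c_rc_17_2 lc_c_Cert_tree lc_c_rc_13_0 lc_c_rc_17_2 lc_c_rc_17_2 lc_c_rc_2_3 lc_c_rc_13_0 lc_c_rc_8_3 lc_c_rc_28_4 lc_c_rc_16_2 lc_c_rc_17_2 lc_c_rc_2_1 lc_c_rc_2_1 lc_c_rc_2_3 lc_c_rc_13_0 lc_c_rc_13_0 lc_c_rc_16_2 lc_c_rc_8_3 lc_c_rc_13_1 lc_c_rc_8_1 lc_c_rc_30_14 lc_c_rc_13_0 lc_c_rc_28_4 lc_c_rc_28_2 lc_c_rc_2_1 lc_c_rc_13_0 lc_c_rc_17_2 lc_c_rc_8_3 lc_c_rc_8_3 lc_c_rc_16_2 lc_c_rc_2_1 lc_c_rc_17_2 lc_c_rc_30_10 lc_c_rc_13_0 lc_c_rc_17_2 lc_c_rc_8_3 lc_c_rc_13_0 lc_c_Cert_tree lc_c_rc_16_2) (@D3.rec (fun _ => (Cert rels S Gen.c)) lc_c_rc_13_0 lc_c_rc_30_6 lc_c_rc_16_2 lc_c_rc_17_2 lc_c_rc_17_2 lc_c_rc_13_1 lc_c_rc_16_2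 lc_c_rc_2_3 lc_c_rc_2_3 lc_c_rc_13_0 lc_c_rc_13_1 lc_c_rc_30_10 lc_c_rc_2_1 lc_c_rc_16_2 lc_c_Cert_tree lc_c_rc_13_0 lc_c_rc_16_2 lc_c_Cert_tree lc_c_rc_13_0 lc_c_rc_2_1 lc_c_rc_17_2 lc_c_rc_13_0 lc_c_rc_2_1 lc_c_rc_16_2 lc_c_rc_17_2 lc_c_rc_15_0 lc_c_rc_13_0 lc_c_rc_28_2 lc_c_rc_17_2 lc_c_rc_28_4 lc_c_rc_28_4 lc_c_Cert_tree lc_c_Cert_tree lc_c_rc_2_3 lc_c_rc_13_0 lc_c_rc_16_2 lc_c_rc_13_0 lc_c_rc_17_2 lc_c_rc_2_3 lc_c_rc_16_2) (@D3.rec (fun _ => (Cert rels S Gen.c)) lc_c_rc_17_2 lc_c_Cert_tree lc_c_rc_30_6 lc_c_rc_17_2 lc_c_rc_13_0 lc_c_rc_15_0 lc_c_rc_13_0 lc_c_rc_15_2 lc_c_rc_28_8 lc_c_rc_28_4 lc_c_rc_13_0 lc_c_rc_28_6 lc_c_rc_8_3 lc_c_rc_15_2 lc_c_rc_2_1 lc_c_rc_17_2 lc_c_rc_15_2 lc_c_rc_2_3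 lc_c_rc_17_2 lc_c_rc_28_8 lc_c_rc_17_2 lc_c_rc_2_1 lc_c_rc_16_0 lc_c_rc_16_2 lc_c_rc_2_1 lc_c_rc_8_3 lc_c_rc_13_1 lc_c_rc_8_1 lc_c_rc_28_6 lc_c_rc_17_2 lc_c_rc_15_2 lc_c_rc_8_3 lc_c_Cert_tree lc_c_Cert_tree lc_c_rc_16_0 lc_c_rc_8_3 lc_c_rc_2_1 lc_c_rc_16_2 lc_c_rc_15_2 lc_c_rc_28_2) (@D3.rec (fun _ => (Cert rels S Gen.c)) lc_c_rc_16_2 lc_c_rc_28_4 lc_c_rc_28_2 lc_c_Cert_tree lc_c_Cert_tree lc_c_rc_13_0 lc_c_rc_30_14 lc_c_rc_13_0 lc_c_rc_13_1 lc_c_rc_16_2 lc_c_rc_15_2 lc_c_rc_17_2 lc_c_rc_14_14 lc_c_Cert_tree lc_c_rc_17_2 lc_c_rc_30_10 lc_c_rc_13_0 lc_c_rc_28_2 lc_c_rc_13_0 lc_c_rc_15_2 lc_c_rc_15_0 lc_c_rc_2_3 lc_c_rc_13_0 lc_c_rc_16_2 lc_c_rc_8_3 lc_c_rc_15_2 lc_c_rc_2_1 lc_c_rc_16_2 lc_c_rc_15_2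 lc_c_rc_30_6 lc_c_rc_13_0 lc_c_rc_28_4 lc_c_rc_16_2 lc_c_rc_2_1 lc_c_rc_15_2 lc_c_rc_17_2 lc_c_rc_2_1 lc_c_rc_8_3 lc_c_rc_13_1 lc_c_rc_8_1) (@D3.rec (fun _ => (Cert rels S Gen.c)) lc_c_rc_16_2 lc_c_rc_8_1 lc_c_rc_15_2 lc_c_Cert_tree lc_c_rc_17_0 lc_c_rc_28_8 lc_c_Cert_tree lc_c_rc_8_3 lc_c_rc_14_8 lc_c_rc_16_2 lc_c_rc_15_2 lc_c_rc_28_6 lc_c_rc_17_2 lc_c_rc_2_1 lc_c_rc_17_2 lc_c_rc_8_3 lc_c_rc_2_1 lc_c_rc_2_1 lc_c_rc_2_1 lc_c_rc_17_2 lc_c_rc_2_1 lc_c_rc_17_2 lc_c_rc_15_2 lc_c_Cert_tree lc_c_rc_2_1 lc_c_rc_13_0 lc_c_rc_15_2 lc_c_rc_8_3 lc_c_rc_13_1 lc_c_rc_16_0 lc_c_rc_13_0 lc_c_rc_8_3 lc_c_rc_2_1 lc_c_rc_2_1 lc_c_rc_2_1 lc_c_rc_2_1 lc_c_rc_2_1 lc_c_rc_16_2 lc_c_rc_17_2 lc_c_rc_16_2)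
def ce_c_13 : D2 → D3 → (Cert rels S Gen.c) := @D2.rec (fun _ => D3 → (Cert rels S Gen.c)) (@D3.rec (fun _ => (Cert rels S Gen.c)) lc_c_rc_16_2 lc_c_rc_28_6 lc_c_rc_17_2 lc_c_rc_15_2 lc_c_rc_17_0 lc_c_rc_8_1 lc_c_rc_15_2 lc_c_Cert_tree lc_c_rc_2_1 lc_c_rc_13_0 lc_c_rc_15_2 lc_c_rc_8_3 lc_c_rc_8_1 lc_c_rc_15_0 lc_c_rc_13_0 lc_c_rc_8_3 lc_c_rc_8_3 lc_c_rc_17_2 lc_c_rc_2_1 lc_c_rc_2_1 lc_c_rc_2_1 lc_c_rc_8_3 lc_c_rc_16_2 lc_c_rc_17_2 lc_c_rc_17_2 lc_c_rc_17_2 lc_c_rc_28_8 lc_c_rc_17_2 lc_c_rc_13_0 lc_c_rc_17_2 lc_c_rc_13_0 lc_c_rc_16_2 lc_c_rc_28_8 lc_c_rc_17_2 lc_c_rc_30_2 lc_c_rc_16_2 lc_c_rc_16_2 lc_c_rc_2_1 lc_c_rc_15_2 lc_c_rc_16_2) (@D3.rec (fun _ => (Cert rels S Gen.c)) lc_c_rc_30_10 lc_c_rc_2_1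 lc_c_rc_2_1 lc_c_rc_8_1 lc_c_rc_13_0 lc_c_rc_30_10 lc_c_rc_13_1 lc_c_rc_17_2 lc_c_rc_2_1 lc_c_rc_13_0 lc_c_rc_2_1 lc_c_rc_8_1 lc_c_rc_2_1 lc_c_rc_28_8 lc_c_rc_32_73 lc_c_rc_17_2 lc_c_rc_16_2 lc_c_rc_13_0 lc_c_rc_30_10 lc_c_rc_13_0 lc_c_rc_8_3 lc_c_rc_8_1 lc_c_rc_17_2 lc_c_rc_17_2 lc_c_rc_15_2 lc_c_rc_8_1 lc_c_rc_17_2 lc_c_rc_2_1 lc_c_rc_2_3 lc_c_rc_2_1 lc_c_rc_28_6 lc_c_rc_13_0 lc_c_rc_8_1 lc_c_rc_8_1 lc_c_rc_2_1 lc_c_rc_2_3 lc_c_rc_16_2 lc_c_Cert_tree lc_c_rc_13_0 lc_c_rc_16_2) (@D3.rec (fun _ => (Cert rels S Gen.c)) lc_c_Cert_tree lc_c_rc_13_0 lc_c_rc_17_2 lc_c_rc_28_6 lc_c_rc_28_4 lc_c_rc_13_0 lc_c_rc_13_0 lc_c_rc_13_0 lc_c_rc_16_2 lc_c_rc_8_1 lc_c_rc_16_2 lc_c_rc_13_0 lc_c_rc_17_2 lc_c_rc_8_1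 lc_c_rc_17_2 lc_c_rc_13_0 lc_c_rc_13_0 lc_c_Cert_tree lc_c_rc_17_2 lc_c_Cert_tree lc_c_rc_16_2 lc_c_rc_8_3 lc_c_Cert_tree lc_c_rc_13_0 lc_c_rc_16_2 lc_c_rc_8_3 lc_c_Cert_tree lc_c_rc_13_0 lc_c_rc_17_2 lc_c_rc_15_2 lc_c_rc_13_0 lc_c_rc_16_2 lc_c_rc_13_0 lc_c_rc_13_0 lc_c_rc_16_2 lc_c_rc_28_8 lc_c_rc_16_2 lc_c_rc_17_2 lc_c_rc_15_2 lc_c_rc_13_0) (@D3.rec (fun _ => (Cert rels S Gen.c)) lc_c_rc_17_2 lc_c_rc_16_2 lc_c_rc_13_0 lc_c_rc_17_2 lc_c_rc_28_8 lc_c_rc_17_2 lc_c_rc_2_3 lc_c_rc_17_2 lc_c_rc_8_3 lc_c_rc_15_2 lc_c_rc_13_1 lc_c_rc_15_2 lc_c_Cert_tree lc_c_rc_13_0 lc_c_rc_16_2 lc_c_rc_13_0 lc_c_rc_17_2 lc_c_Cert_tree lc_c_rc_17_2 lc_c_rc_13_0 lc_c_rc_17_2 lc_c_rc_13_0 lc_c_rc_16_2 lc_c_rc_16_2 lc_c_rc_16_2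 lc_c_rc_8_1 lc_c_rc_8_1 lc_c_Cert_tree lc_c_Cert_tree lc_c_rc_13_0 lc_c_rc_13_0 lc_c_rc_16_2 lc_c_rc_2_3 lc_c_rc_13_0 lc_c_rc_17_2 lc_c_rc_17_2 lc_c_rc_13_0 lc_c_rc_2_3 lc_c_rc_13_0 lc_c_rc_8_3) (@D3.rec (fun _ => (Cert rels S Gen.c)) lc_c_rc_2_1 lc_c_rc_13_0 lc_c_rc_8_1 lc_c_rc_14_12 lc_c_rc_16_2 lc_c_rc_32_60 lc_c_rc_2_3 lc_c_rc_13_0 lc_c_rc_8_3 lc_c_rc_17_2 lc_c_rc_13_0 lc_c_rc_8_1 lc_c_rc_28_4 lc_c_rc_17_2 lc_c_rc_32_60 lc_c_rc_16_2 lc_c_rc_2_1 lc_c_rc_17_2 lc_c_rc_17_2 lc_c_rc_2_1 lc_c_rc_16_2 lc_c_rc_17_2 lc_c_rc_16_2 lc_c_rc_16_2 lc_c_rc_17_2 lc_c_rc_8_3 lc_c_rc_8_3 lc_c_rc_28_6 lc_c_rc_8_3 lc_c_rc_13_0 lc_c_rc_17_2 lc_c_rc_16_2 lc_c_rc_16_2 lc_c_rc_17_2 lc_c_rc_30_2 lc_c_rc_13_0 lc_c_rc_17_2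 lc_c_rc_16_2 lc_c_rc_16_2 lc_c_rc_13_0) (@D3.rec (fun _ => (Cert rels S Gen.c)) lc_c_rc_13_0 lc_c_Cert_tree lc_c_rc_17_2 lc_c_rc_13_0 lc_c_rc_15_2 lc_c_rc_8_3 lc_c_rc_15_2 lc_c_rc_17_2 lc_c_rc_17_2 lc_c_Cert_tree lc_c_Cert_tree lc_c_rc_13_0 lc_c_rc_16_2 lc_c_rc_2_3 lc_c_rc_13_0 lc_c_rc_8_1 lc_c_rc_16_2 lc_c_Cert_tree lc_c_rc_13_0 lc_c_rc_17_2 lc_c_rc_8_3 lc_c_rc_15_0 lc_c_rc_16_2 lc_c_rc_15_0 lc_c_rc_17_2 lc_c_rc_8_3 lc_c_Cert_tree lc_c_rc_16_2 lc_c_rc_13_0 lc_c_rc_15_2 lc_c_rc_8_3 lc_c_rc_15_2 lc_c_rc_16_2 lc_c_rc_16_2 lc_c_Cert_tree lc_c_Cert_tree lc_c_rc_13_0 lc_c_rc_17_2 lc_c_rc_8_1 lc_c_rc_13_0) (@D3.rec (fun _ => (Cert rels S Gen.c)) lc_c_rc_16_2 lc_c_rc_17_2 lc_c_Cert_tree lc_c_rc_13_0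 lc_c_rc_16_2 lc_c_rc_8_3 lc_c_rc_16_0 lc_c_rc_17_2 lc_c_rc_17_2 lc_c_rc_2_1 lc_c_rc_2_3 lc_c_rc_17_2 lc_c_rc_15_2 lc_c_rc_17_2 lc_c_Cert_tree lc_c_rc_13_0 lc_c_rc_15_2 lc_c_rc_17_2 lc_c_rc_13_0 lc_c_rc_16_2 lc_c_rc_15_2 lc_c_rc_16_2 lc_c_Cert_tree lc_c_rc_13_0 lc_c_rc_28_8 lc_c_rc_2_3 lc_c_rc_13_0 lc_c_rc_8_3 lc_c_rc_30_10 lc_c_rc_17_2 lc_c_rc_15_2 lc_c_rc_17_2 lc_c_rc_17_2 lc_c_Cert_tree lc_c_Cert_tree lc_c_rc_13_0 lc_c_rc_15_2 lc_c_rc_2_3 lc_c_rc_16_0 lc_c_rc_16_2) (@D3.rec (fun _ => (Cert rels S Gen.c)) lc_c_Cert_tree lc_c_rc_17_2 lc_c_rc_8_3 lc_c_rc_16_2 lc_c_rc_16_2 lc_c_Cert_tree lc_c_Cert_tree lc_c_rc_13_0 lc_c_rc_17_2 lc_c_rc_13_0 lc_c_rc_17_2 lc_c_rc_8_3 lc_c_Cert_tree lc_c_rc_13_0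 lc_c_rc_15_2 lc_c_rc_28_6 lc_c_rc_15_2 lc_c_rc_13_0 lc_c_Cert_tree lc_c_rc_17_2 lc_c_rc_8_3 lc_c_rc_16_0 lc_c_rc_16_2 lc_c_rc_17_2 lc_c_rc_16_2 lc_c_rc_15_2 lc_c_rc_13_0 lc_c_rc_15_2 lc_c_rc_16_2 lc_c_rc_2_1 lc_c_rc_8_3 lc_c_rc_15_2 lc_c_rc_16_2 lc_c_rc_16_2 lc_c_rc_17_2 lc_c_Cert_tree lc_c_rc_13_0 lc_c_rc_16_2 lc_c_rc_8_3 lc_c_rc_2_1) (@D3.rec (fun _ => (Cert rels S Gen.c)) lc_c_rc_15_2 lc_c_rc_16_2 lc_c_rc_16_2 lc_c_Cert_tree lc_c_Cert_tree lc_c_rc_13_0 lc_c_rc_15_2 lc_c_rc_17_0 lc_c_rc_17_2 lc_c_Cert_tree lc_c_rc_16_2 lc_c_rc_8_3 lc_c_rc_17_2 lc_c_rc_17_2 lc_c_rc_8_3 lc_c_Cert_tree lc_c_rc_13_0 lc_c_rc_16_2 lc_c_rc_13_0 lc_c_rc_16_2 lc_c_rc_8_3 lc_c_Cert_tree lc_c_rc_13_0 lc_c_rc_15_2 lc_c_rc_28_6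 lc_c_rc_8_3 lc_c_rc_13_0 lc_c_Cert_tree lc_c_rc_16_2 lc_c_rc_8_3 lc_c_rc_17_0 lc_c_rc_16_2 lc_c_rc_17_2 lc_c_rc_8_1 lc_c_rc_17_2 lc_c_rc_13_0 lc_c_rc_15_2 lc_c_rc_17_2 lc_c_rc_8_3 lc_c_rc_8_3) (@D3.rec (fun _ => (Cert rels S Gen.c)) lc_c_rc_15_2 lc_c_rc_17_2 lc_c_rc_17_2 lc_c_rc_16_2 lc_c_Cert_tree lc_c_rc_13_0 lc_c_rc_17_2 lc_c_rc_30_6 lc_c_Cert_tree lc_c_rc_2_1 lc_c_rc_2_1 lc_c_rc_13_0 lc_c_rc_15_2 lc_c_rc_16_2 lc_c_rc_17_2 lc_c_rc_16_2 lc_c_rc_2_1 lc_c_rc_8_3 lc_c_rc_16_2 lc_c_rc_17_2 lc_c_rc_30_10 lc_c_Cert_tree lc_c_rc_2_1 lc_c_rc_2_1 lc_c_rc_13_0 lc_c_rc_15_2 lc_c_rc_16_2 lc_c_rc_17_2 lc_c_rc_17_2 lc_c_rc_2_1 lc_c_rc_8_3 lc_c_rc_16_2 lc_c_rc_17_2 lc_c_rc_2_1 lc_c_rc_16_2 lc_c_rc_17_2 lc_c_Cert_tree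 lc_c_rc_28_2 lc_c_rc_13_0 lc_c_rc_15_2) (@D3.rec (fun _ => (Cert rels S Gen.c)) lc_c_rc_16_2 lc_c_rc_17_2 lc_c_rc_2_1 lc_c_rc_16_2 lc_c_rc_17_2 lc_c_Cert_tree lc_c_rc_13_0 lc_c_rc_15_2 lc_c_rc_16_2 lc_c_rc_13_0 lc_c_rc_13_0 lc_c_rc_17_2 lc_c_rc_8_1 lc_c_rc_13_0 lc_c_rc_15_2 lc_c_rc_13_1 lc_c_rc_28_6 lc_c_rc_13_0 lc_c_rc_30_10 lc_c_rc_8_3 lc_c_rc_15_2 lc_c_rc_13_0 lc_c_rc_13_0 lc_c_rc_8_3 lc_c_rc_28_8 lc_c_rc_17_2 lc_c_rc_2_1 lc_c_rc_17_2 lc_c_rc_16_2 lc_c_rc_13_0 lc_c_rc_16_2 lc_c_rc_17_2 lc_c_rc_8_3 lc_c_rc_2_1 lc_c_rc_15_2 lc_c_rc_16_2 lc_c_rc_15_2 lc_c_rc_28_8 lc_c_rc_17_2 lc_c_rc_16_2) (@D3.rec (fun _ => (Cert rels S Gen.c)) lc_c_rc_28_6 lc_c_rc_13_0 lc_c_rc_17_2 lc_c_rc_28_4 lc_c_rc_8_3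 lc_c_rc_8_3 lc_c_rc_16_2 lc_c_rc_15_0 lc_c_rc_8_5 lc_c_rc_17_2 lc_c_rc_13_0 lc_c_rc_2_1 lc_c_rc_15_2 lc_c_rc_8_3 lc_c_rc_2_1 lc_c_rc_17_2 lc_c_rc_17_2 lc_c_rc_16_2 lc_c_rc_16_2 lc_c_rc_13_0 lc_c_rc_2_3 lc_c_rc_16_2 lc_c_rc_8_3 lc_c_rc_13_0 lc_c_rc_8_3 lc_c_rc_17_2 lc_c_rc_2_1 lc_c_rc_15_2 lc_c_rc_13_0 lc_c_rc_16_2 lc_c_rc_28_2 lc_c_rc_2_3 lc_c_rc_8_3 lc_c_rc_8_3 lc_c_rc_28_4 lc_c_rc_2_1 lc_c_Cert_tree lc_c_rc_16_2 lc_c_rc_17_2 lc_c_rc_15_2) (@D3.rec (fun _ => (Cert rels S Gen.c)) lc_c_rc_30_2 lc_c_rc_28_6 lc_c_rc_15_2 lc_c_rc_16_2 lc_c_rc_16_2 lc_c_rc_14_2 lc_c_rc_8_3 lc_c_rc_13_0 lc_c_rc_2_1 lc_c_rc_28_2 lc_c_rc_16_2 lc_c_rc_8_3 lc_c_rc_8_3 lc_c_rc_28_4 lc_c_rc_28_2 lc_c_Cert_tree lc_c_rc_16_2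 lc_c_rc_28_8 lc_c_rc_15_2 lc_c_rc_30_6 lc_c_rc_8_3 lc_c_rc_15_2 lc_c_rc_17_2 lc_c_rc_17_2 lc_c_rc_13_1 lc_c_rc_2_1 lc_c_rc_2_1 lc_c_Cert_tree lc_c_rc_13_0 lc_c_rc_2_1 lc_c_rc_17_2 lc_c_rc_13_0 lc_c_rc_16_0 lc_c_rc_28_2 lc_c_rc_13_0 lc_c_rc_17_2 lc_c_rc_8_3 lc_c_rc_17_2 lc_c_rc_13_0 lc_c_rc_17_2) (@D3.rec (fun _ => (Cert rels S Gen.c)) lc_c_rc_17_2 lc_c_rc_8_1 lc_c_rc_8_3 lc_c_rc_16_2 lc_c_rc_17_2 lc_c_rc_8_3 lc_c_rc_2_3 lc_c_rc_15_0 lc_c_rc_8_3 lc_c_rc_13_0 lc_c_rc_15_2 lc_c_rc_28_6 lc_c_rc_15_2 lc_c_rc_16_2 lc_c_rc_16_2 lc_c_rc_16_2 lc_c_rc_8_1 lc_c_rc_16_2 lc_c_rc_30_6 lc_c_rc_8_3 lc_c_rc_8_1 lc_c_rc_17_2 lc_c_rc_16_2 lc_c_rc_17_2 lc_c_rc_13_0 lc_c_rc_15_2 lc_c_rc_14_14 lc_c_rc_17_2 lc_c_rc_16_2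 lc_c_rc_15_2 lc_c_rc_30_14 lc_c_rc_2_1 lc_c_rc_2_1 lc_c_rc_8_3 lc_c_rc_17_2 lc_c_rc_15_2 lc_c_Cert_tree lc_c_rc_2_3 lc_c_rc_14_2 lc_c_rc_13_0) (@D3.rec (fun _ => (Cert rels S Gen.c)) lc_c_rc_16_2 lc_c_rc_16_2 lc_c_rc_2_1 lc_c_rc_8_1 lc_c_Cert_tree lc_c_rc_13_0 lc_c_rc_2_1 lc_c_rc_16_2 lc_c_rc_13_0 lc_c_rc_15_2 lc_c_rc_28_2 lc_c_rc_13_0 lc_c_rc_16_2 lc_c_rc_8_3 lc_c_rc_17_2 lc_c_rc_13_0 lc_c_rc_2_1 lc_c_rc_8_1 lc_c_rc_8_3 lc_c_rc_16_2 lc_c_rc_17_2 lc_c_rc_14_10 lc_c_rc_17_2 lc_c_rc_13_0 lc_c_rc_15_2 lc_c_rc_28_6 lc_c_rc_15_2 lc_c_rc_17_2 lc_c_rc_17_2 lc_c_rc_17_0 lc_c_rc_17_2 lc_c_rc_17_0 lc_c_rc_13_1 lc_c_rc_2_1 lc_c_rc_15_0 lc_c_rc_2_1 lc_c_rc_17_2 lc_c_rc_13_0 lc_c_rc_15_2 lc_c_rc_17_2) (@D3.rec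 (fun _ => (Cert rels S Gen.c)) lc_c_rc_15_2 lc_c_rc_8_3 lc_c_rc_2_1 lc_c_rc_28_4 lc_c_rc_8_3 lc_c_rc_16_2 lc_c_rc_15_2 lc_c_Cert_tree lc_c_rc_17_2 lc_c_rc_14_2 lc_c_rc_13_0 lc_c_rc_17_2 lc_c_rc_17_2 lc_c_rc_17_2 lc_c_rc_2_1 lc_c_rc_13_0 lc_c_rc_16_2 lc_c_Cert_tree lc_c_rc_2_1 lc_c_rc_30_14 lc_c_rc_2_1 lc_c_rc_15_2 lc_c_rc_17_2 lc_c_rc_16_2 lc_c_rc_17_2 lc_c_rc_2_1 lc_c_Cert_tree lc_c_rc_2_1 lc_c_rc_30_14 lc_c_rc_16_0 lc_c_rc_16_2 lc_c_rc_16_0 lc_c_rc_15_0 lc_c_rc_15_2 lc_c_rc_28_4 lc_c_rc_28_6 lc_c_rc_17_2 lc_c_rc_17_2 lc_c_rc_17_2 lc_c_rc_2_3) (@D3.rec (fun _ => (Cert rels S Gen.c)) lc_c_rc_13_0 lc_c_rc_28_6 lc_c_rc_8_3 lc_c_rc_17_2 lc_c_rc_13_0 lc_c_rc_15_2 lc_c_rc_17_0 lc_c_rc_28_8 lc_c_rc_15_2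 lc_c_rc_17_2 lc_c_rc_16_2 lc_c_rc_17_2 lc_c_rc_17_2 lc_c_rc_8_3 lc_c_rc_15_2 lc_c_rc_17_2 lc_c_rc_17_2 lc_c_rc_16_2 lc_c_rc_8_3 lc_c_rc_30_10 lc_c_rc_2_3 lc_c_rc_13_0 lc_c_rc_2_3 lc_c_rc_8_1 lc_c_rc_8_3 lc_c_rc_13_0 lc_c_rc_15_2 lc_c_rc_28_4 lc_c_rc_28_6 lc_c_rc_15_2 lc_c_rc_16_2 lc_c_rc_16_2 lc_c_rc_16_0 lc_c_rc_8_3 lc_c_rc_13_1 lc_c_rc_28_6 lc_c_rc_17_2 lc_c_rc_28_6 lc_c_rc_16_2 lc_c_rc_28_6) (@D3.rec (fun _ => (Cert rels S Gen.c)) lc_c_rc_17_2 lc_c_Cert_tree lc_c_rc_13_0 lc_c_rc_14_12 lc_c_rc_16_2 lc_c_Cert_tree lc_c_rc_13_0 lc_c_rc_15_2 lc_c_rc_8_5 lc_c_rc_13_0 lc_c_Cert_tree lc_c_rc_13_0 lc_c_Cert_tree lc_c_rc_13_0 lc_c_rc_17_2 lc_c_Cert_tree lc_c_rc_17_2 lc_c_rc_13_0 lc_c_rc_16_2 lc_c_Cert_tree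 lc_c_rc_16_2 lc_c_rc_28_2 lc_c_rc_17_2 lc_c_rc_15_2 lc_c_rc_2_3 lc_c_rc_8_3 lc_c_rc_2_1 lc_c_rc_28_2 lc_c_rc_16_2 lc_c_rc_15_2 lc_c_rc_28_6 lc_c_rc_8_3 lc_c_rc_17_2 lc_c_rc_8_3 lc_c_rc_28_6 lc_c_rc_8_3 lc_c_rc_28_6 lc_c_rc_13_0 lc_c_Cert_tree lc_c_rc_13_0) (@D3.rec (fun _ => (Cert rels S Gen.c)) lc_c_Cert_tree lc_c_rc_13_0 lc_c_Cert_tree lc_c_rc_13_0 lc_c_Cert_tree lc_c_Cert_tree lc_c_rc_16_2 lc_c_rc_17_2 lc_c_rc_17_2 lc_c_rc_2_3 lc_c_rc_15_2 lc_c_rc_17_2 lc_c_Cert_tree lc_c_rc_13_0 lc_c_Cert_tree lc_c_rc_16_2 lc_c_rc_13_0 lc_c_rc_8_3 lc_c_rc_28_2 lc_c_rc_16_2 lc_c_rc_13_0 lc_c_rc_17_0 lc_c_rc_16_2 lc_c_rc_8_3 lc_c_rc_17_2 lc_c_Cert_tree lc_c_rc_16_2 lc_c_rc_17_2 lc_c_rc_17_2 lc_c_rc_2_3 lc_c_rc_15_2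 lc_c_rc_16_2 lc_c_Cert_tree lc_c_rc_13_0 lc_c_Cert_tree lc_c_rc_17_2 lc_c_rc_13_0 lc_c_rc_8_3 lc_c_rc_28_2 lc_c_rc_17_2) (@D3.rec (fun _ => (Cert rels S Gen.c)) lc_c_rc_13_0 lc_c_rc_15_2 lc_c_rc_17_2 lc_c_rc_8_3 lc_c_rc_2_1 lc_c_Cert_tree lc_c_rc_16_0 lc_c_rc_17_2 lc_c_rc_13_0 lc_c_rc_28_6 lc_c_rc_32_63 lc_c_rc_17_2 lc_c_rc_17_2 lc_c_rc_8_3 lc_c_rc_2_1 lc_c_rc_28_6 lc_c_rc_17_2 lc_c_rc_13_0 lc_c_rc_14_10 lc_c_rc_28_8 lc_c_rc_17_2 lc_c_rc_2_1 lc_c_rc_8_3 lc_c_rc_15_2 lc_c_rc_8_3 lc_c_rc_2_1 lc_c_rc_8_3 lc_c_rc_17_2 lc_c_rc_28_6 lc_c_rc_15_2 lc_c_rc_17_2 lc_c_Cert_tree lc_c_Cert_tree lc_c_Cert_tree lc_c_rc_13_0 lc_c_rc_16_2 lc_c_rc_17_2 lc_c_rc_13_0 lc_c_rc_15_2 lc_c_rc_16_2) (@D3.rec (fun _ =>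 (Cert rels S Gen.c)) lc_c_rc_17_2 lc_c_rc_13_0 lc_c_rc_8_3 lc_c_Cert_tree lc_c_rc_13_0 lc_c_rc_16_2 lc_c_rc_15_2 lc_c_rc_8_3 lc_c_Cert_tree lc_c_rc_2_1 lc_c_rc_8_5 lc_c_rc_8_1 lc_c_rc_13_0 lc_c_rc_16_2 lc_c_rc_8_3 lc_c_rc_28_6 lc_c_rc_16_2 lc_c_rc_32_58 lc_c_rc_17_2 lc_c_rc_8_3 lc_c_Cert_tree lc_c_rc_28_8 lc_c_rc_16_2 lc_c_rc_13_0 lc_c_rc_28_2 lc_c_rc_16_2 lc_c_rc_28_2 lc_c_rc_8_3 lc_c_rc_17_2 lc_c_rc_2_1 lc_c_rc_28_6 lc_c_rc_16_2 lc_c_rc_13_0 lc_c_rc_32_13 lc_c_rc_16_2 lc_c_rc_28_2 lc_c_rc_16_2 lc_c_rc_8_3 lc_c_rc_15_2 lc_c_rc_14_10) (@D3.rec (fun _ => (Cert rels S Gen.c)) lc_c_rc_8_1 lc_c_rc_8_3 lc_c_rc_16_2 lc_c_rc_28_6 lc_c_rc_28_2 lc_c_rc_16_2 lc_c_Cert_tree lc_c_Cert_tree lc_c_Cert_tree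 lc_c_rc_13_0 lc_c_rc_17_2 lc_c_rc_2_1 lc_c_rc_13_0 lc_c_rc_30_2 lc_c_rc_17_2 lc_c_rc_16_2 lc_c_rc_13_0 lc_c_rc_8_3 lc_c_Cert_tree lc_c_rc_13_0 lc_c_rc_17_2 lc_c_rc_15_2 lc_c_rc_8_3 lc_c_Cert_tree lc_c_rc_15_2 lc_c_rc_8_1 lc_c_rc_2_1 lc_c_rc_13_0 lc_c_rc_17_2 lc_c_rc_8_3 lc_c_rc_28_6 lc_c_rc_17_2 lc_c_rc_14_4 lc_c_rc_16_2 lc_c_rc_8_3 lc_c_rc_13_0 lc_c_Cert_tree lc_c_rc_13_0 lc_c_rc_13_0 lc_c_rc_28_6) (@D3.rec (fun _ => (Cert rels S Gen.c)) lc_c_rc_16_2 lc_c_rc_2_1 lc_c_rc_8_3 lc_c_rc_16_2 lc_c_rc_17_2 lc_c_rc_28_6 lc_c_rc_17_2 lc_c_Cert_tree lc_c_Cert_tree lc_c_rc_13_0 lc_c_rc_16_2 lc_c_Cert_tree lc_c_Cert_tree lc_c_Cert_tree lc_c_rc_13_0 lc_c_rc_17_2 lc_c_rc_16_2 lc_c_rc_13_0 lc_c_Cert_tree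 lc_c_rc_13_0 lc_c_rc_13_0 lc_c_rc_28_6 lc_c_rc_17_2 lc_c_rc_2_1 lc_c_rc_8_3 lc_c_rc_16_2 lc_c_rc_17_2 lc_c_rc_28_6 lc_c_rc_16_2 lc_c_Cert_tree lc_c_Cert_tree lc_c_rc_13_0 lc_c_rc_17_2 lc_c_Cert_tree lc_c_Cert_tree lc_c_Cert_tree lc_c_rc_13_0 lc_c_rc_16_2 lc_c_rc_17_2 lc_c_rc_16_0) (@D3.rec (fun _ => (Cert rels S Gen.c)) lc_c_rc_2_1 lc_c_rc_28_2 lc_c_rc_8_3 lc_c_rc_16_2 lc_c_rc_17_2 lc_c_rc_28_2 lc_c_rc_17_2 lc_c_Cert_tree lc_c_rc_8_3 lc_c_Cert_tree lc_c_rc_13_0 lc_c_rc_16_2 lc_c_rc_8_1 lc_c_rc_30_14 lc_c_rc_13_0 lc_c_rc_16_2 lc_c_rc_16_2 lc_c_Cert_tree lc_c_rc_13_0 lc_c_rc_17_2 lc_c_Cert_tree lc_c_rc_16_2 lc_c_Cert_tree lc_c_rc_13_0 lc_c_rc_16_2 lc_c_Cert_tree lc_c_rc_13_0 lc_c_rc_28_4 lc_c_Cert_tree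 lc_c_rc_13_0 lc_c_Cert_tree lc_c_rc_16_2 lc_c_Cert_tree lc_c_rc_13_1 lc_c_rc_13_0 lc_c_rc_17_2 lc_c_rc_8_1 lc_c_rc_2_3 lc_c_rc_8_3 lc_c_rc_13_0) (@D3.rec (fun _ => (Cert rels S Gen.c)) lc_c_rc_17_2 lc_c_rc_16_2 lc_c_rc_13_0 lc_c_rc_17_2 lc_c_rc_17_2 lc_c_rc_2_3 lc_c_rc_8_3 lc_c_rc_8_3 lc_c_rc_16_2 lc_c_rc_13_0 lc_c_rc_28_2 lc_c_rc_8_3 lc_c_rc_16_2 lc_c_rc_17_2 lc_c_rc_28_2 lc_c_rc_16_2 lc_c_Cert_tree lc_c_rc_8_3 lc_c_Cert_tree lc_c_rc_13_0 lc_c_rc_16_2 lc_c_rc_8_1 lc_c_rc_13_0 lc_c_rc_13_0 lc_c_rc_28_2 lc_c_rc_16_2 lc_c_Cert_tree lc_c_rc_13_0 lc_c_rc_16_2 lc_c_Cert_tree lc_c_rc_17_2 lc_c_Cert_tree lc_c_rc_13_0 lc_c_rc_17_2 lc_c_Cert_tree lc_c_rc_13_0 lc_c_rc_2_1 lc_c_Cert_tree lc_c_rc_13_0 lc_c_Cert_tree)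 (@D3.rec (fun _ => (Cert rels S Gen.c)) lc_c_rc_17_2 lc_c_Cert_tree lc_c_rc_28_2 lc_c_rc_13_0 lc_c_rc_16_2 lc_c_rc_13_1 lc_c_rc_13_1 lc_c_rc_8_3 lc_c_rc_13_0 lc_c_rc_16_2 lc_c_rc_17_2 lc_c_rc_13_0 lc_c_rc_16_2 lc_c_rc_16_2 lc_c_rc_17_2 lc_c_rc_8_3 lc_c_rc_8_3 lc_c_rc_17_2 lc_c_rc_2_1 lc_c_rc_8_3 lc_c_rc_28_4 lc_c_rc_15_2 lc_c_rc_16_2 lc_c_rc_17_2 lc_c_rc_15_2 lc_c_rc_17_2 lc_c_Cert_tree lc_c_rc_15_2 lc_c_rc_8_5 lc_c_rc_15_2 lc_c_rc_28_6 lc_c_rc_15_2 lc_c_rc_17_2 lc_c_rc_17_2 lc_c_rc_8_3 lc_c_rc_2_1 lc_c_rc_2_3 lc_c_rc_16_2 lc_c_Cert_tree lc_c_Cert_tree)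
def ce_c_14 : D2 → D3 → (Cert rels S Gen.c) := @D2.rec (fun _ => D3 → (Cert rels S Gen.c)) (@D3.rec (fun _ => (Cert rels S Gen.c)) lc_c_rc_15_2 lc_c_rc_8_3 lc_c_rc_17_0 lc_c_rc_17_2 lc_c_rc_2_1 lc_c_rc_2_1 lc_c_Cert_tree lc_c_Cert_tree lc_c_rc_13_0 lc_c_Cert_tree lc_c_rc_16_2 lc_c_rc_17_2 lc_c_rc_13_0 lc_c_rc_16_2 lc_c_rc_17_2 lc_c_rc_8_3 lc_c_rc_28_4 lc_c_rc_16_2 lc_c_rc_13_0 lc_c_rc_15_2 lc_c_rc_28_4 lc_c_rc_8_3 lc_c_rc_17_2 lc_c_Cert_tree lc_c_rc_2_1 lc_c_Cert_tree lc_c_rc_13_0 lc_c_rc_16_2 lc_c_rc_16_2 lc_c_rc_17_0 lc_c_rc_8_3 lc_c_rc_28_4 lc_c_rc_15_2 lc_c_rc_16_2 lc_c_rc_17_2 lc_c_rc_16_2 lc_c_rc_8_3 lc_c_Cert_tree lc_c_rc_30_10 lc_c_rc_14_10) (@D3.rec (fun _ => (Cert rels S Gen.c)) lc_c_rc_15_2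 lc_c_rc_28_6 lc_c_rc_14_12 lc_c_rc_16_2 lc_c_rc_8_3 lc_c_rc_17_2 lc_c_rc_2_1 lc_c_rc_17_2 lc_c_rc_16_2 lc_c_Cert_tree lc_c_Cert_tree lc_c_rc_8_3 lc_c_rc_30_10 lc_c_rc_15_2 lc_c_rc_16_2 lc_c_rc_2_1 lc_c_rc_2_1 lc_c_Cert_tree lc_c_Cert_tree lc_c_rc_13_0 lc_c_Cert_tree lc_c_rc_17_2 lc_c_rc_16_2 lc_c_rc_13_0 lc_c_rc_16_2 lc_c_rc_17_2 lc_c_rc_8_3 lc_c_rc_17_2 lc_c_rc_15_2 lc_c_rc_28_4 lc_c_rc_8_3 lc_c_rc_16_2 lc_c_Cert_tree lc_c_rc_15_2 lc_c_Cert_tree lc_c_rc_13_0 lc_c_rc_17_2 lc_c_rc_17_2 lc_c_rc_28_6 lc_c_rc_15_2) (@D3.rec (fun _ => (Cert rels S Gen.c)) lc_c_rc_16_2 lc_c_rc_17_2 lc_c_rc_17_2 lc_c_Cert_tree lc_c_Cert_tree lc_c_rc_8_1 lc_c_rc_17_2 lc_c_rc_17_0 lc_c_rc_28_4 lc_c_rc_2_1 lc_c_Cert_tree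 lc_c_rc_16_2 lc_c_rc_17_2 lc_c_rc_8_3 lc_c_rc_17_2 lc_c_rc_8_3 lc_c_rc_2_1 lc_c_rc_17_2 lc_c_rc_2_3 lc_c_rc_28_6 lc_c_Cert_tree lc_c_rc_28_6 lc_c_rc_28_6 lc_c_rc_30_14 lc_c_rc_13_0 lc_c_rc_17_2 lc_c_rc_16_2 lc_c_rc_28_6 lc_c_rc_15_2 lc_c_rc_16_2 lc_c_rc_17_2 lc_c_rc_16_2 lc_c_Cert_tree lc_c_Cert_tree lc_c_rc_15_0 lc_c_rc_15_2 lc_c_rc_2_1 lc_c_rc_16_2 lc_c_rc_28_4 lc_c_Cert_tree) (@D3.rec (fun _ => (Cert rels S Gen.c)) lc_c_rc_16_2 lc_c_rc_17_2 lc_c_rc_8_3 lc_c_rc_17_2 lc_c_rc_14_4 lc_c_rc_2_1 lc_c_rc_17_2 lc_c_rc_2_3 lc_c_Cert_tree lc_c_rc_32_75 lc_c_rc_2_3 lc_c_rc_13_0 lc_c_rc_15_2 lc_c_rc_8_3 lc_c_rc_2_1 lc_c_rc_16_2 lc_c_rc_17_2 lc_c_rc_17_2 lc_c_rc_17_0 lc_c_rc_16_2 lc_c_rc_17_2 lc_c_rc_17_2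 lc_c_rc_8_3 lc_c_rc_15_2 lc_c_rc_16_2 lc_c_rc_2_1 lc_c_rc_17_2 lc_c_rc_17_2 lc_c_rc_17_2 lc_c_rc_15_2 lc_c_rc_8_1 lc_c_rc_17_2 lc_c_rc_13_1 lc_c_rc_8_1 lc_c_rc_16_2 lc_c_rc_2_1 lc_c_rc_16_2 lc_c_rc_17_2 lc_c_rc_8_1 lc_c_rc_16_2) (@D3.rec (fun _ => (Cert rels S Gen.c)) lc_c_rc_16_2 lc_c_rc_8_3 lc_c_rc_15_2 lc_c_rc_17_2 lc_c_rc_2_1 lc_c_rc_28_2 lc_c_rc_16_2 lc_c_rc_2_1 lc_c_rc_15_2 lc_c_rc_17_0 lc_c_rc_16_2 lc_c_rc_17_2 lc_c_rc_8_1 lc_c_rc_16_0 lc_c_rc_30_10 lc_c_rc_17_2 lc_c_rc_16_2 lc_c_rc_8_1 lc_c_rc_17_2 lc_c_rc_13_0 lc_c_Cert_tree lc_c_rc_13_0 lc_c_rc_15_2 lc_c_rc_13_0 lc_c_rc_28_6 lc_c_rc_13_0 lc_c_rc_28_6 lc_c_rc_17_2 lc_c_rc_16_2 lc_c_rc_2_1 lc_c_rc_8_1 lc_c_rc_28_4 lc_c_rc_28_6 lc_c_rc_17_2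 lc_c_rc_28_4 lc_c_rc_17_2 lc_c_rc_28_6 lc_c_rc_8_3 lc_c_rc_2_1 lc_c_rc_17_2) (@D3.rec (fun _ => (Cert rels S Gen.c)) lc_c_rc_13_0 lc_c_Cert_tree lc_c_rc_13_0 lc_c_rc_15_2 lc_c_rc_13_0 lc_c_rc_28_2 lc_c_rc_13_0 lc_c_rc_28_6 lc_c_rc_16_2 lc_c_rc_2_1 lc_c_rc_2_1 lc_c_rc_16_2 lc_c_rc_28_4 lc_c_rc_28_8 lc_c_rc_16_2 lc_c_rc_28_4 lc_c_rc_16_2 lc_c_rc_2_1 lc_c_rc_8_3 lc_c_rc_17_2 lc_c_rc_16_2 lc_c_rc_17_2 lc_c_rc_15_2 lc_c_rc_2_1 lc_c_rc_17_2 lc_c_rc_16_0 lc_c_rc_2_1 lc_c_rc_2_1 lc_c_Cert_tree lc_c_rc_13_0 lc_c_rc_16_2 lc_c_rc_13_0 lc_c_rc_28_6 lc_c_Cert_tree lc_c_rc_13_0 lc_c_rc_8_1 lc_c_rc_16_2 lc_c_rc_17_2 lc_c_rc_13_0 lc_c_rc_17_2) (@D3.rec (fun _ => (Cert rels S Gen.c)) lc_c_rc_17_2 lc_c_rc_13_0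 lc_c_rc_13_1 lc_c_rc_15_2 lc_c_rc_17_2 lc_c_rc_13_0 lc_c_rc_30_6 lc_c_rc_17_2 lc_c_rc_13_0 lc_c_rc_14_6 lc_c_rc_28_4 lc_c_rc_8_1 lc_c_rc_13_0 lc_c_rc_8_3 lc_c_rc_16_2 lc_c_rc_16_2 lc_c_rc_2_1 lc_c_rc_30_14 lc_c_rc_16_2 lc_c_rc_30_14 lc_c_rc_16_2 lc_c_rc_8_3 lc_c_rc_15_2 lc_c_rc_28_2 lc_c_rc_13_0 lc_c_Cert_tree lc_c_rc_13_0 lc_c_rc_8_1 lc_c_rc_17_2 lc_c_rc_8_1 lc_c_rc_13_0 lc_c_rc_16_2 lc_c_rc_16_2 lc_c_rc_13_0 lc_c_rc_16_2 lc_c_rc_28_4 lc_c_rc_2_1 lc_c_rc_13_0 lc_c_rc_8_1 lc_c_rc_13_0) (@D3.rec (fun _ => (Cert rels S Gen.c)) lc_c_rc_13_0 lc_c_rc_8_3 lc_c_rc_17_2 lc_c_rc_2_3 lc_c_rc_28_4 lc_c_rc_17_2 lc_c_rc_17_2 lc_c_Cert_tree lc_c_rc_8_3 lc_c_rc_13_0 lc_c_rc_13_0 lc_c_rc_16_2 lc_c_rc_8_3 lc_c_rc_28_4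 lc_c_rc_13_0 lc_c_rc_15_2 lc_c_rc_13_1 lc_c_rc_8_3 lc_c_rc_28_6 lc_c_rc_13_0 lc_c_Cert_tree lc_c_rc_13_0 lc_c_rc_15_2 lc_c_rc_13_0 lc_c_rc_15_2 lc_c_rc_28_6 lc_c_rc_8_3 lc_c_rc_28_6 lc_c_rc_15_2 lc_c_rc_16_2 lc_c_rc_16_2 lc_c_rc_14_2 lc_c_rc_13_0 lc_c_rc_15_2 lc_c_rc_17_2 lc_c_rc_8_3 lc_c_rc_16_2 lc_c_rc_16_2 lc_c_rc_28_4 lc_c_rc_16_2) (@D3.rec (fun _ => (Cert rels S Gen.c)) lc_c_Cert_tree lc_c_rc_13_0 lc_c_rc_13_0 lc_c_rc_17_2 lc_c_rc_8_3 lc_c_rc_28_4 lc_c_rc_13_0 lc_c_rc_15_2 lc_c_rc_28_6 lc_c_rc_8_3 lc_c_rc_13_0 lc_c_Cert_tree lc_c_rc_13_0 lc_c_rc_28_2 lc_c_rc_13_0 lc_c_rc_15_2 lc_c_rc_28_6 lc_c_rc_15_2 lc_c_rc_17_2 lc_c_rc_17_2 lc_c_rc_28_2 lc_c_rc_28_4 lc_c_rc_30_10 lc_c_rc_2_1 lc_c_rc_2_1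 lc_c_rc_17_2 lc_c_rc_17_2 lc_c_rc_8_3 lc_c_rc_13_0 lc_c_rc_30_10 lc_c_rc_8_3 lc_c_rc_28_6 lc_c_rc_2_1 lc_c_rc_16_2 lc_c_rc_30_10 lc_c_rc_13_0 lc_c_rc_8_3 lc_c_rc_16_2 lc_c_rc_8_3 lc_c_rc_2_3) (@D3.rec (fun _ => (Cert rels S Gen.c)) lc_c_rc_8_3 lc_c_rc_2_1 lc_c_rc_13_0 lc_c_rc_17_2 lc_c_rc_2_1 lc_c_rc_8_3 lc_c_rc_2_1 lc_c_rc_30_10 lc_c_rc_2_1 lc_c_rc_28_2 lc_c_rc_13_0 lc_c_rc_2_1 lc_c_rc_30_14 lc_c_rc_28_4 lc_c_rc_15_2 lc_c_rc_28_2 lc_c_rc_8_3 lc_c_rc_8_1 lc_c_rc_32_73 lc_c_rc_8_3 lc_c_rc_13_0 lc_c_rc_2_1 lc_c_rc_15_2 lc_c_rc_15_2 lc_c_rc_13_0 lc_c_rc_13_0 lc_c_rc_14_2 lc_c_rc_8_3 lc_c_rc_8_3 lc_c_rc_28_4 lc_c_rc_8_3 lc_c_rc_15_0 lc_c_rc_30_2 lc_c_rc_16_2 lc_c_rc_13_0 lc_c_rc_28_6 lc_c_rc_13_0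 lc_c_rc_8_3 lc_c_rc_14_10 lc_c_rc_16_0) (@D3.rec (fun _ => (Cert rels S Gen.c)) lc_c_rc_17_2 lc_c_rc_14_12 lc_c_rc_13_0 lc_c_rc_2_3 lc_c_rc_32_16 lc_c_rc_17_2 lc_c_rc_8_3 lc_c_rc_2_3 lc_c_rc_8_3 lc_c_rc_8_3 lc_c_rc_13_0 lc_c_rc_16_2 lc_c_rc_2_1 lc_c_rc_16_2 lc_c_rc_2_1 lc_c_rc_2_1 lc_c_rc_16_2 lc_c_rc_16_2 lc_c_rc_13_0 lc_c_rc_2_1 lc_c_rc_28_8 lc_c_rc_28_4 lc_c_rc_15_2 lc_c_rc_28_2 lc_c_rc_8_1 lc_c_rc_8_3 lc_c_rc_15_2 lc_c_rc_2_1 lc_c_rc_13_0 lc_c_rc_15_2 lc_c_rc_30_14 lc_c_rc_15_2 lc_c_rc_13_0 lc_c_rc_15_2 lc_c_rc_30_14 lc_c_rc_8_3 lc_c_rc_8_3 lc_c_Cert_tree lc_c_rc_16_2 lc_c_rc_8_3) (@D3.rec (fun _ => (Cert rels S Gen.c)) lc_c_Cert_tree lc_c_rc_13_0 lc_c_rc_28_4 lc_c_rc_8_3 lc_c_rc_13_0 lc_c_rc_16_2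 lc_c_rc_13_0 lc_c_rc_13_0 lc_c_rc_13_0 lc_c_rc_28_4 lc_c_rc_16_2 lc_c_Cert_tree lc_c_rc_13_0 lc_c_rc_8_3 lc_c_rc_13_0 lc_c_rc_8_3 lc_c_rc_8_3 lc_c_rc_13_0 lc_c_rc_13_0 lc_c_rc_13_0 lc_c_rc_13_0 lc_c_rc_14_12 lc_c_rc_17_2 lc_c_rc_28_4 lc_c_rc_15_2 lc_c_rc_28_6 lc_c_rc_8_3 lc_c_rc_28_4 lc_c_rc_15_2 lc_c_rc_28_6 lc_c_rc_8_3 lc_c_rc_28_6 lc_c_rc_15_2 lc_c_rc_13_0 lc_c_rc_16_2 lc_c_rc_28_4 lc_c_rc_13_0 lc_c_rc_15_2 lc_c_rc_17_2 lc_c_Cert_tree) (@D3.rec (fun _ => (Cert rels S Gen.c)) lc_c_rc_13_0 lc_c_rc_13_0 lc_c_rc_15_0 lc_c_rc_16_2 lc_c_rc_17_2 lc_c_rc_13_0 lc_c_rc_17_2 lc_c_rc_32_73 lc_c_rc_13_0 lc_c_rc_28_8 lc_c_rc_16_2 lc_c_Cert_tree lc_c_rc_13_0 lc_c_rc_13_0 lc_c_rc_8_3 lc_c_rc_17_2 lc_c_rc_16_2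 lc_c_rc_28_4 lc_c_Cert_tree lc_c_rc_13_0 lc_c_rc_15_2 lc_c_rc_16_2 lc_c_rc_14_12 lc_c_Cert_tree lc_c_rc_13_0 lc_c_rc_15_2 lc_c_rc_17_2 lc_c_rc_13_0 lc_c_Cert_tree lc_c_Cert_tree lc_c_rc_28_6 lc_c_Cert_tree lc_c_rc_13_0 lc_c_rc_28_6 lc_c_Cert_tree lc_c_rc_13_0 lc_c_rc_17_2 lc_c_rc_28_8 lc_c_rc_28_4 lc_c_rc_17_2) (@D3.rec (fun _ => (Cert rels S Gen.c)) lc_c_rc_2_3 lc_c_rc_17_2 lc_c_rc_17_2 lc_c_rc_8_3 lc_c_rc_16_2 lc_c_rc_32_8 lc_c_rc_28_6 lc_c_rc_17_2 lc_c_rc_28_6 lc_c_rc_28_2 lc_c_rc_8_3 lc_c_rc_17_2 lc_c_rc_17_2 lc_c_Cert_tree lc_c_rc_17_2 lc_c_rc_2_1 lc_c_rc_16_2 lc_c_rc_30_10 lc_c_rc_28_6 lc_c_rc_28_4 lc_c_rc_8_3 lc_c_rc_16_2 lc_c_rc_28_8 lc_c_Cert_tree lc_c_rc_2_3 lc_c_rc_2_1 lc_c_rc_17_2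 lc_c_rc_15_0 lc_c_rc_17_2 lc_c_Cert_tree lc_c_rc_13_0 lc_c_rc_28_6 lc_c_rc_28_6 lc_c_Cert_tree lc_c_rc_16_2 lc_c_rc_16_2 lc_c_rc_17_2 lc_c_rc_13_0 lc_c_rc_15_2 lc_c_rc_15_2) (@D3.rec (fun _ => (Cert rels S Gen.c)) lc_c_rc_16_2 lc_c_Cert_tree lc_c_rc_13_0 lc_c_rc_28_4 lc_c_rc_28_6 lc_c_Cert_tree lc_c_rc_17_2 lc_c_rc_17_2 lc_c_rc_28_6 lc_c_rc_13_0 lc_c_rc_8_3 lc_c_rc_16_2 lc_c_Cert_tree lc_c_Cert_tree lc_c_rc_28_6 lc_c_Cert_tree lc_c_rc_13_0 lc_c_rc_8_3 lc_c_rc_17_2 lc_c_rc_13_0 lc_c_rc_15_2 lc_c_rc_8_3 lc_c_Cert_tree lc_c_rc_13_0 lc_c_rc_8_3 lc_c_rc_28_4 lc_c_rc_13_0 lc_c_rc_15_2 lc_c_rc_17_2 lc_c_rc_8_3 lc_c_rc_2_1 lc_c_rc_8_3 lc_c_Cert_tree lc_c_rc_13_0 lc_c_rc_28_6 lc_c_rc_13_0 lc_c_rc_17_2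 lc_c_rc_2_3 lc_c_rc_28_2 lc_c_rc_13_0) (@D3.rec (fun _ => (Cert rels S Gen.c)) lc_c_rc_15_2 lc_c_rc_16_2 lc_c_rc_8_3 lc_c_rc_8_3 lc_c_rc_17_2 lc_c_rc_2_1 lc_c_rc_28_6 lc_c_rc_16_2 lc_c_rc_17_2 lc_c_rc_15_2 lc_c_rc_28_2 lc_c_rc_8_3 lc_c_rc_8_3 lc_c_rc_15_2 lc_c_rc_16_2 lc_c_rc_16_2 lc_c_Cert_tree lc_c_rc_17_2 lc_c_rc_2_1 lc_c_rc_17_2 lc_c_Cert_tree lc_c_rc_13_0 lc_c_rc_8_3 lc_c_rc_17_2 lc_c_rc_2_1 lc_c_rc_30_6 lc_c_Cert_tree lc_c_rc_13_0 lc_c_rc_28_6 lc_c_rc_13_0 lc_c_rc_16_2 lc_c_rc_2_3 lc_c_rc_28_2 lc_c_rc_13_0 lc_c_rc_15_2 lc_c_rc_17_2 lc_c_rc_8_3 lc_c_rc_8_3 lc_c_rc_16_2 lc_c_rc_2_1) (@D3.rec (fun _ => (Cert rels S Gen.c)) lc_c_rc_28_6 lc_c_rc_16_2 lc_c_rc_17_2 lc_c_rc_15_2 lc_c_rc_28_2 lc_c_rc_8_3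 lc_c_rc_8_3 lc_c_rc_15_2 lc_c_rc_17_2 lc_c_rc_17_2 lc_c_Cert_tree lc_c_rc_16_2 lc_c_rc_2_1 lc_c_rc_16_2 lc_c_Cert_tree lc_c_rc_13_0 lc_c_rc_2_3 lc_c_Cert_tree lc_c_rc_13_0 lc_c_rc_13_0 lc_c_rc_28_8 lc_c_Cert_tree lc_c_rc_16_2 lc_c_rc_13_0 lc_c_rc_15_2 lc_c_rc_16_2 lc_c_rc_2_1 lc_c_rc_28_4 lc_c_Cert_tree lc_c_rc_17_2 lc_c_rc_15_2 lc_c_rc_13_0 lc_c_rc_15_2 lc_c_rc_14_4 lc_c_rc_28_6 lc_c_rc_15_2 lc_c_rc_16_2 lc_c_rc_16_2 lc_c_Cert_tree lc_c_rc_28_2) (@D3.rec (fun _ => (Cert rels S Gen.c)) lc_c_rc_15_2 lc_c_rc_28_4 lc_c_rc_14_8 lc_c_rc_13_0 lc_c_rc_2_1 lc_c_rc_16_2 lc_c_rc_17_2 lc_c_rc_16_2 lc_c_rc_8_3 lc_c_rc_15_2 lc_c_rc_16_2 lc_c_rc_16_2 lc_c_Cert_tree lc_c_rc_30_2 lc_c_rc_17_2 lc_c_rc_15_2 lc_c_rc_28_6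 lc_c_rc_28_6 lc_c_rc_16_2 lc_c_Cert_tree lc_c_rc_17_2 lc_c_Cert_tree lc_c_rc_17_2 lc_c_rc_13_0 lc_c_rc_8_1 lc_c_rc_17_2 lc_c_rc_15_2 lc_c_Cert_tree lc_c_rc_13_0 lc_c_rc_8_1 lc_c_Cert_tree lc_c_rc_13_0 lc_c_rc_13_0 lc_c_rc_2_1 lc_c_rc_28_4 lc_c_rc_17_2 lc_c_rc_13_0 lc_c_rc_15_2 lc_c_rc_17_2 lc_c_rc_32_34) (@D3.rec (fun _ => (Cert rels S Gen.c)) lc_c_rc_28_4 lc_c_Cert_tree lc_c_rc_8_1 lc_c_rc_13_1 lc_c_rc_13_0 lc_c_rc_15_2 lc_c_rc_14_12 lc_c_rc_28_6 lc_c_rc_15_2 lc_c_rc_17_2 lc_c_rc_17_2 lc_c_Cert_tree lc_c_rc_28_2 lc_c_rc_15_2 lc_c_rc_28_4 lc_c_rc_17_0 lc_c_rc_13_0 lc_c_rc_28_8 lc_c_rc_16_2 lc_c_rc_17_2 lc_c_rc_17_2 lc_c_rc_8_3 lc_c_rc_15_2 lc_c_rc_17_2 lc_c_rc_17_2 lc_c_Cert_tree lc_c_rc_30_10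 lc_c_rc_16_2 lc_c_rc_15_2 lc_c_rc_28_6 lc_c_rc_28_6 lc_c_rc_17_2 lc_c_Cert_tree lc_c_rc_16_2 lc_c_Cert_tree lc_c_rc_16_2 lc_c_rc_13_0 lc_c_rc_15_0 lc_c_rc_16_2 lc_c_rc_16_2) (@D3.rec (fun _ => (Cert rels S Gen.c)) lc_c_Cert_tree lc_c_rc_13_0 lc_c_rc_13_0 lc_c_rc_13_0 lc_c_Cert_tree lc_c_rc_16_2 lc_c_rc_13_0 lc_c_Cert_tree lc_c_rc_13_0 lc_c_Cert_tree lc_c_rc_13_0 lc_c_rc_13_0 lc_c_rc_16_2 lc_c_Cert_tree lc_c_rc_16_2 lc_c_rc_28_2 lc_c_rc_16_2 lc_c_rc_13_0 lc_c_rc_15_2 lc_c_rc_16_2 lc_c_rc_8_3 lc_c_rc_2_1 lc_c_rc_17_2 lc_c_Cert_tree lc_c_rc_16_2 lc_c_Cert_tree lc_c_Cert_tree lc_c_rc_13_0 lc_c_rc_16_2 lc_c_rc_13_0 lc_c_rc_16_2 lc_c_rc_8_5 lc_c_rc_16_2 lc_c_rc_13_0 lc_c_rc_13_0 lc_c_rc_15_2 lc_c_rc_16_2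 lc_c_Cert_tree lc_c_rc_13_0 lc_c_rc_13_0) (@D3.rec (fun _ => (Cert rels S Gen.c)) lc_c_rc_17_2 lc_c_Cert_tree lc_c_rc_17_2 lc_c_rc_13_0 lc_c_rc_8_3 lc_c_Cert_tree lc_c_rc_16_2 lc_c_rc_17_2 lc_c_rc_2_1 lc_c_Cert_tree lc_c_rc_16_2 lc_c_rc_17_2 lc_c_rc_15_2 lc_c_rc_8_3 lc_c_rc_15_2 lc_c_rc_16_2 lc_c_rc_16_2 lc_c_Cert_tree lc_c_Cert_tree lc_c_rc_13_0 lc_c_rc_13_0 lc_c_rc_17_0 lc_c_rc_17_2 lc_c_rc_8_3 lc_c_rc_28_4 lc_c_rc_17_2 lc_c_rc_13_0 lc_c_rc_13_0 lc_c_rc_17_2 lc_c_rc_8_3 lc_c_rc_2_1 lc_c_rc_13_0 lc_c_rc_8_1 lc_c_Cert_tree lc_c_rc_2_1 lc_c_rc_2_1 lc_c_rc_13_0 lc_c_rc_15_2 lc_c_rc_16_2 lc_c_rc_17_2) (@D3.rec (fun _ => (Cert rels S Gen.c)) lc_c_Cert_tree lc_c_rc_17_2 lc_c_rc_2_3 lc_c_rc_15_2 lc_c_Cert_tree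 lc_c_Cert_tree lc_c_rc_13_0 lc_c_rc_17_2 lc_c_Cert_tree lc_c_rc_2_1 lc_c_rc_8_3 lc_c_rc_16_2 lc_c_rc_17_2 lc_c_Cert_tree lc_c_rc_16_2 lc_c_Cert_tree lc_c_rc_17_2 lc_c_Cert_tree lc_c_rc_17_2 lc_c_rc_13_0 lc_c_rc_8_1 lc_c_rc_17_2 lc_c_Cert_tree lc_c_Cert_tree lc_c_rc_13_0 lc_c_rc_13_0 lc_c_rc_28_8 lc_c_rc_16_2 lc_c_rc_13_0 lc_c_Cert_tree lc_c_rc_17_2 lc_c_rc_13_0 lc_c_rc_13_0 lc_c_Cert_tree lc_c_Cert_tree lc_c_rc_13_0 lc_c_rc_13_0 lc_c_rc_17_2 lc_c_Cert_tree lc_c_rc_17_2) (@D3.rec (fun _ => (Cert rels S Gen.c)) lc_c_rc_28_2 lc_c_rc_13_0 lc_c_rc_15_2 lc_c_rc_17_2 lc_c_rc_8_3 lc_c_rc_2_1 lc_c_rc_16_2 lc_c_Cert_tree lc_c_rc_17_2 lc_c_Cert_tree lc_c_Cert_tree lc_c_rc_13_0 lc_c_rc_17_2 lc_c_rc_13_0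 lc_c_rc_17_2 lc_c_rc_28_4 lc_c_rc_17_2 lc_c_rc_13_0 lc_c_rc_13_0 lc_c_rc_15_2 lc_c_rc_17_2 lc_c_Cert_tree lc_c_rc_13_0 lc_c_rc_13_0 lc_c_rc_16_2 lc_c_Cert_tree lc_c_rc_16_2 lc_c_rc_13_0 lc_c_rc_8_3 lc_c_Cert_tree lc_c_rc_16_2 lc_c_rc_17_2 lc_c_rc_2_1 lc_c_Cert_tree lc_c_rc_16_2 lc_c_rc_17_2 lc_c_rc_15_2 lc_c_rc_8_3 lc_c_rc_15_2 lc_c_rc_17_2) (@D3.rec (fun _ => (Cert rels S Gen.c)) lc_c_rc_17_2 lc_c_Cert_tree lc_c_Cert_tree lc_c_rc_13_0 lc_c_rc_13_0 lc_c_rc_17_2 lc_c_rc_16_2 lc_c_rc_8_3 lc_c_rc_28_4 lc_c_rc_16_2 lc_c_rc_13_0 lc_c_rc_28_8 lc_c_rc_16_2 lc_c_rc_8_3 lc_c_rc_17_2 lc_c_rc_13_0 lc_c_rc_8_1 lc_c_Cert_tree lc_c_rc_2_1 lc_c_rc_2_1 lc_c_rc_13_0 lc_c_rc_15_2 lc_c_rc_16_2 lc_c_rc_17_2 lc_c_rc_17_2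 lc_c_Cert_tree lc_c_rc_2_3 lc_c_rc_15_2 lc_c_Cert_tree lc_c_Cert_tree lc_c_rc_13_0 lc_c_rc_16_2 lc_c_Cert_tree lc_c_rc_2_1 lc_c_rc_8_3 lc_c_rc_16_2 lc_c_Cert_tree lc_c_rc_17_2 lc_c_Cert_tree lc_c_rc_16_2) (@D3.rec (fun _ => (Cert rels S Gen.c)) lc_c_Cert_tree lc_c_rc_16_2 lc_c_rc_13_0 lc_c_rc_28_4 lc_c_rc_28_8 lc_c_Cert_tree lc_c_Cert_tree lc_c_rc_13_0 lc_c_rc_13_0 lc_c_rc_2_1 lc_c_rc_17_2 lc_c_rc_28_6 lc_c_Cert_tree lc_c_rc_16_2 lc_c_Cert_tree lc_c_rc_13_0 lc_c_rc_16_2 lc_c_rc_15_2 lc_c_Cert_tree lc_c_rc_17_0 lc_c_rc_13_0 lc_c_rc_16_2 lc_c_Cert_tree lc_c_rc_16_0 lc_c_rc_13_0 lc_c_rc_8_1 lc_c_rc_15_2 lc_c_rc_13_0 lc_c_rc_17_2 lc_c_rc_28_6 lc_c_rc_16_2 lc_c_rc_2_1 lc_c_rc_13_0 lc_c_rc_30_10 lc_c_Cert_tree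 lc_c_Cert_tree lc_c_rc_13_0 lc_c_rc_15_2 lc_c_rc_16_2 lc_c_rc_8_3) (@D3.rec (fun _ => (Cert rels S Gen.c)) lc_c_Cert_tree lc_c_Cert_tree lc_c_rc_13_0 lc_c_rc_16_2 lc_c_rc_17_2 lc_c_rc_15_2 lc_c_Cert_tree lc_c_rc_13_0 lc_c_rc_13_0 lc_c_rc_13_0 lc_c_rc_13_0 lc_c_Cert_tree lc_c_rc_16_2 lc_c_rc_13_1 lc_c_rc_15_2 lc_c_rc_13_0 lc_c_rc_30_14 lc_c_Cert_tree lc_c_rc_16_2 lc_c_rc_8_1 lc_c_rc_13_0 lc_c_rc_8_3 lc_c_Cert_tree lc_c_rc_16_2 lc_c_rc_13_0 lc_c_rc_15_2 lc_c_rc_16_2 lc_c_rc_28_6 lc_c_rc_28_8 lc_c_rc_13_0 lc_c_rc_15_2 lc_c_rc_16_2 lc_c_rc_8_3 lc_c_rc_8_3 lc_c_rc_28_6 lc_c_rc_15_2 lc_c_rc_16_2 lc_c_rc_16_2 lc_c_Cert_tree lc_c_rc_28_6)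
def ce_c_15 : D2 → D3 → (Cert rels S Gen.c) := @D2.rec (fun _ => D3 → (Cert rels S Gen.c)) (@D3.rec (fun _ => (Cert rels S Gen.c)) lc_c_rc_17_2 lc_c_rc_28_2 lc_c_rc_2_3 lc_c_rc_16_2 lc_c_rc_17_2 lc_c_rc_2_3 lc_c_rc_28_4 lc_c_rc_28_4 lc_c_rc_28_2 lc_c_rc_13_1 lc_c_rc_13_0 lc_c_rc_13_0 lc_c_rc_8_1 lc_c_rc_8_1 lc_c_rc_28_6 lc_c_rc_13_0 lc_c_Cert_tree lc_c_rc_13_0 lc_c_rc_16_2 lc_c_rc_17_2 lc_c_Cert_tree lc_c_rc_13_0 lc_c_rc_13_0 lc_c_rc_15_2 lc_c_Cert_tree lc_c_rc_17_2 lc_c_rc_16_2 lc_c_rc_13_0 lc_c_Cert_tree lc_c_rc_13_1 lc_c_rc_13_0 lc_c_Cert_tree lc_c_rc_17_2 lc_c_rc_13_0 lc_c_rc_28_4 lc_c_rc_17_2 lc_c_rc_16_2 lc_c_rc_15_2 lc_c_Cert_tree lc_c_rc_2_1) (@D3.rec (fun _ => (Cert rels S Gen.c)) lc_c_Cert_tree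 lc_c_rc_16_2 lc_c_rc_17_2 lc_c_rc_13_0 lc_c_rc_28_8 lc_c_rc_16_2 lc_c_rc_15_2 lc_c_rc_8_3 lc_c_Cert_tree lc_c_rc_17_2 lc_c_rc_13_0 lc_c_rc_8_1 lc_c_rc_16_2 lc_c_rc_17_2 lc_c_rc_17_2 lc_c_rc_13_0 lc_c_rc_15_2 lc_c_rc_2_1 lc_c_Cert_tree lc_c_rc_8_3 lc_c_rc_16_2 lc_c_rc_8_3 lc_c_rc_15_2 lc_c_Cert_tree lc_c_rc_16_2 lc_c_Cert_tree lc_c_Cert_tree lc_c_Cert_tree lc_c_rc_13_0 lc_c_rc_17_2 lc_c_rc_15_2 lc_c_rc_13_0 lc_c_rc_28_4 lc_c_rc_2_3 lc_c_rc_17_2 lc_c_rc_16_2 lc_c_rc_15_0 lc_c_rc_15_2 lc_c_rc_8_3 lc_c_rc_13_0) (@D3.rec (fun _ => (Cert rels S Gen.c)) lc_c_rc_13_0 lc_c_rc_17_2 lc_c_rc_8_3 lc_c_rc_28_6 lc_c_rc_17_2 lc_c_rc_14_4 lc_c_rc_15_2 lc_c_rc_15_2 lc_c_rc_30_2 lc_c_rc_8_3 lc_c_Cert_tree lc_c_rc_16_2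 lc_c_rc_17_2 lc_c_rc_2_1 lc_c_rc_28_6 lc_c_rc_8_3 lc_c_rc_2_1 lc_c_rc_28_8 lc_c_rc_2_1 lc_c_rc_15_2 lc_c_rc_16_2 lc_c_rc_17_2 lc_c_rc_8_3 lc_c_rc_17_2 lc_c_rc_8_3 lc_c_rc_28_6 lc_c_rc_17_0 lc_c_rc_8_3 lc_c_rc_2_3 lc_c_rc_13_0 lc_c_rc_13_0 lc_c_Cert_tree lc_c_rc_8_1 lc_c_rc_17_2 lc_c_rc_15_2 lc_c_rc_28_2 lc_c_rc_28_2 lc_c_rc_2_3 lc_c_rc_8_3 lc_c_rc_15_2) (@D3.rec (fun _ => (Cert rels S Gen.c)) lc_c_rc_16_2 lc_c_rc_17_2 lc_c_rc_16_2 lc_c_rc_17_2 lc_c_Cert_tree lc_c_rc_8_1 lc_c_rc_16_2 lc_c_rc_15_2 lc_c_rc_2_1 lc_c_rc_8_3 lc_c_rc_16_2 lc_c_rc_17_2 lc_c_rc_28_2 lc_c_rc_16_2 lc_c_rc_8_3 lc_c_rc_13_0 lc_c_rc_17_2 lc_c_rc_17_0 lc_c_rc_15_2 lc_c_rc_13_0 lc_c_rc_15_2 lc_c_rc_8_3 lc_c_rc_28_2 lc_c_rc_2_1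 lc_c_rc_2_1 lc_c_rc_2_1 lc_c_rc_13_0 lc_c_rc_15_2 lc_c_rc_16_2 lc_c_rc_17_2 lc_c_rc_28_2 lc_c_rc_16_2 lc_c_rc_17_2 lc_c_rc_16_2 lc_c_rc_17_2 lc_c_rc_2_1 lc_c_Cert_tree lc_c_rc_15_2 lc_c_rc_8_3 lc_c_rc_13_0) (@D3.rec (fun _ => (Cert rels S Gen.c)) lc_c_rc_16_2 lc_c_rc_8_3 lc_c_rc_17_2 lc_c_rc_28_6 lc_c_Cert_tree lc_c_Cert_tree lc_c_Cert_tree lc_c_rc_13_0 lc_c_rc_16_2 lc_c_rc_13_0 lc_c_rc_16_2 lc_c_rc_16_2 lc_c_rc_17_2 lc_c_rc_17_2 lc_c_rc_30_10 lc_c_rc_28_6 lc_c_Cert_tree lc_c_rc_17_2 lc_c_rc_13_1 lc_c_rc_2_3 lc_c_rc_17_0 lc_c_rc_13_0 lc_c_rc_17_2 lc_c_Cert_tree lc_c_Cert_tree lc_c_rc_8_5 lc_c_rc_13_0 lc_c_rc_8_1 lc_c_rc_8_1 lc_c_rc_17_2 lc_c_rc_2_1 lc_c_rc_15_2 lc_c_rc_30_14 lc_c_rc_13_0 lc_c_rc_17_2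 lc_c_Cert_tree lc_c_rc_13_0 lc_c_rc_15_2 lc_c_rc_17_2 lc_c_rc_8_3) (@D3.rec (fun _ => (Cert rels S Gen.c)) lc_c_Cert_tree lc_c_Cert_tree lc_c_rc_13_0 lc_c_rc_17_2 lc_c_rc_16_2 lc_c_Cert_tree lc_c_rc_13_0 lc_c_rc_16_2 lc_c_rc_8_1 lc_c_rc_13_0 lc_c_Cert_tree lc_c_rc_13_0 lc_c_rc_16_0 lc_c_rc_28_8 lc_c_rc_15_2 lc_c_rc_13_0 lc_c_rc_8_3 lc_c_Cert_tree lc_c_rc_17_2 lc_c_rc_8_1 lc_c_rc_13_0 lc_c_rc_8_3 lc_c_Cert_tree lc_c_rc_17_2 lc_c_rc_13_0 lc_c_rc_15_2 lc_c_rc_17_2 lc_c_rc_28_6 lc_c_rc_28_8 lc_c_rc_13_0 lc_c_rc_15_2 lc_c_rc_8_3 lc_c_rc_28_6 lc_c_rc_15_2 lc_c_rc_17_2 lc_c_rc_17_2 lc_c_Cert_tree lc_c_rc_28_6 lc_c_rc_16_2 lc_c_rc_16_2) (@D3.rec (fun _ => (Cert rels S Gen.c)) lc_c_rc_28_2 lc_c_rc_16_2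 lc_c_rc_17_2 lc_c_rc_16_2 lc_c_rc_13_0 lc_c_rc_13_0 lc_c_rc_8_1 lc_c_rc_15_2 lc_c_rc_28_6 lc_c_rc_13_0 lc_c_Cert_tree lc_c_rc_13_0 lc_c_rc_16_2 lc_c_rc_17_2 lc_c_Cert_tree lc_c_rc_13_0 lc_c_rc_13_0 lc_c_rc_17_0 lc_c_Cert_tree lc_c_rc_16_2 lc_c_rc_17_2 lc_c_rc_13_0 lc_c_Cert_tree lc_c_rc_17_2 lc_c_rc_13_0 lc_c_Cert_tree lc_c_rc_16_2 lc_c_rc_13_0 lc_c_rc_28_4 lc_c_rc_16_2 lc_c_rc_17_2 lc_c_rc_16_2 lc_c_Cert_tree lc_c_rc_2_1 lc_c_Cert_tree lc_c_rc_16_2 lc_c_rc_17_2 lc_c_rc_13_0 lc_c_rc_2_3 lc_c_rc_15_2) (@D3.rec (fun _ => (Cert rels S Gen.c)) lc_c_rc_17_2 lc_c_rc_8_3 lc_c_rc_8_5 lc_c_rc_30_10 lc_c_rc_15_2 lc_c_rc_15_2 lc_c_rc_16_2 lc_c_rc_2_1 lc_c_Cert_tree lc_c_rc_8_3 lc_c_rc_8_3 lc_c_rc_17_2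 lc_c_rc_15_2 lc_c_Cert_tree lc_c_rc_17_2 lc_c_Cert_tree lc_c_Cert_tree lc_c_Cert_tree lc_c_rc_13_0 lc_c_rc_16_2 lc_c_rc_15_2 lc_c_rc_13_0 lc_c_rc_15_2 lc_c_rc_15_2 lc_c_rc_16_2 lc_c_rc_17_2 lc_c_rc_16_0 lc_c_rc_15_2 lc_c_rc_8_3 lc_c_rc_13_0 lc_c_rc_17_0 lc_c_rc_16_2 lc_c_rc_8_3 lc_c_rc_28_6 lc_c_rc_16_2 lc_c_rc_15_2 lc_c_rc_16_0 lc_c_rc_15_2 lc_c_rc_8_1 lc_c_rc_8_3) (@D3.rec (fun _ => (Cert rels S Gen.c)) lc_c_Cert_tree lc_c_rc_16_2 lc_c_rc_17_2 lc_c_rc_28_6 lc_c_rc_8_3 lc_c_rc_13_0 lc_c_rc_28_8 lc_c_rc_2_1 lc_c_rc_15_2 lc_c_rc_16_2 lc_c_rc_17_2 lc_c_rc_8_3 lc_c_rc_17_2 lc_c_rc_16_2 lc_c_rc_8_3 lc_c_rc_17_0 lc_c_rc_2_1 lc_c_rc_8_3 lc_c_rc_8_1 lc_c_rc_2_1 lc_c_rc_15_2 lc_c_rc_28_2 lc_c_rc_28_2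 lc_c_rc_2_3 lc_c_rc_8_3 lc_c_rc_15_2 lc_c_rc_16_2 lc_c_rc_17_2 lc_c_rc_16_2 lc_c_rc_17_2 lc_c_rc_17_2 lc_c_Cert_tree lc_c_rc_8_1 lc_c_rc_2_1 lc_c_rc_2_1 lc_c_rc_8_3 lc_c_rc_16_2 lc_c_rc_28_2 lc_c_rc_17_2 lc_c_rc_8_3) (@D3.rec (fun _ => (Cert rels S Gen.c)) lc_c_rc_13_0 lc_c_rc_16_2 lc_c_rc_15_2 lc_c_rc_17_2 lc_c_rc_13_0 lc_c_rc_15_2 lc_c_rc_8_3 lc_c_rc_28_2 lc_c_rc_2_1 lc_c_rc_2_1 lc_c_rc_2_1 lc_c_rc_13_0 lc_c_rc_15_2 lc_c_rc_16_2 lc_c_rc_17_2 lc_c_rc_28_4 lc_c_rc_16_2 lc_c_rc_17_2 lc_c_rc_17_2 lc_c_rc_17_2 lc_c_rc_2_1 lc_c_Cert_tree lc_c_rc_15_2 lc_c_rc_28_6 lc_c_rc_13_0 lc_c_rc_17_2 lc_c_rc_8_3 lc_c_rc_16_2 lc_c_rc_8_5 lc_c_Cert_tree lc_c_Cert_tree lc_c_Cert_tree lc_c_rc_13_0 lc_c_rc_17_2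 lc_c_rc_13_0 lc_c_rc_17_2 lc_c_rc_17_2 lc_c_rc_16_2 lc_c_rc_15_2 lc_c_rc_8_3) (@D3.rec (fun _ => (Cert rels S Gen.c)) lc_c_rc_2_3 lc_c_rc_28_2 lc_c_rc_13_0 lc_c_rc_16_2 lc_c_rc_13_0 lc_c_rc_16_2 lc_c_rc_13_0 lc_c_rc_15_2 lc_c_rc_16_2 lc_c_rc_17_2 lc_c_rc_15_2 lc_c_rc_13_0 lc_c_rc_15_2 lc_c_rc_16_2 lc_c_rc_17_2 lc_c_rc_8_3 lc_c_rc_28_4 lc_c_rc_15_2 lc_c_rc_16_2 lc_c_rc_17_2 lc_c_rc_16_2 lc_c_rc_17_2 lc_c_rc_17_2 lc_c_rc_2_3 lc_c_rc_2_1 lc_c_rc_8_3 lc_c_rc_16_2 lc_c_rc_16_0 lc_c_rc_13_0 lc_c_rc_15_2 lc_c_rc_16_2 lc_c_rc_17_2 lc_c_rc_16_2 lc_c_rc_30_14 lc_c_rc_16_2 lc_c_rc_8_3 lc_c_rc_28_4 lc_c_rc_15_2 lc_c_rc_16_2 lc_c_rc_17_2) (@D3.rec (fun _ => (Cert rels S Gen.c)) lc_c_rc_16_2 lc_c_rc_17_2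 lc_c_Cert_tree lc_c_Cert_tree lc_c_rc_13_0 lc_c_rc_13_0 lc_c_rc_15_2 lc_c_rc_16_2 lc_c_rc_17_2 lc_c_rc_2_3 lc_c_rc_16_2 lc_c_rc_17_2 lc_c_rc_16_2 lc_c_rc_17_2 lc_c_rc_8_3 lc_c_rc_2_1 lc_c_rc_17_2 lc_c_rc_2_3 lc_c_rc_8_3 lc_c_Cert_tree lc_c_rc_13_0 lc_c_rc_8_3 lc_c_Cert_tree lc_c_rc_13_0 lc_c_rc_17_2 lc_c_rc_2_1 lc_c_rc_28_4 lc_c_rc_28_2 lc_c_rc_28_4 lc_c_rc_2_1 lc_c_Cert_tree lc_c_rc_17_0 lc_c_rc_17_2 lc_c_rc_2_3 lc_c_rc_15_0 lc_c_Cert_tree lc_c_rc_8_3 lc_c_rc_28_2 lc_c_rc_13_0 lc_c_rc_17_2) (@D3.rec (fun _ => (Cert rels S Gen.c)) lc_c_rc_13_0 lc_c_rc_17_2 lc_c_rc_13_0 lc_c_rc_15_2 lc_c_rc_16_2 lc_c_rc_17_2 lc_c_rc_15_2 lc_c_rc_13_0 lc_c_rc_15_2 lc_c_rc_16_2 lc_c_rc_17_2 lc_c_rc_8_3 lc_c_rc_28_4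 lc_c_rc_15_2 lc_c_rc_16_2 lc_c_rc_17_2 lc_c_rc_16_2 lc_c_rc_17_2 lc_c_rc_17_2 lc_c_rc_2_3 lc_c_rc_2_1 lc_c_rc_8_3 lc_c_rc_16_2 lc_c_rc_17_2 lc_c_rc_13_0 lc_c_rc_15_2 lc_c_rc_16_2 lc_c_rc_17_2 lc_c_rc_16_2 lc_c_rc_8_3 lc_c_rc_30_14 lc_c_rc_8_3 lc_c_rc_28_4 lc_c_rc_15_2 lc_c_rc_16_2 lc_c_rc_17_2 lc_c_rc_16_2 lc_c_rc_17_2 lc_c_Cert_tree lc_c_Cert_tree) (@D3.rec (fun _ => (Cert rels S Gen.c)) lc_c_rc_13_0 lc_c_rc_13_0 lc_c_rc_15_2 lc_c_rc_16_2 lc_c_rc_17_2 lc_c_rc_17_2 lc_c_rc_16_2 lc_c_rc_17_2 lc_c_rc_8_3 lc_c_rc_17_2 lc_c_rc_17_2 lc_c_rc_2_1 lc_c_rc_17_2 lc_c_rc_2_3 lc_c_Cert_tree lc_c_rc_30_14 lc_c_Cert_tree lc_c_rc_13_0 lc_c_rc_16_2 lc_c_rc_13_0 lc_c_rc_8_3 lc_c_rc_15_2 lc_c_rc_2_1 lc_c_rc_28_4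 lc_c_rc_2_1 lc_c_rc_28_4 lc_c_rc_17_0 lc_c_Cert_tree lc_c_rc_17_2 lc_c_rc_2_3 lc_c_Cert_tree lc_c_rc_30_6 lc_c_rc_8_3 lc_c_rc_28_4 lc_c_rc_28_2 lc_c_rc_16_2 lc_c_rc_16_2 lc_c_rc_28_4 lc_c_rc_28_2 lc_c_rc_2_1) (@D3.rec (fun _ => (Cert rels S Gen.c)) lc_c_rc_2_1 lc_c_rc_13_0 lc_c_rc_15_2 lc_c_rc_16_2 lc_c_rc_17_2 lc_c_rc_17_2 lc_c_rc_2_3 lc_c_rc_8_3 lc_c_rc_28_4 lc_c_rc_2_1 lc_c_rc_16_2 lc_c_rc_17_2 lc_c_rc_28_4 lc_c_rc_28_2 lc_c_rc_2_1 lc_c_rc_2_1 lc_c_rc_13_0 lc_c_rc_15_2 lc_c_rc_16_2 lc_c_rc_17_2 lc_c_rc_17_2 lc_c_rc_2_3 lc_c_rc_8_1 lc_c_rc_15_0 lc_c_rc_30_14 lc_c_rc_8_3 lc_c_rc_17_2 lc_c_rc_16_2 lc_c_rc_2_3 lc_c_rc_15_2 lc_c_rc_2_3 lc_c_rc_2_3 lc_c_rc_15_2 lc_c_rc_8_1 lc_c_rc_8_3 lc_c_rc_16_2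 lc_c_rc_16_0 lc_c_rc_2_3 lc_c_rc_16_2 lc_c_rc_8_3) (@D3.rec (fun _ => (Cert rels S Gen.c)) lc_c_rc_16_2 lc_c_rc_17_0 lc_c_rc_28_4 lc_c_rc_17_2 lc_c_rc_17_2 lc_c_rc_13_0 lc_c_rc_16_2 lc_c_rc_2_1 lc_c_rc_15_2 lc_c_rc_16_2 lc_c_rc_15_2 lc_c_rc_28_2 lc_c_rc_2_3 lc_c_rc_2_3 lc_c_Cert_tree lc_c_rc_16_0 lc_c_rc_13_0 lc_c_rc_8_3 lc_c_rc_2_1 lc_c_rc_17_2 lc_c_rc_8_3 lc_c_Cert_tree lc_c_rc_8_3 lc_c_rc_13_0 lc_c_rc_8_3 lc_c_rc_2_1 lc_c_rc_15_2 lc_c_Cert_tree lc_c_rc_28_6 lc_c_rc_17_2 lc_c_rc_14_6 lc_c_rc_8_1 lc_c_rc_13_0 lc_c_rc_8_1 lc_c_rc_13_0 lc_c_rc_16_0 lc_c_rc_28_4 lc_c_rc_28_4 lc_c_rc_15_2 lc_c_rc_17_2) (@D3.rec (fun _ => (Cert rels S Gen.c)) lc_c_rc_15_2 lc_c_rc_28_4 lc_c_rc_8_1 lc_c_rc_28_4 lc_c_Cert_tree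 lc_c_rc_28_2 lc_c_rc_13_0 lc_c_rc_13_0 lc_c_rc_2_1 lc_c_rc_16_2 lc_c_rc_8_3 lc_c_Cert_tree lc_c_rc_8_3 lc_c_rc_13_0 lc_c_rc_8_3 lc_c_rc_8_1 lc_c_rc_15_2 lc_c_Cert_tree lc_c_rc_16_2 lc_c_rc_15_0 lc_c_rc_30_10 lc_c_rc_13_0 lc_c_rc_8_1 lc_c_rc_13_0 lc_c_rc_30_6 lc_c_rc_13_0 lc_c_rc_28_4 lc_c_rc_17_2 lc_c_rc_13_0 lc_c_rc_16_2 lc_c_rc_17_2 lc_c_rc_13_0 lc_c_rc_16_2 lc_c_rc_28_4 lc_c_rc_16_2 lc_c_rc_28_2 lc_c_rc_13_0 lc_c_rc_15_2 lc_c_rc_13_0 lc_c_rc_17_2) (@D3.rec (fun _ => (Cert rels S Gen.c)) lc_c_rc_8_3 lc_c_rc_15_2 lc_c_rc_2_1 lc_c_rc_15_0 lc_c_rc_2_1 lc_c_rc_8_3 lc_c_rc_8_1 lc_c_rc_13_0 lc_c_rc_13_0 lc_c_rc_16_2 lc_c_rc_8_1 lc_c_rc_2_1 lc_c_rc_17_2 lc_c_rc_2_1 lc_c_rc_17_2 lc_c_rc_30_2 lc_c_rc_13_0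 lc_c_rc_8_3 lc_c_rc_28_6 lc_c_rc_8_3 lc_c_rc_17_2 lc_c_rc_8_3 lc_c_rc_28_2 lc_c_rc_8_3 lc_c_rc_2_1 lc_c_rc_15_2 lc_c_rc_16_2 lc_c_rc_17_0 lc_c_rc_13_0 lc_c_rc_15_2 lc_c_rc_16_2 lc_c_rc_13_0 lc_c_rc_16_2 lc_c_rc_13_0 lc_c_rc_2_3 lc_c_rc_17_2 lc_c_rc_2_3 lc_c_rc_13_0 lc_c_rc_15_2 lc_c_rc_28_4) (@D3.rec (fun _ => (Cert rels S Gen.c)) lc_c_rc_17_2 lc_c_rc_28_6 lc_c_rc_2_1 lc_c_rc_28_6 lc_c_rc_2_1 lc_c_rc_8_3 lc_c_rc_28_8 lc_c_rc_15_2 lc_c_rc_17_2 lc_c_rc_8_3 lc_c_rc_13_0 lc_c_rc_15_2 lc_c_rc_15_2 lc_c_rc_17_2 lc_c_rc_8_1 lc_c_rc_17_2 lc_c_rc_15_0 lc_c_rc_15_2 lc_c_rc_2_1 lc_c_rc_2_1 lc_c_Cert_tree lc_c_rc_16_2 lc_c_rc_17_2 lc_c_rc_8_1 lc_c_rc_16_2 lc_c_rc_28_6 lc_c_rc_13_0 lc_c_rc_16_2 lc_c_rc_8_3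 lc_c_rc_8_3 lc_c_rc_17_0 lc_c_rc_2_3 lc_c_rc_16_2 lc_c_rc_2_1 lc_c_rc_16_2 lc_c_rc_16_2 lc_c_rc_16_2 lc_c_rc_2_1 lc_c_rc_16_2 lc_c_rc_17_2) (@D3.rec (fun _ => (Cert rels S Gen.c)) lc_c_rc_2_1 lc_c_rc_15_2 lc_c_rc_2_3 lc_c_rc_15_2 lc_c_rc_2_1 lc_c_rc_8_3 lc_c_rc_16_2 lc_c_Cert_tree lc_c_rc_17_2 lc_c_rc_16_0 lc_c_rc_8_3 lc_c_rc_28_6 lc_c_rc_17_2 lc_c_rc_28_4 lc_c_rc_2_1 lc_c_rc_16_2 lc_c_rc_17_2 lc_c_rc_8_1 lc_c_rc_16_2 lc_c_rc_16_0 lc_c_rc_28_6 lc_c_rc_15_0 lc_c_rc_13_0 lc_c_rc_28_8 lc_c_rc_2_1 lc_c_rc_8_1 lc_c_rc_8_3 lc_c_rc_16_2 lc_c_rc_17_2 lc_c_rc_13_0 lc_c_rc_15_2 lc_c_rc_16_2 lc_c_rc_16_0 lc_c_rc_15_0 lc_c_rc_2_1 lc_c_rc_2_1 lc_c_rc_15_2 lc_c_rc_17_2 lc_c_rc_2_3 lc_c_rc_16_2) (@D3.rec (fun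 _ => (Cert rels S Gen.c)) lc_c_rc_17_2 lc_c_rc_30_6 lc_c_rc_13_1 lc_c_rc_16_2 lc_c_rc_8_1 lc_c_rc_17_2 lc_c_rc_2_1 lc_c_rc_8_3 lc_c_rc_13_0 lc_c_rc_15_2 lc_c_rc_28_6 lc_c_rc_17_2 lc_c_rc_8_3 lc_c_Cert_tree lc_c_rc_13_0 lc_c_rc_13_0 lc_c_rc_17_0 lc_c_rc_16_2 lc_c_rc_13_0 lc_c_rc_17_0 lc_c_rc_17_2 lc_c_rc_17_2 lc_c_rc_13_1 lc_c_rc_13_0 lc_c_rc_17_2 lc_c_rc_2_1 lc_c_rc_13_0 lc_c_rc_17_2 lc_c_rc_28_4 lc_c_rc_17_2 lc_c_rc_17_2 lc_c_rc_13_0 lc_c_rc_16_2 lc_c_rc_8_1 lc_c_rc_2_3 lc_c_rc_2_3 lc_c_rc_15_2 lc_c_rc_15_2 lc_c_rc_2_1 lc_c_rc_2_1) (@D3.rec (fun _ => (Cert rels S Gen.c)) lc_c_rc_8_1 lc_c_rc_8_1 lc_c_rc_13_0 lc_c_rc_17_2 lc_c_rc_17_0 lc_c_rc_8_1 lc_c_rc_2_1 lc_c_rc_8_3 lc_c_rc_2_1 lc_c_rc_13_0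 lc_c_rc_8_3 lc_c_rc_28_6 lc_c_rc_17_0 lc_c_rc_2_1 lc_c_rc_15_2 lc_c_rc_17_2 lc_c_rc_17_0 lc_c_rc_13_0 lc_c_rc_15_2 lc_c_rc_17_2 lc_c_rc_13_0 lc_c_rc_17_2 lc_c_rc_13_0 lc_c_rc_17_2 lc_c_rc_2_1 lc_c_rc_15_2 lc_c_rc_28_6 lc_c_rc_28_4 lc_c_rc_2_1 lc_c_rc_8_3 lc_c_rc_8_3 lc_c_rc_8_3 lc_c_rc_13_0 lc_c_rc_15_2 lc_c_rc_15_2 lc_c_rc_16_2 lc_c_rc_16_2 lc_c_rc_2_3 lc_c_rc_28_2 lc_c_rc_2_1) (@D3.rec (fun _ => (Cert rels S Gen.c)) lc_c_rc_2_1 lc_c_Cert_tree lc_c_rc_8_3 lc_c_rc_17_2 lc_c_rc_17_2 lc_c_rc_8_1 lc_c_rc_13_0 lc_c_rc_17_2 lc_c_rc_8_3 lc_c_rc_8_3 lc_c_rc_30_10 lc_c_rc_30_2 lc_c_rc_17_2 lc_c_rc_2_1 lc_c_rc_17_2 lc_c_rc_17_2 lc_c_rc_17_2 lc_c_rc_2_1 lc_c_rc_16_2 lc_c_rc_28_2 lc_c_rc_16_2 lc_c_Cert_tree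 lc_c_rc_16_2 lc_c_rc_2_1 lc_c_rc_17_0 lc_c_rc_2_1 lc_c_rc_2_1 lc_c_rc_16_2 lc_c_rc_17_2 lc_c_rc_2_1 lc_c_rc_2_1 lc_c_rc_2_1 lc_c_rc_13_0 lc_c_rc_15_0 lc_c_rc_17_2 lc_c_rc_2_1 lc_c_rc_8_3 lc_c_rc_28_6 lc_c_rc_16_2 lc_c_rc_2_1) (@D3.rec (fun _ => (Cert rels S Gen.c)) lc_c_Cert_tree lc_c_rc_13_0 lc_c_rc_13_0 lc_c_rc_28_6 lc_c_rc_17_2 lc_c_rc_13_0 lc_c_rc_28_4 lc_c_rc_16_2 lc_c_rc_13_0 lc_c_rc_17_2 lc_c_rc_15_2 lc_c_rc_28_6 lc_c_Cert_tree lc_c_rc_17_2 lc_c_rc_15_2 lc_c_rc_2_1 lc_c_rc_8_3 lc_c_rc_17_2 lc_c_rc_16_0 lc_c_rc_2_1 lc_c_rc_2_1 lc_c_Cert_tree lc_c_rc_8_3 lc_c_rc_17_2 lc_c_rc_15_2 lc_c_rc_28_4 lc_c_Cert_tree lc_c_rc_17_2 lc_c_Cert_tree lc_c_rc_15_2 lc_c_rc_28_6 lc_c_rc_13_0 lc_c_rc_17_2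 lc_c_rc_8_3 lc_c_rc_16_2 lc_c_rc_16_2 lc_c_rc_2_1 lc_c_rc_13_0 lc_c_rc_17_2 lc_c_rc_13_0) (@D3.rec (fun _ => (Cert rels S Gen.c)) lc_c_rc_28_4 lc_c_rc_16_2 lc_c_rc_15_2 lc_c_rc_13_0 lc_c_rc_8_5 lc_c_rc_15_2 lc_c_rc_28_6 lc_c_Cert_tree lc_c_rc_16_2 lc_c_rc_8_5 lc_c_rc_16_0 lc_c_rc_8_3 lc_c_rc_16_2 lc_c_rc_15_2 lc_c_rc_14_2 lc_c_rc_2_1 lc_c_Cert_tree lc_c_rc_15_2 lc_c_rc_16_2 lc_c_rc_15_2 lc_c_rc_28_4 lc_c_Cert_tree lc_c_rc_16_2 lc_c_Cert_tree lc_c_rc_2_3 lc_c_rc_28_6 lc_c_rc_13_0 lc_c_rc_16_2 lc_c_rc_8_3 lc_c_rc_17_2 lc_c_rc_15_2 lc_c_rc_16_0 lc_c_rc_13_0 lc_c_rc_16_2 lc_c_rc_13_0 lc_c_rc_15_2 lc_c_rc_17_2 lc_c_rc_15_2 lc_c_rc_2_1 lc_c_rc_15_2) (@D3.rec (fun _ => (Cert rels S Gen.c)) lc_c_rc_8_3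 lc_c_rc_15_2 lc_c_rc_17_2 lc_c_rc_2_1 lc_c_rc_8_3 lc_c_Cert_tree lc_c_rc_16_2 lc_c_rc_17_2 lc_c_rc_8_3 lc_c_rc_14_12 lc_c_rc_15_2 lc_c_Cert_tree lc_c_rc_15_2 lc_c_rc_28_6 lc_c_rc_13_0 lc_c_rc_16_2 lc_c_rc_17_2 lc_c_rc_17_0 lc_c_Cert_tree lc_c_rc_16_2 lc_c_rc_8_3 lc_c_rc_2_1 lc_c_rc_16_0 lc_c_rc_8_3 lc_c_rc_15_2 lc_c_rc_16_2 lc_c_rc_16_2 lc_c_rc_2_3 lc_c_Cert_tree lc_c_rc_15_2 lc_c_Cert_tree lc_c_rc_13_0 lc_c_rc_16_2 lc_c_rc_17_2 lc_c_rc_16_0 lc_c_Cert_tree lc_c_rc_8_1 lc_c_rc_2_1 lc_c_rc_17_2 lc_c_rc_13_0)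
def ce_c_16 : D2 → D3 → (Cert rels S Gen.c) := @D2.rec (fun _ => D3 → (Cert rels S Gen.c)) (@D3.rec (fun _ => (Cert rels S Gen.c)) lc_c_rc_28_2 lc_c_rc_16_2 lc_c_rc_14_2 lc_c_rc_16_2 lc_c_rc_16_2 lc_c_rc_8_3 lc_c_rc_8_3 lc_c_rc_8_3 lc_c_rc_16_2 lc_c_rc_15_2 lc_c_rc_15_2 lc_c_rc_8_1 lc_c_rc_15_2 lc_c_rc_28_6 lc_c_rc_2_1 lc_c_rc_8_3 lc_c_rc_15_2 lc_c_Cert_tree lc_c_rc_15_2 lc_c_rc_16_2 lc_c_rc_16_2 lc_c_rc_8_3 lc_c_rc_13_1 lc_c_rc_8_3 lc_c_rc_15_0 lc_c_rc_8_3 lc_c_rc_28_4 lc_c_rc_15_2 lc_c_rc_15_2 lc_c_rc_8_1 lc_c_rc_15_2 lc_c_rc_17_2 lc_c_rc_17_2 lc_c_rc_8_3 lc_c_rc_15_2 lc_c_Cert_tree lc_c_rc_15_2 lc_c_rc_30_2 lc_c_rc_17_2 lc_c_rc_2_3) (@D3.rec (fun _ => (Cert rels S Gen.c)) lc_c_Cert_tree lc_c_Cert_tree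 lc_c_rc_8_1 lc_c_rc_13_0 lc_c_rc_17_2 lc_c_Cert_tree lc_c_rc_17_2 lc_c_rc_16_2 lc_c_rc_16_0 lc_c_rc_13_0 lc_c_rc_16_2 lc_c_Cert_tree lc_c_rc_16_2 lc_c_rc_17_2 lc_c_rc_17_2 lc_c_rc_28_4 lc_c_rc_8_5 lc_c_rc_13_0 lc_c_rc_16_2 lc_c_Cert_tree lc_c_rc_13_0 lc_c_rc_16_2 lc_c_rc_15_2 lc_c_rc_16_2 lc_c_rc_17_2 lc_c_rc_15_2 lc_c_rc_13_0 lc_c_rc_17_2 lc_c_Cert_tree lc_c_rc_13_0 lc_c_rc_17_2 lc_c_rc_2_1 lc_c_rc_17_2 lc_c_rc_2_3 lc_c_rc_17_2 lc_c_rc_13_0 lc_c_rc_13_0 lc_c_rc_17_2 lc_c_rc_28_4 lc_c_rc_28_2) (@D3.rec (fun _ => (Cert rels S Gen.c)) lc_c_rc_16_2 lc_c_rc_13_0 lc_c_rc_13_0 lc_c_rc_16_2 lc_c_rc_8_3 lc_c_rc_2_3 lc_c_rc_13_0 lc_c_Cert_tree lc_c_rc_13_0 lc_c_rc_17_2 lc_c_rc_13_0 lc_c_Cert_tree lc_c_rc_13_0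 lc_c_rc_16_2 lc_c_rc_13_0 lc_c_Cert_tree lc_c_rc_16_2 lc_c_rc_13_0 lc_c_Cert_tree lc_c_rc_16_2 lc_c_rc_2_1 lc_c_rc_2_1 lc_c_rc_2_1 lc_c_rc_17_2 lc_c_rc_15_0 lc_c_rc_13_0 lc_c_rc_17_2 lc_c_rc_13_1 lc_c_rc_13_0 lc_c_rc_16_2 lc_c_rc_17_2 lc_c_rc_13_0 lc_c_Cert_tree lc_c_Cert_tree lc_c_rc_13_0 lc_c_rc_16_2 lc_c_rc_13_0 lc_c_rc_16_2 lc_c_rc_16_2 lc_c_rc_17_2) (@D3.rec (fun _ => (Cert rels S Gen.c)) lc_c_Cert_tree lc_c_Cert_tree lc_c_rc_13_0 lc_c_rc_17_2 lc_c_rc_13_0 lc_c_rc_17_2 lc_c_rc_17_2 lc_c_rc_2_1 lc_c_rc_8_3 lc_c_rc_13_0 lc_c_rc_15_0 lc_c_rc_15_2 lc_c_rc_15_2 lc_c_rc_8_3 lc_c_rc_13_0 lc_c_rc_15_0 lc_c_rc_16_2 lc_c_rc_15_2 lc_c_rc_17_2 lc_c_rc_28_6 lc_c_rc_17_2 lc_c_Cert_tree lc_c_Cert_tree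 lc_c_Cert_tree lc_c_rc_2_3 lc_c_rc_13_0 lc_c_rc_16_2 lc_c_rc_17_0 lc_c_rc_28_4 lc_c_rc_13_0 lc_c_rc_15_2 lc_c_rc_16_2 lc_c_rc_16_2 lc_c_rc_13_0 lc_c_rc_28_2 lc_c_rc_16_2 lc_c_rc_17_2 lc_c_rc_28_4 lc_c_rc_15_2 lc_c_rc_16_2) (@D3.rec (fun _ => (Cert rels S Gen.c)) lc_c_rc_16_2 lc_c_rc_17_2 lc_c_rc_16_0 lc_c_rc_13_0 lc_c_rc_16_2 lc_c_rc_17_2 lc_c_rc_16_2 lc_c_Cert_tree lc_c_Cert_tree lc_c_Cert_tree lc_c_rc_2_3 lc_c_rc_13_0 lc_c_rc_17_2 lc_c_rc_2_1 lc_c_rc_28_4 lc_c_rc_13_0 lc_c_rc_15_2 lc_c_rc_17_2 lc_c_rc_2_1 lc_c_rc_13_0 lc_c_rc_28_2 lc_c_rc_16_2 lc_c_rc_17_2 lc_c_rc_28_4 lc_c_rc_15_2 lc_c_rc_17_2 lc_c_rc_17_2 lc_c_rc_16_2 lc_c_rc_17_0 lc_c_rc_13_0 lc_c_rc_13_0 lc_c_rc_13_0 lc_c_rc_16_2 lc_c_rc_8_1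 lc_c_rc_16_2 lc_c_rc_17_2 lc_c_rc_8_3 lc_c_rc_13_0 lc_c_rc_13_0 lc_c_rc_17_2) (@D3.rec (fun _ => (Cert rels S Gen.c)) lc_c_rc_8_1 lc_c_rc_17_2 lc_c_rc_16_2 lc_c_rc_17_2 lc_c_rc_13_0 lc_c_rc_8_3 lc_c_rc_13_0 lc_c_rc_30_6 lc_c_rc_28_4 lc_c_rc_8_3 lc_c_rc_28_4 lc_c_rc_8_3 lc_c_rc_17_2 lc_c_rc_15_2 lc_c_rc_17_2 lc_c_rc_28_4 lc_c_rc_13_0 lc_c_rc_8_3 lc_c_rc_17_2 lc_c_rc_15_2 lc_c_rc_16_2 lc_c_rc_8_3 lc_c_rc_2_3 lc_c_rc_30_14 lc_c_rc_16_2 lc_c_rc_13_0 lc_c_rc_8_3 lc_c_rc_16_2 lc_c_rc_17_0 lc_c_rc_17_2 lc_c_rc_17_2 lc_c_rc_2_1 lc_c_rc_13_0 lc_c_rc_28_6 lc_c_rc_17_2 lc_c_Cert_tree lc_c_rc_28_2 lc_c_rc_13_0 lc_c_rc_16_2 lc_c_rc_13_0) (@D3.rec (fun _ => (Cert rels S Gen.c)) lc_c_rc_28_6 lc_c_rc_16_2 lc_c_Cert_tree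 lc_c_rc_28_2 lc_c_rc_13_0 lc_c_rc_17_2 lc_c_rc_16_2 lc_c_rc_16_2 lc_c_rc_17_2 lc_c_rc_28_4 lc_c_rc_17_2 lc_c_rc_2_1 lc_c_rc_13_0 lc_c_rc_32_32 lc_c_rc_16_2 lc_c_rc_8_3 lc_c_rc_2_1 lc_c_rc_16_2 lc_c_rc_30_18 lc_c_rc_16_0 lc_c_rc_17_0 lc_c_rc_16_2 lc_c_rc_17_2 lc_c_rc_13_0 lc_c_rc_28_6 lc_c_rc_17_2 lc_c_rc_8_3 lc_c_rc_17_2 lc_c_rc_14_6 lc_c_rc_17_2 lc_c_rc_32_55 lc_c_rc_16_2 lc_c_rc_13_0 lc_c_rc_17_2 lc_c_rc_15_2 lc_c_Cert_tree lc_c_rc_16_2 lc_c_rc_13_0 lc_c_rc_17_2 lc_c_rc_8_3) (@D3.rec (fun _ => (Cert rels S Gen.c)) lc_c_rc_16_2 lc_c_rc_8_3 lc_c_rc_17_2 lc_c_Cert_tree lc_c_rc_13_0 lc_c_rc_16_2 lc_c_rc_2_3 lc_c_Cert_tree lc_c_rc_17_2 lc_c_rc_13_0 lc_c_rc_16_2 lc_c_rc_8_3 lc_c_rc_17_2 lc_c_rc_8_3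 lc_c_rc_2_1 lc_c_Cert_tree lc_c_Cert_tree lc_c_rc_28_2 lc_c_rc_13_0 lc_c_rc_16_2 lc_c_rc_13_0 lc_c_rc_17_2 lc_c_rc_16_2 lc_c_rc_2_1 lc_c_rc_13_0 lc_c_rc_13_0 lc_c_rc_8_3 lc_c_Cert_tree lc_c_rc_17_2 lc_c_rc_15_2 lc_c_rc_8_3 lc_c_Cert_tree lc_c_rc_16_0 lc_c_rc_13_0 lc_c_rc_17_2 lc_c_rc_13_0 lc_c_rc_2_3 lc_c_rc_17_2 lc_c_rc_2_1 lc_c_rc_13_0) (@D3.rec (fun _ => (Cert rels S Gen.c)) lc_c_rc_13_0 lc_c_rc_8_3 lc_c_Cert_tree lc_c_rc_16_2 lc_c_rc_17_2 lc_c_rc_8_3 lc_c_rc_2_1 lc_c_Cert_tree lc_c_rc_13_0 lc_c_rc_16_2 lc_c_rc_13_0 lc_c_Cert_tree lc_c_rc_16_2 lc_c_Cert_tree lc_c_rc_13_0 lc_c_rc_16_2 lc_c_rc_17_2 lc_c_Cert_tree lc_c_rc_13_0 lc_c_rc_16_2 lc_c_rc_13_0 lc_c_rc_17_2 lc_c_rc_16_2 lc_c_rc_17_2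 lc_c_rc_16_2 lc_c_rc_2_1 lc_c_rc_2_1 lc_c_rc_2_1 lc_c_rc_13_0 lc_c_rc_2_1 lc_c_rc_16_2 lc_c_rc_30_6 lc_c_Cert_tree lc_c_rc_13_0 lc_c_rc_17_2 lc_c_rc_13_0 lc_c_Cert_tree lc_c_rc_17_2 lc_c_Cert_tree lc_c_rc_13_0) (@D3.rec (fun _ => (Cert rels S Gen.c)) lc_c_rc_16_2 lc_c_rc_17_2 lc_c_Cert_tree lc_c_rc_13_0 lc_c_rc_2_3 lc_c_rc_13_0 lc_c_rc_16_2 lc_c_rc_17_2 lc_c_rc_16_2 lc_c_rc_17_2 lc_c_rc_2_1 lc_c_rc_2_1 lc_c_rc_17_2 lc_c_rc_13_0 lc_c_rc_2_1 lc_c_rc_17_2 lc_c_rc_15_2 lc_c_rc_16_2 lc_c_rc_17_2 lc_c_rc_2_1 lc_c_rc_28_4 lc_c_rc_15_2 lc_c_rc_15_2 lc_c_rc_28_6 lc_c_rc_8_3 lc_c_rc_17_2 lc_c_rc_13_0 lc_c_rc_14_8 lc_c_rc_8_3 lc_c_Cert_tree lc_c_rc_13_0 lc_c_rc_17_2 lc_c_rc_17_2 lc_c_Cert_tree lc_c_rc_28_8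 lc_c_rc_16_2 lc_c_rc_17_2 lc_c_rc_13_0 lc_c_rc_13_0 lc_c_rc_8_3) (@D3.rec (fun _ => (Cert rels S Gen.c)) lc_c_rc_17_0 lc_c_Cert_tree lc_c_rc_13_0 lc_c_rc_17_2 lc_c_rc_16_2 lc_c_rc_17_0 lc_c_Cert_tree lc_c_rc_16_2 lc_c_rc_14_12 lc_c_Cert_tree lc_c_rc_16_2 lc_c_rc_13_0 lc_c_rc_15_2 lc_c_rc_16_2 lc_c_rc_30_14 lc_c_Cert_tree lc_c_rc_13_0 lc_c_rc_16_2 lc_c_Cert_tree lc_c_rc_28_4 lc_c_rc_13_0 lc_c_rc_28_8 lc_c_rc_16_2 lc_c_Cert_tree lc_c_rc_2_3 lc_c_rc_13_0 lc_c_rc_17_2 lc_c_rc_16_2 lc_c_rc_2_1 lc_c_rc_2_3 lc_c_rc_13_0 lc_c_rc_15_2 lc_c_rc_16_2 lc_c_rc_16_2 lc_c_Cert_tree lc_c_rc_13_0 lc_c_rc_17_2 lc_c_Cert_tree lc_c_rc_13_0 lc_c_rc_17_2) (@D3.rec (fun _ => (Cert rels S Gen.c)) lc_c_rc_16_0 lc_c_rc_17_2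 lc_c_rc_2_3 lc_c_rc_13_0 lc_c_rc_8_3 lc_c_Cert_tree lc_c_rc_16_2 lc_c_rc_17_2 lc_c_rc_2_1 lc_c_Cert_tree lc_c_rc_2_1 lc_c_Cert_tree lc_c_rc_2_3 lc_c_rc_13_0 lc_c_rc_13_0 lc_c_rc_28_4 lc_c_rc_16_2 lc_c_rc_28_4 lc_c_rc_13_0 lc_c_rc_16_2 lc_c_rc_8_3 lc_c_rc_13_1 lc_c_rc_8_1 lc_c_rc_2_3 lc_c_rc_13_0 lc_c_rc_15_2 lc_c_rc_17_2 lc_c_rc_28_2 lc_c_rc_16_2 lc_c_rc_28_8 lc_c_rc_28_4 lc_c_rc_16_2 lc_c_rc_15_2 lc_c_rc_15_2 lc_c_rc_8_3 lc_c_rc_28_8 lc_c_rc_28_2 lc_c_rc_13_0 lc_c_rc_17_2 lc_c_rc_8_3) (@D3.rec (fun _ => (Cert rels S Gen.c)) lc_c_Cert_tree lc_c_rc_16_2 lc_c_rc_13_1 lc_c_rc_17_2 lc_c_rc_2_3 lc_c_rc_30_10 lc_c_rc_13_0 lc_c_rc_17_2 lc_c_rc_15_2 lc_c_rc_13_0 lc_c_rc_16_0 lc_c_rc_32_44 lc_c_rc_13_0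 lc_c_rc_28_8 lc_c_rc_16_2 lc_c_rc_17_2 lc_c_rc_13_1 lc_c_rc_17_2 lc_c_rc_17_2 lc_c_Cert_tree lc_c_rc_13_0 lc_c_rc_15_2 lc_c_rc_17_2 lc_c_rc_2_1 lc_c_rc_8_3 lc_c_rc_13_0 lc_c_rc_17_2 lc_c_rc_13_1 lc_c_rc_15_0 lc_c_rc_13_0 lc_c_rc_2_1 lc_c_rc_17_2 lc_c_rc_17_2 lc_c_rc_16_2 lc_c_rc_2_1 lc_c_rc_17_2 lc_c_rc_2_3 lc_c_rc_13_0 lc_c_rc_16_2 lc_c_rc_8_3) (@D3.rec (fun _ => (Cert rels S Gen.c)) lc_c_Cert_tree lc_c_rc_13_0 lc_c_rc_16_2 lc_c_Cert_tree lc_c_rc_13_0 lc_c_rc_2_1 lc_c_rc_16_0 lc_c_rc_17_2 lc_c_rc_13_0 lc_c_rc_8_3 lc_c_Cert_tree lc_c_rc_16_2 lc_c_rc_17_2 lc_c_rc_2_1 lc_c_rc_16_2 lc_c_rc_2_3 lc_c_rc_13_0 lc_c_rc_28_4 lc_c_rc_28_4 lc_c_rc_13_0 lc_c_rc_16_2 lc_c_rc_8_3 lc_c_rc_13_0 lc_c_rc_2_3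 lc_c_rc_13_0 lc_c_rc_16_2 lc_c_rc_8_3 lc_c_Cert_tree lc_c_rc_8_3 lc_c_Cert_tree lc_c_Cert_tree lc_c_rc_15_2 lc_c_rc_28_6 lc_c_rc_13_0 lc_c_rc_17_2 lc_c_rc_16_2 lc_c_Cert_tree lc_c_rc_15_2 lc_c_rc_13_0 lc_c_rc_13_0) (@D3.rec (fun _ => (Cert rels S Gen.c)) lc_c_rc_16_2 lc_c_Cert_tree lc_c_rc_28_8 lc_c_Cert_tree lc_c_rc_17_2 lc_c_Cert_tree lc_c_rc_13_0 lc_c_rc_17_2 lc_c_rc_8_3 lc_c_rc_13_0 lc_c_rc_17_2 lc_c_rc_14_12 lc_c_rc_17_2 lc_c_rc_2_3 lc_c_rc_2_3 lc_c_rc_2_3 lc_c_rc_2_1 lc_c_rc_15_2 lc_c_rc_13_0 lc_c_rc_2_1 lc_c_rc_15_2 lc_c_rc_16_2 lc_c_rc_16_2 lc_c_rc_16_2 lc_c_rc_16_2 lc_c_rc_2_1 lc_c_rc_17_2 lc_c_rc_15_2 lc_c_rc_15_2 lc_c_rc_17_2 lc_c_rc_15_2 lc_c_rc_2_1 lc_c_rc_15_2 lc_c_rc_17_2 lc_c_rc_16_2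 lc_c_rc_15_2 lc_c_rc_8_3 lc_c_rc_17_2 lc_c_Cert_tree lc_c_rc_30_10) (@D3.rec (fun _ => (Cert rels S Gen.c)) lc_c_rc_17_2 lc_c_rc_13_0 lc_c_rc_15_2 lc_c_rc_16_2 lc_c_rc_17_2 lc_c_rc_8_3 lc_c_rc_8_1 lc_c_rc_8_1 lc_c_rc_15_2 lc_c_rc_16_2 lc_c_rc_17_2 lc_c_rc_17_2 lc_c_rc_2_3 lc_c_Cert_tree lc_c_rc_8_3 lc_c_rc_2_1 lc_c_rc_28_2 lc_c_rc_28_2 lc_c_rc_15_2 lc_c_rc_15_2 lc_c_rc_28_2 lc_c_rc_28_6 lc_c_rc_8_3 lc_c_Cert_tree lc_c_rc_8_3 lc_c_Cert_tree lc_c_Cert_tree lc_c_rc_15_2 lc_c_rc_28_6 lc_c_rc_13_0 lc_c_rc_2_3 lc_c_rc_17_2 lc_c_Cert_tree lc_c_rc_15_2 lc_c_rc_13_0 lc_c_rc_13_0 lc_c_rc_17_2 lc_c_Cert_tree lc_c_rc_28_8 lc_c_Cert_tree) (@D3.rec (fun _ => (Cert rels S Gen.c)) lc_c_rc_16_2 lc_c_Cert_tree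 lc_c_rc_13_0 lc_c_rc_16_2 lc_c_rc_16_2 lc_c_rc_13_0 lc_c_rc_16_2 lc_c_rc_28_4 lc_c_rc_16_2 lc_c_rc_17_2 lc_c_rc_15_2 lc_c_rc_2_3 lc_c_rc_2_1 lc_c_rc_15_2 lc_c_rc_13_0 lc_c_rc_16_2 lc_c_rc_15_2 lc_c_rc_17_2 lc_c_rc_17_2 lc_c_rc_17_2 lc_c_rc_16_2 lc_c_rc_2_1 lc_c_rc_16_2 lc_c_rc_2_1 lc_c_rc_15_2 lc_c_rc_13_0 lc_c_rc_28_4 lc_c_rc_2_1 lc_c_rc_28_2 lc_c_rc_16_2 lc_c_rc_17_2 lc_c_rc_2_1 lc_c_rc_2_1 lc_c_rc_8_3 lc_c_Cert_tree lc_c_rc_8_3 lc_c_rc_15_2 lc_c_rc_13_0 lc_c_rc_15_2 lc_c_rc_16_2) (@D3.rec (fun _ => (Cert rels S Gen.c)) lc_c_rc_17_2 lc_c_rc_8_1 lc_c_rc_17_0 lc_c_rc_8_1 lc_c_rc_15_2 lc_c_rc_16_2 lc_c_rc_17_2 lc_c_rc_17_2 lc_c_rc_2_3 lc_c_Cert_tree lc_c_rc_8_3 lc_c_rc_2_1 lc_c_rc_28_2 lc_c_rc_28_2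 lc_c_rc_8_5 lc_c_rc_15_2 lc_c_rc_17_2 lc_c_rc_2_3 lc_c_rc_16_2 lc_c_rc_13_0 lc_c_rc_16_0 lc_c_rc_13_0 lc_c_rc_28_8 lc_c_rc_28_6 lc_c_rc_28_8 lc_c_rc_2_1 lc_c_rc_2_1 lc_c_rc_15_2 lc_c_rc_28_6 lc_c_rc_28_6 lc_c_rc_17_2 lc_c_rc_28_2 lc_c_rc_2_1 lc_c_rc_2_1 lc_c_rc_14_12 lc_c_rc_16_2 lc_c_rc_13_0 lc_c_rc_15_2 lc_c_rc_16_2 lc_c_Cert_tree) (@D3.rec (fun _ => (Cert rels S Gen.c)) lc_c_rc_28_4 lc_c_rc_15_2 lc_c_rc_16_2 lc_c_rc_17_2 lc_c_rc_16_2 lc_c_rc_17_2 lc_c_rc_2_1 lc_c_rc_13_0 lc_c_rc_16_0 lc_c_rc_13_0 lc_c_rc_2_1 lc_c_rc_28_8 lc_c_rc_28_8 lc_c_rc_2_1 lc_c_rc_2_1 lc_c_rc_15_2 lc_c_rc_28_6 lc_c_rc_28_6 lc_c_rc_16_2 lc_c_rc_28_2 lc_c_rc_2_1 lc_c_rc_2_1 lc_c_rc_17_2 lc_c_rc_14_12 lc_c_rc_13_0 lc_c_rc_15_2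 lc_c_rc_28_4 lc_c_rc_15_2 lc_c_rc_16_2 lc_c_rc_16_2 lc_c_rc_13_0 lc_c_rc_8_3 lc_c_rc_8_3 lc_c_rc_17_2 lc_c_rc_13_0 lc_c_rc_16_2 lc_c_rc_8_3 lc_c_rc_16_2 lc_c_rc_2_1 lc_c_rc_16_2) (@D3.rec (fun _ => (Cert rels S Gen.c)) lc_c_rc_13_0 lc_c_rc_16_2 lc_c_rc_13_0 lc_c_rc_17_0 lc_c_rc_8_1 lc_c_rc_13_0 lc_c_rc_17_2 lc_c_rc_13_0 lc_c_rc_17_2 lc_c_rc_2_1 lc_c_rc_28_4 lc_c_rc_2_1 lc_c_rc_2_1 lc_c_rc_17_2 lc_c_rc_2_1 lc_c_rc_16_2 lc_c_rc_15_2 lc_c_rc_17_2 lc_c_rc_17_0 lc_c_rc_16_2 lc_c_rc_13_0 lc_c_rc_30_6 lc_c_rc_30_10 lc_c_rc_13_0 lc_c_rc_16_2 lc_c_rc_13_0 lc_c_rc_28_4 lc_c_rc_30_10 lc_c_rc_2_1 lc_c_rc_17_2 lc_c_rc_17_2 lc_c_rc_13_0 lc_c_rc_30_6 lc_c_rc_30_14 lc_c_rc_13_0 lc_c_rc_30_10 lc_c_rc_13_0 lc_c_rc_30_14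 lc_c_Cert_tree lc_c_rc_15_2) (@D3.rec (fun _ => (Cert rels S Gen.c)) lc_c_rc_16_2 lc_c_rc_8_3 lc_c_rc_16_2 lc_c_rc_28_6 lc_c_rc_14_4 lc_c_rc_16_2 lc_c_rc_13_0 lc_c_rc_16_2 lc_c_rc_30_10 lc_c_rc_13_0 lc_c_rc_16_2 lc_c_rc_14_6 lc_c_rc_17_2 lc_c_rc_16_2 lc_c_rc_28_6 lc_c_rc_16_0 lc_c_rc_2_3 lc_c_rc_13_0 lc_c_rc_30_6 lc_c_rc_13_0 lc_c_rc_8_3 lc_c_rc_13_0 lc_c_rc_30_10 lc_c_Cert_tree lc_c_rc_15_2 lc_c_rc_15_0 lc_c_rc_8_3 lc_c_rc_14_12 lc_c_rc_28_6 lc_c_rc_15_2 lc_c_rc_17_2 lc_c_rc_13_0 lc_c_rc_15_0 lc_c_rc_30_14 lc_c_rc_13_0 lc_c_rc_17_2 lc_c_rc_2_1 lc_c_rc_16_2 lc_c_rc_16_2 lc_c_rc_28_2) (@D3.rec (fun _ => (Cert rels S Gen.c)) lc_c_rc_13_0 lc_c_rc_15_2 lc_c_rc_15_2 lc_c_rc_8_3 lc_c_rc_14_6 lc_c_rc_8_3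 lc_c_rc_16_2 lc_c_rc_8_3 lc_c_rc_30_10 lc_c_rc_13_0 lc_c_rc_15_2 lc_c_rc_15_2 lc_c_rc_8_3 lc_c_rc_15_0 lc_c_rc_8_3 lc_c_rc_8_3 lc_c_rc_8_3 lc_c_rc_17_2 lc_c_rc_8_3 lc_c_rc_8_3 lc_c_rc_32_37 lc_c_rc_17_2 lc_c_rc_8_3 lc_c_rc_8_3 lc_c_rc_16_2 lc_c_rc_28_4 lc_c_rc_8_1 lc_c_rc_8_3 lc_c_rc_13_0 lc_c_rc_16_2 lc_c_rc_28_4 lc_c_rc_16_2 lc_c_rc_13_0 lc_c_rc_17_2 lc_c_rc_28_4 lc_c_rc_17_2 lc_c_rc_16_2 lc_c_rc_16_2 lc_c_rc_17_2 lc_c_rc_17_2) (@D3.rec (fun _ => (Cert rels S Gen.c)) lc_c_rc_8_3 lc_c_rc_8_3 lc_c_rc_13_0 lc_c_rc_17_2 lc_c_rc_13_0 lc_c_rc_16_2 lc_c_rc_16_2 lc_c_rc_13_0 lc_c_rc_15_2 lc_c_rc_16_2 lc_c_rc_17_2 lc_c_rc_13_0 lc_c_rc_2_1 lc_c_rc_17_2 lc_c_rc_16_2 lc_c_rc_16_2 lc_c_rc_17_0 lc_c_rc_17_2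 lc_c_rc_17_2 lc_c_rc_17_2 lc_c_rc_28_4 lc_c_rc_2_1 lc_c_rc_8_3 lc_c_rc_16_2 lc_c_rc_13_0 lc_c_Cert_tree lc_c_rc_16_2 lc_c_rc_17_2 lc_c_rc_16_2 lc_c_rc_13_0 lc_c_Cert_tree lc_c_rc_17_2 lc_c_rc_16_2 lc_c_rc_2_3 lc_c_rc_13_0 lc_c_rc_13_0 lc_c_rc_15_0 lc_c_rc_14_10 lc_c_rc_8_3 lc_c_rc_8_3) (@D3.rec (fun _ => (Cert rels S Gen.c)) lc_c_rc_8_3 lc_c_rc_8_3 lc_c_rc_13_0 lc_c_rc_17_2 lc_c_rc_8_3 lc_c_rc_15_2 lc_c_rc_8_3 lc_c_rc_17_2 lc_c_rc_16_2 lc_c_rc_17_2 lc_c_Cert_tree lc_c_Cert_tree lc_c_Cert_tree lc_c_rc_13_0 lc_c_rc_16_2 lc_c_rc_13_0 lc_c_rc_15_0 lc_c_rc_15_2 lc_c_rc_13_0 lc_c_rc_13_0 lc_c_rc_8_3 lc_c_Cert_tree lc_c_rc_17_2 lc_c_rc_15_2 lc_c_rc_15_0 lc_c_rc_16_2 lc_c_rc_15_0 lc_c_rc_8_3 lc_c_rc_15_2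 lc_c_rc_17_2 lc_c_rc_13_0 lc_c_rc_16_2 lc_c_rc_8_3 lc_c_rc_15_2 lc_c_rc_8_3 lc_c_rc_16_2 lc_c_rc_17_2 lc_c_rc_16_2 lc_c_Cert_tree lc_c_Cert_tree) (@D3.rec (fun _ => (Cert rels S Gen.c)) lc_c_Cert_tree lc_c_rc_13_0 lc_c_rc_17_2 lc_c_rc_13_0 lc_c_rc_15_0 lc_c_rc_15_2 lc_c_rc_2_1 lc_c_rc_13_0 lc_c_rc_8_3 lc_c_Cert_tree lc_c_rc_16_2 lc_c_rc_2_1 lc_c_rc_16_0 lc_c_rc_17_2 lc_c_rc_16_0 lc_c_rc_8_3 lc_c_rc_17_0 lc_c_rc_16_2 lc_c_rc_2_3 lc_c_rc_13_0 lc_c_rc_16_2 lc_c_rc_8_3 lc_c_rc_14_4 lc_c_rc_13_0 lc_c_rc_17_2 lc_c_rc_8_3 lc_c_rc_2_1 lc_c_rc_2_1 lc_c_rc_28_2 lc_c_rc_17_2 lc_c_rc_16_0 lc_c_rc_17_2 lc_c_rc_13_0 lc_c_rc_28_6 lc_c_rc_13_0 lc_c_rc_2_1 lc_c_rc_15_0 lc_c_rc_17_2 lc_c_rc_16_0 lc_c_rc_32_29)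 (@D3.rec (fun _ => (Cert rels S Gen.c)) lc_c_rc_13_0 lc_c_rc_17_2 lc_c_rc_8_3 lc_c_rc_16_2 lc_c_rc_8_3 lc_c_rc_16_2 lc_c_rc_28_6 lc_c_rc_15_2 lc_c_rc_8_1 lc_c_rc_13_0 lc_c_rc_15_0 lc_c_rc_13_0 lc_c_rc_17_2 lc_c_rc_16_0 lc_c_rc_17_2 lc_c_rc_8_1 lc_c_rc_8_3 lc_c_rc_2_3 lc_c_rc_17_2 lc_c_rc_8_3 lc_c_rc_15_0 lc_c_rc_2_1 lc_c_rc_8_3 lc_c_rc_13_0 lc_c_rc_15_2 lc_c_rc_8_3 lc_c_rc_15_2 lc_c_rc_2_3 lc_c_Cert_tree lc_c_rc_16_2 lc_c_rc_28_2 lc_c_rc_13_0 lc_c_rc_2_3 lc_c_rc_16_2 lc_c_rc_15_2 lc_c_rc_8_3 lc_c_rc_17_2 lc_c_rc_17_2 lc_c_rc_16_2 lc_c_rc_15_2)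
def ce_c_17 : D2 → D3 → (Cert rels S Gen.c) := @D2.rec (fun _ => D3 → (Cert rels S Gen.c)) (@D3.rec (fun _ => (Cert rels S Gen.c)) lc_c_rc_16_2 lc_c_rc_16_2 lc_c_rc_15_2 lc_c_rc_2_1 lc_c_rc_8_3 lc_c_rc_16_2 lc_c_rc_17_2 lc_c_rc_28_8 lc_c_rc_16_2 lc_c_rc_8_3 lc_c_rc_17_2 lc_c_rc_17_2 lc_c_Cert_tree lc_c_rc_8_3 lc_c_rc_13_0 lc_c_rc_16_2 lc_c_rc_15_2 lc_c_rc_16_2 lc_c_rc_2_1 lc_c_rc_8_1 lc_c_rc_28_2 lc_c_rc_16_2 lc_c_rc_16_0 lc_c_rc_15_0 lc_c_rc_13_0 lc_c_rc_28_6 lc_c_rc_13_0 lc_c_rc_15_2 lc_c_rc_17_0 lc_c_rc_16_2 lc_c_rc_16_0 lc_c_rc_8_1 lc_c_rc_13_0 lc_c_rc_16_2 lc_c_rc_8_3 lc_c_rc_17_2 lc_c_rc_30_14 lc_c_rc_17_2 lc_c_rc_28_6 lc_c_rc_15_2) (@D3.rec (fun _ => (Cert rels S Gen.c)) lc_c_rc_16_2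 lc_c_rc_13_0 lc_c_rc_2_1 lc_c_rc_16_0 lc_c_rc_8_1 lc_c_rc_8_3 lc_c_rc_15_0 lc_c_rc_16_2 lc_c_rc_2_1 lc_c_rc_15_0 lc_c_rc_16_2 lc_c_rc_17_2 lc_c_rc_13_0 lc_c_rc_15_2 lc_c_rc_2_1 lc_c_rc_15_2 lc_c_rc_15_2 lc_c_Cert_tree lc_c_rc_28_2 lc_c_rc_13_0 lc_c_rc_2_3 lc_c_rc_17_2 lc_c_rc_2_3 lc_c_rc_2_3 lc_c_rc_8_3 lc_c_rc_17_2 lc_c_rc_2_3 lc_c_rc_15_2 lc_c_rc_17_2 lc_c_rc_17_2 lc_c_rc_15_2 lc_c_rc_2_1 lc_c_rc_8_3 lc_c_rc_16_2 lc_c_rc_17_2 lc_c_rc_28_8 lc_c_rc_17_2 lc_c_rc_8_3 lc_c_rc_16_2 lc_c_rc_16_2) (@D3.rec (fun _ => (Cert rels S Gen.c)) lc_c_Cert_tree lc_c_rc_30_14 lc_c_rc_13_0 lc_c_rc_17_2 lc_c_rc_15_2 lc_c_rc_17_2 lc_c_rc_8_3 lc_c_rc_13_0 lc_c_rc_8_1 lc_c_rc_16_2 lc_c_rc_17_2 lc_c_rc_13_0 lc_c_rc_28_6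 lc_c_rc_15_2 lc_c_rc_16_2 lc_c_rc_17_2 lc_c_rc_17_2 lc_c_rc_8_1 lc_c_rc_16_2 lc_c_rc_30_6 lc_c_rc_2_1 lc_c_rc_14_6 lc_c_rc_16_2 lc_c_rc_13_1 lc_c_rc_17_2 lc_c_rc_2_3 lc_c_rc_2_1 lc_c_rc_13_0 lc_c_rc_17_2 lc_c_rc_2_1 lc_c_rc_28_6 lc_c_rc_15_2 lc_c_rc_16_2 lc_c_rc_17_2 lc_c_rc_15_2 lc_c_rc_15_2 lc_c_rc_28_4 lc_c_rc_2_1 lc_c_rc_30_10 lc_c_rc_17_2) (@D3.rec (fun _ => (Cert rels S Gen.c)) lc_c_rc_14_14 lc_c_rc_16_2 lc_c_rc_8_3 lc_c_rc_2_1 lc_c_rc_2_1 lc_c_rc_17_2 lc_c_rc_2_1 lc_c_rc_13_0 lc_c_rc_8_1 lc_c_rc_16_2 lc_c_Cert_tree lc_c_rc_28_6 lc_c_rc_15_2 lc_c_rc_16_2 lc_c_rc_17_2 lc_c_rc_16_2 lc_c_rc_28_2 lc_c_rc_8_3 lc_c_rc_2_1 lc_c_rc_2_1 lc_c_rc_17_2 lc_c_rc_2_1 lc_c_rc_13_0 lc_c_rc_8_1 lc_c_rc_28_6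 lc_c_rc_15_2 lc_c_rc_16_2 lc_c_rc_28_2 lc_c_rc_8_3 lc_c_rc_8_3 lc_c_rc_15_2 lc_c_rc_16_2 lc_c_rc_16_0 lc_c_rc_32_70 lc_c_rc_14_2 lc_c_rc_15_0 lc_c_rc_2_1 lc_c_rc_2_1 lc_c_rc_2_1 lc_c_rc_17_2) (@D3.rec (fun _ => (Cert rels S Gen.c)) lc_c_rc_15_2 lc_c_rc_17_2 lc_c_rc_16_0 lc_c_rc_28_4 lc_c_rc_28_6 lc_c_rc_16_2 lc_c_rc_2_1 lc_c_rc_2_1 lc_c_rc_28_8 lc_c_rc_30_10 lc_c_rc_13_0 lc_c_rc_13_1 lc_c_rc_2_1 lc_c_rc_17_2 lc_c_rc_15_2 lc_c_rc_17_2 lc_c_rc_17_2 lc_c_rc_30_10 lc_c_rc_13_0 lc_c_rc_15_2 lc_c_rc_28_4 lc_c_rc_16_2 lc_c_rc_15_2 lc_c_Cert_tree lc_c_rc_16_2 lc_c_rc_15_2 lc_c_rc_15_2 lc_c_rc_16_2 lc_c_rc_30_14 lc_c_rc_28_2 lc_c_rc_13_0 lc_c_rc_15_2 lc_c_rc_16_2 lc_c_rc_2_3 lc_c_rc_30_6 lc_c_Cert_tree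 lc_c_rc_17_2 lc_c_rc_15_2 lc_c_rc_13_0 lc_c_rc_13_0) (@D3.rec (fun _ => (Cert rels S Gen.c)) lc_c_rc_28_6 lc_c_rc_17_2 lc_c_Cert_tree lc_c_rc_17_2 lc_c_rc_2_1 lc_c_rc_15_2 lc_c_rc_15_2 lc_c_rc_28_4 lc_c_rc_16_2 lc_c_rc_2_1 lc_c_rc_8_1 lc_c_rc_15_2 lc_c_rc_16_2 lc_c_rc_15_2 lc_c_rc_13_1 lc_c_rc_2_1 lc_c_rc_15_2 lc_c_Cert_tree lc_c_rc_17_2 lc_c_Cert_tree lc_c_rc_13_0 lc_c_rc_16_2 lc_c_rc_13_0 lc_c_rc_15_2 lc_c_rc_28_6 lc_c_rc_16_2 lc_c_Cert_tree lc_c_rc_2_1 lc_c_rc_15_2 lc_c_rc_15_2 lc_c_rc_28_4 lc_c_rc_17_2 lc_c_rc_17_0 lc_c_rc_15_2 lc_c_rc_15_0 lc_c_rc_15_2 lc_c_rc_8_1 lc_c_rc_2_1 lc_c_rc_15_2 lc_c_Cert_tree) (@D3.rec (fun _ => (Cert rels S Gen.c)) lc_c_rc_16_2 lc_c_Cert_tree lc_c_rc_13_0 lc_c_rc_17_2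 lc_c_rc_28_2 lc_c_rc_2_1 lc_c_rc_13_0 lc_c_rc_15_2 lc_c_rc_15_2 lc_c_rc_13_0 lc_c_rc_15_2 lc_c_rc_16_0 lc_c_rc_28_6 lc_c_rc_17_2 lc_c_rc_2_1 lc_c_rc_8_5 lc_c_rc_15_2 lc_c_rc_17_0 lc_c_rc_15_2 lc_c_rc_17_2 lc_c_rc_17_2 lc_c_rc_16_2 lc_c_rc_28_6 lc_c_rc_8_3 lc_c_rc_2_1 lc_c_rc_2_3 lc_c_rc_15_2 lc_c_rc_30_10 lc_c_rc_15_2 lc_c_rc_16_2 lc_c_rc_15_2 lc_c_rc_17_2 lc_c_rc_15_2 lc_c_rc_28_6 lc_c_rc_15_2 lc_c_rc_28_4 lc_c_rc_15_2 lc_c_rc_28_6 lc_c_rc_14_12 lc_c_rc_13_0) (@D3.rec (fun _ => (Cert rels S Gen.c)) lc_c_rc_13_1 lc_c_rc_15_2 lc_c_rc_28_8 lc_c_rc_14_12 lc_c_rc_13_0 lc_c_rc_2_1 lc_c_Cert_tree lc_c_rc_17_2 lc_c_rc_13_0 lc_c_Cert_tree lc_c_rc_16_2 lc_c_rc_13_0 lc_c_rc_32_47 lc_c_rc_17_2 lc_c_rc_13_0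 lc_c_rc_17_2 lc_c_rc_17_2 lc_c_rc_17_2 lc_c_rc_32_47 lc_c_rc_16_2 lc_c_rc_13_0 lc_c_rc_28_6 lc_c_rc_17_2 lc_c_rc_17_2 lc_c_rc_15_2 lc_c_rc_2_1 lc_c_rc_15_2 lc_c_rc_16_2 lc_c_rc_28_2 lc_c_rc_2_1 lc_c_rc_16_2 lc_c_rc_8_3 lc_c_rc_15_2 lc_c_rc_28_4 lc_c_rc_15_2 lc_c_rc_17_2 lc_c_rc_28_6 lc_c_rc_2_1 lc_c_rc_17_2 lc_c_rc_8_3) (@D3.rec (fun _ => (Cert rels S Gen.c)) lc_c_rc_2_3 lc_c_rc_16_2 lc_c_rc_17_2 lc_c_rc_15_2 lc_c_rc_15_2 lc_c_rc_16_2 lc_c_rc_17_2 lc_c_rc_15_2 lc_c_Cert_tree lc_c_rc_13_0 lc_c_rc_8_3 lc_c_Cert_tree lc_c_rc_13_0 lc_c_rc_17_2 lc_c_Cert_tree lc_c_rc_13_0 lc_c_rc_8_3 lc_c_Cert_tree lc_c_rc_13_0 lc_c_rc_15_2 lc_c_rc_13_0 lc_c_rc_16_2 lc_c_rc_17_2 lc_c_rc_17_2 lc_c_rc_8_3 lc_c_rc_2_1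 lc_c_rc_13_0 lc_c_rc_8_3 lc_c_rc_28_2 lc_c_rc_13_0 lc_c_rc_8_3 lc_c_rc_16_2 lc_c_rc_8_3 lc_c_rc_8_3 lc_c_rc_30_2 lc_c_rc_30_10 lc_c_rc_14_2 lc_c_rc_8_5 lc_c_rc_17_2 lc_c_rc_17_0) (@D3.rec (fun _ => (Cert rels S Gen.c)) lc_c_rc_28_2 lc_c_rc_8_3 lc_c_rc_16_2 lc_c_rc_17_0 lc_c_rc_2_1 lc_c_rc_17_2 lc_c_rc_2_1 lc_c_rc_17_2 lc_c_rc_8_3 lc_c_rc_13_0 lc_c_rc_16_2 lc_c_rc_17_2 lc_c_rc_8_3 lc_c_rc_17_2 lc_c_rc_2_1 lc_c_rc_13_0 lc_c_rc_2_3 lc_c_rc_28_2 lc_c_rc_13_0 lc_c_rc_13_1 lc_c_rc_17_2 lc_c_rc_8_3 lc_c_rc_8_3 lc_c_rc_28_8 lc_c_rc_2_1 lc_c_rc_28_6 lc_c_rc_16_2 lc_c_rc_15_2 lc_c_rc_15_2 lc_c_rc_28_2 lc_c_rc_8_3 lc_c_rc_17_2 lc_c_rc_15_2 lc_c_rc_13_1 lc_c_rc_16_2 lc_c_rc_2_1 lc_c_rc_16_2 lc_c_rc_8_3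 lc_c_rc_13_0 lc_c_rc_28_8) (@D3.rec (fun _ => (Cert rels S Gen.c)) lc_c_rc_28_4 lc_c_rc_2_3 lc_c_rc_28_4 lc_c_rc_17_2 lc_c_rc_28_6 lc_c_rc_15_2 lc_c_rc_15_0 lc_c_rc_16_2 lc_c_rc_17_2 lc_c_rc_8_3 lc_c_rc_17_2 lc_c_rc_28_6 lc_c_rc_28_2 lc_c_rc_32_63 lc_c_rc_2_1 lc_c_rc_2_1 lc_c_rc_17_2 lc_c_Cert_tree lc_c_rc_2_1 lc_c_Cert_tree lc_c_rc_28_4 lc_c_Cert_tree lc_c_Cert_tree lc_c_rc_13_0 lc_c_rc_16_2 lc_c_Cert_tree lc_c_rc_13_0 lc_c_rc_15_2 lc_c_rc_13_0 lc_c_rc_16_2 lc_c_rc_16_2 lc_c_rc_17_2 lc_c_rc_15_2 lc_c_rc_17_2 lc_c_rc_8_5 lc_c_rc_13_1 lc_c_rc_13_0 lc_c_rc_28_6 lc_c_rc_16_2 lc_c_rc_32_8) (@D3.rec (fun _ => (Cert rels S Gen.c)) lc_c_Cert_tree lc_c_rc_13_0 lc_c_rc_15_2 lc_c_rc_16_2 lc_c_rc_8_3 lc_c_rc_16_2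 lc_c_rc_16_2 lc_c_rc_17_2 lc_c_rc_28_6 lc_c_rc_17_2 lc_c_rc_8_1 lc_c_rc_16_2 lc_c_rc_13_0 lc_c_rc_28_8 lc_c_rc_15_2 lc_c_rc_2_3 lc_c_rc_14_10 lc_c_rc_16_2 lc_c_rc_28_2 lc_c_rc_13_1 lc_c_rc_17_2 lc_c_rc_2_3 lc_c_rc_28_6 lc_c_rc_8_3 lc_c_rc_16_2 lc_c_rc_2_1 lc_c_rc_28_2 lc_c_rc_32_32 lc_c_rc_2_1 lc_c_rc_28_6 lc_c_rc_16_2 lc_c_Cert_tree lc_c_rc_2_1 lc_c_Cert_tree lc_c_rc_15_0 lc_c_Cert_tree lc_c_Cert_tree lc_c_rc_13_0 lc_c_rc_17_2 lc_c_Cert_tree) (@D3.rec (fun _ => (Cert rels S Gen.c)) lc_c_rc_13_0 lc_c_rc_2_3 lc_c_rc_13_0 lc_c_rc_17_2 lc_c_rc_17_2 lc_c_rc_16_2 lc_c_rc_2_1 lc_c_rc_16_2 lc_c_rc_28_4 lc_c_rc_17_2 lc_c_rc_13_0 lc_c_rc_28_6 lc_c_rc_17_2 lc_c_rc_16_0 lc_c_rc_13_0 lc_c_rc_16_0 lc_c_rc_30_10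 lc_c_rc_17_2 lc_c_rc_17_2 lc_c_rc_16_2 lc_c_rc_28_6 lc_c_rc_16_2 lc_c_rc_8_1 lc_c_rc_17_2 lc_c_rc_13_0 lc_c_Cert_tree lc_c_rc_2_1 lc_c_rc_8_3 lc_c_rc_2_1 lc_c_rc_2_1 lc_c_rc_17_2 lc_c_rc_17_2 lc_c_Cert_tree lc_c_rc_28_6 lc_c_Cert_tree lc_c_Cert_tree lc_c_rc_13_0 lc_c_rc_16_2 lc_c_rc_13_0 lc_c_rc_28_6) (@D3.rec (fun _ => (Cert rels S Gen.c)) lc_c_rc_28_4 lc_c_rc_16_2 lc_c_Cert_tree lc_c_Cert_tree lc_c_rc_13_0 lc_c_rc_13_0 lc_c_rc_13_0 lc_c_rc_8_3 lc_c_rc_16_2 lc_c_rc_13_0 lc_c_Cert_tree lc_c_rc_15_2 lc_c_rc_8_3 lc_c_rc_2_1 lc_c_rc_16_0 lc_c_rc_16_2 lc_c_Cert_tree lc_c_rc_16_2 lc_c_rc_28_6 lc_c_Cert_tree lc_c_Cert_tree lc_c_rc_13_0 lc_c_rc_17_2 lc_c_rc_13_0 lc_c_rc_28_6 lc_c_rc_28_4 lc_c_rc_17_2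 lc_c_Cert_tree lc_c_Cert_tree lc_c_rc_13_0 lc_c_rc_13_0 lc_c_rc_13_0 lc_c_rc_8_3 lc_c_rc_17_2 lc_c_rc_13_1 lc_c_rc_28_2 lc_c_rc_8_1 lc_c_rc_17_2 lc_c_rc_17_2 lc_c_rc_28_6) (@D3.rec (fun _ => (Cert rels S Gen.c)) lc_c_rc_2_1 lc_c_rc_28_2 lc_c_rc_2_1 lc_c_rc_14_2 lc_c_rc_13_0 lc_c_rc_16_2 lc_c_rc_16_0 lc_c_rc_16_2 lc_c_Cert_tree lc_c_rc_13_0 lc_c_rc_16_2 lc_c_rc_16_2 lc_c_rc_28_4 lc_c_rc_17_2 lc_c_rc_13_1 lc_c_Cert_tree lc_c_rc_13_0 lc_c_rc_17_2 lc_c_Cert_tree lc_c_rc_15_2 lc_c_Cert_tree lc_c_rc_13_0 lc_c_rc_16_2 lc_c_rc_16_0 lc_c_rc_13_0 lc_c_rc_16_2 lc_c_rc_17_0 lc_c_rc_16_2 lc_c_rc_16_2 lc_c_Cert_tree lc_c_rc_13_0 lc_c_Cert_tree lc_c_rc_28_4 lc_c_Cert_tree lc_c_rc_13_0 lc_c_rc_16_2 lc_c_rc_8_3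 lc_c_rc_28_4 lc_c_rc_13_0 lc_c_rc_15_2) (@D3.rec (fun _ => (Cert rels S Gen.c)) lc_c_rc_28_4 lc_c_rc_15_2 lc_c_rc_14_6 lc_c_rc_13_0 lc_c_rc_15_2 lc_c_rc_8_1 lc_c_rc_15_0 lc_c_rc_17_2 lc_c_rc_15_2 lc_c_rc_17_2 lc_c_rc_17_2 lc_c_rc_2_1 lc_c_rc_17_2 lc_c_rc_16_0 lc_c_rc_28_2 lc_c_rc_8_1 lc_c_rc_16_2 lc_c_rc_28_8 lc_c_rc_17_2 lc_c_rc_28_4 lc_c_rc_28_2 lc_c_rc_8_3 lc_c_rc_28_6 lc_c_rc_13_0 lc_c_rc_17_2 lc_c_rc_2_1 lc_c_Cert_tree lc_c_rc_13_0 lc_c_rc_8_5 lc_c_rc_28_6 lc_c_rc_28_2 lc_c_rc_16_2 lc_c_Cert_tree lc_c_rc_13_0 lc_c_rc_16_2 lc_c_Cert_tree lc_c_rc_15_2 lc_c_Cert_tree lc_c_rc_13_0 lc_c_rc_17_2) (@D3.rec (fun _ => (Cert rels S Gen.c)) lc_c_rc_16_2 lc_c_rc_13_0 lc_c_rc_17_2 lc_c_rc_2_3 lc_c_rc_17_2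 lc_c_rc_16_2 lc_c_Cert_tree lc_c_rc_13_0 lc_c_rc_28_4 lc_c_rc_14_12 lc_c_Cert_tree lc_c_rc_13_0 lc_c_rc_17_2 lc_c_rc_8_3 lc_c_rc_28_4 lc_c_rc_13_0 lc_c_rc_15_2 lc_c_rc_28_6 lc_c_rc_16_2 lc_c_rc_28_2 lc_c_rc_13_0 lc_c_rc_28_6 lc_c_rc_8_1 lc_c_rc_28_6 lc_c_rc_16_2 lc_c_rc_28_2 lc_c_rc_16_2 lc_c_rc_16_2 lc_c_rc_17_2 lc_c_rc_16_2 lc_c_Cert_tree lc_c_rc_17_2 lc_c_rc_15_2 lc_c_rc_28_4 lc_c_rc_15_2 lc_c_rc_17_2 lc_c_Cert_tree lc_c_Cert_tree lc_c_Cert_tree lc_c_rc_13_0) (@D3.rec (fun _ => (Cert rels S Gen.c)) lc_c_rc_2_1 lc_c_rc_28_4 lc_c_Cert_tree lc_c_rc_28_4 lc_c_rc_2_1 lc_c_rc_8_3 lc_c_rc_16_2 lc_c_Cert_tree lc_c_rc_2_1 lc_c_rc_16_2 lc_c_Cert_tree lc_c_rc_17_0 lc_c_Cert_tree lc_c_rc_15_2 lc_c_rc_13_0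 lc_c_rc_16_0 lc_c_rc_13_0 lc_c_rc_17_2 lc_c_rc_2_1 lc_c_rc_16_2 lc_c_rc_17_2 lc_c_rc_13_0 lc_c_rc_17_2 lc_c_rc_13_0 lc_c_rc_17_2 lc_c_rc_8_3 lc_c_rc_28_2 lc_c_rc_13_0 lc_c_rc_15_2 lc_c_rc_28_6 lc_c_rc_8_3 lc_c_rc_17_2 lc_c_Cert_tree lc_c_rc_8_3 lc_c_rc_16_2 lc_c_rc_17_2 lc_c_rc_2_3 lc_c_rc_2_1 lc_c_rc_8_3 lc_c_rc_30_2) (@D3.rec (fun _ => (Cert rels S Gen.c)) lc_c_rc_17_2 lc_c_rc_15_2 lc_c_rc_8_3 lc_c_rc_15_2 lc_c_rc_15_2 lc_c_rc_28_6 lc_c_Cert_tree lc_c_Cert_tree lc_c_rc_13_0 lc_c_rc_16_2 lc_c_rc_13_0 lc_c_rc_16_2 lc_c_Cert_tree lc_c_rc_16_2 lc_c_rc_15_2 lc_c_rc_28_4 lc_c_rc_8_3 lc_c_rc_16_2 lc_c_rc_17_0 lc_c_Cert_tree lc_c_Cert_tree lc_c_rc_13_0 lc_c_rc_30_14 lc_c_rc_28_4 lc_c_Cert_tree lc_c_rc_28_4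 lc_c_rc_16_2 lc_c_rc_8_3 lc_c_rc_17_2 lc_c_rc_2_1 lc_c_rc_17_2 lc_c_Cert_tree lc_c_Cert_tree lc_c_Cert_tree lc_c_rc_17_0 lc_c_rc_16_0 lc_c_rc_13_0 lc_c_rc_16_2 lc_c_rc_16_2 lc_c_rc_13_0) (@D3.rec (fun _ => (Cert rels S Gen.c)) lc_c_rc_17_2 lc_c_rc_2_1 lc_c_rc_17_2 lc_c_rc_13_0 lc_c_rc_16_2 lc_c_rc_13_0 lc_c_rc_16_2 lc_c_rc_8_3 lc_c_rc_28_2 lc_c_rc_13_0 lc_c_rc_15_2 lc_c_rc_28_6 lc_c_rc_8_3 lc_c_rc_16_2 lc_c_Cert_tree lc_c_rc_8_3 lc_c_rc_16_2 lc_c_rc_17_2 lc_c_rc_2_3 lc_c_rc_2_1 lc_c_rc_16_2 lc_c_rc_17_2 lc_c_rc_16_0 lc_c_rc_28_4 lc_c_Cert_tree lc_c_Cert_tree lc_c_rc_13_0 lc_c_rc_17_2 lc_c_rc_13_0 lc_c_rc_17_2 lc_c_rc_17_2 lc_c_rc_17_2 lc_c_Cert_tree lc_c_rc_13_0 lc_c_rc_16_0 lc_c_rc_13_0 lc_c_rc_17_2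 lc_c_rc_2_1 lc_c_rc_15_2 lc_c_rc_28_8) (@D3.rec (fun _ => (Cert rels S Gen.c)) lc_c_Cert_tree lc_c_rc_28_4 lc_c_rc_13_0 lc_c_rc_28_6 lc_c_rc_17_2 lc_c_rc_8_3 lc_c_rc_2_1 lc_c_rc_16_0 lc_c_rc_2_1 lc_c_rc_16_2 lc_c_Cert_tree lc_c_rc_28_8 lc_c_rc_15_2 lc_c_rc_17_0 lc_c_rc_2_3 lc_c_rc_13_0 lc_c_rc_17_2 lc_c_rc_2_3 lc_c_rc_16_2 lc_c_rc_16_2 lc_c_Cert_tree lc_c_rc_17_0 lc_c_rc_13_0 lc_c_rc_16_2 lc_c_rc_13_0 lc_c_rc_15_0 lc_c_rc_30_10 lc_c_Cert_tree lc_c_rc_16_2 lc_c_rc_2_1 lc_c_rc_13_0 lc_c_rc_28_4 lc_c_rc_8_3 lc_c_rc_17_2 lc_c_rc_2_1 lc_c_rc_2_1 lc_c_rc_17_2 lc_c_Cert_tree lc_c_rc_13_1 lc_c_rc_15_2) (@D3.rec (fun _ => (Cert rels S Gen.c)) lc_c_rc_30_2 lc_c_rc_13_0 lc_c_rc_16_2 lc_c_rc_13_0 lc_c_rc_14_10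 lc_c_rc_8_1 lc_c_rc_17_2 lc_c_rc_28_8 lc_c_rc_16_2 lc_c_rc_2_1 lc_c_rc_16_2 lc_c_rc_17_2 lc_c_rc_13_0 lc_c_rc_15_2 lc_c_rc_28_4 lc_c_rc_28_6 lc_c_rc_13_0 lc_c_rc_15_2 lc_c_rc_16_2 lc_c_rc_28_6 lc_c_rc_16_2 lc_c_rc_13_0 lc_c_rc_13_0 lc_c_rc_8_1 lc_c_Cert_tree lc_c_rc_8_1 lc_c_rc_16_2 lc_c_rc_28_6 lc_c_rc_13_1 lc_c_rc_2_1 lc_c_rc_13_0 lc_c_rc_15_2 lc_c_Cert_tree lc_c_rc_28_6 lc_c_rc_28_6 lc_c_rc_28_2 lc_c_rc_13_0 lc_c_rc_8_3 lc_c_rc_8_1 lc_c_rc_15_2) (@D3.rec (fun _ => (Cert rels S Gen.c)) lc_c_rc_15_2 lc_c_Cert_tree lc_c_rc_13_0 lc_c_rc_15_2 lc_c_rc_8_3 lc_c_rc_30_2 lc_c_Cert_tree lc_c_rc_16_2 lc_c_rc_15_2 lc_c_rc_15_2 lc_c_rc_13_0 lc_c_rc_2_1 lc_c_rc_8_1 lc_c_rc_15_2 lc_c_rc_15_2 lc_c_Cert_tree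 lc_c_rc_13_0 lc_c_rc_15_2 lc_c_rc_15_2 lc_c_Cert_tree lc_c_rc_17_2 lc_c_rc_15_2 lc_c_rc_16_2 lc_c_rc_15_2 lc_c_rc_28_4 lc_c_rc_8_3 lc_c_rc_16_2 lc_c_rc_13_0 lc_c_rc_15_2 lc_c_rc_17_2 lc_c_rc_17_2 lc_c_rc_17_2 lc_c_rc_30_10 lc_c_rc_17_2 lc_c_rc_15_2 lc_c_rc_17_2 lc_c_rc_8_3 lc_c_rc_15_2 lc_c_rc_32_29 lc_c_rc_16_2) (@D3.rec (fun _ => (Cert rels S Gen.c)) lc_c_rc_16_2 lc_c_rc_13_0 lc_c_rc_13_0 lc_c_rc_13_0 lc_c_rc_28_6 lc_c_rc_16_2 lc_c_rc_8_1 lc_c_rc_15_2 lc_c_rc_13_0 lc_c_rc_28_6 lc_c_rc_8_1 lc_c_rc_15_2 lc_c_rc_15_2 lc_c_rc_16_2 lc_c_rc_15_2 lc_c_rc_17_2 lc_c_rc_32_32 lc_c_rc_32_44 lc_c_rc_15_2 lc_c_rc_28_6 lc_c_rc_17_2 lc_c_rc_28_8 lc_c_Cert_tree lc_c_rc_15_2 lc_c_rc_13_0 lc_c_rc_15_2 lc_c_rc_2_1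 lc_c_rc_8_3 lc_c_rc_15_0 lc_c_rc_15_0 lc_c_rc_17_2 lc_c_rc_17_2 lc_c_rc_2_3 lc_c_rc_2_3 lc_c_rc_2_1 lc_c_rc_16_2 lc_c_rc_28_8 lc_c_Cert_tree lc_c_rc_2_3 lc_c_rc_13_0) (@D3.rec (fun _ => (Cert rels S Gen.c)) lc_c_rc_16_0 lc_c_rc_2_1 lc_c_rc_8_3 lc_c_rc_2_1 lc_c_rc_15_0 lc_c_rc_16_2 lc_c_rc_13_0 lc_c_rc_30_6 lc_c_rc_8_3 lc_c_rc_15_2 lc_c_rc_16_2 lc_c_rc_16_2 lc_c_rc_13_0 lc_c_rc_15_2 lc_c_rc_15_0 lc_c_rc_15_2 lc_c_rc_17_2 lc_c_rc_17_2 lc_c_Cert_tree lc_c_rc_13_0 lc_c_Cert_tree lc_c_rc_13_0 lc_c_rc_13_0 lc_c_Cert_tree lc_c_rc_13_0 lc_c_Cert_tree lc_c_rc_15_2 lc_c_rc_2_1 lc_c_rc_2_1 lc_c_rc_8_3 lc_c_rc_2_1 lc_c_rc_15_2 lc_c_rc_8_3 lc_c_rc_2_1 lc_c_rc_2_1 lc_c_rc_2_1 lc_c_rc_28_2 lc_c_rc_2_1 lc_c_rc_2_1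 lc_c_rc_16_2) (@D3.rec (fun _ => (Cert rels S Gen.c)) lc_c_rc_32_39 lc_c_rc_15_2 lc_c_rc_17_2 lc_c_rc_13_0 lc_c_rc_16_2 lc_c_Cert_tree lc_c_rc_15_0 lc_c_rc_28_6 lc_c_rc_13_1 lc_c_rc_2_1 lc_c_rc_17_2 lc_c_rc_8_3 lc_c_rc_8_1 lc_c_rc_16_2 lc_c_rc_13_0 lc_c_rc_17_2 lc_c_Cert_tree lc_c_rc_15_0 lc_c_rc_15_2 lc_c_rc_13_0 lc_c_Cert_tree lc_c_rc_8_3 lc_c_rc_2_3 lc_c_rc_13_0 lc_c_rc_14_4 lc_c_rc_8_3 lc_c_rc_13_0 lc_c_Cert_tree lc_c_rc_32_34 lc_c_rc_2_3 lc_c_rc_13_0 lc_c_rc_28_4 lc_c_Cert_tree lc_c_rc_13_0 lc_c_Cert_tree lc_c_rc_13_0 lc_c_rc_15_2 lc_c_rc_13_0 lc_c_rc_8_3 lc_c_rc_15_2)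
def ce_c_18 : D2 → D3 → (Cert rels S Gen.c) := @D2.rec (fun _ => D3 → (Cert rels S Gen.c)) (@D3.rec (fun _ => (Cert rels S Gen.c)) lc_c_rc_2_1 lc_c_rc_2_1 lc_c_rc_30_10 lc_c_rc_17_2 lc_c_rc_2_3 lc_c_rc_8_3 lc_c_rc_15_2 lc_c_rc_15_2 lc_c_rc_13_0 lc_c_rc_8_3 lc_c_rc_32_47 lc_c_rc_2_1 lc_c_rc_2_1 lc_c_rc_16_2 lc_c_rc_17_2 lc_c_rc_2_3 lc_c_rc_8_3 lc_c_rc_15_2 lc_c_rc_8_3 lc_c_rc_2_1 lc_c_rc_17_0 lc_c_rc_8_3 lc_c_rc_13_0 lc_c_rc_8_3 lc_c_rc_17_2 lc_c_rc_16_2 lc_c_rc_28_4 lc_c_rc_2_3 lc_c_rc_16_2 lc_c_rc_15_2 lc_c_rc_8_3 lc_c_rc_15_2 lc_c_rc_16_2 lc_c_rc_16_2 lc_c_Cert_tree lc_c_rc_2_1 lc_c_rc_17_2 lc_c_rc_2_1 lc_c_rc_16_2 lc_c_rc_17_2) (@D3.rec (fun _ => (Cert rels S Gen.c)) lc_c_rc_8_3 lc_c_rc_2_1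 lc_c_rc_15_2 lc_c_rc_28_6 lc_c_rc_28_6 lc_c_rc_16_2 lc_c_rc_8_5 lc_c_rc_17_2 lc_c_rc_15_2 lc_c_Cert_tree lc_c_rc_17_2 lc_c_rc_17_2 lc_c_rc_8_3 lc_c_rc_16_2 lc_c_rc_17_2 lc_c_rc_16_2 lc_c_rc_28_6 lc_c_rc_17_2 lc_c_Cert_tree lc_c_rc_17_2 lc_c_rc_16_2 lc_c_rc_13_0 lc_c_rc_17_2 lc_c_Cert_tree lc_c_Cert_tree lc_c_rc_8_3 lc_c_Cert_tree lc_c_rc_13_0 lc_c_rc_16_2 lc_c_rc_2_1 lc_c_rc_2_3 lc_c_rc_8_3 lc_c_rc_8_3 lc_c_rc_13_0 lc_c_rc_2_1 lc_c_rc_16_2 lc_c_rc_15_0 lc_c_rc_28_4 lc_c_rc_30_10 lc_c_rc_28_2) (@D3.rec (fun _ => (Cert rels S Gen.c)) lc_c_rc_15_2 lc_c_rc_8_3 lc_c_rc_15_2 lc_c_rc_17_2 lc_c_rc_17_2 lc_c_Cert_tree lc_c_rc_2_1 lc_c_rc_16_2 lc_c_rc_2_1 lc_c_rc_16_2 lc_c_rc_17_2 lc_c_rc_8_3 lc_c_rc_2_1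 lc_c_rc_15_2 lc_c_rc_28_6 lc_c_rc_28_6 lc_c_rc_28_4 lc_c_rc_17_2 lc_c_rc_2_3 lc_c_rc_15_2 lc_c_Cert_tree lc_c_rc_17_0 lc_c_rc_16_2 lc_c_rc_8_3 lc_c_rc_30_6 lc_c_rc_17_2 lc_c_rc_17_2 lc_c_rc_8_3 lc_c_rc_16_2 lc_c_Cert_tree lc_c_rc_16_2 lc_c_rc_17_2 lc_c_rc_13_0 lc_c_rc_16_2 lc_c_Cert_tree lc_c_Cert_tree lc_c_rc_28_2 lc_c_Cert_tree lc_c_rc_13_0 lc_c_rc_17_2) (@D3.rec (fun _ => (Cert rels S Gen.c)) lc_c_rc_13_0 lc_c_Cert_tree lc_c_rc_13_0 lc_c_rc_15_2 lc_c_rc_8_1 lc_c_rc_17_2 lc_c_rc_14_10 lc_c_rc_15_2 lc_c_rc_16_2 lc_c_rc_16_2 lc_c_Cert_tree lc_c_rc_13_0 lc_c_rc_15_2 lc_c_rc_8_1 lc_c_rc_16_2 lc_c_rc_8_3 lc_c_rc_15_2 lc_c_rc_32_39 lc_c_rc_15_2 lc_c_rc_28_6 lc_c_rc_16_2 lc_c_rc_17_2 lc_c_Cert_tree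 lc_c_Cert_tree lc_c_rc_13_0 lc_c_rc_28_2 lc_c_rc_8_3 lc_c_rc_16_2 lc_c_rc_17_2 lc_c_rc_28_4 lc_c_rc_13_1 lc_c_rc_16_2 lc_c_rc_17_2 lc_c_rc_16_2 lc_c_rc_8_3 lc_c_Cert_tree lc_c_rc_2_3 lc_c_rc_13_0 lc_c_rc_17_2 lc_c_rc_2_1) (@D3.rec (fun _ => (Cert rels S Gen.c)) lc_c_rc_15_2 lc_c_Cert_tree lc_c_rc_28_6 lc_c_Cert_tree lc_c_rc_17_2 lc_c_rc_2_3 lc_c_rc_13_0 lc_c_rc_17_2 lc_c_rc_8_3 lc_c_rc_13_0 lc_c_rc_15_2 lc_c_rc_17_2 lc_c_rc_28_6 lc_c_rc_17_2 lc_c_rc_8_1 lc_c_rc_13_0 lc_c_rc_13_0 lc_c_Cert_tree lc_c_rc_15_2 lc_c_rc_28_4 lc_c_rc_8_3 lc_c_rc_28_4 lc_c_rc_15_2 lc_c_rc_17_2 lc_c_rc_17_2 lc_c_Cert_tree lc_c_rc_13_0 lc_c_rc_15_2 lc_c_rc_14_6 lc_c_rc_28_4 lc_c_rc_8_3 lc_c_rc_15_2 lc_c_rc_13_0 lc_c_rc_15_2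 lc_c_rc_28_6 lc_c_rc_17_2 lc_c_rc_32_70 lc_c_Cert_tree lc_c_Cert_tree lc_c_rc_13_0) (@D3.rec (fun _ => (Cert rels S Gen.c)) lc_c_rc_28_2 lc_c_rc_8_3 lc_c_rc_16_2 lc_c_rc_17_2 lc_c_rc_28_4 lc_c_rc_8_1 lc_c_rc_30_2 lc_c_rc_17_2 lc_c_rc_17_2 lc_c_rc_15_0 lc_c_Cert_tree lc_c_rc_8_1 lc_c_rc_13_0 lc_c_rc_28_8 lc_c_rc_8_1 lc_c_rc_15_2 lc_c_Cert_tree lc_c_rc_28_6 lc_c_Cert_tree lc_c_rc_16_2 lc_c_rc_32_8 lc_c_rc_13_0 lc_c_rc_32_32 lc_c_rc_28_6 lc_c_rc_13_0 lc_c_rc_14_4 lc_c_rc_28_2 lc_c_rc_16_2 lc_c_rc_8_1 lc_c_rc_13_0 lc_c_rc_28_4 lc_c_rc_8_3 lc_c_rc_28_2 lc_c_rc_13_0 lc_c_rc_17_2 lc_c_rc_8_3 lc_c_rc_8_3 lc_c_rc_28_2 lc_c_Cert_tree lc_c_rc_13_0) (@D3.rec (fun _ => (Cert rels S Gen.c)) lc_c_rc_8_1 lc_c_rc_13_0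 lc_c_Cert_tree lc_c_rc_2_3 lc_c_Cert_tree lc_c_rc_16_2 lc_c_rc_13_0 lc_c_rc_8_5 lc_c_rc_16_2 lc_c_rc_16_2 lc_c_rc_15_2 lc_c_rc_28_2 lc_c_rc_8_3 lc_c_rc_15_2 lc_c_rc_16_2 lc_c_rc_28_8 lc_c_Cert_tree lc_c_rc_2_1 lc_c_rc_17_2 lc_c_rc_13_0 lc_c_rc_13_0 lc_c_rc_13_0 lc_c_rc_28_4 lc_c_rc_16_2 lc_c_rc_16_0 lc_c_rc_16_2 lc_c_rc_2_3 lc_c_Cert_tree lc_c_rc_8_3 lc_c_rc_28_4 lc_c_rc_15_2 lc_c_rc_16_2 lc_c_rc_16_2 lc_c_Cert_tree lc_c_rc_13_0 lc_c_rc_13_1 lc_c_rc_17_2 lc_c_rc_13_0 lc_c_rc_2_3 lc_c_rc_17_2) (@D3.rec (fun _ => (Cert rels S Gen.c)) lc_c_rc_28_4 lc_c_rc_2_1 lc_c_Cert_tree lc_c_rc_16_2 lc_c_rc_17_2 lc_c_rc_13_0 lc_c_rc_2_1 lc_c_rc_30_14 lc_c_rc_2_1 lc_c_rc_8_3 lc_c_Cert_tree lc_c_rc_2_1 lc_c_rc_13_0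 lc_c_rc_15_2 lc_c_rc_8_1 lc_c_rc_28_2 lc_c_rc_8_3 lc_c_rc_17_2 lc_c_Cert_tree lc_c_rc_16_2 lc_c_rc_17_2 lc_c_Cert_tree lc_c_Cert_tree lc_c_rc_13_0 lc_c_Cert_tree lc_c_rc_13_0 lc_c_rc_16_0 lc_c_rc_8_3 lc_c_rc_16_2 lc_c_rc_15_0 lc_c_rc_8_3 lc_c_rc_14_10 lc_c_rc_17_2 lc_c_rc_28_4 lc_c_rc_8_3 lc_c_rc_17_2 lc_c_rc_14_4 lc_c_rc_2_1 lc_c_rc_15_0 lc_c_Cert_tree) (@D3.rec (fun _ => (Cert rels S Gen.c)) lc_c_rc_13_0 lc_c_rc_15_2 lc_c_rc_8_3 lc_c_rc_28_6 lc_c_rc_28_6 lc_c_rc_15_2 lc_c_rc_16_2 lc_c_rc_17_2 lc_c_rc_16_2 lc_c_rc_17_2 lc_c_rc_13_1 lc_c_rc_28_6 lc_c_rc_16_2 lc_c_rc_13_0 lc_c_Cert_tree lc_c_rc_8_1 lc_c_Cert_tree lc_c_rc_2_3 lc_c_rc_13_0 lc_c_rc_17_2 lc_c_rc_13_0 lc_c_rc_17_2 lc_c_rc_28_6 lc_c_rc_17_2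 lc_c_rc_13_0 lc_c_rc_8_5 lc_c_rc_32_55 lc_c_rc_2_1 lc_c_rc_2_1 lc_c_Cert_tree lc_c_rc_16_2 lc_c_rc_17_2 lc_c_Cert_tree lc_c_rc_13_0 lc_c_rc_16_2 lc_c_rc_16_0 lc_c_rc_17_2 lc_c_rc_16_0 lc_c_rc_13_0 lc_c_rc_17_2) (@D3.rec (fun _ => (Cert rels S Gen.c)) lc_c_rc_8_3 lc_c_rc_13_0 lc_c_rc_8_1 lc_c_rc_17_2 lc_c_rc_17_2 lc_c_rc_13_0 lc_c_Cert_tree lc_c_rc_13_0 lc_c_Cert_tree lc_c_rc_8_5 lc_c_rc_8_3 lc_c_rc_8_3 lc_c_rc_28_2 lc_c_rc_13_0 lc_c_rc_28_4 lc_c_rc_8_3 lc_c_rc_8_3 lc_c_rc_2_3 lc_c_rc_28_4 lc_c_Cert_tree lc_c_rc_13_0 lc_c_rc_13_0 lc_c_Cert_tree lc_c_rc_8_3 lc_c_Cert_tree lc_c_rc_17_2 lc_c_rc_13_0 lc_c_rc_17_0 lc_c_rc_17_2 lc_c_rc_16_2 lc_c_rc_15_2 lc_c_rc_8_3 lc_c_rc_15_2 lc_c_rc_17_2 lc_c_rc_28_8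 lc_c_rc_28_6 lc_c_rc_2_1 lc_c_rc_16_2 lc_c_rc_13_0 lc_c_rc_13_0) (@D3.rec (fun _ => (Cert rels S Gen.c)) lc_c_rc_13_0 lc_c_rc_28_4 lc_c_rc_17_2 lc_c_rc_17_0 lc_c_rc_17_2 lc_c_rc_30_2 lc_c_Cert_tree lc_c_rc_8_3 lc_c_rc_28_4 lc_c_rc_15_2 lc_c_rc_17_2 lc_c_rc_17_2 lc_c_Cert_tree lc_c_rc_13_0 lc_c_rc_8_5 lc_c_rc_16_2 lc_c_rc_13_0 lc_c_rc_16_0 lc_c_rc_16_2 lc_c_rc_28_2 lc_c_rc_2_1 lc_c_Cert_tree lc_c_rc_16_2 lc_c_rc_17_2 lc_c_rc_13_0 lc_c_rc_14_2 lc_c_rc_17_2 lc_c_rc_8_3 lc_c_rc_8_3 lc_c_rc_13_1 lc_c_rc_2_1 lc_c_rc_13_0 lc_c_rc_15_2 lc_c_rc_14_6 lc_c_rc_8_1 lc_c_rc_16_2 lc_c_rc_17_2 lc_c_rc_16_2 lc_c_Cert_tree lc_c_Cert_tree) (@D3.rec (fun _ => (Cert rels S Gen.c)) lc_c_rc_13_0 lc_c_Cert_tree lc_c_rc_13_0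 lc_c_rc_17_0 lc_c_rc_8_3 lc_c_rc_8_1 lc_c_rc_28_4 lc_c_rc_8_3 lc_c_rc_28_6 lc_c_rc_17_2 lc_c_rc_28_4 lc_c_rc_8_3 lc_c_rc_16_2 lc_c_rc_17_0 lc_c_rc_2_1 lc_c_rc_2_1 lc_c_Cert_tree lc_c_rc_13_0 lc_c_rc_15_2 lc_c_rc_28_4 lc_c_rc_8_3 lc_c_rc_28_6 lc_c_rc_15_2 lc_c_rc_16_2 lc_c_rc_17_2 lc_c_rc_16_2 lc_c_rc_17_2 lc_c_rc_17_2 lc_c_rc_30_14 lc_c_rc_28_4 lc_c_rc_8_1 lc_c_rc_13_0 lc_c_Cert_tree lc_c_Cert_tree lc_c_rc_13_0 lc_c_rc_13_0 lc_c_rc_28_8 lc_c_rc_13_0 lc_c_rc_16_2 lc_c_rc_30_10) (@D3.rec (fun _ => (Cert rels S Gen.c)) lc_c_rc_16_2 lc_c_rc_13_0 lc_c_rc_30_10 lc_c_rc_32_55 lc_c_rc_2_1 lc_c_Cert_tree lc_c_rc_16_2 lc_c_rc_13_0 lc_c_rc_17_2 lc_c_rc_28_6 lc_c_rc_16_2 lc_c_rc_2_3 lc_c_rc_13_0 lc_c_rc_16_2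 lc_c_rc_8_3 lc_c_rc_13_0 lc_c_rc_15_2 lc_c_rc_15_2 lc_c_rc_28_2 lc_c_rc_13_0 lc_c_Cert_tree lc_c_rc_13_0 lc_c_Cert_tree lc_c_rc_15_2 lc_c_rc_8_3 lc_c_rc_8_1 lc_c_rc_13_0 lc_c_rc_28_6 lc_c_rc_13_0 lc_c_rc_28_6 lc_c_rc_8_1 lc_c_rc_30_18 lc_c_Cert_tree lc_c_rc_13_0 lc_c_rc_16_2 lc_c_rc_28_6 lc_c_rc_16_2 lc_c_rc_16_2 lc_c_rc_13_0 lc_c_rc_2_1) (@D3.rec (fun _ => (Cert rels S Gen.c)) lc_c_Cert_tree lc_c_rc_16_0 lc_c_rc_16_2 lc_c_rc_2_3 lc_c_Cert_tree lc_c_rc_13_0 lc_c_rc_13_0 lc_c_rc_15_2 lc_c_rc_8_3 lc_c_rc_28_6 lc_c_rc_15_2 lc_c_rc_16_2 lc_c_rc_16_2 lc_c_rc_16_2 lc_c_rc_2_1 lc_c_rc_13_0 lc_c_rc_15_2 lc_c_rc_13_0 lc_c_rc_8_1 lc_c_rc_16_2 lc_c_rc_16_2 lc_c_rc_15_2 lc_c_rc_13_0 lc_c_rc_8_5 lc_c_Cert_tree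 lc_c_Cert_tree lc_c_rc_13_0 lc_c_rc_30_14 lc_c_rc_28_2 lc_c_rc_13_0 lc_c_rc_15_2 lc_c_rc_8_3 lc_c_rc_8_3 lc_c_rc_2_1 lc_c_rc_13_0 lc_c_rc_15_2 lc_c_rc_16_2 lc_c_rc_8_3 lc_c_rc_8_3 lc_c_rc_28_6) (@D3.rec (fun _ => (Cert rels S Gen.c)) lc_c_rc_15_2 lc_c_rc_16_2 lc_c_rc_28_2 lc_c_rc_8_3 lc_c_rc_15_2 lc_c_rc_16_2 lc_c_rc_16_2 lc_c_Cert_tree lc_c_rc_16_2 lc_c_rc_2_1 lc_c_rc_16_2 lc_c_rc_28_2 lc_c_rc_15_2 lc_c_rc_15_2 lc_c_rc_28_6 lc_c_rc_28_8 lc_c_rc_16_2 lc_c_Cert_tree lc_c_Cert_tree lc_c_rc_13_0 lc_c_rc_17_2 lc_c_rc_17_2 lc_c_rc_15_2 lc_c_rc_16_2 lc_c_rc_14_6 lc_c_rc_13_0 lc_c_rc_16_2 lc_c_rc_17_2 lc_c_rc_15_2 lc_c_rc_13_0 lc_c_Cert_tree lc_c_rc_28_2 lc_c_rc_13_0 lc_c_rc_28_8 lc_c_rc_16_2 lc_c_rc_28_2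 lc_c_Cert_tree lc_c_rc_13_0 lc_c_rc_13_0 lc_c_rc_28_6) (@D3.rec (fun _ => (Cert rels S Gen.c)) lc_c_rc_13_0 lc_c_rc_28_4 lc_c_rc_15_0 lc_c_rc_13_0 lc_c_rc_14_2 lc_c_rc_16_2 lc_c_rc_16_2 lc_c_rc_17_2 lc_c_rc_8_3 lc_c_rc_28_4 lc_c_rc_28_6 lc_c_rc_16_2 lc_c_rc_16_2 lc_c_rc_13_0 lc_c_rc_2_1 lc_c_rc_13_0 lc_c_rc_16_2 lc_c_rc_17_2 lc_c_rc_15_2 lc_c_rc_15_2 lc_c_rc_13_0 lc_c_Cert_tree lc_c_rc_2_1 lc_c_rc_17_2 lc_c_rc_2_1 lc_c_rc_13_0 lc_c_rc_15_2 lc_c_rc_17_2 lc_c_rc_14_14 lc_c_rc_16_2 lc_c_rc_8_3 lc_c_rc_15_2 lc_c_rc_17_2 lc_c_rc_16_2 lc_c_Cert_tree lc_c_rc_13_0 lc_c_rc_16_2 lc_c_rc_15_2 lc_c_rc_28_4 lc_c_rc_13_0) (@D3.rec (fun _ => (Cert rels S Gen.c)) lc_c_rc_28_4 lc_c_rc_13_0 lc_c_rc_13_0 lc_c_rc_28_2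 lc_c_rc_15_2 lc_c_rc_13_0 lc_c_rc_17_2 lc_c_rc_28_4 lc_c_rc_17_2 lc_c_rc_15_0 lc_c_rc_16_2 lc_c_rc_17_2 lc_c_rc_8_1 lc_c_rc_16_2 lc_c_rc_28_6 lc_c_rc_17_0 lc_c_rc_15_2 lc_c_rc_16_2 lc_c_rc_2_1 lc_c_rc_13_0 lc_c_rc_28_2 lc_c_rc_16_2 lc_c_rc_8_3 lc_c_Cert_tree lc_c_rc_16_2 lc_c_rc_28_8 lc_c_rc_28_4 lc_c_rc_17_2 lc_c_rc_17_2 lc_c_rc_15_2 lc_c_rc_16_2 lc_c_rc_2_1 lc_c_rc_8_1 lc_c_rc_13_0 lc_c_rc_15_2 lc_c_rc_15_2 lc_c_rc_17_2 lc_c_rc_15_2 lc_c_rc_15_2 lc_c_rc_8_3) (@D3.rec (fun _ => (Cert rels S Gen.c)) lc_c_rc_2_1 lc_c_rc_8_3 lc_c_rc_16_2 lc_c_rc_17_2 lc_c_rc_15_2 lc_c_rc_16_2 lc_c_rc_17_2 lc_c_Cert_tree lc_c_rc_8_3 lc_c_rc_16_2 lc_c_rc_13_1 lc_c_rc_16_2 lc_c_rc_13_0 lc_c_rc_17_2 lc_c_rc_2_1 lc_c_rc_30_10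 lc_c_rc_2_1 lc_c_rc_16_0 lc_c_rc_16_2 lc_c_rc_16_2 lc_c_rc_28_4 lc_c_rc_28_6 lc_c_rc_17_2 lc_c_rc_2_3 lc_c_rc_17_0 lc_c_rc_15_2 lc_c_rc_2_1 lc_c_rc_28_6 lc_c_rc_15_2 lc_c_rc_16_2 lc_c_rc_15_2 lc_c_rc_28_2 lc_c_rc_28_2 lc_c_rc_2_1 lc_c_rc_8_3 lc_c_rc_15_2 lc_c_rc_16_2 lc_c_rc_17_2 lc_c_rc_15_2 lc_c_rc_16_2) (@D3.rec (fun _ => (Cert rels S Gen.c)) lc_c_rc_17_2 lc_c_rc_28_4 lc_c_rc_28_4 lc_c_rc_28_6 lc_c_rc_15_2 lc_c_rc_17_2 lc_c_rc_2_1 lc_c_rc_17_2 lc_c_rc_13_0 lc_c_rc_16_2 lc_c_rc_8_3 lc_c_rc_8_3 lc_c_rc_16_2 lc_c_rc_28_6 lc_c_rc_13_0 lc_c_rc_17_2 lc_c_rc_13_0 lc_c_rc_15_2 lc_c_rc_13_0 lc_c_rc_16_2 lc_c_rc_17_0 lc_c_rc_16_2 lc_c_rc_17_2 lc_c_rc_16_2 lc_c_rc_17_2 lc_c_rc_28_2 lc_c_rc_13_0 lc_c_rc_15_2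 lc_c_rc_15_2 lc_c_rc_16_0 lc_c_rc_17_2 lc_c_rc_28_2 lc_c_rc_13_0 lc_c_rc_13_1 lc_c_Cert_tree lc_c_rc_13_0 lc_c_rc_17_2 lc_c_rc_28_4 lc_c_rc_15_2 lc_c_rc_8_3) (@D3.rec (fun _ => (Cert rels S Gen.c)) lc_c_Cert_tree lc_c_rc_13_0 lc_c_rc_15_2 lc_c_rc_28_6 lc_c_rc_15_2 lc_c_rc_17_2 lc_c_rc_17_2 lc_c_rc_17_2 lc_c_rc_2_1 lc_c_rc_13_0 lc_c_rc_13_0 lc_c_rc_30_10 lc_c_rc_17_2 lc_c_rc_15_2 lc_c_rc_17_2 lc_c_rc_13_0 lc_c_rc_2_1 lc_c_Cert_tree lc_c_rc_13_0 lc_c_rc_2_3 lc_c_rc_16_2 lc_c_rc_28_2 lc_c_rc_13_0 lc_c_rc_8_3 lc_c_rc_8_3 lc_c_rc_8_3 lc_c_rc_2_1 lc_c_rc_13_0 lc_c_rc_15_2 lc_c_rc_17_2 lc_c_rc_8_3 lc_c_rc_28_6 lc_c_rc_15_2 lc_c_rc_17_2 lc_c_rc_28_2 lc_c_rc_8_3 lc_c_rc_15_2 lc_c_rc_30_6 lc_c_rc_15_0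 lc_c_rc_17_2) (@D3.rec (fun _ => (Cert rels S Gen.c)) lc_c_rc_17_2 lc_c_rc_15_2 lc_c_rc_28_6 lc_c_rc_2_1 lc_c_rc_17_2 lc_c_Cert_tree lc_c_Cert_tree lc_c_rc_13_0 lc_c_rc_16_2 lc_c_rc_2_1 lc_c_rc_14_2 lc_c_rc_17_2 lc_c_rc_2_1 lc_c_rc_13_0 lc_c_rc_16_2 lc_c_rc_17_2 lc_c_rc_15_2 lc_c_rc_13_0 lc_c_Cert_tree lc_c_rc_28_2 lc_c_rc_13_0 lc_c_rc_17_2 lc_c_rc_28_2 lc_c_Cert_tree lc_c_rc_13_0 lc_c_rc_13_0 lc_c_rc_28_6 lc_c_rc_13_0 lc_c_rc_13_1 lc_c_rc_13_0 lc_c_rc_15_2 lc_c_rc_16_2 lc_c_rc_17_2 lc_c_rc_8_3 lc_c_rc_16_2 lc_c_rc_2_1 lc_c_rc_28_6 lc_c_rc_17_2 lc_c_rc_28_6 lc_c_rc_16_2) (@D3.rec (fun _ => (Cert rels S Gen.c)) lc_c_rc_8_1 lc_c_rc_28_2 lc_c_rc_2_1 lc_c_rc_2_1 lc_c_rc_13_0 lc_c_rc_15_2 lc_c_rc_28_2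 lc_c_rc_28_6 lc_c_rc_8_3 lc_c_rc_17_2 lc_c_Cert_tree lc_c_rc_13_0 lc_c_rc_28_4 lc_c_rc_32_37 lc_c_rc_13_0 lc_c_rc_28_4 lc_c_rc_17_0 lc_c_rc_13_0 lc_c_rc_28_2 lc_c_rc_16_2 lc_c_rc_13_0 lc_c_rc_16_2 lc_c_rc_28_4 lc_c_rc_16_2 lc_c_rc_16_2 lc_c_rc_17_2 lc_c_rc_16_2 lc_c_rc_8_1 lc_c_rc_17_2 lc_c_rc_28_6 lc_c_rc_16_0 lc_c_rc_15_2 lc_c_rc_17_2 lc_c_rc_2_1 lc_c_rc_13_0 lc_c_rc_2_1 lc_c_rc_17_2 lc_c_Cert_tree lc_c_rc_28_8 lc_c_rc_16_2) (@D3.rec (fun _ => (Cert rels S Gen.c)) lc_c_rc_8_3 lc_c_rc_15_2 lc_c_rc_16_2 lc_c_rc_15_2 lc_c_rc_15_2 lc_c_rc_8_3 lc_c_rc_2_1 lc_c_rc_8_3 lc_c_rc_16_2 lc_c_rc_15_2 lc_c_rc_16_2 lc_c_rc_17_2 lc_c_rc_15_0 lc_c_rc_17_2 lc_c_Cert_tree lc_c_rc_17_2 lc_c_rc_15_2 lc_c_rc_13_0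 lc_c_rc_16_2 lc_c_rc_8_1 lc_c_rc_2_1 lc_c_rc_28_4 lc_c_rc_28_4 lc_c_rc_28_6 lc_c_rc_16_2 lc_c_rc_17_2 lc_c_rc_15_2 lc_c_rc_2_1 lc_c_rc_28_6 lc_c_rc_15_2 lc_c_rc_17_2 lc_c_rc_15_2 lc_c_rc_28_2 lc_c_rc_28_2 lc_c_rc_2_1 lc_c_rc_8_3 lc_c_rc_15_2 lc_c_rc_16_2 lc_c_rc_17_2 lc_c_rc_2_1) (@D3.rec (fun _ => (Cert rels S Gen.c)) lc_c_rc_16_2 lc_c_rc_17_2 lc_c_rc_15_0 lc_c_rc_15_0 lc_c_rc_28_4 lc_c_rc_17_2 lc_c_rc_8_3 lc_c_rc_2_1 lc_c_rc_13_0 lc_c_rc_17_2 lc_c_rc_15_2 lc_c_rc_8_3 lc_c_rc_17_2 lc_c_rc_28_6 lc_c_rc_13_0 lc_c_rc_2_3 lc_c_rc_13_0 lc_c_rc_8_3 lc_c_rc_13_0 lc_c_rc_17_2 lc_c_rc_16_0 lc_c_rc_17_2 lc_c_rc_16_2 lc_c_rc_17_2 lc_c_rc_16_2 lc_c_rc_16_2 lc_c_rc_16_2 lc_c_rc_15_2 lc_c_rc_17_2 lc_c_rc_15_2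 lc_c_rc_8_3 lc_c_rc_15_2 lc_c_rc_16_2 lc_c_rc_17_2 lc_c_rc_2_1 lc_c_rc_2_1 lc_c_rc_8_3 lc_c_rc_16_2 lc_c_rc_28_4 lc_c_rc_28_4) (@D3.rec (fun _ => (Cert rels S Gen.c)) lc_c_rc_16_2 lc_c_rc_17_2 lc_c_rc_17_2 lc_c_rc_2_1 lc_c_rc_8_3 lc_c_rc_2_1 lc_c_rc_16_2 lc_c_rc_16_2 lc_c_rc_16_0 lc_c_rc_17_2 lc_c_rc_2_1 lc_c_rc_8_3 lc_c_rc_15_2 lc_c_rc_16_2 lc_c_rc_17_2 lc_c_rc_28_4 lc_c_Cert_tree lc_c_rc_28_6 lc_c_rc_17_2 lc_c_rc_2_1 lc_c_rc_28_6 lc_c_rc_15_2 lc_c_rc_16_2 lc_c_rc_17_2 lc_c_rc_15_2 lc_c_rc_14_4 lc_c_rc_28_4 lc_c_rc_28_2 lc_c_rc_16_2 lc_c_rc_17_2 lc_c_rc_2_1 lc_c_rc_16_0 lc_c_Cert_tree lc_c_rc_13_0 lc_c_rc_13_0 lc_c_Cert_tree lc_c_rc_8_3 lc_c_rc_15_2 lc_c_rc_16_2 lc_c_rc_17_2) (@D3.rec (fun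 _ => (Cert rels S Gen.c)) lc_c_rc_13_1 lc_c_rc_15_2 lc_c_rc_8_3 lc_c_rc_16_2 lc_c_rc_8_3 lc_c_rc_17_2 lc_c_rc_17_2 lc_c_rc_17_2 lc_c_rc_8_3 lc_c_rc_2_1 lc_c_rc_15_0 lc_c_rc_16_2 lc_c_rc_28_4 lc_c_rc_8_3 lc_c_rc_8_1 lc_c_rc_8_5 lc_c_rc_16_2 lc_c_rc_13_0 lc_c_rc_17_2 lc_c_rc_13_0 lc_c_rc_8_1 lc_c_rc_17_2 lc_c_rc_15_2 lc_c_rc_15_2 lc_c_rc_16_2 lc_c_rc_15_0 lc_c_rc_16_2 lc_c_rc_17_0 lc_c_rc_13_0 lc_c_rc_17_2 lc_c_rc_17_2 lc_c_rc_17_2 lc_c_rc_2_3 lc_c_Cert_tree lc_c_rc_15_0 lc_c_rc_16_2 lc_c_rc_8_1 lc_c_rc_13_0 lc_c_rc_17_2 lc_c_rc_17_2)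
def ce_c_19 : D2 → D3 → (Cert rels S Gen.c) := @D2.rec (fun _ => D3 → (Cert rels S Gen.c)) (@D3.rec (fun _ => (Cert rels S Gen.c)) lc_c_rc_17_2 lc_c_rc_15_2 lc_c_rc_16_2 lc_c_rc_15_2 lc_c_rc_8_3 lc_c_rc_15_2 lc_c_rc_16_2 lc_c_rc_17_2 lc_c_rc_2_1 lc_c_rc_16_0 lc_c_rc_8_3 lc_c_rc_17_2 lc_c_rc_28_4 lc_c_rc_28_4 lc_c_rc_16_2 lc_c_rc_17_2 lc_c_rc_17_2 lc_c_rc_2_1 lc_c_rc_8_3 lc_c_rc_17_2 lc_c_rc_2_1 lc_c_rc_16_2 lc_c_rc_17_2 lc_c_rc_17_2 lc_c_rc_16_2 lc_c_rc_8_3 lc_c_rc_15_2 lc_c_rc_16_2 lc_c_rc_17_2 lc_c_rc_15_2 lc_c_rc_28_6 lc_c_Cert_tree lc_c_rc_17_2 lc_c_rc_2_1 lc_c_rc_28_6 lc_c_rc_15_2 lc_c_rc_16_2 lc_c_rc_17_2 lc_c_rc_16_0 lc_c_rc_28_4) (@D3.rec (fun _ => (Cert rels S Gen.c)) lc_c_rc_14_4 lc_c_rc_28_2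 lc_c_rc_16_2 lc_c_rc_17_2 lc_c_rc_28_2 lc_c_rc_15_2 lc_c_Cert_tree lc_c_rc_13_0 lc_c_rc_13_0 lc_c_Cert_tree lc_c_rc_8_3 lc_c_rc_15_2 lc_c_rc_16_2 lc_c_rc_17_2 lc_c_rc_17_2 lc_c_rc_17_2 lc_c_rc_30_14 lc_c_rc_15_2 lc_c_rc_16_2 lc_c_rc_13_1 lc_c_rc_28_8 lc_c_rc_8_3 lc_c_rc_17_2 lc_c_rc_2_1 lc_c_rc_17_2 lc_c_rc_16_2 lc_c_rc_13_1 lc_c_rc_2_3 lc_c_rc_30_14 lc_c_rc_15_2 lc_c_rc_13_0 lc_c_rc_17_2 lc_c_rc_13_1 lc_c_rc_13_0 lc_c_rc_15_2 lc_c_rc_16_2 lc_c_rc_15_2 lc_c_rc_15_2 lc_c_rc_17_0 lc_c_rc_16_2) (@D3.rec (fun _ => (Cert rels S Gen.c)) lc_c_rc_16_2 lc_c_rc_17_2 lc_c_rc_17_2 lc_c_rc_15_2 lc_c_rc_13_0 lc_c_rc_2_3 lc_c_Cert_tree lc_c_rc_30_6 lc_c_rc_30_2 lc_c_rc_13_0 lc_c_rc_16_2 lc_c_rc_13_0 lc_c_rc_15_0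 lc_c_rc_16_2 lc_c_rc_28_4 lc_c_rc_28_2 lc_c_rc_28_6 lc_c_rc_28_6 lc_c_rc_28_4 lc_c_rc_28_6 lc_c_rc_28_2 lc_c_rc_28_2 lc_c_rc_32_60 lc_c_Cert_tree lc_c_rc_15_2 lc_c_rc_16_2 lc_c_rc_17_2 lc_c_rc_16_2 lc_c_rc_17_2 lc_c_rc_16_2 lc_c_rc_16_2 lc_c_rc_28_4 lc_c_rc_17_2 lc_c_rc_14_4 lc_c_rc_28_6 lc_c_rc_28_2 lc_c_rc_28_6 lc_c_rc_28_6 lc_c_rc_28_2 lc_c_rc_28_2) (@D3.rec (fun _ => (Cert rels S Gen.c)) lc_c_Cert_tree lc_c_rc_32_32 lc_c_rc_15_2 lc_c_rc_16_2 lc_c_rc_17_2 lc_c_rc_16_2 lc_c_rc_17_2 lc_c_rc_16_2 lc_c_rc_16_2 lc_c_rc_28_6 lc_c_rc_16_2 lc_c_rc_16_2 lc_c_rc_30_10 lc_c_rc_2_3 lc_c_rc_16_2 lc_c_rc_2_1 lc_c_rc_2_3 lc_c_rc_16_0 lc_c_rc_13_0 lc_c_rc_8_3 lc_c_rc_15_2 lc_c_rc_13_0 lc_c_rc_8_3 lc_c_rc_8_3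 lc_c_rc_15_2 lc_c_rc_15_2 lc_c_rc_13_0 lc_c_rc_28_6 lc_c_rc_2_1 lc_c_rc_15_2 lc_c_rc_8_1 lc_c_rc_13_0 lc_c_rc_30_6 lc_c_rc_8_3 lc_c_rc_13_0 lc_c_rc_15_2 lc_c_rc_17_2 lc_c_rc_13_1 lc_c_rc_15_2 lc_c_rc_13_0) (@D3.rec (fun _ => (Cert rels S Gen.c)) lc_c_rc_17_2 lc_c_rc_14_10 lc_c_rc_16_2 lc_c_rc_15_2 lc_c_rc_16_2 lc_c_rc_2_1 lc_c_rc_2_1 lc_c_rc_17_2 lc_c_rc_15_2 lc_c_rc_15_2 lc_c_rc_8_1 lc_c_rc_16_2 lc_c_rc_17_2 lc_c_rc_2_1 lc_c_rc_15_2 lc_c_rc_32_18 lc_c_rc_17_2 lc_c_rc_15_2 lc_c_rc_2_1 lc_c_rc_13_0 lc_c_rc_16_2 lc_c_rc_15_0 lc_c_rc_8_1 lc_c_rc_16_2 lc_c_rc_16_2 lc_c_rc_16_0 lc_c_rc_8_3 lc_c_rc_16_2 lc_c_rc_2_1 lc_c_rc_2_1 lc_c_Cert_tree lc_c_rc_16_2 lc_c_rc_13_0 lc_c_rc_2_1 lc_c_rc_30_6 lc_c_rc_16_2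 lc_c_rc_16_0 lc_c_rc_2_3 lc_c_rc_8_1 lc_c_rc_8_1) (@D3.rec (fun _ => (Cert rels S Gen.c)) lc_c_rc_8_3 lc_c_rc_15_2 lc_c_rc_15_0 lc_c_rc_15_2 lc_c_rc_32_32 lc_c_rc_16_2 lc_c_rc_16_0 lc_c_rc_16_2 lc_c_rc_15_0 lc_c_Cert_tree lc_c_rc_17_2 lc_c_rc_16_2 lc_c_rc_8_1 lc_c_rc_30_6 lc_c_rc_15_2 lc_c_rc_8_1 lc_c_rc_8_1 lc_c_rc_8_3 lc_c_rc_8_1 lc_c_rc_13_0 lc_c_rc_28_4 lc_c_rc_2_1 lc_c_rc_17_2 lc_c_rc_17_2 lc_c_rc_17_2 lc_c_rc_17_2 lc_c_rc_2_1 lc_c_rc_15_2 lc_c_rc_15_2 lc_c_rc_15_2 lc_c_rc_8_1 lc_c_rc_15_2 lc_c_rc_2_1 lc_c_rc_15_2 lc_c_rc_15_0 lc_c_rc_16_2 lc_c_rc_15_2 lc_c_rc_2_1 lc_c_rc_13_0 lc_c_rc_8_1) (@D3.rec (fun _ => (Cert rels S Gen.c)) lc_c_rc_17_2 lc_c_rc_17_2 lc_c_rc_13_0 lc_c_rc_17_2 lc_c_rc_16_0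 lc_c_rc_8_3 lc_c_rc_17_2 lc_c_rc_2_1 lc_c_rc_13_0 lc_c_rc_13_0 lc_c_rc_30_6 lc_c_rc_15_0 lc_c_rc_32_65 lc_c_rc_13_1 lc_c_rc_8_3 lc_c_rc_15_2 lc_c_rc_13_0 lc_c_rc_28_6 lc_c_rc_28_2 lc_c_rc_15_2 lc_c_rc_13_0 lc_c_rc_28_8 lc_c_rc_13_0 lc_c_rc_15_2 lc_c_rc_28_4 lc_c_Cert_tree lc_c_rc_15_2 lc_c_rc_13_0 lc_c_rc_14_4 lc_c_rc_13_0 lc_c_rc_17_2 lc_c_rc_15_2 lc_c_rc_8_3 lc_c_rc_28_6 lc_c_rc_17_2 lc_c_Cert_tree lc_c_rc_28_6 lc_c_rc_8_3 lc_c_rc_28_2 lc_c_rc_15_2) (@D3.rec (fun _ => (Cert rels S Gen.c)) lc_c_rc_13_0 lc_c_rc_2_1 lc_c_rc_13_0 lc_c_rc_15_2 lc_c_rc_17_2 lc_c_Cert_tree lc_c_rc_15_2 lc_c_rc_13_0 lc_c_rc_14_4 lc_c_rc_13_0 lc_c_rc_16_2 lc_c_rc_15_2 lc_c_rc_8_3 lc_c_rc_28_6 lc_c_rc_16_2 lc_c_Cert_tree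 lc_c_rc_28_2 lc_c_rc_8_3 lc_c_rc_8_5 lc_c_Cert_tree lc_c_rc_13_0 lc_c_rc_16_2 lc_c_rc_17_2 lc_c_rc_8_3 lc_c_rc_15_2 lc_c_rc_13_0 lc_c_rc_17_2 lc_c_rc_15_2 lc_c_rc_8_3 lc_c_rc_16_2 lc_c_rc_17_2 lc_c_Cert_tree lc_c_rc_13_0 lc_c_rc_16_2 lc_c_rc_8_3 lc_c_rc_2_1 lc_c_Cert_tree lc_c_rc_13_0 lc_c_rc_13_0 lc_c_rc_8_3) (@D3.rec (fun _ => (Cert rels S Gen.c)) lc_c_rc_16_2 lc_c_rc_17_2 lc_c_Cert_tree lc_c_rc_13_0 lc_c_rc_15_2 lc_c_rc_8_3 lc_c_Cert_tree lc_c_rc_16_2 lc_c_rc_15_2 lc_c_rc_15_2 lc_c_Cert_tree lc_c_rc_13_0 lc_c_rc_15_2 lc_c_rc_17_2 lc_c_Cert_tree lc_c_rc_17_2 lc_c_rc_17_2 lc_c_rc_15_2 lc_c_Cert_tree lc_c_rc_13_0 lc_c_rc_13_0 lc_c_rc_13_0 lc_c_rc_17_2 lc_c_rc_16_0 lc_c_rc_17_2 lc_c_rc_13_0 lc_c_rc_32_34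 lc_c_rc_28_4 lc_c_rc_17_2 lc_c_rc_16_2 lc_c_rc_8_3 lc_c_rc_17_0 lc_c_rc_16_2 lc_c_rc_13_0 lc_c_rc_17_2 lc_c_rc_28_6 lc_c_rc_16_2 lc_c_rc_17_2 lc_c_rc_2_3 lc_c_rc_15_0) (@D3.rec (fun _ => (Cert rels S Gen.c)) lc_c_rc_16_2 lc_c_rc_13_0 lc_c_rc_15_2 lc_c_rc_16_2 lc_c_rc_17_2 lc_c_rc_16_2 lc_c_rc_16_2 lc_c_rc_17_2 lc_c_rc_13_0 lc_c_rc_8_3 lc_c_rc_17_2 lc_c_rc_2_1 lc_c_Cert_tree lc_c_rc_2_1 lc_c_rc_2_1 lc_c_Cert_tree lc_c_rc_2_1 lc_c_rc_17_2 lc_c_Cert_tree lc_c_rc_13_0 lc_c_rc_17_2 lc_c_rc_2_1 lc_c_Cert_tree lc_c_rc_13_0 lc_c_rc_16_2 lc_c_rc_2_1 lc_c_rc_8_3 lc_c_Cert_tree lc_c_rc_13_0 lc_c_rc_8_3 lc_c_Cert_tree lc_c_rc_13_0 lc_c_rc_15_2 lc_c_rc_13_0 lc_c_rc_16_2 lc_c_rc_13_0 lc_c_rc_8_3 lc_c_rc_15_2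 lc_c_rc_13_0 lc_c_rc_17_2) (@D3.rec (fun _ => (Cert rels S Gen.c)) lc_c_rc_13_0 lc_c_rc_8_3 lc_c_rc_28_4 lc_c_rc_14_4 lc_c_rc_16_2 lc_c_Cert_tree lc_c_rc_13_0 lc_c_rc_13_0 lc_c_rc_15_2 lc_c_rc_13_0 lc_c_rc_8_3 lc_c_rc_8_3 lc_c_rc_15_2 lc_c_rc_16_2 lc_c_Cert_tree lc_c_rc_28_2 lc_c_rc_17_2 lc_c_rc_16_2 lc_c_rc_8_3 lc_c_rc_17_2 lc_c_Cert_tree lc_c_rc_17_2 lc_c_Cert_tree lc_c_rc_13_0 lc_c_rc_13_0 lc_c_rc_15_2 lc_c_rc_13_0 lc_c_rc_8_3 lc_c_rc_8_3 lc_c_rc_15_2 lc_c_rc_17_2 lc_c_Cert_tree lc_c_rc_16_2 lc_c_rc_28_2 lc_c_rc_17_2 lc_c_rc_8_3 lc_c_rc_16_2 lc_c_Cert_tree lc_c_rc_16_2 lc_c_rc_16_2) (@D3.rec (fun _ => (Cert rels S Gen.c)) lc_c_rc_17_2 lc_c_rc_17_2 lc_c_rc_8_3 lc_c_rc_17_2 lc_c_rc_16_2 lc_c_rc_2_1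 lc_c_rc_8_3 lc_c_rc_30_10 lc_c_rc_13_0 lc_c_rc_30_6 lc_c_rc_30_6 lc_c_rc_2_1 lc_c_rc_15_2 lc_c_rc_15_2 lc_c_rc_28_4 lc_c_rc_13_0 lc_c_rc_16_2 lc_c_rc_28_4 lc_c_rc_13_0 lc_c_rc_17_2 lc_c_rc_28_4 lc_c_rc_8_3 lc_c_rc_15_2 lc_c_Cert_tree lc_c_rc_2_1 lc_c_rc_8_1 lc_c_rc_8_3 lc_c_rc_28_4 lc_c_rc_8_3 lc_c_rc_2_1 lc_c_Cert_tree lc_c_rc_2_1 lc_c_rc_17_2 lc_c_rc_8_3 lc_c_rc_28_6 lc_c_rc_28_8 lc_c_rc_8_3 lc_c_rc_13_0 lc_c_rc_8_3 lc_c_rc_8_3) (@D3.rec (fun _ => (Cert rels S Gen.c)) lc_c_Cert_tree lc_c_rc_17_2 lc_c_rc_14_4 lc_c_rc_17_2 lc_c_rc_8_3 lc_c_rc_2_1 lc_c_rc_15_0 lc_c_rc_13_0 lc_c_rc_8_3 lc_c_rc_13_0 lc_c_rc_8_3 lc_c_rc_8_3 lc_c_Cert_tree lc_c_rc_16_2 lc_c_rc_14_4 lc_c_rc_16_2 lc_c_rc_8_3 lc_c_rc_2_1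 lc_c_rc_8_3 lc_c_rc_13_0 lc_c_rc_13_0 lc_c_rc_16_2 lc_c_rc_28_2 lc_c_rc_16_2 lc_c_rc_17_2 lc_c_Cert_tree lc_c_rc_8_3 lc_c_Cert_tree lc_c_rc_2_1 lc_c_rc_13_0 lc_c_rc_17_2 lc_c_rc_13_0 lc_c_rc_17_2 lc_c_rc_17_2 lc_c_rc_17_2 lc_c_rc_16_2 lc_c_Cert_tree lc_c_rc_8_3 lc_c_Cert_tree lc_c_rc_2_1) (@D3.rec (fun _ => (Cert rels S Gen.c)) lc_c_rc_13_0 lc_c_rc_16_2 lc_c_rc_13_0 lc_c_rc_30_10 lc_c_rc_16_2 lc_c_rc_28_2 lc_c_rc_13_0 lc_c_rc_16_2 lc_c_rc_15_2 lc_c_rc_8_3 lc_c_rc_13_0 lc_c_Cert_tree lc_c_rc_16_2 lc_c_rc_17_2 lc_c_rc_13_0 lc_c_rc_8_3 lc_c_rc_17_2 lc_c_rc_17_2 lc_c_rc_16_2 lc_c_rc_17_2 lc_c_rc_8_3 lc_c_rc_16_2 lc_c_rc_13_0 lc_c_rc_14_12 lc_c_rc_17_2 lc_c_rc_28_2 lc_c_rc_13_0 lc_c_rc_30_10 lc_c_rc_15_2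 lc_c_rc_8_3 lc_c_rc_13_0 lc_c_Cert_tree lc_c_rc_16_2 lc_c_rc_17_2 lc_c_rc_13_0 lc_c_rc_8_3 lc_c_rc_28_8 lc_c_rc_16_2 lc_c_rc_17_2 lc_c_rc_16_2) (@D3.rec (fun _ => (Cert rels S Gen.c)) lc_c_rc_8_3 lc_c_rc_17_2 lc_c_rc_16_2 lc_c_Cert_tree lc_c_Cert_tree lc_c_rc_13_0 lc_c_Cert_tree lc_c_rc_16_0 lc_c_rc_2_3 lc_c_rc_32_58 lc_c_rc_8_1 lc_c_rc_13_0 lc_c_rc_13_0 lc_c_rc_28_6 lc_c_rc_16_2 lc_c_rc_16_2 lc_c_rc_13_0 lc_c_rc_13_0 lc_c_rc_15_2 lc_c_rc_13_0 lc_c_rc_16_2 lc_c_rc_28_6 lc_c_rc_15_2 lc_c_rc_16_2 lc_c_rc_28_2 lc_c_rc_13_0 lc_c_rc_16_2 lc_c_rc_15_2 lc_c_rc_8_1 lc_c_rc_13_0 lc_c_rc_28_4 lc_c_rc_8_3 lc_c_rc_2_3 lc_c_rc_16_2 lc_c_rc_13_0 lc_c_rc_17_2 lc_c_rc_17_2 lc_c_rc_17_2 lc_c_rc_17_2 lc_c_rc_15_2)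 (@D3.rec (fun _ => (Cert rels S Gen.c)) lc_c_rc_15_2 lc_c_rc_17_2 lc_c_Cert_tree lc_c_rc_13_0 lc_c_rc_15_2 lc_c_rc_17_2 lc_c_rc_13_0 lc_c_rc_17_0 lc_c_rc_17_2 lc_c_rc_13_1 lc_c_rc_2_1 lc_c_rc_15_2 lc_c_rc_15_2 lc_c_rc_13_0 lc_c_rc_2_1 lc_c_rc_28_2 lc_c_rc_17_2 lc_c_rc_14_10 lc_c_rc_15_2 lc_c_rc_13_0 lc_c_rc_15_2 lc_c_rc_15_2 lc_c_rc_13_0 lc_c_rc_28_8 lc_c_rc_2_1 lc_c_rc_15_0 lc_c_rc_17_2 lc_c_rc_8_1 lc_c_rc_15_2 lc_c_rc_15_2 lc_c_rc_17_2 lc_c_rc_17_2 lc_c_rc_17_2 lc_c_Cert_tree lc_c_Cert_tree lc_c_rc_13_0 lc_c_rc_15_2 lc_c_rc_28_4 lc_c_rc_15_2 lc_c_rc_16_2) (@D3.rec (fun _ => (Cert rels S Gen.c)) lc_c_rc_13_0 lc_c_rc_15_0 lc_c_rc_13_0 lc_c_rc_28_6 lc_c_rc_15_2 lc_c_rc_17_2 lc_c_rc_2_3 lc_c_rc_17_2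 lc_c_rc_17_2 lc_c_rc_15_0 lc_c_rc_15_2 lc_c_rc_17_2 lc_c_rc_17_2 lc_c_rc_13_0 lc_c_rc_32_11 lc_c_rc_16_2 lc_c_rc_13_0 lc_c_rc_17_0 lc_c_rc_15_2 lc_c_rc_28_2 lc_c_rc_13_0 lc_c_rc_2_1 lc_c_rc_16_2 lc_c_rc_8_1 lc_c_rc_14_10 lc_c_rc_28_4 lc_c_rc_2_3 lc_c_rc_16_2 lc_c_rc_13_0 lc_c_rc_17_2 lc_c_rc_16_2 lc_c_rc_15_0 lc_c_rc_13_0 lc_c_rc_16_2 lc_c_rc_13_0 lc_c_Cert_tree lc_c_rc_13_0 lc_c_rc_17_2 lc_c_rc_8_3 lc_c_rc_13_0) (@D3.rec (fun _ => (Cert rels S Gen.c)) lc_c_rc_17_2 lc_c_rc_13_0 lc_c_rc_13_0 lc_c_rc_16_2 lc_c_rc_17_2 lc_c_rc_16_2 lc_c_rc_17_2 lc_c_rc_16_0 lc_c_rc_14_12 lc_c_rc_2_1 lc_c_rc_15_2 lc_c_rc_8_3 lc_c_rc_8_1 lc_c_rc_16_2 lc_c_rc_17_2 lc_c_rc_8_1 lc_c_rc_28_2 lc_c_rc_8_3 lc_c_rc_15_2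 lc_c_rc_17_2 lc_c_rc_2_1 lc_c_rc_13_0 lc_c_rc_16_2 lc_c_rc_17_2 lc_c_rc_15_2 lc_c_rc_16_2 lc_c_rc_17_2 lc_c_rc_2_3 lc_c_rc_15_0 lc_c_rc_28_8 lc_c_rc_16_2 lc_c_rc_17_2 lc_c_rc_28_6 lc_c_rc_8_3 lc_c_rc_17_2 lc_c_rc_17_0 lc_c_rc_2_1 lc_c_rc_15_2 lc_c_rc_13_0 lc_c_rc_16_2) (@D3.rec (fun _ => (Cert rels S Gen.c)) lc_c_rc_15_2 lc_c_rc_16_2 lc_c_rc_2_3 lc_c_rc_15_2 lc_c_rc_17_2 lc_c_rc_8_3 lc_c_rc_13_0 lc_c_rc_8_3 lc_c_rc_17_2 lc_c_rc_13_0 lc_c_rc_2_3 lc_c_rc_13_0 lc_c_rc_15_2 lc_c_Cert_tree lc_c_rc_13_0 lc_c_rc_16_2 lc_c_rc_2_3 lc_c_rc_13_0 lc_c_rc_16_2 lc_c_rc_13_0 lc_c_rc_13_0 lc_c_rc_28_4 lc_c_rc_16_2 lc_c_rc_15_0 lc_c_rc_16_2 lc_c_rc_16_2 lc_c_rc_14_12 lc_c_rc_17_2 lc_c_rc_15_2 lc_c_rc_8_3 lc_c_rc_13_1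 lc_c_rc_17_2 lc_c_rc_28_2 lc_c_rc_2_1 lc_c_rc_17_2 lc_c_rc_2_1 lc_c_rc_2_1 lc_c_rc_2_1 lc_c_rc_16_2 lc_c_rc_13_0) (@D3.rec (fun _ => (Cert rels S Gen.c)) lc_c_rc_16_2 lc_c_rc_17_2 lc_c_rc_15_2 lc_c_rc_16_2 lc_c_rc_17_2 lc_c_rc_15_0 lc_c_rc_15_2 lc_c_rc_28_8 lc_c_rc_16_2 lc_c_rc_17_2 lc_c_rc_28_6 lc_c_rc_8_3 lc_c_rc_17_2 lc_c_rc_8_3 lc_c_rc_2_1 lc_c_rc_2_3 lc_c_rc_13_0 lc_c_rc_17_2 lc_c_rc_15_2 lc_c_rc_30_14 lc_c_rc_17_2 lc_c_rc_15_2 lc_c_rc_8_3 lc_c_rc_32_70 lc_c_rc_16_2 lc_c_rc_28_6 lc_c_rc_13_0 lc_c_rc_28_8 lc_c_rc_32_23 lc_c_rc_2_1 lc_c_rc_28_6 lc_c_rc_15_2 lc_c_rc_15_2 lc_c_rc_14_10 lc_c_rc_28_2 lc_c_rc_2_3 lc_c_rc_17_2 lc_c_rc_2_3 lc_c_rc_15_2 lc_c_rc_16_2) (@D3.rec (fun _ => (Cert rels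 S Gen.c)) lc_c_rc_16_2 lc_c_Cert_tree lc_c_rc_2_3 lc_c_rc_13_0 lc_c_rc_28_4 lc_c_rc_2_1 lc_c_rc_16_2 lc_c_rc_17_2 lc_c_rc_16_2 lc_c_rc_8_3 lc_c_rc_16_0 lc_c_rc_28_6 lc_c_rc_13_0 lc_c_rc_32_13 lc_c_rc_28_6 lc_c_rc_2_1 lc_c_rc_15_2 lc_c_rc_15_2 lc_c_rc_16_0 lc_c_rc_2_3 lc_c_rc_28_2 lc_c_rc_8_3 lc_c_rc_32_37 lc_c_rc_15_2 lc_c_rc_2_1 lc_c_rc_16_2 lc_c_rc_8_3 lc_c_rc_13_0 lc_c_rc_16_2 lc_c_rc_28_6 lc_c_rc_2_1 lc_c_rc_13_0 lc_c_rc_17_2 lc_c_rc_30_6 lc_c_rc_28_4 lc_c_rc_15_2 lc_c_rc_15_2 lc_c_rc_15_2 lc_c_rc_2_1 lc_c_rc_16_2) (@D3.rec (fun _ => (Cert rels S Gen.c)) lc_c_rc_28_4 lc_c_rc_17_2 lc_c_rc_28_4 lc_c_rc_17_2 lc_c_rc_16_2 lc_c_rc_15_2 lc_c_rc_15_2 lc_c_rc_13_0 lc_c_rc_8_3 lc_c_rc_28_4 lc_c_rc_8_3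 lc_c_rc_8_3 lc_c_rc_17_2 lc_c_Cert_tree lc_c_rc_13_0 lc_c_rc_16_2 lc_c_Cert_tree lc_c_rc_13_0 lc_c_rc_17_2 lc_c_rc_17_2 lc_c_rc_16_2 lc_c_rc_8_3 lc_c_rc_17_2 lc_c_rc_2_1 lc_c_rc_17_2 lc_c_rc_13_1 lc_c_rc_17_2 lc_c_Cert_tree lc_c_rc_17_2 lc_c_rc_13_0 lc_c_rc_16_2 lc_c_rc_13_0 lc_c_rc_16_2 lc_c_rc_13_0 lc_c_rc_16_2 lc_c_Cert_tree lc_c_rc_2_1 lc_c_rc_16_2 lc_c_rc_13_0 lc_c_rc_16_2) (@D3.rec (fun _ => (Cert rels S Gen.c)) lc_c_rc_17_2 lc_c_rc_16_0 lc_c_rc_15_2 lc_c_rc_8_1 lc_c_rc_2_1 lc_c_rc_2_1 lc_c_rc_16_2 lc_c_rc_17_2 lc_c_rc_8_3 lc_c_rc_16_2 lc_c_rc_2_1 lc_c_rc_16_2 lc_c_rc_28_8 lc_c_rc_17_2 lc_c_Cert_tree lc_c_rc_16_2 lc_c_rc_13_0 lc_c_rc_17_2 lc_c_rc_13_0 lc_c_rc_17_2 lc_c_rc_13_0 lc_c_rc_17_2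 lc_c_rc_15_0 lc_c_rc_17_2 lc_c_rc_13_0 lc_c_rc_16_2 lc_c_rc_16_0 lc_c_rc_15_2 lc_c_rc_16_2 lc_c_rc_2_1 lc_c_rc_2_1 lc_c_rc_16_2 lc_c_rc_30_10 lc_c_rc_15_2 lc_c_rc_15_2 lc_c_rc_28_2 lc_c_rc_17_0 lc_c_rc_14_12 lc_c_rc_17_2 lc_c_rc_17_2) (@D3.rec (fun _ => (Cert rels S Gen.c)) lc_c_rc_28_6 lc_c_rc_28_4 lc_c_rc_15_2 lc_c_rc_16_2 lc_c_rc_15_2 lc_c_rc_28_2 lc_c_rc_17_2 lc_c_rc_16_2 lc_c_rc_17_0 lc_c_rc_17_2 lc_c_rc_15_0 lc_c_rc_15_0 lc_c_rc_15_2 lc_c_rc_15_2 lc_c_rc_16_2 lc_c_rc_13_0 lc_c_rc_2_1 lc_c_rc_8_1 lc_c_rc_15_2 lc_c_rc_15_0 lc_c_rc_16_2 lc_c_rc_2_1 lc_c_rc_16_2 lc_c_rc_16_2 lc_c_rc_17_2 lc_c_rc_30_14 lc_c_rc_8_3 lc_c_rc_17_2 lc_c_rc_17_2 lc_c_Cert_tree lc_c_rc_13_0 lc_c_rc_16_2 lc_c_rc_28_2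 lc_c_rc_16_0 lc_c_rc_32_65 lc_c_rc_17_2 lc_c_rc_16_2 lc_c_rc_28_6 lc_c_rc_28_4 lc_c_rc_30_14) (@D3.rec (fun _ => (Cert rels S Gen.c)) lc_c_rc_16_2 lc_c_rc_15_2 lc_c_rc_28_2 lc_c_rc_28_6 lc_c_rc_16_2 lc_c_rc_17_0 lc_c_rc_8_3 lc_c_rc_15_2 lc_c_rc_2_1 lc_c_rc_16_2 lc_c_rc_13_0 lc_c_rc_2_3 lc_c_rc_16_0 lc_c_rc_17_2 lc_c_rc_2_1 lc_c_rc_17_2 lc_c_rc_17_2 lc_c_rc_16_2 lc_c_rc_16_0 lc_c_rc_8_3 lc_c_rc_16_2 lc_c_rc_16_2 lc_c_Cert_tree lc_c_rc_13_0 lc_c_rc_17_2 lc_c_rc_16_2 lc_c_rc_17_2 lc_c_rc_8_1 lc_c_rc_15_2 lc_c_rc_28_6 lc_c_rc_28_6 lc_c_rc_28_6 lc_c_rc_17_2 lc_c_rc_8_3 lc_c_rc_2_1 lc_c_rc_2_1 lc_c_rc_2_1 lc_c_rc_8_1 lc_c_rc_17_2 lc_c_rc_15_0) (@D3.rec (fun _ => (Cert rels S Gen.c)) lc_c_rc_15_2 lc_c_rc_28_6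 lc_c_rc_28_6 lc_c_rc_15_0 lc_c_rc_8_3 lc_c_rc_8_1 lc_c_rc_13_0 lc_c_rc_17_2 lc_c_rc_8_1 lc_c_rc_16_2 lc_c_rc_17_2 lc_c_rc_14_4 lc_c_rc_2_3 lc_c_rc_28_4 lc_c_rc_16_2 lc_c_rc_16_2 lc_c_Cert_tree lc_c_rc_30_14 lc_c_rc_13_0 lc_c_rc_15_2 lc_c_rc_28_6 lc_c_rc_32_58 lc_c_rc_16_2 lc_c_rc_16_2 lc_c_rc_16_2 lc_c_rc_17_2 lc_c_rc_17_2 lc_c_rc_14_4 lc_c_rc_28_4 lc_c_rc_15_2 lc_c_rc_32_58 lc_c_rc_2_1 lc_c_rc_28_2 lc_c_rc_13_0 lc_c_rc_13_1 lc_c_rc_2_1 lc_c_rc_2_1 lc_c_rc_13_0 lc_c_rc_13_1 lc_c_rc_28_6)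
def ce_c_20 : D2 → D3 → (Cert rels S Gen.c) := @D2.rec (fun _ => D3 → (Cert rels S Gen.c)) (@D3.rec (fun _ => (Cert rels S Gen.c)) lc_c_rc_13_0 lc_c_rc_28_8 lc_c_rc_15_2 lc_c_rc_28_4 lc_c_rc_16_2 lc_c_rc_17_0 lc_c_rc_13_0 lc_c_rc_16_2 lc_c_rc_13_0 lc_c_rc_28_6 lc_c_rc_13_0 lc_c_rc_28_8 lc_c_rc_15_2 lc_c_rc_17_2 lc_c_rc_28_2 lc_c_rc_15_2 lc_c_rc_13_0 lc_c_rc_28_6 lc_c_rc_13_0 lc_c_rc_15_2 lc_c_rc_15_2 lc_c_rc_28_2 lc_c_rc_16_2 lc_c_rc_15_2 lc_c_rc_15_2 lc_c_rc_15_2 lc_c_rc_15_2 lc_c_rc_13_0 lc_c_rc_2_1 lc_c_rc_13_0 lc_c_rc_15_2 lc_c_rc_32_49 lc_c_rc_16_0 lc_c_rc_2_1 lc_c_rc_16_2 lc_c_rc_2_1 lc_c_rc_2_1 lc_c_rc_15_2 lc_c_rc_15_2 lc_c_rc_28_8) (@D3.rec (fun _ => (Cert rels S Gen.c)) lc_c_rc_15_2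 lc_c_rc_15_2 lc_c_rc_15_2 lc_c_rc_28_6 lc_c_rc_16_0 lc_c_rc_17_2 lc_c_rc_16_2 lc_c_rc_13_0 lc_c_rc_8_3 lc_c_rc_28_4 lc_c_Cert_tree lc_c_rc_30_10 lc_c_rc_13_0 lc_c_rc_17_2 lc_c_rc_13_0 lc_c_rc_8_3 lc_c_rc_28_4 lc_c_Cert_tree lc_c_rc_17_2 lc_c_rc_13_0 lc_c_rc_16_2 lc_c_rc_16_2 lc_c_rc_17_2 lc_c_rc_17_2 lc_c_Cert_tree lc_c_rc_8_3 lc_c_rc_2_1 lc_c_rc_16_2 lc_c_rc_2_1 lc_c_rc_15_2 lc_c_rc_16_2 lc_c_rc_16_2 lc_c_rc_13_0 lc_c_rc_17_2 lc_c_rc_17_2 lc_c_rc_13_0 lc_c_rc_15_2 lc_c_rc_16_2 lc_c_rc_28_6 lc_c_rc_17_2) (@D3.rec (fun _ => (Cert rels S Gen.c)) lc_c_rc_8_3 lc_c_rc_17_2 lc_c_rc_8_1 lc_c_rc_16_2 lc_c_rc_17_2 lc_c_rc_16_2 lc_c_rc_17_2 lc_c_Cert_tree lc_c_rc_16_2 lc_c_rc_2_1 lc_c_rc_17_2 lc_c_rc_8_3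 lc_c_rc_8_5 lc_c_rc_15_2 lc_c_rc_17_2 lc_c_rc_17_2 lc_c_rc_15_2 lc_c_rc_16_2 lc_c_rc_16_2 lc_c_rc_28_6 lc_c_rc_2_1 lc_c_rc_17_2 lc_c_rc_8_3 lc_c_rc_16_2 lc_c_rc_8_3 lc_c_rc_16_2 lc_c_rc_15_2 lc_c_rc_17_2 lc_c_rc_2_3 lc_c_rc_2_1 lc_c_rc_15_2 lc_c_rc_16_2 lc_c_rc_8_1 lc_c_rc_15_2 lc_c_Cert_tree lc_c_Cert_tree lc_c_rc_28_6 lc_c_rc_13_0 lc_c_rc_16_2 lc_c_rc_13_0) (@D3.rec (fun _ => (Cert rels S Gen.c)) lc_c_rc_13_1 lc_c_rc_8_3 lc_c_Cert_tree lc_c_rc_13_0 lc_c_rc_16_2 lc_c_Cert_tree lc_c_rc_13_0 lc_c_rc_16_2 lc_c_rc_16_2 lc_c_rc_17_2 lc_c_rc_13_0 lc_c_rc_16_2 lc_c_rc_13_0 lc_c_rc_17_2 lc_c_rc_13_0 lc_c_rc_2_3 lc_c_rc_15_2 lc_c_rc_2_1 lc_c_rc_28_6 lc_c_rc_15_2 lc_c_rc_17_2 lc_c_rc_30_14 lc_c_rc_2_1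 lc_c_Cert_tree lc_c_Cert_tree lc_c_rc_28_6 lc_c_rc_13_0 lc_c_rc_17_2 lc_c_rc_13_0 lc_c_rc_2_3 lc_c_rc_15_0 lc_c_rc_15_2 lc_c_rc_13_0 lc_c_rc_32_42 lc_c_rc_28_8 lc_c_rc_13_0 lc_c_rc_17_2 lc_c_rc_17_2 lc_c_rc_2_3 lc_c_rc_13_0) (@D3.rec (fun _ => (Cert rels S Gen.c)) lc_c_rc_17_2 lc_c_rc_14_12 lc_c_rc_16_2 lc_c_rc_14_4 lc_c_rc_17_2 lc_c_rc_2_3 lc_c_Cert_tree lc_c_rc_13_0 lc_c_rc_8_3 lc_c_rc_17_2 lc_c_rc_15_2 lc_c_rc_8_3 lc_c_rc_15_2 lc_c_rc_13_0 lc_c_rc_16_2 lc_c_rc_8_3 lc_c_rc_30_6 lc_c_rc_13_0 lc_c_rc_8_1 lc_c_rc_2_1 lc_c_rc_13_0 lc_c_rc_16_2 lc_c_rc_16_2 lc_c_rc_17_2 lc_c_rc_13_0 lc_c_rc_13_0 lc_c_rc_8_5 lc_c_rc_16_0 lc_c_rc_2_1 lc_c_rc_16_2 lc_c_rc_8_3 lc_c_rc_8_3 lc_c_Cert_tree lc_c_rc_13_0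 lc_c_rc_8_3 lc_c_rc_16_2 lc_c_rc_8_3 lc_c_rc_30_18 lc_c_rc_15_2 lc_c_rc_13_0) (@D3.rec (fun _ => (Cert rels S Gen.c)) lc_c_rc_17_2 lc_c_rc_28_6 lc_c_rc_15_2 lc_c_rc_13_0 lc_c_rc_15_2 lc_c_rc_30_10 lc_c_rc_13_0 lc_c_rc_17_2 lc_c_rc_17_2 lc_c_rc_2_3 lc_c_rc_13_0 lc_c_rc_13_0 lc_c_rc_13_1 lc_c_rc_15_2 lc_c_rc_2_1 lc_c_rc_17_2 lc_c_rc_8_3 lc_c_rc_17_2 lc_c_rc_2_1 lc_c_rc_17_2 lc_c_rc_8_3 lc_c_rc_16_2 lc_c_rc_15_0 lc_c_rc_16_2 lc_c_rc_16_2 lc_c_rc_17_2 lc_c_rc_8_1 lc_c_rc_13_0 lc_c_rc_16_2 lc_c_rc_28_2 lc_c_rc_16_2 lc_c_rc_13_0 lc_c_rc_28_6 lc_c_rc_13_0 lc_c_rc_28_2 lc_c_rc_16_0 lc_c_rc_13_0 lc_c_rc_16_2 lc_c_rc_28_8 lc_c_rc_16_2) (@D3.rec (fun _ => (Cert rels S Gen.c)) lc_c_rc_16_2 lc_c_rc_16_2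 lc_c_rc_16_0 lc_c_Cert_tree lc_c_rc_13_0 lc_c_rc_8_3 lc_c_rc_28_4 lc_c_rc_13_0 lc_c_rc_15_2 lc_c_rc_13_0 lc_c_rc_8_3 lc_c_rc_17_2 lc_c_rc_16_2 lc_c_rc_14_4 lc_c_rc_15_2 lc_c_rc_16_2 lc_c_rc_13_0 lc_c_rc_28_4 lc_c_rc_28_2 lc_c_rc_8_3 lc_c_rc_15_2 lc_c_rc_2_3 lc_c_rc_28_6 lc_c_rc_17_2 lc_c_rc_28_6 lc_c_rc_13_0 lc_c_rc_28_2 lc_c_rc_15_2 lc_c_rc_13_0 lc_c_rc_28_6 lc_c_rc_13_0 lc_c_rc_28_6 lc_c_rc_16_2 lc_c_rc_13_0 lc_c_rc_17_2 lc_c_rc_28_4 lc_c_rc_17_2 lc_c_rc_16_2 lc_c_rc_17_2 lc_c_rc_17_0) (@D3.rec (fun _ => (Cert rels S Gen.c)) lc_c_Cert_tree lc_c_rc_13_0 lc_c_rc_15_2 lc_c_rc_15_2 lc_c_rc_13_0 lc_c_rc_8_3 lc_c_rc_28_4 lc_c_rc_17_2 lc_c_rc_28_4 lc_c_rc_15_2 lc_c_rc_15_0 lc_c_rc_13_0 lc_c_rc_17_2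 lc_c_Cert_tree lc_c_Cert_tree lc_c_rc_17_0 lc_c_rc_13_0 lc_c_rc_17_0 lc_c_rc_13_0 lc_c_rc_16_2 lc_c_rc_13_0 lc_c_rc_17_0 lc_c_Cert_tree lc_c_rc_28_6 lc_c_rc_13_0 lc_c_rc_15_2 lc_c_rc_17_0 lc_c_rc_28_6 lc_c_rc_32_37 lc_c_Cert_tree lc_c_rc_28_6 lc_c_rc_13_0 lc_c_rc_28_6 lc_c_rc_17_2 lc_c_rc_16_2 lc_c_rc_17_2 lc_c_rc_17_0 lc_c_rc_13_0 lc_c_rc_17_2 lc_c_rc_16_2) (@D3.rec (fun _ => (Cert rels S Gen.c)) lc_c_rc_13_0 lc_c_rc_17_2 lc_c_rc_15_2 lc_c_rc_8_3 lc_c_rc_17_2 lc_c_rc_2_3 lc_c_rc_15_2 lc_c_rc_15_2 lc_c_Cert_tree lc_c_rc_13_0 lc_c_rc_2_1 lc_c_rc_17_2 lc_c_rc_14_4 lc_c_rc_8_3 lc_c_rc_2_1 lc_c_rc_8_3 lc_c_rc_32_11 lc_c_rc_16_2 lc_c_rc_2_1 lc_c_rc_16_2 lc_c_rc_15_2 lc_c_rc_13_0 lc_c_rc_16_2 lc_c_rc_13_0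 lc_c_rc_28_8 lc_c_rc_16_2 lc_c_rc_13_0 lc_c_rc_8_3 lc_c_Cert_tree lc_c_rc_17_0 lc_c_rc_16_0 lc_c_rc_13_0 lc_c_rc_17_2 lc_c_rc_13_0 lc_c_rc_28_4 lc_c_Cert_tree lc_c_rc_30_10 lc_c_rc_13_0 lc_c_rc_8_3 lc_c_rc_16_0) (@D3.rec (fun _ => (Cert rels S Gen.c)) lc_c_rc_28_6 lc_c_rc_28_8 lc_c_Cert_tree lc_c_rc_15_0 lc_c_rc_17_2 lc_c_rc_17_2 lc_c_rc_16_0 lc_c_rc_13_0 lc_c_rc_8_3 lc_c_rc_16_0 lc_c_rc_13_0 lc_c_rc_16_0 lc_c_rc_17_2 lc_c_rc_13_0 lc_c_rc_16_2 lc_c_rc_15_2 lc_c_rc_8_3 lc_c_rc_16_2 lc_c_rc_2_3 lc_c_rc_15_2 lc_c_rc_15_2 lc_c_Cert_tree lc_c_rc_13_0 lc_c_rc_2_1 lc_c_rc_16_2 lc_c_rc_14_4 lc_c_rc_28_8 lc_c_rc_17_2 lc_c_rc_32_11 lc_c_rc_15_2 lc_c_rc_13_0 lc_c_rc_17_2 lc_c_rc_13_0 lc_c_rc_15_0 lc_c_rc_17_2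 lc_c_rc_8_3 lc_c_rc_8_3 lc_c_rc_13_0 lc_c_rc_8_1 lc_c_rc_15_2) (@D3.rec (fun _ => (Cert rels S Gen.c)) lc_c_rc_8_3 lc_c_rc_13_0 lc_c_rc_16_2 lc_c_rc_8_3 lc_c_rc_2_3 lc_c_rc_2_1 lc_c_rc_16_2 lc_c_rc_8_3 lc_c_rc_15_0 lc_c_Cert_tree lc_c_Cert_tree lc_c_rc_13_0 lc_c_rc_17_2 lc_c_rc_28_4 lc_c_rc_17_2 lc_c_rc_8_3 lc_c_rc_28_2 lc_c_rc_13_0 lc_c_rc_13_1 lc_c_rc_8_3 lc_c_rc_2_3 lc_c_rc_13_0 lc_c_rc_17_2 lc_c_rc_8_3 lc_c_rc_13_1 lc_c_rc_2_1 lc_c_rc_28_4 lc_c_rc_15_2 lc_c_rc_30_10 lc_c_Cert_tree lc_c_rc_13_0 lc_c_rc_16_2 lc_c_rc_30_10 lc_c_rc_28_4 lc_c_rc_16_2 lc_c_rc_28_6 lc_c_rc_2_1 lc_c_rc_13_0 lc_c_rc_13_0 lc_c_rc_16_2) (@D3.rec (fun _ => (Cert rels S Gen.c)) lc_c_rc_8_1 lc_c_rc_16_2 lc_c_rc_13_0 lc_c_rc_14_10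 lc_c_Cert_tree lc_c_rc_15_2 lc_c_rc_2_3 lc_c_rc_13_0 lc_c_rc_28_6 lc_c_rc_28_4 lc_c_rc_17_2 lc_c_rc_15_2 lc_c_rc_17_2 lc_c_rc_13_0 lc_c_rc_28_6 lc_c_Cert_tree lc_c_rc_30_6 lc_c_rc_13_0 lc_c_rc_28_6 lc_c_rc_17_2 lc_c_rc_15_2 lc_c_rc_15_2 lc_c_rc_15_2 lc_c_rc_15_2 lc_c_rc_8_1 lc_c_rc_8_3 lc_c_Cert_tree lc_c_rc_13_0 lc_c_rc_16_2 lc_c_rc_8_1 lc_c_rc_15_2 lc_c_rc_2_1 lc_c_rc_16_2 lc_c_rc_8_3 lc_c_rc_8_3 lc_c_Cert_tree lc_c_rc_13_0 lc_c_rc_17_2 lc_c_rc_28_8 lc_c_rc_15_2) (@D3.rec (fun _ => (Cert rels S Gen.c)) lc_c_rc_2_1 lc_c_rc_2_3 lc_c_rc_8_3 lc_c_rc_8_3 lc_c_rc_16_2 lc_c_rc_28_6 lc_c_rc_16_2 lc_c_rc_8_3 lc_c_rc_8_3 lc_c_rc_17_2 lc_c_rc_28_6 lc_c_rc_17_2 lc_c_rc_2_1 lc_c_rc_13_0 lc_c_rc_8_1 lc_c_rc_13_0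 lc_c_rc_8_1 lc_c_rc_13_0 lc_c_rc_13_0 lc_c_rc_2_1 lc_c_rc_2_1 lc_c_rc_13_0 lc_c_rc_15_0 lc_c_rc_2_1 lc_c_rc_16_2 lc_c_rc_13_0 lc_c_rc_15_2 lc_c_Cert_tree lc_c_rc_16_2 lc_c_rc_8_1 lc_c_rc_13_0 lc_c_rc_17_2 lc_c_rc_32_65 lc_c_rc_15_0 lc_c_rc_2_1 lc_c_rc_14_10 lc_c_rc_15_2 lc_c_rc_15_2 lc_c_rc_13_1 lc_c_rc_17_2) (@D3.rec (fun _ => (Cert rels S Gen.c)) lc_c_rc_17_0 lc_c_rc_13_0 lc_c_rc_2_3 lc_c_rc_15_0 lc_c_rc_13_0 lc_c_rc_8_1 lc_c_rc_14_2 lc_c_rc_28_2 lc_c_rc_15_0 lc_c_rc_13_0 lc_c_rc_13_0 lc_c_rc_15_2 lc_c_rc_2_3 lc_c_rc_13_0 lc_c_rc_28_4 lc_c_rc_13_0 lc_c_rc_28_4 lc_c_rc_2_1 lc_c_rc_17_2 lc_c_rc_15_2 lc_c_rc_28_2 lc_c_rc_8_3 lc_c_rc_8_3 lc_c_rc_16_2 lc_c_rc_28_6 lc_c_rc_2_1 lc_c_rc_16_2 lc_c_rc_15_2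 lc_c_rc_28_6 lc_c_rc_8_3 lc_c_rc_8_3 lc_c_rc_17_2 lc_c_rc_16_0 lc_c_rc_2_1 lc_c_rc_8_3 lc_c_rc_8_3 lc_c_rc_16_0 lc_c_rc_15_2 lc_c_rc_8_3 lc_c_rc_16_2) (@D3.rec (fun _ => (Cert rels S Gen.c)) lc_c_rc_17_2 lc_c_rc_16_2 lc_c_rc_15_0 lc_c_rc_28_2 lc_c_rc_13_0 lc_c_rc_16_2 lc_c_rc_2_1 lc_c_rc_17_2 lc_c_rc_17_2 lc_c_rc_16_2 lc_c_rc_16_2 lc_c_rc_2_1 lc_c_Cert_tree lc_c_rc_13_0 lc_c_rc_2_3 lc_c_rc_28_4 lc_c_rc_17_2 lc_c_rc_28_4 lc_c_rc_2_1 lc_c_rc_15_2 lc_c_rc_17_2 lc_c_Cert_tree lc_c_rc_2_3 lc_c_rc_13_0 lc_c_rc_15_2 lc_c_Cert_tree lc_c_rc_28_6 lc_c_rc_17_2 lc_c_Cert_tree lc_c_Cert_tree lc_c_rc_13_0 lc_c_rc_16_2 lc_c_rc_13_0 lc_c_rc_30_10 lc_c_rc_17_2 lc_c_rc_13_1 lc_c_rc_13_0 lc_c_rc_30_10 lc_c_rc_16_2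 lc_c_rc_2_1) (@D3.rec (fun _ => (Cert rels S Gen.c)) lc_c_rc_8_3 lc_c_rc_13_1 lc_c_rc_2_1 lc_c_rc_8_3 lc_c_rc_2_1 lc_c_rc_17_2 lc_c_rc_17_2 lc_c_rc_8_3 lc_c_rc_28_6 lc_c_rc_13_0 lc_c_rc_17_2 lc_c_rc_2_1 lc_c_rc_16_2 lc_c_rc_16_2 lc_c_rc_16_2 lc_c_rc_16_2 lc_c_Cert_tree lc_c_rc_13_0 lc_c_rc_15_0 lc_c_rc_28_4 lc_c_rc_28_4 lc_c_rc_16_2 lc_c_rc_17_2 lc_c_rc_15_2 lc_c_rc_16_2 lc_c_Cert_tree lc_c_rc_13_0 lc_c_rc_13_0 lc_c_rc_15_2 lc_c_Cert_tree lc_c_rc_8_3 lc_c_rc_16_2 lc_c_Cert_tree lc_c_Cert_tree lc_c_rc_13_0 lc_c_rc_17_2 lc_c_rc_13_0 lc_c_rc_16_2 lc_c_rc_2_1 lc_c_rc_2_1) (@D3.rec (fun _ => (Cert rels S Gen.c)) lc_c_rc_13_0 lc_c_rc_8_3 lc_c_rc_17_2 lc_c_rc_13_0 lc_c_rc_8_3 lc_c_rc_15_2 lc_c_rc_15_2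 lc_c_rc_16_2 lc_c_rc_28_4 lc_c_rc_13_0 lc_c_rc_8_3 lc_c_rc_28_6 lc_c_rc_15_2 lc_c_rc_8_1 lc_c_rc_2_1 lc_c_rc_28_4 lc_c_rc_28_4 lc_c_rc_15_2 lc_c_rc_17_2 lc_c_rc_28_2 lc_c_rc_13_0 lc_c_rc_13_0 lc_c_Cert_tree lc_c_rc_16_2 lc_c_rc_15_2 lc_c_rc_2_3 lc_c_rc_15_2 lc_c_rc_15_2 lc_c_rc_13_0 lc_c_rc_17_2 lc_c_rc_17_2 lc_c_Cert_tree lc_c_Cert_tree lc_c_rc_13_0 lc_c_rc_17_2 lc_c_rc_8_3 lc_c_rc_28_6 lc_c_rc_13_0 lc_c_rc_17_2 lc_c_rc_8_3) (@D3.rec (fun _ => (Cert rels S Gen.c)) lc_c_rc_8_1 lc_c_Cert_tree lc_c_rc_2_1 lc_c_rc_28_4 lc_c_rc_17_2 lc_c_rc_15_2 lc_c_rc_16_0 lc_c_rc_13_0 lc_c_rc_15_2 lc_c_rc_17_2 lc_c_rc_2_1 lc_c_rc_13_0 lc_c_rc_8_3 lc_c_rc_28_6 lc_c_rc_15_2 lc_c_rc_28_2 lc_c_rc_2_1 lc_c_rc_16_2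 lc_c_rc_28_4 lc_c_rc_2_1 lc_c_rc_32_18 lc_c_rc_17_2 lc_c_rc_13_0 lc_c_rc_13_0 lc_c_Cert_tree lc_c_rc_17_2 lc_c_rc_15_2 lc_c_rc_32_8 lc_c_rc_14_10 lc_c_rc_15_2 lc_c_rc_13_0 lc_c_rc_16_2 lc_c_rc_16_2 lc_c_Cert_tree lc_c_Cert_tree lc_c_rc_13_0 lc_c_rc_16_2 lc_c_rc_8_3 lc_c_rc_2_3 lc_c_rc_13_0) (@D3.rec (fun _ => (Cert rels S Gen.c)) lc_c_rc_32_63 lc_c_rc_28_6 lc_c_rc_2_1 lc_c_rc_2_1 lc_c_rc_28_4 lc_c_rc_16_2 lc_c_rc_16_2 lc_c_rc_16_2 lc_c_rc_16_2 lc_c_rc_8_3 lc_c_rc_13_0 lc_c_rc_8_3 lc_c_rc_28_2 lc_c_rc_13_0 lc_c_rc_8_3 lc_c_rc_8_3 lc_c_Cert_tree lc_c_rc_2_3 lc_c_rc_13_0 lc_c_rc_16_2 lc_c_rc_8_3 lc_c_rc_28_4 lc_c_rc_8_3 lc_c_rc_28_6 lc_c_rc_16_2 lc_c_rc_16_2 lc_c_rc_28_2 lc_c_rc_8_5 lc_c_rc_2_3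 lc_c_rc_30_10 lc_c_rc_17_2 lc_c_rc_28_4 lc_c_rc_13_0 lc_c_rc_14_4 lc_c_rc_16_0 lc_c_rc_13_0 lc_c_rc_8_3 lc_c_rc_17_2 lc_c_Cert_tree lc_c_rc_16_2) (@D3.rec (fun _ => (Cert rels S Gen.c)) lc_c_Cert_tree lc_c_rc_13_0 lc_c_rc_32_60 lc_c_rc_17_2 lc_c_rc_13_0 lc_c_rc_8_3 lc_c_rc_17_2 lc_c_rc_2_1 lc_c_rc_13_0 lc_c_rc_15_2 lc_c_rc_16_2 lc_c_rc_13_1 lc_c_rc_2_1 lc_c_rc_8_3 lc_c_rc_13_0 lc_c_rc_15_2 lc_c_rc_28_8 lc_c_rc_2_1 lc_c_rc_15_2 lc_c_rc_8_1 lc_c_rc_30_14 lc_c_rc_17_2 lc_c_rc_13_0 lc_c_rc_16_2 lc_c_rc_15_2 lc_c_Cert_tree lc_c_rc_13_0 lc_c_rc_28_8 lc_c_rc_13_0 lc_c_Cert_tree lc_c_rc_13_0 lc_c_rc_2_3 lc_c_rc_8_3 lc_c_rc_16_2 lc_c_rc_16_2 lc_c_rc_2_1 lc_c_rc_28_2 lc_c_rc_8_3 lc_c_rc_13_0 lc_c_rc_15_2)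 (@D3.rec (fun _ => (Cert rels S Gen.c)) lc_c_rc_13_1 lc_c_rc_15_2 lc_c_rc_15_2 lc_c_rc_2_3 lc_c_rc_2_3 lc_c_rc_16_2 lc_c_rc_17_2 lc_c_rc_8_3 lc_c_rc_16_2 lc_c_rc_13_1 lc_c_rc_2_3 lc_c_rc_16_2 lc_c_rc_28_2 lc_c_rc_28_6 lc_c_rc_28_6 lc_c_Cert_tree lc_c_rc_13_0 lc_c_rc_2_1 lc_c_rc_2_3 lc_c_rc_13_0 lc_c_rc_17_2 lc_c_rc_17_2 lc_c_rc_8_3 lc_c_rc_28_4 lc_c_rc_17_2 lc_c_Cert_tree lc_c_rc_15_2 lc_c_rc_28_6 lc_c_rc_8_3 lc_c_rc_8_3 lc_c_rc_15_2 lc_c_rc_16_0 lc_c_rc_2_1 lc_c_rc_13_0 lc_c_rc_16_2 lc_c_rc_15_2 lc_c_rc_15_2 lc_c_rc_30_14 lc_c_rc_13_0 lc_c_rc_28_4) (@D3.rec (fun _ => (Cert rels S Gen.c)) lc_c_rc_16_2 lc_c_rc_15_2 lc_c_rc_17_2 lc_c_rc_15_2 lc_c_rc_8_3 lc_c_rc_2_1 lc_c_rc_17_2 lc_c_rc_28_2 lc_c_rc_28_6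 lc_c_rc_2_3 lc_c_rc_13_0 lc_c_rc_16_2 lc_c_rc_8_3 lc_c_rc_28_6 lc_c_rc_13_0 lc_c_rc_15_2 lc_c_rc_30_14 lc_c_rc_17_2 lc_c_rc_17_2 lc_c_rc_17_2 lc_c_rc_8_3 lc_c_rc_13_0 lc_c_rc_16_2 lc_c_rc_28_2 lc_c_rc_13_0 lc_c_rc_13_0 lc_c_Cert_tree lc_c_rc_17_2 lc_c_rc_13_0 lc_c_rc_17_2 lc_c_rc_15_0 lc_c_rc_28_4 lc_c_rc_8_3 lc_c_rc_28_6 lc_c_rc_17_2 lc_c_rc_28_6 lc_c_rc_28_2 lc_c_rc_14_12 lc_c_rc_32_65 lc_c_rc_28_2) (@D3.rec (fun _ => (Cert rels S Gen.c)) lc_c_rc_14_4 lc_c_rc_28_8 lc_c_rc_13_0 lc_c_rc_16_2 lc_c_Cert_tree lc_c_rc_17_2 lc_c_Cert_tree lc_c_rc_13_0 lc_c_rc_13_0 lc_c_rc_16_2 lc_c_rc_2_3 lc_c_rc_8_3 lc_c_rc_16_2 lc_c_rc_2_1 lc_c_rc_13_0 lc_c_rc_28_8 lc_c_rc_32_70 lc_c_rc_30_10 lc_c_rc_2_1 lc_c_rc_8_3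 lc_c_rc_13_1 lc_c_rc_28_8 lc_c_rc_15_2 lc_c_rc_15_2 lc_c_rc_15_2 lc_c_Cert_tree lc_c_rc_13_0 lc_c_rc_28_8 lc_c_rc_13_0 lc_c_rc_13_0 lc_c_rc_8_3 lc_c_rc_17_2 lc_c_rc_16_0 lc_c_rc_2_1 lc_c_rc_8_3 lc_c_rc_13_0 lc_c_rc_15_2 lc_c_rc_28_2 lc_c_rc_15_2 lc_c_rc_15_2) (@D3.rec (fun _ => (Cert rels S Gen.c)) lc_c_rc_8_3 lc_c_rc_2_3 lc_c_rc_16_2 lc_c_rc_17_2 lc_c_rc_17_2 lc_c_rc_17_2 lc_c_rc_15_2 lc_c_rc_15_2 lc_c_rc_28_6 lc_c_rc_28_2 lc_c_rc_30_10 lc_c_rc_13_0 lc_c_rc_15_2 lc_c_rc_13_0 lc_c_rc_15_2 lc_c_rc_28_2 lc_c_rc_2_1 lc_c_rc_16_2 lc_c_rc_16_2 lc_c_rc_28_4 lc_c_rc_2_3 lc_c_rc_8_3 lc_c_rc_15_2 lc_c_rc_28_2 lc_c_rc_13_0 lc_c_rc_28_4 lc_c_rc_17_2 lc_c_rc_15_2 lc_c_rc_16_2 lc_c_rc_15_2 lc_c_rc_15_2 lc_c_rc_32_63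 lc_c_rc_15_2 lc_c_rc_28_2 lc_c_rc_2_1 lc_c_rc_13_0 lc_c_rc_2_1 lc_c_rc_17_0 lc_c_rc_13_0 lc_c_rc_2_1) (@D3.rec (fun _ => (Cert rels S Gen.c)) lc_c_rc_13_0 lc_c_rc_15_2 lc_c_rc_13_0 lc_c_rc_16_2 lc_c_rc_13_0 lc_c_rc_13_0 lc_c_rc_8_3 lc_c_rc_15_2 lc_c_rc_15_2 lc_c_rc_28_6 lc_c_rc_16_2 lc_c_rc_16_0 lc_c_rc_14_10 lc_c_rc_15_2 lc_c_rc_28_6 lc_c_rc_13_0 lc_c_rc_13_0 lc_c_rc_8_3 lc_c_rc_15_2 lc_c_rc_17_2 lc_c_rc_8_3 lc_c_rc_15_2 lc_c_rc_16_2 lc_c_Cert_tree lc_c_rc_16_0 lc_c_rc_28_4 lc_c_rc_2_1 lc_c_rc_16_2 lc_c_rc_14_10 lc_c_rc_13_0 lc_c_rc_16_2 lc_c_rc_13_0 lc_c_rc_13_0 lc_c_rc_14_12 lc_c_rc_17_2 lc_c_rc_28_2 lc_c_rc_13_0 lc_c_rc_30_10 lc_c_rc_13_0 lc_c_rc_28_6) (@D3.rec (fun _ => (Cert rels S Gen.c))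 lc_c_rc_8_1 lc_c_rc_16_2 lc_c_rc_8_1 lc_c_rc_17_2 lc_c_rc_28_6 lc_c_rc_28_4 lc_c_rc_13_0 lc_c_rc_15_2 lc_c_rc_28_2 lc_c_rc_2_1 lc_c_rc_15_2 lc_c_rc_17_2 lc_c_rc_15_2 lc_c_rc_28_4 lc_c_rc_28_6 lc_c_rc_28_4 lc_c_rc_13_0 lc_c_rc_16_2 lc_c_rc_28_6 lc_c_rc_28_6 lc_c_rc_28_8 lc_c_rc_2_1 lc_c_rc_17_2 lc_c_rc_15_2 lc_c_rc_8_3 lc_c_rc_8_1 lc_c_rc_28_4 lc_c_rc_13_0 lc_c_rc_16_2 lc_c_rc_8_1 lc_c_rc_15_2 lc_c_rc_2_1 lc_c_rc_2_1 lc_c_rc_16_2 lc_c_rc_16_2 lc_c_rc_28_2 lc_c_rc_17_2 lc_c_rc_8_3 lc_c_rc_16_2 lc_c_rc_13_0)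
def ce_c_21 : D2 → D3 → (Cert rels S Gen.c) := @D2.rec (fun _ => D3 → (Cert rels S Gen.c)) (@D3.rec (fun _ => (Cert rels S Gen.c)) lc_c_rc_28_2 lc_c_rc_8_3 lc_c_rc_17_2 lc_c_rc_16_2 lc_c_rc_2_1 lc_c_rc_8_3 lc_c_rc_2_1 lc_c_rc_28_4 lc_c_rc_28_6 lc_c_rc_15_2 lc_c_rc_28_4 lc_c_rc_2_1 lc_c_rc_16_2 lc_c_rc_17_2 lc_c_rc_15_2 lc_c_rc_28_6 lc_c_rc_28_6 lc_c_rc_15_2 lc_c_rc_16_2 lc_c_rc_15_2 lc_c_rc_28_6 lc_c_rc_28_2 lc_c_rc_16_2 lc_c_rc_28_4 lc_c_rc_17_2 lc_c_rc_2_1 lc_c_rc_13_0 lc_c_rc_17_2 lc_c_rc_13_0 lc_c_rc_15_2 lc_c_rc_28_6 lc_c_rc_17_2 lc_c_rc_8_3 lc_c_rc_28_4 lc_c_rc_13_0 lc_c_rc_8_3 lc_c_rc_15_2 lc_c_rc_2_1 lc_c_rc_8_3 lc_c_rc_15_2) (@D3.rec (fun _ => (Cert rels S Gen.c)) lc_c_rc_17_2 lc_c_rc_2_1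 lc_c_rc_8_3 lc_c_rc_2_1 lc_c_rc_2_1 lc_c_rc_13_0 lc_c_rc_13_0 lc_c_rc_32_32 lc_c_rc_16_2 lc_c_rc_28_2 lc_c_rc_13_0 lc_c_rc_13_0 lc_c_rc_28_6 lc_c_rc_17_2 lc_c_rc_28_6 lc_c_rc_17_2 lc_c_rc_8_3 lc_c_rc_2_3 lc_c_rc_28_2 lc_c_rc_15_2 lc_c_rc_28_8 lc_c_rc_8_1 lc_c_rc_28_6 lc_c_rc_13_0 lc_c_rc_28_6 lc_c_rc_17_2 lc_c_rc_28_8 lc_c_rc_16_2 lc_c_rc_15_2 lc_c_rc_8_3 lc_c_rc_8_1 lc_c_rc_28_4 lc_c_rc_13_0 lc_c_rc_16_2 lc_c_rc_28_2 lc_c_rc_17_2 lc_c_rc_8_3 lc_c_rc_28_2 lc_c_rc_8_3 lc_c_rc_13_0) (@D3.rec (fun _ => (Cert rels S Gen.c)) lc_c_rc_16_2 lc_c_rc_8_3 lc_c_rc_17_2 lc_c_rc_15_2 lc_c_rc_15_2 lc_c_rc_15_0 lc_c_rc_28_6 lc_c_rc_16_2 lc_c_rc_17_2 lc_c_rc_2_1 lc_c_rc_2_3 lc_c_rc_8_3 lc_c_rc_17_2 lc_c_rc_15_2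 lc_c_rc_28_8 lc_c_rc_28_2 lc_c_rc_17_2 lc_c_rc_17_2 lc_c_rc_16_2 lc_c_rc_15_2 lc_c_rc_16_2 lc_c_rc_14_4 lc_c_rc_32_37 lc_c_rc_16_2 lc_c_rc_2_1 lc_c_rc_16_2 lc_c_rc_16_2 lc_c_rc_8_1 lc_c_rc_8_3 lc_c_rc_16_2 lc_c_rc_32_55 lc_c_rc_17_2 lc_c_rc_2_1 lc_c_rc_8_3 lc_c_rc_16_2 lc_c_rc_13_0 lc_c_rc_2_1 lc_c_rc_17_2 lc_c_rc_17_2 lc_c_rc_15_2) (@D3.rec (fun _ => (Cert rels S Gen.c)) lc_c_rc_15_2 lc_c_rc_17_2 lc_c_rc_2_1 lc_c_rc_15_2 lc_c_rc_8_1 lc_c_rc_8_1 lc_c_rc_13_0 lc_c_rc_13_0 lc_c_rc_15_2 lc_c_rc_15_2 lc_c_rc_13_1 lc_c_rc_16_2 lc_c_rc_17_2 lc_c_rc_16_0 lc_c_rc_17_2 lc_c_rc_13_0 lc_c_rc_17_2 lc_c_rc_15_2 lc_c_rc_17_2 lc_c_rc_14_4 lc_c_rc_17_0 lc_c_rc_8_3 lc_c_rc_2_1 lc_c_rc_17_2 lc_c_rc_28_8 lc_c_rc_15_0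 lc_c_rc_8_3 lc_c_rc_17_2 lc_c_rc_15_0 lc_c_rc_17_2 lc_c_rc_16_2 lc_c_rc_8_3 lc_c_rc_17_2 lc_c_rc_13_0 lc_c_rc_16_2 lc_c_rc_2_1 lc_c_rc_2_1 lc_c_rc_16_2 lc_c_rc_15_2 lc_c_rc_28_6) (@D3.rec (fun _ => (Cert rels S Gen.c)) lc_c_rc_30_10 lc_c_rc_15_2 lc_c_rc_8_1 lc_c_rc_28_2 lc_c_rc_13_0 lc_c_rc_13_0 lc_c_rc_15_2 lc_c_rc_15_2 lc_c_rc_2_1 lc_c_rc_16_2 lc_c_rc_15_2 lc_c_rc_16_2 lc_c_rc_15_2 lc_c_rc_13_0 lc_c_rc_16_2 lc_c_rc_28_4 lc_c_rc_28_6 lc_c_rc_17_2 lc_c_rc_2_1 lc_c_rc_28_2 lc_c_Cert_tree lc_c_rc_17_2 lc_c_rc_2_3 lc_c_rc_13_0 lc_c_rc_16_2 lc_c_rc_16_2 lc_c_rc_17_2 lc_c_rc_28_6 lc_c_rc_17_2 lc_c_rc_2_1 lc_c_rc_16_2 lc_c_rc_28_6 lc_c_rc_28_6 lc_c_rc_16_2 lc_c_rc_16_2 lc_c_Cert_tree lc_c_rc_2_3 lc_c_rc_13_0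 lc_c_rc_28_4 lc_c_rc_16_2) (@D3.rec (fun _ => (Cert rels S Gen.c)) lc_c_rc_17_2 lc_c_rc_15_2 lc_c_rc_8_1 lc_c_rc_28_6 lc_c_rc_15_2 lc_c_rc_15_2 lc_c_rc_15_2 lc_c_rc_17_2 lc_c_rc_2_1 lc_c_rc_15_2 lc_c_rc_16_2 lc_c_rc_15_0 lc_c_rc_16_2 lc_c_rc_17_2 lc_c_rc_15_2 lc_c_rc_13_0 lc_c_rc_2_1 lc_c_rc_14_2 lc_c_rc_15_2 lc_c_rc_8_1 lc_c_rc_16_2 lc_c_rc_8_1 lc_c_rc_13_0 lc_c_rc_8_1 lc_c_rc_15_2 lc_c_rc_16_2 lc_c_rc_17_2 lc_c_rc_16_2 lc_c_rc_17_2 lc_c_rc_8_1 lc_c_rc_28_8 lc_c_rc_15_2 lc_c_rc_17_2 lc_c_rc_13_0 lc_c_rc_8_3 lc_c_rc_8_3 lc_c_rc_15_0 lc_c_rc_17_2 lc_c_rc_28_4 lc_c_rc_2_1) (@D3.rec (fun _ => (Cert rels S Gen.c)) lc_c_rc_16_2 lc_c_Cert_tree lc_c_rc_13_0 lc_c_rc_2_1 lc_c_rc_15_2 lc_c_rc_32_47 lc_c_rc_13_0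 lc_c_rc_15_2 lc_c_rc_8_3 lc_c_rc_13_0 lc_c_rc_16_2 lc_c_rc_28_4 lc_c_rc_2_1 lc_c_rc_17_2 lc_c_Cert_tree lc_c_rc_13_0 lc_c_rc_13_0 lc_c_rc_8_3 lc_c_rc_16_2 lc_c_rc_17_2 lc_c_rc_8_1 lc_c_rc_28_6 lc_c_rc_8_3 lc_c_rc_17_2 lc_c_rc_28_6 lc_c_rc_2_1 lc_c_rc_16_2 lc_c_rc_17_2 lc_c_rc_17_2 lc_c_rc_13_0 lc_c_rc_8_3 lc_c_rc_16_2 lc_c_rc_17_2 lc_c_rc_13_0 lc_c_rc_8_3 lc_c_rc_8_3 lc_c_rc_30_6 lc_c_rc_16_2 lc_c_rc_17_2 lc_c_rc_2_1) (@D3.rec (fun _ => (Cert rels S Gen.c)) lc_c_rc_13_0 lc_c_rc_8_3 lc_c_rc_15_2 lc_c_rc_13_0 lc_c_rc_28_4 lc_c_rc_13_0 lc_c_rc_17_2 lc_c_rc_13_0 lc_c_rc_28_4 lc_c_rc_13_0 lc_c_rc_17_2 lc_c_rc_8_3 lc_c_rc_17_0 lc_c_rc_8_3 lc_c_rc_8_3 lc_c_rc_8_3 lc_c_rc_13_0 lc_c_rc_13_0 lc_c_rc_13_0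 lc_c_rc_8_3 lc_c_rc_13_0 lc_c_rc_8_3 lc_c_rc_13_0 lc_c_rc_8_3 lc_c_rc_14_10 lc_c_rc_13_0 lc_c_rc_8_3 lc_c_rc_14_10 lc_c_rc_16_2 lc_c_rc_17_2 lc_c_rc_13_0 lc_c_rc_8_3 lc_c_rc_15_2 lc_c_rc_15_2 lc_c_Cert_tree lc_c_rc_13_0 lc_c_rc_17_2 lc_c_rc_15_0 lc_c_rc_13_0 lc_c_rc_13_0) (@D3.rec (fun _ => (Cert rels S Gen.c)) lc_c_rc_8_3 lc_c_rc_15_2 lc_c_rc_15_2 lc_c_Cert_tree lc_c_rc_13_0 lc_c_rc_16_2 lc_c_rc_15_0 lc_c_rc_13_0 lc_c_rc_8_3 lc_c_rc_2_1 lc_c_rc_28_2 lc_c_rc_13_0 lc_c_rc_16_2 lc_c_rc_16_2 lc_c_rc_2_1 lc_c_rc_17_2 lc_c_rc_2_1 lc_c_rc_28_6 lc_c_rc_13_0 lc_c_rc_17_2 lc_c_rc_17_2 lc_c_rc_2_1 lc_c_rc_15_0 lc_c_rc_8_1 lc_c_rc_13_0 lc_c_rc_28_4 lc_c_rc_15_2 lc_c_rc_28_2 lc_c_rc_8_3 lc_c_rc_17_2 lc_c_rc_8_1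 lc_c_rc_13_0 lc_c_rc_28_4 lc_c_rc_15_2 lc_c_rc_16_0 lc_c_rc_15_0 lc_c_rc_16_2 lc_c_rc_17_2 lc_c_rc_13_0 lc_c_rc_13_0) (@D3.rec (fun _ => (Cert rels S Gen.c)) lc_c_rc_17_2 lc_c_rc_17_2 lc_c_rc_16_2 lc_c_rc_13_0 lc_c_rc_13_0 lc_c_rc_16_2 lc_c_rc_8_3 lc_c_rc_28_2 lc_c_rc_2_3 lc_c_rc_30_6 lc_c_rc_8_3 lc_c_rc_30_6 lc_c_rc_13_0 lc_c_rc_15_2 lc_c_rc_15_0 lc_c_rc_8_3 lc_c_rc_13_1 lc_c_rc_8_1 lc_c_rc_17_2 lc_c_rc_17_2 lc_c_rc_13_1 lc_c_rc_8_3 lc_c_rc_28_2 lc_c_rc_15_2 lc_c_rc_15_2 lc_c_rc_8_3 lc_c_rc_32_73 lc_c_rc_13_0 lc_c_rc_16_0 lc_c_rc_8_3 lc_c_rc_2_1 lc_c_rc_30_2 lc_c_rc_15_0 lc_c_rc_2_1 lc_c_rc_16_2 lc_c_rc_15_0 lc_c_rc_13_0 lc_c_rc_13_0 lc_c_rc_28_6 lc_c_rc_13_0) (@D3.rec (fun _ => (Cert rels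 S Gen.c)) lc_c_rc_17_0 lc_c_rc_16_2 lc_c_rc_28_6 lc_c_rc_13_0 lc_c_rc_17_2 lc_c_rc_16_2 lc_c_rc_2_1 lc_c_rc_16_2 lc_c_rc_17_2 lc_c_rc_8_1 lc_c_rc_15_2 lc_c_rc_17_0 lc_c_rc_16_0 lc_c_rc_15_2 lc_c_rc_17_2 lc_c_rc_13_0 lc_c_rc_13_0 lc_c_rc_28_6 lc_c_rc_8_3 lc_c_rc_17_2 lc_c_rc_13_0 lc_c_rc_16_2 lc_c_rc_16_2 lc_c_rc_8_1 lc_c_rc_13_0 lc_c_rc_17_2 lc_c_rc_17_2 lc_c_rc_28_4 lc_c_rc_15_2 lc_c_rc_13_0 lc_c_rc_15_0 lc_c_rc_2_1 lc_c_rc_28_8 lc_c_rc_32_32 lc_c_rc_30_2 lc_c_rc_28_4 lc_c_rc_28_4 lc_c_rc_17_2 lc_c_rc_15_2 lc_c_rc_16_2) (@D3.rec (fun _ => (Cert rels S Gen.c)) lc_c_rc_28_4 lc_c_rc_28_4 lc_c_rc_28_2 lc_c_rc_2_1 lc_c_rc_13_0 lc_c_rc_16_2 lc_c_rc_16_2 lc_c_rc_28_6 lc_c_rc_15_2 lc_c_rc_14_4 lc_c_rc_15_0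 lc_c_rc_28_8 lc_c_rc_2_1 lc_c_rc_28_4 lc_c_rc_28_6 lc_c_rc_32_32 lc_c_rc_17_0 lc_c_rc_15_2 lc_c_rc_17_2 lc_c_rc_28_4 lc_c_rc_17_2 lc_c_rc_32_60 lc_c_rc_2_1 lc_c_rc_13_0 lc_c_rc_2_1 lc_c_rc_28_2 lc_c_rc_2_1 lc_c_rc_16_2 lc_c_Cert_tree lc_c_Cert_tree lc_c_Cert_tree lc_c_rc_13_0 lc_c_rc_8_1 lc_c_Cert_tree lc_c_rc_30_10 lc_c_rc_16_2 lc_c_rc_8_3 lc_c_rc_28_2 lc_c_rc_32_60 lc_c_rc_13_0) (@D3.rec (fun _ => (Cert rels S Gen.c)) lc_c_rc_8_3 lc_c_rc_16_2 lc_c_rc_13_0 lc_c_rc_8_3 lc_c_rc_17_2 lc_c_rc_15_2 lc_c_rc_16_2 lc_c_rc_16_0 lc_c_rc_17_2 lc_c_rc_13_0 lc_c_rc_32_39 lc_c_rc_16_0 lc_c_rc_30_14 lc_c_rc_16_2 lc_c_rc_16_2 lc_c_rc_8_3 lc_c_rc_13_0 lc_c_rc_16_0 lc_c_rc_17_2 lc_c_rc_28_8 lc_c_rc_32_13 lc_c_rc_16_2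 lc_c_rc_16_2 lc_c_rc_13_0 lc_c_rc_28_6 lc_c_rc_16_2 lc_c_rc_15_0 lc_c_rc_17_2 lc_c_rc_17_2 lc_c_rc_8_3 lc_c_rc_16_2 lc_c_rc_28_6 lc_c_rc_14_12 lc_c_rc_15_0 lc_c_rc_16_2 lc_c_rc_8_3 lc_c_rc_17_0 lc_c_rc_16_2 lc_c_rc_13_0 lc_c_rc_28_6) (@D3.rec (fun _ => (Cert rels S Gen.c)) lc_c_rc_32_58 lc_c_rc_16_2 lc_c_rc_8_3 lc_c_rc_17_2 lc_c_rc_13_0 lc_c_rc_28_2 lc_c_rc_15_2 lc_c_rc_2_1 lc_c_rc_30_2 lc_c_rc_17_2 lc_c_rc_28_2 lc_c_rc_2_1 lc_c_rc_15_2 lc_c_rc_32_6 lc_c_rc_28_4 lc_c_rc_16_0 lc_c_rc_15_2 lc_c_rc_13_0 lc_c_rc_2_1 lc_c_Cert_tree lc_c_rc_16_2 lc_c_rc_15_2 lc_c_rc_8_1 lc_c_rc_15_2 lc_c_rc_15_2 lc_c_rc_8_3 lc_c_rc_13_0 lc_c_rc_17_0 lc_c_rc_17_2 lc_c_rc_13_0 lc_c_rc_8_1 lc_c_rc_8_3 lc_c_rc_17_2 lc_c_Cert_tree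 lc_c_rc_28_4 lc_c_rc_13_0 lc_c_rc_2_1 lc_c_rc_30_14 lc_c_rc_2_1 lc_c_rc_16_2) (@D3.rec (fun _ => (Cert rels S Gen.c)) lc_c_rc_28_6 lc_c_rc_13_0 lc_c_rc_2_1 lc_c_rc_17_2 lc_c_rc_8_3 lc_c_rc_8_3 lc_c_rc_13_0 lc_c_rc_28_4 lc_c_rc_13_0 lc_c_rc_16_2 lc_c_rc_16_2 lc_c_rc_32_55 lc_c_rc_16_2 lc_c_rc_28_2 lc_c_rc_13_0 lc_c_rc_16_2 lc_c_rc_16_2 lc_c_rc_17_2 lc_c_rc_13_0 lc_c_rc_15_0 lc_c_rc_16_2 lc_c_rc_17_2 lc_c_rc_2_3 lc_c_rc_8_3 lc_c_rc_8_3 lc_c_rc_13_0 lc_c_rc_28_8 lc_c_rc_13_0 lc_c_rc_17_2 lc_c_rc_17_2 lc_c_rc_13_0 lc_c_rc_17_2 lc_c_rc_17_2 lc_c_rc_32_55 lc_c_rc_17_2 lc_c_rc_2_1 lc_c_Cert_tree lc_c_rc_2_3 lc_c_rc_13_0 lc_c_rc_16_0) (@D3.rec (fun _ => (Cert rels S Gen.c)) lc_c_rc_14_10 lc_c_rc_8_5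 lc_c_rc_28_2 lc_c_rc_16_2 lc_c_rc_2_1 lc_c_rc_15_2 lc_c_rc_16_2 lc_c_rc_17_2 lc_c_rc_8_1 lc_c_Cert_tree lc_c_rc_17_2 lc_c_rc_13_0 lc_c_rc_2_1 lc_c_rc_28_6 lc_c_rc_8_5 lc_c_rc_30_10 lc_c_rc_17_2 lc_c_rc_17_0 lc_c_rc_17_2 lc_c_rc_17_2 lc_c_rc_2_1 lc_c_rc_32_39 lc_c_rc_16_2 lc_c_rc_16_2 lc_c_rc_17_0 lc_c_rc_28_4 lc_c_rc_16_2 lc_c_rc_16_0 lc_c_rc_16_0 lc_c_rc_13_0 lc_c_rc_28_6 lc_c_rc_28_4 lc_c_rc_28_4 lc_c_rc_32_58 lc_c_rc_17_2 lc_c_rc_16_2 lc_c_rc_8_1 lc_c_rc_28_4 lc_c_rc_17_2 lc_c_rc_16_2) (@D3.rec (fun _ => (Cert rels S Gen.c)) lc_c_rc_28_2 lc_c_rc_13_0 lc_c_rc_28_6 lc_c_rc_28_4 lc_c_rc_28_4 lc_c_rc_8_3 lc_c_rc_13_1 lc_c_rc_28_2 lc_c_rc_13_0 lc_c_rc_17_0 lc_c_rc_13_0 lc_c_rc_16_2 lc_c_rc_17_2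 lc_c_rc_13_0 lc_c_rc_17_0 lc_c_rc_32_60 lc_c_rc_17_0 lc_c_rc_2_1 lc_c_rc_32_68 lc_c_rc_13_0 lc_c_rc_28_4 lc_c_rc_28_8 lc_c_rc_17_2 lc_c_rc_8_1 lc_c_rc_17_2 lc_c_rc_15_2 lc_c_rc_13_0 lc_c_rc_8_3 lc_c_rc_16_2 lc_c_rc_28_4 lc_c_rc_8_3 lc_c_rc_14_8 lc_c_rc_15_0 lc_c_rc_16_2 lc_c_rc_2_1 lc_c_rc_2_1 lc_c_rc_13_0 lc_c_rc_16_0 lc_c_rc_13_0 lc_c_rc_16_0) (@D3.rec (fun _ => (Cert rels S Gen.c)) lc_c_rc_16_2 lc_c_rc_16_0 lc_c_rc_17_2 lc_c_rc_30_14 lc_c_rc_13_0 lc_c_rc_17_2 lc_c_rc_17_2 lc_c_rc_15_2 lc_c_rc_15_2 lc_c_rc_13_0 lc_c_rc_8_3 lc_c_rc_17_2 lc_c_rc_2_1 lc_c_rc_15_0 lc_c_rc_17_2 lc_c_rc_8_3 lc_c_rc_8_3 lc_c_rc_16_2 lc_c_rc_13_0 lc_c_rc_30_6 lc_c_rc_13_0 lc_c_rc_8_1 lc_c_rc_13_0 lc_c_rc_8_1 lc_c_rc_17_2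 lc_c_rc_28_4 lc_c_rc_8_3 lc_c_rc_30_14 lc_c_rc_17_2 lc_c_rc_15_2 lc_c_rc_8_1 lc_c_rc_13_0 lc_c_rc_8_1 lc_c_rc_16_2 lc_c_rc_28_4 lc_c_rc_8_3 lc_c_rc_8_3 lc_c_rc_13_0 lc_c_rc_8_3 lc_c_rc_13_0) (@D3.rec (fun _ => (Cert rels S Gen.c)) lc_c_rc_13_0 lc_c_rc_16_2 lc_c_rc_8_3 lc_c_rc_13_0 lc_c_rc_17_2 lc_c_rc_8_3 lc_c_rc_2_1 lc_c_rc_15_2 lc_c_rc_2_1 lc_c_rc_15_2 lc_c_rc_2_1 lc_c_rc_13_0 lc_c_rc_8_3 lc_c_rc_28_4 lc_c_rc_15_2 lc_c_rc_8_3 lc_c_rc_32_11 lc_c_rc_15_2 lc_c_rc_13_0 lc_c_rc_8_3 lc_c_rc_13_0 lc_c_rc_32_32 lc_c_rc_13_0 lc_c_rc_13_0 lc_c_rc_15_2 lc_c_rc_13_0 lc_c_rc_13_0 lc_c_rc_16_2 lc_c_rc_28_4 lc_c_rc_16_2 lc_c_rc_17_2 lc_c_rc_2_1 lc_c_rc_8_3 lc_c_rc_13_0 lc_c_rc_17_2 lc_c_rc_13_0 lc_c_rc_13_0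 lc_c_rc_15_2 lc_c_rc_13_0 lc_c_rc_13_0) (@D3.rec (fun _ => (Cert rels S Gen.c)) lc_c_rc_17_2 lc_c_rc_28_4 lc_c_rc_17_2 lc_c_rc_16_2 lc_c_rc_8_3 lc_c_rc_28_6 lc_c_rc_15_2 lc_c_rc_2_1 lc_c_rc_28_4 lc_c_rc_13_0 lc_c_rc_2_1 lc_c_rc_17_2 lc_c_Cert_tree lc_c_rc_13_0 lc_c_rc_17_2 lc_c_rc_13_0 lc_c_rc_17_2 lc_c_rc_32_16 lc_c_rc_8_3 lc_c_rc_2_1 lc_c_rc_13_0 lc_c_rc_15_2 lc_c_rc_28_6 lc_c_rc_28_4 lc_c_rc_13_0 lc_c_rc_16_2 lc_c_Cert_tree lc_c_rc_13_0 lc_c_rc_32_42 lc_c_rc_13_0 lc_c_rc_16_2 lc_c_rc_16_2 lc_c_rc_8_3 lc_c_rc_2_1 lc_c_rc_17_2 lc_c_rc_16_0 lc_c_rc_16_2 lc_c_rc_13_0 lc_c_rc_16_2 lc_c_rc_28_6) (@D3.rec (fun _ => (Cert rels S Gen.c)) lc_c_rc_17_2 lc_c_rc_13_0 lc_c_rc_28_8 lc_c_rc_13_0 lc_c_rc_16_2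 lc_c_rc_16_2 lc_c_rc_28_2 lc_c_rc_28_2 lc_c_rc_8_3 lc_c_rc_15_2 lc_c_rc_2_1 lc_c_rc_28_2 lc_c_rc_16_2 lc_c_rc_8_1 lc_c_rc_13_0 lc_c_rc_2_3 lc_c_rc_28_2 lc_c_rc_28_8 lc_c_rc_13_0 lc_c_rc_15_2 lc_c_rc_15_2 lc_c_rc_8_3 lc_c_rc_16_2 lc_c_rc_30_2 lc_c_rc_8_1 lc_c_rc_28_8 lc_c_rc_28_2 lc_c_rc_15_2 lc_c_rc_13_0 lc_c_rc_28_4 lc_c_rc_17_2 lc_c_rc_28_8 lc_c_rc_17_0 lc_c_rc_17_2 lc_c_rc_15_2 lc_c_rc_13_0 lc_c_rc_15_0 lc_c_rc_16_2 lc_c_rc_16_2 lc_c_rc_8_1) (@D3.rec (fun _ => (Cert rels S Gen.c)) lc_c_rc_17_2 lc_c_rc_32_53 lc_c_rc_2_1 lc_c_rc_13_1 lc_c_rc_28_8 lc_c_rc_28_2 lc_c_rc_15_2 lc_c_rc_28_2 lc_c_rc_16_2 lc_c_rc_15_2 lc_c_rc_16_2 lc_c_rc_13_0 lc_c_rc_17_2 lc_c_rc_13_0 lc_c_rc_15_2 lc_c_rc_13_0 lc_c_rc_17_2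 lc_c_rc_17_2 lc_c_rc_28_6 lc_c_rc_28_2 lc_c_rc_8_3 lc_c_rc_28_8 lc_c_rc_30_10 lc_c_rc_13_0 lc_c_rc_2_3 lc_c_rc_15_2 lc_c_rc_17_2 lc_c_rc_30_6 lc_c_rc_8_1 lc_c_rc_30_10 lc_c_rc_28_4 lc_c_rc_15_2 lc_c_rc_28_2 lc_c_rc_16_2 lc_c_rc_28_6 lc_c_rc_2_1 lc_c_rc_8_3 lc_c_rc_28_2 lc_c_rc_8_3 lc_c_rc_28_4) (@D3.rec (fun _ => (Cert rels S Gen.c)) lc_c_rc_15_2 lc_c_rc_8_3 lc_c_rc_30_10 lc_c_rc_13_0 lc_c_rc_28_4 lc_c_rc_15_2 lc_c_rc_8_3 lc_c_rc_28_4 lc_c_rc_2_1 lc_c_rc_15_2 lc_c_rc_2_1 lc_c_rc_16_2 lc_c_rc_8_3 lc_c_rc_2_3 lc_c_rc_8_3 lc_c_rc_2_1 lc_c_rc_8_3 lc_c_rc_15_2 lc_c_rc_16_2 lc_c_rc_8_3 lc_c_rc_32_63 lc_c_rc_2_1 lc_c_rc_13_0 lc_c_rc_28_8 lc_c_rc_8_3 lc_c_rc_8_1 lc_c_rc_16_2 lc_c_rc_15_0 lc_c_rc_8_1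 lc_c_rc_13_0 lc_c_rc_13_0 lc_c_rc_15_2 lc_c_rc_8_3 lc_c_rc_30_14 lc_c_rc_13_0 lc_c_rc_16_2 lc_c_rc_8_3 lc_c_rc_2_3 lc_c_rc_13_0 lc_c_rc_8_3) (@D3.rec (fun _ => (Cert rels S Gen.c)) lc_c_rc_14_2 lc_c_rc_17_2 lc_c_rc_8_3 lc_c_rc_15_2 lc_c_rc_16_2 lc_c_rc_17_2 lc_c_rc_8_3 lc_c_rc_16_2 lc_c_rc_16_2 lc_c_rc_2_1 lc_c_rc_17_2 lc_c_rc_8_3 lc_c_rc_14_2 lc_c_rc_16_2 lc_c_rc_2_1 lc_c_rc_16_2 lc_c_rc_28_6 lc_c_rc_2_1 lc_c_rc_16_2 lc_c_rc_2_1 lc_c_rc_28_6 lc_c_rc_8_3 lc_c_rc_17_2 lc_c_rc_8_3 lc_c_rc_8_3 lc_c_rc_17_0 lc_c_rc_15_2 lc_c_rc_30_6 lc_c_rc_13_0 lc_c_rc_15_2 lc_c_rc_8_1 lc_c_rc_13_0 lc_c_rc_16_2 lc_c_rc_17_2 lc_c_rc_2_1 lc_c_rc_2_1 lc_c_rc_15_2 lc_c_rc_15_2 lc_c_rc_15_2 lc_c_rc_8_3) (@D3.rec (fun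 _ => (Cert rels S Gen.c)) lc_c_rc_15_2 lc_c_rc_8_3 lc_c_rc_8_3 lc_c_Cert_tree lc_c_rc_13_0 lc_c_Cert_tree lc_c_rc_13_0 lc_c_rc_28_2 lc_c_rc_13_0 lc_c_rc_13_0 lc_c_rc_15_2 lc_c_rc_16_2 lc_c_rc_8_3 lc_c_rc_16_2 lc_c_rc_17_2 lc_c_rc_8_3 lc_c_rc_8_3 lc_c_rc_32_11 lc_c_rc_28_4 lc_c_rc_2_3 lc_c_rc_8_1 lc_c_rc_28_4 lc_c_rc_2_3 lc_c_rc_8_1 lc_c_rc_8_3 lc_c_rc_8_3 lc_c_rc_8_3 lc_c_rc_8_3 lc_c_rc_13_0 lc_c_rc_30_10 lc_c_rc_8_1 lc_c_rc_8_3 lc_c_rc_2_3 lc_c_rc_13_0 lc_c_rc_8_3 lc_c_rc_16_2 lc_c_rc_8_3 lc_c_rc_16_2 lc_c_rc_17_2 lc_c_rc_17_2) (@D3.rec (fun _ => (Cert rels S Gen.c)) lc_c_rc_2_1 lc_c_rc_2_1 lc_c_rc_17_2 lc_c_rc_2_3 lc_c_rc_17_2 lc_c_rc_13_0 lc_c_rc_30_10 lc_c_rc_13_0 lc_c_rc_13_0 lc_c_rc_30_14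 lc_c_rc_28_2 lc_c_rc_8_3 lc_c_rc_8_1 lc_c_rc_8_3 lc_c_rc_8_1 lc_c_rc_17_2 lc_c_rc_16_2 lc_c_rc_15_2 lc_c_rc_28_2 lc_c_rc_16_2 lc_c_rc_17_2 lc_c_rc_13_0 lc_c_rc_13_0 lc_c_rc_8_3 lc_c_rc_30_6 lc_c_rc_30_6 lc_c_rc_8_3 lc_c_rc_2_1 lc_c_rc_2_1 lc_c_rc_8_3 lc_c_rc_2_1 lc_c_rc_13_0 lc_c_rc_32_37 lc_c_rc_32_37 lc_c_rc_28_4 lc_c_rc_30_10 lc_c_rc_17_2 lc_c_rc_13_0 lc_c_rc_13_0 lc_c_rc_2_1)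
def ce_c : Pt → (Cert rels S Gen.c) := @Pt.rec (fun _ => (Cert rels S Gen.c)) (@D1.rec (fun _ => D2 → D3 → (Cert rels S Gen.c)) ce_c_0 ce_c_1 ce_c_2 ce_c_3 ce_c_4 ce_c_5 ce_c_6 ce_c_7 ce_c_8 ce_c_9 ce_c_10 ce_c_11 ce_c_12 ce_c_13 ce_c_14 ce_c_15 ce_c_16 ce_c_17 ce_c_18 ce_c_19 ce_c_20 ce_c_21)
def isSeed_c (p : Pt) : Bool := orB (beqPt p (Pt.mk D1.c3 D2.c21 D3.c11)) (false)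

end

end Cfsg.Agent.Helper28.S1681
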