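import Cfsg.Agent.Lib.Helper28.S1681.Tree

set_option autoImplicit false
set_option maxRecDepth 100000
set_option linter.all false

namespace Cfsg.Agent.Helper28.S1681

open Cfsg.Agent.Helper28
open Cfsg.Spor.Suz (Gen)

noncomputable section

def lv_d_0 : D2 → D3 → Nat := @D2.rec (fun _ => D3 → Nat) (@D3.rec (fun _ => Nat) 1 0 1 0 0 1 0 1 2 2 4 0 1 2 2 0 5 2 2 3 5 0 1 2 2 0 7 2 2 3 3 1 0 2 2 6 6 3 5 4) (@D3.rec (fun _ => Nat) 6 1 2 2 0 8 2 2 3 3 3 5 0 1 0 2 2 8 8 3 3 4 0 4 4 0 4 0 2 2 1 2 2 3 3 3 4 7 9 4) (@D3.rec (fun _ => Nat) 6 5 108 5 7 112 7 0 10 2 2 3 3 0 1 0 2 2 9 9 3 3 3 5 4 4 4 6 0 1 0 2 2 0 2 2 1 2 2 3) (@D3.rec (fun _ => Nat) 3 9 9 4 0 4 4 0 4 5 1 12 5 1 73 1 2 2 3 3 3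 4 6 2 2 3 3 3 4 61 4 68 5 8 10 5 108 5 7 102) (@D3.rec (fun _ => Nat) 7 108 6 110 113 8 109 0 1 0 2 2 11 11 3 3 0 1 0 2 2 0 2 2 1 2 2 3 3 3 4 10 10 10 12 0 4 4 0 4) (@D3.rec (fun _ => Nat) 6 0 1 0 2 2 0 2 2 1 2 2 3 3 3 5 1 2 2 3 3 6 2 2 3 3 4 0 4 4 0 4 11 0 10 11 0 10 5 0) (@D3.rec (fun _ => Nat) 1 2 11 5 0 1 2 74 0 9 0 9 0 2 2 3 3 3 4 62 4 65 5 7 7 7 3 3 3 4 4 4 4 5 61 5 0 64 6 0) (@D3.rec (fun _ => Nat) 10 0 9 12 0 11 107 6 108 101 8 102 110 110 1 0 0 2 2 1 2 2 12 12 1 0 2 2 0 2 2 1 2 2 3 3 3 5 1 2) (@D3.rec (fun _ => Nat) 2 3 3 3 4 9 2 2 3 3 3 4 4 0 4 4 4 0 4 5 0 11 12 0 13 12 1 2 0 1 2 0 1 0 0 2 2 1 2 2) (@D3.rec (fun _ => Nat) 1 2 2 3 3 3 5 0 2 2 3 3 3 4 0 4 0 6 0 2 2 3 3 4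 59 4 4 67 4 7 7 7 3 3 5 0 4 5 0 4) (@D3.rec (fun _ => Nat) 0 5 1 2 0 5 1 2 12 0 1 2 13 12 0 1 2 11 1 5 2 3 8 1 5 2 3 3 0 1 0 0 1 0 0 1 2 2 3 3) (@D3.rec (fun _ => Nat) 3 4 63 4 74 5 5 6 8 8 8 8 8 8 8 0 4 4 0 4 5 5 6 0 6 7 0 0 6 0 1 0 7 0 1 0 10 1 2 0) (@D3.rec (fun _ => Nat) 13 1 2 109 110 103 112 111 112 0 0 1 1 2 2 9 2 2 0 2 2 1 2 2 3 3 1 2 2 3 3 3 5 0 2 2 3 3 3 4) (@D3.rec (fun _ => Nat) 64 0 4 4 77 0 4 6 0 2 2 3 3 3 4 4 64 4 4 4 76 4 5 10 10 10 3 3 3 4 5 0 4 4 5 0 4 5 5 0) (@D3.rec (fun _ => Nat) 1 2 5 74 5 0 5 0 1 2 6 77 6 0 1 2 0 1 2 0 5 2 3 1 5 2 3 1 0 0 1 1 2 2 0 2 2 0 2 2) (@D3.rec (fun _ => Nat) 3 3 3 4 4 6 0 1 2 2 3 3 3 4 0 4 0 5 1 5 104 1 7 114 0 1 2 2 3 3 4 0 4 4 0 4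 5 5 8 8) (@D3.rec (fun _ => Nat) 8 8 8 5 0 4 5 0 4 0 6 1 2 0 6 1 2 105 1 110 5 2 3 100 1 102 5 2 3 1 10 5 2 3 9 1 10 5 2 3) (@D3.rec (fun _ => Nat) 3 6 6 3 7 4 109 111 6 6 3 3 115 101 101 1 0 104 0 1 1 0 99 0 1 0 1 2 2 2 2 3 3 3 4 0 60 4 0 67) (@D3.rec (fun _ => Nat) 5 5 6 6 7 9 9 9 9 9 9 10 10 0 9 9 10 0 9 9 1 2 5 6 0 1 2 6 7 0 0 7 0 1 0 8 0 1 1 7) (@D3.rec (fun _ => Nat) 0 108 1 6 1 8 0 102 1 7 1 2 9 2 3 1 2 11 2 3 109 109 110 113 103 112 1 74 1 0 0 2 2 10 10 10 1 2 2 3) (@D3.rec (fun _ => Nat) 3 5 2 2 3 3 0 2 2 3 3 3 4 4 4 4 6 0 1 2 2 3 3 3 4 5 0 4 4 5 0 4 5 0 1 110 0 0 1 102) (@D3.rec (fun _ => Nat) 0 0 1 2 2 3 3 3 4 4 0 4 4 4 0 4 5 5 73 5 5 111 5 78 6 6 103 12 11 11 11 11 11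 11 5 0 4 4 5 0) (@D3.rec (fun _ => Nat) 4 5 6 0 1 2 5 7 6 0 6 0 1 2 6 5 7 0 1 5 2 3 3 6 105 115 1 1 5 2 3 3 7 108 113 1 13 5 2 3) (@D3.rec (fun _ => Nat) 1 73 5 2 3 1 6 3 109 112 6 6 3 104 103 9 1 73 1 0 0 2 2 0 1 2 2 79 1 2 2 3 3 3 4 4 5 5 112 7) (@D3.rec (fun _ => Nat) 104 0 1 2 2 5 4 2 2 3 3 3 4 0 4 0 5 1 5 0 1 6 0 5 5 0 1 2 2 2 2 3 3 4 0 4 4 0 4 5) (@D3.rec (fun _ => Nat) 1 5 1 9 9 9 9 9 9 10 10 0 9 10 0 9 0 6 1 2 0 6 1 2 0 1 2 0 5 2 3 0 1 2 0 5 2 3 6 6)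
def lv_d_1 : D2 → D3 → Nat := @D2.rec (fun _ => D3 → Nat) (@D3.rec (fun _ => Nat) 3 110 6 6 3 105 10 6 11 0 16 6 3 8 4 4 9 10 6 11 0 15 6 3 3 4 4 4 7 10 4 114 113 7 7 105 0 1 2 1) (@D3.rec (fun _ => Nat) 12 0 1 2 1 74 0 1 2 2 0 2 2 3 3 3 5 3 3 3 4 5 0 4 4 5 0 4 5 1 63 5 0 1 75 6 0 6 7 7) (@D3.rec (fun _ => Nat) 106 8 114 10 0 10 10 10 10 11 0 10 10 11 0 12 11 11 0 11 1 2 10 12 11 0 10 11 0 11 1 2 10 10 11 0 10 6 2 3) (@D3.rec (fun _ => Nat) 0 7 0 1 6 2 3 0 8 0 1 1 9 0 0 1 0 6 1 10 0 0 1 0 7 7 104 104 1 111 110 7 8 111 111 1 111 112 8 9) (@D3.rec (fun _ => Nat) 2 3 10 10 3 4 4 11 2 3 12 12 3 4 4 111 111 74 0 1 0 1 2 2 12 11 11 11 11 77 2 2 3 3 6 6 6 3 3 0) (@D3.rec (fun _ => Nat)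 1 2 2 3 3 3 4 4 4 4 5 0 1 2 2 79 2 2 3 3 3 4 5 0 4 4 5 0 4 5 0 1 2 0 0 1 2 0 0 1) (@D3.rec (fun _ => Nat) 5 1 0 1 5 1 0 1 2 2 2 2 3 3 3 4 4 0 4 4 4 0 4 5 5 1 75 5 6 0 5 1 78 6 7 0 6 105 112 7) (@D3.rec (fun _ => Nat) 113 115 13 13 13 12 12 12 14 12 0 12 12 12 0 12 12 6 0 1 2 5 6 6 0 6 0 1 2 6 5 7 0 1 0 5 2 3 8 6) (@D3.rec (fun _ => Nat) 0 0 1 1 0 5 2 3 3 7 0 0 1 6 6 3 3 114 6 6 6 3 3 105 7 13 0 12 6 3 4 4 16 6 75 0 12 6 3 4) (@D3.rec (fun _ => Nat) 4 15 9 7 7 75 0 1 0 1 2 2 0 1 2 2 4 2 2 3 3 80 81 81 4 2 2 3 3 3 4 0 4 0 5 6 0 7 0 112) (@D3.rec (fun _ => Nat) 104 1 2 2 2 2 3 3 3 5 6 6 6 5 5 3 3 3 4 4 0 4 4 4 0 4 5 1 5 0 1 6 0 0 5 1 0 5 1 0) (@D3.rec (fun _ => Nat) 1 2 2 80 2 2 3 3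 3 5 3 3 5 0 4 5 0 4 0 5 1 2 0 5 1 2 0 0 10 80 10 10 10 10 11 0 10 10 11 0) (@D3.rec (fun _ => Nat) 12 11 11 0 11 1 2 12 11 0 11 1 2 10 0 1 2 4 6 2 3 0 1 2 4 6 2 3 1 4 6 2 0 1 0 2 6 3 4 1) (@D3.rec (fun _ => Nat) 4 6 2 0 1 0 2 6 3 4 7 7 11 0 12 0 12 12 1 2 16 12 7 9 4 0 4 10 5 11 0 12 0 12 12 1 2 17 12 7) (@D3.rec (fun _ => Nat) 7 4 0 4 4 5 8 112 1 0 2 7 14 1 0 2 7 74 73 0 1 2 2 0 2 2 3 3 1 2 2 3 3 3 5 5 0 4 4 5) (@D3.rec (fun _ => Nat) 0 4 6 5 0 4 4 5 0 4 5 6 0 6 1 2 5 10 6 0 5 6 0 5 1 2 6 5 7 0 6 61 6 62 6 0 1 68 6 69) (@D3.rec (fun _ => Nat) 7 0 1 8 0 9 0 106 116 0 11 11 1 2 2 11 11 11 12 11 0 11 11 0 11 12 0 1 2 11 12 0 11 12 0 1 2 13 13 0) (@D3.rec (fun _ => Nat) 12 12 0 12 12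 0 1 2 12 0 7 2 3 7 12 0 13 13 12 0 12 1 2 11 12 0 12 12 0 1 2 12 0 7 2 3 3 12 0 11) (@D3.rec (fun _ => Nat) 11 12 0 12 1 2 13 62 3 4 0 91 1 9 0 0 1 5 7 69 3 4 0 96 1 10 0 0 1 6 8 59 7 0 0 1 0 1 2 5) (@D3.rec (fun _ => Nat) 7 0 1 0 56 8 0 0 1 0 1 2 6 8 0 1 0 8 9 10 11 3 11 11 109 12 4 0 4 5 12 12 3 107 108 111 13 4 0 4) (@D3.rec (fun _ => Nat) 5 76 0 1 2 2 0 1 2 2 2 2 3 3 13 13 13 12 12 12 14 12 12 12 12 76 77 77 3 3 80 7 7 7 7 0 0 0 1 2) (@D3.rec (fun _ => Nat) 2 2 2 3 3 3 4 0 4 4 0 4 5 0 1 2 2 0 81 2 2 3 3 3 5 81 81 3 3 3 4 4 0 4 4 4 0 4 5 0) (@D3.rec (fun _ => Nat) 1 2 0 0 1 2 0 0 1 0 5 2 1 0 1 0 5 2 1 1 6 6 1 6 8 0 1 2 2 74 2 2 3 3 3 5 3 3 3 4) (@D3.rec (fun _ => Nat) 4 0 4 4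 4 0 4 5 5 0 1 2 5 74 6 0 5 0 1 2 6 79 7 0 0 7 0 0 1 0 8 0 0 1 107 105 14 14 14 14) (@D3.rec (fun _ => Nat) 14 13 0 13 13 13 0 14 15 13 0 13 1 2 13 14 13 0 13 13 0 13 1 2 13 13 13 0 13 0 0 1 4 6 2 3 3 6 0 0) (@D3.rec (fun _ => Nat) 1 0 0 1 4 6 2 3 3 7 0 0 1 4 6 0 1 0 2 6 3 7 4 111 111 1 1 0 6 4 6 0 1 0 2 6 3 3 4 102)
def lv_d_2 : D2 → D3 → Nat := @D2.rec (fun _ => D3 → Nat) (@D3.rec (fun _ => Nat) 109 1 1 0 7 15 0 15 15 1 2 13 7 4 0 4 16 0 75 0 75 75 1 2 13 7 4 0 4 17 0 75 0 1 2 2 81 1 2 2) (@D3.rec (fun _ => Nat) 4 2 2 3 3 0 1 2 2 0 79 2 2 3 3 3 5 5 5 3 3 4 4 4 4 80 80 81 81 81 82 5 5 3 3 3 4 4 0 4) (@D3.rec (fun _ => Nat) 4 4 0 4 5 1 6 0 1 7 0 0 1 0 1 2 2 3 3 3 3 3 5 4 0 4 4 4 0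 4 6 7 7 7 7 6 6 6 7 4) (@D3.rec (fun _ => Nat) 0 4 4 4 0 4 5 5 0 5 1 2 5 6 6 0 5 5 0 5 1 2 6 5 7 0 6 60 6 0 1 55 6 0 1 0 1 0 0 0) (@D3.rec (fun _ => Nat) 1 0 0 74 1 2 2 79 2 2 3 3 81 81 3 3 3 5 5 0 4 4 5 0 4 6 5 0 4 5 0 4 6 0 6 1 2 10 6 0) (@D3.rec (fun _ => Nat) 5 1 2 5 0 1 65 6 2 3 0 1 62 6 2 3 0 1 0 1 11 11 80 80 11 11 11 12 11 56 11 11 89 11 12 0 1 2 11 12) (@D3.rec (fun _ => Nat) 0 11 12 0 1 2 13 13 0 12 12 12 12 0 1 2 12 9 7 2 3 7 13 12 12 12 0 1 2 12 9 7 2 3 3 11 0 1 2 2) (@D3.rec (fun _ => Nat) 7 2 3 5 0 5 7 3 4 4 0 1 2 2 7 2 3 5 0 5 7 3 4 4 0 5 95 5 0 1 0 2 2 0 2 1 2 3 7 4) (@D3.rec (fun _ => Nat) 0 0 5 100 5 0 1 0 2 2 0 2 1 2 3 7 4 0 12 94 12 12 1 13 90 95 13 1 93 2 13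 16 94 6 2 3 13 18 0 16) (@D3.rec (fun _ => Nat) 13 8 0 5 0 1 2 0 12 104 12 12 1 13 100 13 102 1 2 101 17 105 13 6 2 3 76 17 0 17 13 113 0 5 0 1 2 0 0 0) (@D3.rec (fun _ => Nat) 1 2 90 14 14 14 0 0 1 2 99 76 76 76 0 73 73 1 2 2 2 2 3 3 3 4 0 1 2 2 3 3 5 0 4 5 0 4 2 2) (@D3.rec (fun _ => Nat) 3 3 3 4 4 0 4 4 4 0 4 6 5 0 1 2 5 6 0 5 5 0 1 2 7 8 0 7 6 0 6 1 2 5 9 6 0 5 6 0) (@D3.rec (fun _ => Nat) 5 1 2 6 5 7 0 6 73 0 7 7 0 1 2 7 0 7 2 3 7 7 0 8 10 7 0 7 1 2 6 81 0 7 7 0 1 2 6 0) (@D3.rec (fun _ => Nat) 7 2 3 3 8 0 7 6 8 0 8 1 2 9 64 64 68 65 8 0 0 1 60 7 76 76 71 77 9 0 0 1 68 8 0 1 0 1 108 106) (@D3.rec (fun _ => Nat) 1 2 2 12 12 0 8 2 2 3 3 3 6 61 0 12 15 88 0 16 15 12 0 12 1 2 61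 12 0 12 1 2 88 13 83 13 13 0 1 0) (@D3.rec (fun _ => Nat) 8 2 3 12 0 12 15 0 13 1 2 12 13 91 13 13 0 1 0 8 2 3 14 0 14 14 0 14 1 2 15 13 13 96 1 96 2 13 13 14) (@D3.rec (fun _ => Nat) 0 1 2 2 9 8 2 3 14 0 13 1 0 2 8 3 6 4 0 4 7 13 0 1 2 14 14 0 14 13 0 13 13 0 1 2 13 0 8 2) (@D3.rec (fun _ => Nat) 3 12 13 13 102 1 2 97 13 13 14 0 1 2 2 9 8 2 3 14 0 13 1 0 2 8 3 3 4 0 4 4 13 0 1 2 12 12 0 12) (@D3.rec (fun _ => Nat) 13 0 13 13 0 1 2 13 10 9 2 7 14 65 4 92 5 0 91 1 2 93 67 0 0 1 0 1 2 2 8 6 0 77 4 94 5 0 96 1) (@D3.rec (fun _ => Nat) 2 95 75 0 0 1 0 1 2 2 9 7 0 61 64 1 1 0 8 1 0 2 6 0 0 1 0 2 2 0 1 56 72 1 1 0 9 1 0 2) (@D3.rec (fun _ => Nat) 7 0 0 1 0 2 2 0 1 11 11 11 0 12 110 111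 12 106 12 0 12 5 9 1 2 13 0 107 110 111 14 0 14 5 8 1 2 78 76 76) (@D3.rec (fun _ => Nat) 84 1 2 2 11 2 2 3 5 0 1 2 2 77 2 2 3 3 3 5 3 3 4 4 4 4 14 94 14 14 14 14 13 13 13 13 14 15 13 13) (@D3.rec (fun _ => Nat) 14 13 13 13 78 78 79 79 0 0 80 80 80 8 82 8 82 8 0 8 8 0 8 1 1 81 1 92 97 2 2 3 3 3 4 3 3 3 4 4) (@D3.rec (fun _ => Nat) 0 4 4 4 0 4 5 1 2 0 1 2 0 1 93 100 11 93 2 2 94 98 1 0 2 2 90 94 3 3 3 5 4 95 4 4 4 99 4 6) (@D3.rec (fun _ => Nat) 81 81 81 83 4 84 4 4 4 88 4 5 96 0 5 1 2 5 6 5 0 5 106 0 5 1 2 6 5 6 0 6 95 1 4 6 2 3 1 98) (@D3.rec (fun _ => Nat) 1 4 6 2 3 1 1 111 4 6 90 1 100 2 56 6 1 104 4 6 94 1 99 2 62 8 0 1 2 2 2 2 3 3 74 74 3 3 3 5)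
def lv_d_3 : D2 → D3 → Nat := @D2.rec (fun _ => D3 → Nat) (@D3.rec (fun _ => Nat) 4 0 4 4 4 0 4 6 4 72 4 4 4 80 4 5 5 0 5 1 2 5 6 5 0 5 5 0 5 1 2 6 5 6 0 6 0 0 1 6) (@D3.rec (fun _ => Nat) 2 3 3 7 0 0 1 0 0 1 6 2 3 3 8 0 0 1 0 1 0 1 1 0 0 1 0 1 1 0 107 117 15 15 96 15 102 16 15 100) (@D3.rec (fun _ => Nat) 15 15 100 15 14 100 1 2 14 14 0 14 14 107 1 2 15 16 0 16 14 0 86 14 0 1 2 14 7 2 3 7 14 0 15 15 14 0 14 1) (@D3.rec (fun _ => Nat) 116 14 14 0 14 94 0 1 2 14 7 2 3 3 14 115 14 14 14 112 14 1 112 15 0 1 0 1 97 2 7 5 0 61 7 3 3 4 0 4) (@D3.rec (fun _ => Nat) 4 0 1 0 1 5 7 0 1 0 1 2 103 7 5 0 58 7 3 3 4 0 4 4 0 1 0 1 6 8 5 0 0 1 95 97 2 0 2 1) (@D3.rec (fun _ => Nat) 2 3 9 110 111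 4 0 0 5 0 1 104 5 0 0 1 99 2 98 0 2 1 2 3 6 101 110 4 0 0 6 0 1 113 15 85 15 15 1 91) (@D3.rec (fun _ => Nat) 2 15 14 17 2 3 14 0 14 0 0 1 2 18 0 16 16 1 77 89 77 77 1 2 99 14 77 77 2 3 14 0 14 0 10 1 2 17 0 17) (@D3.rec (fun _ => Nat) 17 1 79 77 77 1 2 2 0 2 2 3 5 80 79 81 2 2 3 3 3 4 5 5 3 3 4 4 4 4 1 2 2 0 2 2 98 97 1 81) (@D3.rec (fun _ => Nat) 2 2 79 79 3 3 3 5 90 4 4 94 4 6 6 6 4 86 4 4 90 4 5 5 6 5 5 5 80 80 83 0 81 83 81 0 82 82 6 6) (@D3.rec (fun _ => Nat) 6 7 4 0 4 4 4 0 4 5 5 0 5 1 2 5 5 5 0 5 5 0 5 1 2 6 5 6 0 6 6 0 1 6 0 1 1 0 1 0) (@D3.rec (fun _ => Nat) 3 3 92 60 4 95 89 4 4 97 4 4 4 103 4 6 101 0 1 2 5 5 0 5 98 0 1 2 7 7 0 7 8 8 8 86 8 8 99 8) (@D3.rec (fun _ => Nat)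 82 88 7 7 92 102 7 8 5 97 5 1 2 5 5 6 0 5 5 103 5 1 2 6 5 7 0 6 97 96 94 100 99 1 2 6 97 7 2 7) (@D3.rec (fun _ => Nat) 7 0 7 6 7 0 6 1 2 6 101 101 105 98 102 1 2 6 103 7 2 3 8 0 7 6 8 0 7 1 2 8 60 0 0 1 114 7 57 0) (@D3.rec (fun _ => Nat) 0 1 111 8 0 1 99 2 2 0 1 0 1 0 1 102 2 2 0 1 0 1 75 75 2 2 3 3 3 4 80 80 80 3 3 4 0 4 4 0) (@D3.rec (fun _ => Nat) 4 82 82 82 81 5 0 4 4 5 0 4 6 6 0 1 2 5 6 0 5 6 0 1 2 7 8 0 7 6 0 6 1 2 9 6 0 5 1 2) (@D3.rec (fun _ => Nat) 5 73 7 7 0 1 2 7 0 7 2 3 7 10 81 7 7 0 1 2 6 0 7 2 3 3 6 0 1 2 2 7 61 7 3 4 4 0 1 2) (@D3.rec (fun _ => Nat) 2 7 69 7 3 4 4 0 1 2 2 66 0 1 2 2 67 12 12 80 80 80 80 12 15 16 15 12 12 62 12 12 87 13 0 13 13 0 1 10) (@D3.rec (fun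 _ => Nat) 8 2 3 12 0 12 15 0 13 1 2 12 13 0 13 13 0 1 10 8 2 3 14 0 14 14 0 14 1 2 15 13 13 13 13 14 1 96 2 8) (@D3.rec (fun _ => Nat) 2 3 13 0 13 10 0 10 8 3 6 4 103 7 14 0 14 13 13 13 13 14 1 2 99 8 2 3 13 0 13 10 0 10 8 3 3 4 104 4) (@D3.rec (fun _ => Nat) 12 0 12 96 1 2 2 66 8 2 2 3 3 5 61 3 4 105 91 91 92 6 1 2 6 8 4 103 4 5 102 5 100 1 2 2 46 8 2 2) (@D3.rec (fun _ => Nat) 3 3 5 69 3 4 108 96 95 6 1 2 6 8 4 104 4 5 102 105 0 1 6 6 66 1 0 97 2 0 2 2 1 2 2 3 3 93 1 2) (@D3.rec (fun _ => Nat) 3 64 2 3 100 0 4 0 0 1 0 1 6 6 46 1 0 2 105 0 2 2 1 2 2 3 107 3 1 2 3 67 2 3 106 0 4 0 52 1) (@D3.rec (fun _ => Nat) 13 13 93 13 14 0 94 91 14 93 14 0 2 91 3 14 18 0 18 94 14 3 4 0 4 15 18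 0 18 1 114 14 18 14 102 14 0 1 0 0) (@D3.rec (fun _ => Nat) 1 8 5 2 3 1 13 13 103 13 14 0 100 14 98 102 14 0 2 3 101 19 0 17 109 14 76 3 4 0 4 77 19 0 17 1 104 14 17 14) (@D3.rec (fun _ => Nat) 97 14 0 1 0 0 1 9 5 2 3 1 0 1 0 1 2 2 4 2 102 83 92 16 16 16 16 16 0 1 0 1 2 2 4 2 95 87 101 76) (@D3.rec (fun _ => Nat) 76 76 76 78 1 90 94 75 75 8 2 2 3 3 3 4 3 3 3 4 4 0 4 4 4 0 4 5 0 1 2 2 2 2 3 3 5 0 4 5)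
def lv_d_4 : D2 → D3 → Nat := @D2.rec (fun _ => D3 → Nat) (@D3.rec (fun _ => Nat) 0 4 6 0 6 1 2 8 6 0 5 1 2 5 3 3 3 4 0 100 4 0 104 5 6 89 1 2 5 6 0 5 6 91 1 2 7 8 0 7) (@D3.rec (fun _ => Nat) 7 7 0 1 0 8 2 3 7 0 8 7 0 7 1 2 6 7 7 0 1 0 8 2 3 9 0 8 9 0 9 1 2 10 7 7 0 1 2 7) (@D3.rec (fun _ => Nat) 4 11 2 3 8 7 0 8 11 7 0 7 1 2 6 7 7 0 1 2 6 4 11 2 3 3 8 0 7 6 8 0 8 1 2 9 72 72 0 1) (@D3.rec (fun _ => Nat) 2 2 8 8 9 72 1 2 2 4 8 2 3 9 0 9 0 1 85 2 8 3 6 4 4 7 8 0 1 2 9 14 0 12 85 0 8 15 0 1) (@D3.rec (fun _ => Nat) 2 9 0 8 2 3 7 80 80 0 1 2 2 7 8 9 80 1 2 2 4 8 2 3 8 0 9 0 1 94 2 8 3 3 4 4 4 9 0 1) (@D3.rec (fun _ => Nat) 2 8 13 0 7 87 0 9 11 0 1 2 9 0 9 2 7 10 68 63 63 69 67 64 0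 0 1 0 1 2 2 8 66 66 78 70 70 79 79 80) (@D3.rec (fun _ => Nat) 0 0 1 0 1 2 2 9 63 63 0 1 0 0 1 0 80 85 2 2 94 95 17 0 15 14 0 15 0 1 0 2 2 93 98 3 3 3 6 0) (@D3.rec (fun _ => Nat) 4 4 0 4 7 57 0 1 2 16 14 0 14 88 0 1 2 15 14 0 14 15 82 17 15 0 1 2 15 9 2 3 7 17 87 15 16 0 1 2) (@D3.rec (fun _ => Nat) 14 9 2 3 3 14 98 83 14 15 0 1 2 2 10 9 0 1 96 11 9 3 0 4 16 0 1 2 14 86 14 0 1 2 112 9 2 3 3 16) (@D3.rec (fun _ => Nat) 14 97 90 14 15 0 1 2 2 10 9 0 1 95 11 10 3 0 4 15 0 1 2 15 88 14 0 1 2 112 10 2 3 7 14 15 14 98 9 2) (@D3.rec (fun _ => Nat) 96 3 3 14 14 0 15 15 1 2 2 0 9 2 2 3 3 5 10 95 10 9 3 4 0 4 14 0 14 1 2 0 2 1 2 3 11 9 10 4) (@D3.rec (fun _ => Nat) 91 4 8 5 0 1 89 9 9 0 9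 14 0 14 14 0 1 0 9 2 3 15 0 15 0 15 1 2 16 110 14 14 0 1 2 110 14 15 0 1) (@D3.rec (fun _ => Nat) 2 2 10 10 2 100 0 0 1 0 2 9 3 4 13 0 13 14 14 104 9 2 3 3 99 14 0 14 14 1 2 2 0 9 2 2 3 3 5 10) (@D3.rec (fun _ => Nat) 93 10 9 3 4 0 4 14 0 1 2 0 2 1 2 3 11 9 9 4 94 4 4 5 0 1 93 5 5 0 5 14 0 14 14 0 1 11 10 2) (@D3.rec (fun _ => Nat) 3 13 0 13 0 14 1 2 13 109 14 14 0 1 109 111 14 14 0 1 2 2 10 2 102 0 11 0 11 10 6 7 15 0 15 64 90 5 92 6) (@D3.rec (fun _ => Nat) 0 6 101 1 92 88 67 2 3 92 0 1 0 1 2 2 8 9 0 1 2 2 0 9 2 2 3 5 7 0 7 7 1 71 97 5 94 6 0 6) (@D3.rec (fun _ => Nat) 101 1 93 92 68 2 3 95 0 1 0 1 2 2 9 10 0 1 2 2 0 10 2 2 3 5 8 0 8 8 1 94 98 99 8 0 113 1 108 0) (@D3.rec (fun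 _ => Nat) 0 1 2 7 0 7 7 1 107 1 0 2 2 0 0 2 2 1 2 3 1 101 100 9 0 114 1 114 0 0 1 2 8 0 8 8 1 104 1 2) (@D3.rec (fun _ => Nat) 0 0 2 2 1 1 12 13 13 0 13 1 0 13 112 111 14 0 108 14 0 1 2 14 109 10 114 2 3 14 0 14 1 0 116 112 117 0 112 0) (@D3.rec (fun _ => Nat) 1 2 15 111 9 115 2 3 78 78 78 80 2 2 101 96 3 5 104 102 0 81 1 2 2 2 2 3 3 74 74 3 3 3 5 4 4 4 4 4) (@D3.rec (fun _ => Nat) 6 4 74 4 4 82 4 5 6 5 5 15 15 15 16 15 15 15 15 14 14 14 0 14 14 15 16 0 16 14 14 14 15 14 14 14 14 78 78 84) (@D3.rec (fun _ => Nat) 0 81 79 0 79 1 1 82 82 87 0 9 99 0 9 91 0 9 1 2 87 101 0 9 1 2 100 6 6 90 99 3 3 3 4 4 0 4 4 4) (@D3.rec (fun _ => Nat) 0 4 5 4 73 4 4 4 81 4 5 5 0 5 1 2 5 6 5 0 5 5 0 5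 1 2 6 5 6 0 6 6 2 3 1 6 2 3 1 101) (@D3.rec (fun _ => Nat) 100 0 82 2 2 1 2 2 99 13 98 13 93 97 4 86 4 4 4 90 4 6 98 100 102 5 5 0 96 108 100 104 7 7 0 103 83 84 83 111) (@D3.rec (fun _ => Nat) 83 88 83 111 5 86 5 5 5 0 5 5 90 6 5 6 0 6 94 97 1 2 103 7 2 3 102 6 0 96 6 6 103 96 1 2 6 106 103 1) (@D3.rec (fun _ => Nat) 2 99 7 2 3 106 7 0 105 6 7 101 101 1 2 7 97 97 71 5 107 8 7 3 4 105 7 98 98 79 5 103 6 7 3 4 105 8 111 5)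
def lv_d_5 : D2 → D3 → Nat := @D2.rec (fun _ => D3 → Nat) (@D3.rec (fun _ => Nat) 93 105 2 3 59 0 102 5 96 98 2 3 62 0 1 2 2 2 2 3 3 3 5 3 3 4 100 4 4 98 4 74 74 4 75 4 4 4 83 4) (@D3.rec (fun _ => Nat) 6 5 0 1 2 5 5 111 5 5 0 1 2 7 7 108 7 5 5 75 5 5 5 86 5 5 5 83 6 5 6 86 6 6 0 92 6 0 1 2) (@D3.rec (fun _ => Nat) 6 7 2 3 7 6 0 7 6 6 0 6 1 2 6 6 0 6 97 0 1 2 6 7 2 3 3 7 0 7 6 7 0 7 1 2 8 81 1 0) (@D3.rec (fun _ => Nat) 1 2 2 7 7 3 3 4 0 4 4 0 1 0 1 5 7 94 1 0 1 2 2 7 7 3 3 4 0 4 4 0 1 0 1 6 8 0 1 2) (@D3.rec (fun _ => Nat) 70 0 1 0 5 0 1 0 1 2 80 0 1 0 6 0 1 86 107 96 99 96 16 104 104 104 17 16 96 16 100 16 16 104 16 103 16 15 65 89) (@D3.rec (fun _ => Nat) 15 8 2 3 15 105 15 17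 112 16 1 107 15 15 94 15 95 8 2 3 16 115 16 16 117 17 1 117 17 0 86 15 97 1 93 2 86 15 18 1) (@D3.rec (fun _ => Nat) 95 2 8 2 3 15 0 15 8 3 6 4 0 105 7 15 115 1 111 16 16 106 16 15 106 15 15 0 1 111 15 8 15 0 15 93 98 1 2 100) (@D3.rec (fun _ => Nat) 15 15 94 1 2 103 8 2 3 15 0 15 8 3 3 4 116 109 4 15 15 15 113 15 15 107 15 15 112 110 15 9 16 81 1 2 2 92 1 97) (@D3.rec (fun _ => Nat) 97 8 2 97 97 0 99 6 1 2 63 8 11 4 104 4 4 99 0 103 1 102 5 5 98 97 0 1 107 8 0 1 100 102 8 6 107 97 1 2) (@D3.rec (fun _ => Nat) 2 98 1 106 101 8 2 101 103 0 6 100 1 2 57 8 8 4 107 4 4 103 0 105 1 106 5 5 99 98 0 1 115 9 0 1 107 106 9 7) (@D3.rec (fun _ => Nat) 117 94 104 6 1 91 1 91 93 2 99 2 95 99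 99 3 1 2 3 2 3 98 99 98 96 100 99 0 1 0 1 6 0 1 115 104 2 115 98 99) (@D3.rec (fun _ => Nat) 6 1 95 1 95 2 97 98 2 99 1 2 3 2 102 104 104 102 98 99 0 1 0 1 7 0 1 115 2 114 112 17 85 17 85 85 17 2 95 3) (@D3.rec (fun _ => Nat) 18 15 0 16 3 4 101 4 15 0 15 1 2 15 1 0 1 11 5 2 3 18 0 18 18 1 108 2 18 18 77 89 77 89 89 77 2 101 15 79) (@D3.rec (fun _ => Nat) 3 110 4 15 0 15 1 2 15 1 12 5 2 3 19 0 19 17 1 2 95 17 17 79 79 77 79 2 2 96 94 1 2 2 3 5 4 6 80 82) (@D3.rec (fun _ => Nat) 81 83 3 3 3 4 4 4 4 4 4 5 6 6 4 0 4 4 0 4 5 5 6 5 5 5 2 2 91 95 0 1 2 2 96 95 99 99 83 84) (@D3.rec (fun _ => Nat) 2 2 81 81 3 4 81 81 81 81 4 4 4 6 5 5 0 5 7 7 0 7 81 84 7 85 88 7 5 86 5 86 5 5 90 5 90 5 94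 101) (@D3.rec (fun _ => Nat) 6 6 101 96 6 6 86 0 82 82 0 81 106 0 1 2 83 83 0 83 97 0 1 2 82 84 0 82 7 7 7 8 5 5 1 2 5 5 5 0) (@D3.rec (fun _ => Nat) 5 5 5 1 2 6 5 6 0 6 6 86 98 6 0 1 2 6 86 7 2 7 6 0 6 6 6 0 6 1 2 87 6 86 6 99 0 1 2 6) (@D3.rec (fun _ => Nat) 88 7 2 3 7 0 7 6 7 0 7 1 2 85 0 1 5 7 0 1 6 8 5 0 1 6 0 1 4 4 91 95 97 5 5 0 5 102 7 7) (@D3.rec (fun _ => Nat) 0 7 110 96 1 8 2 3 6 0 7 107 0 6 1 2 6 111 104 1 8 2 3 8 0 8 106 0 8 1 2 9 9 9 9 89 9 99 84 92) (@D3.rec (fun _ => Nat) 8 87 115 91 91 102 9 85 115 87 97 6 93 2 3 99 7 0 7 7 7 0 6 1 2 6 100 6 100 2 3 101 8 0 7 6 8 0 7 1) (@D3.rec (fun _ => Nat) 2 8 90 103 96 105 92 95 9 2 99 7 0 8 0 98 8 6 7 8 0 1 2 8 8 104 110 99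 0 99 100 0 1 2 84 0 8 2 3 105) (@D3.rec (fun _ => Nat) 94 105 100 97 94 105 9 2 108 7 0 9 0 103 8 3 4 9 0 1 2 8 7 114 112 101 0 99 102 0 1 2 84 0 9 2 7 110 91 1) (@D3.rec (fun _ => Nat) 0 1 105 2 8 105 105 98 1 110 1 107 104 9 114 114 1 2 91 101 2 2 3 1 0 1 2 2 116 1 2 94 100 2 2 3 1 0 1 2) (@D3.rec (fun _ => Nat) 2 114 75 75 3 3 3 4 4 4 4 5 82 81 81 81 81 4 0 4 4 0 4 5 5 1 62 5 5 1 83 0 83 83 0 83 82 6 0 1) (@D3.rec (fun _ => Nat) 2 5 6 0 5 6 0 1 2 7 8 0 7 85 0 7 7 0 1 0 8 2 3 7 0 8 7 0 7 1 2 6 89 0 7 7 0 1 0 8)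
def lv_d_6 : D2 → D3 → Nat := @D2.rec (fun _ => D3 → Nat) (@D3.rec (fun _ => Nat) 2 3 9 0 8 9 0 9 1 2 10 7 7 90 1 2 7 4 11 2 3 8 11 7 7 92 1 2 6 4 11 2 3 3 6 80 76 8 8 9) (@D3.rec (fun _ => Nat) 1 2 2 4 8 2 3 8 84 9 1 0 2 8 3 6 4 4 7 12 110 12 84 84 7 8 9 1 2 2 4 8 2 3 7 86 9 1 0 2) (@D3.rec (fun _ => Nat) 8 3 3 4 4 4 7 112 7 0 1 2 2 0 8 2 2 3 67 5 63 67 8 4 0 4 5 5 5 0 1 2 2 0 8 2 2 64 3 5) (@D3.rec (fun _ => Nat) 71 64 8 4 0 4 5 5 8 0 1 2 2 0 68 2 2 3 5 0 1 2 2 0 76 2 2 3 5 0 15 0 15 90 82 82 94 82 82 16) (@D3.rec (fun _ => Nat) 108 15 108 15 15 96 0 1 92 2 14 15 0 1 101 2 9 93 11 9 3 4 113 113 16 0 1 2 0 114 1 2 11 9 2 3 106 0 1 2) (@D3.rec (fun _ => Nat) 95 14 15 0 1 2 106 9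 97 11 10 3 4 108 118 15 0 1 2 116 114 1 2 12 10 2 7 14 90 14 9 2 3 9 3 4 0 4 15 88) (@D3.rec (fun _ => Nat) 14 1 86 98 91 93 1 2 11 9 10 4 8 5 103 9 0 9 0 1 111 16 14 88 9 2 3 9 3 4 0 4 15 86 1 83 96 96 97 1) (@D3.rec (fun _ => Nat) 2 11 9 9 4 4 5 102 5 0 5 0 1 113 13 98 67 9 2 2 96 3 0 67 9 9 3 3 5 4 4 4 6 67 4 5 99 107 92 7) (@D3.rec (fun _ => Nat) 2 95 7 101 7 9 0 9 5 104 5 100 6 6 102 47 9 2 2 3 94 0 47 9 9 3 3 5 4 4 4 6 64 4 5 101 108 96 7 2) (@D3.rec (fun _ => Nat) 98 7 104 7 9 0 9 5 6 104 105 1 2 101 7 7 7 67 101 99 67 0 2 1 2 1 2 2 3 3 87 2 2 3 3 4 4 99 0 97) (@D3.rec (fun _ => Nat) 95 2 3 102 4 3 4 0 99 0 98 1 2 5 1 0 1 53 5 1 2 99 7 7 7 47 103 47 107 0 2 1 2 1 2 2 3 3 108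 2) (@D3.rec (fun _ => Nat) 2 3 3 104 0 100 2 3 104 4 3 4 0 111 0 1 2 5 1 54 5 14 0 14 14 14 96 1 2 92 91 15 96 92 15 15 1 3 94 4) (@D3.rec (fun _ => Nat) 106 107 15 107 15 18 116 1 116 96 96 0 14 4 103 4 5 105 5 1 105 15 15 98 109 109 20 20 0 1 114 20 5 118 15 104 15 15 104 15) (@D3.rec (fun _ => Nat) 16 0 1 5 0 1 0 1 111 2 6 9 0 109 3 4 4 14 0 14 14 14 100 1 2 100 15 100 100 108 15 110 1 3 4 106 113 19 106 1) (@D3.rec (fun _ => Nat) 116 109 109 0 15 15 77 4 107 4 5 111 5 1 112 78 78 101 108 104 19 19 0 1 104 19 5 108 15 97 15 15 99 15 102 0 1 5 104 1) (@D3.rec (fun _ => Nat) 0 1 2 107 6 10 0 113 3 4 4 79 1 2 4 1 2 95 75 2 2 3 4 100 85 92 95 16 16 16 19 100 89 1 2 4 1 2 99 83) (@D3.rec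 (fun _ => Nat) 2 2 3 5 100 89 99 99 78 78 78 102 78 75 0 75 75 0 79 3 3 3 4 0 4 97 0 4 99 4 0 4 4 4 0 4 5 5 0 1) (@D3.rec (fun _ => Nat) 2 5 5 0 5 5 0 1 2 6 6 0 6 0 1 2 2 2 2 3 3 3 5 3 3 4 0 4 4 0 4 6 0 6 1 2 9 6 0 5) (@D3.rec (fun _ => Nat) 1 2 5 7 7 86 1 2 7 0 9 2 3 7 7 7 92 1 2 6 0 9 2 3 3 101 4 103 5 1 100 98 5 0 1 102 104 6 0 87) (@D3.rec (fun _ => Nat) 6 6 4 12 2 96 7 0 8 7 0 7 1 2 6 89 6 6 4 12 2 102 9 0 8 9 0 9 1 2 10 7 9 80 1 2 2 4 9 1) (@D3.rec (fun _ => Nat) 2 9 3 0 4 8 0 1 2 8 0 1 2 0 9 2 3 3 7 7 9 95 1 2 2 4 9 1 2 10 3 0 4 10 0 1 2 10 0 1) (@D3.rec (fun _ => Nat) 2 0 10 2 3 7 11 8 8 9 1 92 101 2 3 9 0 9 5 87 5 12 3 7 0 4 8 8 0 1 2 9 13 0 11 8 14 0 1 2) (@D3.rec (fun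 _ => Nat) 8 5 12 2 3 3 7 7 8 9 1 103 100 2 3 8 0 9 5 96 5 12 3 3 0 4 4 9 0 1 2 8 14 0 7 9 11 0 1 2) (@D3.rec (fun _ => Nat) 9 6 12 2 3 7 10 77 76 1 2 9 2 2 3 3 4 16 10 0 16 14 74 73 9 2 2 3 3 4 5 87 5 9 3 5 0 4 10 0) (@D3.rec (fun _ => Nat) 11 1 2 0 1 90 2 2 93 2 87 3 8 9 10 4 4 8 5 9 9 0 9 12 0 9 15 0 1 0 9 2 3 10 0 14 0 12 1 2) (@D3.rec (fun _ => Nat) 14 0 85 87 0 1 2 2 9 13 0 1 2 2 5 10 2 3 0 0 1 0 2 9 3 4 8 112 8 84 84 1 2 9 2 2 3 3 4 9)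
def lv_d_7 : D2 → D3 → Nat := @D2.rec (fun _ => D3 → Nat) (@D3.rec (fun _ => Nat) 0 8 10 81 83 9 2 2 3 3 4 5 93 6 9 3 5 0 4 9 0 1 2 0 1 100 2 2 98 2 94 3 6 9 9 4 4 4 5 5) (@D3.rec (fun _ => Nat) 5 0 5 11 0 10 9 0 1 0 10 2 3 15 0 9 0 13 1 2 8 0 85 87 0 1 2 2 14 10 0 1 2 2 6 10 2 3 0 0) (@D3.rec (fun _ => Nat) 1 0 2 10 6 7 11 110 8 69 66 67 91 66 85 82 70 67 0 1 0 1 2 2 7 9 0 1 2 2 0 9 2 2 3 5 68 62 62 62) (@D3.rec (fun _ => Nat) 72 78 77 95 79 91 89 73 80 0 1 0 1 2 2 8 10 0 1 2 2 0 10 2 2 3 5 65 70 70 70 1 7 0 1 1 8 0 1 83) (@D3.rec (fun _ => Nat) 80 80 94 96 100 94 94 1 2 108 1 2 1 0 2 2 1 93 98 82 82 99 99 97 94 4 4 4 7 1 2 97 96 97 1 2 96 103 102 89) (@D3.rec (fun _ => Nat) 1 95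 2 101 0 1 2 15 93 1 105 2 107 0 1 2 15 82 82 90 1 2 87 2 3 112 10 3 6 4 7 86 84 92 1 2 105 2 3 108) (@D3.rec (fun _ => Nat) 10 3 3 4 4 94 98 85 91 1 94 2 98 82 2 2 3 96 95 1 96 10 0 4 1 2 107 15 0 1 108 10 2 3 86 0 1 2 107 11) (@D3.rec (fun _ => Nat) 10 2 3 110 10 3 3 4 4 109 98 98 92 97 1 2 98 99 90 2 2 100 3 96 1 100 11 0 4 1 2 106 15 0 1 109 11 2 3 88) (@D3.rec (fun _ => Nat) 0 1 112 2 12 11 2 3 108 11 3 6 4 7 115 0 84 98 99 10 3 3 96 4 0 4 4 104 0 1 2 0 76 83 2 2 3 89 1 78) (@D3.rec (fun _ => Nat) 98 2 95 10 3 3 5 4 4 0 95 10 4 4 5 0 5 1 106 5 0 109 1 2 0 10 2 113 1 2 3 2 98 99 105 94 4 101 10 92) (@D3.rec (fun _ => Nat) 11 11 5 8 8 101 8 6 104 6 6 0 1 93 69 94 9 0 115 9 1 2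 104 0 0 1 108 108 0 1 2 2 11 10 102 1 0 12 11 3) (@D3.rec (fun _ => Nat) 4 0 4 0 1 104 1 104 108 11 2 3 106 113 113 110 108 1 108 109 10 2 3 110 0 0 1 107 2 108 11 2 2 106 3 4 11 0 11 10) (@D3.rec (fun _ => Nat) 0 101 1 0 1 0 2 2 0 2 1 2 12 10 4 5 0 105 106 1 108 82 0 104 105 10 3 3 4 0 4 4 99 0 1 2 98 84 83 2) (@D3.rec (fun _ => Nat) 2 3 93 1 86 2 100 10 99 3 3 5 4 0 6 96 10 4 4 5 106 5 1 113 5 0 108 1 0 10 2 112 1 2 3 2 107 104 105 96) (@D3.rec (fun _ => Nat) 4 105 10 96 10 10 5 5 5 102 5 6 106 6 6 0 1 94 77 97 102 0 112 6 1 2 103 108 0 1 108 108 0 1 2 2 11 103 0 12) (@D3.rec (fun _ => Nat) 11 3 4 0 4 0 1 110 1 108 111 10 2 3 112 109 109 107 1 109 109 11 111 111 0 0 1 2 107 107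 11 2 2 3 104 5 11 0 104 1) (@D3.rec (fun _ => Nat) 12 0 12 12 1 2 12 12 8 9 0 110 105 1 104 86 90 6 6 7 1 99 7 101 69 0 67 3 4 95 0 95 1 111 105 10 1 109 111 0) (@D3.rec (fun _ => Nat) 10 2 2 113 111 9 106 1 2 2 0 11 2 2 97 108 1 0 2 10 10 3 5 4 6 0 8 8 1 2 2 8 9 98 106 6 6 7 1 99) (@D3.rec (fun _ => Nat) 7 105 77 0 77 3 4 97 0 97 1 107 105 11 1 116 110 0 11 2 2 112 112 10 113 1 2 2 0 12 2 2 108 103 1 0 2 11 11 3) (@D3.rec (fun _ => Nat) 5 4 6 0 9 9 1 2 2 9 10 9 111 1 108 113 113 106 0 1 109 1 112 2 110 2 3 99 8 8 1 2 93 8 9 0 111 95 107 0) (@D3.rec (fun _ => Nat) 2 2 1 3 1 0 109 2 1 2 101 3 108 2 111 10 117 1 114 113 116 118 0 1 110 1 2 112 102 2 3 101 9 9 1 101 2 9 10 0) (@D3.rec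 (fun _ => Nat) 102 110 100 2 3 1 0 110 110 1 99 103 112 107 13 13 0 13 112 1 119 13 113 1 2 115 112 0 113 105 113 14 0 1 112 14 99 14 0 1) (@D3.rec (fun _ => Nat) 116 114 2 3 3 14 111 11 113 11 111 3 113 112 1 112 15 114 1 2 112 108 113 0 1 114 110 114 0 1 112 117 2 3 3 16 113 10 10 118) (@D3.rec (fun _ => Nat) 114 3 116 78 80 13 13 117 104 117 100 1 2 2 2 2 3 5 3 3 4 4 4 4 76 76 4 79 4 4 4 81 4 6 5 5 0 5 7 7) (@D3.rec (fun _ => Nat) 0 7 5 73 5 5 81 5 6 6 6 6 16 17 16 16 16 16 16 16 15 15 15 105 15 17 115 16 1 105 15 15 15 16 115 16 16 115 17 1) (@D3.rec (fun _ => Nat) 115 17 15 15 19 15 99 15 16 111 16 15 15 15 15 107 15 15 118 15 83 85 82 80 92 80 94 87 82 1 83 83 101 93 80 1 90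 81 6 6)
def lv_d_8 : D2 → D3 → Nat := @D2.rec (fun _ => D3 → Nat) (@D3.rec (fun _ => Nat) 82 82 82 82 82 82 87 1 2 94 1 2 89 85 1 2 89 2 87 102 103 95 1 2 93 2 95 98 83 83 4 73 4 4 4 83 4 5 93 0) (@D3.rec (fun _ => Nat) 1 2 5 5 114 98 97 0 1 2 6 6 111 95 5 5 74 5 5 5 5 5 5 82 6 5 6 6 6 0 1 2 6 7 2 3 7 6 0 7) (@D3.rec (fun _ => Nat) 6 6 0 6 1 2 6 6 0 1 2 6 7 2 3 3 7 0 7 6 7 0 7 1 2 8 7 3 4 4 7 7 3 4 4 8 1 82 82 2) (@D3.rec (fun _ => Nat) 2 88 92 93 97 99 5 5 104 7 7 102 100 104 99 0 107 108 98 1 2 98 101 106 106 104 0 100 110 105 1 2 103 83 109 110 83 111 109 86) (@D3.rec (fun _ => Nat) 6 0 7 6 1 2 6 90 7 0 6 7 1 2 7 94 97 8 2 3 0 107 8 3 4 108 104 105 1 107 100 104 115 105 101 103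 102 104 103 103) (@D3.rec (fun _ => Nat) 8 2 105 98 98 105 8 2 3 0 99 8 3 4 106 104 104 1 102 112 103 118 104 96 102 100 98 102 103 9 2 97 100 104 104 103 105 8 4 98) (@D3.rec (fun _ => Nat) 104 105 111 100 103 101 8 4 100 102 105 92 99 3 99 103 101 105 58 1 96 100 3 99 100 100 103 64 1 2 2 87 95 3 3 3 5 4 97 4) (@D3.rec (fun _ => Nat) 4 4 104 4 6 4 0 4 4 0 4 5 102 5 100 6 5 105 5 101 5 76 78 76 80 81 78 5 5 5 0 5 5 7 7 0 7 6 0 92) (@D3.rec (fun _ => Nat) 6 1 8 2 3 6 111 7 6 111 6 111 6 6 0 6 99 1 8 2 3 8 109 8 8 108 8 109 9 6 6 6 73 6 88 7 7 6 6 86) (@D3.rec (fun _ => Nat) 6 6 6 6 81 7 84 7 6 7 7 86 8 0 88 7 0 1 2 2 88 7 90 1 2 2 8 2 3 8 0 8 8 3 6 4 0 4 7 7) (@D3.rec (fun _ => Nat)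 0 1 2 8 14 0 8 7 106 7 7 0 1 2 7 8 2 7 0 7 97 0 1 2 2 7 95 97 1 2 2 8 2 3 8 0 9 8 3 3) (@D3.rec (fun _ => Nat) 4 0 4 4 8 118 1 112 8 13 0 7 8 102 8 8 0 1 2 8 9 2 9 79 81 1 2 2 87 8 2 2 3 5 8 10 4 0 4 4) (@D3.rec (fun _ => Nat) 5 0 5 1 2 5 5 5 5 0 1 6 8 0 1 2 2 8 6 106 90 92 1 2 2 87 8 2 2 3 5 8 8 4 0 4 4 5 0 5) (@D3.rec (fun _ => Nat) 1 2 5 8 5 5 0 1 7 9 0 1 2 2 9 7 115 1 2 2 3 1 6 0 1 6 0 1 2 2 117 1 2 2 3 1 7 0 1 7) (@D3.rec (fun _ => Nat) 0 1 2 115 21 88 19 109 66 97 99 17 99 17 94 101 104 19 99 19 18 93 17 22 98 21 102 18 109 20 17 101 20 103 16 67 91 9 3 104) (@D3.rec (fun _ => Nat) 107 107 16 16 108 16 117 105 105 17 16 96 96 10 3 107 117 110 18 17 101 16 110 115 115 17 1 95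 98 22 16 95 97 9 2 95 97 95 16 16) (@D3.rec (fun _ => Nat) 102 17 18 9 2 97 3 3 9 3 4 98 4 16 97 16 1 101 9 10 4 104 8 99 0 1 2 103 9 103 98 18 0 16 105 116 111 17 105 17) (@D3.rec (fun _ => Nat) 111 17 105 18 16 16 106 19 0 1 2 16 16 1 102 101 16 20 100 102 9 2 106 102 101 16 109 16 16 9 2 3 3 103 9 3 4 105 4 16) (@D3.rec (fun _ => Nat) 105 1 111 9 9 4 108 4 105 117 111 109 5 111 111 20 0 101 18 16 113 16 102 17 113 16 16 16 109 18 112 112 17 17 81 83 97 2 2 3) (@D3.rec (fun _ => Nat) 4 9 100 9 99 97 1 2 109 63 7 2 3 9 0 9 11 5 5 106 1 105 101 104 9 105 104 98 6 100 97 98 0 1 102 9 107 107 0 1) (@D3.rec (fun _ => Nat) 100 102 9 100 100 7 107 112 92 94 101 2 2 3 4 9 106 9 101 105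 1 2 60 7 103 2 3 9 0 9 9 5 5 100 1 108 105 106 10 107) (@D3.rec (fun _ => Nat) 112 108 6 111 100 100 0 1 109 10 115 115 0 1 107 106 10 110 105 8 115 117 92 99 107 7 89 91 2 91 93 93 99 3 94 98 2 3 3 100) (@D3.rec (fun _ => Nat) 106 103 116 1 103 0 1 109 2 105 7 107 0 1 118 106 106 106 2 120 118 107 96 98 104 7 93 95 2 97 97 97 99 2 103 100 101 100 106 1) (@D3.rec (fun _ => Nat) 101 0 1 2 115 115 8 117 0 1 117 116 116 115 2 115 115 116 87 90 87 17 90 87 17 0 17 3 93 106 20 109 20 16 105 1 4 109 4 113) (@D3.rec (fun _ => Nat) 1 16 106 103 2 3 111 5 118 1 116 122 116 11 104 117 3 4 0 20 20 1 110 111 20 18 0 2 110 110 106 91 94 91 79 93 91 79 0 79) (@D3.rec (fun _ => Nat) 101 16 79 108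 79 114 4 108 1 99 108 2 3 109 5 110 112 105 3 109 0 19 19 1 97 95 19 19 0 2 97 95 94 99 79 81 2 2 3 4)
def lv_d_9 : D2 → D3 → Nat := @D2.rec (fun _ => D3 → Nat) (@D3.rec (fun _ => Nat) 4 6 99 0 106 106 0 102 80 82 0 108 0 103 4 4 4 4 4 5 5 5 0 5 6 6 0 6 7 7 5 5 1 89 5 5 5 1 83 5) (@D3.rec (fun _ => Nat) 83 6 6 85 6 90 6 85 94 103 1 2 2 98 99 81 81 90 95 3 4 81 81 4 5 81 83 81 83 5 5 0 5 7 7 0 7 6 118 7) (@D3.rec (fun _ => Nat) 6 113 6 1 2 6 8 115 8 8 113 8 1 2 9 83 86 83 86 83 88 90 86 90 83 89 6 88 89 7 92 6 92 95 6 99 111 101 111 114) (@D3.rec (fun _ => Nat) 120 106 92 98 101 101 98 115 106 108 97 1 1 100 0 1 81 8 2 3 83 0 83 85 0 85 1 2 83 99 0 1 90 8 2 3 84 0 84 85) (@D3.rec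 (fun _ => Nat) 0 84 1 2 84 8 9 6 6 6 4 83 2 6 0 6 6 6 6 1 6 6 6 4 90 2 7 0 7 6 7 7 1 92 88 100 7 92 1 4) (@D3.rec (fun _ => Nat) 9 2 3 84 0 83 0 88 8 6 7 90 0 1 2 84 101 0 98 7 0 86 7 95 1 2 87 8 2 3 92 96 88 7 96 98 1 4 9 2) (@D3.rec (fun _ => Nat) 3 86 0 83 0 87 8 3 4 86 0 1 2 85 103 0 99 8 0 8 83 95 1 2 85 9 2 7 87 0 1 2 2 8 6 116 0 1 2 2) (@D3.rec (fun _ => Nat) 9 7 113 6 0 1 2 2 116 7 0 1 2 113 94 97 6 105 7 6 1 104 6 8 104 8 8 1 103 9 96 9 9 3 106 114 4 7 0 1) (@D3.rec (fun _ => Nat) 2 106 0 98 0 1 2 0 117 2 3 94 102 9 10 3 108 109 4 9 0 1 114 109 112 111 0 1 2 0 116 2 3 98 84 87 112 87 89 114) (@D3.rec (fun _ => Nat) 83 117 91 83 111 85 85 117 85 109 7 8 95 3 112 119 8 0 1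 108 8 7 0 0 1 2 5 115 2 3 7 9 102 3 112 119 9 0 1 112) (@D3.rec (fun _ => Nat) 8 7 0 0 1 2 6 115 2 3 103 102 92 0 9 99 100 99 99 1 2 1 2 100 10 8 99 105 96 88 113 88 100 0 1 0 9 2 111 106) (@D3.rec (fun _ => Nat) 110 112 107 112 0 1 101 2 0 1 106 2 5 9 2 110 0 1 0 9 3 115 94 114 104 105 106 0 9 110 104 112 1 2 1 2 103 9 4 106) (@D3.rec (fun _ => Nat) 110 104 85 112 100 86 112 1 0 10 2 110 102 101 106 114 114 0 1 2 106 0 1 117 110 6 10 2 108 0 1 0 10 6 114 100 110 109 0 1) (@D3.rec (fun _ => Nat) 111 106 9 2 110 117 116 119 117 112 111 10 116 116 116 116 93 97 2 108 0 90 93 101 3 0 1 2 0 107 2 2 3 96 105 2 106 0 94 99) (@D3.rec (fun _ => Nat) 105 3 0 1 2 0 118 2 2 3 0 77 0 77 0 4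 4 0 4 5 5 0 6 0 83 82 82 82 82 82 84 85 0 82 82 0 82 5 0 5) (@D3.rec (fun _ => Nat) 1 2 58 5 0 5 1 2 84 86 0 74 0 1 84 85 0 1 83 84 0 0 7 7 91 1 4 12 2 7 0 8 7 0 7 1 2 6 0 7) (@D3.rec (fun _ => Nat) 7 99 1 4 12 2 9 0 8 9 0 9 1 2 10 0 0 1 2 2 8 10 0 1 2 2 4 9 0 1 0 2 9 3 4 113 4 8 0 1) (@D3.rec (fun _ => Nat) 2 0 116 1 2 0 9 2 3 0 0 1 2 2 8 10 0 1 2 2 4 9 0 1 0 2 10 3 4 115 4 10 0 1 2 0 116 1 2 0) (@D3.rec (fun _ => Nat) 10 2 7 8 8 9 2 90 8 0 9 5 0 5 12 3 7 4 8 11 110 11 7 8 9 2 92 7 0 9 5 0 5 12 3 3 4 4 7 112) (@D3.rec (fun _ => Nat) 7 9 2 2 3 5 0 5 9 3 4 91 4 79 0 2 1 2 3 8 9 10 4 0 4 8 5 9 9 109 9 109 110 16 9 2 2 3 5 0) (@D3.rec (fun _ => Nat) 6 9 3 4 86 4 77 0 2 1 2 3 6 9 9 4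 0 4 4 5 5 5 112 5 110 112 8 1 2 0 9 2 2 102 3 1 0 93 2 9) (@D3.rec (fun _ => Nat) 9 3 5 4 69 69 6 69 63 63 10 0 9 5 0 5 1 2 5 6 6 6 1 2 0 9 2 2 3 107 1 0 2 108 9 9 3 5 66 71) (@D3.rec (fun _ => Nat) 4 6 66 66 66 9 0 9 5 58 5 1 2 7 6 6 8 1 2 66 68 2 2 3 3 1 0 2 2 68 68 3 5 4 6 1 2 77 69 2) (@D3.rec (fun _ => Nat) 2 3 3 1 0 2 2 69 69 3 5 4 6 1 2 1 2 110 101 109 100 1 2 10 2 104 3 92 1 2 96 10 2 105 100 10 4 104 113 113) (@D3.rec (fun _ => Nat) 111 116 109 111 1 2 3 115 1 113 116 113 2 115 12 10 3 4 1 2 10 2 3 95 106 1 2 106 10 2 112 104 11 4 106 118 115 113 112 108) (@D3.rec (fun _ => Nat) 110 1 2 3 118 112 110 2 114 13 11 6 7 3 99 10 4 109 4 104 5 1 110 13 94 0 2 96 10 11 5 8 8 100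 103 108 0 98 9 0)
def lv_d_10 : D2 → D3 → Nat := @D2.rec (fun _ => D3 → Nat) (@D3.rec (fun _ => Nat) 100 1 2 100 100 1 113 3 101 10 4 107 4 112 5 1 94 13 99 0 2 98 10 10 5 5 5 107 108 102 0 104 6 0 106 1 2 104 101 1) (@D3.rec (fun _ => Nat) 113 96 94 68 10 10 3 96 109 1 2 103 10 63 11 4 4 4 6 99 100 7 96 63 5 105 6 107 96 94 8 9 96 0 96 103 8 8 11 106) (@D3.rec (fun _ => Nat) 1 10 0 6 106 6 101 7 99 0 101 100 98 48 10 10 3 112 101 1 2 107 71 10 11 4 4 4 6 104 5 103 112 71 5 6 103 110 100 98) (@D3.rec (fun _ => Nat) 8 8 99 0 99 107 8 9 10 1 107 6 108 112 103 0 110 89 2 8 9 8 8 68 99 1 2 2 0 2 2 3 3 4 87 3 3 4 100 104) (@D3.rec (fun _ => Nat) 97 95 100 0 1 2 0 3 0 97 5 4 109 106 97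 1 104 108 1 2 0 5 2 3 5 111 1 113 2 113 53 105 94 2 8 8 8 9 48 107) (@D3.rec (fun _ => Nat) 1 2 2 0 2 2 3 109 108 3 3 104 105 100 106 0 1 2 3 0 102 5 4 110 110 1 107 108 1 0 5 2 7 5 116 54 121 1 2 15) (@D3.rec (fun _ => Nat) 15 105 15 15 109 15 96 2 104 95 97 103 103 16 103 4 5 16 105 20 0 99 116 106 96 96 103 114 1 16 103 16 5 110 5 105 108 6 5 109) (@D3.rec (fun _ => Nat) 109 103 109 108 20 99 1 112 116 20 109 98 114 16 105 16 117 1 115 117 6 109 1 108 109 113 0 1 111 2 7 2 109 108 10 0 10 1 109 4) (@D3.rec (fun _ => Nat) 120 4 5 116 1 2 15 15 15 106 15 100 2 103 102 111 110 102 16 4 5 21 0 116 106 107 111 110 111 118 1 16 116 78 109 78 5 109 5 111) (@D3.rec (fun _ => Nat) 109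 6 5 107 110 102 111 103 19 21 1 110 106 19 118 112 115 117 98 16 109 1 109 107 6 104 102 109 0 1 2 107 7 2 107 11 0 11 1 113) (@D3.rec (fun _ => Nat) 4 118 4 5 119 79 2 3 2 3 95 77 3 4 4 87 85 109 100 18 18 0 18 19 109 19 87 2 3 2 3 99 85 3 5 6 92 89 115 100) (@D3.rec (fun _ => Nat) 78 78 0 78 80 111 80 0 1 2 0 1 2 77 4 91 4 1 76 95 101 0 1 92 103 103 0 5 0 1 2 5 5 0 5 5 0 1 2 6) (@D3.rec (fun _ => Nat) 6 0 6 1 2 0 0 1 2 6 1 2 0 0 1 2 7 1 2 2 3 3 3 5 0 4 0 6 4 99 4 4 105 4 0 5 1 2 0 5) (@D3.rec (fun _ => Nat) 1 2 7 7 1 2 7 4 13 2 3 8 7 7 1 2 6 4 13 2 3 3 82 4 2 3 0 1 2 10 3 6 4 7 96 4 2 3 0 1) (@D3.rec (fun _ => Nat) 2 10 3 3 4 4 5 6 99 0 6 0 1 103 0 7 0 1 82 87 8 8 7 95 96 0 96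 8 0 1 2 84 8 0 1 2 5 13 2 3) (@D3.rec (fun _ => Nat) 3 7 86 89 8 8 5 101 104 0 102 10 0 1 2 88 10 0 1 2 7 14 2 3 7 11 80 82 2 2 80 80 2 3 10 0 4 1 2 0) (@D3.rec (fun _ => Nat) 9 0 1 0 10 2 3 0 1 2 2 5 10 2 3 1 0 2 10 3 3 4 4 110 89 93 2 2 99 101 2 3 11 0 4 1 2 0 11 0) (@D3.rec (fun _ => Nat) 1 0 11 2 3 0 1 2 2 7 11 2 3 1 0 2 11 3 6 4 7 112 15 10 0 15 11 67 95 104 3 5 0 96 10 0 11 1 2 86) (@D3.rec (fun _ => Nat) 88 6 89 6 13 0 4 9 1 2 96 100 0 91 12 0 9 14 0 1 6 13 2 3 10 0 13 0 13 1 2 15 10 14 0 1 2 2 13 2) (@D3.rec (fun _ => Nat) 3 0 6 0 6 13 3 3 4 4 8 0 8 9 0 8 10 78 103 101 3 5 0 99 9 0 1 2 94 98 6 96 7 13 0 4 4 1 2 101) (@D3.rec (fun _ => Nat) 102 0 93 11 0 10 9 0 1 7 13 2 3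 14 0 9 0 12 1 2 8 13 10 0 1 2 2 13 2 3 0 7 0 7 13 3 6 4 7 11) (@D3.rec (fun _ => Nat) 0 8 0 2 3 3 10 3 3 4 4 4 0 4 5 0 0 1 2 0 75 10 3 3 4 4 4 0 87 6 6 10 5 0 4 6 0 5 1 2) (@D3.rec (fun _ => Nat) 5 0 0 1 2 0 10 2 3 1 2 2 67 91 2 2 90 3 3 5 87 3 8 10 11 11 5 8 10 0 8 6 0 6 6 9 0 111 9 1) (@D3.rec (fun _ => Nat) 2 9 0 0 1 2 2 0 1 2 2 6 10 0 1 0 7 11 3 4 0 4 0 1 2 1 2 0 11 2 3 7 0 1 2 2 0 1 2 2) (@D3.rec (fun _ => Nat) 10 2 2 3 3 0 0 1 2 2 89 11 2 2 3 3 5 6 0 6 10 3 0 4 1 0 1 0 2 2 0 2 1 2 3 7 10 4 5 112) (@D3.rec (fun _ => Nat) 5 107 116 0 2 3 3 10 3 3 4 4 0 4 4 5 0 1 2 0 83 10 3 3 4 4 0 5 6 97 6 10 5 0 4 6 0 5 1 2)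
def lv_d_11 : D2 → D3 → Nat := @D2.rec (fun _ => D3 → Nat) (@D3.rec (fun _ => Nat) 5 0 0 1 0 10 2 3 1 2 2 70 98 2 2 100 99 94 3 96 3 6 10 10 10 5 5 6 0 5 6 0 6 6 6 0 107 6 1 2) (@D3.rec (fun _ => Nat) 6 0 0 1 2 2 0 1 2 2 7 11 0 1 0 8 11 3 4 0 4 0 1 2 1 2 0 10 2 3 3 0 1 2 114 0 1 2 2 11) (@D3.rec (fun _ => Nat) 2 2 3 3 0 0 1 2 2 88 11 2 2 3 3 5 7 0 7 11 3 0 4 1 0 1 0 2 2 0 2 1 2 3 8 12 8 9 110 9) (@D3.rec (fun _ => Nat) 107 114 70 91 90 65 89 84 82 66 118 66 1 2 2 10 1 2 2 0 10 2 2 3 5 8 108 1 2 2 0 11 2 2 3 3 1 0 2 2) (@D3.rec (fun _ => Nat) 10 10 3 5 4 6 64 68 64 64 105 68 68 64 80 105 95 81 93 89 91 82 120 71 1 2 2 11 1 2 2 0 11 2 2 3 5 9 116 1) (@D3.rec (fun _ => Nat) 2 2 0 12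 2 2 3 3 1 0 2 2 11 11 3 5 4 6 72 65 72 72 65 103 65 72 0 8 0 1 2 2 106 0 9 0 1 2 2 116) (@D3.rec (fun _ => Nat) 94 101 11 2 94 11 2 103 1 82 82 82 82 97 2 107 2 92 97 1 108 14 2 96 107 1 107 13 2 2 86 3 114 11 12 0 4 8 2 96) (@D3.rec (fun _ => Nat) 3 110 11 11 0 4 4 2 99 80 82 3 4 98 11 1 2 0 11 2 3 1 2 105 110 11 110 11 3 4 0 1 112 11 2 3 14 12 3 4) (@D3.rec (fun _ => Nat) 4 112 11 11 0 4 4 5 5 109 2 102 91 93 3 4 104 12 1 2 0 12 2 3 1 110 2 110 12 111 12 3 4 0 1 103 12 2 3 13) (@D3.rec (fun _ => Nat) 12 3 4 4 110 12 13 65 4 8 9 9 110 1 100 0 100 11 4 0 4 4 98 106 97 5 111 5 1 111 5 114 5 1 90 11 2 3 1 98) (@D3.rec (fun _ => Nat) 76 95 83 3 4 111 4 2 89 80 78 98 97 11 97 4 4 107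 5 108 1 11 11 5 5 5 0 0 1 114 106 11 1 13 11 2 111 104 1 0) (@D3.rec (fun _ => Nat) 11 111 115 2 100 112 4 91 100 103 93 93 104 11 12 12 0 84 6 102 6 6 10 101 10 103 102 0 1 2 69 90 93 91 104 91 112 1 115 101) (@D3.rec (fun _ => Nat) 116 2 112 112 100 1 0 1 112 112 11 110 1 103 111 11 2 2 3 0 104 0 104 104 0 1 2 13 12 4 4 101 112 5 1 111 5 1 102 12) (@D3.rec (fun _ => Nat) 106 12 3 108 111 115 110 114 107 11 109 111 109 3 113 106 4 1 1 2 12 2 105 110 0 111 12 12 3 4 0 104 12 0 12 12 1 2 1 103) (@D3.rec (fun _ => Nat) 11 0 1 0 2 2 109 0 2 2 1 2 2 3 5 1 2 0 2 3 13 11 5 104 0 106 1 2 98 105 1 106 11 4 0 4 4 5 110 5) (@D3.rec (fun _ => Nat) 1 115 5 5 101 98 99 1 86 11 2 3 84 102 83 99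 3 4 110 4 2 88 94 107 86 11 101 101 4 6 103 104 1 109 11 11 5 5 5 0) (@D3.rec (fun _ => Nat) 107 110 11 1 13 11 101 1 0 11 110 112 2 105 117 4 96 108 105 96 96 101 11 11 11 0 93 6 101 6 6 6 105 101 1 2 70 94 96 99) (@D3.rec (fun _ => Nat) 103 100 114 1 114 100 119 2 119 117 103 113 1 111 113 12 110 1 112 113 118 2 2 3 105 0 103 103 1 2 13 12 4 4 102 105 5 1 105 5) (@D3.rec (fun _ => Nat) 1 106 11 112 11 3 116 110 111 115 107 12 109 109 113 1 1 2 12 2 108 0 109 12 12 3 5 106 1 106 12 13 0 13 13 1 2 2 13 14) (@D3.rec (fun _ => Nat) 0 2 3 13 13 8 109 0 108 1 2 107 105 88 7 7 1 69 4 99 118 5 112 1 112 11 11 1 0 2 11 11 106 10 10 103 12 2 2 99) (@D3.rec (fun _ => Nat) 3 96 0 1 0 2 11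 11 110 0 2 1 2 3 111 11 12 4 6 110 108 97 104 98 1 103 97 0 2 2 3 121 95 7 7 1 79 4 106 122) (@D3.rec (fun _ => Nat) 5 115 1 116 12 12 1 0 2 12 12 116 11 11 103 13 2 2 102 103 3 0 1 0 2 12 12 100 0 2 1 2 3 112 12 13 4 6 106 112) (@D3.rec (fun _ => Nat) 106 111 109 1 99 104 0 2 2 119 3 115 10 10 106 120 111 1 111 110 111 111 7 110 2 114 111 3 97 110 120 2 108 1 2 109 106 109 0 109) (@D3.rec (fun _ => Nat) 109 1 102 100 3 105 0 2 1 2 2 3 0 2 101 108 111 116 11 11 112 118 116 1 116 114 112 112 12 102 2 115 112 3 101 109 111 2 102 1) (@D3.rec (fun _ => Nat) 2 111 114 0 102 3 111 0 1 2 2 110 0 109 15 113 1 15 112 15 114 115 119 15 114 2 111 115 118 116 1 113 108 113 108 113 122 114 16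 124) (@D3.rec (fun _ => Nat) 0 1 114 110 99 98 97 114 1 2 114 117 116 0 113 3 3 116 16 124 113 111 12 113 111 112 118 114 16 114 2 117 114 107 120 119 0 1 116 111)
def lv_d_12 : D2 → D3 → Nat := @D2.rec (fun _ => D3 → Nat) (@D3.rec (fun _ => Nat) 112 112 112 117 1 110 2 112 119 0 119 3 3 117 113 113 11 118 115 118 80 114 82 2 2 3 5 4 6 4 0 4 4 0 4 5 5 5 5 5) (@D3.rec (fun _ => Nat) 5 76 78 5 5 0 5 7 7 0 7 6 120 7 6 0 6 1 2 6 8 117 8 8 0 8 1 2 9 6 84 7 6 84 6 93 0 95 8 116) (@D3.rec (fun _ => Nat) 8 89 0 92 7 118 7 23 19 66 16 107 106 108 117 93 17 117 99 117 121 16 101 17 16 99 16 18 16 106 16 109 16 83 92 94 88 101 95 84) (@D3.rec (fun _ => Nat) 84 84 84 2 2 91 88 2 86 89 116 99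 97 2 97 96 115 5 5 6 6 95 1 2 3 100 106 100 112 99 107 99 99 1 2 3 96 117 97 111) (@D3.rec (fun _ => Nat) 96 113 96 6 6 74 6 7 7 6 6 6 6 6 82 7 7 6 7 7 8 7 1 2 8 2 3 0 86 8 3 6 4 4 0 1 2 8 8 88) (@D3.rec (fun _ => Nat) 0 100 85 1 2 109 8 2 3 96 7 1 2 8 2 3 0 84 8 3 3 4 4 0 1 2 8 7 86 0 85 96 1 2 113 9 2 7 100 8) (@D3.rec (fun _ => Nat) 4 0 4 100 5 5 8 4 0 4 102 5 8 103 107 104 109 1 117 98 2 110 106 117 106 107 1 112 103 2 113 1 105 2 3 1 106 2 3 103) (@D3.rec (fun _ => Nat) 9 3 1 9 4 113 104 9 107 104 110 117 104 117 105 96 103 103 0 105 9 111 113 107 105 9 3 1 9 4 104 104 10 105 105 116 118 105 118 104) (@D3.rec (fun _ => Nat) 98 104 104 0 105 10 114 116 101 102 108 100 104 107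 104 100 104 99 100 98 101 87 93 4 0 4 4 4 0 4 6 100 5 5 87 5 99 7 7 87) (@D3.rec (fun _ => Nat) 7 5 0 5 1 2 5 5 0 5 1 2 5 6 0 6 6 98 6 6 0 6 6 101 6 76 78 6 82 6 6 111 7 6 111 6 1 113 6 6) (@D3.rec (fun _ => Nat) 91 6 8 109 8 8 109 8 1 109 9 1 69 9 3 4 113 4 7 92 0 7 113 111 113 7 1 92 10 3 4 111 4 9 94 0 9 112 111 111) (@D3.rec (fun _ => Nat) 10 7 7 8 0 8 77 7 8 13 0 7 7 7 7 7 7 7 7 8 0 9 86 8 8 14 0 7 8 8 8 8 9 1 2 2 8 1 2 2) (@D3.rec (fun _ => Nat) 86 9 2 2 3 3 6 8 0 16 92 9 2 2 3 3 4 9 3 4 0 4 95 0 95 1 2 9 10 4 0 4 8 5 0 1 2 9 9 0) (@D3.rec (fun _ => Nat) 9 8 0 8 8 0 1 117 2 3 9 0 14 0 12 1 2 14 8 8 106 8 0 1 2 111 2 8 8 1 2 2 8 1 2 2 100 9 2 2) (@D3.rec (fun _ => Nat) 3 3 6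 8 0 8 9 2 2 3 3 4 9 3 4 0 4 89 0 1 2 9 9 4 0 4 4 5 0 1 2 5 118 0 5 9 0 9 8 110) (@D3.rec (fun _ => Nat) 114 15 0 9 0 13 1 2 8 9 9 104 9 0 1 2 2 10 8 81 81 9 2 2 3 87 9 3 5 4 6 9 0 9 12 5 94 5 1 2) (@D3.rec (fun _ => Nat) 5 5 5 0 5 1 2 6 94 9 2 3 3 6 6 6 6 7 92 1 2 9 7 107 0 1 2 2 0 9 2 2 3 5 7 111 7 7 100 98) (@D3.rec (fun _ => Nat) 9 2 2 3 87 9 3 5 4 6 9 0 9 9 5 96 5 1 2 5 7 5 0 5 1 2 6 94 10 2 3 3 6 7 8 6 6 90 1 2) (@D3.rec (fun _ => Nat) 10 8 119 0 1 2 2 0 10 2 2 3 5 8 114 8 8 2 3 3 4 94 7 88 1 2 2 107 7 7 7 1 2 0 117 2 2 2 3 3) (@D3.rec (fun _ => Nat) 4 96 8 90 1 2 2 119 8 8 8 1 0 114 2 95 109 10 106 111 110 115 102 98 108 108 109 118 117 105 11 111 118 110 112 111 105 107 103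 101) (@D3.rec (fun _ => Nat) 111 118 115 10 10 95 102 100 97 107 10 3 3 97 99 97 99 101 10 4 101 4 99 101 98 102 101 10 109 10 106 11 8 99 99 1 106 2 113 100) (@D3.rec (fun _ => Nat) 102 100 104 104 100 100 100 105 113 1 2 105 111 112 111 107 111 109 102 106 113 1 111 2 10 10 109 104 102 103 10 3 3 103 107 103 102 103 10 4) (@D3.rec (fun _ => Nat) 110 4 105 109 107 103 10 114 10 108 10 5 112 106 113 111 111 109 111 109 109 103 1 103 2 109 113 83 99 3 4 107 5 99 118 99 109 2 101 107) (@D3.rec (fun _ => Nat) 3 1 13 10 0 6 104 10 109 102 101 102 103 103 111 106 98 112 99 98 1 109 10 104 118 105 114 1 2 112 10 100 108 102 102 8 108 114 108 92) (@D3.rec (fun _ => Nat) 106 3 4 4 107 113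 105 117 105 2 100 102 3 1 10 11 0 6 106 11 114 107 105 111 107 107 101 115 103 112 107 100 1 106 11 103 116 112 120 1) (@D3.rec (fun _ => Nat) 115 2 11 109 104 110 107 9 117 119 117 101 93 91 93 93 102 95 98 3 100 101 114 1 113 112 105 2 8 0 111 1 117 119 118 116 119 114 107 118)
def lv_d_13 : D2 → D3 → Nat := @D2.rec (fun _ => D3 → Nat) (@D3.rec (fun _ => Nat) 116 100 97 98 102 106 110 1 117 121 114 2 9 0 121 1 117 118 117 117 117 118 117 117 116 90 87 104 104 90 108 92 1 102 99 113 110 17 107 106) (@D3.rec (fun _ => Nat) 3 102 119 123 116 4 1 20 20 0 110 111 20 20 1 2 96 91 112 118 93 1 110 106 104 104 3 110 121 1 21 0 97 21 19 1 2 99 0 79) (@D3.rec (fun _ => Nat) 103 0 81 3 4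 106 108 117 99 1 2 113 107 1 2 0 0 1 2 1 2 5 5 0 5 6 6 0 6 87 118 6 88 117 81 1 2 88 90 116) (@D3.rec (fun _ => Nat) 7 85 120 96 1 2 91 6 6 6 6 83 7 0 84 109 87 7 88 0 83 110 84 83 83 4 5 83 83 0 0 84 87 110 92 87 110 6 116 7) (@D3.rec (fun _ => Nat) 6 117 6 1 117 6 8 116 8 8 113 8 1 117 9 117 2 116 112 2 117 83 84 85 87 91 91 94 95 114 109 111 116 118 94 121 113 114 95 82) (@D3.rec (fun _ => Nat) 82 1 2 85 9 83 0 83 9 3 4 116 4 86 0 1 2 86 0 84 0 1 2 2 3 82 1 2 81 9 90 0 85 10 3 4 113 4 82 0) (@D3.rec (fun _ => Nat) 1 2 84 0 85 0 1 2 2 7 84 7 0 5 1 0 7 7 5 7 0 5 1 0 8 8 6 88 85 86 0 5 9 3 4 0 4 85 1 2) (@D3.rec (fun _ => Nat) 1 2 88 83 10 8 9 0 9 0 91 0 1 87 9 2 3 0 1 2 93 1 2 2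 93 95 5 9 2 3 89 0 89 9 3 4 0 84 88 88) (@D3.rec (fun _ => Nat) 0 5 9 3 4 0 4 1 2 1 2 87 85 9 4 115 0 5 0 89 0 1 87 10 2 3 0 1 2 95 1 2 2 99 95 6 10 2 3 85) (@D3.rec (fun _ => Nat) 0 83 10 6 7 0 87 98 1 2 2 0 9 2 2 3 7 108 7 7 98 1 110 2 0 10 2 2 113 8 114 8 8 7 7 7 1 2 0 118) (@D3.rec (fun _ => Nat) 2 2 8 8 8 1 0 116 2 7 5 85 9 7 86 10 4 113 100 1 2 104 113 116 1 111 108 1 106 5 119 2 118 1 115 105 117 3 4 11) (@D3.rec (fun _ => Nat) 4 120 115 1 103 114 114 115 1 109 7 116 2 107 1 105 116 3 4 118 118 91 121 117 115 85 117 105 112 110 1 114 112 116 1 0 1 118 2 121) (@D3.rec (fun _ => Nat) 2 108 0 108 119 3 104 112 110 1 113 116 114 1 0 1 2 115 119 2 117 0 113 116 3 101 105 1 100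 101 101 109 10 2 0 2 3 11 105 98) (@D3.rec (fun _ => Nat) 101 98 114 110 112 116 1 115 118 113 10 1 0 111 11 110 1 105 10 2 0 1 113 113 105 95 2 111 111 0 10 111 1 0 113 0 1 10 116 115) (@D3.rec (fun _ => Nat) 115 109 107 107 1 103 110 110 108 10 2 0 2 3 10 110 108 106 114 112 110 111 112 110 11 1 0 115 11 1 114 11 2 0 1 114 114 109 97 112) (@D3.rec (fun _ => Nat) 0 11 112 1 0 114 0 1 12 116 116 111 117 1 2 113 113 116 119 115 118 121 108 119 116 114 118 116 116 116 116 116 116 103 99 1 2 93 99 117) (@D3.rec (fun _ => Nat) 105 1 104 115 106 109 2 1 114 112 115 108 3 114 106 100 1 2 99 100 107 102 1 107 106 102 116 2 1 105 103 116 119 3 112 1 2 1 2 1) (@D3.rec (fun _ => Nat) 2 5 0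 1 2 6 0 1 1 0 83 0 85 0 86 1 2 0 83 1 2 1 2 13 2 3 8 1 2 13 2 3 3 0 1 0 1 94 86 0) (@D3.rec (fun _ => Nat) 1 103 85 0 1 1 2 2 8 9 87 7 8 0 1 2 0 0 1 2 5 13 2 3 3 1 2 2 8 10 99 5 10 0 1 2 0 0 1 2) (@D3.rec (fun _ => Nat) 7 14 2 3 7 1 1 2 0 10 2 2 3 3 4 1 2 101 10 2 2 3 95 87 93 1 91 2 2 1 2 3 10 4 112 4 5 118 5 120) (@D3.rec (fun _ => Nat) 5 0 118 1 0 2 3 0 1 115 118 113 5 2 114 1 2 10 3 4 1 1 2 0 10 2 2 3 3 4 1 2 107 10 2 2 3 102 101 101) (@D3.rec (fun _ => Nat) 1 102 2 2 1 2 3 11 4 119 4 5 114 5 115 5 0 110 1 0 2 3 113 1 118 112 117 7 2 116 1 2 11 6 7 88 92 0 88 1) (@D3.rec (fun _ => Nat) 86 6 0 6 6 1 2 6 13 0 4 9 10 10 110 110 17 88 94 0 86 1 89 6 0 6 6 1 2 7 13 0 4 4 5 5 112 110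 8 3) (@D3.rec (fun _ => Nat) 4 6 0 6 6 1 2 6 10 4 113 4 5 5 0 1 2 3 103 2 3 3 4 0 93 10 0 11 5 0 1 2 8 8 122 8 6 6 9 124) (@D3.rec (fun _ => Nat) 9 9 110 9 109 11 117 110 3 4 6 0 6 6 1 2 6 10 4 107 4 5 5 0 1 2 3 104 2 3 3 4 0 102 10 0 10 5 0 1) (@D3.rec (fun _ => Nat) 2 5 5 113 5 6 6 6 112 7 6 111 6 106 6 114 112 2 3 90 1 0 93 2 10 10 3 96 4 94 2 1 2 95 3 3 10 11 4 6)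
def lv_d_14 : D2 → D3 → Nat := @D2.rec (fun _ => D3 → Nat) (@D3.rec (fun _ => Nat) 5 65 7 7 65 65 65 10 0 1 2 10 89 6 6 0 1 59 58 5 2 102 3 6 7 7 107 7 2 3 96 1 0 2 109 10 10 3 4 106) (@D3.rec (fun _ => Nat) 107 2 1 2 3 3 108 10 11 4 6 73 5 5 7 73 73 73 10 0 1 2 105 85 6 6 59 59 5 2 105 3 9 7 10 118 10 2 68 91) (@D3.rec (fun _ => Nat) 66 71 70 3 3 4 4 92 2 2 1 95 2 83 3 3 4 68 94 4 6 5 5 7 0 7 2 71 103 71 76 78 3 3 4 4 97 2 2 1) (@D3.rec (fun _ => Nat) 2 98 3 3 109 4 97 71 4 6 5 0 5 7 7 11 2 11 2 110 110 2 107 11 3 98 2 96 11 11 113 117 111 3 117 114 117 120 4 113) (@D3.rec (fun _ => Nat) 2 110 11 3 112 2 106 11 12 118 113 110 3 116 118 116 116 8 112 107 11 119 11 112 5 96 1 2 11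 113 12 10 1 115 1 106 2 113 112 111) (@D3.rec (fun _ => Nat) 106 11 114 114 108 5 101 1 2 11 120 11 6 1 113 1 109 2 111 104 111 94 11 109 2 11 69 65 12 119 7 109 106 69 111 6 104 102 112 100) (@D3.rec (fun _ => Nat) 96 109 97 1 97 0 11 106 0 11 1 7 0 1 111 98 11 114 2 66 66 11 12 5 113 66 113 6 101 106 114 106 100 107 100 1 99 0 11 0) (@D3.rec (fun _ => Nat) 0 1 114 2 1 94 3 3 108 106 104 104 0 1 99 106 2 110 1 0 1 104 5 104 106 2 105 1 0 101 106 3 108 115 2 113 55 2 1 101) (@D3.rec (fun _ => Nat) 3 106 105 103 0 1 103 106 2 116 0 1 105 5 106 112 1 0 103 113 6 2 101 16 16 96 117 5 119 103 114 1 117 118 109 106 103 103 107 6) (@D3.rec (fun _ => Nat) 105 110 118 100 115 17 111 117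 7 120 119 1 122 2 116 2 113 114 119 11 118 1 115 111 120 111 5 6 116 2 105 16 16 100 117 5 112 118 1 116) (@D3.rec (fun _ => Nat) 108 113 120 115 116 107 113 6 109 116 120 115 117 102 114 107 7 111 113 1 2 120 114 2 105 109 113 12 116 1 111 116 120 103 5 6 117 89 3 3) (@D3.rec (fun _ => Nat) 103 0 77 4 115 103 0 110 115 1 108 94 3 3 0 85 6 111 0 107 113 1 119 1 11 2 3 1 11 2 3 1 1 0 0 1 99 14 2 3) (@D3.rec (fun _ => Nat) 0 0 1 2 6 0 0 1 110 14 2 3 0 0 1 2 7 1 1 108 15 2 1 1 116 13 2 84 4 6 1 5 0 1 7 0 5 5 1 101) (@D3.rec (fun _ => Nat) 14 2 3 1 103 14 2 3 14 2 3 5 14 3 7 4 4 113 14 2 3 5 14 3 3 4 4 107 5 3 0 1 2 3 8 11 12 0 4 8) (@D3.rec (fun _ => Nat) 6 3 0 1 2 3 6 11 11 0 4 4 6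 7 1 7 0 0 1 102 14 1 8 0 0 1 104 15 82 89 86 9 102 98 1 115 9 0 1 6) (@D3.rec (fun _ => Nat) 14 2 3 86 84 86 1 2 2 14 2 3 6 116 6 14 3 3 4 4 4 108 88 86 86 7 102 104 1 104 11 0 1 8 15 2 3 88 89 90) (@D3.rec (fun _ => Nat) 1 2 2 15 2 3 8 110 8 15 3 6 4 4 7 112 82 3 0 101 11 1 2 0 11 2 3 1 1 2 2 6 11 0 1 0 7 11 3 4) (@D3.rec (fun _ => Nat) 95 1 2 84 11 2 2 3 6 110 6 12 3 4 4 113 2 1 2 3 7 11 11 0 4 4 103 5 112 99 3 0 106 12 1 2 0 12 2 3) (@D3.rec (fun _ => Nat) 1 1 2 2 8 12 0 1 0 9 12 3 4 95 1 2 88 12 2 2 3 8 110 8 12 3 4 4 113 2 1 2 3 9 12 13 65 4 8 123) (@D3.rec (fun _ => Nat) 9 112 0 0 1 2 0 97 0 5 0 0 98 1 2 1 2 8 14 2 3 88 88 85 90 93 91 0 93 0 14 1 104 0 0 14 2 3 0 104) (@D3.rec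 (fun _ => Nat) 91 1 2 0 0 1 2 2 0 1 2 2 14 7 0 7 15 3 4 0 0 1 2 0 1 2 11 113 2 102 106 0 0 1 2 2 0 14 2 2) (@D3.rec (fun _ => Nat) 3 3 5 14 3 4 0 4 1 7 0 7 7 1 2 7 7 14 14 103 4 4 101 5 0 110 1 110 0 1 2 0 0 101 5 0 0 102 1 2) (@D3.rec (fun _ => Nat) 1 7 14 2 3 94 96 92 103 94 96 0 100 0 14 1 103 0 0 14 2 3 0 101 100 1 2 0 0 1 2 2 0 1 2 2 14 113 115 8) (@D3.rec (fun _ => Nat) 14 3 4 0 0 1 2 0 1 2 7 110 2 103 105 0 0 1 2 2 0 14 2 2 3 3 5 14 3 4 0 4 1 8 0 8 1 2 8 8) (@D3.rec (fun _ => Nat) 14 15 117 4 8 109 9 0 108 1 110 1 3 3 4 0 4 11 4 4 96 4 5 5 0 5 95 0 5 1 97 5 0 6 1 1 0 11 2 3) (@D3.rec (fun _ => Nat) 1 103 0 76 11 4 4 0 0 5 0 1 11 11 6 0 5 1 2 5 0 0 1 2 0 11 2 1 1 8 11 2 3 0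 1 0 2 11 3 4)
def lv_d_15 : D2 → D3 → Nat := @D2.rec (fun _ => D3 → Nat) (@D3.rec (fun _ => Nat) 4 2 2 66 70 100 3 3 5 94 93 106 11 12 12 102 6 120 6 6 10 0 0 10 1 2 10 0 1 7 118 1 119 0 2 114 112 11 1 0) (@D3.rec (fun _ => Nat) 1 2 2 0 11 2 2 3 1 2 119 11 2 2 3 7 114 0 1 0 105 2 0 1 2 8 12 4 0 4 5 108 5 1 111 5 1 2 110 14) (@D3.rec (fun _ => Nat) 12 2 3 1 2 12 3 6 122 7 1 117 2 2 2 3 3 1 2 11 2 2 3 3 3 113 3 3 94 0 4 1 1 2 12 2 2 3 89 0) (@D3.rec (fun _ => Nat) 91 89 12 12 3 3 5 4 7 0 7 7 1 2 7 116 4 1 6 114 11 0 1 102 2 2 62 0 2 2 1 107 2 104 3 5 1 2 3 9) (@D3.rec (fun _ => Nat) 2 3 114 104 8 11 5 0 5 114 6 119 6 106 114 1 3 3 4 11 4 94 4 4 5 98 0 5 1 95 5 5 6 0 6 1 0 11 2 3) (@D3.rec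 (fun _ => Nat) 1 107 0 83 11 4 0 5 5 0 1 0 11 11 6 0 5 1 2 5 0 0 1 2 0 11 2 1 1 7 11 0 1 0 2 11 3 4 4 2) (@D3.rec (fun _ => Nat) 2 78 78 3 98 98 11 11 11 95 6 116 6 6 7 0 0 6 1 100 6 0 1 7 117 1 116 0 2 116 111 7 1 0 1 2 2 0 12 2) (@D3.rec (fun _ => Nat) 2 3 1 2 2 2 3 0 1 0 2 104 0 1 2 9 12 4 0 4 5 105 5 1 107 5 1 2 116 15 11 2 3 1 2 11 3 3 118 4) (@D3.rec (fun _ => Nat) 1 2 115 2 3 114 1 2 12 2 2 3 3 111 3 3 95 1 1 2 12 2 2 3 91 0 91 93 12 12 3 3 5 4 8 0 8 1 2 8) (@D3.rec (fun _ => Nat) 114 4 1 5 108 12 0 1 105 2 2 70 0 2 2 1 2 105 3 107 5 1 2 3 12 2 3 118 118 9 13 8 0 8 119 9 118 9 105 113) (@D3.rec (fun _ => Nat) 93 68 117 68 113 112 92 11 2 2 115 3 11 2 2 0 1 0 95 2 11 11 3 5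 9 108 9 9 91 12 2 2 3 3 4 0 1 0 2 2) (@D3.rec (fun _ => Nat) 11 11 3 3 0 3 0 2 2 1 105 2 104 3 3 4 11 12 4 6 114 5 7 0 7 64 70 70 99 64 101 70 107 70 65 115 97 81 120 81) (@D3.rec (fun _ => Nat) 113 116 96 12 2 2 118 3 12 2 2 0 1 0 2 104 12 12 3 5 10 120 10 10 93 13 2 2 3 3 4 0 1 0 2 2 12 12 3 3) (@D3.rec (fun _ => Nat) 0 3 0 2 2 1 2 118 3 3 105 4 12 13 4 6 5 0 5 115 7 72 67 67 72 101 67 101 72 103 106 67 112 1 9 9 9 95 1 2) (@D3.rec (fun _ => Nat) 2 87 110 2 2 3 5 111 1 10 10 10 96 1 2 2 89 116 2 2 3 5 102 92 104 88 97 102 14 108 13 12 107 12 87 104 101 1 2 98) (@D3.rec (fun _ => Nat) 105 102 1 2 4 66 2 1 104 106 12 3 12 2 12 4 113 1 117 12 3 13 4 118 4 5 12 12 1 2 5 5 118 110 118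 4 2 1 108 107) (@D3.rec (fun _ => Nat) 13 3 13 2 13 4 114 1 110 13 3 13 4 117 4 5 13 14 67 8 8 117 101 110 98 111 1 12 119 12 5 111 5 1 111 5 112 5 12 111) (@D3.rec (fun _ => Nat) 12 92 15 3 113 14 4 4 116 116 82 12 5 106 84 110 102 117 1 1 113 107 12 12 112 0 106 1 114 100 94 107 12 105 12 88 13 103 104 1) (@D3.rec (fun _ => Nat) 102 1 102 2 95 95 1 12 112 111 112 12 0 112 12 12 3 1 0 106 1 2 2 14 105 1 109 2 3 14 13 13 5 5 105 104 108 115 112 4) (@D3.rec (fun _ => Nat) 113 12 2 13 12 0 110 1 109 13 14 1 106 13 0 13 13 1 2 2 13 14 9 2 112 1 0 112 112 7 0 2 2 1 2 2 0 108 1 2) (@D3.rec (fun _ => Nat) 2 3 5 2 2 3 4 113 12 2 1 3 4 12 107 107 1 108 107 2 3 115 12 117 12 5 111 5 1 110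 5 113 5 12 111 12 86 12 3 117) (@D3.rec (fun _ => Nat) 4 4 115 115 12 103 105 96 93 104 110 1 12 110 0 103 1 114 102 98 105 12 100 96 12 102 1 2 98 98 13 110 113 115 0 115 113 115 3 0) (@D3.rec (fun _ => Nat) 105 1 2 2 105 14 118 2 3 14 13 13 5 5 105 108 118 115 13 2 13 1 109 13 14 114 0 114 112 1 2 2 2 2 3 4 111 1 3 4) (@D3.rec (fun _ => Nat) 14 109 107 1 108 109 2 3 92 5 0 2 1 2 113 106 104 101 13 3 108 1 0 113 0 2 1 2 1 2 3 0 2 3 3 12 13 101 102 117) (@D3.rec (fun _ => Nat) 1 118 3 99 5 0 2 1 2 118 122 105 102 14 3 108 1 0 117 0 2 1 2 1 2 3 0 2 3 3 13 14 112 110 120 1 112 3 117 112) (@D3.rec (fun _ => Nat) 111 0 110 2 0 1 2 2 109 111 110 1 2 3 110 2 2 3 1 2 110 119 115 112 0 114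 2 0 1 111 1 121 2 2 3 1 15 109 111 119)
def lv_d_16 : D2 → D3 → Nat := @D2.rec (fun _ => D3 → Nat) (@D3.rec (fun _ => Nat) 15 112 118 113 107 121 120 1 2 114 0 117 116 2 112 116 0 1 113 115 13 115 117 121 118 1 2 116 0 118 121 2 112 114 0 1 116 122 12 120) (@D3.rec (fun _ => Nat) 4 6 5 0 5 1 2 5 5 0 5 1 2 5 6 6 6 0 7 6 111 6 1 102 6 8 0 8 8 111 8 1 100 9 7 116 0 117 1 2) (@D3.rec (fun _ => Nat) 9 117 0 121 1 2 0 7 88 7 0 7 86 7 0 1 9 0 1 8 124 118 116 117 104 105 85 89 118 99 106 117 3 4 113 4 110 113 110 111) (@D3.rec (fun _ => Nat) 3 4 125 4 125 116 107 113 7 0 77 8 7 7 0 84 8 7 2 3 9 3 1 9 4 100 4 5 1 111 9 2 3 95 1 2 2 2 111 111) (@D3.rec (fun _ => Nat) 9 3 4 113 2 3 9 3 1 9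 4 99 4 5 1 109 10 2 3 94 1 2 2 2 115 109 10 6 7 114 0 97 5 1 99 5 104 0 97 5) (@D3.rec (fun _ => Nat) 1 99 7 103 117 111 118 107 3 4 3 4 10 10 102 103 114 117 106 1 2 10 10 102 105 109 120 104 1 2 103 107 91 1 2 5 5 99 5 97) (@D3.rec (fun _ => Nat) 1 2 7 7 95 7 6 6 6 1 2 6 98 16 2 3 91 6 6 6 1 2 6 106 16 2 3 97 1 2 1 2 84 84 68 7 109 0 7 113) (@D3.rec (fun _ => Nat) 111 122 111 7 97 91 91 9 109 0 9 111 109 107 109 10 10 4 111 4 115 5 115 5 0 0 0 1 2 119 113 11 4 122 4 119 5 119 5 0) (@D3.rec (fun _ => Nat) 0 0 1 2 118 111 8 8 0 15 0 1 2 8 0 8 8 9 103 13 0 13 1 2 15 8 8 8 97 8 8 8 8 0 8 0 1 2 9 0) (@D3.rec (fun _ => Nat) 9 8 14 94 9 0 12 1 2 8 9 9 9 95 10 8 10 2 2 2 2 88 10 3 3 6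 0 4 7 1 0 10 3 3 4 4 4 0 4 5) (@D3.rec (fun _ => Nat) 10 4 121 4 5 99 1 2 121 1 2 0 10 2 3 10 115 105 11 5 96 1 97 8 8 114 8 6 113 1 94 109 2 3 9 0 9 116 0 9) (@D3.rec (fun _ => Nat) 1 2 11 0 0 1 2 2 0 1 2 3 4 0 105 1 0 1 100 2 94 106 0 1 90 112 2 10 2 2 2 2 100 10 3 3 6 0 4 4) (@D3.rec (fun _ => Nat) 1 10 3 3 4 120 0 118 4 116 10 4 120 4 5 112 1 2 122 1 0 10 2 3 10 115 109 10 5 98 1 96 5 5 6 116 1 97 2 113) (@D3.rec (fun _ => Nat) 115 0 7 115 0 115 1 6 0 0 1 2 2 108 108 113 0 1 1 97 2 111 0 1 93 2 81 3 89 4 6 5 5 96 1 117 12 10 115 98) (@D3.rec (fun _ => Nat) 94 6 2 95 96 6 0 6 6 98 6 1 2 7 10 2 3 7 0 7 94 92 105 3 3 91 4 118 7 7 122 91 10 2 3 118 8 8 1 2) (@D3.rec (fun _ => Nat)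 2 99 10 2 2 3 3 1 0 2 2 3 5 102 8 111 8 8 109 113 8 9 100 3 89 4 6 7 7 96 1 114 10 11 113 98 94 6 2 97) (@D3.rec (fun _ => Nat) 97 6 0 7 9 98 6 1 2 6 11 2 3 7 0 7 101 94 107 3 3 92 4 118 10 7 116 92 11 2 3 117 9 9 1 2 2 100 11 2) (@D3.rec (fun _ => Nat) 2 3 3 1 0 2 2 3 5 107 9 119 9 9 115 117 9 10 3 0 4 110 8 8 90 90 90 107 2 2 90 8 8 8 8 9 94 120 2 3) (@D3.rec (fun _ => Nat) 1 0 2 115 119 119 3 0 4 109 9 9 89 89 89 117 2 2 95 9 9 9 9 10 95 116 1 0 116 117 106 112 108 102 111 111 103 103 11 12) (@D3.rec (fun _ => Nat) 97 101 103 104 12 106 102 112 103 100 2 114 109 111 108 110 11 11 107 105 110 109 115 111 111 113 2 107 112 109 5 116 104 101 114 83 96 13 1 106) (@D3.rec (fun _ =>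 Nat) 111 106 112 92 118 2 109 104 106 105 112 110 121 110 114 4 104 114 97 118 106 98 12 1 109 114 110 115 94 117 2 93 109 108 112 107 120 121 117 119) (@D3.rec (fun _ => Nat) 111 117 110 107 1 117 114 116 119 116 115 122 117 1 117 115 106 116 111 118 1 2 108 114 117 1 2 112 118 101 1 2 121 104 1 2 113 2 113 2) (@D3.rec (fun _ => Nat) 1 1 81 2 88 2 6 112 1 97 7 113 1 100 111 117 2 3 118 122 2 3 7 7 0 1 2 116 89 0 1 2 115 86 112 118 1 1 107 107) (@D3.rec (fun _ => Nat) 86 82 82 2 83 99 92 83 1 2 83 10 4 112 4 123 1 2 111 0 0 1 2 121 1 121 2 120 3 4 87 2 83 108 101 92 1 2 87 11) (@D3.rec (fun _ => Nat) 4 117 4 114 1 2 107 117 0 1 2 120 1 116 2 121 6 7 1 6 1 97 1 7 1 99 90 90 1 2 87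 4 116 4 95 5 1 118 10 2) (@D3.rec (fun _ => Nat) 8 2 3 3 90 90 87 11 8 116 8 0 120 1 2 9 116 1 2 113 1 113 97 6 10 87 87 11 3 0 1 93 2 93 10 2 2 97 97 0)
def lv_d_17 : D2 → D3 → Nat := @D2.rec (fun _ => D3 → Nat) (@D3.rec (fun _ => Nat) 87 10 3 91 105 89 89 1 2 90 88 10 4 5 116 115 1 115 90 90 1 2 87 4 119 4 84 5 1 120 10 2 8 2 3 3 89 89 87 10) (@D3.rec (fun _ => Nat) 5 0 120 1 6 114 1 2 112 1 117 119 7 11 90 90 11 3 1 94 2 93 11 2 2 97 95 0 87 11 3 87 110 87 87 1 2 85 87 12) (@D3.rec (fun _ => Nat) 8 9 108 112 1 117 100 64 114 2 2 3 1 0 2 2 111 3 111 112 8 8 112 112 8 9 98 67 2 3 1 0 2 2 115 116 9 9 115 118) (@D3.rec (fun _ => Nat) 9 10 97 8 8 8 9 0 121 2 3 1 106 2 2 118 118 97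 9 9 9 10 0 115 1 118 2 115 118 119 11 116 117 119 118 115 117 106 4 117) (@D3.rec (fun _ => Nat) 12 115 116 118 107 118 108 105 4 114 118 114 121 116 115 114 118 1 119 120 2 120 91 1 2 118 119 114 109 1 118 115 2 123 87 1 2 118 8 112) (@D3.rec (fun _ => Nat) 1 2 3 101 111 0 0 1 2 110 95 11 1 97 1 0 0 1 2 1 112 116 8 112 1 2 3 112 0 0 1 2 100 12 1 97 1 0 0 1) (@D3.rec (fun _ => Nat) 2 1 109 112 2 115 116 118 117 112 118 118 2 3 110 113 106 112 114 116 113 114 2 3 117 119 107 104 106 105 117 114 11 2 11 2 14 2 96 98) (@D3.rec (fun _ => Nat) 1 14 2 105 109 1 1 84 116 1 86 117 1 2 100 14 2 110 1 2 109 14 2 114 14 2 14 3 7 4 91 90 14 2 14 3 3 4 97 101) (@D3.rec (fun _ => Nat) 1 112 2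 103 1 2 115 108 87 0 0 1 84 14 86 0 0 1 83 15 7 2 2 3 3 112 123 121 1 6 14 2 92 125 1 0 1 116 121 14) (@D3.rec (fun _ => Nat) 2 3 6 14 3 3 99 97 101 7 2 2 3 117 3 107 111 1 8 15 2 101 110 1 0 1 110 107 15 2 3 8 15 3 6 94 93 96 7 2) (@D3.rec (fun _ => Nat) 66 104 1 2 11 3 3 4 2 97 104 11 3 95 91 2 92 96 99 3 2 3 96 110 4 11 111 5 118 5 118 5 6 119 1 113 6 1 7 3) (@D3.rec (fun _ => Nat) 1 121 117 122 119 119 6 121 2 7 4 113 7 2 94 110 1 2 11 3 3 4 2 104 109 11 3 104 98 2 104 103 94 3 2 3 98 120 4 12) (@D3.rec (fun _ => Nat) 118 5 115 5 114 5 6 115 1 121 8 1 9 3 112 114 118 117 8 118 2 9 8 116 0 1 14 88 7 1 101 7 7 2 3 7 117 7 116 14) (@D3.rec (fun _ => Nat) 1 106 9 9 0 110 114 110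 108 0 1 14 88 7 1 105 7 7 2 3 7 111 7 115 14 1 105 5 5 0 114 114 111 110 4 7 1 2 7 7) (@D3.rec (fun _ => Nat) 100 2 3 7 111 7 11 11 5 116 5 113 1 2 3 4 93 97 3 3 4 0 4 93 101 93 1 101 93 11 0 1 12 6 0 6 103 1 59 5) (@D3.rec (fun _ => Nat) 2 105 10 117 10 10 10 113 10 115 108 114 11 4 7 1 2 8 106 7 2 3 8 111 8 11 5 121 5 1 2 3 4 100 107 3 3 4 0 4) (@D3.rec (fun _ => Nat) 92 100 102 1 104 103 11 102 1 11 6 0 6 100 1 59 5 2 104 6 111 7 6 6 108 6 107 105 111 7 3 92 93 2 1 99 3 11 4 0) (@D3.rec (fun _ => Nat) 5 94 3 3 2 3 98 93 4 95 4 11 12 5 117 7 118 7 8 71 67 116 67 105 12 102 1 106 5 2 102 106 11 89 89 89 7 0 1 104) (@D3.rec (fun _ => Nat) 2 102 59 106 6 3 103 7 0 7 114 122 3 98 108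 2 1 106 3 11 4 0 5 109 3 3 2 3 107 4 107 4 110 11 12 5 111 5 7 118) (@D3.rec (fun _ => Nat) 6 68 75 117 68 115 11 106 1 109 5 2 106 107 107 85 85 85 7 60 60 106 6 3 103 9 0 9 120 117 97 92 71 66 4 120 4 5 92 3) (@D3.rec (fun _ => Nat) 3 4 93 2 93 3 92 101 101 4 5 94 5 5 7 0 7 1 94 103 79 4 119 4 91 5 99 3 3 4 97 2 3 96 96 101 4 4 97 97) (@D3.rec (fun _ => Nat) 5 0 5 7 7 1 17 16 12 113 12 121 117 12 112 2 121 115 108 2 13 109 109 65 1 88 107 1 1 12 114 73 1 111 1 1 0 106 1 106) (@D3.rec (fun _ => Nat) 0 1 0 0 0 0 1 2 104 0 0 106 1 106 0 1 0 0 0 1 2 110 103 119 119 105 112 117 116 2 113 12 6 108 111 117 113 110 2 113) (@D3.rec (fun _ => Nat) 13 6 106 117 1 116 1 9 106 1 1 9 97 3 105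 3 1 1 110 97 7 15 3 4 0 4 1 106 1 2 109 1 1 109 111 5 16 3 4 0) (@D3.rec (fun _ => Nat) 4 1 110 1 2 117 108 13 119 0 9 13 115 12 117 0 8 12 5 0 7 0 108 1 110 1 101 98 110 3 97 109 99 119 3 104 15 3 114 4) (@D3.rec (fun _ => Nat) 6 115 4 113 4 5 116 15 3 117 4 7 119 4 115 4 5 109 6 0 1 3 4 0 1 6 0 1 3 4 0 1 7 0 8 0 96 106 104 1)
def lv_d_18 : D2 → D3 → Nat := @D2.rec (fun _ => D3 → Nat) (@D3.rec (fun _ => Nat) 91 1 105 2 15 100 0 103 105 113 1 94 1 2 107 16 98 0 84 89 89 84 0 98 121 108 1 88 118 15 7 112 7 15 3 4 97 88 86 86) (@D3.rec (fun _ => Nat) 84 88 126 2 2 97 3 4 116 3 100 95 114 7 7 110 7 7 118 15 4 110 4 4 5 5 5 106 5 88 88 86 86 0 95 109 113 1 117 103) (@D3.rec (fun _ =>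 Nat) 16 9 123 9 16 3 4 98 90 90 90 90 90 111 2 2 3 106 4 121 3 102 97 114 9 9 112 9 9 119 17 4 106 4 8 5 9 9 117 9) (@D3.rec (fun _ => Nat) 104 1 66 103 2 110 1 110 115 12 3 0 12 2 2 7 108 1 109 1 108 8 12 4 0 2 86 86 86 12 3 7 7 110 7 13 4 104 4 5) (@D3.rec (fun _ => Nat) 111 3 2 3 110 4 0 4 8 0 12 12 1 5 6 120 104 1 108 2 109 1 116 105 13 3 0 13 2 2 9 110 1 110 1 109 10 13 4 0) (@D3.rec (fun _ => Nat) 2 90 90 90 13 3 9 9 110 9 13 4 122 4 5 109 3 2 3 108 4 67 4 10 0 13 14 8 9 113 1 0 1 9 91 2 101 1 97 98) (@D3.rec (fun _ => Nat) 1 0 1 0 1 2 0 15 2 3 91 2 9 115 10 88 3 4 105 0 0 105 1 104 1 106 111 1 117 1 0 106 15 3 0 1 104 119 112 2) (@D3.rec (fun _ => Nat) 1 0 1 2 2 9 15 2 2 104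 1 2 106 15 2 2 119 119 1 2 8 16 4 106 5 0 1 109 1 2 3 1 98 2 106 13 110 102 1 1) (@D3.rec (fun _ => Nat) 102 15 2 2 1 0 106 106 15 15 3 3 5 0 4 6 15 4 102 4 0 5 1 2 10 15 8 0 8 1 2 2 8 13 2 3 3 107 115 8) (@D3.rec (fun _ => Nat) 8 111 15 15 5 0 6 0 1 122 110 0 1 8 88 2 105 1 1 100 100 0 1 0 1 2 0 15 2 111 88 8 114 10 88 3 111 109 0 0) (@D3.rec (fun _ => Nat) 106 1 102 1 107 107 1 114 1 0 103 15 3 0 1 101 117 112 2 1 0 1 2 2 10 15 2 2 108 1 2 115 15 2 2 115 120 9 15 4) (@D3.rec (fun _ => Nat) 115 5 0 1 108 1 2 3 1 93 2 118 8 109 101 1 1 106 15 2 2 1 0 104 108 15 15 3 3 5 4 0 6 15 4 107 4 0 5 1) (@D3.rec (fun _ => Nat) 2 10 15 9 0 1 122 13 2 3 3 117 109 9 9 119 15 16 8 0 9 0 1 119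 108 4 95 4 96 1 12 12 5 115 5 5 97 5 119 6) (@D3.rec (fun _ => Nat) 1 1 12 97 1 18 9 12 109 1 0 114 16 3 99 12 14 0 1 99 12 5 114 1 1 1 118 118 1 4 2 99 1 1 4 119 2 3 120 1) (@D3.rec (fun _ => Nat) 117 118 12 9 110 10 12 3 114 1 115 114 110 110 2 1 113 118 4 0 4 72 12 12 13 122 120 118 7 0 1 1 111 2 3 10 1 117 0 1) (@D3.rec (fun _ => Nat) 13 110 1 122 12 2 2 3 3 91 1 106 3 117 12 2 117 116 12 12 3 1 113 105 2 103 0 2 1 116 118 104 99 3 1 108 2 3 9 0) (@D3.rec (fun _ => Nat) 107 13 113 13 5 0 5 1 113 5 106 14 3 112 2 3 8 124 9 92 2 119 3 3 4 2 3 3 3 113 4 96 1 122 12 101 2 108 13 3) (@D3.rec (fun _ => Nat) 91 112 91 91 1 2 2 91 91 91 13 14 112 4 8 112 8 1 2 8 2 8 112 5 114 0 105 1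 107 2 105 2 2 105 3 0 112 68 1 107) (@D3.rec (fun _ => Nat) 2 3 5 2 107 118 107 6 14 2 3 107 104 3 119 12 0 106 112 6 1 2 6 122 116 4 95 12 12 5 96 5 120 5 6 115 6 1 12 97) (@D3.rec (fun _ => Nat) 1 8 12 1 0 120 12 3 99 18 0 1 97 12 5 113 1 1 117 116 1 1 4 2 98 1 1 4 116 2 109 1 111 114 12 8 114 111 1 123) (@D3.rec (fun _ => Nat) 113 113 2 1 119 111 4 0 4 72 12 12 102 115 117 120 7 0 1 1 104 102 7 1 115 0 1 10 1 112 13 2 2 3 114 91 1 122 3 2) (@D3.rec (fun _ => Nat) 3 1 115 2 105 0 2 1 120 3 1 105 2 10 0 115 13 121 13 5 0 5 1 107 5 105 13 3 114 2 3 4 118 5 98 2 113 3 2 3) (@D3.rec (fun _ => Nat) 3 13 2 13 109 3 90 116 90 1 2 2 90 90 90 13 14 114 4 9 110 1 2 9 114 5 0 101 1 103 104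 110 2 2 108 3 0 65 65 1) (@D3.rec (fun _ => Nat) 2 103 3 5 2 105 103 107 14 2 3 122 107 3 117 14 0 110 123 10 1 2 10 120 120 92 119 92 98 117 4 0 4 4 96 1 119 93 2 1) (@D3.rec (fun _ => Nat) 97 2 97 3 119 10 10 118 109 10 95 97 93 93 93 13 3 3 4 96 1 105 97 2 0 2 2 1 105 109 99 3 110 113 111 1 4 0 4 4) (@D3.rec (fun _ => Nat) 1 105 107 3 3 4 2 105 109 105 107 101 99 12 13 5 7 119 7 0 1 2 103 70 66 94 72 107 114 101 102 100 107 113 66 66 107 117 115 97)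
def lv_d_19 : D2 → D3 → Nat := @D2.rec (fun _ => D3 → Nat) (@D3.rec (fun _ => Nat) 122 98 95 120 4 0 4 4 104 1 114 104 2 1 2 106 3 106 114 11 11 110 117 99 11 93 91 92 92 14 3 3 4 95 1 115 2 98 0 2) (@D3.rec (fun _ => Nat) 2 1 120 117 3 103 112 117 120 1 4 0 4 4 1 118 114 3 3 4 2 119 113 114 101 102 106 13 14 5 114 5 7 0 1 2 67 104 83 74) (@D3.rec (fun _ => Nat) 69 111 105 104 112 101 105 110 106 120 104 90 74 95 98 10 10 10 95 115 2 2 3 3 118 91 87 108 108 3 5 4 104 99 11 11 11 116 2 2) (@D3.rec (fun _ => Nat) 3 3 113 91 100 118 117 3 5 6 102 107 2 2 66 13 13 13 0 14 14 120 14 5 105 13 121 2 14 14 14 0 14 14 114 14 5 121 15 121) (@D3.rec (fun _ => Nat) 95 120 112 13 111 111 17 90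 13 111 1 119 105 106 118 1 119 1 2 110 2 2 3 3 115 3 4 14 110 0 1 102 117 116 1 2 2 2 2 115) (@D3.rec (fun _ => Nat) 3 112 1 0 1 2 2 2 2 1 112 2 2 3 121 3 4 111 4 107 3 117 118 117 13 111 119 109 13 117 1 118 112 119 1 117 1 2 116 2) (@D3.rec (fun _ => Nat) 2 3 3 118 3 4 14 112 114 1 2 2 3 4 112 4 109 3 1 2 117 2 106 0 1 1 2 104 2 0 2 3 0 1 103 3 3 115 1 2) (@D3.rec (fun _ => Nat) 122 2 105 0 1 1 2 108 2 0 2 3 0 1 116 3 3 114 1 1 5 2 2 3 3 111 2 3 120 106 112 3 4 2 3 1 1 5 115 116) (@D3.rec (fun _ => Nat) 102 105 3 4 116 2 1 117 118 0 1 115 120 2 1 119 121 0 1 119 110 112 6 1 2 97 16 2 96 98 6 1 2 109 16 2 105 110 7 1) (@D3.rec (fun _ => Nat) 108 109 111 108 117 9 1 109 105 114 112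 117 1 119 119 1 120 123 1 118 88 9 1 112 88 8 97 1 0 96 1 0 4 111 4 111 112 4 122 4) (@D3.rec (fun _ => Nat) 120 115 1 1 3 10 109 105 10 113 5 111 111 110 3 2 2 122 111 109 4 3 10 115 103 10 114 5 106 112 109 3 2 2 111 109 111 8 1 100) (@D3.rec (fun _ => Nat) 102 105 1 99 101 107 119 112 118 115 4 4 2 2 2 97 98 2 107 99 2 3 112 3 4 4 91 2 3 119 3 4 4 97 2 2 84 0 109 0) (@D3.rec (fun _ => Nat) 1 2 115 113 110 120 109 118 88 0 107 0 1 2 115 111 109 107 107 110 117 107 5 123 5 1 111 1 1 104 2 118 110 5 124 5 1 107 1 1) (@D3.rec (fun _ => Nat) 104 2 0 1 2 1 7 103 2 101 0 1 2 2 105 0 1 93 88 2 3 105 0 1 2 1 7 107 2 105 0 1 2 2 96 0 1 94 88 2) (@D3.rec (fun _ => Nat) 3 99 4 7 1 0 1 11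 12 4 4 121 4 5 1 5 117 115 2 7 2 1 0 107 3 116 112 102 12 119 6 96 99 10 116 10 10 119 10 107) (@D3.rec (fun _ => Nat) 96 109 3 0 1 2 116 1 2 2 7 1 1 117 117 2 2 120 1 116 2 4 0 1 0 1 2 1 115 0 100 115 4 4 1 0 11 11 4 1) (@D3.rec (fun _ => Nat) 5 2 7 1 0 118 3 117 109 6 98 7 6 0 1 2 123 1 1 1 110 106 2 2 112 1 1 97 110 89 89 5 111 5 109 118 110 14 7 96) (@D3.rec (fun _ => Nat) 7 106 98 1 120 7 98 7 2 3 105 3 1 108 4 119 3 119 110 9 92 100 2 2 104 119 99 3 3 109 2 2 1 3 3 3 4 104 116 104) (@D3.rec (fun _ => Nat) 113 9 9 113 9 9 128 89 89 113 7 114 7 114 115 12 7 98 7 107 98 1 125 9 98 7 2 3 107 3 1 115 4 115 3 108 116 94 10 108) (@D3.rec (fun _ => Nat) 2 2 114 100 109 3 3 115 2 2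 1 3 3 3 4 109 110 109 121 10 10 121 10 10 1 9 90 90 90 92 90 111 111 92 9 9 9 9 113 96) (@D3.rec (fun _ => Nat) 122 3 4 0 2 1 2 117 3 117 1 10 92 92 92 94 117 118 91 10 10 10 10 115 1 117 116 115 109 116 124 113 115 119 121 117 108 121 119 118) (@D3.rec (fun _ => Nat) 2 121 2 83 88 112 115 111 116 3 120 121 3 1 83 2 1 82 2 127 113 102 82 98 93 85 2 3 85 120 85 113 11 118 117 1 1 118 0 114) (@D3.rec (fun _ => Nat) 2 121 120 117 117 107 4 118 106 89 110 95 87 2 3 87 119 87 118 12 113 119 1 114 86 2 116 109 120 115 107 8 119 110 87 2 87 87 5 99) (@D3.rec (fun _ => Nat) 3 3 112 4 118 87 124 10 1 2 2 2 111 89 94 0 0 1 11 1 90 91 106 91 99 2 3 92 91 5 91 117 2 89 89 5 111 3 3 115) (@D3.rec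 (fun _ => Nat) 4 112 105 111 6 1 2 107 89 99 0 12 1 89 89 116 85 92 2 3 87 85 8 90 111 71 71 3 0 2 2 1 111 3 114 112 105 111 63 3) (@D3.rec (fun _ => Nat) 0 2 2 1 3 114 120 116 115 99 99 112 118 1 2 121 3 4 0 117 2 2 105 3 99 99 119 114 1 109 2 121 114 95 2 123 124 91 2 2)
def lv_d_20 : D2 → D3 → Nat := @D2.rec (fun _ => D3 → Nat) (@D3.rec (fun _ => Nat) 108 1 1 2 1 1 116 2 120 2 121 1 1 2 1 1 116 2 91 119 114 3 3 16 17 15 16 96 103 103 107 2 117 106 2 106 116 15 102 4) (@D3.rec (fun _ => Nat) 111 15 108 4 110 2 2 104 106 1 1 2 84 15 107 119 1 1 2 83 16 67 17 3 3 91 4 121 122 15 7 15 94 97 122 1 120 118 3 94) (@D3.rec (fun _ => Nat) 119 7 15 102 110 19 90 3 3 4 113 95 113 16 9 16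 103 102 108 1 110 109 3 104 119 9 17 102 125 2 3 9 12 103 93 93 93 120 98 98) (@D3.rec (fun _ => Nat) 4 3 4 119 4 96 120 96 120 98 119 118 6 116 119 122 92 115 2 3 9 12 109 100 104 98 122 101 105 4 3 4 119 4 98 113 105 122 105 122) (@D3.rec (fun _ => Nat) 117 6 114 114 122 0 1 0 15 100 8 111 119 118 9 3 116 113 113 8 109 8 108 8 106 0 1 114 107 107 108 0 1 0 15 99 8 118 112 113) (@D3.rec (fun _ => Nat) 9 3 106 110 109 9 104 9 107 9 108 0 1 114 109 111 108 8 2 9 3 4 8 8 113 8 12 0 115 3 110 100 4 110 4 112 105 110 1 111) (@D3.rec (fun _ => Nat) 98 101 97 98 0 113 1 105 5 0 107 1 2 105 104 12 8 2 8 3 4 8 8 109 10 0 3 111 101 4 109 4 111 109 109 1 109 109 100 97) (@D3.rec (fun _ =>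 Nat) 103 0 120 5 0 102 1 2 102 100 7 116 92 3 99 4 0 99 109 5 121 1 94 4 98 4 3 4 4 100 101 118 100 99 96 96 123 120 99 13) (@D3.rec (fun _ => Nat) 116 112 8 107 107 107 111 6 110 103 110 91 121 1 104 2 113 3 60 60 111 103 103 110 1 121 115 98 3 108 98 116 5 118 1 109 4 106 4 3) (@D3.rec (fun _ => Nat) 4 4 107 105 107 103 113 114 111 102 121 101 12 113 111 6 113 118 107 110 6 106 109 116 87 109 108 61 115 112 105 105 121 1 122 99 93 120 104 5) (@D3.rec (fun _ => Nat) 92 97 4 5 3 4 4 94 101 98 101 0 92 1 2 105 105 119 99 5 99 104 4 4 3 4 4 96 104 103 0 96 99 1 2 119 121 118 115 1) (@D3.rec (fun _ => Nat) 106 1 103 1 1 1 1 108 2 1 1 107 1 103 1 1 1 112 2 120 118 107 9 106 9 96 4 107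 4 1 5 106 106 109 105 4 120 4 1 5) (@D3.rec (fun _ => Nat) 110 108 119 110 110 1 118 11 119 119 1 113 11 0 1 0 1 106 117 101 99 94 4 110 113 113 93 5 108 97 104 102 105 4 118 104 117 97 5 112) (@D3.rec (fun _ => Nat) 105 105 107 1 113 4 1 103 1 111 4 1 108 0 1 0 1 106 106 16 2 102 114 99 1 112 119 17 2 121 114 100 1 84 84 102 1 118 86 100) (@D3.rec (fun _ => Nat) 8 112 8 4 120 100 88 86 129 3 4 97 120 112 97 109 116 106 8 111 110 8 117 112 110 101 5 110 5 5 0 5 105 102 102 102 106 6 108 88) (@D3.rec (fun _ => Nat) 88 1 120 91 10 113 110 10 4 111 113 92 91 110 3 4 121 116 104 114 114 10 116 112 111 10 111 113 114 115 5 111 8 8 0 8 104 101 107 104) (@D3.rec (fun _ => Nat) 115 9 123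 0 66 121 103 108 13 108 99 1 0 13 104 110 8 118 110 13 117 118 1 86 14 8 106 14 104 14 5 113 4 114 4 3 114 0 4 112) (@D3.rec (fun _ => Nat) 118 1 122 1 13 103 6 0 108 107 14 105 115 1 0 14 110 112 10 117 111 14 120 115 1 90 14 10 112 14 122 14 5 115 4 117 4 3 125 0) (@D3.rec (fun _ => Nat) 4 110 120 119 1 15 10 1 110 114 98 110 1 4 120 0 1 108 4 16 2 106 112 1 112 96 3 10 114 10 88 4 114 1 1 108 119 119 1 2) (@D3.rec (fun _ => Nat) 108 113 1 91 95 0 1 2 118 16 2 2 106 97 105 16 2 3 116 16 16 116 14 2 120 17 0 5 119 6 104 6 108 1 3 109 108 102 120 16) (@D3.rec (fun _ => Nat) 106 106 16 16 1 110 109 115 108 16 16 17 4 6 1 5 0 7 16 102 16 5 0 1 104 6 16 2 9 107 112 1 2 114 2 2 3 106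 113 15) (@D3.rec (fun _ => Nat) 14 3 3 123 4 9 16 6 1 7 0 7 121 1 105 117 110 110 1 124 113 102 103 1 4 116 1 116 4 16 2 108 118 1 115 102 9 112 9 91) (@D3.rec (fun _ => Nat) 1 1 101 110 1 2 101 112 1 93 100 0 1 2 115 16 2 2 108 97 16 2 117 16 16 16 0 5 117 117 115 1 3 109 101 112 16 108 108 16) (@D3.rec (fun _ => Nat) 16 1 103 108 103 16 16 17 4 6 1 0 16 110 16 5 1 111 16 2 10 116 118 1 109 15 14 3 3 127 4 10 17 10 1 0 108 1 113 120) (@D3.rec (fun _ => Nat) 120 13 114 107 0 117 20 108 111 1 94 16 111 114 1 108 110 5 13 119 5 113 118 3 10 110 10 117 124 122 114 118 8 1 2 1 119 3 115 1) (@D3.rec (fun _ => Nat) 113 120 3 3 124 119 97 110 2 115 116 101 1 118 3 107 15 102 3 1 14 1 113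 113 117 3 8 84 4 114 127 101 91 114 93 2 2 3 108 112)
def lv_d_21 : D2 → D3 → Nat := @D2.rec (fun _ => D3 → Nat) (@D3.rec (fun _ => Nat) 91 91 111 114 2 119 109 1 2 104 3 1 114 116 2 109 6 14 118 3 106 1 114 2 112 13 122 128 111 115 1 90 18 1 116 5 13 116 5 107) (@D3.rec (fun _ => Nat) 114 9 114 9 121 115 6 1 2 1 111 113 1 113 3 111 113 117 2 122 1 121 3 15 1 14 1 107 110 112 3 5 84 2 2 116 3 93 96 110) (@D3.rec (fun _ => Nat) 109 116 110 1 109 3 1 115 113 2 112 14 15 3 108 1 123 2 123 112 107 1 102 5 95 95 3 2 105 108 11 108 115 11 94 114 97 100 2 96) (@D3.rec (fun _ => Nat) 105 103 1 107 3 107 111 113 110 1 5 108 1 2 104 115 119 112 108 1 5 107 106 104 3 2 105 117 12 107 117 12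 96 122 106 98 2 124 98 119) (@D3.rec (fun _ => Nat) 1 116 3 111 119 113 106 1 5 109 1 2 108 107 109 100 11 11 95 117 3 3 119 117 117 105 118 115 4 120 101 12 12 116 3 3 118 118 118 112) (@D3.rec (fun _ => Nat) 110 117 6 115 1 15 1 15 110 2 113 3 3 4 1 116 2 2 3 1 2 2 120 3 119 2 117 3 3 4 2 107 1 119 2 106 1 2 3 1) (@D3.rec (fun _ => Nat) 105 103 107 2 107 1 118 2 111 1 2 3 1 109 122 117 123 5 6 100 3 3 111 111 3 121 112 112 112 107 6 5 3 114 5 122 123 123 123 101) (@D3.rec (fun _ => Nat) 119 6 121 113 1 119 118 117 1 119 2 99 2 112 108 111 116 110 7 117 7 113 7 0 1 7 0 1 111 122 111 104 0 113 110 122 118 109 115 115) (@D3.rec (fun _ => Nat) 104 0 109 109 117 119 111 114 3 88 4 107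 4 93 96 3 98 4 116 4 99 97 1 1 7 2 3 113 116 1 1 9 2 3 113 109 117 113 114 7) (@D3.rec (fun _ => Nat) 106 119 124 110 9 104 115 1 2 105 8 1 114 98 2 2 1 99 117 90 3 111 1 2 107 8 1 110 99 2 2 1 99 114 88 3 112 99 1 111) (@D3.rec (fun _ => Nat) 8 107 1 110 1 2 2 6 111 119 1 1 2 1 102 113 119 1 8 1 1 2 123 118 109 110 116 3 109 114 116 121 104 3 3 3 4 126 120 117) (@D3.rec (fun _ => Nat) 114 114 10 121 120 120 109 3 122 117 119 110 120 3 3 3 4 113 109 121 121 11 122 92 92 92 10 113 96 113 4 114 5 1 3 2 3 91 11 84) (@D3.rec (fun _ => Nat) 83 85 85 84 86 93 106 3 115 122 118 85 94 127 120 120 85 1 85 95 103 3 121 118 112 89 95 120 118 121 84 89 4 2 108 1 1 3 118 89) (@D3.rec (fun _ =>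 Nat) 4 120 1 3 109 1 117 108 3 121 1 109 116 3 2 114 4 116 127 1 113 127 3 124 115 116 106 16 2 115 17 2 9 19 4 108 96 106 19 9) (@D3.rec (fun _ => Nat) 4 109 95 104 3 10 116 104 121 120 122 4 4 98 111 119 111 118 111 112 112 112 125 3 10 96 105 121 120 121 4 4 120 120 113 127 1 106 92 16) (@D3.rec (fun _ => Nat) 1 122 100 122 95 120 125 107 1 1 103 101 16 1 116 104 113 94 108 106 108 1 4 95 89 1 105 107 103 119 1 117 1 2 4 94 97 1 107 112) (@D3.rec (fun _ => Nat) 102 121 1 118 1 2 92 4 96 101 116 101 1 100 4 4 100 116 100 113 105 101 121 100 116 125 114 109 123 123 3 107 61 105 122 98 108 108 100 4) (@D3.rec (fun _ => Nat) 4 109 117 117 116 115 105 100 115 111 106 117 121 102 105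 112 4 4 94 111 116 103 113 1 122 2 3 4 4 110 108 119 1 116 2 3 104 108 106 112) (@D3.rec (fun _ => Nat) 109 118 5 122 120 5 1 86 1 87 115 124 111 1 88 119 1 87 86 124 121 110 118 116 112 106 108 6 1 112 102 88 113 115 111 114 116 125 115 121) (@D3.rec (fun _ => Nat) 10 1 119 104 121 1 121 98 1 6 120 15 112 113 115 114 122 4 1 121 113 110 1 1 6 15 123 121 119 122 128 4 1 121 116 1 115 115 17 97) (@D3.rec (fun _ => Nat) 119 97 2 119 1 118 17 2 114 123 17 3 120 18 122 1 6 6 104 102 121 114 109 17 18 5 7 112 108 1 17 6 1 122 17 120 2 116 3 120) (@D3.rec (fun _ => Nat) 15 4 119 17 7 7 117 1 123 114 122 112 17 90 2 109 1 122 17 2 106 17 17 119 1 113 106 17 18 109 1 17 17 16 4 118 18 1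 119 1) (@D3.rec (fun _ => Nat) 119 111 121 84 112 126 121 2 126 114 119 84 93 3 111 111 118 117 116 120 2 124 122 3 112 126 120 121 116 124 124 2 109 105 109 2 118 124 117 121) (@D3.rec (fun _ => Nat) 7 7 103 119 121 121 113 118 114 6 6 114 7 7 127 117 117 6 6 121 121 1 2 1 125 119 110 1 117 117 1 119 109 122 3 3 113 115 123 121) (@D3.rec (fun _ => Nat) 122 122 92 115 116 114 115 5 116 113 126 3 87 120 121 86 86 85 95 124 120 115 124 120 122 104 117 118 127 125 117 10 108 113 10 121 125 121 121 114) (@D3.rec (fun _ => Nat) 124 117 120 118 120 117 17 121 17 114 117 127 3 122 3 119 113 89 88 108 117 115 118 103 98 99 102 102 101 114 102 101 123 108 117 113 2 115 115 127)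
def lv_d : Pt → Nat := @Pt.rec (fun _ => Nat) (@D1.rec (fun _ => D2 → D3 → Nat) lv_d_0 lv_d_1 lv_d_2 lv_d_3 lv_d_4 lv_d_5 lv_d_6 lv_d_7 lv_d_8 lv_d_9 lv_d_10 lv_d_11 lv_d_12 lv_d_13 lv_d_14 lv_d_15 lv_d_16 lv_d_17 lv_d_18 lv_d_19 lv_d_20 lv_d_21)
abbrev lc_d_Cert_tree : Cert rels S Gen.d := Cert.tree
abbrev lc_d_rc_14_1 : Cert rels S Gen.d := rc_14_1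
abbrev lc_d_rc_14_11 : Cert rels S Gen.d := rc_14_11
abbrev lc_d_rc_14_13 : Cert rels S Gen.d := rc_14_13
abbrev lc_d_rc_14_15 : Cert rels S Gen.d := rc_14_15
abbrev lc_d_rc_14_3 : Cert rels S Gen.d := rc_14_3
abbrev lc_d_rc_14_5 : Cert rels S Gen.d := rc_14_5
abbrev lc_d_rc_14_7 : Cert rels S Gen.d := rc_14_7
abbrev lc_d_rc_14_9 : Cert rels S Gen.d := rc_14_9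
abbrev lc_d_rc_18_0 : Cert rels S Gen.d := rc_18_0
abbrev lc_d_rc_18_1 : Cert rels S Gen.d := rc_18_1
abbrev lc_d_rc_19_0 : Cert rels S Gen.d := rc_19_0
abbrev lc_d_rc_19_2 : Cert rels S Gen.d := rc_19_2
abbrev lc_d_rc_19_4 : Cert rels S Gen.d := rc_19_4
abbrev lc_d_rc_20_0 : Cert rels S Gen.d := rc_20_0
abbrev lc_d_rc_20_2 : Cert rels S Gen.d := rc_20_2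
abbrev lc_d_rc_21_0 : Cert rels S Gen.d := rc_21_0
abbrev lc_d_rc_21_2 : Cert rels S Gen.d := rc_21_2
abbrev lc_d_rc_28_1 : Cert rels S Gen.d := rc_28_1
abbrev lc_d_rc_28_3 : Cert rels S Gen.d := rc_28_3
abbrev lc_d_rc_28_5 : Cert rels S Gen.d := rc_28_5
abbrev lc_d_rc_28_7 : Cert rels S Gen.d := rc_28_7
abbrev lc_d_rc_32_12 : Cert rels S Gen.d := rc_32_12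
abbrev lc_d_rc_32_14 : Cert rels S Gen.d := rc_32_14
abbrev lc_d_rc_32_17 : Cert rels S Gen.d := rc_32_17
abbrev lc_d_rc_32_19 : Cert rels S Gen.d := rc_32_19
abbrev lc_d_rc_32_22 : Cert rels S Gen.d := rc_32_22
abbrev lc_d_rc_32_24 : Cert rels S Gen.d := rc_32_24
abbrev lc_d_rc_32_30 : Cert rels S Gen.d := rc_32_30
abbrev lc_d_rc_32_33 : Cert rels S Gen.d := rc_32_33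
abbrev lc_d_rc_32_35 : Cert rels S Gen.d := rc_32_35
abbrev lc_d_rc_32_38 : Cert rels S Gen.d := rc_32_38
abbrev lc_d_rc_32_4 : Cert rels S Gen.d := rc_32_4
abbrev lc_d_rc_32_40 : Cert rels S Gen.d := rc_32_40
abbrev lc_d_rc_32_43 : Cert rels S Gen.d := rc_32_43
abbrev lc_d_rc_32_45 : Cert rels S Gen.d := rc_32_45
abbrev lc_d_rc_32_48 : Cert rels S Gen.d := rc_32_48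
abbrev lc_d_rc_32_50 : Cert rels S Gen.d := rc_32_50
abbrev lc_d_rc_32_54 : Cert rels S Gen.d := rc_32_54
abbrev lc_d_rc_32_56 : Cert rels S Gen.d := rc_32_56
abbrev lc_d_rc_32_59 : Cert rels S Gen.d := rc_32_59
abbrev lc_d_rc_32_61 : Cert rels S Gen.d := rc_32_61
abbrev lc_d_rc_32_64 : Cert rels S Gen.d := rc_32_64
abbrev lc_d_rc_32_66 : Cert rels S Gen.d := rc_32_66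
abbrev lc_d_rc_32_69 : Cert rels S Gen.d := rc_32_69
abbrev lc_d_rc_32_7 : Cert rels S Gen.d := rc_32_7
abbrev lc_d_rc_32_71 : Cert rels S Gen.d := rc_32_71
abbrev lc_d_rc_32_74 : Cert rels S Gen.d := rc_32_74
abbrev lc_d_rc_32_9 : Cert rels S Gen.d := rc_32_9
abbrev lc_d_rc_3_1 : Cert rels S Gen.d := rc_3_1
abbrev lc_d_rc_3_3 : Cert rels S Gen.d := rc_3_3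
abbrev lc_d_rc_9_1 : Cert rels S Gen.d := rc_9_1
abbrev lc_d_rc_9_3 : Cert rels S Gen.d := rc_9_3
abbrev lc_d_sc_3_0 : Cert rels S Gen.d := sc_3_0
def ce_d_0 : D2 → D3 → (Cert rels S Gen.d) := @D2.rec (fun _ => D3 → (Cert rels S Gen.d)) (@D3.rec (fun _ => (Cert rels S Gen.d)) lc_d_sc_3_0 lc_d_Cert_tree lc_d_rc_18_0 lc_d_Cert_tree lc_d_Cert_tree lc_d_rc_18_0 lc_d_Cert_tree lc_d_rc_18_0 lc_d_rc_20_2 lc_d_rc_21_2 lc_d_rc_19_2 lc_d_Cert_tree lc_d_rc_18_0 lc_d_rc_20_2 lc_d_rc_21_2 lc_d_Cert_tree lc_d_rc_9_1 lc_d_rc_20_2 lc_d_rc_21_2 lc_d_rc_21_2 lc_d_rc_21_2 lc_d_Cert_tree lc_d_rc_18_0 lc_d_rc_20_2 lc_d_rc_21_2 lc_d_Cert_tree lc_d_rc_28_7 lc_d_rc_20_2 lc_d_rc_21_2 lc_d_rc_9_1 lc_d_rc_9_1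 lc_d_rc_18_0 lc_d_Cert_tree lc_d_rc_20_2 lc_d_rc_21_2 lc_d_rc_20_2 lc_d_rc_21_2 lc_d_rc_21_2 lc_d_rc_21_0 lc_d_rc_9_1) (@D3.rec (fun _ => (Cert rels S Gen.d)) lc_d_rc_9_1 lc_d_rc_18_0 lc_d_rc_20_2 lc_d_rc_21_2 lc_d_Cert_tree lc_d_rc_9_1 lc_d_rc_20_2 lc_d_rc_21_2 lc_d_rc_9_1 lc_d_rc_21_2 lc_d_rc_9_1 lc_d_rc_21_2 lc_d_Cert_tree lc_d_rc_18_0 lc_d_Cert_tree lc_d_rc_20_2 lc_d_rc_21_2 lc_d_rc_28_7 lc_d_rc_28_7 lc_d_rc_9_1 lc_d_rc_9_1 lc_d_rc_3_1 lc_d_Cert_tree lc_d_rc_21_2 lc_d_rc_3_1 lc_d_Cert_tree lc_d_rc_20_2 lc_d_Cert_tree lc_d_rc_20_2 lc_d_rc_21_2 lc_d_rc_18_0 lc_d_rc_20_2 lc_d_rc_21_2 lc_d_rc_9_1 lc_d_rc_21_2 lc_d_rc_9_1 lc_d_rc_3_3 lc_d_rc_21_2 lc_d_rc_28_7 lc_d_rc_9_1) (@D3.rec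 (fun _ => (Cert rels S Gen.d)) lc_d_rc_9_1 lc_d_rc_3_1 lc_d_rc_28_7 lc_d_rc_20_2 lc_d_rc_3_1 lc_d_rc_32_54 lc_d_rc_21_2 lc_d_Cert_tree lc_d_rc_28_7 lc_d_rc_20_2 lc_d_rc_21_2 lc_d_rc_9_1 lc_d_rc_9_1 lc_d_Cert_tree lc_d_rc_18_0 lc_d_Cert_tree lc_d_rc_20_2 lc_d_rc_21_2 lc_d_rc_20_2 lc_d_rc_21_2 lc_d_rc_9_1 lc_d_rc_21_2 lc_d_rc_9_1 lc_d_rc_21_0 lc_d_rc_21_2 lc_d_rc_9_1 lc_d_rc_20_2 lc_d_rc_9_1 lc_d_Cert_tree lc_d_rc_18_0 lc_d_Cert_tree lc_d_rc_20_2 lc_d_rc_21_2 lc_d_Cert_tree lc_d_rc_20_2 lc_d_rc_21_2 lc_d_rc_18_0 lc_d_rc_20_2 lc_d_rc_21_2 lc_d_rc_9_1) (@D3.rec (fun _ => (Cert rels S Gen.d)) lc_d_rc_9_1 lc_d_rc_9_1 lc_d_rc_9_1 lc_d_rc_3_1 lc_d_Cert_tree lc_d_rc_21_2 lc_d_rc_3_1 lc_d_Cert_tree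 lc_d_rc_20_2 lc_d_rc_9_1 lc_d_rc_18_0 lc_d_rc_28_7 lc_d_rc_9_1 lc_d_rc_18_0 lc_d_rc_20_2 lc_d_rc_18_0 lc_d_rc_20_2 lc_d_rc_21_2 lc_d_rc_9_1 lc_d_rc_21_2 lc_d_rc_9_1 lc_d_rc_3_1 lc_d_rc_28_5 lc_d_rc_20_2 lc_d_rc_21_2 lc_d_rc_9_1 lc_d_rc_21_2 lc_d_rc_9_1 lc_d_rc_3_3 lc_d_rc_21_2 lc_d_rc_9_1 lc_d_rc_9_3 lc_d_rc_9_1 lc_d_rc_9_1 lc_d_rc_9_1 lc_d_rc_3_1 lc_d_rc_19_4 lc_d_rc_20_2 lc_d_rc_3_1 lc_d_rc_9_3) (@D3.rec (fun _ => (Cert rels S Gen.d)) lc_d_rc_21_2 lc_d_rc_28_3 lc_d_rc_3_1 lc_d_rc_28_7 lc_d_rc_3_1 lc_d_rc_3_1 lc_d_rc_9_1 lc_d_Cert_tree lc_d_rc_18_0 lc_d_Cert_tree lc_d_rc_20_2 lc_d_rc_21_2 lc_d_rc_28_7 lc_d_rc_28_7 lc_d_rc_9_1 lc_d_rc_9_1 lc_d_Cert_tree lc_d_rc_18_0 lc_d_Cert_tree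 lc_d_rc_20_2 lc_d_rc_21_2 lc_d_Cert_tree lc_d_rc_20_2 lc_d_rc_21_2 lc_d_rc_18_0 lc_d_rc_20_2 lc_d_rc_21_2 lc_d_rc_9_1 lc_d_rc_21_2 lc_d_rc_9_1 lc_d_rc_3_3 lc_d_rc_20_2 lc_d_rc_21_2 lc_d_rc_21_2 lc_d_rc_28_7 lc_d_Cert_tree lc_d_rc_21_2 lc_d_rc_9_1 lc_d_Cert_tree lc_d_rc_20_2) (@D3.rec (fun _ => (Cert rels S Gen.d)) lc_d_rc_9_1 lc_d_Cert_tree lc_d_rc_18_0 lc_d_Cert_tree lc_d_rc_20_2 lc_d_rc_21_2 lc_d_Cert_tree lc_d_rc_20_2 lc_d_rc_21_2 lc_d_rc_18_0 lc_d_rc_20_2 lc_d_rc_21_2 lc_d_rc_9_1 lc_d_rc_21_2 lc_d_rc_9_1 lc_d_rc_21_2 lc_d_rc_18_0 lc_d_rc_20_2 lc_d_rc_21_2 lc_d_rc_9_1 lc_d_rc_9_1 lc_d_rc_28_3 lc_d_rc_20_2 lc_d_rc_21_2 lc_d_rc_9_1 lc_d_rc_9_1 lc_d_rc_3_1 lc_d_Cert_tree lc_d_rc_21_2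 lc_d_rc_3_1 lc_d_Cert_tree lc_d_rc_20_2 lc_d_rc_28_7 lc_d_Cert_tree lc_d_rc_21_2 lc_d_rc_28_7 lc_d_Cert_tree lc_d_rc_20_2 lc_d_rc_9_1 lc_d_Cert_tree) (@D3.rec (fun _ => (Cert rels S Gen.d)) lc_d_rc_18_0 lc_d_rc_21_2 lc_d_rc_3_1 lc_d_rc_9_1 lc_d_Cert_tree lc_d_rc_18_0 lc_d_rc_20_2 lc_d_rc_20_2 lc_d_Cert_tree lc_d_rc_19_2 lc_d_Cert_tree lc_d_rc_19_2 lc_d_Cert_tree lc_d_rc_20_2 lc_d_rc_21_2 lc_d_rc_9_1 lc_d_rc_21_2 lc_d_rc_9_1 lc_d_rc_3_3 lc_d_rc_28_3 lc_d_rc_9_1 lc_d_rc_9_3 lc_d_rc_9_1 lc_d_rc_9_1 lc_d_rc_28_5 lc_d_rc_28_5 lc_d_rc_9_1 lc_d_rc_21_2 lc_d_rc_9_1 lc_d_rc_3_1 lc_d_rc_21_2 lc_d_rc_9_1 lc_d_rc_20_2 lc_d_rc_9_1 lc_d_rc_20_2 lc_d_rc_3_1 lc_d_Cert_tree lc_d_rc_20_2 lc_d_rc_3_1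 lc_d_Cert_tree) (@D3.rec (fun _ => (Cert rels S Gen.d)) lc_d_rc_28_7 lc_d_Cert_tree lc_d_rc_20_2 lc_d_rc_28_7 lc_d_Cert_tree lc_d_rc_21_2 lc_d_rc_19_0 lc_d_rc_3_1 lc_d_rc_20_2 lc_d_rc_9_1 lc_d_rc_3_1 lc_d_rc_21_2 lc_d_rc_28_3 lc_d_rc_20_2 lc_d_rc_18_0 lc_d_Cert_tree lc_d_Cert_tree lc_d_rc_20_2 lc_d_rc_21_2 lc_d_rc_18_0 lc_d_rc_20_2 lc_d_rc_21_2 lc_d_rc_9_1 lc_d_rc_9_1 lc_d_rc_18_0 lc_d_Cert_tree lc_d_rc_20_2 lc_d_rc_21_2 lc_d_Cert_tree lc_d_rc_20_2 lc_d_rc_21_2 lc_d_rc_18_0 lc_d_rc_20_2 lc_d_rc_21_2 lc_d_rc_9_1 lc_d_rc_21_2 lc_d_rc_9_1 lc_d_rc_21_2 lc_d_rc_18_0 lc_d_rc_20_2) (@D3.rec (fun _ => (Cert rels S Gen.d)) lc_d_rc_21_2 lc_d_rc_9_1 lc_d_rc_21_2 lc_d_rc_9_1 lc_d_rc_3_1 lc_d_rc_28_5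 lc_d_rc_20_2 lc_d_rc_21_2 lc_d_rc_9_1 lc_d_rc_21_2 lc_d_rc_9_1 lc_d_rc_3_3 lc_d_rc_3_1 lc_d_Cert_tree lc_d_rc_21_2 lc_d_rc_9_1 lc_d_rc_3_1 lc_d_Cert_tree lc_d_rc_20_2 lc_d_rc_9_1 lc_d_Cert_tree lc_d_rc_21_2 lc_d_rc_3_1 lc_d_Cert_tree lc_d_rc_28_7 lc_d_rc_3_1 lc_d_rc_18_0 lc_d_rc_21_2 lc_d_Cert_tree lc_d_rc_18_0 lc_d_rc_20_2 lc_d_Cert_tree lc_d_rc_18_0 lc_d_Cert_tree lc_d_Cert_tree lc_d_rc_20_2 lc_d_rc_21_2 lc_d_rc_18_0 lc_d_rc_20_2 lc_d_rc_21_2) (@D3.rec (fun _ => (Cert rels S Gen.d)) lc_d_rc_18_0 lc_d_rc_20_2 lc_d_rc_21_2 lc_d_rc_9_1 lc_d_rc_21_2 lc_d_rc_9_1 lc_d_rc_21_0 lc_d_Cert_tree lc_d_rc_20_2 lc_d_rc_21_2 lc_d_rc_9_1 lc_d_rc_21_2 lc_d_rc_9_1 lc_d_rc_3_3 lc_d_Cert_tree lc_d_rc_9_1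 lc_d_Cert_tree lc_d_rc_9_1 lc_d_Cert_tree lc_d_rc_20_2 lc_d_rc_21_2 lc_d_rc_9_1 lc_d_rc_9_1 lc_d_rc_3_1 lc_d_rc_20_0 lc_d_rc_21_2 lc_d_rc_3_1 lc_d_rc_20_2 lc_d_rc_20_2 lc_d_rc_9_1 lc_d_rc_28_3 lc_d_rc_28_3 lc_d_rc_9_1 lc_d_rc_9_1 lc_d_rc_28_3 lc_d_Cert_tree lc_d_rc_21_2 lc_d_rc_28_3 lc_d_Cert_tree lc_d_rc_20_2) (@D3.rec (fun _ => (Cert rels S Gen.d)) lc_d_Cert_tree lc_d_rc_3_1 lc_d_rc_18_0 lc_d_rc_21_2 lc_d_Cert_tree lc_d_rc_3_1 lc_d_rc_18_0 lc_d_rc_20_2 lc_d_rc_9_1 lc_d_Cert_tree lc_d_rc_18_0 lc_d_rc_21_2 lc_d_rc_28_7 lc_d_rc_9_1 lc_d_Cert_tree lc_d_rc_18_0 lc_d_rc_20_2 lc_d_rc_21_2 lc_d_rc_18_0 lc_d_rc_19_2 lc_d_rc_21_2 lc_d_rc_9_1 lc_d_rc_3_3 lc_d_rc_18_0 lc_d_rc_19_2 lc_d_rc_20_2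 lc_d_rc_9_1 lc_d_rc_21_2 lc_d_Cert_tree lc_d_rc_18_0 lc_d_Cert_tree lc_d_Cert_tree lc_d_rc_18_0 lc_d_Cert_tree lc_d_Cert_tree lc_d_rc_18_0 lc_d_rc_20_2 lc_d_rc_21_2 lc_d_rc_9_1 lc_d_rc_21_2) (@D3.rec (fun _ => (Cert rels S Gen.d)) lc_d_rc_9_1 lc_d_rc_3_1 lc_d_rc_3_3 lc_d_rc_9_1 lc_d_rc_9_3 lc_d_rc_9_1 lc_d_rc_3_1 lc_d_rc_3_1 lc_d_rc_3_1 lc_d_rc_20_2 lc_d_rc_21_2 lc_d_rc_9_1 lc_d_rc_28_5 lc_d_rc_9_1 lc_d_rc_28_3 lc_d_Cert_tree lc_d_rc_21_2 lc_d_rc_9_1 lc_d_Cert_tree lc_d_rc_20_2 lc_d_rc_9_1 lc_d_rc_21_2 lc_d_rc_28_3 lc_d_Cert_tree lc_d_rc_20_2 lc_d_rc_28_3 lc_d_Cert_tree lc_d_Cert_tree lc_d_rc_9_1 lc_d_Cert_tree lc_d_rc_18_0 lc_d_Cert_tree lc_d_rc_9_1 lc_d_Cert_tree lc_d_rc_18_0 lc_d_Cert_tree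 lc_d_rc_21_2 lc_d_rc_18_0 lc_d_rc_20_2 lc_d_Cert_tree) (@D3.rec (fun _ => (Cert rels S Gen.d)) lc_d_rc_28_7 lc_d_rc_18_0 lc_d_rc_21_2 lc_d_rc_20_2 lc_d_rc_20_2 lc_d_rc_21_2 lc_d_rc_20_0 lc_d_rc_9_1 lc_d_rc_20_2 lc_d_Cert_tree lc_d_Cert_tree lc_d_rc_18_0 lc_d_rc_18_0 lc_d_rc_20_2 lc_d_rc_21_2 lc_d_rc_28_3 lc_d_rc_20_2 lc_d_rc_21_2 lc_d_Cert_tree lc_d_rc_20_2 lc_d_rc_21_2 lc_d_rc_18_0 lc_d_rc_20_2 lc_d_rc_21_2 lc_d_rc_9_1 lc_d_rc_9_1 lc_d_rc_18_0 lc_d_rc_20_2 lc_d_rc_21_2 lc_d_rc_9_1 lc_d_rc_21_2 lc_d_rc_9_1 lc_d_rc_21_0 lc_d_Cert_tree lc_d_rc_20_2 lc_d_rc_21_2 lc_d_rc_9_1 lc_d_rc_21_2 lc_d_rc_9_1 lc_d_rc_3_3) (@D3.rec (fun _ => (Cert rels S Gen.d)) lc_d_rc_28_1 lc_d_Cert_tree lc_d_rc_21_2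 lc_d_rc_9_1 lc_d_rc_3_1 lc_d_Cert_tree lc_d_rc_20_2 lc_d_rc_9_1 lc_d_Cert_tree lc_d_rc_20_2 lc_d_rc_21_2 lc_d_rc_9_1 lc_d_rc_21_2 lc_d_rc_9_1 lc_d_rc_3_3 lc_d_rc_3_1 lc_d_rc_28_7 lc_d_rc_21_2 lc_d_rc_9_1 lc_d_rc_3_1 lc_d_rc_3_1 lc_d_rc_20_2 lc_d_rc_9_1 lc_d_rc_9_1 lc_d_rc_28_5 lc_d_rc_28_5 lc_d_rc_9_1 lc_d_rc_21_2 lc_d_rc_9_1 lc_d_rc_3_1 lc_d_rc_28_3 lc_d_Cert_tree lc_d_rc_21_2 lc_d_rc_9_1 lc_d_rc_28_3 lc_d_Cert_tree lc_d_rc_20_2 lc_d_rc_9_1 lc_d_rc_9_1 lc_d_Cert_tree) (@D3.rec (fun _ => (Cert rels S Gen.d)) lc_d_rc_18_0 lc_d_rc_21_2 lc_d_rc_21_2 lc_d_rc_9_3 lc_d_rc_3_1 lc_d_Cert_tree lc_d_rc_9_1 lc_d_Cert_tree lc_d_rc_18_0 lc_d_rc_20_2 lc_d_rc_20_2 lc_d_rc_20_2 lc_d_rc_3_1 lc_d_Cert_tree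 lc_d_rc_18_0 lc_d_rc_21_2 lc_d_Cert_tree lc_d_rc_18_0 lc_d_rc_20_2 lc_d_Cert_tree lc_d_rc_19_2 lc_d_rc_21_2 lc_d_rc_9_1 lc_d_rc_18_0 lc_d_rc_19_2 lc_d_rc_20_2 lc_d_rc_9_1 lc_d_rc_18_0 lc_d_Cert_tree lc_d_Cert_tree lc_d_rc_18_0 lc_d_rc_18_0 lc_d_rc_20_2 lc_d_rc_21_2 lc_d_Cert_tree lc_d_rc_20_2 lc_d_rc_21_2 lc_d_Cert_tree lc_d_rc_20_2 lc_d_rc_21_2) (@D3.rec (fun _ => (Cert rels S Gen.d)) lc_d_rc_9_1 lc_d_rc_21_2 lc_d_rc_9_1 lc_d_rc_3_3 lc_d_rc_9_1 lc_d_rc_9_1 lc_d_Cert_tree lc_d_rc_18_0 lc_d_rc_20_2 lc_d_rc_21_2 lc_d_rc_9_1 lc_d_rc_21_2 lc_d_rc_9_1 lc_d_rc_3_1 lc_d_Cert_tree lc_d_rc_9_1 lc_d_Cert_tree lc_d_rc_9_1 lc_d_rc_18_0 lc_d_rc_3_1 lc_d_rc_9_3 lc_d_rc_18_0 lc_d_rc_3_1 lc_d_rc_3_1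 lc_d_Cert_tree lc_d_rc_18_0 lc_d_rc_20_2 lc_d_rc_21_2 lc_d_rc_9_1 lc_d_rc_9_1 lc_d_rc_3_1 lc_d_Cert_tree lc_d_rc_21_2 lc_d_rc_3_1 lc_d_Cert_tree lc_d_rc_20_2 lc_d_rc_3_1 lc_d_rc_3_1 lc_d_rc_3_1 lc_d_rc_20_2) (@D3.rec (fun _ => (Cert rels S Gen.d)) lc_d_rc_21_2 lc_d_rc_9_1 lc_d_rc_9_1 lc_d_rc_28_7 lc_d_Cert_tree lc_d_rc_21_2 lc_d_rc_28_7 lc_d_Cert_tree lc_d_rc_20_2 lc_d_Cert_tree lc_d_rc_28_3 lc_d_rc_18_0 lc_d_rc_21_2 lc_d_Cert_tree lc_d_rc_28_3 lc_d_rc_18_0 lc_d_rc_20_2 lc_d_rc_9_3 lc_d_rc_18_0 lc_d_rc_20_2 lc_d_rc_19_2 lc_d_rc_21_2 lc_d_rc_9_1 lc_d_rc_19_0 lc_d_rc_18_0 lc_d_rc_20_2 lc_d_rc_19_2 lc_d_rc_20_2 lc_d_rc_9_1 lc_d_rc_18_0 lc_d_rc_28_5 lc_d_rc_19_2 lc_d_rc_21_2 lc_d_rc_9_1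 lc_d_rc_3_3 lc_d_rc_18_0 lc_d_rc_28_5 lc_d_rc_19_2 lc_d_rc_20_2 lc_d_rc_9_1) (@D3.rec (fun _ => (Cert rels S Gen.d)) lc_d_rc_21_2 lc_d_rc_3_1 lc_d_rc_21_2 lc_d_rc_9_1 lc_d_rc_3_1 lc_d_rc_3_1 lc_d_rc_19_0 lc_d_rc_20_0 lc_d_rc_3_1 lc_d_rc_20_2 lc_d_rc_9_1 lc_d_rc_21_2 lc_d_rc_3_1 lc_d_rc_9_1 lc_d_rc_20_2 lc_d_rc_18_0 lc_d_Cert_tree lc_d_rc_9_1 lc_d_Cert_tree lc_d_rc_18_0 lc_d_rc_18_0 lc_d_Cert_tree lc_d_rc_19_0 lc_d_Cert_tree lc_d_rc_18_0 lc_d_Cert_tree lc_d_rc_18_0 lc_d_rc_20_2 lc_d_rc_21_2 lc_d_rc_20_2 lc_d_rc_21_2 lc_d_rc_9_1 lc_d_rc_21_2 lc_d_rc_9_1 lc_d_rc_3_3 lc_d_Cert_tree lc_d_rc_21_2 lc_d_rc_9_1 lc_d_Cert_tree lc_d_rc_9_1) (@D3.rec (fun _ => (Cert rels S Gen.d)) lc_d_rc_9_1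 lc_d_rc_3_1 lc_d_rc_3_1 lc_d_rc_9_1 lc_d_rc_9_1 lc_d_rc_9_1 lc_d_rc_3_1 lc_d_rc_3_1 lc_d_rc_20_2 lc_d_rc_21_2 lc_d_rc_21_2 lc_d_rc_3_3 lc_d_rc_28_3 lc_d_Cert_tree lc_d_rc_21_2 lc_d_rc_9_1 lc_d_rc_28_3 lc_d_Cert_tree lc_d_rc_20_2 lc_d_rc_9_1 lc_d_rc_18_0 lc_d_rc_21_2 lc_d_rc_21_2 lc_d_rc_28_7 lc_d_Cert_tree lc_d_rc_18_0 lc_d_rc_20_2 lc_d_rc_20_2 lc_d_rc_28_7 lc_d_Cert_tree lc_d_Cert_tree lc_d_rc_9_1 lc_d_Cert_tree lc_d_rc_18_0 lc_d_Cert_tree lc_d_rc_9_1 lc_d_Cert_tree lc_d_rc_18_0 lc_d_rc_18_0 lc_d_rc_3_1) (@D3.rec (fun _ => (Cert rels S Gen.d)) lc_d_Cert_tree lc_d_rc_19_0 lc_d_rc_18_0 lc_d_rc_19_2 lc_d_rc_18_0 lc_d_rc_3_1 lc_d_Cert_tree lc_d_rc_9_3 lc_d_rc_18_0 lc_d_rc_19_2 lc_d_rc_18_0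 lc_d_rc_20_2 lc_d_rc_28_5 lc_d_rc_20_2 lc_d_rc_9_1 lc_d_rc_18_0 lc_d_rc_21_2 lc_d_rc_28_5 lc_d_rc_21_2 lc_d_rc_9_1 lc_d_rc_20_0 lc_d_rc_21_2 lc_d_rc_21_2 lc_d_rc_20_0 lc_d_rc_20_2 lc_d_rc_14_3 lc_d_rc_18_0 lc_d_rc_19_4 lc_d_rc_18_0 lc_d_Cert_tree lc_d_Cert_tree lc_d_rc_20_2 lc_d_rc_21_2 lc_d_rc_9_1 lc_d_rc_28_3 lc_d_rc_28_3 lc_d_rc_18_0 lc_d_rc_20_2 lc_d_rc_21_2 lc_d_rc_9_1) (@D3.rec (fun _ => (Cert rels S Gen.d)) lc_d_rc_9_1 lc_d_rc_28_3 lc_d_rc_20_2 lc_d_rc_21_2 lc_d_rc_9_1 lc_d_rc_9_1 lc_d_Cert_tree lc_d_rc_20_2 lc_d_rc_21_2 lc_d_rc_9_1 lc_d_rc_21_2 lc_d_rc_9_1 lc_d_rc_3_3 lc_d_rc_21_2 lc_d_rc_9_1 lc_d_rc_20_2 lc_d_rc_9_1 lc_d_Cert_tree lc_d_rc_18_0 lc_d_rc_20_2 lc_d_rc_21_2 lc_d_rc_9_1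 lc_d_rc_21_2 lc_d_rc_9_1 lc_d_rc_3_1 lc_d_rc_28_3 lc_d_Cert_tree lc_d_rc_21_2 lc_d_rc_9_1 lc_d_rc_28_3 lc_d_Cert_tree lc_d_rc_20_2 lc_d_rc_9_1 lc_d_Cert_tree lc_d_rc_18_0 lc_d_rc_21_2 lc_d_Cert_tree lc_d_Cert_tree lc_d_rc_18_0 lc_d_rc_20_2) (@D3.rec (fun _ => (Cert rels S Gen.d)) lc_d_Cert_tree lc_d_Cert_tree lc_d_rc_18_0 lc_d_rc_20_2 lc_d_rc_21_2 lc_d_rc_9_1 lc_d_rc_21_2 lc_d_rc_9_1 lc_d_rc_3_1 lc_d_rc_3_1 lc_d_Cert_tree lc_d_rc_21_2 lc_d_rc_9_1 lc_d_rc_3_1 lc_d_Cert_tree lc_d_rc_20_2 lc_d_rc_9_1 lc_d_rc_9_1 lc_d_rc_9_1 lc_d_rc_21_2 lc_d_rc_3_1 lc_d_rc_32_59 lc_d_rc_9_1 lc_d_rc_20_2 lc_d_rc_20_2 lc_d_rc_3_1 lc_d_rc_32_59 lc_d_rc_28_3 lc_d_rc_20_2 lc_d_rc_21_2 lc_d_rc_9_1 lc_d_rc_28_5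 lc_d_rc_9_1 lc_d_rc_28_3 lc_d_rc_28_7 lc_d_Cert_tree lc_d_rc_21_2 lc_d_rc_9_1 lc_d_rc_28_7 lc_d_Cert_tree) (@D3.rec (fun _ => (Cert rels S Gen.d)) lc_d_rc_20_2 lc_d_rc_9_1 lc_d_rc_9_1 lc_d_Cert_tree lc_d_rc_18_0 lc_d_rc_21_2 lc_d_rc_21_2 lc_d_rc_3_3 lc_d_rc_28_3 lc_d_Cert_tree lc_d_rc_9_1 lc_d_Cert_tree lc_d_rc_18_0 lc_d_rc_20_2 lc_d_rc_20_2 lc_d_rc_21_2 lc_d_rc_28_3 lc_d_Cert_tree lc_d_rc_18_0 lc_d_rc_19_2 lc_d_rc_21_2 lc_d_rc_9_1 lc_d_rc_20_2 lc_d_rc_3_1 lc_d_rc_19_0 lc_d_rc_3_3 lc_d_rc_18_0 lc_d_rc_18_0 lc_d_rc_19_2 lc_d_rc_20_2 lc_d_rc_9_1 lc_d_rc_21_2 lc_d_rc_3_1 lc_d_rc_20_2 lc_d_rc_9_1 lc_d_rc_18_0 lc_d_rc_28_5 lc_d_rc_19_2 lc_d_rc_21_2 lc_d_rc_9_1) (@D3.rec (fun _ => (Cert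 rels S Gen.d)) lc_d_rc_18_0 lc_d_rc_28_5 lc_d_rc_19_2 lc_d_rc_20_2 lc_d_rc_9_1 lc_d_rc_18_0 lc_d_rc_21_2 lc_d_rc_9_1 lc_d_rc_20_2 lc_d_rc_20_2 lc_d_rc_19_2 lc_d_rc_20_2 lc_d_rc_9_1 lc_d_rc_19_0 lc_d_rc_19_0 lc_d_rc_19_2 lc_d_rc_18_0 lc_d_rc_19_4 lc_d_rc_18_0 lc_d_Cert_tree lc_d_Cert_tree lc_d_rc_20_2 lc_d_rc_21_2 lc_d_Cert_tree lc_d_rc_18_0 lc_d_rc_20_2 lc_d_rc_21_2 lc_d_rc_9_3 lc_d_rc_18_0 lc_d_rc_20_2 lc_d_rc_21_2 lc_d_rc_9_1 lc_d_rc_21_2 lc_d_rc_9_1 lc_d_rc_3_1 lc_d_rc_9_1 lc_d_rc_9_1 lc_d_rc_3_1 lc_d_rc_9_1 lc_d_rc_3_1) (@D3.rec (fun _ => (Cert rels S Gen.d)) lc_d_rc_9_1 lc_d_Cert_tree lc_d_rc_18_0 lc_d_rc_20_2 lc_d_rc_21_2 lc_d_rc_28_7 lc_d_rc_19_2 lc_d_rc_20_2 lc_d_rc_21_2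 lc_d_rc_9_1 lc_d_rc_21_2 lc_d_rc_9_1 lc_d_rc_3_3 lc_d_Cert_tree lc_d_rc_9_1 lc_d_Cert_tree lc_d_rc_9_1 lc_d_rc_18_0 lc_d_rc_3_1 lc_d_Cert_tree lc_d_rc_18_0 lc_d_rc_3_1 lc_d_Cert_tree lc_d_rc_19_2 lc_d_rc_19_2 lc_d_Cert_tree lc_d_rc_18_0 lc_d_rc_20_2 lc_d_rc_21_2 lc_d_rc_20_2 lc_d_rc_21_2 lc_d_rc_9_1 lc_d_rc_9_1 lc_d_rc_3_1 lc_d_Cert_tree lc_d_rc_21_2 lc_d_rc_3_1 lc_d_Cert_tree lc_d_rc_20_2 lc_d_rc_3_1) (@D3.rec (fun _ => (Cert rels S Gen.d)) lc_d_rc_18_0 lc_d_rc_3_1 lc_d_rc_18_0 lc_d_rc_9_1 lc_d_rc_3_1 lc_d_rc_3_1 lc_d_rc_20_2 lc_d_rc_21_2 lc_d_rc_21_2 lc_d_rc_3_1 lc_d_rc_28_7 lc_d_Cert_tree lc_d_rc_21_2 lc_d_rc_28_7 lc_d_Cert_tree lc_d_rc_20_2 lc_d_Cert_tree lc_d_rc_28_7 lc_d_rc_18_0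 lc_d_rc_21_2 lc_d_Cert_tree lc_d_rc_28_7 lc_d_rc_18_0 lc_d_rc_20_2 lc_d_Cert_tree lc_d_rc_18_0 lc_d_rc_21_2 lc_d_Cert_tree lc_d_rc_19_2 lc_d_rc_21_2 lc_d_rc_9_1 lc_d_Cert_tree lc_d_rc_18_0 lc_d_rc_20_2 lc_d_Cert_tree lc_d_rc_19_2 lc_d_rc_20_2 lc_d_rc_9_1 lc_d_rc_3_1 lc_d_rc_21_2)
def ce_d_1 : D2 → D3 → (Cert rels S Gen.d) := @D2.rec (fun _ => D3 → (Cert rels S Gen.d)) (@D3.rec (fun _ => (Cert rels S Gen.d)) lc_d_rc_9_1 lc_d_rc_3_1 lc_d_rc_3_1 lc_d_rc_20_2 lc_d_rc_9_1 lc_d_rc_3_1 lc_d_rc_28_3 lc_d_rc_3_1 lc_d_rc_9_1 lc_d_Cert_tree lc_d_rc_20_0 lc_d_rc_21_2 lc_d_rc_9_1 lc_d_rc_3_1 lc_d_rc_3_1 lc_d_rc_20_2 lc_d_rc_9_1 lc_d_rc_28_3 lc_d_rc_3_1 lc_d_rc_9_1 lc_d_Cert_tree lc_d_rc_20_2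 lc_d_rc_20_2 lc_d_rc_9_1 lc_d_rc_21_2 lc_d_rc_3_1 lc_d_rc_21_2 lc_d_rc_9_1 lc_d_rc_9_1 lc_d_rc_3_3 lc_d_rc_3_1 lc_d_rc_3_1 lc_d_rc_9_1 lc_d_rc_9_1 lc_d_rc_21_2 lc_d_rc_3_1 lc_d_Cert_tree lc_d_rc_18_0 lc_d_rc_21_2 lc_d_rc_18_0) (@D3.rec (fun _ => (Cert rels S Gen.d)) lc_d_rc_28_5 lc_d_Cert_tree lc_d_rc_18_0 lc_d_rc_20_2 lc_d_rc_18_0 lc_d_rc_28_5 lc_d_Cert_tree lc_d_rc_18_0 lc_d_rc_20_2 lc_d_rc_21_2 lc_d_Cert_tree lc_d_rc_20_2 lc_d_rc_21_2 lc_d_rc_9_1 lc_d_rc_21_2 lc_d_rc_9_1 lc_d_rc_21_2 lc_d_rc_9_1 lc_d_rc_21_2 lc_d_rc_9_1 lc_d_rc_3_1 lc_d_rc_28_3 lc_d_Cert_tree lc_d_rc_21_2 lc_d_rc_9_1 lc_d_rc_28_3 lc_d_Cert_tree lc_d_rc_20_2 lc_d_rc_9_1 lc_d_rc_18_0 lc_d_rc_3_3 lc_d_rc_3_1 lc_d_Cert_tree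 lc_d_rc_18_0 lc_d_rc_28_5 lc_d_rc_3_1 lc_d_Cert_tree lc_d_rc_9_1 lc_d_rc_9_1 lc_d_rc_3_1) (@D3.rec (fun _ => (Cert rels S Gen.d)) lc_d_rc_18_1 lc_d_rc_3_1 lc_d_rc_18_1 lc_d_rc_3_1 lc_d_Cert_tree lc_d_rc_20_2 lc_d_rc_21_2 lc_d_rc_9_1 lc_d_rc_9_1 lc_d_rc_28_3 lc_d_Cert_tree lc_d_rc_21_2 lc_d_rc_9_1 lc_d_rc_28_3 lc_d_Cert_tree lc_d_rc_28_7 lc_d_rc_9_1 lc_d_rc_9_1 lc_d_Cert_tree lc_d_rc_28_3 lc_d_rc_18_0 lc_d_rc_21_2 lc_d_rc_21_2 lc_d_rc_28_7 lc_d_rc_28_3 lc_d_Cert_tree lc_d_rc_20_2 lc_d_rc_9_1 lc_d_Cert_tree lc_d_rc_28_3 lc_d_rc_18_0 lc_d_rc_20_2 lc_d_rc_20_2 lc_d_rc_21_2 lc_d_rc_28_7 lc_d_Cert_tree lc_d_rc_21_2 lc_d_rc_19_2 lc_d_rc_21_2 lc_d_rc_9_1) (@D3.rec (fun _ => (Cert rels S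 Gen.d)) lc_d_Cert_tree lc_d_rc_9_1 lc_d_Cert_tree lc_d_rc_18_0 lc_d_rc_19_2 lc_d_rc_20_2 lc_d_rc_9_1 lc_d_Cert_tree lc_d_rc_9_1 lc_d_Cert_tree lc_d_rc_18_0 lc_d_rc_18_0 lc_d_rc_28_3 lc_d_Cert_tree lc_d_Cert_tree lc_d_rc_18_0 lc_d_Cert_tree lc_d_rc_19_2 lc_d_rc_18_0 lc_d_rc_28_3 lc_d_Cert_tree lc_d_Cert_tree lc_d_rc_18_0 lc_d_Cert_tree lc_d_rc_19_2 lc_d_rc_21_2 lc_d_rc_19_0 lc_d_rc_3_1 lc_d_rc_18_0 lc_d_rc_21_2 lc_d_rc_21_2 lc_d_rc_3_1 lc_d_rc_20_2 lc_d_rc_20_0 lc_d_rc_3_1 lc_d_rc_18_0 lc_d_rc_14_13 lc_d_rc_19_0 lc_d_rc_3_1 lc_d_rc_28_3) (@D3.rec (fun _ => (Cert rels S Gen.d)) lc_d_rc_20_2 lc_d_rc_9_1 lc_d_rc_9_1 lc_d_rc_28_5 lc_d_rc_9_1 lc_d_rc_3_1 lc_d_rc_21_2 lc_d_rc_28_3 lc_d_rc_21_2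 lc_d_rc_9_1 lc_d_rc_9_1 lc_d_rc_28_5 lc_d_rc_9_1 lc_d_rc_3_1 lc_d_rc_20_2 lc_d_rc_21_2 lc_d_rc_19_0 lc_d_rc_28_3 lc_d_Cert_tree lc_d_rc_18_0 lc_d_Cert_tree lc_d_rc_18_0 lc_d_rc_20_2 lc_d_rc_21_2 lc_d_rc_28_7 lc_d_rc_20_2 lc_d_rc_21_2 lc_d_rc_9_1 lc_d_rc_9_1 lc_d_rc_14_5 lc_d_rc_20_2 lc_d_rc_21_2 lc_d_rc_9_1 lc_d_rc_9_1 lc_d_rc_9_1 lc_d_rc_28_3 lc_d_rc_28_3 lc_d_rc_9_1 lc_d_rc_9_1 lc_d_Cert_tree) (@D3.rec (fun _ => (Cert rels S Gen.d)) lc_d_rc_18_0 lc_d_rc_20_2 lc_d_rc_21_2 lc_d_rc_9_1 lc_d_rc_21_2 lc_d_rc_9_1 lc_d_rc_3_1 lc_d_rc_21_2 lc_d_rc_9_1 lc_d_rc_20_2 lc_d_rc_9_1 lc_d_Cert_tree lc_d_rc_18_0 lc_d_rc_20_2 lc_d_rc_21_2 lc_d_rc_19_2 lc_d_rc_20_2 lc_d_rc_21_2 lc_d_rc_9_1 lc_d_rc_21_2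 lc_d_rc_9_1 lc_d_rc_3_3 lc_d_rc_28_7 lc_d_Cert_tree lc_d_rc_21_2 lc_d_rc_9_1 lc_d_rc_28_7 lc_d_Cert_tree lc_d_rc_20_2 lc_d_rc_9_1 lc_d_Cert_tree lc_d_rc_18_0 lc_d_rc_21_2 lc_d_Cert_tree lc_d_Cert_tree lc_d_rc_18_0 lc_d_rc_20_2 lc_d_Cert_tree lc_d_Cert_tree lc_d_rc_18_0) (@D3.rec (fun _ => (Cert rels S Gen.d)) lc_d_rc_19_2 lc_d_rc_18_0 lc_d_Cert_tree lc_d_rc_18_0 lc_d_rc_19_2 lc_d_rc_18_0 lc_d_Cert_tree lc_d_rc_18_0 lc_d_rc_20_2 lc_d_rc_21_2 lc_d_rc_20_2 lc_d_rc_21_2 lc_d_rc_9_1 lc_d_rc_21_2 lc_d_rc_9_1 lc_d_rc_3_3 lc_d_rc_3_1 lc_d_Cert_tree lc_d_rc_21_2 lc_d_rc_9_1 lc_d_rc_3_1 lc_d_Cert_tree lc_d_rc_20_2 lc_d_rc_9_1 lc_d_rc_9_1 lc_d_rc_18_0 lc_d_rc_19_4 lc_d_rc_21_2 lc_d_rc_28_3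 lc_d_Cert_tree lc_d_rc_9_1 lc_d_rc_18_0 lc_d_rc_20_2 lc_d_rc_20_2 lc_d_rc_28_3 lc_d_Cert_tree lc_d_rc_3_1 lc_d_rc_9_3 lc_d_rc_14_5 lc_d_rc_3_1) (@D3.rec (fun _ => (Cert rels S Gen.d)) lc_d_rc_9_3 lc_d_rc_14_5 lc_d_rc_9_1 lc_d_rc_28_3 lc_d_rc_28_3 lc_d_rc_20_2 lc_d_rc_21_2 lc_d_rc_21_2 lc_d_rc_28_7 lc_d_rc_3_1 lc_d_Cert_tree lc_d_rc_21_2 lc_d_rc_9_1 lc_d_rc_3_1 lc_d_Cert_tree lc_d_rc_20_2 lc_d_rc_9_1 lc_d_rc_9_1 lc_d_Cert_tree lc_d_rc_18_0 lc_d_rc_21_2 lc_d_rc_21_2 lc_d_rc_3_1 lc_d_rc_28_7 lc_d_Cert_tree lc_d_rc_9_1 lc_d_Cert_tree lc_d_rc_18_0 lc_d_rc_20_2 lc_d_rc_20_2 lc_d_rc_21_2 lc_d_rc_28_7 lc_d_Cert_tree lc_d_rc_18_0 lc_d_Cert_tree lc_d_rc_19_2 lc_d_rc_21_2 lc_d_rc_9_1 lc_d_rc_3_3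 lc_d_rc_3_1) (@D3.rec (fun _ => (Cert rels S Gen.d)) lc_d_Cert_tree lc_d_Cert_tree lc_d_rc_18_0 lc_d_rc_18_0 lc_d_Cert_tree lc_d_rc_19_2 lc_d_rc_20_2 lc_d_rc_9_1 lc_d_rc_21_2 lc_d_rc_3_1 lc_d_Cert_tree lc_d_Cert_tree lc_d_rc_18_0 lc_d_rc_3_1 lc_d_rc_21_2 lc_d_rc_9_1 lc_d_rc_20_2 lc_d_rc_9_1 lc_d_rc_19_2 lc_d_rc_3_1 lc_d_rc_20_2 lc_d_rc_9_1 lc_d_rc_21_2 lc_d_rc_3_1 lc_d_rc_19_2 lc_d_rc_9_1 lc_d_Cert_tree lc_d_rc_28_5 lc_d_rc_21_2 lc_d_rc_9_1 lc_d_rc_3_1 lc_d_rc_20_2 lc_d_rc_20_2 lc_d_rc_19_2 lc_d_rc_9_1 lc_d_Cert_tree lc_d_rc_28_3 lc_d_rc_20_2 lc_d_rc_9_1 lc_d_rc_3_1) (@D3.rec (fun _ => (Cert rels S Gen.d)) lc_d_rc_21_2 lc_d_rc_20_0 lc_d_rc_19_2 lc_d_rc_9_1 lc_d_rc_9_1 lc_d_rc_28_3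 lc_d_Cert_tree lc_d_rc_18_0 lc_d_Cert_tree lc_d_rc_18_0 lc_d_rc_20_2 lc_d_rc_21_2 lc_d_Cert_tree lc_d_rc_18_0 lc_d_rc_20_2 lc_d_rc_21_2 lc_d_rc_19_2 lc_d_rc_20_2 lc_d_rc_21_2 lc_d_rc_9_1 lc_d_rc_9_1 lc_d_rc_9_1 lc_d_rc_20_2 lc_d_rc_21_2 lc_d_rc_19_2 lc_d_rc_20_2 lc_d_rc_21_2 lc_d_rc_9_1 lc_d_rc_21_2 lc_d_rc_9_1 lc_d_rc_3_3 lc_d_Cert_tree lc_d_rc_9_1 lc_d_Cert_tree lc_d_rc_9_1 lc_d_rc_28_3 lc_d_Cert_tree lc_d_rc_28_3 lc_d_Cert_tree lc_d_rc_3_1) (@D3.rec (fun _ => (Cert rels S Gen.d)) lc_d_rc_3_1 lc_d_rc_18_0 lc_d_rc_20_2 lc_d_rc_21_2 lc_d_rc_20_2 lc_d_rc_21_2 lc_d_rc_9_1 lc_d_rc_21_2 lc_d_rc_9_1 lc_d_rc_21_2 lc_d_rc_9_1 lc_d_rc_28_7 lc_d_rc_28_7 lc_d_rc_19_2 lc_d_rc_19_2 lc_d_rc_9_1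 lc_d_rc_21_2 lc_d_rc_9_1 lc_d_rc_3_1 lc_d_rc_3_1 lc_d_Cert_tree lc_d_rc_21_2 lc_d_rc_9_1 lc_d_rc_3_1 lc_d_Cert_tree lc_d_rc_20_2 lc_d_rc_9_1 lc_d_rc_18_0 lc_d_rc_3_1 lc_d_Cert_tree lc_d_rc_18_0 lc_d_rc_3_1 lc_d_Cert_tree lc_d_Cert_tree lc_d_rc_19_2 lc_d_rc_18_0 lc_d_Cert_tree lc_d_rc_19_2 lc_d_rc_18_0 lc_d_Cert_tree) (@D3.rec (fun _ => (Cert rels S Gen.d)) lc_d_rc_18_0 lc_d_rc_20_2 lc_d_rc_21_2 lc_d_rc_3_3 lc_d_rc_20_2 lc_d_rc_21_2 lc_d_rc_9_1 lc_d_rc_21_2 lc_d_rc_9_1 lc_d_rc_21_2 lc_d_rc_9_1 lc_d_rc_9_1 lc_d_rc_28_3 lc_d_Cert_tree lc_d_rc_21_2 lc_d_rc_28_3 lc_d_Cert_tree lc_d_rc_20_2 lc_d_Cert_tree lc_d_rc_3_1 lc_d_rc_18_0 lc_d_rc_21_2 lc_d_Cert_tree lc_d_rc_3_1 lc_d_rc_18_0 lc_d_rc_20_2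 lc_d_Cert_tree lc_d_Cert_tree lc_d_rc_3_1 lc_d_rc_19_2 lc_d_rc_20_2 lc_d_rc_21_2 lc_d_rc_9_1 lc_d_rc_9_1 lc_d_rc_28_7 lc_d_Cert_tree lc_d_rc_21_2 lc_d_rc_9_1 lc_d_rc_28_7 lc_d_Cert_tree) (@D3.rec (fun _ => (Cert rels S Gen.d)) lc_d_rc_28_7 lc_d_rc_9_1 lc_d_rc_9_1 lc_d_Cert_tree lc_d_rc_28_7 lc_d_rc_18_0 lc_d_rc_21_2 lc_d_rc_28_7 lc_d_rc_9_1 lc_d_Cert_tree lc_d_rc_28_7 lc_d_rc_18_0 lc_d_rc_20_2 lc_d_rc_21_2 lc_d_Cert_tree lc_d_rc_18_0 lc_d_rc_21_2 lc_d_rc_28_5 lc_d_rc_19_2 lc_d_rc_21_2 lc_d_rc_9_1 lc_d_Cert_tree lc_d_rc_18_0 lc_d_rc_20_2 lc_d_rc_28_5 lc_d_rc_19_2 lc_d_rc_20_2 lc_d_rc_9_1 lc_d_rc_18_0 lc_d_rc_28_3 lc_d_rc_3_1 lc_d_rc_21_2 lc_d_Cert_tree lc_d_rc_18_0 lc_d_Cert_tree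 lc_d_rc_21_2 lc_d_rc_21_2 lc_d_rc_9_1 lc_d_rc_3_1 lc_d_rc_18_0) (@D3.rec (fun _ => (Cert rels S Gen.d)) lc_d_rc_28_3 lc_d_rc_3_1 lc_d_rc_20_2 lc_d_Cert_tree lc_d_rc_18_0 lc_d_Cert_tree lc_d_rc_20_2 lc_d_rc_20_2 lc_d_rc_9_1 lc_d_rc_3_1 lc_d_rc_9_1 lc_d_rc_9_1 lc_d_rc_9_1 lc_d_Cert_tree lc_d_rc_3_1 lc_d_Cert_tree lc_d_rc_20_2 lc_d_rc_21_2 lc_d_rc_18_0 lc_d_rc_21_2 lc_d_rc_9_1 lc_d_rc_28_3 lc_d_rc_9_1 lc_d_rc_3_1 lc_d_rc_3_1 lc_d_Cert_tree lc_d_rc_20_2 lc_d_rc_9_1 lc_d_rc_9_1 lc_d_rc_9_1 lc_d_Cert_tree lc_d_rc_3_1 lc_d_Cert_tree lc_d_rc_20_2 lc_d_rc_21_2 lc_d_rc_18_0 lc_d_rc_20_2 lc_d_rc_9_1 lc_d_rc_28_5 lc_d_rc_9_1) (@D3.rec (fun _ => (Cert rels S Gen.d)) lc_d_rc_21_2 lc_d_rc_3_1 lc_d_Cert_tree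 lc_d_rc_21_2 lc_d_rc_9_1 lc_d_rc_9_1 lc_d_rc_3_1 lc_d_rc_3_1 lc_d_rc_18_0 lc_d_Cert_tree lc_d_rc_21_2 lc_d_rc_28_5 lc_d_rc_9_1 lc_d_rc_18_0 lc_d_Cert_tree lc_d_rc_20_2 lc_d_rc_28_5 lc_d_rc_9_1 lc_d_rc_28_1 lc_d_Cert_tree lc_d_rc_18_0 lc_d_rc_20_2 lc_d_rc_21_2 lc_d_Cert_tree lc_d_rc_20_2 lc_d_rc_21_2 lc_d_rc_9_1 lc_d_rc_9_1 lc_d_rc_18_0 lc_d_rc_20_2 lc_d_rc_21_2 lc_d_rc_9_1 lc_d_rc_21_2 lc_d_rc_9_1 lc_d_rc_21_0 lc_d_rc_28_7 lc_d_Cert_tree lc_d_rc_21_2 lc_d_rc_9_1 lc_d_rc_28_7) (@D3.rec (fun _ => (Cert rels S Gen.d)) lc_d_Cert_tree lc_d_rc_20_2 lc_d_rc_9_1 lc_d_rc_28_7 lc_d_Cert_tree lc_d_rc_21_2 lc_d_rc_9_1 lc_d_rc_28_7 lc_d_Cert_tree lc_d_rc_20_2 lc_d_rc_9_1 lc_d_rc_9_1 lc_d_Cert_tree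 lc_d_rc_28_3 lc_d_rc_18_0 lc_d_rc_21_2 lc_d_rc_21_2 lc_d_rc_28_3 lc_d_rc_28_3 lc_d_Cert_tree lc_d_rc_20_2 lc_d_rc_9_1 lc_d_Cert_tree lc_d_rc_21_2 lc_d_rc_18_0 lc_d_rc_20_2 lc_d_rc_20_2 lc_d_rc_21_2 lc_d_rc_28_3 lc_d_Cert_tree lc_d_rc_21_2 lc_d_rc_28_5 lc_d_rc_19_2 lc_d_rc_9_1 lc_d_rc_9_1 lc_d_Cert_tree lc_d_rc_18_0 lc_d_rc_28_5 lc_d_rc_19_2 lc_d_rc_9_1) (@D3.rec (fun _ => (Cert rels S Gen.d)) lc_d_rc_9_1 lc_d_Cert_tree lc_d_rc_18_0 lc_d_rc_28_3 lc_d_Cert_tree lc_d_rc_28_3 lc_d_Cert_tree lc_d_rc_20_2 lc_d_rc_20_2 lc_d_Cert_tree lc_d_rc_3_1 lc_d_rc_3_1 lc_d_rc_18_0 lc_d_rc_20_2 lc_d_rc_21_2 lc_d_rc_20_2 lc_d_rc_21_2 lc_d_rc_21_2 lc_d_rc_3_3 lc_d_rc_3_1 lc_d_Cert_tree lc_d_rc_21_2 lc_d_rc_3_1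 lc_d_Cert_tree lc_d_rc_20_2 lc_d_rc_9_1 lc_d_Cert_tree lc_d_rc_18_0 lc_d_rc_21_2 lc_d_rc_9_1 lc_d_rc_28_7 lc_d_Cert_tree lc_d_rc_20_2 lc_d_rc_9_1 lc_d_Cert_tree lc_d_rc_18_0 lc_d_rc_20_2 lc_d_rc_9_1 lc_d_rc_28_7 lc_d_Cert_tree) (@D3.rec (fun _ => (Cert rels S Gen.d)) lc_d_rc_21_2 lc_d_rc_3_1 lc_d_Cert_tree lc_d_rc_20_2 lc_d_rc_21_2 lc_d_Cert_tree lc_d_rc_18_0 lc_d_rc_21_2 lc_d_rc_9_1 lc_d_Cert_tree lc_d_rc_9_1 lc_d_rc_21_2 lc_d_rc_9_1 lc_d_rc_3_3 lc_d_rc_28_3 lc_d_Cert_tree lc_d_rc_28_7 lc_d_rc_9_1 lc_d_rc_9_1 lc_d_Cert_tree lc_d_rc_28_3 lc_d_rc_18_0 lc_d_rc_20_2 lc_d_rc_21_2 lc_d_rc_3_1 lc_d_Cert_tree lc_d_rc_20_2 lc_d_rc_21_2 lc_d_Cert_tree lc_d_rc_18_0 lc_d_rc_20_2 lc_d_rc_9_1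 lc_d_Cert_tree lc_d_rc_9_1 lc_d_rc_20_2 lc_d_rc_9_1 lc_d_rc_21_2 lc_d_rc_28_7 lc_d_Cert_tree lc_d_rc_21_2) (@D3.rec (fun _ => (Cert rels S Gen.d)) lc_d_rc_9_1 lc_d_rc_9_1 lc_d_Cert_tree lc_d_rc_28_7 lc_d_rc_18_0 lc_d_rc_21_2 lc_d_rc_28_7 lc_d_rc_19_2 lc_d_rc_9_1 lc_d_rc_3_1 lc_d_Cert_tree lc_d_rc_19_4 lc_d_rc_18_0 lc_d_rc_28_7 lc_d_Cert_tree lc_d_Cert_tree lc_d_rc_18_0 lc_d_rc_28_5 lc_d_rc_19_2 lc_d_rc_19_2 lc_d_rc_9_1 lc_d_rc_3_1 lc_d_Cert_tree lc_d_rc_28_7 lc_d_rc_18_0 lc_d_rc_28_7 lc_d_Cert_tree lc_d_Cert_tree lc_d_rc_18_0 lc_d_rc_28_5 lc_d_rc_19_2 lc_d_rc_3_3 lc_d_rc_21_2 lc_d_Cert_tree lc_d_Cert_tree lc_d_rc_18_0 lc_d_Cert_tree lc_d_rc_18_0 lc_d_rc_21_2 lc_d_rc_28_3) (@D3.rec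 (fun _ => (Cert rels S Gen.d)) lc_d_rc_3_1 lc_d_Cert_tree lc_d_rc_18_0 lc_d_Cert_tree lc_d_rc_20_2 lc_d_rc_20_2 lc_d_Cert_tree lc_d_Cert_tree lc_d_rc_18_0 lc_d_Cert_tree lc_d_rc_18_0 lc_d_rc_20_2 lc_d_rc_28_3 lc_d_rc_3_1 lc_d_Cert_tree lc_d_rc_18_0 lc_d_Cert_tree lc_d_rc_19_2 lc_d_rc_19_2 lc_d_rc_9_1 lc_d_rc_28_5 lc_d_rc_9_1 lc_d_rc_3_1 lc_d_rc_20_2 lc_d_rc_21_2 lc_d_rc_9_1 lc_d_rc_3_1 lc_d_Cert_tree lc_d_rc_21_2 lc_d_rc_9_1 lc_d_rc_9_1 lc_d_rc_28_3 lc_d_rc_9_1 lc_d_rc_3_1 lc_d_rc_21_2 lc_d_rc_3_1 lc_d_rc_9_1 lc_d_rc_3_1 lc_d_Cert_tree lc_d_rc_20_2) (@D3.rec (fun _ => (Cert rels S Gen.d)) lc_d_rc_9_1 lc_d_rc_9_1 lc_d_Cert_tree lc_d_rc_18_0 lc_d_rc_20_2 lc_d_rc_21_2 lc_d_Cert_tree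 lc_d_rc_18_0 lc_d_rc_20_2 lc_d_rc_21_2 lc_d_rc_20_2 lc_d_rc_21_2 lc_d_rc_9_1 lc_d_rc_9_1 lc_d_rc_9_1 lc_d_rc_28_7 lc_d_rc_28_7 lc_d_rc_20_2 lc_d_rc_21_2 lc_d_rc_21_2 lc_d_rc_28_7 lc_d_rc_3_1 lc_d_rc_21_2 lc_d_rc_3_1 lc_d_rc_20_2 lc_d_rc_32_30 lc_d_rc_20_2 lc_d_rc_21_2 lc_d_rc_9_1 lc_d_rc_9_1 lc_d_rc_19_2 lc_d_rc_20_2 lc_d_rc_21_2 lc_d_rc_9_1 lc_d_rc_9_1 lc_d_Cert_tree lc_d_Cert_tree lc_d_Cert_tree lc_d_rc_18_0 lc_d_rc_20_2) (@D3.rec (fun _ => (Cert rels S Gen.d)) lc_d_rc_21_2 lc_d_rc_20_2 lc_d_rc_21_2 lc_d_rc_9_1 lc_d_rc_21_2 lc_d_rc_9_1 lc_d_rc_3_3 lc_d_Cert_tree lc_d_rc_21_2 lc_d_rc_9_1 lc_d_Cert_tree lc_d_rc_20_2 lc_d_rc_9_1 lc_d_Cert_tree lc_d_rc_18_0 lc_d_rc_20_2 lc_d_rc_21_2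 lc_d_Cert_tree lc_d_rc_9_1 lc_d_rc_20_2 lc_d_rc_21_2 lc_d_rc_9_1 lc_d_rc_21_2 lc_d_rc_9_1 lc_d_rc_21_2 lc_d_rc_20_2 lc_d_rc_21_2 lc_d_rc_9_1 lc_d_rc_21_2 lc_d_rc_9_1 lc_d_rc_3_1 lc_d_rc_3_1 lc_d_Cert_tree lc_d_rc_21_2 lc_d_rc_9_1 lc_d_rc_3_1 lc_d_Cert_tree lc_d_rc_20_2 lc_d_rc_9_1 lc_d_Cert_tree) (@D3.rec (fun _ => (Cert rels S Gen.d)) lc_d_rc_18_0 lc_d_rc_21_2 lc_d_Cert_tree lc_d_Cert_tree lc_d_rc_18_0 lc_d_rc_20_2 lc_d_Cert_tree lc_d_Cert_tree lc_d_rc_18_0 lc_d_Cert_tree lc_d_rc_19_2 lc_d_rc_21_2 lc_d_rc_18_0 lc_d_Cert_tree lc_d_rc_18_0 lc_d_Cert_tree lc_d_rc_19_2 lc_d_rc_20_2 lc_d_rc_18_0 lc_d_rc_18_0 lc_d_rc_3_1 lc_d_rc_19_2 lc_d_rc_18_0 lc_d_rc_3_1 lc_d_rc_19_2 lc_d_Cert_tree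 lc_d_rc_18_0 lc_d_rc_20_2 lc_d_rc_21_2 lc_d_rc_28_3 lc_d_rc_20_2 lc_d_rc_21_2 lc_d_rc_9_1 lc_d_rc_21_2 lc_d_rc_9_1 lc_d_rc_21_2 lc_d_rc_9_1 lc_d_rc_21_2 lc_d_rc_9_1 lc_d_rc_3_1) (@D3.rec (fun _ => (Cert rels S Gen.d)) lc_d_rc_3_1 lc_d_Cert_tree lc_d_rc_21_2 lc_d_rc_9_1 lc_d_rc_3_1 lc_d_Cert_tree lc_d_rc_20_2 lc_d_rc_9_1 lc_d_rc_9_1 lc_d_Cert_tree lc_d_rc_18_0 lc_d_rc_21_2 lc_d_rc_21_2 lc_d_rc_19_2 lc_d_rc_28_7 lc_d_Cert_tree lc_d_rc_9_1 lc_d_Cert_tree lc_d_rc_18_0 lc_d_rc_20_2 lc_d_rc_20_2 lc_d_rc_20_2 lc_d_rc_28_7 lc_d_Cert_tree lc_d_Cert_tree lc_d_rc_28_3 lc_d_Cert_tree lc_d_Cert_tree lc_d_rc_18_0 lc_d_Cert_tree lc_d_rc_28_3 lc_d_Cert_tree lc_d_Cert_tree lc_d_rc_18_0 lc_d_rc_20_2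 lc_d_rc_20_2 lc_d_rc_3_1 lc_d_rc_20_2 lc_d_rc_21_2 lc_d_rc_9_1) (@D3.rec (fun _ => (Cert rels S Gen.d)) lc_d_rc_9_1 lc_d_rc_3_1 lc_d_Cert_tree lc_d_rc_21_2 lc_d_rc_9_1 lc_d_rc_3_1 lc_d_Cert_tree lc_d_rc_3_3 lc_d_rc_9_1 lc_d_rc_9_1 lc_d_Cert_tree lc_d_rc_3_1 lc_d_rc_18_0 lc_d_rc_21_2 lc_d_rc_21_2 lc_d_rc_3_3 lc_d_rc_3_1 lc_d_Cert_tree lc_d_rc_20_2 lc_d_rc_9_1 lc_d_Cert_tree lc_d_rc_3_1 lc_d_rc_18_0 lc_d_rc_20_2 lc_d_rc_20_2 lc_d_rc_21_2 lc_d_rc_3_1 lc_d_Cert_tree lc_d_rc_21_2 lc_d_Cert_tree lc_d_Cert_tree lc_d_rc_18_0 lc_d_rc_28_5 lc_d_rc_19_2 lc_d_rc_21_2 lc_d_rc_9_1 lc_d_rc_20_2 lc_d_rc_3_1 lc_d_Cert_tree lc_d_Cert_tree) (@D3.rec (fun _ => (Cert rels S Gen.d)) lc_d_rc_18_0 lc_d_Cert_tree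 lc_d_Cert_tree lc_d_rc_18_0 lc_d_rc_28_5 lc_d_rc_19_2 lc_d_rc_20_2 lc_d_rc_9_1 lc_d_rc_21_2 lc_d_rc_3_1 lc_d_Cert_tree lc_d_Cert_tree lc_d_rc_18_0 lc_d_rc_28_3 lc_d_rc_3_1 lc_d_Cert_tree lc_d_rc_18_0 lc_d_Cert_tree lc_d_rc_21_2 lc_d_rc_21_2 lc_d_rc_9_1 lc_d_rc_3_1 lc_d_rc_3_1 lc_d_rc_9_1 lc_d_rc_28_1 lc_d_rc_18_0 lc_d_rc_18_0 lc_d_Cert_tree lc_d_rc_19_2 lc_d_rc_28_3 lc_d_rc_3_1 lc_d_Cert_tree lc_d_rc_18_0 lc_d_Cert_tree lc_d_rc_20_2 lc_d_rc_20_2 lc_d_rc_9_1 lc_d_rc_21_2 lc_d_rc_3_1 lc_d_rc_21_2)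
def ce_d_2 : D2 → D3 → (Cert rels S Gen.d) := @D2.rec (fun _ => D3 → (Cert rels S Gen.d)) (@D3.rec (fun _ => (Cert rels S Gen.d)) lc_d_rc_9_1 lc_d_rc_18_0 lc_d_rc_18_0 lc_d_Cert_tree lc_d_rc_19_2 lc_d_rc_3_1 lc_d_Cert_tree lc_d_rc_20_2 lc_d_rc_21_2 lc_d_rc_18_0 lc_d_rc_21_2 lc_d_rc_9_1 lc_d_rc_9_1 lc_d_rc_3_1 lc_d_Cert_tree lc_d_rc_20_2 lc_d_rc_9_1 lc_d_Cert_tree lc_d_rc_3_1 lc_d_Cert_tree lc_d_rc_20_2 lc_d_rc_21_2 lc_d_rc_18_0 lc_d_rc_20_2 lc_d_rc_9_1 lc_d_rc_9_1 lc_d_rc_3_1 lc_d_Cert_tree lc_d_rc_21_2 lc_d_rc_9_1 lc_d_Cert_tree lc_d_rc_9_1 lc_d_Cert_tree lc_d_rc_18_0 lc_d_rc_20_2 lc_d_rc_21_2 lc_d_rc_3_3 lc_d_rc_18_0 lc_d_rc_20_2 lc_d_rc_21_2) (@D3.rec (fun _ => (Cert rels S Gen.d))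 lc_d_rc_19_2 lc_d_rc_20_2 lc_d_rc_21_2 lc_d_rc_9_1 lc_d_rc_9_1 lc_d_Cert_tree lc_d_rc_18_0 lc_d_rc_20_2 lc_d_rc_21_2 lc_d_Cert_tree lc_d_rc_19_2 lc_d_rc_20_2 lc_d_rc_21_2 lc_d_rc_9_1 lc_d_rc_21_2 lc_d_rc_9_1 lc_d_rc_21_2 lc_d_rc_19_2 lc_d_rc_19_2 lc_d_rc_9_1 lc_d_rc_9_1 lc_d_rc_3_1 lc_d_rc_21_2 lc_d_rc_3_1 lc_d_rc_20_2 lc_d_rc_20_2 lc_d_rc_21_2 lc_d_rc_20_2 lc_d_rc_21_2 lc_d_rc_21_2 lc_d_rc_21_2 lc_d_rc_19_2 lc_d_rc_19_2 lc_d_rc_9_1 lc_d_rc_21_2 lc_d_rc_9_1 lc_d_rc_3_1 lc_d_rc_3_1 lc_d_Cert_tree lc_d_rc_21_2) (@D3.rec (fun _ => (Cert rels S Gen.d)) lc_d_rc_9_1 lc_d_rc_3_1 lc_d_Cert_tree lc_d_rc_20_2 lc_d_rc_9_1 lc_d_rc_18_0 lc_d_rc_28_7 lc_d_Cert_tree lc_d_rc_18_0 lc_d_rc_28_7 lc_d_Cert_tree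 lc_d_Cert_tree lc_d_rc_18_0 lc_d_Cert_tree lc_d_rc_18_0 lc_d_rc_20_2 lc_d_rc_21_2 lc_d_rc_9_1 lc_d_rc_9_1 lc_d_rc_9_1 lc_d_rc_21_2 lc_d_rc_9_1 lc_d_rc_21_0 lc_d_rc_3_1 lc_d_Cert_tree lc_d_rc_21_2 lc_d_rc_9_1 lc_d_rc_3_1 lc_d_Cert_tree lc_d_rc_20_2 lc_d_rc_9_1 lc_d_rc_20_2 lc_d_rc_21_2 lc_d_rc_9_1 lc_d_rc_9_1 lc_d_rc_9_1 lc_d_rc_19_2 lc_d_rc_9_1 lc_d_rc_19_2 lc_d_rc_3_1) (@D3.rec (fun _ => (Cert rels S Gen.d)) lc_d_Cert_tree lc_d_rc_21_2 lc_d_rc_9_1 lc_d_rc_3_1 lc_d_Cert_tree lc_d_rc_20_2 lc_d_rc_9_1 lc_d_rc_9_1 lc_d_Cert_tree lc_d_rc_3_1 lc_d_rc_18_0 lc_d_rc_21_2 lc_d_rc_21_2 lc_d_rc_3_3 lc_d_rc_28_3 lc_d_Cert_tree lc_d_rc_20_2 lc_d_rc_9_1 lc_d_Cert_tree lc_d_rc_21_2 lc_d_rc_18_0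 lc_d_rc_20_2 lc_d_rc_20_2 lc_d_rc_21_2 lc_d_rc_28_3 lc_d_Cert_tree lc_d_rc_21_2 lc_d_rc_3_1 lc_d_rc_19_2 lc_d_Cert_tree lc_d_rc_18_0 lc_d_rc_20_0 lc_d_rc_19_2 lc_d_Cert_tree lc_d_rc_18_0 lc_d_Cert_tree lc_d_rc_18_0 lc_d_Cert_tree lc_d_Cert_tree lc_d_Cert_tree) (@D3.rec (fun _ => (Cert rels S Gen.d)) lc_d_rc_18_0 lc_d_Cert_tree lc_d_Cert_tree lc_d_rc_3_3 lc_d_rc_18_0 lc_d_rc_20_2 lc_d_rc_21_2 lc_d_rc_32_38 lc_d_rc_20_2 lc_d_rc_21_2 lc_d_rc_9_1 lc_d_rc_9_1 lc_d_rc_20_2 lc_d_rc_21_2 lc_d_rc_9_1 lc_d_rc_21_2 lc_d_rc_9_1 lc_d_rc_21_0 lc_d_rc_28_3 lc_d_Cert_tree lc_d_rc_21_2 lc_d_rc_9_1 lc_d_rc_28_3 lc_d_Cert_tree lc_d_rc_20_2 lc_d_rc_9_1 lc_d_rc_28_7 lc_d_Cert_tree lc_d_rc_21_2 lc_d_rc_28_7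 lc_d_Cert_tree lc_d_rc_20_2 lc_d_rc_9_1 lc_d_Cert_tree lc_d_rc_28_3 lc_d_rc_18_0 lc_d_rc_21_2 lc_d_rc_28_3 lc_d_rc_9_1 lc_d_Cert_tree) (@D3.rec (fun _ => (Cert rels S Gen.d)) lc_d_rc_21_2 lc_d_rc_18_0 lc_d_rc_20_2 lc_d_rc_21_2 lc_d_Cert_tree lc_d_rc_18_0 lc_d_rc_28_5 lc_d_rc_19_2 lc_d_rc_21_2 lc_d_rc_9_1 lc_d_Cert_tree lc_d_rc_18_0 lc_d_rc_28_3 lc_d_rc_19_2 lc_d_rc_20_2 lc_d_rc_9_1 lc_d_Cert_tree lc_d_rc_18_0 lc_d_Cert_tree lc_d_rc_18_0 lc_d_rc_3_1 lc_d_rc_3_1 lc_d_rc_19_2 lc_d_rc_19_2 lc_d_rc_20_2 lc_d_rc_21_2 lc_d_rc_21_2 lc_d_rc_3_1 lc_d_rc_3_1 lc_d_rc_20_2 lc_d_rc_21_2 lc_d_rc_3_1 lc_d_rc_20_0 lc_d_rc_20_2 lc_d_rc_9_1 lc_d_Cert_tree lc_d_rc_18_0 lc_d_rc_21_2 lc_d_rc_9_1 lc_d_rc_28_3)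 (@D3.rec (fun _ => (Cert rels S Gen.d)) lc_d_Cert_tree lc_d_rc_20_2 lc_d_rc_9_1 lc_d_Cert_tree lc_d_rc_18_0 lc_d_rc_20_2 lc_d_rc_9_1 lc_d_rc_28_3 lc_d_Cert_tree lc_d_rc_21_2 lc_d_rc_3_1 lc_d_rc_20_2 lc_d_rc_21_2 lc_d_Cert_tree lc_d_rc_18_0 lc_d_rc_21_2 lc_d_rc_9_1 lc_d_rc_28_5 lc_d_rc_9_1 lc_d_rc_21_2 lc_d_rc_9_1 lc_d_rc_3_3 lc_d_rc_9_1 lc_d_rc_3_1 lc_d_rc_20_2 lc_d_rc_21_2 lc_d_Cert_tree lc_d_rc_18_0 lc_d_rc_20_2 lc_d_rc_9_1 lc_d_rc_28_5 lc_d_rc_9_1 lc_d_rc_20_2 lc_d_rc_9_1 lc_d_rc_21_2 lc_d_rc_9_1 lc_d_Cert_tree lc_d_rc_18_0 lc_d_rc_20_2 lc_d_rc_21_2) (@D3.rec (fun _ => (Cert rels S Gen.d)) lc_d_rc_3_1 lc_d_rc_21_2 lc_d_rc_9_1 lc_d_rc_9_1 lc_d_Cert_tree lc_d_rc_28_5 lc_d_rc_21_2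 lc_d_rc_9_1 lc_d_rc_3_1 lc_d_rc_20_2 lc_d_Cert_tree lc_d_rc_18_0 lc_d_rc_20_2 lc_d_rc_21_2 lc_d_rc_3_1 lc_d_rc_20_2 lc_d_rc_9_1 lc_d_rc_9_1 lc_d_Cert_tree lc_d_rc_28_5 lc_d_rc_20_2 lc_d_rc_9_1 lc_d_rc_3_1 lc_d_rc_21_2 lc_d_Cert_tree lc_d_rc_9_1 lc_d_rc_19_4 lc_d_rc_28_3 lc_d_Cert_tree lc_d_rc_18_0 lc_d_Cert_tree lc_d_rc_20_2 lc_d_rc_21_2 lc_d_Cert_tree lc_d_rc_21_2 lc_d_rc_18_0 lc_d_rc_21_2 lc_d_rc_9_1 lc_d_rc_9_1 lc_d_rc_3_1) (@D3.rec (fun _ => (Cert rels S Gen.d)) lc_d_Cert_tree lc_d_Cert_tree lc_d_rc_9_1 lc_d_rc_19_4 lc_d_rc_28_3 lc_d_Cert_tree lc_d_rc_18_0 lc_d_Cert_tree lc_d_rc_20_2 lc_d_rc_21_2 lc_d_Cert_tree lc_d_rc_20_2 lc_d_rc_18_0 lc_d_rc_20_2 lc_d_rc_9_1 lc_d_rc_9_1 lc_d_rc_3_1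 lc_d_Cert_tree lc_d_rc_3_1 lc_d_rc_19_4 lc_d_rc_20_2 lc_d_rc_21_2 lc_d_rc_18_0 lc_d_rc_9_1 lc_d_rc_28_1 lc_d_rc_19_2 lc_d_rc_3_1 lc_d_rc_18_0 lc_d_rc_3_1 lc_d_rc_21_2 lc_d_rc_21_2 lc_d_rc_9_1 lc_d_rc_19_2 lc_d_rc_28_5 lc_d_rc_21_2 lc_d_rc_9_1 lc_d_rc_28_3 lc_d_rc_3_1 lc_d_Cert_tree lc_d_rc_9_3) (@D3.rec (fun _ => (Cert rels S Gen.d)) lc_d_rc_9_1 lc_d_rc_3_1 lc_d_Cert_tree lc_d_rc_9_1 lc_d_Cert_tree lc_d_rc_18_0 lc_d_rc_20_2 lc_d_Cert_tree lc_d_rc_3_1 lc_d_rc_3_1 lc_d_rc_20_2 lc_d_rc_21_2 lc_d_rc_18_0 lc_d_rc_9_1 lc_d_rc_9_3 lc_d_rc_3_1 lc_d_rc_3_1 lc_d_rc_18_0 lc_d_rc_20_2 lc_d_rc_9_3 lc_d_rc_9_1 lc_d_rc_20_2 lc_d_rc_20_2 lc_d_rc_28_5 lc_d_rc_20_2 lc_d_rc_9_1 lc_d_rc_28_3 lc_d_rc_3_1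 lc_d_Cert_tree lc_d_rc_9_3 lc_d_rc_9_1 lc_d_rc_3_1 lc_d_Cert_tree lc_d_rc_9_1 lc_d_Cert_tree lc_d_rc_18_0 lc_d_rc_21_2 lc_d_Cert_tree lc_d_Cert_tree lc_d_Cert_tree) (@D3.rec (fun _ => (Cert rels S Gen.d)) lc_d_rc_18_0 lc_d_rc_21_2 lc_d_rc_20_2 lc_d_rc_3_1 lc_d_rc_20_2 lc_d_rc_21_2 lc_d_Cert_tree lc_d_Cert_tree lc_d_rc_18_0 lc_d_rc_20_2 lc_d_rc_28_1 lc_d_rc_3_1 lc_d_rc_20_2 lc_d_rc_21_2 lc_d_Cert_tree lc_d_rc_28_1 lc_d_rc_28_1 lc_d_rc_18_0 lc_d_rc_20_2 lc_d_rc_21_2 lc_d_rc_20_2 lc_d_rc_21_2 lc_d_rc_9_1 lc_d_rc_21_2 lc_d_rc_9_1 lc_d_rc_3_3 lc_d_Cert_tree lc_d_rc_18_0 lc_d_rc_20_2 lc_d_rc_21_2 lc_d_rc_9_1 lc_d_rc_9_1 lc_d_rc_28_3 lc_d_Cert_tree lc_d_rc_21_2 lc_d_rc_28_3 lc_d_Cert_tree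 lc_d_rc_20_2 lc_d_rc_20_2 lc_d_rc_21_2) (@D3.rec (fun _ => (Cert rels S Gen.d)) lc_d_rc_9_1 lc_d_rc_21_2 lc_d_rc_9_1 lc_d_rc_3_3 lc_d_rc_3_1 lc_d_Cert_tree lc_d_rc_21_2 lc_d_rc_9_1 lc_d_rc_3_1 lc_d_Cert_tree lc_d_rc_20_2 lc_d_rc_9_1 lc_d_rc_9_1 lc_d_Cert_tree lc_d_rc_18_0 lc_d_rc_21_2 lc_d_rc_21_2 lc_d_rc_28_3 lc_d_Cert_tree lc_d_rc_20_2 lc_d_rc_9_1 lc_d_Cert_tree lc_d_rc_18_0 lc_d_rc_20_2 lc_d_rc_20_2 lc_d_rc_28_3 lc_d_Cert_tree lc_d_rc_21_2 lc_d_rc_9_1 lc_d_Cert_tree lc_d_rc_28_7 lc_d_rc_18_0 lc_d_rc_21_2 lc_d_rc_21_2 lc_d_rc_28_7 lc_d_rc_28_7 lc_d_Cert_tree lc_d_rc_20_2 lc_d_rc_9_1 lc_d_Cert_tree) (@D3.rec (fun _ => (Cert rels S Gen.d)) lc_d_rc_21_0 lc_d_rc_18_0 lc_d_rc_20_2 lc_d_rc_20_2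 lc_d_rc_21_2 lc_d_rc_28_7 lc_d_Cert_tree lc_d_rc_21_2 lc_d_rc_28_1 lc_d_Cert_tree lc_d_rc_20_2 lc_d_rc_21_2 lc_d_Cert_tree lc_d_rc_18_0 lc_d_rc_21_2 lc_d_rc_9_1 lc_d_Cert_tree lc_d_rc_9_1 lc_d_rc_21_2 lc_d_rc_9_1 lc_d_rc_3_3 lc_d_rc_28_3 lc_d_Cert_tree lc_d_rc_28_7 lc_d_rc_9_1 lc_d_rc_9_1 lc_d_Cert_tree lc_d_rc_28_3 lc_d_rc_18_0 lc_d_rc_20_2 lc_d_rc_21_2 lc_d_rc_28_1 lc_d_Cert_tree lc_d_rc_20_2 lc_d_rc_21_2 lc_d_Cert_tree lc_d_rc_18_0 lc_d_rc_20_2 lc_d_rc_9_1 lc_d_Cert_tree) (@D3.rec (fun _ => (Cert rels S Gen.d)) lc_d_rc_9_1 lc_d_rc_20_2 lc_d_rc_9_1 lc_d_rc_21_2 lc_d_rc_28_3 lc_d_Cert_tree lc_d_rc_21_2 lc_d_rc_9_1 lc_d_rc_9_1 lc_d_Cert_tree lc_d_rc_28_3 lc_d_rc_18_0 lc_d_rc_21_2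 lc_d_rc_28_7 lc_d_rc_9_1 lc_d_rc_19_2 lc_d_rc_28_7 lc_d_rc_20_2 lc_d_rc_28_7 lc_d_Cert_tree lc_d_Cert_tree lc_d_rc_18_0 lc_d_rc_28_5 lc_d_rc_19_2 lc_d_rc_9_1 lc_d_rc_19_2 lc_d_rc_28_7 lc_d_rc_21_2 lc_d_rc_28_7 lc_d_Cert_tree lc_d_Cert_tree lc_d_rc_18_0 lc_d_rc_28_7 lc_d_rc_19_2 lc_d_Cert_tree lc_d_rc_18_0 lc_d_Cert_tree lc_d_rc_18_0 lc_d_rc_9_1 lc_d_rc_9_1) (@D3.rec (fun _ => (Cert rels S Gen.d)) lc_d_rc_18_0 lc_d_rc_20_2 lc_d_rc_21_2 lc_d_rc_9_1 lc_d_rc_9_1 lc_d_Cert_tree lc_d_rc_19_2 lc_d_rc_20_2 lc_d_rc_21_2 lc_d_rc_9_1 lc_d_rc_21_2 lc_d_rc_9_1 lc_d_rc_21_2 lc_d_rc_20_2 lc_d_Cert_tree lc_d_rc_21_2 lc_d_rc_3_3 lc_d_rc_20_0 lc_d_Cert_tree lc_d_rc_9_3 lc_d_rc_3_3 lc_d_rc_9_1 lc_d_Cert_tree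 lc_d_rc_3_1 lc_d_rc_18_0 lc_d_rc_21_2 lc_d_rc_20_2 lc_d_rc_9_1 lc_d_Cert_tree lc_d_rc_3_1 lc_d_rc_18_0 lc_d_rc_20_2 lc_d_rc_9_3 lc_d_rc_3_1 lc_d_rc_3_1 lc_d_rc_20_2 lc_d_rc_21_2 lc_d_Cert_tree lc_d_rc_18_0 lc_d_Cert_tree) (@D3.rec (fun _ => (Cert rels S Gen.d)) lc_d_rc_20_2 lc_d_rc_21_2 lc_d_rc_9_1 lc_d_rc_3_1 lc_d_Cert_tree lc_d_rc_20_2 lc_d_rc_3_3 lc_d_Cert_tree lc_d_rc_21_2 lc_d_rc_18_0 lc_d_rc_20_2 lc_d_rc_21_2 lc_d_rc_3_1 lc_d_rc_3_1 lc_d_rc_20_2 lc_d_rc_21_2 lc_d_Cert_tree lc_d_rc_18_0 lc_d_Cert_tree lc_d_rc_21_2 lc_d_rc_20_2 lc_d_rc_9_1 lc_d_rc_3_1 lc_d_Cert_tree lc_d_rc_21_2 lc_d_rc_21_0 lc_d_Cert_tree lc_d_rc_28_7 lc_d_rc_18_0 lc_d_rc_21_2 lc_d_rc_3_3 lc_d_rc_3_1 lc_d_rc_3_1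 lc_d_rc_20_2 lc_d_rc_18_0 lc_d_rc_9_1 lc_d_rc_21_2 lc_d_rc_21_2 lc_d_rc_21_2 lc_d_rc_3_3) (@D3.rec (fun _ => (Cert rels S Gen.d)) lc_d_Cert_tree lc_d_rc_18_0 lc_d_rc_20_2 lc_d_rc_21_2 lc_d_rc_28_3 lc_d_rc_3_1 lc_d_rc_21_2 lc_d_rc_9_1 lc_d_rc_28_7 lc_d_Cert_tree lc_d_rc_20_2 lc_d_rc_18_0 lc_d_Cert_tree lc_d_rc_21_2 lc_d_rc_21_2 lc_d_rc_9_1 lc_d_rc_3_1 lc_d_rc_3_1 lc_d_Cert_tree lc_d_rc_20_2 lc_d_rc_9_1 lc_d_rc_9_1 lc_d_Cert_tree lc_d_rc_18_0 lc_d_rc_20_2 lc_d_rc_9_1 lc_d_rc_3_1 lc_d_Cert_tree lc_d_rc_21_2 lc_d_rc_3_1 lc_d_Cert_tree lc_d_rc_20_2 lc_d_rc_21_2 lc_d_Cert_tree lc_d_rc_18_0 lc_d_rc_20_2 lc_d_rc_9_1 lc_d_Cert_tree lc_d_rc_9_1 lc_d_rc_20_2) (@D3.rec (fun _ => (Cert rels S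 Gen.d)) lc_d_rc_21_2 lc_d_rc_9_1 lc_d_rc_3_1 lc_d_rc_3_1 lc_d_rc_28_7 lc_d_rc_18_0 lc_d_rc_20_2 lc_d_rc_9_1 lc_d_rc_20_2 lc_d_rc_21_2 lc_d_rc_3_3 lc_d_Cert_tree lc_d_rc_18_0 lc_d_rc_20_2 lc_d_rc_21_2 lc_d_rc_28_3 lc_d_rc_3_1 lc_d_rc_20_2 lc_d_rc_9_1 lc_d_rc_28_7 lc_d_Cert_tree lc_d_rc_21_2 lc_d_rc_18_0 lc_d_Cert_tree lc_d_rc_20_2 lc_d_rc_20_2 lc_d_rc_9_1 lc_d_rc_21_2 lc_d_rc_3_1 lc_d_Cert_tree lc_d_rc_21_2 lc_d_rc_9_1 lc_d_rc_9_1 lc_d_Cert_tree lc_d_rc_18_0 lc_d_rc_21_2 lc_d_rc_9_1 lc_d_rc_3_1 lc_d_Cert_tree lc_d_rc_20_2) (@D3.rec (fun _ => (Cert rels S Gen.d)) lc_d_rc_3_1 lc_d_Cert_tree lc_d_rc_20_2 lc_d_rc_21_2 lc_d_Cert_tree lc_d_rc_18_0 lc_d_rc_21_2 lc_d_rc_9_1 lc_d_rc_28_5 lc_d_rc_9_1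 lc_d_rc_21_2 lc_d_rc_3_3 lc_d_rc_9_1 lc_d_rc_19_2 lc_d_rc_3_1 lc_d_rc_19_0 lc_d_rc_9_1 lc_d_Cert_tree lc_d_rc_19_4 lc_d_rc_18_0 lc_d_rc_20_2 lc_d_rc_19_4 lc_d_rc_19_2 lc_d_Cert_tree lc_d_Cert_tree lc_d_rc_18_0 lc_d_Cert_tree lc_d_rc_18_0 lc_d_rc_20_2 lc_d_rc_21_2 lc_d_rc_3_1 lc_d_rc_9_1 lc_d_Cert_tree lc_d_rc_19_2 lc_d_rc_3_1 lc_d_rc_28_7 lc_d_rc_9_1 lc_d_Cert_tree lc_d_rc_28_1 lc_d_rc_18_0) (@D3.rec (fun _ => (Cert rels S Gen.d)) lc_d_rc_21_2 lc_d_rc_28_1 lc_d_rc_19_2 lc_d_Cert_tree lc_d_Cert_tree lc_d_rc_18_0 lc_d_Cert_tree lc_d_rc_18_0 lc_d_rc_20_2 lc_d_rc_21_2 lc_d_rc_3_1 lc_d_rc_9_1 lc_d_Cert_tree lc_d_rc_9_1 lc_d_rc_28_3 lc_d_rc_18_0 lc_d_rc_18_0 lc_d_Cert_tree lc_d_rc_19_2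 lc_d_rc_18_0 lc_d_Cert_tree lc_d_rc_21_2 lc_d_rc_9_1 lc_d_Cert_tree lc_d_Cert_tree lc_d_rc_18_0 lc_d_Cert_tree lc_d_rc_20_2 lc_d_rc_21_2 lc_d_Cert_tree lc_d_rc_18_0 lc_d_rc_9_1 lc_d_rc_28_3 lc_d_rc_18_0 lc_d_rc_18_0 lc_d_Cert_tree lc_d_rc_19_2 lc_d_rc_18_0 lc_d_Cert_tree lc_d_rc_20_2) (@D3.rec (fun _ => (Cert rels S Gen.d)) lc_d_rc_9_1 lc_d_Cert_tree lc_d_Cert_tree lc_d_rc_18_0 lc_d_Cert_tree lc_d_rc_20_2 lc_d_rc_21_2 lc_d_Cert_tree lc_d_rc_18_0 lc_d_rc_3_1 lc_d_rc_20_2 lc_d_rc_9_1 lc_d_Cert_tree lc_d_rc_9_1 lc_d_rc_3_1 lc_d_rc_28_3 lc_d_rc_20_2 lc_d_rc_3_1 lc_d_rc_3_1 lc_d_Cert_tree lc_d_rc_21_2 lc_d_rc_9_1 lc_d_rc_28_3 lc_d_rc_18_0 lc_d_rc_21_2 lc_d_rc_9_1 lc_d_Cert_tree lc_d_rc_3_3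 lc_d_rc_28_7 lc_d_rc_9_1 lc_d_rc_3_1 lc_d_Cert_tree lc_d_rc_20_2 lc_d_rc_9_1 lc_d_rc_28_1 lc_d_rc_18_0 lc_d_rc_20_2 lc_d_rc_28_7 lc_d_rc_20_2 lc_d_rc_21_2) (@D3.rec (fun _ => (Cert rels S Gen.d)) lc_d_rc_9_3 lc_d_rc_18_0 lc_d_rc_20_2 lc_d_rc_21_2 lc_d_rc_28_5 lc_d_rc_20_2 lc_d_rc_21_2 lc_d_rc_21_2 lc_d_rc_21_2 lc_d_Cert_tree lc_d_rc_18_0 lc_d_rc_20_2 lc_d_rc_21_2 lc_d_rc_3_1 lc_d_rc_20_2 lc_d_rc_21_2 lc_d_rc_9_1 lc_d_rc_21_2 lc_d_rc_9_1 lc_d_rc_21_2 lc_d_rc_9_1 lc_d_rc_9_1 lc_d_rc_3_1 lc_d_rc_21_2 lc_d_rc_3_1 lc_d_rc_20_2 lc_d_rc_3_1 lc_d_rc_28_7 lc_d_rc_20_2 lc_d_rc_21_2 lc_d_rc_9_1 lc_d_rc_9_1 lc_d_rc_3_1 lc_d_rc_21_2 lc_d_rc_9_1 lc_d_rc_3_1 lc_d_rc_3_1 lc_d_rc_9_1 lc_d_rc_9_1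 lc_d_rc_3_1) (@D3.rec (fun _ => (Cert rels S Gen.d)) lc_d_rc_3_1 lc_d_rc_9_1 lc_d_rc_3_1 lc_d_rc_21_2 lc_d_rc_20_2 lc_d_rc_21_2 lc_d_rc_9_1 lc_d_rc_9_1 lc_d_Cert_tree lc_d_Cert_tree lc_d_rc_19_2 lc_d_rc_20_2 lc_d_rc_21_2 lc_d_rc_20_2 lc_d_rc_28_1 lc_d_rc_21_2 lc_d_rc_21_2 lc_d_rc_3_1 lc_d_Cert_tree lc_d_rc_21_2 lc_d_rc_3_1 lc_d_Cert_tree lc_d_rc_20_2 lc_d_rc_18_0 lc_d_rc_18_0 lc_d_rc_28_1 lc_d_rc_18_0 lc_d_rc_28_1 lc_d_rc_28_1 lc_d_rc_20_2 lc_d_rc_21_2 lc_d_rc_9_1 lc_d_rc_21_2 lc_d_rc_9_1 lc_d_rc_3_3 lc_d_rc_9_1 lc_d_rc_21_2 lc_d_rc_9_1 lc_d_rc_3_1 lc_d_rc_3_1) (@D3.rec (fun _ => (Cert rels S Gen.d)) lc_d_Cert_tree lc_d_rc_21_2 lc_d_rc_9_1 lc_d_rc_3_1 lc_d_Cert_tree lc_d_rc_20_2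 lc_d_rc_9_1 lc_d_rc_18_0 lc_d_rc_21_2 lc_d_Cert_tree lc_d_rc_18_0 lc_d_rc_20_2 lc_d_Cert_tree lc_d_rc_18_0 lc_d_rc_20_2 lc_d_rc_3_1 lc_d_rc_28_3 lc_d_rc_20_2 lc_d_rc_20_2 lc_d_rc_21_2 lc_d_rc_19_2 lc_d_rc_19_2 lc_d_rc_18_0 lc_d_Cert_tree lc_d_rc_20_2 lc_d_rc_21_2 lc_d_rc_28_7 lc_d_rc_28_7 lc_d_rc_9_1 lc_d_rc_21_2 lc_d_rc_9_1 lc_d_rc_21_0 lc_d_rc_3_1 lc_d_rc_28_5 lc_d_rc_21_2 lc_d_rc_9_1 lc_d_rc_3_1 lc_d_rc_28_5 lc_d_rc_20_2 lc_d_rc_9_1) (@D3.rec (fun _ => (Cert rels S Gen.d)) lc_d_rc_9_1 lc_d_rc_21_2 lc_d_rc_9_1 lc_d_rc_28_7 lc_d_rc_3_1 lc_d_rc_19_2 lc_d_rc_21_2 lc_d_rc_9_1 lc_d_rc_3_1 lc_d_rc_19_2 lc_d_rc_20_2 lc_d_rc_9_1 lc_d_rc_3_1 lc_d_Cert_tree lc_d_rc_3_1 lc_d_rc_18_0 lc_d_rc_21_2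 lc_d_rc_21_2 lc_d_rc_3_3 lc_d_rc_3_1 lc_d_Cert_tree lc_d_rc_20_2 lc_d_rc_3_1 lc_d_Cert_tree lc_d_rc_21_2 lc_d_rc_18_0 lc_d_rc_20_2 lc_d_rc_20_2 lc_d_rc_21_2 lc_d_rc_3_1 lc_d_Cert_tree lc_d_rc_21_2 lc_d_rc_9_3 lc_d_rc_18_0 lc_d_rc_28_5 lc_d_rc_19_2 lc_d_rc_21_2 lc_d_rc_9_1 lc_d_rc_18_0 lc_d_rc_9_3) (@D3.rec (fun _ => (Cert rels S Gen.d)) lc_d_rc_18_0 lc_d_rc_28_5 lc_d_rc_19_2 lc_d_rc_20_2 lc_d_rc_9_1 lc_d_rc_18_0 lc_d_rc_18_0 lc_d_rc_21_2 lc_d_rc_28_3 lc_d_rc_3_1 lc_d_rc_28_7 lc_d_rc_18_0 lc_d_rc_3_3 lc_d_rc_21_2 lc_d_rc_28_3 lc_d_rc_19_2 lc_d_rc_18_0 lc_d_rc_20_2 lc_d_rc_28_3 lc_d_rc_3_1 lc_d_rc_28_7 lc_d_rc_18_0 lc_d_rc_3_3 lc_d_rc_20_2 lc_d_rc_20_2 lc_d_rc_19_2 lc_d_Cert_tree lc_d_rc_18_0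 lc_d_rc_20_2 lc_d_rc_21_2 lc_d_rc_20_2 lc_d_rc_21_2 lc_d_rc_9_1 lc_d_rc_9_1 lc_d_rc_28_7 lc_d_rc_28_7 lc_d_rc_9_1 lc_d_rc_21_2 lc_d_rc_9_1 lc_d_rc_21_0)
def ce_d_3 : D2 → D3 → (Cert rels S Gen.d) := @D2.rec (fun _ => D3 → (Cert rels S Gen.d)) (@D3.rec (fun _ => (Cert rels S Gen.d)) lc_d_rc_3_1 lc_d_Cert_tree lc_d_rc_21_2 lc_d_rc_9_1 lc_d_rc_3_1 lc_d_Cert_tree lc_d_rc_20_2 lc_d_rc_9_1 lc_d_rc_3_1 lc_d_rc_3_1 lc_d_rc_21_2 lc_d_rc_9_1 lc_d_rc_3_1 lc_d_rc_3_1 lc_d_rc_20_2 lc_d_rc_9_1 lc_d_rc_9_1 lc_d_Cert_tree lc_d_rc_3_1 lc_d_rc_18_0 lc_d_rc_21_2 lc_d_rc_21_2 lc_d_rc_3_3 lc_d_rc_3_1 lc_d_Cert_tree lc_d_rc_20_2 lc_d_rc_9_1 lc_d_Cert_tree lc_d_rc_21_2 lc_d_rc_18_0 lc_d_rc_20_2 lc_d_rc_20_2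 lc_d_rc_21_2 lc_d_rc_3_1 lc_d_Cert_tree lc_d_rc_21_2 lc_d_Cert_tree lc_d_Cert_tree lc_d_rc_18_0 lc_d_rc_19_2) (@D3.rec (fun _ => (Cert rels S Gen.d)) lc_d_rc_21_2 lc_d_rc_9_1 lc_d_rc_20_2 lc_d_rc_28_7 lc_d_Cert_tree lc_d_Cert_tree lc_d_rc_18_0 lc_d_Cert_tree lc_d_Cert_tree lc_d_rc_18_0 lc_d_rc_19_2 lc_d_rc_20_2 lc_d_rc_9_1 lc_d_rc_21_2 lc_d_rc_28_7 lc_d_Cert_tree lc_d_Cert_tree lc_d_rc_18_0 lc_d_Cert_tree lc_d_rc_18_0 lc_d_Cert_tree lc_d_rc_18_0 lc_d_rc_18_0 lc_d_Cert_tree lc_d_Cert_tree lc_d_rc_18_0 lc_d_Cert_tree lc_d_rc_18_0 lc_d_rc_18_0 lc_d_Cert_tree lc_d_rc_9_1 lc_d_rc_9_1 lc_d_rc_3_1 lc_d_rc_3_1 lc_d_rc_28_1 lc_d_rc_21_2 lc_d_rc_9_1 lc_d_rc_3_3 lc_d_rc_3_1 lc_d_rc_18_1) (@D3.rec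 (fun _ => (Cert rels S Gen.d)) lc_d_rc_21_2 lc_d_rc_3_1 lc_d_rc_9_1 lc_d_rc_20_2 lc_d_rc_9_1 lc_d_rc_9_1 lc_d_rc_18_0 lc_d_rc_21_2 lc_d_rc_9_1 lc_d_rc_3_1 lc_d_Cert_tree lc_d_rc_20_2 lc_d_rc_9_1 lc_d_rc_14_3 lc_d_rc_18_0 lc_d_rc_20_2 lc_d_rc_9_1 lc_d_rc_3_1 lc_d_Cert_tree lc_d_rc_21_2 lc_d_rc_3_1 lc_d_Cert_tree lc_d_rc_20_2 lc_d_rc_21_2 lc_d_Cert_tree lc_d_rc_18_0 lc_d_rc_21_2 lc_d_rc_9_1 lc_d_rc_9_1 lc_d_rc_21_2 lc_d_rc_9_1 lc_d_rc_3_3 lc_d_rc_3_1 lc_d_Cert_tree lc_d_rc_3_3 lc_d_rc_9_1 lc_d_rc_9_1 lc_d_Cert_tree lc_d_rc_3_1 lc_d_rc_18_0) (@D3.rec (fun _ => (Cert rels S Gen.d)) lc_d_rc_28_7 lc_d_rc_21_2 lc_d_rc_3_1 lc_d_Cert_tree lc_d_rc_20_2 lc_d_rc_3_3 lc_d_Cert_tree lc_d_rc_18_0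 lc_d_rc_20_2 lc_d_rc_9_1 lc_d_rc_9_1 lc_d_rc_20_2 lc_d_rc_9_1 lc_d_rc_21_2 lc_d_rc_3_1 lc_d_rc_21_0 lc_d_rc_21_2 lc_d_rc_9_1 lc_d_rc_9_1 lc_d_rc_21_0 lc_d_rc_3_1 lc_d_rc_18_0 lc_d_rc_28_7 lc_d_rc_3_1 lc_d_Cert_tree lc_d_rc_18_0 lc_d_Cert_tree lc_d_rc_18_0 lc_d_rc_20_2 lc_d_rc_21_2 lc_d_rc_3_1 lc_d_rc_9_1 lc_d_Cert_tree lc_d_rc_20_0 lc_d_rc_21_2 lc_d_rc_9_1 lc_d_rc_20_2 lc_d_rc_3_1 lc_d_Cert_tree lc_d_rc_20_2) (@D3.rec (fun _ => (Cert rels S Gen.d)) lc_d_rc_9_1 lc_d_Cert_tree lc_d_rc_18_0 lc_d_Cert_tree lc_d_rc_18_0 lc_d_rc_28_5 lc_d_rc_19_2 lc_d_Cert_tree lc_d_rc_18_0 lc_d_Cert_tree lc_d_rc_18_0 lc_d_rc_20_2 lc_d_rc_28_5 lc_d_rc_3_1 lc_d_rc_9_1 lc_d_Cert_tree lc_d_rc_3_1 lc_d_rc_20_2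 lc_d_rc_9_1 lc_d_rc_21_2 lc_d_rc_3_1 lc_d_Cert_tree lc_d_rc_21_2 lc_d_rc_9_1 lc_d_Cert_tree lc_d_rc_18_0 lc_d_Cert_tree lc_d_rc_18_0 lc_d_rc_28_5 lc_d_rc_19_2 lc_d_rc_9_1 lc_d_Cert_tree lc_d_Cert_tree lc_d_rc_18_0 lc_d_rc_20_2 lc_d_rc_20_2 lc_d_rc_21_2 lc_d_Cert_tree lc_d_rc_21_2 lc_d_rc_18_0) (@D3.rec (fun _ => (Cert rels S Gen.d)) lc_d_rc_21_2 lc_d_rc_9_1 lc_d_rc_28_3 lc_d_rc_9_1 lc_d_rc_3_1 lc_d_rc_3_1 lc_d_Cert_tree lc_d_Cert_tree lc_d_rc_28_3 lc_d_Cert_tree lc_d_rc_18_0 lc_d_rc_14_3 lc_d_rc_9_1 lc_d_Cert_tree lc_d_Cert_tree lc_d_rc_18_0 lc_d_rc_21_2 lc_d_rc_20_2 lc_d_rc_21_2 lc_d_Cert_tree lc_d_rc_20_2 lc_d_rc_18_0 lc_d_rc_20_2 lc_d_rc_9_1 lc_d_rc_28_3 lc_d_rc_21_2 lc_d_rc_3_1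 lc_d_rc_3_1 lc_d_Cert_tree lc_d_Cert_tree lc_d_rc_28_3 lc_d_Cert_tree lc_d_rc_18_0 lc_d_rc_3_3 lc_d_rc_9_1 lc_d_rc_19_4 lc_d_rc_3_1 lc_d_rc_3_1 lc_d_rc_18_0 lc_d_rc_9_1) (@D3.rec (fun _ => (Cert rels S Gen.d)) lc_d_rc_21_2 lc_d_rc_21_2 lc_d_rc_21_2 lc_d_rc_3_3 lc_d_rc_21_2 lc_d_rc_9_1 lc_d_rc_3_1 lc_d_Cert_tree lc_d_rc_20_2 lc_d_Cert_tree lc_d_Cert_tree lc_d_rc_18_0 lc_d_rc_20_2 lc_d_rc_3_1 lc_d_Cert_tree lc_d_rc_9_1 lc_d_rc_9_3 lc_d_rc_18_0 lc_d_rc_9_1 lc_d_rc_19_4 lc_d_rc_3_1 lc_d_rc_3_1 lc_d_rc_18_0 lc_d_rc_20_2 lc_d_rc_21_2 lc_d_rc_20_2 lc_d_rc_21_2 lc_d_rc_3_3 lc_d_rc_20_2 lc_d_rc_9_1 lc_d_rc_3_1 lc_d_Cert_tree lc_d_rc_21_2 lc_d_Cert_tree lc_d_rc_28_3 lc_d_rc_18_0 lc_d_rc_21_2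 lc_d_rc_3_1 lc_d_Cert_tree lc_d_rc_9_3) (@D3.rec (fun _ => (Cert rels S Gen.d)) lc_d_rc_9_1 lc_d_rc_18_0 lc_d_rc_28_1 lc_d_rc_20_2 lc_d_rc_21_2 lc_d_rc_18_0 lc_d_rc_20_2 lc_d_rc_21_2 lc_d_Cert_tree lc_d_rc_20_2 lc_d_rc_21_2 lc_d_rc_21_2 lc_d_rc_21_2 lc_d_rc_3_1 lc_d_rc_14_7 lc_d_rc_21_2 lc_d_rc_20_2 lc_d_rc_21_2 lc_d_rc_9_1 lc_d_rc_21_2 lc_d_rc_9_1 lc_d_rc_3_3 lc_d_rc_19_2 lc_d_rc_19_2 lc_d_rc_9_1 lc_d_rc_9_1 lc_d_rc_3_1 lc_d_rc_21_2 lc_d_rc_3_1 lc_d_rc_20_2 lc_d_rc_18_0 lc_d_rc_20_2 lc_d_rc_21_2 lc_d_Cert_tree lc_d_rc_20_2 lc_d_rc_21_2 lc_d_rc_3_1 lc_d_rc_9_1 lc_d_rc_18_0 lc_d_rc_28_5) (@D3.rec (fun _ => (Cert rels S Gen.d)) lc_d_rc_20_2 lc_d_rc_21_2 lc_d_rc_19_2 lc_d_rc_19_2 lc_d_rc_9_1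 lc_d_rc_21_2 lc_d_rc_9_1 lc_d_rc_21_0 lc_d_rc_19_0 lc_d_rc_21_2 lc_d_rc_9_1 lc_d_rc_19_0 lc_d_rc_20_2 lc_d_rc_9_1 lc_d_rc_9_1 lc_d_rc_9_1 lc_d_rc_3_1 lc_d_rc_19_2 lc_d_rc_21_2 lc_d_rc_3_1 lc_d_rc_19_2 lc_d_rc_20_2 lc_d_rc_9_1 lc_d_rc_3_1 lc_d_rc_3_3 lc_d_rc_9_1 lc_d_rc_21_2 lc_d_rc_21_2 lc_d_rc_20_0 lc_d_rc_21_0 lc_d_rc_28_7 lc_d_Cert_tree lc_d_rc_21_2 lc_d_rc_9_1 lc_d_rc_3_1 lc_d_Cert_tree lc_d_rc_3_3 lc_d_rc_9_1 lc_d_rc_9_1 lc_d_rc_19_2) (@D3.rec (fun _ => (Cert rels S Gen.d)) lc_d_rc_9_1 lc_d_rc_19_2 lc_d_rc_3_1 lc_d_Cert_tree lc_d_rc_21_2 lc_d_rc_9_1 lc_d_rc_3_1 lc_d_Cert_tree lc_d_rc_20_2 lc_d_rc_9_1 lc_d_rc_9_1 lc_d_Cert_tree lc_d_rc_3_1 lc_d_rc_18_0 lc_d_rc_21_2 lc_d_rc_21_2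 lc_d_rc_20_2 lc_d_rc_3_1 lc_d_Cert_tree lc_d_rc_20_2 lc_d_rc_9_1 lc_d_Cert_tree lc_d_rc_3_1 lc_d_rc_18_0 lc_d_rc_20_2 lc_d_rc_20_2 lc_d_rc_21_2 lc_d_rc_3_1 lc_d_Cert_tree lc_d_rc_21_2 lc_d_rc_19_2 lc_d_Cert_tree lc_d_rc_18_0 lc_d_rc_19_2 lc_d_Cert_tree lc_d_rc_18_0 lc_d_rc_18_0 lc_d_Cert_tree lc_d_rc_18_0 lc_d_Cert_tree) (@D3.rec (fun _ => (Cert rels S Gen.d)) lc_d_rc_9_1 lc_d_rc_9_1 lc_d_rc_28_1 lc_d_rc_20_2 lc_d_rc_21_2 lc_d_rc_28_1 lc_d_rc_20_0 lc_d_rc_20_2 lc_d_rc_3_1 lc_d_rc_20_2 lc_d_rc_21_2 lc_d_rc_9_1 lc_d_rc_3_1 lc_d_rc_21_2 lc_d_rc_20_2 lc_d_rc_9_1 lc_d_rc_32_30 lc_d_Cert_tree lc_d_rc_18_0 lc_d_rc_21_2 lc_d_rc_21_2 lc_d_rc_3_1 lc_d_Cert_tree lc_d_rc_20_2 lc_d_rc_3_3 lc_d_Cert_tree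 lc_d_rc_18_0 lc_d_rc_20_2 lc_d_rc_20_2 lc_d_rc_3_1 lc_d_Cert_tree lc_d_rc_21_2 lc_d_rc_20_2 lc_d_rc_21_2 lc_d_rc_3_1 lc_d_rc_20_2 lc_d_rc_21_2 lc_d_rc_3_1 lc_d_rc_28_3 lc_d_rc_20_2) (@D3.rec (fun _ => (Cert rels S Gen.d)) lc_d_rc_3_1 lc_d_rc_9_1 lc_d_rc_21_2 lc_d_rc_9_1 lc_d_rc_3_1 lc_d_rc_19_4 lc_d_rc_20_2 lc_d_rc_9_1 lc_d_rc_9_1 lc_d_rc_28_7 lc_d_rc_3_1 lc_d_rc_18_0 lc_d_rc_21_2 lc_d_rc_21_2 lc_d_rc_3_1 lc_d_rc_28_7 lc_d_Cert_tree lc_d_rc_20_2 lc_d_rc_9_1 lc_d_rc_3_3 lc_d_rc_21_0 lc_d_rc_18_0 lc_d_rc_20_2 lc_d_rc_20_2 lc_d_rc_21_2 lc_d_rc_28_7 lc_d_Cert_tree lc_d_rc_21_2 lc_d_rc_20_0 lc_d_rc_28_7 lc_d_rc_20_2 lc_d_rc_3_1 lc_d_rc_9_3 lc_d_rc_18_0 lc_d_rc_21_2 lc_d_rc_9_1 lc_d_rc_3_3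 lc_d_rc_9_1 lc_d_rc_21_2 lc_d_rc_3_3) (@D3.rec (fun _ => (Cert rels S Gen.d)) lc_d_rc_28_3 lc_d_Cert_tree lc_d_rc_3_3 lc_d_rc_9_1 lc_d_rc_9_1 lc_d_Cert_tree lc_d_rc_3_1 lc_d_rc_18_0 lc_d_rc_20_2 lc_d_rc_21_2 lc_d_rc_28_7 lc_d_rc_28_7 lc_d_rc_20_2 lc_d_rc_21_2 lc_d_rc_32_50 lc_d_rc_18_0 lc_d_rc_20_2 lc_d_rc_9_1 lc_d_rc_9_1 lc_d_rc_9_1 lc_d_rc_20_2 lc_d_rc_21_2 lc_d_rc_28_3 lc_d_Cert_tree lc_d_rc_21_2 lc_d_rc_9_1 lc_d_rc_9_1 lc_d_Cert_tree lc_d_rc_3_1 lc_d_rc_18_0 lc_d_rc_21_2 lc_d_rc_3_3 lc_d_rc_9_1 lc_d_Cert_tree lc_d_Cert_tree lc_d_rc_18_0 lc_d_rc_14_11 lc_d_rc_19_2 lc_d_rc_9_1 lc_d_Cert_tree) (@D3.rec (fun _ => (Cert rels S Gen.d)) lc_d_Cert_tree lc_d_rc_18_0 lc_d_rc_14_11 lc_d_rc_19_2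 lc_d_Cert_tree lc_d_rc_18_0 lc_d_rc_32_9 lc_d_rc_20_2 lc_d_rc_21_2 lc_d_Cert_tree lc_d_rc_18_0 lc_d_Cert_tree lc_d_rc_18_0 lc_d_Cert_tree lc_d_rc_18_0 lc_d_rc_9_3 lc_d_rc_20_2 lc_d_rc_21_2 lc_d_Cert_tree lc_d_rc_18_0 lc_d_Cert_tree lc_d_rc_18_0 lc_d_rc_19_4 lc_d_rc_19_4 lc_d_rc_20_2 lc_d_rc_21_2 lc_d_rc_9_1 lc_d_rc_21_2 lc_d_rc_9_1 lc_d_rc_3_3 lc_d_rc_9_1 lc_d_rc_20_2 lc_d_rc_21_2 lc_d_rc_9_1 lc_d_rc_9_1 lc_d_rc_3_1 lc_d_Cert_tree lc_d_rc_21_2 lc_d_rc_3_1 lc_d_Cert_tree) (@D3.rec (fun _ => (Cert rels S Gen.d)) lc_d_rc_20_2 lc_d_rc_9_1 lc_d_rc_21_2 lc_d_rc_9_1 lc_d_rc_21_2 lc_d_rc_28_7 lc_d_Cert_tree lc_d_rc_21_2 lc_d_rc_9_1 lc_d_rc_28_7 lc_d_Cert_tree lc_d_rc_20_2 lc_d_rc_9_1 lc_d_rc_9_1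 lc_d_Cert_tree lc_d_rc_18_0 lc_d_rc_21_2 lc_d_rc_21_2 lc_d_rc_28_3 lc_d_Cert_tree lc_d_rc_20_2 lc_d_rc_9_1 lc_d_Cert_tree lc_d_rc_18_0 lc_d_rc_20_2 lc_d_rc_20_2 lc_d_rc_28_3 lc_d_Cert_tree lc_d_rc_21_2 lc_d_rc_9_1 lc_d_Cert_tree lc_d_rc_28_7 lc_d_rc_18_0 lc_d_rc_21_2 lc_d_rc_28_7 lc_d_rc_9_1 lc_d_Cert_tree lc_d_rc_21_0 lc_d_rc_18_0 lc_d_rc_20_2) (@D3.rec (fun _ => (Cert rels S Gen.d)) lc_d_rc_21_2 lc_d_rc_3_1 lc_d_rc_20_2 lc_d_rc_21_2 lc_d_Cert_tree lc_d_rc_18_0 lc_d_rc_21_2 lc_d_rc_9_1 lc_d_Cert_tree lc_d_rc_9_1 lc_d_rc_21_2 lc_d_rc_9_1 lc_d_rc_3_3 lc_d_rc_9_1 lc_d_rc_3_1 lc_d_rc_20_2 lc_d_rc_21_2 lc_d_Cert_tree lc_d_rc_18_0 lc_d_rc_20_2 lc_d_rc_9_1 lc_d_Cert_tree lc_d_rc_9_1 lc_d_rc_20_2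 lc_d_rc_9_1 lc_d_rc_21_2 lc_d_rc_9_1 lc_d_Cert_tree lc_d_rc_18_0 lc_d_rc_20_2 lc_d_rc_21_2 lc_d_rc_3_1 lc_d_rc_9_1 lc_d_rc_21_2 lc_d_rc_9_1 lc_d_rc_3_1 lc_d_rc_20_2 lc_d_Cert_tree lc_d_rc_18_0 lc_d_rc_20_2) (@D3.rec (fun _ => (Cert rels S Gen.d)) lc_d_rc_21_2 lc_d_rc_3_1 lc_d_rc_9_1 lc_d_rc_20_2 lc_d_rc_9_1 lc_d_rc_3_1 lc_d_rc_21_2 lc_d_Cert_tree lc_d_rc_18_0 lc_d_rc_20_2 lc_d_rc_21_2 lc_d_rc_19_2 lc_d_Cert_tree lc_d_rc_18_0 lc_d_rc_20_2 lc_d_rc_21_2 lc_d_rc_19_2 lc_d_rc_9_1 lc_d_rc_9_1 lc_d_rc_19_2 lc_d_rc_19_2 lc_d_rc_9_1 lc_d_rc_19_2 lc_d_rc_21_2 lc_d_rc_3_3 lc_d_rc_9_3 lc_d_rc_3_3 lc_d_rc_9_1 lc_d_rc_3_1 lc_d_rc_21_2 lc_d_rc_9_1 lc_d_rc_3_1 lc_d_rc_9_3 lc_d_rc_3_1 lc_d_Cert_tree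 lc_d_rc_20_2 lc_d_rc_21_2 lc_d_Cert_tree lc_d_rc_18_0 lc_d_rc_28_5) (@D3.rec (fun _ => (Cert rels S Gen.d)) lc_d_rc_20_2 lc_d_rc_21_2 lc_d_rc_9_1 lc_d_rc_3_1 lc_d_Cert_tree lc_d_rc_20_2 lc_d_rc_3_3 lc_d_Cert_tree lc_d_rc_21_0 lc_d_rc_18_0 lc_d_rc_20_2 lc_d_rc_21_2 lc_d_rc_3_1 lc_d_Cert_tree lc_d_rc_20_2 lc_d_rc_21_2 lc_d_Cert_tree lc_d_rc_18_0 lc_d_rc_28_5 lc_d_rc_21_2 lc_d_rc_20_2 lc_d_rc_9_1 lc_d_rc_3_1 lc_d_Cert_tree lc_d_rc_21_2 lc_d_rc_21_0 lc_d_Cert_tree lc_d_rc_28_3 lc_d_rc_18_0 lc_d_rc_21_2 lc_d_rc_3_1 lc_d_rc_3_1 lc_d_rc_3_1 lc_d_rc_21_2 lc_d_rc_21_2 lc_d_rc_3_1 lc_d_rc_18_0 lc_d_rc_28_7 lc_d_rc_21_2 lc_d_rc_3_1) (@D3.rec (fun _ => (Cert rels S Gen.d)) lc_d_rc_21_2 lc_d_rc_9_1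 lc_d_rc_3_1 lc_d_Cert_tree lc_d_rc_20_2 lc_d_rc_9_1 lc_d_Cert_tree lc_d_rc_28_5 lc_d_rc_21_2 lc_d_rc_9_1 lc_d_rc_3_1 lc_d_rc_3_1 lc_d_rc_20_2 lc_d_rc_9_1 lc_d_rc_3_1 lc_d_Cert_tree lc_d_rc_21_2 lc_d_rc_3_1 lc_d_rc_3_1 lc_d_rc_20_2 lc_d_rc_21_2 lc_d_rc_3_1 lc_d_rc_18_0 lc_d_rc_20_2 lc_d_rc_28_7 lc_d_rc_3_1 lc_d_rc_20_2 lc_d_rc_9_1 lc_d_rc_3_1 lc_d_Cert_tree lc_d_rc_21_2 lc_d_rc_9_1 lc_d_Cert_tree lc_d_rc_28_5 lc_d_rc_20_2 lc_d_rc_9_1 lc_d_rc_21_2 lc_d_rc_3_1 lc_d_rc_21_2 lc_d_rc_9_1) (@D3.rec (fun _ => (Cert rels S Gen.d)) lc_d_rc_3_1 lc_d_Cert_tree lc_d_rc_20_2 lc_d_rc_19_0 lc_d_rc_18_0 lc_d_rc_20_2 lc_d_rc_21_2 lc_d_rc_9_1 lc_d_rc_9_1 lc_d_rc_20_2 lc_d_rc_21_2 lc_d_rc_21_2 lc_d_rc_9_1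 lc_d_rc_21_2 lc_d_rc_19_2 lc_d_rc_9_1 lc_d_rc_3_1 lc_d_rc_9_3 lc_d_rc_28_1 lc_d_rc_28_7 lc_d_rc_20_2 lc_d_rc_21_2 lc_d_rc_18_0 lc_d_rc_21_2 lc_d_rc_9_1 lc_d_rc_9_1 lc_d_rc_3_1 lc_d_rc_21_2 lc_d_rc_20_2 lc_d_rc_9_1 lc_d_rc_9_1 lc_d_rc_21_2 lc_d_rc_19_0 lc_d_rc_18_0 lc_d_rc_20_2 lc_d_rc_21_2 lc_d_rc_9_1 lc_d_rc_9_1 lc_d_rc_20_2 lc_d_rc_21_2) (@D3.rec (fun _ => (Cert rels S Gen.d)) lc_d_rc_9_1 lc_d_rc_21_2 lc_d_rc_21_2 lc_d_rc_19_2 lc_d_rc_9_1 lc_d_rc_3_1 lc_d_rc_28_1 lc_d_rc_28_1 lc_d_rc_28_7 lc_d_rc_20_2 lc_d_rc_18_0 lc_d_rc_20_2 lc_d_rc_9_1 lc_d_rc_9_1 lc_d_rc_3_1 lc_d_rc_20_2 lc_d_rc_21_2 lc_d_rc_9_1 lc_d_rc_3_1 lc_d_rc_28_5 lc_d_Cert_tree lc_d_rc_18_0 lc_d_rc_21_2 lc_d_rc_9_1 lc_d_rc_9_3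 lc_d_rc_18_0 lc_d_Cert_tree lc_d_rc_3_3 lc_d_rc_21_2 lc_d_Cert_tree lc_d_rc_20_2 lc_d_rc_21_2 lc_d_rc_18_0 lc_d_rc_20_2 lc_d_rc_21_2 lc_d_rc_21_2 lc_d_rc_9_1 lc_d_rc_19_0 lc_d_rc_18_0 lc_d_rc_21_2) (@D3.rec (fun _ => (Cert rels S Gen.d)) lc_d_rc_9_1 lc_d_rc_28_5 lc_d_rc_21_2 lc_d_rc_9_1 lc_d_rc_3_1 lc_d_Cert_tree lc_d_rc_20_2 lc_d_Cert_tree lc_d_Cert_tree lc_d_rc_18_0 lc_d_Cert_tree lc_d_rc_18_0 lc_d_rc_20_2 lc_d_rc_9_1 lc_d_rc_9_3 lc_d_rc_18_0 lc_d_Cert_tree lc_d_rc_20_2 lc_d_rc_3_3 lc_d_Cert_tree lc_d_rc_20_2 lc_d_rc_21_2 lc_d_rc_18_0 lc_d_rc_20_2 lc_d_rc_21_2 lc_d_rc_9_1 lc_d_rc_20_2 lc_d_rc_20_2 lc_d_rc_18_0 lc_d_rc_20_2 lc_d_rc_9_1 lc_d_rc_28_5 lc_d_rc_20_2 lc_d_rc_9_1 lc_d_rc_9_1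 lc_d_Cert_tree lc_d_rc_21_2 lc_d_Cert_tree lc_d_rc_28_3 lc_d_rc_18_0) (@D3.rec (fun _ => (Cert rels S Gen.d)) lc_d_rc_9_1 lc_d_rc_3_1 lc_d_rc_19_4 lc_d_rc_21_2 lc_d_rc_3_1 lc_d_Cert_tree lc_d_rc_9_1 lc_d_rc_20_2 lc_d_rc_21_2 lc_d_rc_3_3 lc_d_rc_9_1 lc_d_Cert_tree lc_d_rc_21_2 lc_d_rc_28_7 lc_d_rc_9_1 lc_d_rc_9_1 lc_d_rc_3_1 lc_d_Cert_tree lc_d_rc_20_2 lc_d_rc_19_2 lc_d_rc_28_5 lc_d_rc_9_1 lc_d_rc_3_1 lc_d_Cert_tree lc_d_rc_20_2 lc_d_rc_9_1 lc_d_rc_9_1 lc_d_Cert_tree lc_d_rc_21_2 lc_d_rc_18_0 lc_d_rc_28_7 lc_d_rc_20_2 lc_d_rc_21_2 lc_d_rc_3_1 lc_d_rc_21_2 lc_d_rc_21_2 lc_d_Cert_tree lc_d_rc_18_0 lc_d_Cert_tree lc_d_Cert_tree) (@D3.rec (fun _ => (Cert rels S Gen.d)) lc_d_rc_18_0 lc_d_rc_28_7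 lc_d_rc_19_2 lc_d_rc_20_2 lc_d_rc_9_1 lc_d_rc_18_0 lc_d_rc_9_1 lc_d_rc_3_1 lc_d_rc_20_2 lc_d_rc_20_2 lc_d_rc_3_1 lc_d_Cert_tree lc_d_rc_21_2 lc_d_rc_20_2 lc_d_rc_28_7 lc_d_rc_20_2 lc_d_rc_9_1 lc_d_Cert_tree lc_d_rc_20_2 lc_d_rc_9_1 lc_d_rc_20_2 lc_d_rc_21_2 lc_d_Cert_tree lc_d_rc_21_2 lc_d_rc_20_2 lc_d_rc_9_1 lc_d_rc_28_5 lc_d_rc_9_1 lc_d_rc_3_1 lc_d_Cert_tree lc_d_rc_21_2 lc_d_rc_9_1 lc_d_rc_9_1 lc_d_Cert_tree lc_d_rc_3_1 lc_d_rc_18_0 lc_d_rc_28_7 lc_d_rc_21_2 lc_d_rc_20_2 lc_d_rc_3_1) (@D3.rec (fun _ => (Cert rels S Gen.d)) lc_d_rc_20_2 lc_d_rc_20_2 lc_d_Cert_tree lc_d_rc_18_0 lc_d_Cert_tree lc_d_Cert_tree lc_d_rc_18_0 lc_d_rc_28_7 lc_d_rc_19_2 lc_d_rc_21_2 lc_d_rc_9_1 lc_d_rc_18_0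 lc_d_Cert_tree lc_d_rc_18_0 lc_d_Cert_tree lc_d_rc_18_0 lc_d_rc_20_2 lc_d_rc_21_2 lc_d_rc_19_2 lc_d_rc_21_2 lc_d_rc_21_0 lc_d_rc_28_1 lc_d_rc_21_2 lc_d_rc_9_1 lc_d_rc_3_1 lc_d_rc_3_1 lc_d_rc_21_2 lc_d_rc_3_1 lc_d_Cert_tree lc_d_rc_18_0 lc_d_Cert_tree lc_d_rc_18_0 lc_d_rc_20_2 lc_d_rc_21_2 lc_d_rc_19_2 lc_d_rc_20_2 lc_d_rc_20_0 lc_d_rc_28_1 lc_d_rc_21_0 lc_d_rc_9_1) (@D3.rec (fun _ => (Cert rels S Gen.d)) lc_d_rc_3_1 lc_d_rc_3_1 lc_d_rc_21_2 lc_d_rc_3_1 lc_d_rc_18_0 lc_d_rc_19_4 lc_d_rc_19_4 lc_d_rc_9_1 lc_d_rc_9_1 lc_d_rc_19_2 lc_d_rc_20_2 lc_d_rc_21_2 lc_d_rc_9_1 lc_d_rc_21_2 lc_d_rc_9_1 lc_d_rc_3_3 lc_d_rc_9_1 lc_d_rc_21_2 lc_d_rc_9_1 lc_d_rc_3_1 lc_d_rc_3_1 lc_d_Cert_tree lc_d_rc_21_2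 lc_d_rc_9_1 lc_d_rc_3_1 lc_d_Cert_tree lc_d_rc_20_2 lc_d_rc_9_1 lc_d_Cert_tree lc_d_rc_18_0 lc_d_rc_20_2 lc_d_rc_21_2 lc_d_rc_20_2 lc_d_rc_21_2 lc_d_rc_9_1 lc_d_rc_9_1 lc_d_rc_28_7 lc_d_Cert_tree lc_d_rc_21_2 lc_d_rc_28_7)
def ce_d_4 : D2 → D3 → (Cert rels S Gen.d) := @D2.rec (fun _ => D3 → (Cert rels S Gen.d)) (@D3.rec (fun _ => (Cert rels S Gen.d)) lc_d_Cert_tree lc_d_rc_20_2 lc_d_rc_9_1 lc_d_Cert_tree lc_d_rc_28_3 lc_d_rc_18_0 lc_d_rc_21_2 lc_d_rc_28_7 lc_d_rc_9_1 lc_d_Cert_tree lc_d_rc_21_2 lc_d_rc_18_0 lc_d_rc_20_2 lc_d_rc_21_2 lc_d_rc_9_1 lc_d_rc_21_2 lc_d_rc_9_1 lc_d_rc_3_1 lc_d_Cert_tree lc_d_rc_32_64 lc_d_rc_9_1 lc_d_Cert_tree lc_d_rc_28_7 lc_d_rc_9_1 lc_d_rc_9_1 lc_d_rc_9_1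 lc_d_rc_18_0 lc_d_rc_21_2 lc_d_rc_21_2 lc_d_rc_28_7 lc_d_Cert_tree lc_d_rc_20_2 lc_d_rc_9_1 lc_d_rc_9_1 lc_d_rc_18_0 lc_d_rc_20_2 lc_d_rc_20_2 lc_d_rc_28_7 lc_d_Cert_tree lc_d_rc_21_2) (@D3.rec (fun _ => (Cert rels S Gen.d)) lc_d_rc_20_2 lc_d_rc_21_2 lc_d_Cert_tree lc_d_rc_18_0 lc_d_Cert_tree lc_d_rc_20_2 lc_d_rc_21_2 lc_d_rc_9_1 lc_d_rc_28_3 lc_d_Cert_tree lc_d_rc_28_7 lc_d_rc_9_1 lc_d_Cert_tree lc_d_rc_28_3 lc_d_rc_18_0 lc_d_rc_20_2 lc_d_rc_21_2 lc_d_rc_20_2 lc_d_rc_21_2 lc_d_Cert_tree lc_d_rc_18_0 lc_d_Cert_tree lc_d_rc_21_2 lc_d_rc_20_2 lc_d_rc_9_1 lc_d_rc_28_3 lc_d_Cert_tree lc_d_rc_21_2 lc_d_rc_9_1 lc_d_Cert_tree lc_d_rc_28_3 lc_d_rc_18_0 lc_d_rc_21_2 lc_d_rc_28_7 lc_d_rc_20_2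 lc_d_rc_21_2 lc_d_Cert_tree lc_d_rc_18_0 lc_d_rc_21_2 lc_d_rc_9_1) (@D3.rec (fun _ => (Cert rels S Gen.d)) lc_d_rc_28_5 lc_d_rc_19_2 lc_d_rc_21_2 lc_d_rc_9_1 lc_d_rc_3_3 lc_d_rc_28_7 lc_d_Cert_tree lc_d_rc_28_7 lc_d_rc_9_1 lc_d_rc_9_1 lc_d_Cert_tree lc_d_rc_28_7 lc_d_rc_18_0 lc_d_rc_20_2 lc_d_rc_21_2 lc_d_rc_20_2 lc_d_rc_21_2 lc_d_Cert_tree lc_d_rc_18_0 lc_d_rc_20_2 lc_d_rc_9_1 lc_d_rc_28_5 lc_d_rc_19_2 lc_d_rc_20_2 lc_d_rc_9_1 lc_d_rc_21_2 lc_d_rc_28_7 lc_d_Cert_tree lc_d_rc_21_2 lc_d_rc_9_1 lc_d_rc_9_1 lc_d_Cert_tree lc_d_rc_28_7 lc_d_rc_18_0 lc_d_rc_21_2 lc_d_rc_28_7 lc_d_rc_28_1 lc_d_rc_28_1 lc_d_Cert_tree lc_d_rc_18_0) (@D3.rec (fun _ => (Cert rels S Gen.d)) lc_d_rc_20_2 lc_d_rc_21_2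 lc_d_rc_21_2 lc_d_rc_21_2 lc_d_rc_3_3 lc_d_rc_28_1 lc_d_rc_18_0 lc_d_rc_20_2 lc_d_rc_21_2 lc_d_rc_28_3 lc_d_rc_3_1 lc_d_rc_21_2 lc_d_rc_9_1 lc_d_rc_28_3 lc_d_Cert_tree lc_d_rc_9_3 lc_d_Cert_tree lc_d_rc_18_0 lc_d_rc_20_2 lc_d_rc_21_2 lc_d_rc_21_2 lc_d_rc_9_1 lc_d_rc_3_1 lc_d_rc_3_1 lc_d_rc_20_2 lc_d_rc_9_1 lc_d_rc_9_1 lc_d_Cert_tree lc_d_rc_18_0 lc_d_rc_20_2 lc_d_rc_9_1 lc_d_rc_21_0 lc_d_Cert_tree lc_d_rc_21_2 lc_d_rc_20_0 lc_d_Cert_tree lc_d_rc_20_2 lc_d_rc_20_0 lc_d_Cert_tree lc_d_rc_18_0) (@D3.rec (fun _ => (Cert rels S Gen.d)) lc_d_rc_20_2 lc_d_rc_3_3 lc_d_Cert_tree lc_d_rc_9_1 lc_d_rc_20_2 lc_d_rc_21_2 lc_d_rc_9_1 lc_d_rc_28_1 lc_d_rc_28_1 lc_d_Cert_tree lc_d_rc_18_0 lc_d_rc_20_2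 lc_d_rc_21_2 lc_d_rc_20_2 lc_d_rc_21_2 lc_d_rc_3_3 lc_d_rc_28_1 lc_d_rc_18_0 lc_d_rc_20_2 lc_d_rc_21_2 lc_d_rc_28_3 lc_d_rc_3_1 lc_d_rc_20_2 lc_d_rc_9_1 lc_d_rc_28_3 lc_d_Cert_tree lc_d_rc_9_3 lc_d_Cert_tree lc_d_rc_18_0 lc_d_rc_3_3 lc_d_rc_20_2 lc_d_rc_20_2 lc_d_rc_9_1 lc_d_rc_21_2 lc_d_rc_3_1 lc_d_rc_21_2 lc_d_rc_9_1 lc_d_rc_9_1 lc_d_Cert_tree lc_d_rc_18_0) (@D3.rec (fun _ => (Cert rels S Gen.d)) lc_d_rc_21_2 lc_d_rc_9_1 lc_d_rc_20_0 lc_d_Cert_tree lc_d_rc_20_2 lc_d_rc_20_0 lc_d_Cert_tree lc_d_rc_20_2 lc_d_rc_9_3 lc_d_Cert_tree lc_d_rc_18_0 lc_d_rc_21_2 lc_d_rc_3_3 lc_d_Cert_tree lc_d_rc_9_1 lc_d_rc_21_2 lc_d_rc_3_3 lc_d_rc_9_1 lc_d_rc_28_1 lc_d_rc_19_2 lc_d_rc_20_2 lc_d_rc_9_1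 lc_d_rc_28_7 lc_d_rc_21_2 lc_d_Cert_tree lc_d_Cert_tree lc_d_rc_18_0 lc_d_Cert_tree lc_d_rc_18_0 lc_d_rc_20_2 lc_d_rc_21_2 lc_d_rc_3_1 lc_d_rc_9_1 lc_d_rc_19_2 lc_d_rc_28_1 lc_d_rc_19_2 lc_d_rc_21_2 lc_d_rc_9_1 lc_d_rc_28_7 lc_d_rc_3_3) (@D3.rec (fun _ => (Cert rels S Gen.d)) lc_d_Cert_tree lc_d_Cert_tree lc_d_rc_18_0 lc_d_Cert_tree lc_d_rc_18_0 lc_d_rc_20_2 lc_d_rc_21_2 lc_d_rc_3_1 lc_d_rc_9_1 lc_d_rc_19_2 lc_d_Cert_tree lc_d_rc_18_0 lc_d_Cert_tree lc_d_Cert_tree lc_d_rc_18_0 lc_d_Cert_tree lc_d_rc_28_5 lc_d_rc_9_1 lc_d_rc_20_2 lc_d_rc_21_2 lc_d_rc_28_7 lc_d_rc_9_1 lc_d_rc_9_1 lc_d_Cert_tree lc_d_rc_9_3 lc_d_rc_9_1 lc_d_Cert_tree lc_d_rc_9_3 lc_d_Cert_tree lc_d_rc_18_0 lc_d_Cert_tree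 lc_d_rc_20_2 lc_d_rc_21_2 lc_d_rc_3_1 lc_d_rc_3_1 lc_d_rc_9_1 lc_d_rc_21_2 lc_d_rc_9_1 lc_d_rc_21_0 lc_d_Cert_tree) (@D3.rec (fun _ => (Cert rels S Gen.d)) lc_d_rc_21_2 lc_d_rc_9_1 lc_d_Cert_tree lc_d_rc_20_2 lc_d_rc_9_1 lc_d_rc_20_0 lc_d_Cert_tree lc_d_rc_18_0 lc_d_rc_21_2 lc_d_rc_3_3 lc_d_rc_20_2 lc_d_Cert_tree lc_d_rc_3_1 lc_d_rc_20_0 lc_d_Cert_tree lc_d_rc_18_0 lc_d_rc_20_2 lc_d_rc_21_2 lc_d_rc_21_2 lc_d_Cert_tree lc_d_rc_3_1 lc_d_rc_9_1 lc_d_rc_19_2 lc_d_rc_9_1 lc_d_rc_9_3 lc_d_Cert_tree lc_d_rc_18_0 lc_d_rc_21_2 lc_d_rc_3_3 lc_d_rc_19_2 lc_d_rc_21_2 lc_d_rc_9_1 lc_d_rc_3_3 lc_d_rc_9_1 lc_d_rc_20_0 lc_d_rc_9_3 lc_d_rc_9_1 lc_d_Cert_tree lc_d_rc_18_0 lc_d_rc_20_2) (@D3.rec (fun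 _ => (Cert rels S Gen.d)) lc_d_rc_21_2 lc_d_rc_19_2 lc_d_rc_20_2 lc_d_rc_9_1 lc_d_rc_21_2 lc_d_rc_3_1 lc_d_rc_20_2 lc_d_rc_3_1 lc_d_rc_21_2 lc_d_rc_3_3 lc_d_Cert_tree lc_d_rc_18_0 lc_d_rc_20_2 lc_d_rc_21_2 lc_d_rc_28_3 lc_d_rc_3_1 lc_d_Cert_tree lc_d_rc_18_0 lc_d_rc_19_4 lc_d_rc_28_5 lc_d_rc_21_2 lc_d_rc_9_1 lc_d_Cert_tree lc_d_rc_20_2 lc_d_rc_3_1 lc_d_Cert_tree lc_d_rc_18_0 lc_d_rc_20_2 lc_d_rc_21_2 lc_d_rc_21_0 lc_d_rc_3_1 lc_d_Cert_tree lc_d_rc_18_0 lc_d_rc_20_2 lc_d_rc_20_0 lc_d_rc_19_2 lc_d_rc_20_2 lc_d_rc_9_1 lc_d_rc_21_2 lc_d_rc_3_1) (@D3.rec (fun _ => (Cert rels S Gen.d)) lc_d_rc_3_1 lc_d_rc_21_2 lc_d_rc_21_2 lc_d_rc_21_2 lc_d_rc_3_3 lc_d_Cert_tree lc_d_rc_18_0 lc_d_rc_20_2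 lc_d_rc_21_2 lc_d_rc_28_3 lc_d_rc_3_1 lc_d_Cert_tree lc_d_rc_18_0 lc_d_rc_3_3 lc_d_rc_28_3 lc_d_rc_3_3 lc_d_rc_9_1 lc_d_Cert_tree lc_d_rc_21_2 lc_d_rc_21_2 lc_d_Cert_tree lc_d_rc_18_0 lc_d_rc_21_2 lc_d_rc_3_1 lc_d_rc_21_0 lc_d_rc_3_1 lc_d_Cert_tree lc_d_rc_18_0 lc_d_rc_21_2 lc_d_rc_19_2 lc_d_rc_19_2 lc_d_rc_21_2 lc_d_rc_9_1 lc_d_rc_3_3 lc_d_rc_21_2 lc_d_rc_9_1 lc_d_rc_9_1 lc_d_rc_21_2 lc_d_rc_19_2 lc_d_rc_21_2) (@D3.rec (fun _ => (Cert rels S Gen.d)) lc_d_rc_21_2 lc_d_rc_9_1 lc_d_rc_20_2 lc_d_rc_3_1 lc_d_rc_3_1 lc_d_Cert_tree lc_d_rc_3_1 lc_d_rc_3_1 lc_d_rc_18_0 lc_d_rc_20_2 lc_d_rc_21_2 lc_d_Cert_tree lc_d_rc_9_1 lc_d_rc_20_2 lc_d_rc_21_2 lc_d_rc_21_2 lc_d_rc_9_1 lc_d_rc_21_2 lc_d_rc_9_1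 lc_d_rc_28_3 lc_d_rc_28_3 lc_d_rc_3_1 lc_d_rc_9_1 lc_d_rc_3_1 lc_d_Cert_tree lc_d_rc_20_2 lc_d_rc_9_1 lc_d_Cert_tree lc_d_rc_3_1 lc_d_rc_18_0 lc_d_rc_20_2 lc_d_Cert_tree lc_d_rc_21_2 lc_d_rc_18_0 lc_d_rc_21_2 lc_d_rc_9_1 lc_d_rc_28_3 lc_d_rc_9_1 lc_d_rc_3_3 lc_d_rc_3_1) (@D3.rec (fun _ => (Cert rels S Gen.d)) lc_d_rc_19_0 lc_d_rc_20_2 lc_d_rc_9_1 lc_d_rc_9_1 lc_d_Cert_tree lc_d_rc_18_0 lc_d_rc_21_2 lc_d_rc_20_2 lc_d_rc_3_1 lc_d_Cert_tree lc_d_rc_21_2 lc_d_rc_3_1 lc_d_Cert_tree lc_d_rc_20_2 lc_d_rc_21_2 lc_d_Cert_tree lc_d_rc_18_0 lc_d_Cert_tree lc_d_rc_21_2 lc_d_rc_20_2 lc_d_rc_9_1 lc_d_rc_3_1 lc_d_Cert_tree lc_d_rc_21_2 lc_d_Cert_tree lc_d_rc_3_1 lc_d_rc_18_0 lc_d_rc_21_2 lc_d_rc_3_3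 lc_d_rc_14_5 lc_d_rc_3_1 lc_d_rc_3_1 lc_d_Cert_tree lc_d_rc_18_0 lc_d_rc_20_2 lc_d_rc_20_2 lc_d_rc_20_2 lc_d_rc_3_3 lc_d_Cert_tree lc_d_rc_18_0) (@D3.rec (fun _ => (Cert rels S Gen.d)) lc_d_rc_20_2 lc_d_rc_21_2 lc_d_rc_28_3 lc_d_rc_28_3 lc_d_rc_20_2 lc_d_rc_3_1 lc_d_Cert_tree lc_d_Cert_tree lc_d_rc_18_0 lc_d_Cert_tree lc_d_rc_20_2 lc_d_rc_20_2 lc_d_rc_21_2 lc_d_rc_9_1 lc_d_rc_3_1 lc_d_Cert_tree lc_d_rc_20_2 lc_d_rc_9_1 lc_d_rc_9_1 lc_d_rc_28_7 lc_d_rc_19_2 lc_d_rc_20_2 lc_d_rc_9_1 lc_d_rc_21_2 lc_d_rc_20_2 lc_d_rc_3_1 lc_d_Cert_tree lc_d_rc_21_2 lc_d_rc_3_1 lc_d_rc_18_0 lc_d_rc_20_2 lc_d_rc_21_2 lc_d_Cert_tree lc_d_rc_9_1 lc_d_rc_20_2 lc_d_rc_21_2 lc_d_rc_9_1 lc_d_rc_21_2 lc_d_rc_21_2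 lc_d_rc_9_1) (@D3.rec (fun _ => (Cert rels S Gen.d)) lc_d_rc_9_1 lc_d_rc_28_3 lc_d_rc_3_1 lc_d_rc_9_1 lc_d_rc_3_1 lc_d_Cert_tree lc_d_rc_21_2 lc_d_rc_9_1 lc_d_Cert_tree lc_d_rc_18_0 lc_d_rc_21_2 lc_d_Cert_tree lc_d_rc_20_2 lc_d_rc_18_0 lc_d_rc_20_2 lc_d_rc_9_1 lc_d_rc_28_5 lc_d_rc_9_1 lc_d_rc_21_2 lc_d_rc_3_1 lc_d_rc_28_7 lc_d_rc_21_2 lc_d_rc_9_1 lc_d_rc_9_1 lc_d_Cert_tree lc_d_rc_18_0 lc_d_rc_20_2 lc_d_rc_21_2 lc_d_rc_3_1 lc_d_Cert_tree lc_d_rc_20_2 lc_d_rc_3_1 lc_d_Cert_tree lc_d_rc_20_2 lc_d_rc_21_2 lc_d_Cert_tree lc_d_rc_18_0 lc_d_rc_28_5 lc_d_rc_20_2 lc_d_rc_21_2) (@D3.rec (fun _ => (Cert rels S Gen.d)) lc_d_rc_9_1 lc_d_rc_3_1 lc_d_Cert_tree lc_d_rc_20_2 lc_d_Cert_tree lc_d_rc_21_0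 lc_d_rc_18_0 lc_d_rc_20_2 lc_d_rc_21_2 lc_d_rc_3_3 lc_d_rc_3_1 lc_d_rc_3_1 lc_d_Cert_tree lc_d_rc_18_0 lc_d_rc_20_2 lc_d_rc_20_2 lc_d_rc_21_2 lc_d_rc_21_2 lc_d_Cert_tree lc_d_rc_18_0 lc_d_rc_20_2 lc_d_rc_21_2 lc_d_rc_3_1 lc_d_rc_21_2 lc_d_rc_3_1 lc_d_Cert_tree lc_d_rc_9_1 lc_d_Cert_tree lc_d_rc_28_5 lc_d_rc_21_2 lc_d_rc_3_1 lc_d_rc_9_1 lc_d_rc_3_1 lc_d_Cert_tree lc_d_rc_21_2 lc_d_rc_3_1 lc_d_rc_28_7 lc_d_rc_9_1 lc_d_rc_19_0 lc_d_rc_3_1) (@D3.rec (fun _ => (Cert rels S Gen.d)) lc_d_Cert_tree lc_d_rc_21_2 lc_d_rc_9_3 lc_d_rc_18_0 lc_d_rc_9_3 lc_d_rc_32_22 lc_d_rc_19_2 lc_d_rc_20_2 lc_d_rc_21_2 lc_d_rc_19_4 lc_d_Cert_tree lc_d_rc_18_0 lc_d_Cert_tree lc_d_rc_18_0 lc_d_rc_20_2 lc_d_rc_21_2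 lc_d_rc_28_5 lc_d_rc_19_2 lc_d_Cert_tree lc_d_rc_18_0 lc_d_rc_20_2 lc_d_rc_21_2 lc_d_Cert_tree lc_d_rc_9_1 lc_d_rc_20_2 lc_d_rc_21_2 lc_d_rc_21_2 lc_d_rc_21_2 lc_d_rc_3_1 lc_d_Cert_tree lc_d_rc_20_2 lc_d_rc_21_2 lc_d_rc_18_0 lc_d_rc_3_1 lc_d_rc_19_2 lc_d_rc_9_1 lc_d_rc_28_3 lc_d_rc_3_1 lc_d_Cert_tree lc_d_rc_20_2) (@D3.rec (fun _ => (Cert rels S Gen.d)) lc_d_rc_28_1 lc_d_rc_18_0 lc_d_rc_18_1 lc_d_rc_32_22 lc_d_rc_19_2 lc_d_rc_21_2 lc_d_rc_20_2 lc_d_rc_9_1 lc_d_Cert_tree lc_d_rc_18_0 lc_d_Cert_tree lc_d_rc_18_0 lc_d_rc_20_2 lc_d_rc_21_2 lc_d_rc_28_5 lc_d_rc_19_2 lc_d_Cert_tree lc_d_rc_18_0 lc_d_rc_20_2 lc_d_rc_21_2 lc_d_Cert_tree lc_d_rc_9_1 lc_d_rc_20_2 lc_d_rc_21_2 lc_d_rc_21_2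 lc_d_rc_21_2 lc_d_rc_3_1 lc_d_Cert_tree lc_d_rc_20_2 lc_d_rc_21_2 lc_d_rc_18_0 lc_d_rc_20_2 lc_d_rc_32_17 lc_d_rc_9_3 lc_d_rc_28_3 lc_d_Cert_tree lc_d_rc_18_1 lc_d_rc_18_0 lc_d_rc_20_2 lc_d_Cert_tree) (@D3.rec (fun _ => (Cert rels S Gen.d)) lc_d_Cert_tree lc_d_rc_18_0 lc_d_rc_21_2 lc_d_rc_3_1 lc_d_Cert_tree lc_d_rc_20_2 lc_d_rc_21_2 lc_d_rc_18_0 lc_d_rc_28_7 lc_d_rc_18_0 lc_d_Cert_tree lc_d_rc_20_2 lc_d_rc_21_2 lc_d_Cert_tree lc_d_Cert_tree lc_d_rc_20_2 lc_d_rc_21_2 lc_d_rc_18_0 lc_d_rc_20_2 lc_d_rc_21_2 lc_d_rc_18_0 lc_d_rc_3_1 lc_d_rc_20_2 lc_d_rc_28_3 lc_d_Cert_tree lc_d_rc_3_1 lc_d_rc_18_0 lc_d_rc_20_2 lc_d_Cert_tree lc_d_Cert_tree lc_d_rc_18_0 lc_d_rc_20_2 lc_d_rc_3_1 lc_d_Cert_tree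 lc_d_rc_20_2 lc_d_rc_21_2 lc_d_rc_18_0 lc_d_rc_3_1 lc_d_rc_18_0 lc_d_rc_20_2) (@D3.rec (fun _ => (Cert rels S Gen.d)) lc_d_Cert_tree lc_d_Cert_tree lc_d_rc_20_2 lc_d_rc_21_2 lc_d_rc_18_0 lc_d_rc_18_0 lc_d_rc_9_1 lc_d_rc_20_2 lc_d_rc_3_1 lc_d_Cert_tree lc_d_rc_21_2 lc_d_rc_18_0 lc_d_Cert_tree lc_d_rc_20_2 lc_d_rc_9_1 lc_d_rc_9_1 lc_d_rc_3_1 lc_d_Cert_tree lc_d_rc_3_1 lc_d_rc_9_1 lc_d_Cert_tree lc_d_rc_18_0 lc_d_rc_21_2 lc_d_rc_20_2 lc_d_rc_21_2 lc_d_rc_9_1 lc_d_rc_3_3 lc_d_rc_21_2 lc_d_rc_9_1 lc_d_rc_3_1 lc_d_Cert_tree lc_d_rc_20_2 lc_d_rc_18_0 lc_d_Cert_tree lc_d_rc_28_5 lc_d_rc_9_1 lc_d_rc_28_7 lc_d_Cert_tree lc_d_rc_20_2 lc_d_Cert_tree) (@D3.rec (fun _ => (Cert rels S Gen.d)) lc_d_rc_18_0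 lc_d_rc_20_2 lc_d_rc_21_2 lc_d_rc_3_3 lc_d_rc_9_1 lc_d_rc_21_2 lc_d_rc_20_2 lc_d_rc_9_1 lc_d_rc_28_7 lc_d_rc_28_7 lc_d_rc_21_2 lc_d_rc_28_5 lc_d_rc_20_2 lc_d_rc_21_2 lc_d_rc_21_0 lc_d_rc_20_0 lc_d_rc_21_2 lc_d_rc_21_0 lc_d_rc_3_1 lc_d_rc_9_1 lc_d_Cert_tree lc_d_rc_28_7 lc_d_rc_18_0 lc_d_rc_20_2 lc_d_rc_21_2 lc_d_rc_20_2 lc_d_rc_21_2 lc_d_rc_9_1 lc_d_rc_9_1 lc_d_rc_19_2 lc_d_rc_19_2 lc_d_rc_9_1 lc_d_rc_21_2 lc_d_rc_9_1 lc_d_rc_21_0 lc_d_rc_3_1 lc_d_rc_21_2 lc_d_rc_9_1 lc_d_rc_3_1 lc_d_rc_20_2) (@D3.rec (fun _ => (Cert rels S Gen.d)) lc_d_rc_9_1 lc_d_rc_3_1 lc_d_rc_3_1 lc_d_rc_21_2 lc_d_rc_3_1 lc_d_rc_3_1 lc_d_rc_20_2 lc_d_rc_3_1 lc_d_rc_3_3 lc_d_rc_21_2 lc_d_rc_21_2 lc_d_rc_3_1 lc_d_rc_3_1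 lc_d_rc_21_2 lc_d_rc_3_1 lc_d_rc_3_1 lc_d_rc_21_2 lc_d_rc_3_1 lc_d_rc_20_2 lc_d_rc_9_1 lc_d_rc_9_1 lc_d_rc_3_1 lc_d_Cert_tree lc_d_rc_20_2 lc_d_rc_9_1 lc_d_rc_9_1 lc_d_rc_3_1 lc_d_Cert_tree lc_d_rc_21_2 lc_d_rc_3_1 lc_d_rc_21_2 lc_d_rc_9_1 lc_d_rc_9_1 lc_d_rc_3_1 lc_d_rc_20_2 lc_d_rc_9_1 lc_d_rc_9_1 lc_d_rc_9_1 lc_d_rc_9_1 lc_d_rc_21_0) (@D3.rec (fun _ => (Cert rels S Gen.d)) lc_d_Cert_tree lc_d_rc_9_3 lc_d_rc_3_1 lc_d_Cert_tree lc_d_rc_20_2 lc_d_rc_18_0 lc_d_rc_18_0 lc_d_rc_9_1 lc_d_rc_9_1 lc_d_rc_3_1 lc_d_Cert_tree lc_d_rc_21_2 lc_d_rc_28_7 lc_d_Cert_tree lc_d_rc_20_2 lc_d_rc_9_1 lc_d_Cert_tree lc_d_rc_3_1 lc_d_rc_18_0 lc_d_rc_21_2 lc_d_rc_21_2 lc_d_rc_19_0 lc_d_Cert_tree lc_d_rc_3_1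 lc_d_rc_18_0 lc_d_rc_20_2 lc_d_rc_28_7 lc_d_rc_19_2 lc_d_rc_19_2 lc_d_rc_9_1 lc_d_rc_21_2 lc_d_rc_9_1 lc_d_rc_21_2 lc_d_rc_9_1 lc_d_rc_3_1 lc_d_rc_3_1 lc_d_Cert_tree lc_d_rc_21_2 lc_d_rc_9_1 lc_d_rc_3_1) (@D3.rec (fun _ => (Cert rels S Gen.d)) lc_d_Cert_tree lc_d_rc_20_2 lc_d_rc_9_1 lc_d_rc_3_1 lc_d_rc_3_1 lc_d_rc_21_2 lc_d_rc_9_1 lc_d_rc_3_1 lc_d_rc_3_1 lc_d_rc_20_2 lc_d_rc_9_1 lc_d_rc_9_1 lc_d_Cert_tree lc_d_rc_3_1 lc_d_rc_18_0 lc_d_rc_21_2 lc_d_rc_21_2 lc_d_rc_3_3 lc_d_rc_3_1 lc_d_Cert_tree lc_d_rc_20_2 lc_d_rc_9_1 lc_d_Cert_tree lc_d_rc_21_2 lc_d_rc_18_0 lc_d_rc_20_2 lc_d_rc_20_2 lc_d_rc_21_2 lc_d_rc_3_1 lc_d_Cert_tree lc_d_rc_21_2 lc_d_rc_19_2 lc_d_rc_21_2 lc_d_rc_9_1 lc_d_rc_18_0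 lc_d_rc_19_2 lc_d_rc_20_2 lc_d_rc_9_1 lc_d_rc_18_0 lc_d_rc_20_2) (@D3.rec (fun _ => (Cert rels S Gen.d)) lc_d_rc_9_1 lc_d_Cert_tree lc_d_rc_21_0 lc_d_rc_20_2 lc_d_rc_21_2 lc_d_rc_18_0 lc_d_rc_20_2 lc_d_rc_21_2 lc_d_rc_28_3 lc_d_rc_28_5 lc_d_rc_28_3 lc_d_rc_28_3 lc_d_rc_3_3 lc_d_rc_3_3 lc_d_rc_3_1 lc_d_rc_20_2 lc_d_rc_21_2 lc_d_rc_9_1 lc_d_rc_3_1 lc_d_rc_21_2 lc_d_rc_20_2 lc_d_rc_9_1 lc_d_rc_20_2 lc_d_rc_9_1 lc_d_rc_3_3 lc_d_rc_21_2 lc_d_rc_3_1 lc_d_Cert_tree lc_d_rc_20_2 lc_d_rc_21_2 lc_d_rc_28_7 lc_d_rc_19_0 lc_d_rc_20_2 lc_d_rc_3_1 lc_d_Cert_tree lc_d_rc_21_2 lc_d_rc_3_1 lc_d_rc_28_5 lc_d_rc_21_2 lc_d_rc_19_2) (@D3.rec (fun _ => (Cert rels S Gen.d)) lc_d_rc_3_1 lc_d_rc_18_0 lc_d_rc_20_2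 lc_d_rc_20_0 lc_d_rc_3_1 lc_d_rc_21_2 lc_d_rc_21_2 lc_d_rc_3_1 lc_d_rc_3_1 lc_d_Cert_tree lc_d_rc_20_2 lc_d_rc_21_0 lc_d_rc_20_2 lc_d_rc_20_2 lc_d_rc_21_2 lc_d_rc_3_1 lc_d_Cert_tree lc_d_rc_21_2 lc_d_rc_19_0 lc_d_rc_9_3 lc_d_rc_18_0 lc_d_rc_21_2 lc_d_rc_3_1 lc_d_rc_9_1 lc_d_rc_21_2 lc_d_rc_9_1 lc_d_rc_21_2 lc_d_rc_3_1 lc_d_Cert_tree lc_d_rc_3_3 lc_d_rc_9_1 lc_d_rc_9_1 lc_d_rc_3_3 lc_d_rc_21_0 lc_d_rc_18_0 lc_d_rc_20_2 lc_d_rc_21_2 lc_d_rc_20_2 lc_d_rc_32_66 lc_d_rc_18_0) (@D3.rec (fun _ => (Cert rels S Gen.d)) lc_d_rc_20_2 lc_d_rc_3_1 lc_d_rc_9_1 lc_d_rc_20_2 lc_d_rc_9_1 lc_d_rc_19_0 lc_d_rc_3_1 lc_d_Cert_tree lc_d_rc_20_2 lc_d_rc_9_1 lc_d_rc_9_1 lc_d_rc_3_3 lc_d_rc_3_1 lc_d_rc_18_0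 lc_d_rc_21_2 lc_d_rc_20_2 lc_d_rc_28_1 lc_d_rc_21_2 lc_d_rc_19_2 lc_d_rc_9_1 lc_d_rc_3_3 lc_d_rc_28_5 lc_d_rc_21_2 lc_d_rc_9_1 lc_d_rc_3_1 lc_d_rc_19_0 lc_d_rc_19_2 lc_d_rc_28_1 lc_d_rc_20_2 lc_d_rc_19_2 lc_d_rc_9_1 lc_d_rc_19_4 lc_d_rc_28_5 lc_d_rc_20_2 lc_d_rc_9_1 lc_d_rc_3_1 lc_d_rc_19_0 lc_d_rc_19_2 lc_d_rc_21_2 lc_d_rc_9_1)
def ce_d_5 : D2 → D3 → (Cert rels S Gen.d) := @D2.rec (fun _ => D3 → (Cert rels S Gen.d)) (@D3.rec (fun _ => (Cert rels S Gen.d)) lc_d_rc_28_7 lc_d_rc_3_3 lc_d_rc_21_2 lc_d_rc_9_1 lc_d_rc_9_1 lc_d_Cert_tree lc_d_rc_20_2 lc_d_rc_9_1 lc_d_rc_28_7 lc_d_rc_9_1 lc_d_rc_20_2 lc_d_rc_9_1 lc_d_rc_9_1 lc_d_Cert_tree lc_d_rc_18_0 lc_d_rc_20_2 lc_d_rc_21_2 lc_d_rc_20_2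 lc_d_rc_21_2 lc_d_rc_9_1 lc_d_rc_21_2 lc_d_rc_9_1 lc_d_rc_21_2 lc_d_rc_9_1 lc_d_rc_9_1 lc_d_rc_3_1 lc_d_rc_19_2 lc_d_rc_21_2 lc_d_rc_3_1 lc_d_rc_9_1 lc_d_rc_20_2 lc_d_rc_9_1 lc_d_rc_9_1 lc_d_rc_3_1 lc_d_rc_3_1 lc_d_rc_21_2 lc_d_rc_9_1 lc_d_rc_3_1 lc_d_rc_3_1 lc_d_rc_20_2) (@D3.rec (fun _ => (Cert rels S Gen.d)) lc_d_rc_9_1 lc_d_rc_9_1 lc_d_Cert_tree lc_d_rc_18_0 lc_d_rc_21_2 lc_d_rc_21_2 lc_d_rc_3_1 lc_d_rc_28_7 lc_d_rc_20_2 lc_d_rc_9_1 lc_d_Cert_tree lc_d_rc_18_0 lc_d_rc_20_2 lc_d_rc_20_2 lc_d_rc_3_1 lc_d_rc_28_7 lc_d_rc_21_2 lc_d_rc_9_1 lc_d_rc_3_1 lc_d_rc_3_1 lc_d_rc_21_2 lc_d_rc_3_1 lc_d_rc_3_1 lc_d_rc_20_0 lc_d_rc_20_2 lc_d_rc_9_1 lc_d_rc_21_0 lc_d_rc_3_1 lc_d_rc_20_2 lc_d_rc_21_2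 lc_d_rc_3_1 lc_d_rc_20_0 lc_d_rc_21_2 lc_d_rc_3_1 lc_d_Cert_tree lc_d_rc_9_3 lc_d_rc_21_2 lc_d_Cert_tree lc_d_rc_18_0 lc_d_rc_21_2) (@D3.rec (fun _ => (Cert rels S Gen.d)) lc_d_rc_9_1 lc_d_rc_9_1 lc_d_rc_21_2 lc_d_rc_9_1 lc_d_rc_3_3 lc_d_rc_3_1 lc_d_Cert_tree lc_d_rc_3_3 lc_d_rc_9_1 lc_d_rc_9_1 lc_d_Cert_tree lc_d_rc_3_1 lc_d_rc_18_0 lc_d_rc_20_2 lc_d_rc_21_2 lc_d_rc_3_1 lc_d_Cert_tree lc_d_rc_20_2 lc_d_rc_3_3 lc_d_Cert_tree lc_d_rc_18_0 lc_d_rc_20_2 lc_d_rc_9_1 lc_d_rc_9_1 lc_d_rc_20_2 lc_d_rc_9_1 lc_d_rc_21_2 lc_d_rc_3_1 lc_d_Cert_tree lc_d_rc_21_2 lc_d_rc_9_1 lc_d_rc_9_1 lc_d_Cert_tree lc_d_rc_3_1 lc_d_rc_18_0 lc_d_rc_21_2 lc_d_rc_3_3 lc_d_rc_20_0 lc_d_rc_18_0 lc_d_Cert_tree)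 (@D3.rec (fun _ => (Cert rels S Gen.d)) lc_d_rc_18_0 lc_d_rc_20_2 lc_d_rc_21_2 lc_d_rc_3_1 lc_d_rc_21_2 lc_d_rc_9_1 lc_d_rc_20_2 lc_d_rc_3_1 lc_d_Cert_tree lc_d_rc_20_2 lc_d_rc_9_1 lc_d_Cert_tree lc_d_rc_18_0 lc_d_Cert_tree lc_d_rc_18_0 lc_d_rc_28_5 lc_d_rc_19_2 lc_d_rc_28_5 lc_d_rc_18_0 lc_d_Cert_tree lc_d_rc_18_0 lc_d_rc_20_2 lc_d_rc_21_2 lc_d_rc_3_1 lc_d_rc_20_2 lc_d_rc_9_1 lc_d_rc_21_2 lc_d_rc_3_1 lc_d_Cert_tree lc_d_rc_21_2 lc_d_rc_9_1 lc_d_Cert_tree lc_d_rc_18_0 lc_d_Cert_tree lc_d_rc_18_0 lc_d_rc_28_5 lc_d_rc_19_2 lc_d_Cert_tree lc_d_rc_18_0 lc_d_rc_21_2) (@D3.rec (fun _ => (Cert rels S Gen.d)) lc_d_rc_19_2 lc_d_Cert_tree lc_d_rc_18_0 lc_d_Cert_tree lc_d_rc_28_3 lc_d_Cert_tree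 lc_d_rc_18_0 lc_d_Cert_tree lc_d_rc_18_0 lc_d_rc_20_2 lc_d_rc_19_2 lc_d_Cert_tree lc_d_rc_18_0 lc_d_Cert_tree lc_d_rc_28_3 lc_d_Cert_tree lc_d_rc_18_0 lc_d_rc_32_50 lc_d_rc_3_3 lc_d_rc_28_5 lc_d_rc_3_1 lc_d_rc_28_1 lc_d_rc_9_1 lc_d_rc_14_11 lc_d_rc_18_0 lc_d_rc_20_2 lc_d_rc_9_1 lc_d_rc_9_1 lc_d_rc_20_0 lc_d_rc_3_1 lc_d_rc_28_3 lc_d_rc_9_3 lc_d_rc_9_1 lc_d_rc_21_0 lc_d_rc_3_1 lc_d_rc_20_2 lc_d_rc_21_2 lc_d_rc_3_1 lc_d_rc_20_2 lc_d_rc_20_2) (@D3.rec (fun _ => (Cert rels S Gen.d)) lc_d_rc_21_2 lc_d_rc_20_2 lc_d_rc_21_2 lc_d_rc_9_1 lc_d_rc_3_1 lc_d_rc_28_7 lc_d_rc_20_2 lc_d_rc_3_3 lc_d_rc_14_5 lc_d_rc_21_2 lc_d_rc_18_0 lc_d_rc_28_5 lc_d_rc_21_2 lc_d_rc_3_1 lc_d_rc_21_2 lc_d_rc_20_2 lc_d_rc_9_1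 lc_d_rc_21_2 lc_d_rc_20_2 lc_d_rc_9_1 lc_d_rc_3_1 lc_d_rc_28_7 lc_d_rc_21_2 lc_d_rc_21_0 lc_d_rc_28_7 lc_d_rc_3_1 lc_d_rc_18_0 lc_d_rc_28_5 lc_d_rc_3_3 lc_d_Cert_tree lc_d_rc_20_2 lc_d_rc_3_1 lc_d_rc_3_3 lc_d_rc_18_0 lc_d_rc_9_1 lc_d_rc_21_2 lc_d_rc_21_2 lc_d_rc_21_2 lc_d_rc_9_3 lc_d_rc_18_0) (@D3.rec (fun _ => (Cert rels S Gen.d)) lc_d_rc_9_1 lc_d_rc_21_2 lc_d_rc_3_1 lc_d_rc_21_2 lc_d_rc_9_1 lc_d_rc_3_1 lc_d_Cert_tree lc_d_rc_20_2 lc_d_rc_21_2 lc_d_rc_9_1 lc_d_rc_3_1 lc_d_rc_3_1 lc_d_Cert_tree lc_d_rc_21_2 lc_d_rc_9_1 lc_d_rc_9_1 lc_d_rc_21_2 lc_d_rc_18_0 lc_d_rc_21_0 lc_d_rc_9_1 lc_d_rc_3_1 lc_d_rc_9_3 lc_d_rc_21_2 lc_d_rc_3_1 lc_d_rc_18_0 lc_d_rc_20_2 lc_d_rc_21_2 lc_d_Cert_tree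 lc_d_rc_18_0 lc_d_rc_9_3 lc_d_rc_9_1 lc_d_rc_9_1 lc_d_rc_9_1 lc_d_Cert_tree lc_d_rc_3_1 lc_d_rc_21_2 lc_d_rc_28_5 lc_d_rc_18_0 lc_d_rc_20_2 lc_d_rc_19_0) (@D3.rec (fun _ => (Cert rels S Gen.d)) lc_d_rc_20_2 lc_d_rc_21_2 lc_d_rc_21_2 lc_d_rc_18_0 lc_d_rc_20_2 lc_d_rc_20_0 lc_d_rc_3_1 lc_d_rc_20_2 lc_d_rc_9_1 lc_d_rc_3_1 lc_d_Cert_tree lc_d_rc_21_2 lc_d_rc_20_2 lc_d_rc_9_1 lc_d_rc_21_2 lc_d_rc_3_1 lc_d_rc_9_1 lc_d_rc_3_3 lc_d_rc_9_1 lc_d_rc_9_1 lc_d_rc_9_1 lc_d_rc_3_1 lc_d_rc_21_0 lc_d_rc_20_2 lc_d_rc_3_1 lc_d_rc_28_7 lc_d_rc_20_2 lc_d_rc_21_2 lc_d_rc_28_3 lc_d_rc_9_3 lc_d_rc_9_1 lc_d_rc_9_1 lc_d_rc_9_1 lc_d_rc_20_0 lc_d_rc_18_0 lc_d_rc_20_2 lc_d_rc_21_2 lc_d_rc_19_2 lc_d_rc_18_0 lc_d_rc_19_0)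 (@D3.rec (fun _ => (Cert rels S Gen.d)) lc_d_rc_21_2 lc_d_rc_9_1 lc_d_rc_21_2 lc_d_rc_21_2 lc_d_rc_21_2 lc_d_Cert_tree lc_d_rc_28_7 lc_d_rc_21_2 lc_d_rc_18_0 lc_d_rc_21_2 lc_d_rc_9_1 lc_d_rc_9_1 lc_d_rc_3_3 lc_d_rc_3_1 lc_d_rc_20_2 lc_d_rc_20_2 lc_d_rc_9_1 lc_d_rc_3_1 lc_d_Cert_tree lc_d_rc_20_2 lc_d_rc_18_0 lc_d_rc_28_5 lc_d_rc_9_1 lc_d_rc_21_2 lc_d_rc_3_1 lc_d_rc_21_2 lc_d_Cert_tree lc_d_rc_18_0 lc_d_rc_20_0 lc_d_rc_21_2 lc_d_Cert_tree lc_d_rc_18_0 lc_d_rc_28_7 lc_d_rc_28_7 lc_d_rc_3_1 lc_d_rc_9_1 lc_d_rc_19_2 lc_d_rc_19_2 lc_d_rc_18_0 lc_d_rc_20_2) (@D3.rec (fun _ => (Cert rels S Gen.d)) lc_d_rc_21_2 lc_d_rc_19_2 lc_d_rc_18_0 lc_d_rc_3_3 lc_d_rc_19_0 lc_d_rc_9_1 lc_d_rc_20_2 lc_d_rc_20_2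 lc_d_rc_28_1 lc_d_Cert_tree lc_d_rc_20_2 lc_d_rc_21_2 lc_d_rc_18_0 lc_d_rc_20_2 lc_d_rc_9_1 lc_d_rc_9_1 lc_d_rc_21_2 lc_d_rc_3_1 lc_d_rc_21_2 lc_d_rc_21_2 lc_d_rc_9_1 lc_d_rc_9_1 lc_d_Cert_tree lc_d_rc_21_2 lc_d_rc_18_0 lc_d_rc_28_5 lc_d_rc_21_2 lc_d_rc_20_2 lc_d_rc_3_1 lc_d_rc_20_2 lc_d_Cert_tree lc_d_rc_18_0 lc_d_rc_20_2 lc_d_rc_20_2 lc_d_Cert_tree lc_d_rc_18_0 lc_d_rc_28_1 lc_d_rc_28_7 lc_d_rc_3_1 lc_d_rc_9_1) (@D3.rec (fun _ => (Cert rels S Gen.d)) lc_d_rc_19_2 lc_d_rc_9_1 lc_d_rc_32_61 lc_d_rc_21_2 lc_d_rc_18_0 lc_d_rc_19_0 lc_d_rc_18_0 lc_d_rc_9_3 lc_d_rc_20_2 lc_d_rc_21_2 lc_d_rc_20_2 lc_d_rc_21_2 lc_d_rc_21_2 lc_d_rc_21_2 lc_d_rc_9_1 lc_d_rc_20_2 lc_d_rc_18_0 lc_d_rc_21_2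 lc_d_rc_9_1 lc_d_rc_21_2 lc_d_rc_9_1 lc_d_rc_21_2 lc_d_rc_20_2 lc_d_rc_20_2 lc_d_rc_21_0 lc_d_rc_9_1 lc_d_rc_9_1 lc_d_Cert_tree lc_d_rc_18_0 lc_d_Cert_tree lc_d_rc_18_0 lc_d_rc_9_1 lc_d_Cert_tree lc_d_rc_18_0 lc_d_rc_9_1 lc_d_rc_20_2 lc_d_rc_21_2 lc_d_rc_19_4 lc_d_rc_9_1 lc_d_rc_21_2) (@D3.rec (fun _ => (Cert rels S Gen.d)) lc_d_rc_20_2 lc_d_rc_18_0 lc_d_rc_19_0 lc_d_rc_18_0 lc_d_rc_9_3 lc_d_rc_20_2 lc_d_rc_21_2 lc_d_rc_21_2 lc_d_rc_20_2 lc_d_rc_21_2 lc_d_rc_18_0 lc_d_rc_20_2 lc_d_rc_9_1 lc_d_rc_20_2 lc_d_rc_20_2 lc_d_rc_28_7 lc_d_rc_3_3 lc_d_rc_28_5 lc_d_rc_9_1 lc_d_rc_9_1 lc_d_Cert_tree lc_d_rc_18_0 lc_d_Cert_tree lc_d_rc_18_0 lc_d_rc_9_1 lc_d_Cert_tree lc_d_rc_18_0 lc_d_rc_18_1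 lc_d_rc_20_2 lc_d_rc_21_2 lc_d_rc_19_4 lc_d_rc_3_1 lc_d_rc_19_4 lc_d_rc_21_2 lc_d_rc_20_2 lc_d_rc_21_2 lc_d_rc_9_1 lc_d_rc_21_2 lc_d_rc_21_2 lc_d_rc_9_1) (@D3.rec (fun _ => (Cert rels S Gen.d)) lc_d_rc_21_2 lc_d_rc_3_1 lc_d_Cert_tree lc_d_rc_3_3 lc_d_rc_9_1 lc_d_rc_3_1 lc_d_rc_21_2 lc_d_rc_20_2 lc_d_rc_9_1 lc_d_Cert_tree lc_d_rc_3_1 lc_d_rc_18_0 lc_d_rc_20_2 lc_d_rc_21_2 lc_d_rc_18_0 lc_d_Cert_tree lc_d_rc_18_0 lc_d_rc_28_7 lc_d_rc_19_2 lc_d_rc_20_2 lc_d_rc_9_1 lc_d_rc_9_1 lc_d_Cert_tree lc_d_rc_21_0 lc_d_rc_3_1 lc_d_rc_18_0 lc_d_rc_20_2 lc_d_rc_21_2 lc_d_rc_21_2 lc_d_rc_20_2 lc_d_rc_3_1 lc_d_rc_19_4 lc_d_rc_20_2 lc_d_rc_20_2 lc_d_rc_21_2 lc_d_rc_9_1 lc_d_rc_20_2 lc_d_rc_21_2 lc_d_rc_3_1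 lc_d_rc_9_1) (@D3.rec (fun _ => (Cert rels S Gen.d)) lc_d_rc_9_1 lc_d_rc_20_2 lc_d_rc_21_2 lc_d_rc_9_1 lc_d_Cert_tree lc_d_rc_3_1 lc_d_rc_18_0 lc_d_rc_21_2 lc_d_rc_20_2 lc_d_rc_18_0 lc_d_rc_9_1 lc_d_rc_19_2 lc_d_rc_21_2 lc_d_rc_9_1 lc_d_rc_9_1 lc_d_Cert_tree lc_d_rc_21_0 lc_d_rc_3_1 lc_d_rc_18_0 lc_d_rc_20_2 lc_d_rc_19_4 lc_d_rc_21_2 lc_d_rc_20_2 lc_d_rc_28_1 lc_d_rc_28_1 lc_d_rc_21_2 lc_d_rc_28_1 lc_d_rc_20_2 lc_d_rc_21_2 lc_d_rc_20_2 lc_d_rc_21_2 lc_d_rc_18_0 lc_d_rc_20_2 lc_d_rc_21_2 lc_d_rc_21_2 lc_d_rc_21_0 lc_d_rc_9_1 lc_d_rc_9_1 lc_d_rc_14_11 lc_d_rc_21_2) (@D3.rec (fun _ => (Cert rels S Gen.d)) lc_d_rc_9_1 lc_d_rc_9_1 lc_d_rc_9_1 lc_d_rc_21_2 lc_d_rc_9_1 lc_d_rc_3_1 lc_d_rc_3_1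 lc_d_rc_21_2 lc_d_rc_9_1 lc_d_rc_3_1 lc_d_rc_20_2 lc_d_rc_9_1 lc_d_rc_9_1 lc_d_rc_9_1 lc_d_rc_3_1 lc_d_Cert_tree lc_d_rc_21_2 lc_d_rc_3_1 lc_d_Cert_tree lc_d_rc_20_2 lc_d_rc_9_1 lc_d_rc_3_1 lc_d_rc_3_3 lc_d_rc_9_1 lc_d_rc_21_2 lc_d_rc_21_2 lc_d_rc_20_2 lc_d_rc_21_2 lc_d_rc_9_1 lc_d_rc_9_1 lc_d_Cert_tree lc_d_rc_18_0 lc_d_rc_20_2 lc_d_rc_21_2 lc_d_rc_9_1 lc_d_rc_21_2 lc_d_rc_28_3 lc_d_rc_20_2 lc_d_rc_21_0 lc_d_rc_9_1) (@D3.rec (fun _ => (Cert rels S Gen.d)) lc_d_rc_20_2 lc_d_rc_21_2 lc_d_rc_28_5 lc_d_rc_28_5 lc_d_rc_21_2 lc_d_rc_3_3 lc_d_rc_19_2 lc_d_rc_19_2 lc_d_rc_9_1 lc_d_rc_19_2 lc_d_rc_21_2 lc_d_rc_9_1 lc_d_rc_20_2 lc_d_rc_9_1 lc_d_rc_21_2 lc_d_rc_3_1 lc_d_Cert_tree lc_d_rc_20_2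 lc_d_rc_20_2 lc_d_rc_3_1 lc_d_Cert_tree lc_d_rc_21_2 lc_d_rc_19_2 lc_d_rc_9_1 lc_d_rc_21_2 lc_d_rc_20_0 lc_d_rc_9_1 lc_d_rc_20_2 lc_d_rc_9_1 lc_d_rc_3_1 lc_d_rc_3_1 lc_d_rc_21_2 lc_d_rc_3_1 lc_d_rc_9_1 lc_d_rc_3_1 lc_d_rc_21_0 lc_d_rc_20_2 lc_d_rc_21_2 lc_d_rc_20_2 lc_d_rc_18_1) (@D3.rec (fun _ => (Cert rels S Gen.d)) lc_d_rc_9_1 lc_d_rc_9_1 lc_d_rc_3_1 lc_d_rc_21_2 lc_d_rc_9_1 lc_d_rc_9_1 lc_d_rc_28_1 lc_d_Cert_tree lc_d_rc_21_2 lc_d_rc_3_1 lc_d_Cert_tree lc_d_rc_3_1 lc_d_rc_32_74 lc_d_Cert_tree lc_d_rc_18_0 lc_d_rc_21_2 lc_d_rc_9_1 lc_d_rc_3_1 lc_d_Cert_tree lc_d_rc_9_1 lc_d_rc_9_1 lc_d_Cert_tree lc_d_rc_18_0 lc_d_rc_20_2 lc_d_rc_9_1 lc_d_rc_3_1 lc_d_Cert_tree lc_d_rc_9_1 lc_d_rc_21_2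 lc_d_rc_9_1 lc_d_rc_20_2 lc_d_rc_9_1 lc_d_rc_9_1 lc_d_rc_3_1 lc_d_rc_18_0 lc_d_rc_21_2 lc_d_rc_21_2 lc_d_rc_20_2 lc_d_rc_3_1 lc_d_Cert_tree) (@D3.rec (fun _ => (Cert rels S Gen.d)) lc_d_rc_20_2 lc_d_rc_9_1 lc_d_rc_3_1 lc_d_rc_18_0 lc_d_rc_20_2 lc_d_rc_20_2 lc_d_rc_21_2 lc_d_rc_3_1 lc_d_Cert_tree lc_d_rc_21_2 lc_d_rc_3_1 lc_d_rc_28_5 lc_d_rc_20_2 lc_d_rc_21_2 lc_d_Cert_tree lc_d_rc_18_0 lc_d_rc_21_2 lc_d_rc_9_1 lc_d_rc_3_3 lc_d_rc_9_1 lc_d_rc_21_2 lc_d_rc_3_3 lc_d_rc_3_1 lc_d_Cert_tree lc_d_rc_20_2 lc_d_rc_9_1 lc_d_rc_9_1 lc_d_Cert_tree lc_d_rc_3_1 lc_d_rc_18_0 lc_d_rc_20_2 lc_d_rc_20_2 lc_d_rc_3_1 lc_d_rc_3_3 lc_d_rc_20_2 lc_d_rc_21_2 lc_d_Cert_tree lc_d_rc_18_0 lc_d_rc_20_2 lc_d_rc_9_1)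 (@D3.rec (fun _ => (Cert rels S Gen.d)) lc_d_rc_3_3 lc_d_rc_9_1 lc_d_rc_20_2 lc_d_rc_21_2 lc_d_rc_3_1 lc_d_Cert_tree lc_d_rc_21_2 lc_d_rc_9_1 lc_d_rc_9_1 lc_d_Cert_tree lc_d_rc_3_1 lc_d_rc_18_0 lc_d_rc_21_2 lc_d_rc_3_3 lc_d_Cert_tree lc_d_rc_18_0 lc_d_rc_28_5 lc_d_rc_19_2 lc_d_Cert_tree lc_d_rc_18_0 lc_d_rc_28_5 lc_d_rc_19_2 lc_d_rc_28_3 lc_d_Cert_tree lc_d_rc_18_0 lc_d_rc_28_3 lc_d_Cert_tree lc_d_rc_18_0 lc_d_rc_21_2 lc_d_rc_20_2 lc_d_rc_28_1 lc_d_rc_28_1 lc_d_rc_21_2 lc_d_rc_21_2 lc_d_rc_3_1 lc_d_Cert_tree lc_d_rc_20_2 lc_d_rc_21_2 lc_d_rc_20_2 lc_d_rc_3_1) (@D3.rec (fun _ => (Cert rels S Gen.d)) lc_d_Cert_tree lc_d_rc_21_2 lc_d_rc_21_2 lc_d_rc_9_3 lc_d_rc_18_0 lc_d_rc_20_2 lc_d_rc_21_2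 lc_d_rc_9_1 lc_d_rc_3_1 lc_d_Cert_tree lc_d_rc_3_3 lc_d_rc_9_1 lc_d_Cert_tree lc_d_rc_3_1 lc_d_rc_18_0 lc_d_rc_20_2 lc_d_rc_21_2 lc_d_rc_14_3 lc_d_rc_20_0 lc_d_rc_18_0 lc_d_rc_21_2 lc_d_rc_20_2 lc_d_rc_9_1 lc_d_rc_3_1 lc_d_Cert_tree lc_d_rc_21_2 lc_d_rc_9_1 lc_d_Cert_tree lc_d_rc_3_1 lc_d_rc_18_0 lc_d_rc_21_2 lc_d_rc_3_3 lc_d_rc_21_2 lc_d_rc_20_2 lc_d_rc_3_1 lc_d_rc_28_7 lc_d_rc_3_1 lc_d_rc_28_3 lc_d_rc_3_1 lc_d_rc_21_2) (@D3.rec (fun _ => (Cert rels S Gen.d)) lc_d_rc_21_2 lc_d_rc_21_0 lc_d_rc_9_1 lc_d_rc_3_3 lc_d_rc_21_0 lc_d_rc_20_2 lc_d_rc_20_2 lc_d_rc_21_0 lc_d_rc_9_1 lc_d_rc_9_3 lc_d_rc_28_7 lc_d_rc_9_1 lc_d_rc_9_1 lc_d_rc_21_2 lc_d_rc_9_1 lc_d_rc_28_7 lc_d_rc_28_7 lc_d_Cert_tree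 lc_d_rc_3_1 lc_d_rc_9_1 lc_d_rc_9_1 lc_d_Cert_tree lc_d_rc_3_1 lc_d_rc_18_0 lc_d_rc_20_2 lc_d_rc_21_2 lc_d_rc_19_4 lc_d_rc_9_1 lc_d_rc_9_1 lc_d_rc_20_2 lc_d_rc_9_1 lc_d_rc_20_2 lc_d_rc_28_7 lc_d_Cert_tree lc_d_rc_21_2 lc_d_rc_9_1 lc_d_rc_9_1 lc_d_Cert_tree lc_d_rc_3_1 lc_d_rc_18_0) (@D3.rec (fun _ => (Cert rels S Gen.d)) lc_d_rc_21_2 lc_d_rc_3_1 lc_d_rc_9_3 lc_d_rc_28_1 lc_d_rc_21_2 lc_d_rc_9_1 lc_d_rc_21_2 lc_d_rc_28_5 lc_d_rc_28_3 lc_d_rc_21_2 lc_d_rc_9_1 lc_d_rc_3_1 lc_d_Cert_tree lc_d_rc_9_3 lc_d_Cert_tree lc_d_rc_3_1 lc_d_rc_21_2 lc_d_rc_3_1 lc_d_rc_9_1 lc_d_rc_9_1 lc_d_Cert_tree lc_d_rc_18_0 lc_d_rc_20_2 lc_d_rc_9_1 lc_d_rc_3_1 lc_d_rc_9_3 lc_d_rc_9_1 lc_d_rc_21_2 lc_d_Cert_tree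 lc_d_rc_21_0 lc_d_rc_3_1 lc_d_Cert_tree lc_d_rc_18_0 lc_d_rc_20_2 lc_d_rc_9_1 lc_d_Cert_tree lc_d_rc_9_1 lc_d_rc_20_2 lc_d_rc_21_2 lc_d_rc_3_3) (@D3.rec (fun _ => (Cert rels S Gen.d)) lc_d_rc_9_3 lc_d_rc_19_0 lc_d_rc_20_2 lc_d_rc_20_2 lc_d_rc_9_1 lc_d_rc_18_0 lc_d_rc_28_3 lc_d_rc_20_2 lc_d_rc_20_2 lc_d_rc_3_1 lc_d_Cert_tree lc_d_rc_9_3 lc_d_Cert_tree lc_d_rc_20_2 lc_d_rc_20_2 lc_d_rc_21_2 lc_d_rc_9_1 lc_d_rc_9_1 lc_d_Cert_tree lc_d_rc_18_0 lc_d_rc_21_2 lc_d_rc_9_1 lc_d_rc_3_1 lc_d_rc_21_0 lc_d_rc_9_1 lc_d_rc_9_3 lc_d_Cert_tree lc_d_rc_3_1 lc_d_rc_3_1 lc_d_Cert_tree lc_d_rc_18_0 lc_d_rc_21_2 lc_d_rc_9_1 lc_d_Cert_tree lc_d_rc_9_1 lc_d_rc_21_2 lc_d_rc_3_3 lc_d_rc_19_2 lc_d_rc_9_3 lc_d_rc_18_0)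 (@D3.rec (fun _ => (Cert rels S Gen.d)) lc_d_Cert_tree lc_d_rc_18_0 lc_d_rc_28_7 lc_d_rc_21_2 lc_d_rc_3_1 lc_d_rc_9_1 lc_d_rc_19_2 lc_d_rc_21_2 lc_d_rc_18_0 lc_d_rc_20_2 lc_d_rc_18_0 lc_d_rc_28_5 lc_d_rc_28_7 lc_d_rc_3_1 lc_d_rc_9_1 lc_d_rc_19_2 lc_d_rc_18_0 lc_d_rc_21_2 lc_d_rc_32_7 lc_d_rc_19_4 lc_d_rc_20_2 lc_d_rc_21_2 lc_d_rc_21_2 lc_d_rc_18_0 lc_d_Cert_tree lc_d_rc_18_0 lc_d_rc_20_2 lc_d_rc_21_2 lc_d_rc_19_2 lc_d_rc_18_0 lc_d_rc_20_2 lc_d_rc_18_1 lc_d_rc_9_3 lc_d_rc_20_2 lc_d_rc_21_2 lc_d_rc_20_2 lc_d_rc_18_0 lc_d_Cert_tree lc_d_rc_18_0 lc_d_rc_20_2) (@D3.rec (fun _ => (Cert rels S Gen.d)) lc_d_rc_21_2 lc_d_rc_19_2 lc_d_rc_19_4 lc_d_rc_19_4 lc_d_rc_9_1 lc_d_rc_21_2 lc_d_rc_9_1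 lc_d_rc_3_1 lc_d_rc_21_2 lc_d_rc_9_1 lc_d_rc_20_2 lc_d_rc_9_1 lc_d_rc_28_7 lc_d_rc_20_2 lc_d_rc_21_2 lc_d_rc_9_1 lc_d_rc_9_1 lc_d_rc_3_1 lc_d_Cert_tree lc_d_rc_21_2 lc_d_rc_3_1 lc_d_Cert_tree lc_d_rc_20_2 lc_d_rc_9_1 lc_d_rc_3_1 lc_d_rc_18_0 lc_d_rc_28_7 lc_d_rc_9_1 lc_d_rc_21_2 lc_d_rc_18_0 lc_d_rc_9_3 lc_d_Cert_tree lc_d_rc_21_2 lc_d_rc_9_1 lc_d_Cert_tree lc_d_rc_20_2 lc_d_rc_9_1 lc_d_rc_9_1 lc_d_Cert_tree lc_d_rc_18_0) (@D3.rec (fun _ => (Cert rels S Gen.d)) lc_d_rc_21_2 lc_d_rc_21_2 lc_d_rc_28_7 lc_d_Cert_tree lc_d_rc_20_2 lc_d_rc_9_1 lc_d_Cert_tree lc_d_rc_18_0 lc_d_rc_20_2 lc_d_rc_20_2 lc_d_rc_28_7 lc_d_Cert_tree lc_d_rc_21_2 lc_d_rc_3_1 lc_d_Cert_tree lc_d_rc_20_2 lc_d_rc_21_2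 lc_d_Cert_tree lc_d_rc_18_0 lc_d_Cert_tree lc_d_rc_20_2 lc_d_rc_21_2 lc_d_rc_9_1 lc_d_rc_28_3 lc_d_Cert_tree lc_d_rc_28_7 lc_d_rc_9_1 lc_d_Cert_tree lc_d_rc_28_3 lc_d_rc_18_0 lc_d_rc_20_2 lc_d_rc_21_2 lc_d_rc_3_1 lc_d_Cert_tree lc_d_rc_20_2 lc_d_rc_21_2 lc_d_Cert_tree lc_d_rc_18_0 lc_d_Cert_tree lc_d_rc_21_2)
def ce_d_6 : D2 → D3 → (Cert rels S Gen.d) := @D2.rec (fun _ => D3 → (Cert rels S Gen.d)) (@D3.rec (fun _ => (Cert rels S Gen.d)) lc_d_rc_20_2 lc_d_rc_9_1 lc_d_rc_28_3 lc_d_Cert_tree lc_d_rc_21_2 lc_d_rc_9_1 lc_d_Cert_tree lc_d_rc_28_3 lc_d_rc_18_0 lc_d_rc_21_2 lc_d_rc_28_7 lc_d_rc_20_2 lc_d_rc_21_2 lc_d_rc_9_3 lc_d_rc_18_0 lc_d_rc_21_2 lc_d_rc_9_1 lc_d_rc_28_5 lc_d_rc_19_2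 lc_d_rc_21_2 lc_d_rc_9_1 lc_d_rc_3_3 lc_d_rc_9_1 lc_d_rc_20_2 lc_d_rc_21_2 lc_d_rc_9_3 lc_d_rc_18_0 lc_d_rc_20_2 lc_d_rc_9_1 lc_d_rc_28_5 lc_d_rc_19_2 lc_d_rc_20_2 lc_d_rc_9_1 lc_d_rc_21_2 lc_d_rc_9_1 lc_d_rc_9_3 lc_d_rc_19_4 lc_d_rc_21_2 lc_d_rc_21_2 lc_d_rc_3_3) (@D3.rec (fun _ => (Cert rels S Gen.d)) lc_d_rc_18_0 lc_d_rc_20_2 lc_d_rc_21_2 lc_d_rc_28_3 lc_d_rc_3_1 lc_d_rc_21_2 lc_d_rc_9_1 lc_d_rc_3_1 lc_d_rc_20_0 lc_d_rc_9_3 lc_d_rc_18_0 lc_d_Cert_tree lc_d_rc_21_2 lc_d_rc_21_2 lc_d_rc_9_1 lc_d_rc_3_1 lc_d_rc_3_1 lc_d_rc_20_2 lc_d_rc_9_1 lc_d_rc_3_1 lc_d_rc_28_7 lc_d_rc_21_2 lc_d_rc_19_4 lc_d_rc_19_4 lc_d_rc_20_2 lc_d_rc_21_2 lc_d_rc_3_3 lc_d_rc_18_0 lc_d_rc_20_2 lc_d_rc_21_2 lc_d_rc_28_3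 lc_d_rc_3_1 lc_d_rc_20_2 lc_d_rc_9_1 lc_d_rc_3_1 lc_d_rc_18_0 lc_d_rc_9_3 lc_d_rc_18_0 lc_d_Cert_tree lc_d_rc_20_2) (@D3.rec (fun _ => (Cert rels S Gen.d)) lc_d_rc_20_2 lc_d_rc_9_1 lc_d_rc_21_2 lc_d_rc_3_1 lc_d_rc_21_2 lc_d_rc_9_1 lc_d_rc_3_1 lc_d_rc_28_5 lc_d_rc_20_2 lc_d_Cert_tree lc_d_rc_18_0 lc_d_rc_20_2 lc_d_rc_21_2 lc_d_Cert_tree lc_d_rc_9_1 lc_d_rc_20_2 lc_d_rc_21_2 lc_d_rc_21_2 lc_d_rc_21_2 lc_d_rc_21_2 lc_d_rc_28_3 lc_d_rc_20_2 lc_d_rc_9_1 lc_d_rc_3_1 lc_d_Cert_tree lc_d_rc_20_2 lc_d_rc_9_1 lc_d_rc_3_1 lc_d_rc_21_2 lc_d_Cert_tree lc_d_rc_18_0 lc_d_rc_20_2 lc_d_rc_21_2 lc_d_Cert_tree lc_d_rc_9_1 lc_d_rc_20_2 lc_d_rc_21_2 lc_d_rc_20_2 lc_d_rc_21_2 lc_d_rc_21_2) (@D3.rec (fun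 _ => (Cert rels S Gen.d)) lc_d_rc_28_3 lc_d_rc_21_2 lc_d_rc_9_1 lc_d_rc_3_1 lc_d_Cert_tree lc_d_rc_21_2 lc_d_rc_9_1 lc_d_rc_3_1 lc_d_rc_3_3 lc_d_Cert_tree lc_d_rc_18_0 lc_d_rc_20_2 lc_d_rc_21_2 lc_d_Cert_tree lc_d_rc_19_2 lc_d_rc_20_2 lc_d_rc_21_2 lc_d_rc_21_2 lc_d_rc_21_2 lc_d_Cert_tree lc_d_rc_18_0 lc_d_rc_20_2 lc_d_rc_21_2 lc_d_Cert_tree lc_d_rc_19_2 lc_d_rc_20_2 lc_d_rc_21_2 lc_d_rc_21_2 lc_d_rc_21_2 lc_d_Cert_tree lc_d_rc_9_1 lc_d_Cert_tree lc_d_rc_9_1 lc_d_rc_14_5 lc_d_rc_21_2 lc_d_rc_19_2 lc_d_rc_14_5 lc_d_rc_20_2 lc_d_rc_19_2 lc_d_rc_3_3) (@D3.rec (fun _ => (Cert rels S Gen.d)) lc_d_rc_28_7 lc_d_rc_21_0 lc_d_rc_28_7 lc_d_rc_9_1 lc_d_rc_9_1 lc_d_rc_9_1 lc_d_Cert_tree lc_d_rc_18_0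 lc_d_rc_3_1 lc_d_rc_21_2 lc_d_rc_21_2 lc_d_rc_3_1 lc_d_Cert_tree lc_d_rc_18_0 lc_d_rc_3_3 lc_d_rc_21_2 lc_d_rc_3_1 lc_d_rc_20_2 lc_d_rc_28_5 lc_d_rc_21_2 lc_d_rc_9_1 lc_d_rc_3_1 lc_d_rc_20_0 lc_d_rc_28_5 lc_d_rc_3_1 lc_d_Cert_tree lc_d_rc_18_0 lc_d_rc_20_2 lc_d_Cert_tree lc_d_rc_9_3 lc_d_rc_18_0 lc_d_rc_20_2 lc_d_rc_28_5 lc_d_rc_19_2 lc_d_rc_20_2 lc_d_rc_21_2 lc_d_rc_3_3 lc_d_Cert_tree lc_d_rc_18_0 lc_d_rc_20_2) (@D3.rec (fun _ => (Cert rels S Gen.d)) lc_d_rc_28_7 lc_d_rc_21_2 lc_d_rc_3_1 lc_d_Cert_tree lc_d_rc_18_0 lc_d_rc_20_2 lc_d_rc_3_3 lc_d_rc_3_1 lc_d_rc_21_2 lc_d_rc_28_3 lc_d_rc_3_3 lc_d_rc_9_1 lc_d_rc_3_1 lc_d_rc_28_3 lc_d_rc_3_3 lc_d_rc_21_2 lc_d_Cert_tree lc_d_rc_18_0 lc_d_rc_21_2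 lc_d_rc_9_1 lc_d_rc_9_3 lc_d_rc_18_0 lc_d_rc_21_2 lc_d_rc_28_5 lc_d_rc_19_2 lc_d_rc_21_2 lc_d_rc_3_3 lc_d_rc_9_1 lc_d_rc_9_1 lc_d_rc_3_1 lc_d_rc_9_1 lc_d_rc_21_2 lc_d_rc_9_1 lc_d_rc_3_1 lc_d_rc_9_1 lc_d_rc_3_1 lc_d_Cert_tree lc_d_rc_20_2 lc_d_rc_9_1 lc_d_rc_20_2) (@D3.rec (fun _ => (Cert rels S Gen.d)) lc_d_rc_3_1 lc_d_rc_18_0 lc_d_rc_3_1 lc_d_rc_3_1 lc_d_rc_19_4 lc_d_rc_19_2 lc_d_rc_18_0 lc_d_rc_21_2 lc_d_rc_28_3 lc_d_rc_21_2 lc_d_rc_3_3 lc_d_rc_3_1 lc_d_rc_9_1 lc_d_rc_9_1 lc_d_rc_20_2 lc_d_rc_3_1 lc_d_Cert_tree lc_d_rc_21_2 lc_d_Cert_tree lc_d_rc_18_0 lc_d_rc_28_7 lc_d_rc_3_1 lc_d_rc_9_1 lc_d_rc_9_1 lc_d_rc_9_1 lc_d_rc_20_2 lc_d_rc_9_1 lc_d_rc_3_1 lc_d_rc_9_1 lc_d_rc_3_1 lc_d_Cert_tree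 lc_d_rc_21_2 lc_d_rc_9_1 lc_d_rc_19_2 lc_d_rc_18_0 lc_d_rc_3_1 lc_d_rc_3_1 lc_d_rc_19_4 lc_d_rc_19_2 lc_d_rc_18_0) (@D3.rec (fun _ => (Cert rels S Gen.d)) lc_d_rc_20_2 lc_d_rc_28_5 lc_d_rc_20_2 lc_d_rc_21_2 lc_d_rc_3_1 lc_d_rc_9_1 lc_d_rc_9_1 lc_d_rc_21_2 lc_d_rc_3_1 lc_d_Cert_tree lc_d_rc_20_2 lc_d_Cert_tree lc_d_rc_18_0 lc_d_rc_20_2 lc_d_rc_21_2 lc_d_rc_21_2 lc_d_rc_3_1 lc_d_rc_3_1 lc_d_rc_20_2 lc_d_rc_21_2 lc_d_rc_28_1 lc_d_rc_9_1 lc_d_Cert_tree lc_d_rc_21_2 lc_d_rc_20_2 lc_d_rc_21_2 lc_d_rc_21_2 lc_d_rc_9_1 lc_d_rc_21_0 lc_d_rc_9_1 lc_d_rc_3_1 lc_d_rc_20_2 lc_d_rc_9_1 lc_d_rc_19_2 lc_d_rc_3_1 lc_d_rc_9_1 lc_d_rc_9_1 lc_d_rc_21_2 lc_d_rc_3_1 lc_d_rc_21_2) (@D3.rec (fun _ => (Cert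 rels S Gen.d)) lc_d_rc_21_2 lc_d_rc_21_2 lc_d_rc_3_1 lc_d_rc_21_2 lc_d_rc_20_2 lc_d_rc_3_1 lc_d_Cert_tree lc_d_rc_20_2 lc_d_rc_9_1 lc_d_rc_28_3 lc_d_rc_21_2 lc_d_rc_20_2 lc_d_rc_21_2 lc_d_rc_9_1 lc_d_rc_20_2 lc_d_rc_3_1 lc_d_rc_3_1 lc_d_rc_20_2 lc_d_rc_21_2 lc_d_rc_9_1 lc_d_rc_28_1 lc_d_Cert_tree lc_d_rc_20_2 lc_d_rc_20_2 lc_d_rc_21_2 lc_d_rc_9_1 lc_d_rc_21_2 lc_d_rc_21_0 lc_d_rc_3_1 lc_d_rc_21_2 lc_d_rc_9_1 lc_d_rc_9_1 lc_d_rc_19_2 lc_d_rc_3_1 lc_d_rc_9_1 lc_d_rc_18_1 lc_d_rc_20_2 lc_d_rc_3_1 lc_d_rc_20_2 lc_d_rc_20_2) (@D3.rec (fun _ => (Cert rels S Gen.d)) lc_d_rc_20_2 lc_d_rc_3_1 lc_d_rc_20_2 lc_d_rc_21_2 lc_d_rc_3_1 lc_d_Cert_tree lc_d_rc_21_2 lc_d_rc_9_1 lc_d_rc_20_2 lc_d_rc_21_2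 lc_d_rc_9_1 lc_d_rc_18_0 lc_d_rc_21_2 lc_d_rc_21_2 lc_d_rc_21_2 lc_d_rc_3_1 lc_d_rc_20_2 lc_d_rc_3_1 lc_d_rc_32_40 lc_d_rc_20_2 lc_d_rc_21_2 lc_d_Cert_tree lc_d_rc_21_2 lc_d_rc_18_0 lc_d_rc_21_2 lc_d_rc_18_0 lc_d_rc_20_2 lc_d_rc_21_2 lc_d_rc_21_2 lc_d_rc_9_1 lc_d_rc_18_0 lc_d_rc_20_2 lc_d_rc_21_2 lc_d_rc_21_2 lc_d_rc_9_1 lc_d_rc_3_3 lc_d_rc_9_1 lc_d_rc_28_3 lc_d_Cert_tree lc_d_rc_20_2) (@D3.rec (fun _ => (Cert rels S Gen.d)) lc_d_rc_9_1 lc_d_rc_21_2 lc_d_rc_9_1 lc_d_rc_3_3 lc_d_rc_20_2 lc_d_rc_9_1 lc_d_rc_3_1 lc_d_Cert_tree lc_d_rc_18_1 lc_d_Cert_tree lc_d_rc_3_1 lc_d_rc_18_0 lc_d_rc_20_2 lc_d_rc_21_2 lc_d_rc_18_0 lc_d_Cert_tree lc_d_rc_18_0 lc_d_rc_28_7 lc_d_rc_19_2 lc_d_rc_18_0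 lc_d_rc_20_2 lc_d_rc_9_1 lc_d_rc_20_2 lc_d_rc_3_1 lc_d_rc_21_2 lc_d_rc_3_1 lc_d_rc_9_3 lc_d_rc_20_2 lc_d_rc_21_2 lc_d_Cert_tree lc_d_rc_20_2 lc_d_rc_18_0 lc_d_rc_20_2 lc_d_rc_18_0 lc_d_rc_20_2 lc_d_rc_21_2 lc_d_rc_9_1 lc_d_rc_20_2 lc_d_rc_18_0 lc_d_rc_20_2) (@D3.rec (fun _ => (Cert rels S Gen.d)) lc_d_rc_21_2 lc_d_rc_9_1 lc_d_rc_21_2 lc_d_rc_20_2 lc_d_Cert_tree lc_d_rc_9_3 lc_d_rc_20_2 lc_d_rc_9_1 lc_d_rc_3_3 lc_d_rc_21_2 lc_d_rc_9_1 lc_d_rc_3_1 lc_d_Cert_tree lc_d_rc_3_3 lc_d_Cert_tree lc_d_rc_18_0 lc_d_rc_21_2 lc_d_rc_20_2 lc_d_rc_18_0 lc_d_rc_9_1 lc_d_rc_19_2 lc_d_rc_3_1 lc_d_Cert_tree lc_d_rc_21_2 lc_d_rc_9_1 lc_d_rc_9_1 lc_d_rc_21_2 lc_d_rc_18_0 lc_d_rc_21_2 lc_d_rc_21_2 lc_d_rc_21_2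 lc_d_rc_21_2 lc_d_rc_28_1 lc_d_rc_9_1 lc_d_rc_3_1 lc_d_rc_20_2 lc_d_rc_18_0 lc_d_rc_9_1 lc_d_rc_9_1 lc_d_rc_3_1) (@D3.rec (fun _ => (Cert rels S Gen.d)) lc_d_rc_9_3 lc_d_rc_20_2 lc_d_rc_3_1 lc_d_rc_9_1 lc_d_rc_20_2 lc_d_rc_9_1 lc_d_rc_28_3 lc_d_rc_18_0 lc_d_rc_28_3 lc_d_rc_20_2 lc_d_rc_3_1 lc_d_Cert_tree lc_d_rc_9_1 lc_d_rc_3_1 lc_d_rc_9_3 lc_d_rc_20_2 lc_d_rc_9_1 lc_d_rc_28_3 lc_d_rc_3_1 lc_d_rc_18_0 lc_d_rc_28_7 lc_d_rc_20_2 lc_d_rc_3_1 lc_d_rc_21_2 lc_d_rc_19_4 lc_d_rc_19_0 lc_d_rc_20_2 lc_d_rc_21_2 lc_d_Cert_tree lc_d_rc_18_0 lc_d_rc_28_3 lc_d_rc_9_1 lc_d_rc_19_2 lc_d_rc_9_1 lc_d_rc_3_1 lc_d_rc_20_2 lc_d_rc_21_2 lc_d_rc_9_1 lc_d_rc_28_7 lc_d_rc_3_1) (@D3.rec (fun _ => (Cert rels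 S Gen.d)) lc_d_rc_3_1 lc_d_Cert_tree lc_d_rc_18_0 lc_d_rc_19_2 lc_d_Cert_tree lc_d_rc_18_0 lc_d_Cert_tree lc_d_rc_18_0 lc_d_rc_28_7 lc_d_rc_21_2 lc_d_rc_3_1 lc_d_rc_9_1 lc_d_Cert_tree lc_d_rc_19_2 lc_d_rc_9_1 lc_d_rc_3_1 lc_d_rc_21_2 lc_d_rc_3_1 lc_d_Cert_tree lc_d_rc_20_2 lc_d_rc_9_1 lc_d_rc_9_1 lc_d_rc_20_2 lc_d_rc_18_0 lc_d_rc_20_2 lc_d_rc_21_2 lc_d_rc_20_2 lc_d_rc_28_1 lc_d_rc_21_0 lc_d_rc_9_1 lc_d_rc_3_1 lc_d_rc_20_2 lc_d_rc_18_0 lc_d_rc_9_1 lc_d_rc_3_1 lc_d_rc_9_3 lc_d_rc_21_2 lc_d_rc_9_1 lc_d_rc_28_3 lc_d_rc_18_0) (@D3.rec (fun _ => (Cert rels S Gen.d)) lc_d_rc_3_1 lc_d_rc_21_2 lc_d_rc_3_1 lc_d_Cert_tree lc_d_rc_3_1 lc_d_rc_21_2 lc_d_rc_9_1 lc_d_rc_3_1 lc_d_rc_9_3 lc_d_rc_21_2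 lc_d_rc_9_1 lc_d_rc_28_3 lc_d_rc_3_1 lc_d_rc_18_0 lc_d_rc_20_2 lc_d_rc_21_2 lc_d_rc_3_1 lc_d_rc_9_1 lc_d_rc_21_2 lc_d_rc_3_3 lc_d_rc_20_2 lc_d_rc_21_2 lc_d_Cert_tree lc_d_rc_18_0 lc_d_rc_28_3 lc_d_rc_9_1 lc_d_rc_19_2 lc_d_rc_9_1 lc_d_rc_3_1 lc_d_rc_21_2 lc_d_rc_20_2 lc_d_rc_9_1 lc_d_rc_28_7 lc_d_rc_3_1 lc_d_rc_21_2 lc_d_Cert_tree lc_d_rc_18_0 lc_d_rc_19_2 lc_d_rc_9_3 lc_d_rc_18_0) (@D3.rec (fun _ => (Cert rels S Gen.d)) lc_d_Cert_tree lc_d_rc_18_0 lc_d_rc_20_2 lc_d_rc_28_7 lc_d_rc_3_1 lc_d_rc_9_1 lc_d_Cert_tree lc_d_rc_19_2 lc_d_rc_9_1 lc_d_rc_3_1 lc_d_rc_20_2 lc_d_rc_18_1 lc_d_rc_18_0 lc_d_rc_21_2 lc_d_rc_19_2 lc_d_rc_18_0 lc_d_rc_21_2 lc_d_rc_28_5 lc_d_rc_32_24 lc_d_rc_20_2 lc_d_rc_21_2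 lc_d_rc_21_2 lc_d_rc_3_3 lc_d_rc_21_2 lc_d_rc_9_1 lc_d_rc_3_1 lc_d_rc_21_2 lc_d_rc_3_1 lc_d_rc_21_2 lc_d_rc_9_1 lc_d_rc_21_0 lc_d_rc_9_1 lc_d_rc_3_3 lc_d_rc_18_0 lc_d_rc_20_2 lc_d_rc_19_2 lc_d_rc_18_0 lc_d_rc_20_2 lc_d_rc_28_5 lc_d_rc_32_24) (@D3.rec (fun _ => (Cert rels S Gen.d)) lc_d_rc_20_2 lc_d_rc_21_2 lc_d_rc_21_2 lc_d_rc_21_2 lc_d_rc_9_3 lc_d_rc_18_0 lc_d_rc_28_1 lc_d_rc_20_2 lc_d_rc_3_1 lc_d_rc_20_2 lc_d_rc_9_1 lc_d_rc_9_1 lc_d_rc_9_1 lc_d_rc_3_1 lc_d_Cert_tree lc_d_rc_21_2 lc_d_rc_3_1 lc_d_Cert_tree lc_d_rc_19_4 lc_d_rc_9_1 lc_d_rc_21_2 lc_d_rc_9_1 lc_d_rc_3_1 lc_d_Cert_tree lc_d_rc_21_2 lc_d_rc_21_0 lc_d_Cert_tree lc_d_rc_20_2 lc_d_rc_9_1 lc_d_rc_3_1 lc_d_Cert_tree lc_d_rc_21_2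 lc_d_rc_9_1 lc_d_rc_3_1 lc_d_Cert_tree lc_d_rc_20_2 lc_d_rc_9_1 lc_d_rc_9_1 lc_d_Cert_tree lc_d_rc_18_0) (@D3.rec (fun _ => (Cert rels S Gen.d)) lc_d_rc_21_2 lc_d_rc_21_2 lc_d_rc_3_1 lc_d_Cert_tree lc_d_rc_20_2 lc_d_rc_9_1 lc_d_Cert_tree lc_d_rc_18_0 lc_d_rc_20_2 lc_d_rc_20_2 lc_d_rc_3_1 lc_d_Cert_tree lc_d_rc_21_2 lc_d_Cert_tree lc_d_rc_18_0 lc_d_rc_20_2 lc_d_rc_21_2 lc_d_rc_20_2 lc_d_rc_21_2 lc_d_rc_9_1 lc_d_rc_21_2 lc_d_rc_9_1 lc_d_rc_21_2 lc_d_rc_9_1 lc_d_rc_9_1 lc_d_rc_3_1 lc_d_Cert_tree lc_d_rc_21_2 lc_d_rc_3_1 lc_d_Cert_tree lc_d_rc_20_2 lc_d_rc_9_1 lc_d_Cert_tree lc_d_rc_28_7 lc_d_rc_18_0 lc_d_rc_21_2 lc_d_rc_28_3 lc_d_rc_9_1 lc_d_Cert_tree lc_d_rc_21_0) (@D3.rec (fun _ =>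 (Cert rels S Gen.d)) lc_d_rc_18_0 lc_d_rc_20_2 lc_d_rc_21_2 lc_d_rc_20_2 lc_d_rc_21_2 lc_d_rc_14_9 lc_d_rc_18_0 lc_d_rc_21_2 lc_d_rc_9_1 lc_d_Cert_tree lc_d_rc_19_2 lc_d_rc_21_2 lc_d_rc_9_1 lc_d_rc_3_3 lc_d_rc_20_2 lc_d_rc_21_2 lc_d_rc_3_1 lc_d_rc_18_0 lc_d_rc_20_2 lc_d_rc_9_1 lc_d_Cert_tree lc_d_rc_19_2 lc_d_rc_20_2 lc_d_rc_9_1 lc_d_rc_21_2 lc_d_rc_3_1 lc_d_rc_9_1 lc_d_rc_28_3 lc_d_rc_9_1 lc_d_rc_18_0 lc_d_rc_3_3 lc_d_rc_20_2 lc_d_rc_3_1 lc_d_Cert_tree lc_d_rc_18_0 lc_d_rc_20_2 lc_d_rc_32_19 lc_d_rc_3_1 lc_d_Cert_tree lc_d_rc_3_3) (@D3.rec (fun _ => (Cert rels S Gen.d)) lc_d_rc_20_2 lc_d_rc_21_2 lc_d_rc_28_5 lc_d_rc_19_2 lc_d_rc_21_2 lc_d_rc_19_2 lc_d_rc_28_7 lc_d_Cert_tree lc_d_rc_28_7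 lc_d_rc_9_1 lc_d_Cert_tree lc_d_rc_28_7 lc_d_rc_18_0 lc_d_rc_20_2 lc_d_rc_21_2 lc_d_rc_3_3 lc_d_rc_20_2 lc_d_rc_21_2 lc_d_rc_28_5 lc_d_rc_19_2 lc_d_rc_20_2 lc_d_rc_9_1 lc_d_rc_28_7 lc_d_Cert_tree lc_d_rc_21_2 lc_d_rc_9_1 lc_d_Cert_tree lc_d_rc_28_7 lc_d_rc_18_0 lc_d_rc_21_2 lc_d_rc_28_7 lc_d_rc_21_2 lc_d_rc_3_3 lc_d_rc_20_0 lc_d_rc_18_0 lc_d_rc_20_2 lc_d_rc_21_2 lc_d_rc_28_3 lc_d_rc_3_1 lc_d_rc_18_0) (@D3.rec (fun _ => (Cert rels S Gen.d)) lc_d_rc_21_2 lc_d_rc_21_2 lc_d_rc_9_1 lc_d_Cert_tree lc_d_rc_20_2 lc_d_rc_9_1 lc_d_Cert_tree lc_d_rc_18_0 lc_d_rc_20_2 lc_d_rc_21_2 lc_d_Cert_tree lc_d_rc_18_0 lc_d_rc_20_2 lc_d_Cert_tree lc_d_rc_19_2 lc_d_rc_20_2 lc_d_rc_9_1 lc_d_rc_21_2 lc_d_rc_9_1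 lc_d_rc_21_2 lc_d_rc_3_3 lc_d_rc_28_7 lc_d_rc_18_0 lc_d_rc_20_2 lc_d_rc_21_2 lc_d_rc_28_3 lc_d_rc_3_1 lc_d_rc_18_0 lc_d_rc_20_2 lc_d_rc_3_1 lc_d_rc_9_1 lc_d_Cert_tree lc_d_rc_21_2 lc_d_rc_9_1 lc_d_Cert_tree lc_d_rc_18_0 lc_d_rc_21_2 lc_d_rc_20_2 lc_d_Cert_tree lc_d_rc_18_0) (@D3.rec (fun _ => (Cert rels S Gen.d)) lc_d_rc_21_2 lc_d_Cert_tree lc_d_rc_19_2 lc_d_rc_21_2 lc_d_rc_9_1 lc_d_rc_3_3 lc_d_rc_9_1 lc_d_rc_21_2 lc_d_rc_21_2 lc_d_rc_3_1 lc_d_rc_18_0 lc_d_rc_3_1 lc_d_rc_19_2 lc_d_rc_21_2 lc_d_rc_9_1 lc_d_rc_28_7 lc_d_Cert_tree lc_d_rc_9_1 lc_d_rc_9_1 lc_d_rc_19_4 lc_d_rc_28_5 lc_d_rc_19_2 lc_d_rc_9_1 lc_d_rc_3_1 lc_d_Cert_tree lc_d_rc_20_2 lc_d_rc_9_1 lc_d_rc_9_1 lc_d_Cert_tree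 lc_d_rc_18_0 lc_d_rc_20_2 lc_d_rc_9_1 lc_d_rc_21_0 lc_d_Cert_tree lc_d_rc_21_2 lc_d_rc_20_2 lc_d_rc_20_0 lc_d_Cert_tree lc_d_rc_18_0 lc_d_rc_20_2) (@D3.rec (fun _ => (Cert rels S Gen.d)) lc_d_rc_3_1 lc_d_rc_28_5 lc_d_rc_19_2 lc_d_rc_20_2 lc_d_rc_9_1 lc_d_rc_21_2 lc_d_rc_9_1 lc_d_rc_20_2 lc_d_rc_21_2 lc_d_rc_3_1 lc_d_rc_18_0 lc_d_rc_9_3 lc_d_rc_3_1 lc_d_rc_20_2 lc_d_rc_9_1 lc_d_rc_28_7 lc_d_Cert_tree lc_d_rc_9_1 lc_d_rc_9_1 lc_d_rc_20_0 lc_d_rc_28_5 lc_d_rc_19_2 lc_d_rc_9_1 lc_d_rc_21_2 lc_d_Cert_tree lc_d_rc_21_2 lc_d_rc_9_1 lc_d_rc_9_1 lc_d_Cert_tree lc_d_rc_18_0 lc_d_rc_21_2 lc_d_rc_9_1 lc_d_rc_20_0 lc_d_Cert_tree lc_d_rc_20_2 lc_d_rc_20_2 lc_d_rc_9_3 lc_d_Cert_tree lc_d_rc_18_0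 lc_d_rc_21_2) (@D3.rec (fun _ => (Cert rels S Gen.d)) lc_d_rc_3_1 lc_d_rc_28_5 lc_d_rc_19_2 lc_d_rc_21_2 lc_d_rc_9_1 lc_d_rc_3_3 lc_d_rc_9_1 lc_d_rc_3_3 lc_d_rc_9_1 lc_d_rc_18_0 lc_d_rc_21_2 lc_d_rc_19_2 lc_d_rc_20_2 lc_d_rc_21_2 lc_d_rc_21_2 lc_d_rc_9_1 lc_d_rc_3_3 lc_d_rc_3_3 lc_d_rc_28_3 lc_d_Cert_tree lc_d_rc_3_3 lc_d_rc_28_3 lc_d_rc_20_2 lc_d_rc_28_1 lc_d_rc_9_1 lc_d_rc_20_2 lc_d_rc_21_2 lc_d_rc_21_2 lc_d_rc_9_1 lc_d_rc_3_3 lc_d_rc_9_1 lc_d_rc_20_2 lc_d_rc_28_3 lc_d_rc_3_1 lc_d_rc_9_1 lc_d_rc_28_3 lc_d_Cert_tree lc_d_rc_20_2 lc_d_rc_9_1 lc_d_Cert_tree) (@D3.rec (fun _ => (Cert rels S Gen.d)) lc_d_rc_28_3 lc_d_rc_18_0 lc_d_rc_20_2 lc_d_Cert_tree lc_d_rc_18_0 lc_d_rc_20_2 lc_d_rc_20_2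 lc_d_rc_21_2 lc_d_rc_9_3 lc_d_rc_21_2 lc_d_rc_21_2 lc_d_rc_9_1 lc_d_rc_28_3 lc_d_rc_9_1 lc_d_rc_3_1 lc_d_rc_3_1 lc_d_rc_20_2 lc_d_rc_9_1 lc_d_rc_9_1 lc_d_rc_20_2 lc_d_rc_3_1 lc_d_Cert_tree lc_d_rc_21_2 lc_d_rc_21_2 lc_d_Cert_tree lc_d_rc_20_2 lc_d_rc_20_2 lc_d_Cert_tree lc_d_rc_18_0 lc_d_Cert_tree lc_d_rc_21_2 lc_d_rc_20_2 lc_d_rc_9_1 lc_d_rc_3_1 lc_d_Cert_tree lc_d_rc_20_2 lc_d_Cert_tree lc_d_rc_9_3 lc_d_rc_18_0 lc_d_rc_21_2) (@D3.rec (fun _ => (Cert rels S Gen.d)) lc_d_rc_3_3 lc_d_Cert_tree lc_d_rc_3_1 lc_d_rc_21_2 lc_d_Cert_tree lc_d_rc_18_0 lc_d_rc_20_2 lc_d_rc_21_2 lc_d_rc_20_2 lc_d_rc_9_3 lc_d_Cert_tree lc_d_rc_18_0 lc_d_rc_20_2 lc_d_rc_21_2 lc_d_rc_28_3 lc_d_rc_28_7 lc_d_rc_20_2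 lc_d_rc_9_1 lc_d_Cert_tree lc_d_Cert_tree lc_d_rc_18_0 lc_d_Cert_tree lc_d_rc_20_2 lc_d_rc_20_2 lc_d_rc_21_2 lc_d_rc_9_1 lc_d_rc_3_1 lc_d_rc_28_3 lc_d_rc_20_2 lc_d_rc_9_1 lc_d_rc_9_1 lc_d_rc_18_0 lc_d_rc_20_2 lc_d_rc_19_2 lc_d_rc_20_2 lc_d_rc_21_2 lc_d_rc_9_1 lc_d_rc_21_2 lc_d_rc_3_3 lc_d_rc_28_3)
def ce_d_7 : D2 → D3 → (Cert rels S Gen.d) := @D2.rec (fun _ => D3 → (Cert rels S Gen.d)) (@D3.rec (fun _ => (Cert rels S Gen.d)) lc_d_Cert_tree lc_d_rc_21_2 lc_d_rc_9_1 lc_d_rc_28_1 lc_d_rc_20_2 lc_d_rc_9_1 lc_d_rc_20_2 lc_d_rc_21_2 lc_d_rc_9_1 lc_d_rc_21_2 lc_d_rc_3_3 lc_d_rc_9_1 lc_d_rc_21_2 lc_d_rc_28_5 lc_d_rc_3_1 lc_d_rc_9_1 lc_d_rc_28_3 lc_d_Cert_tree lc_d_rc_21_2 lc_d_rc_9_1 lc_d_Cert_tree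 lc_d_rc_18_0 lc_d_rc_21_2 lc_d_Cert_tree lc_d_rc_18_0 lc_d_rc_3_1 lc_d_rc_20_2 lc_d_rc_21_2 lc_d_rc_3_3 lc_d_rc_20_2 lc_d_rc_21_0 lc_d_rc_9_1 lc_d_rc_28_5 lc_d_rc_9_1 lc_d_rc_21_2 lc_d_rc_3_1 lc_d_rc_21_2 lc_d_rc_9_1 lc_d_rc_9_1 lc_d_rc_21_2) (@D3.rec (fun _ => (Cert rels S Gen.d)) lc_d_rc_3_1 lc_d_Cert_tree lc_d_rc_20_2 lc_d_rc_28_3 lc_d_Cert_tree lc_d_rc_20_2 lc_d_rc_20_2 lc_d_Cert_tree lc_d_rc_18_0 lc_d_Cert_tree lc_d_rc_20_2 lc_d_rc_21_2 lc_d_rc_9_1 lc_d_rc_21_2 lc_d_Cert_tree lc_d_rc_20_2 lc_d_Cert_tree lc_d_rc_9_3 lc_d_rc_18_0 lc_d_rc_20_2 lc_d_rc_21_2 lc_d_Cert_tree lc_d_rc_19_4 lc_d_rc_21_2 lc_d_Cert_tree lc_d_rc_18_0 lc_d_rc_20_2 lc_d_rc_21_2 lc_d_rc_9_3 lc_d_rc_3_3 lc_d_Cert_tree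 lc_d_rc_18_0 lc_d_rc_20_2 lc_d_rc_21_2 lc_d_rc_28_3 lc_d_rc_3_1 lc_d_rc_21_2 lc_d_rc_9_1 lc_d_Cert_tree lc_d_Cert_tree) (@D3.rec (fun _ => (Cert rels S Gen.d)) lc_d_rc_18_0 lc_d_Cert_tree lc_d_rc_21_2 lc_d_rc_21_2 lc_d_rc_3_1 lc_d_rc_9_1 lc_d_rc_3_1 lc_d_rc_28_7 lc_d_rc_20_2 lc_d_rc_9_1 lc_d_rc_3_1 lc_d_rc_28_1 lc_d_rc_28_7 lc_d_rc_21_2 lc_d_rc_28_1 lc_d_rc_20_2 lc_d_rc_21_2 lc_d_rc_9_1 lc_d_Cert_tree lc_d_rc_18_0 lc_d_Cert_tree lc_d_rc_18_0 lc_d_rc_20_2 lc_d_rc_21_2 lc_d_rc_28_5 lc_d_rc_19_2 lc_d_Cert_tree lc_d_rc_18_0 lc_d_rc_20_2 lc_d_rc_21_2 lc_d_Cert_tree lc_d_rc_9_1 lc_d_rc_20_2 lc_d_rc_21_2 lc_d_rc_21_2 lc_d_rc_21_2 lc_d_rc_28_7 lc_d_rc_19_2 lc_d_rc_20_2 lc_d_rc_21_2) (@D3.rec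 (fun _ => (Cert rels S Gen.d)) lc_d_rc_9_1 lc_d_rc_3_1 lc_d_rc_28_1 lc_d_rc_19_2 lc_d_rc_3_1 lc_d_rc_32_33 lc_d_rc_3_3 lc_d_rc_20_2 lc_d_rc_9_1 lc_d_Cert_tree lc_d_rc_18_0 lc_d_Cert_tree lc_d_rc_18_0 lc_d_rc_20_2 lc_d_rc_21_2 lc_d_rc_28_5 lc_d_rc_19_2 lc_d_Cert_tree lc_d_rc_18_0 lc_d_rc_20_2 lc_d_rc_21_2 lc_d_Cert_tree lc_d_rc_9_1 lc_d_rc_20_2 lc_d_rc_21_2 lc_d_rc_21_2 lc_d_rc_21_2 lc_d_rc_28_7 lc_d_rc_19_2 lc_d_rc_20_2 lc_d_rc_21_2 lc_d_rc_18_0 lc_d_rc_28_3 lc_d_Cert_tree lc_d_rc_18_0 lc_d_rc_18_0 lc_d_rc_28_3 lc_d_Cert_tree lc_d_rc_18_0 lc_d_rc_9_1) (@D3.rec (fun _ => (Cert rels S Gen.d)) lc_d_rc_28_5 lc_d_rc_28_5 lc_d_rc_18_0 lc_d_rc_28_7 lc_d_rc_19_0 lc_d_rc_20_2 lc_d_rc_18_1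 lc_d_rc_18_0 lc_d_rc_21_2 lc_d_rc_3_3 lc_d_rc_18_0 lc_d_rc_20_2 lc_d_rc_18_0 lc_d_Cert_tree lc_d_rc_20_2 lc_d_rc_21_2 lc_d_rc_18_0 lc_d_rc_3_3 lc_d_rc_3_3 lc_d_rc_28_5 lc_d_rc_28_5 lc_d_rc_9_1 lc_d_rc_19_2 lc_d_rc_9_1 lc_d_rc_19_2 lc_d_rc_21_2 lc_d_rc_9_1 lc_d_rc_20_2 lc_d_rc_9_1 lc_d_rc_18_0 lc_d_rc_21_2 lc_d_rc_19_2 lc_d_rc_20_2 lc_d_rc_3_1 lc_d_rc_18_0 lc_d_rc_20_2 lc_d_rc_28_1 lc_d_rc_28_1 lc_d_rc_21_0 lc_d_rc_9_1) (@D3.rec (fun _ => (Cert rels S Gen.d)) lc_d_rc_18_0 lc_d_rc_19_2 lc_d_rc_21_2 lc_d_rc_21_2 lc_d_Cert_tree lc_d_rc_18_0 lc_d_rc_20_2 lc_d_rc_3_1 lc_d_rc_9_1 lc_d_rc_18_0 lc_d_rc_28_3 lc_d_rc_20_2 lc_d_rc_9_1 lc_d_Cert_tree lc_d_rc_18_0 lc_d_rc_21_2 lc_d_rc_3_1 lc_d_rc_19_2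 lc_d_rc_21_2 lc_d_rc_19_2 lc_d_rc_18_0 lc_d_rc_21_2 lc_d_rc_9_1 lc_d_rc_21_2 lc_d_rc_9_1 lc_d_rc_3_1 lc_d_rc_21_2 lc_d_rc_9_1 lc_d_rc_3_1 lc_d_rc_20_2 lc_d_rc_9_1 lc_d_rc_9_1 lc_d_rc_19_2 lc_d_rc_19_2 lc_d_rc_18_0 lc_d_rc_20_2 lc_d_rc_9_1 lc_d_rc_20_2 lc_d_rc_9_1 lc_d_rc_3_1) (@D3.rec (fun _ => (Cert rels S Gen.d)) lc_d_rc_20_2 lc_d_rc_9_1 lc_d_rc_21_2 lc_d_rc_21_2 lc_d_rc_9_1 lc_d_rc_20_2 lc_d_rc_21_2 lc_d_rc_9_1 lc_d_rc_19_2 lc_d_rc_18_0 lc_d_rc_28_5 lc_d_rc_21_2 lc_d_rc_28_7 lc_d_rc_20_0 lc_d_rc_20_2 lc_d_rc_21_2 lc_d_rc_21_2 lc_d_rc_28_5 lc_d_rc_20_2 lc_d_rc_18_0 lc_d_rc_18_1 lc_d_rc_9_1 lc_d_Cert_tree lc_d_rc_20_2 lc_d_rc_18_0 lc_d_rc_20_2 lc_d_rc_28_3 lc_d_rc_3_1 lc_d_Cert_tree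 lc_d_rc_18_0 lc_d_rc_19_2 lc_d_rc_19_2 lc_d_rc_20_2 lc_d_rc_9_1 lc_d_rc_21_2 lc_d_Cert_tree lc_d_rc_18_0 lc_d_rc_20_2 lc_d_rc_20_2 lc_d_rc_28_3) (@D3.rec (fun _ => (Cert rels S Gen.d)) lc_d_rc_3_1 lc_d_rc_20_2 lc_d_rc_9_1 lc_d_rc_19_2 lc_d_rc_20_2 lc_d_rc_9_1 lc_d_rc_21_2 lc_d_rc_21_2 lc_d_rc_9_1 lc_d_rc_21_2 lc_d_rc_21_2 lc_d_rc_21_0 lc_d_rc_9_1 lc_d_rc_19_2 lc_d_rc_18_0 lc_d_rc_20_2 lc_d_rc_28_5 lc_d_rc_28_7 lc_d_rc_19_2 lc_d_rc_20_2 lc_d_rc_21_2 lc_d_rc_28_5 lc_d_rc_20_2 lc_d_rc_21_2 lc_d_rc_18_0 lc_d_rc_3_3 lc_d_rc_9_1 lc_d_Cert_tree lc_d_rc_21_2 lc_d_rc_18_0 lc_d_rc_21_2 lc_d_rc_28_3 lc_d_rc_3_1 lc_d_Cert_tree lc_d_rc_18_0 lc_d_rc_19_2 lc_d_rc_19_2 lc_d_rc_21_2 lc_d_rc_9_1 lc_d_rc_9_1)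 (@D3.rec (fun _ => (Cert rels S Gen.d)) lc_d_Cert_tree lc_d_rc_18_0 lc_d_rc_20_2 lc_d_rc_21_2 lc_d_rc_28_3 lc_d_rc_3_1 lc_d_rc_21_2 lc_d_rc_9_1 lc_d_rc_19_2 lc_d_rc_21_2 lc_d_rc_9_1 lc_d_rc_3_1 lc_d_rc_20_2 lc_d_rc_9_1 lc_d_rc_28_1 lc_d_Cert_tree lc_d_rc_19_2 lc_d_rc_9_1 lc_d_rc_21_2 lc_d_rc_21_2 lc_d_rc_9_1 lc_d_rc_20_2 lc_d_rc_21_2 lc_d_rc_3_1 lc_d_Cert_tree lc_d_rc_20_2 lc_d_rc_9_1 lc_d_rc_3_3 lc_d_Cert_tree lc_d_rc_18_0 lc_d_rc_20_2 lc_d_Cert_tree lc_d_rc_18_0 lc_d_rc_19_2 lc_d_rc_20_2 lc_d_rc_21_2 lc_d_rc_9_1 lc_d_rc_19_2 lc_d_rc_18_0 lc_d_rc_19_4) (@D3.rec (fun _ => (Cert rels S Gen.d)) lc_d_rc_28_5 lc_d_rc_21_2 lc_d_rc_19_2 lc_d_rc_21_2 lc_d_rc_21_2 lc_d_rc_9_1 lc_d_rc_21_0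 lc_d_rc_9_1 lc_d_rc_3_1 lc_d_Cert_tree lc_d_rc_28_3 lc_d_rc_9_1 lc_d_rc_3_1 lc_d_rc_20_2 lc_d_rc_9_1 lc_d_Cert_tree lc_d_rc_3_1 lc_d_rc_18_0 lc_d_rc_28_5 lc_d_rc_21_2 lc_d_Cert_tree lc_d_rc_28_7 lc_d_rc_18_0 lc_d_rc_20_2 lc_d_Cert_tree lc_d_rc_19_2 lc_d_rc_20_2 lc_d_rc_28_5 lc_d_rc_18_0 lc_d_rc_21_2 lc_d_rc_9_1 lc_d_rc_21_2 lc_d_rc_9_1 lc_d_rc_20_2 lc_d_rc_3_1 lc_d_rc_19_0 lc_d_rc_20_2 lc_d_rc_9_1 lc_d_rc_19_2 lc_d_rc_28_7) (@D3.rec (fun _ => (Cert rels S Gen.d)) lc_d_rc_19_2 lc_d_rc_9_1 lc_d_rc_9_1 lc_d_rc_20_2 lc_d_rc_3_1 lc_d_rc_28_7 lc_d_rc_21_2 lc_d_rc_3_1 lc_d_rc_19_0 lc_d_rc_20_2 lc_d_rc_21_2 lc_d_Cert_tree lc_d_rc_18_0 lc_d_rc_21_0 lc_d_rc_21_2 lc_d_rc_9_1 lc_d_rc_3_1 lc_d_Cert_tree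 lc_d_rc_3_3 lc_d_rc_3_1 lc_d_rc_18_0 lc_d_rc_21_2 lc_d_rc_3_3 lc_d_Cert_tree lc_d_Cert_tree lc_d_rc_18_0 lc_d_rc_28_3 lc_d_rc_28_7 lc_d_Cert_tree lc_d_rc_18_0 lc_d_rc_20_2 lc_d_rc_21_2 lc_d_rc_28_3 lc_d_rc_3_1 lc_d_rc_9_3 lc_d_rc_18_0 lc_d_Cert_tree lc_d_rc_28_3 lc_d_rc_3_3 lc_d_rc_9_1) (@D3.rec (fun _ => (Cert rels S Gen.d)) lc_d_rc_3_1 lc_d_Cert_tree lc_d_rc_21_2 lc_d_Cert_tree lc_d_rc_18_0 lc_d_rc_9_3 lc_d_rc_18_0 lc_d_rc_20_2 lc_d_rc_20_2 lc_d_rc_19_2 lc_d_rc_21_2 lc_d_rc_9_1 lc_d_rc_28_3 lc_d_rc_9_1 lc_d_rc_20_2 lc_d_rc_20_2 lc_d_rc_28_7 lc_d_rc_18_0 lc_d_rc_28_1 lc_d_rc_28_5 lc_d_rc_19_2 lc_d_rc_20_2 lc_d_rc_9_1 lc_d_rc_20_0 lc_d_Cert_tree lc_d_Cert_tree lc_d_rc_18_0 lc_d_rc_20_2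 lc_d_rc_21_2 lc_d_rc_28_3 lc_d_rc_9_1 lc_d_rc_20_2 lc_d_rc_21_2 lc_d_rc_19_0 lc_d_rc_21_2 lc_d_rc_3_3 lc_d_rc_9_1 lc_d_Cert_tree lc_d_rc_28_3 lc_d_rc_3_1) (@D3.rec (fun _ => (Cert rels S Gen.d)) lc_d_Cert_tree lc_d_rc_9_3 lc_d_rc_18_0 lc_d_Cert_tree lc_d_rc_18_0 lc_d_Cert_tree lc_d_rc_20_2 lc_d_rc_21_2 lc_d_Cert_tree lc_d_rc_20_2 lc_d_rc_18_0 lc_d_rc_20_2 lc_d_rc_28_5 lc_d_rc_21_2 lc_d_rc_9_1 lc_d_rc_3_1 lc_d_Cert_tree lc_d_rc_21_0 lc_d_rc_9_3 lc_d_rc_18_0 lc_d_rc_28_7 lc_d_rc_3_3 lc_d_Cert_tree lc_d_rc_9_1 lc_d_rc_3_1 lc_d_rc_20_2 lc_d_rc_9_1 lc_d_rc_21_2 lc_d_rc_3_1 lc_d_Cert_tree lc_d_rc_21_2 lc_d_rc_9_1 lc_d_rc_20_2 lc_d_Cert_tree lc_d_rc_18_0 lc_d_rc_21_2 lc_d_rc_21_2 lc_d_rc_18_0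 lc_d_rc_19_2 lc_d_rc_20_2) (@D3.rec (fun _ => (Cert rels S Gen.d)) lc_d_rc_21_2 lc_d_rc_9_1 lc_d_rc_19_2 lc_d_rc_18_0 lc_d_rc_19_4 lc_d_rc_20_2 lc_d_rc_32_59 lc_d_rc_20_2 lc_d_rc_19_2 lc_d_rc_9_1 lc_d_rc_21_2 lc_d_rc_21_0 lc_d_rc_3_1 lc_d_Cert_tree lc_d_rc_9_1 lc_d_rc_20_2 lc_d_rc_9_1 lc_d_rc_3_1 lc_d_rc_21_2 lc_d_rc_9_1 lc_d_rc_28_5 lc_d_rc_3_1 lc_d_rc_18_0 lc_d_rc_21_2 lc_d_rc_20_2 lc_d_Cert_tree lc_d_rc_28_7 lc_d_rc_18_0 lc_d_Cert_tree lc_d_rc_19_2 lc_d_rc_21_2 lc_d_rc_28_5 lc_d_rc_18_0 lc_d_rc_20_2 lc_d_rc_9_1 lc_d_rc_20_2 lc_d_rc_3_1 lc_d_rc_3_1 lc_d_rc_3_1 lc_d_rc_9_1) (@D3.rec (fun _ => (Cert rels S Gen.d)) lc_d_rc_21_2 lc_d_rc_3_3 lc_d_rc_19_2 lc_d_rc_19_2 lc_d_rc_19_2 lc_d_rc_9_1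 lc_d_rc_9_1 lc_d_rc_21_2 lc_d_rc_3_1 lc_d_rc_28_7 lc_d_rc_20_2 lc_d_rc_3_1 lc_d_rc_19_0 lc_d_rc_20_2 lc_d_rc_21_2 lc_d_Cert_tree lc_d_rc_18_0 lc_d_rc_20_0 lc_d_rc_20_2 lc_d_rc_21_2 lc_d_rc_21_2 lc_d_Cert_tree lc_d_rc_14_5 lc_d_rc_3_1 lc_d_rc_18_0 lc_d_rc_20_2 lc_d_rc_3_3 lc_d_rc_20_2 lc_d_Cert_tree lc_d_rc_18_0 lc_d_rc_3_3 lc_d_rc_28_3 lc_d_Cert_tree lc_d_rc_18_0 lc_d_rc_20_2 lc_d_rc_21_2 lc_d_rc_3_1 lc_d_rc_9_1 lc_d_Cert_tree lc_d_rc_28_5) (@D3.rec (fun _ => (Cert rels S Gen.d)) lc_d_rc_21_2 lc_d_rc_9_1 lc_d_rc_3_1 lc_d_Cert_tree lc_d_rc_20_2 lc_d_Cert_tree lc_d_rc_18_0 lc_d_rc_9_3 lc_d_rc_18_0 lc_d_rc_21_2 lc_d_rc_21_2 lc_d_rc_19_2 lc_d_rc_20_2 lc_d_rc_9_1 lc_d_rc_28_3 lc_d_rc_9_1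 lc_d_rc_20_2 lc_d_rc_28_7 lc_d_rc_18_0 lc_d_rc_28_5 lc_d_rc_28_1 lc_d_rc_19_2 lc_d_rc_20_0 lc_d_rc_21_0 lc_d_Cert_tree lc_d_Cert_tree lc_d_rc_18_0 lc_d_rc_20_2 lc_d_rc_21_2 lc_d_rc_28_3 lc_d_rc_9_1 lc_d_rc_20_2 lc_d_rc_21_2 lc_d_rc_21_2 lc_d_rc_21_2 lc_d_rc_21_2 lc_d_rc_3_1 lc_d_Cert_tree lc_d_rc_20_2 lc_d_rc_18_0) (@D3.rec (fun _ => (Cert rels S Gen.d)) lc_d_rc_3_1 lc_d_Cert_tree lc_d_rc_20_2 lc_d_rc_21_2 lc_d_rc_18_0 lc_d_rc_21_2 lc_d_rc_28_3 lc_d_rc_3_3 lc_d_rc_9_1 lc_d_rc_3_1 lc_d_Cert_tree lc_d_rc_28_1 lc_d_rc_9_3 lc_d_rc_18_0 lc_d_rc_28_7 lc_d_rc_19_2 lc_d_rc_28_3 lc_d_rc_3_1 lc_d_rc_21_2 lc_d_rc_3_1 lc_d_rc_18_0 lc_d_rc_21_2 lc_d_rc_20_2 lc_d_rc_21_2 lc_d_rc_19_2 lc_d_Cert_tree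 lc_d_rc_19_2 lc_d_rc_21_2 lc_d_rc_9_1 lc_d_rc_3_1 lc_d_Cert_tree lc_d_rc_20_2 lc_d_rc_18_0 lc_d_rc_20_2 lc_d_rc_9_3 lc_d_rc_3_1 lc_d_rc_18_0 lc_d_rc_20_2 lc_d_rc_21_2 lc_d_Cert_tree) (@D3.rec (fun _ => (Cert rels S Gen.d)) lc_d_rc_19_2 lc_d_rc_20_2 lc_d_rc_21_2 lc_d_rc_21_2 lc_d_rc_21_2 lc_d_rc_9_1 lc_d_rc_19_2 lc_d_rc_18_0 lc_d_rc_20_2 lc_d_rc_21_2 lc_d_Cert_tree lc_d_rc_28_3 lc_d_rc_20_2 lc_d_rc_21_2 lc_d_rc_3_1 lc_d_rc_28_5 lc_d_rc_18_0 lc_d_Cert_tree lc_d_rc_21_2 lc_d_rc_20_2 lc_d_rc_21_2 lc_d_rc_21_2 lc_d_rc_21_0 lc_d_rc_9_1 lc_d_rc_9_1 lc_d_Cert_tree lc_d_rc_3_1 lc_d_rc_3_1 lc_d_rc_18_0 lc_d_rc_20_2 lc_d_rc_21_2 lc_d_rc_21_2 lc_d_rc_3_3 lc_d_rc_3_1 lc_d_rc_18_1 lc_d_rc_3_1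 lc_d_rc_20_2 lc_d_rc_3_1 lc_d_rc_18_0 lc_d_rc_9_1) (@D3.rec (fun _ => (Cert rels S Gen.d)) lc_d_rc_21_2 lc_d_rc_19_0 lc_d_rc_3_1 lc_d_Cert_tree lc_d_rc_21_2 lc_d_rc_20_2 lc_d_rc_9_1 lc_d_rc_3_1 lc_d_Cert_tree lc_d_rc_21_2 lc_d_rc_18_0 lc_d_rc_9_3 lc_d_rc_28_7 lc_d_rc_3_1 lc_d_rc_18_0 lc_d_rc_3_3 lc_d_rc_21_2 lc_d_Cert_tree lc_d_rc_19_2 lc_d_rc_20_2 lc_d_rc_21_2 lc_d_rc_21_2 lc_d_rc_3_3 lc_d_rc_9_1 lc_d_rc_20_2 lc_d_rc_18_0 lc_d_rc_20_2 lc_d_rc_21_2 lc_d_Cert_tree lc_d_rc_28_3 lc_d_rc_20_2 lc_d_rc_21_2 lc_d_rc_28_5 lc_d_rc_28_5 lc_d_rc_18_0 lc_d_Cert_tree lc_d_rc_20_2 lc_d_rc_20_2 lc_d_rc_21_2 lc_d_rc_21_2) (@D3.rec (fun _ => (Cert rels S Gen.d)) lc_d_rc_21_0 lc_d_rc_9_1 lc_d_rc_9_1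 lc_d_Cert_tree lc_d_rc_3_1 lc_d_rc_3_1 lc_d_rc_18_0 lc_d_rc_20_2 lc_d_rc_21_2 lc_d_rc_21_2 lc_d_rc_3_3 lc_d_rc_9_1 lc_d_rc_9_3 lc_d_rc_18_0 lc_d_rc_28_5 lc_d_rc_20_2 lc_d_rc_21_2 lc_d_rc_20_2 lc_d_Cert_tree lc_d_rc_18_0 lc_d_rc_14_5 lc_d_rc_18_0 lc_d_rc_20_2 lc_d_rc_21_2 lc_d_rc_19_2 lc_d_rc_21_2 lc_d_rc_9_1 lc_d_rc_21_0 lc_d_rc_3_1 lc_d_rc_3_1 lc_d_rc_18_0 lc_d_rc_20_2 lc_d_rc_21_2 lc_d_rc_21_2 lc_d_rc_3_1 lc_d_Cert_tree lc_d_rc_21_0 lc_d_rc_20_2 lc_d_rc_28_3 lc_d_Cert_tree) (@D3.rec (fun _ => (Cert rels S Gen.d)) lc_d_rc_20_2 lc_d_rc_21_2 lc_d_rc_18_0 lc_d_rc_9_1 lc_d_rc_18_0 lc_d_Cert_tree lc_d_rc_3_3 lc_d_rc_21_2 lc_d_rc_18_0 lc_d_rc_20_2 lc_d_rc_20_2 lc_d_rc_21_2 lc_d_rc_28_5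 lc_d_rc_20_2 lc_d_rc_28_1 lc_d_rc_9_1 lc_d_rc_32_66 lc_d_rc_18_0 lc_d_rc_28_5 lc_d_rc_21_2 lc_d_rc_3_1 lc_d_rc_20_2 lc_d_Cert_tree lc_d_rc_18_0 lc_d_rc_14_5 lc_d_rc_18_0 lc_d_rc_20_2 lc_d_rc_20_0 lc_d_rc_19_2 lc_d_rc_20_2 lc_d_rc_9_1 lc_d_rc_20_0 lc_d_rc_3_1 lc_d_rc_3_1 lc_d_rc_18_0 lc_d_rc_20_2 lc_d_rc_21_2 lc_d_rc_21_2 lc_d_rc_3_1 lc_d_Cert_tree) (@D3.rec (fun _ => (Cert rels S Gen.d)) lc_d_rc_20_2 lc_d_rc_20_0 lc_d_rc_3_3 lc_d_rc_20_2 lc_d_rc_9_1 lc_d_rc_18_0 lc_d_Cert_tree lc_d_rc_28_5 lc_d_rc_3_3 lc_d_rc_18_0 lc_d_rc_20_2 lc_d_rc_3_1 lc_d_rc_20_2 lc_d_rc_28_7 lc_d_rc_20_2 lc_d_rc_3_1 lc_d_Cert_tree lc_d_rc_9_1 lc_d_rc_3_3 lc_d_rc_18_0 lc_d_rc_9_3 lc_d_rc_20_2 lc_d_rc_3_1 lc_d_rc_18_0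 lc_d_rc_20_2 lc_d_rc_28_5 lc_d_rc_3_1 lc_d_Cert_tree lc_d_rc_3_1 lc_d_rc_9_1 lc_d_rc_20_2 lc_d_rc_9_1 lc_d_Cert_tree lc_d_rc_18_0 lc_d_rc_20_0 lc_d_rc_3_1 lc_d_rc_20_0 lc_d_rc_20_2 lc_d_Cert_tree lc_d_rc_18_0) (@D3.rec (fun _ => (Cert rels S Gen.d)) lc_d_rc_3_3 lc_d_rc_9_1 lc_d_rc_21_2 lc_d_rc_9_1 lc_d_rc_20_2 lc_d_rc_9_1 lc_d_rc_9_1 lc_d_rc_3_1 lc_d_rc_18_1 lc_d_rc_21_2 lc_d_rc_3_1 lc_d_rc_9_1 lc_d_rc_28_7 lc_d_rc_3_3 lc_d_rc_18_0 lc_d_rc_20_2 lc_d_rc_21_2 lc_d_rc_21_0 lc_d_rc_18_0 lc_d_rc_21_2 lc_d_rc_3_1 lc_d_rc_9_1 lc_d_rc_9_1 lc_d_Cert_tree lc_d_rc_18_0 lc_d_rc_3_1 lc_d_rc_20_2 lc_d_rc_21_2 lc_d_Cert_tree lc_d_rc_18_0 lc_d_rc_28_5 lc_d_rc_21_0 lc_d_rc_20_2 lc_d_rc_9_1 lc_d_rc_21_2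 lc_d_rc_9_1 lc_d_rc_18_0 lc_d_rc_3_1 lc_d_rc_20_2 lc_d_rc_19_4) (@D3.rec (fun _ => (Cert rels S Gen.d)) lc_d_rc_21_2 lc_d_rc_9_1 lc_d_rc_28_7 lc_d_rc_9_1 lc_d_rc_9_1 lc_d_rc_28_5 lc_d_rc_28_3 lc_d_rc_3_1 lc_d_rc_3_1 lc_d_rc_21_2 lc_d_rc_9_1 lc_d_rc_18_0 lc_d_rc_20_2 lc_d_rc_21_2 lc_d_rc_20_2 lc_d_rc_21_2 lc_d_rc_21_2 lc_d_rc_21_2 lc_d_rc_9_1 lc_d_rc_9_1 lc_d_rc_3_1 lc_d_rc_21_2 lc_d_rc_3_1 lc_d_rc_20_2 lc_d_rc_19_2 lc_d_rc_19_2 lc_d_rc_3_1 lc_d_rc_9_1 lc_d_rc_21_2 lc_d_rc_9_1 lc_d_rc_3_1 lc_d_rc_19_2 lc_d_rc_20_2 lc_d_rc_9_1 lc_d_rc_21_2 lc_d_rc_3_1 lc_d_Cert_tree lc_d_rc_20_2 lc_d_rc_20_2 lc_d_rc_3_1) (@D3.rec (fun _ => (Cert rels S Gen.d)) lc_d_Cert_tree lc_d_rc_21_2 lc_d_rc_3_1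 lc_d_rc_19_2 lc_d_rc_3_1 lc_d_rc_21_0 lc_d_rc_19_2 lc_d_rc_21_2 lc_d_rc_9_1 lc_d_rc_9_1 lc_d_rc_9_1 lc_d_rc_9_1 lc_d_rc_9_1 lc_d_rc_9_1 lc_d_rc_9_1 lc_d_rc_3_1 lc_d_rc_9_3 lc_d_rc_9_1 lc_d_rc_3_1 lc_d_rc_21_2 lc_d_rc_3_1 lc_d_rc_21_2 lc_d_rc_3_1 lc_d_rc_20_2 lc_d_rc_20_2 lc_d_rc_3_3 lc_d_rc_32_30 lc_d_rc_21_0 lc_d_rc_18_0 lc_d_rc_28_3 lc_d_rc_21_2 lc_d_rc_3_1 lc_d_rc_20_2 lc_d_rc_3_1 lc_d_rc_21_2 lc_d_rc_21_2 lc_d_rc_21_0 lc_d_rc_21_2 lc_d_rc_3_1 lc_d_rc_18_0) (@D3.rec (fun _ => (Cert rels S Gen.d)) lc_d_rc_28_3 lc_d_rc_3_1 lc_d_rc_3_1 lc_d_rc_21_2 lc_d_rc_9_3 lc_d_rc_3_1 lc_d_rc_28_3 lc_d_rc_20_2 lc_d_rc_3_1 lc_d_rc_28_3 lc_d_rc_21_2 lc_d_rc_3_1 lc_d_rc_20_2 lc_d_rc_21_2 lc_d_rc_3_1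 lc_d_rc_28_3 lc_d_rc_21_2 lc_d_rc_3_1 lc_d_rc_3_1 lc_d_rc_20_2 lc_d_rc_21_0 lc_d_rc_3_1 lc_d_rc_9_1 lc_d_rc_3_1 lc_d_rc_9_1 lc_d_rc_20_2 lc_d_rc_9_1 lc_d_rc_14_11 lc_d_rc_20_2 lc_d_rc_18_0 lc_d_rc_9_3 lc_d_rc_20_2 lc_d_rc_9_1 lc_d_rc_18_0 lc_d_rc_21_2 lc_d_rc_18_0 lc_d_rc_9_3 lc_d_rc_21_2 lc_d_rc_19_2 lc_d_rc_19_2)
def ce_d_8 : D2 → D3 → (Cert rels S Gen.d) := @D2.rec (fun _ => D3 → (Cert rels S Gen.d)) (@D3.rec (fun _ => (Cert rels S Gen.d)) lc_d_rc_3_1 lc_d_rc_19_2 lc_d_rc_21_2 lc_d_rc_3_1 lc_d_rc_19_2 lc_d_rc_20_2 lc_d_rc_19_2 lc_d_rc_18_0 lc_d_rc_21_2 lc_d_rc_19_2 lc_d_rc_18_0 lc_d_rc_20_2 lc_d_rc_21_2 lc_d_rc_9_3 lc_d_rc_18_0 lc_d_rc_21_2 lc_d_rc_19_2 lc_d_rc_21_2 lc_d_rc_21_2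 lc_d_rc_20_0 lc_d_rc_20_2 lc_d_rc_19_2 lc_d_rc_18_0 lc_d_rc_20_2 lc_d_rc_19_2 lc_d_rc_20_2 lc_d_rc_3_3 lc_d_rc_21_0 lc_d_rc_28_1 lc_d_rc_28_7 lc_d_rc_3_1 lc_d_rc_20_2 lc_d_rc_21_2 lc_d_rc_9_1 lc_d_rc_3_1 lc_d_rc_20_0 lc_d_rc_20_2 lc_d_rc_9_1 lc_d_rc_9_1 lc_d_Cert_tree) (@D3.rec (fun _ => (Cert rels S Gen.d)) lc_d_rc_18_0 lc_d_rc_21_2 lc_d_rc_21_2 lc_d_rc_3_1 lc_d_rc_19_4 lc_d_rc_20_2 lc_d_rc_9_1 lc_d_Cert_tree lc_d_rc_18_0 lc_d_rc_20_2 lc_d_rc_20_2 lc_d_rc_3_1 lc_d_rc_9_1 lc_d_rc_21_2 lc_d_rc_9_1 lc_d_rc_3_1 lc_d_rc_3_1 lc_d_rc_21_2 lc_d_rc_3_1 lc_d_rc_3_1 lc_d_rc_20_2 lc_d_rc_9_1 lc_d_rc_21_0 lc_d_rc_3_1 lc_d_rc_20_2 lc_d_rc_21_2 lc_d_rc_3_1 lc_d_rc_21_2 lc_d_rc_21_2 lc_d_Cert_tree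 lc_d_rc_18_0 lc_d_rc_21_2 lc_d_rc_9_1 lc_d_rc_9_1 lc_d_rc_21_2 lc_d_rc_9_1 lc_d_rc_3_3 lc_d_rc_3_1 lc_d_Cert_tree lc_d_rc_3_3) (@D3.rec (fun _ => (Cert rels S Gen.d)) lc_d_rc_9_1 lc_d_rc_9_1 lc_d_Cert_tree lc_d_rc_3_1 lc_d_rc_18_0 lc_d_rc_20_2 lc_d_rc_21_2 lc_d_rc_20_2 lc_d_Cert_tree lc_d_rc_18_0 lc_d_rc_20_2 lc_d_rc_9_1 lc_d_rc_9_1 lc_d_rc_20_2 lc_d_rc_9_1 lc_d_rc_21_2 lc_d_rc_3_1 lc_d_Cert_tree lc_d_rc_21_2 lc_d_rc_9_1 lc_d_rc_9_1 lc_d_Cert_tree lc_d_rc_3_1 lc_d_rc_18_0 lc_d_rc_21_2 lc_d_rc_3_3 lc_d_rc_21_2 lc_d_rc_9_1 lc_d_rc_3_1 lc_d_rc_20_2 lc_d_rc_19_2 lc_d_rc_20_2 lc_d_rc_9_1 lc_d_rc_3_1 lc_d_rc_21_2 lc_d_rc_19_2 lc_d_rc_18_0 lc_d_rc_21_2 lc_d_rc_20_2 lc_d_rc_20_2) (@D3.rec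 (fun _ => (Cert rels S Gen.d)) lc_d_rc_21_2 lc_d_rc_20_2 lc_d_rc_21_2 lc_d_rc_21_2 lc_d_rc_20_2 lc_d_rc_21_2 lc_d_rc_21_2 lc_d_rc_3_1 lc_d_rc_20_2 lc_d_rc_20_2 lc_d_rc_3_1 lc_d_rc_28_1 lc_d_rc_21_2 lc_d_rc_9_1 lc_d_rc_3_1 lc_d_Cert_tree lc_d_rc_20_2 lc_d_rc_20_0 lc_d_rc_28_1 lc_d_rc_18_0 lc_d_rc_20_2 lc_d_rc_21_2 lc_d_rc_9_1 lc_d_rc_21_2 lc_d_rc_19_0 lc_d_rc_3_1 lc_d_Cert_tree lc_d_rc_9_1 lc_d_rc_21_0 lc_d_rc_28_1 lc_d_rc_18_0 lc_d_rc_21_2 lc_d_rc_20_2 lc_d_rc_3_1 lc_d_rc_19_2 lc_d_rc_19_2 lc_d_rc_3_1 lc_d_rc_19_2 lc_d_rc_19_2 lc_d_rc_9_1) (@D3.rec (fun _ => (Cert rels S Gen.d)) lc_d_rc_3_1 lc_d_Cert_tree lc_d_rc_9_1 lc_d_rc_9_1 lc_d_rc_18_0 lc_d_rc_20_2 lc_d_rc_21_2 lc_d_rc_9_1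 lc_d_rc_3_1 lc_d_Cert_tree lc_d_rc_9_1 lc_d_rc_9_1 lc_d_rc_18_0 lc_d_rc_21_2 lc_d_rc_20_2 lc_d_rc_9_1 lc_d_rc_21_2 lc_d_rc_3_1 lc_d_rc_21_2 lc_d_rc_9_1 lc_d_Cert_tree lc_d_rc_20_2 lc_d_rc_21_2 lc_d_rc_9_1 lc_d_rc_3_1 lc_d_rc_20_2 lc_d_rc_3_1 lc_d_rc_19_0 lc_d_rc_18_0 lc_d_rc_20_2 lc_d_rc_20_2 lc_d_rc_19_2 lc_d_rc_28_5 lc_d_rc_21_2 lc_d_rc_19_2 lc_d_rc_9_1 lc_d_rc_3_3 lc_d_rc_20_0 lc_d_rc_20_2 lc_d_rc_3_3) (@D3.rec (fun _ => (Cert rels S Gen.d)) lc_d_rc_9_1 lc_d_rc_20_2 lc_d_rc_21_2 lc_d_rc_19_2 lc_d_rc_21_0 lc_d_rc_3_1 lc_d_rc_3_1 lc_d_rc_20_2 lc_d_rc_9_1 lc_d_Cert_tree lc_d_rc_3_1 lc_d_rc_20_2 lc_d_rc_9_1 lc_d_rc_3_1 lc_d_rc_21_2 lc_d_rc_20_0 lc_d_rc_19_0 lc_d_rc_18_0 lc_d_rc_20_2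 lc_d_rc_20_0 lc_d_rc_19_2 lc_d_rc_19_2 lc_d_rc_20_2 lc_d_rc_20_2 lc_d_rc_9_1 lc_d_rc_19_2 lc_d_rc_3_3 lc_d_rc_9_1 lc_d_rc_20_2 lc_d_rc_9_1 lc_d_rc_21_2 lc_d_rc_20_2 lc_d_rc_19_2 lc_d_rc_32_22 lc_d_rc_32_71 lc_d_rc_21_2 lc_d_rc_21_2 lc_d_rc_9_1 lc_d_rc_3_1 lc_d_rc_9_1) (@D3.rec (fun _ => (Cert rels S Gen.d)) lc_d_rc_19_0 lc_d_rc_9_1 lc_d_rc_32_22 lc_d_rc_19_2 lc_d_rc_20_2 lc_d_rc_20_2 lc_d_rc_9_1 lc_d_rc_3_1 lc_d_rc_9_1 lc_d_rc_21_2 lc_d_rc_20_2 lc_d_rc_9_1 lc_d_rc_9_3 lc_d_rc_9_1 lc_d_rc_3_1 lc_d_rc_3_1 lc_d_rc_3_1 lc_d_rc_19_4 lc_d_rc_20_2 lc_d_rc_18_0 lc_d_rc_9_1 lc_d_rc_9_3 lc_d_rc_9_1 lc_d_rc_3_1 lc_d_rc_21_2 lc_d_rc_21_0 lc_d_rc_21_2 lc_d_rc_21_2 lc_d_rc_18_0 lc_d_rc_20_2 lc_d_rc_21_2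 lc_d_rc_3_1 lc_d_rc_20_0 lc_d_rc_9_1 lc_d_rc_21_2 lc_d_rc_9_1 lc_d_rc_21_0 lc_d_rc_3_1 lc_d_rc_9_1 lc_d_rc_21_2) (@D3.rec (fun _ => (Cert rels S Gen.d)) lc_d_rc_9_1 lc_d_rc_3_1 lc_d_rc_19_2 lc_d_rc_20_2 lc_d_rc_9_1 lc_d_rc_3_1 lc_d_Cert_tree lc_d_rc_21_2 lc_d_rc_3_1 lc_d_Cert_tree lc_d_rc_20_2 lc_d_rc_9_1 lc_d_rc_19_2 lc_d_rc_3_1 lc_d_rc_19_2 lc_d_rc_3_3 lc_d_rc_9_1 lc_d_rc_21_2 lc_d_rc_21_2 lc_d_rc_20_2 lc_d_rc_21_2 lc_d_rc_3_1 lc_d_rc_3_1 lc_d_rc_21_2 lc_d_rc_20_0 lc_d_rc_9_1 lc_d_rc_19_2 lc_d_rc_9_1 lc_d_rc_21_2 lc_d_rc_3_1 lc_d_Cert_tree lc_d_rc_20_2 lc_d_rc_9_1 lc_d_rc_20_2 lc_d_rc_3_1 lc_d_Cert_tree lc_d_rc_21_2 lc_d_rc_3_1 lc_d_Cert_tree lc_d_rc_3_3) (@D3.rec (fun _ => (Cert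 rels S Gen.d)) lc_d_rc_21_2 lc_d_rc_18_0 lc_d_rc_20_2 lc_d_rc_21_2 lc_d_rc_9_1 lc_d_rc_3_1 lc_d_rc_28_7 lc_d_rc_3_3 lc_d_rc_9_1 lc_d_rc_28_3 lc_d_rc_3_1 lc_d_rc_28_3 lc_d_rc_21_2 lc_d_rc_3_1 lc_d_Cert_tree lc_d_rc_20_2 lc_d_rc_9_1 lc_d_rc_18_0 lc_d_rc_21_2 lc_d_rc_20_2 lc_d_rc_9_1 lc_d_rc_3_1 lc_d_rc_28_7 lc_d_rc_21_2 lc_d_rc_9_1 lc_d_rc_28_3 lc_d_rc_3_1 lc_d_rc_28_7 lc_d_rc_3_3 lc_d_rc_3_1 lc_d_rc_21_2 lc_d_rc_9_1 lc_d_rc_9_1 lc_d_rc_3_1 lc_d_rc_21_2 lc_d_rc_3_1 lc_d_rc_9_1 lc_d_rc_9_1 lc_d_rc_3_1 lc_d_rc_19_2) (@D3.rec (fun _ => (Cert rels S Gen.d)) lc_d_rc_21_2 lc_d_rc_3_1 lc_d_rc_20_2 lc_d_rc_9_1 lc_d_rc_9_1 lc_d_rc_3_1 lc_d_rc_3_1 lc_d_rc_21_2 lc_d_rc_9_1 lc_d_rc_9_1 lc_d_rc_3_1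 lc_d_rc_21_2 lc_d_rc_3_1 lc_d_Cert_tree lc_d_rc_19_2 lc_d_rc_3_1 lc_d_Cert_tree lc_d_rc_18_0 lc_d_rc_20_2 lc_d_rc_21_2 lc_d_rc_19_2 lc_d_rc_21_2 lc_d_rc_19_4 lc_d_rc_18_0 lc_d_rc_20_2 lc_d_rc_21_2 lc_d_rc_3_1 lc_d_rc_21_2 lc_d_rc_9_1 lc_d_rc_28_3 lc_d_Cert_tree lc_d_rc_9_3 lc_d_rc_21_2 lc_d_rc_9_1 lc_d_rc_3_1 lc_d_rc_3_1 lc_d_Cert_tree lc_d_rc_20_2 lc_d_rc_9_1 lc_d_rc_9_1) (@D3.rec (fun _ => (Cert rels S Gen.d)) lc_d_Cert_tree lc_d_rc_18_0 lc_d_rc_20_2 lc_d_rc_9_1 lc_d_rc_21_0 lc_d_Cert_tree lc_d_rc_21_2 lc_d_rc_3_1 lc_d_rc_18_1 lc_d_rc_20_2 lc_d_rc_21_2 lc_d_Cert_tree lc_d_rc_18_0 lc_d_rc_20_2 lc_d_rc_9_1 lc_d_rc_9_1 lc_d_rc_20_2 lc_d_rc_9_1 lc_d_Cert_tree lc_d_rc_3_1 lc_d_rc_20_0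 lc_d_Cert_tree lc_d_rc_18_0 lc_d_rc_20_2 lc_d_rc_21_2 lc_d_rc_20_2 lc_d_rc_9_3 lc_d_rc_3_3 lc_d_rc_18_0 lc_d_rc_20_2 lc_d_rc_21_2 lc_d_rc_3_1 lc_d_rc_20_2 lc_d_rc_9_1 lc_d_rc_28_3 lc_d_Cert_tree lc_d_rc_9_3 lc_d_rc_20_2 lc_d_rc_9_1 lc_d_rc_21_2) (@D3.rec (fun _ => (Cert rels S Gen.d)) lc_d_rc_3_1 lc_d_Cert_tree lc_d_rc_21_2 lc_d_rc_9_1 lc_d_rc_9_1 lc_d_rc_3_3 lc_d_rc_18_0 lc_d_rc_3_1 lc_d_rc_9_1 lc_d_rc_20_0 lc_d_Cert_tree lc_d_rc_20_2 lc_d_rc_3_1 lc_d_rc_3_3 lc_d_rc_20_2 lc_d_rc_21_2 lc_d_Cert_tree lc_d_rc_18_0 lc_d_rc_21_2 lc_d_rc_9_1 lc_d_rc_9_1 lc_d_rc_21_2 lc_d_rc_9_1 lc_d_rc_3_1 lc_d_rc_21_2 lc_d_rc_18_0 lc_d_rc_20_2 lc_d_rc_21_2 lc_d_rc_28_5 lc_d_rc_9_1 lc_d_rc_20_2 lc_d_rc_21_2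 lc_d_rc_21_2 lc_d_rc_21_2 lc_d_rc_9_1 lc_d_rc_3_1 lc_d_rc_3_1 lc_d_Cert_tree lc_d_rc_20_2 lc_d_rc_9_1) (@D3.rec (fun _ => (Cert rels S Gen.d)) lc_d_rc_9_1 lc_d_Cert_tree lc_d_rc_3_1 lc_d_rc_18_0 lc_d_rc_20_2 lc_d_rc_9_1 lc_d_rc_21_2 lc_d_rc_3_1 lc_d_rc_21_2 lc_d_Cert_tree lc_d_rc_18_0 lc_d_rc_28_5 lc_d_rc_21_2 lc_d_Cert_tree lc_d_rc_18_0 lc_d_rc_20_2 lc_d_rc_21_2 lc_d_rc_3_1 lc_d_rc_9_1 lc_d_rc_28_3 lc_d_rc_3_1 lc_d_rc_3_1 lc_d_rc_18_0 lc_d_rc_20_2 lc_d_rc_21_2 lc_d_rc_3_1 lc_d_rc_9_1 lc_d_rc_20_2 lc_d_rc_21_2 lc_d_rc_21_2 lc_d_rc_21_2 lc_d_rc_9_1 lc_d_rc_21_2 lc_d_rc_3_1 lc_d_Cert_tree lc_d_rc_21_2 lc_d_rc_9_1 lc_d_rc_9_1 lc_d_Cert_tree lc_d_rc_3_1) (@D3.rec (fun _ => (Cert rels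 S Gen.d)) lc_d_rc_18_0 lc_d_rc_21_2 lc_d_rc_21_2 lc_d_rc_3_3 lc_d_rc_3_1 lc_d_rc_20_2 lc_d_Cert_tree lc_d_rc_18_0 lc_d_rc_28_5 lc_d_rc_20_2 lc_d_Cert_tree lc_d_rc_18_0 lc_d_rc_20_2 lc_d_rc_21_2 lc_d_rc_3_1 lc_d_rc_9_1 lc_d_rc_28_3 lc_d_rc_18_0 lc_d_rc_21_2 lc_d_rc_21_2 lc_d_rc_20_2 lc_d_rc_18_0 lc_d_rc_28_3 lc_d_Cert_tree lc_d_rc_18_0 lc_d_rc_9_1 lc_d_Cert_tree lc_d_rc_18_0 lc_d_rc_20_2 lc_d_rc_21_2 lc_d_rc_28_3 lc_d_rc_18_0 lc_d_rc_20_2 lc_d_rc_20_2 lc_d_rc_21_2 lc_d_rc_18_0 lc_d_rc_28_3 lc_d_Cert_tree lc_d_rc_18_0 lc_d_rc_9_1) (@D3.rec (fun _ => (Cert rels S Gen.d)) lc_d_Cert_tree lc_d_rc_18_0 lc_d_rc_20_2 lc_d_rc_28_3 lc_d_rc_21_0 lc_d_rc_21_2 lc_d_rc_20_0 lc_d_rc_20_2 lc_d_rc_18_0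 lc_d_rc_3_1 lc_d_rc_3_3 lc_d_rc_20_2 lc_d_rc_9_1 lc_d_rc_3_1 lc_d_rc_21_0 lc_d_rc_19_0 lc_d_rc_20_2 lc_d_rc_21_2 lc_d_rc_3_1 lc_d_rc_3_1 lc_d_rc_9_1 lc_d_rc_3_1 lc_d_rc_9_1 lc_d_rc_9_3 lc_d_rc_21_2 lc_d_rc_3_3 lc_d_rc_21_2 lc_d_rc_9_1 lc_d_rc_3_1 lc_d_rc_9_3 lc_d_rc_9_1 lc_d_rc_21_0 lc_d_rc_21_2 lc_d_rc_20_2 lc_d_rc_3_1 lc_d_rc_9_3 lc_d_rc_21_2 lc_d_rc_21_2 lc_d_rc_9_1 lc_d_rc_3_1) (@D3.rec (fun _ => (Cert rels S Gen.d)) lc_d_rc_9_1 lc_d_rc_21_0 lc_d_rc_9_1 lc_d_rc_21_2 lc_d_rc_28_7 lc_d_rc_3_1 lc_d_rc_3_1 lc_d_rc_28_7 lc_d_rc_9_1 lc_d_rc_3_1 lc_d_rc_3_1 lc_d_rc_21_2 lc_d_rc_9_1 lc_d_rc_3_3 lc_d_rc_9_1 lc_d_rc_3_1 lc_d_rc_9_1 lc_d_rc_9_3 lc_d_rc_21_2 lc_d_rc_3_1 lc_d_rc_28_5 lc_d_rc_3_1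 lc_d_rc_3_1 lc_d_rc_28_7 lc_d_rc_9_1 lc_d_rc_21_2 lc_d_rc_18_0 lc_d_rc_3_1 lc_d_rc_3_3 lc_d_rc_21_0 lc_d_rc_9_1 lc_d_rc_9_1 lc_d_rc_21_2 lc_d_rc_19_2 lc_d_rc_21_2 lc_d_rc_21_2 lc_d_rc_9_1 lc_d_rc_3_3 lc_d_rc_3_1 lc_d_rc_3_1) (@D3.rec (fun _ => (Cert rels S Gen.d)) lc_d_rc_9_3 lc_d_rc_3_1 lc_d_rc_3_1 lc_d_rc_9_1 lc_d_rc_21_2 lc_d_rc_21_2 lc_d_rc_9_1 lc_d_rc_20_2 lc_d_rc_3_1 lc_d_rc_9_1 lc_d_rc_3_1 lc_d_rc_3_1 lc_d_rc_20_2 lc_d_rc_9_1 lc_d_rc_21_2 lc_d_rc_3_1 lc_d_rc_18_0 lc_d_rc_21_0 lc_d_rc_21_2 lc_d_rc_3_3 lc_d_rc_3_1 lc_d_rc_21_0 lc_d_rc_9_1 lc_d_rc_9_1 lc_d_Cert_tree lc_d_rc_18_0 lc_d_rc_20_2 lc_d_rc_21_0 lc_d_rc_3_1 lc_d_rc_28_7 lc_d_rc_9_1 lc_d_rc_3_1 lc_d_Cert_tree lc_d_rc_20_2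 lc_d_rc_18_0 lc_d_rc_32_71 lc_d_rc_28_5 lc_d_rc_3_1 lc_d_rc_20_2 lc_d_rc_21_2) (@D3.rec (fun _ => (Cert rels S Gen.d)) lc_d_rc_9_3 lc_d_rc_3_1 lc_d_rc_21_2 lc_d_rc_3_3 lc_d_rc_3_1 lc_d_rc_3_1 lc_d_rc_21_2 lc_d_rc_3_3 lc_d_Cert_tree lc_d_rc_18_0 lc_d_rc_21_2 lc_d_rc_3_1 lc_d_rc_20_2 lc_d_rc_18_0 lc_d_rc_21_0 lc_d_rc_3_1 lc_d_rc_9_1 lc_d_rc_20_0 lc_d_rc_28_5 lc_d_rc_20_2 lc_d_rc_19_2 lc_d_rc_20_2 lc_d_rc_9_1 lc_d_rc_3_3 lc_d_rc_20_2 lc_d_rc_3_1 lc_d_rc_20_2 lc_d_rc_21_2 lc_d_rc_3_1 lc_d_rc_9_1 lc_d_rc_20_2 lc_d_rc_9_1 lc_d_rc_21_2 lc_d_rc_3_3 lc_d_rc_3_1 lc_d_rc_9_1 lc_d_rc_3_1 lc_d_rc_3_1 lc_d_rc_21_2 lc_d_rc_9_1) (@D3.rec (fun _ => (Cert rels S Gen.d)) lc_d_rc_9_1 lc_d_rc_18_0 lc_d_rc_21_2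 lc_d_rc_20_2 lc_d_rc_21_2 lc_d_rc_3_1 lc_d_rc_3_1 lc_d_rc_9_1 lc_d_rc_9_1 lc_d_rc_3_1 lc_d_rc_9_1 lc_d_rc_9_1 lc_d_rc_3_1 lc_d_rc_20_0 lc_d_rc_3_3 lc_d_rc_3_1 lc_d_Cert_tree lc_d_rc_3_1 lc_d_rc_21_2 lc_d_rc_3_1 lc_d_rc_20_2 lc_d_rc_20_2 lc_d_rc_9_3 lc_d_rc_21_0 lc_d_rc_28_3 lc_d_rc_21_2 lc_d_rc_3_1 lc_d_rc_3_1 lc_d_rc_20_2 lc_d_rc_21_2 lc_d_rc_3_1 lc_d_rc_28_3 lc_d_rc_3_1 lc_d_rc_21_2 lc_d_rc_19_2 lc_d_rc_21_2 lc_d_rc_28_3 lc_d_rc_20_2 lc_d_rc_21_2 lc_d_rc_21_2) (@D3.rec (fun _ => (Cert rels S Gen.d)) lc_d_rc_3_3 lc_d_rc_3_1 lc_d_rc_21_0 lc_d_rc_21_2 lc_d_rc_9_1 lc_d_rc_21_0 lc_d_rc_18_0 lc_d_rc_21_2 lc_d_rc_19_2 lc_d_rc_21_2 lc_d_rc_20_2 lc_d_rc_21_2 lc_d_rc_9_1 lc_d_rc_3_1 lc_d_Cert_tree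 lc_d_rc_20_2 lc_d_rc_9_1 lc_d_rc_9_1 lc_d_rc_21_2 lc_d_rc_21_2 lc_d_rc_18_0 lc_d_rc_28_5 lc_d_rc_20_2 lc_d_rc_28_7 lc_d_rc_9_1 lc_d_rc_9_1 lc_d_rc_28_5 lc_d_rc_3_1 lc_d_rc_21_2 lc_d_rc_21_0 lc_d_rc_3_1 lc_d_rc_3_3 lc_d_Cert_tree lc_d_rc_18_0 lc_d_rc_9_1 lc_d_rc_3_1 lc_d_rc_28_3 lc_d_rc_20_0 lc_d_Cert_tree lc_d_rc_18_0) (@D3.rec (fun _ => (Cert rels S Gen.d)) lc_d_rc_28_1 lc_d_rc_28_1 lc_d_rc_9_1 lc_d_rc_28_7 lc_d_rc_28_1 lc_d_rc_3_1 lc_d_rc_19_2 lc_d_rc_21_2 lc_d_rc_19_2 lc_d_rc_19_2 lc_d_rc_3_1 lc_d_rc_20_2 lc_d_rc_21_2 lc_d_rc_21_2 lc_d_rc_3_3 lc_d_rc_3_1 lc_d_rc_9_1 lc_d_rc_20_2 lc_d_rc_20_0 lc_d_rc_9_1 lc_d_rc_18_0 lc_d_rc_20_2 lc_d_rc_20_2 lc_d_rc_21_2 lc_d_rc_21_2 lc_d_rc_20_2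 lc_d_rc_9_1 lc_d_rc_3_1 lc_d_Cert_tree lc_d_rc_21_2 lc_d_rc_9_1 lc_d_rc_21_2 lc_d_rc_20_2 lc_d_rc_20_2 lc_d_rc_18_0 lc_d_rc_28_5 lc_d_rc_21_2 lc_d_rc_28_7 lc_d_rc_9_1 lc_d_rc_9_1) (@D3.rec (fun _ => (Cert rels S Gen.d)) lc_d_rc_9_1 lc_d_rc_28_7 lc_d_rc_20_2 lc_d_rc_9_1 lc_d_rc_3_1 lc_d_rc_21_2 lc_d_Cert_tree lc_d_rc_18_0 lc_d_rc_9_1 lc_d_rc_3_1 lc_d_rc_28_3 lc_d_rc_20_2 lc_d_Cert_tree lc_d_rc_18_0 lc_d_rc_28_7 lc_d_rc_28_1 lc_d_rc_9_1 lc_d_rc_28_5 lc_d_rc_28_7 lc_d_rc_3_1 lc_d_rc_19_2 lc_d_rc_19_0 lc_d_rc_9_1 lc_d_rc_21_2 lc_d_rc_19_4 lc_d_rc_20_2 lc_d_rc_14_9 lc_d_rc_19_4 lc_d_rc_21_2 lc_d_rc_21_2 lc_d_rc_20_2 lc_d_rc_21_2 lc_d_rc_21_2 lc_d_rc_20_2 lc_d_rc_21_2 lc_d_rc_20_2 lc_d_rc_21_2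 lc_d_rc_9_1 lc_d_rc_9_1 lc_d_rc_19_4) (@D3.rec (fun _ => (Cert rels S Gen.d)) lc_d_rc_20_2 lc_d_rc_28_1 lc_d_rc_9_3 lc_d_rc_18_0 lc_d_rc_19_2 lc_d_Cert_tree lc_d_rc_18_0 lc_d_rc_28_5 lc_d_rc_21_2 lc_d_rc_19_2 lc_d_rc_3_1 lc_d_rc_28_3 lc_d_Cert_tree lc_d_rc_18_0 lc_d_rc_14_7 lc_d_rc_28_1 lc_d_rc_28_7 lc_d_rc_9_1 lc_d_rc_21_2 lc_d_rc_14_13 lc_d_rc_9_3 lc_d_rc_3_1 lc_d_rc_9_1 lc_d_rc_20_2 lc_d_rc_21_0 lc_d_rc_21_2 lc_d_rc_14_9 lc_d_rc_19_4 lc_d_rc_20_2 lc_d_rc_20_2 lc_d_rc_21_2 lc_d_rc_3_3 lc_d_rc_9_1 lc_d_rc_20_2 lc_d_rc_3_3 lc_d_rc_19_4 lc_d_rc_9_1 lc_d_rc_3_1 lc_d_rc_3_3 lc_d_rc_18_0) (@D3.rec (fun _ => (Cert rels S Gen.d)) lc_d_rc_19_2 lc_d_Cert_tree lc_d_rc_18_0 lc_d_rc_20_2 lc_d_rc_32_33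 lc_d_rc_20_2 lc_d_rc_3_1 lc_d_rc_28_3 lc_d_Cert_tree lc_d_rc_18_0 lc_d_rc_28_7 lc_d_rc_28_7 lc_d_rc_28_1 lc_d_rc_19_4 lc_d_rc_20_2 lc_d_rc_20_2 lc_d_rc_21_2 lc_d_rc_21_2 lc_d_rc_3_1 lc_d_rc_21_2 lc_d_rc_21_2 lc_d_rc_21_2 lc_d_rc_20_2 lc_d_rc_9_1 lc_d_rc_3_1 lc_d_Cert_tree lc_d_rc_20_2 lc_d_rc_9_1 lc_d_rc_21_2 lc_d_rc_9_1 lc_d_rc_3_1 lc_d_rc_21_2 lc_d_rc_20_2 lc_d_rc_9_1 lc_d_rc_9_1 lc_d_rc_18_0 lc_d_rc_3_1 lc_d_rc_21_2 lc_d_rc_20_2 lc_d_rc_19_2) (@D3.rec (fun _ => (Cert rels S Gen.d)) lc_d_rc_18_0 lc_d_rc_9_1 lc_d_rc_28_3 lc_d_rc_19_2 lc_d_rc_20_2 lc_d_rc_9_1 lc_d_rc_9_1 lc_d_rc_19_2 lc_d_rc_3_3 lc_d_rc_18_0 lc_d_rc_9_1 lc_d_rc_9_3 lc_d_rc_20_2 lc_d_rc_9_1 lc_d_rc_3_3 lc_d_rc_20_2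 lc_d_rc_9_1 lc_d_rc_21_2 lc_d_Cert_tree lc_d_rc_20_2 lc_d_rc_21_2 lc_d_rc_18_0 lc_d_rc_3_1 lc_d_rc_3_3 lc_d_rc_9_1 lc_d_rc_9_1 lc_d_Cert_tree lc_d_rc_21_2 lc_d_rc_21_2 lc_d_rc_3_1 lc_d_rc_20_0 lc_d_rc_3_1 lc_d_rc_3_1 lc_d_rc_20_2 lc_d_rc_20_2 lc_d_rc_21_2 lc_d_rc_9_1 lc_d_rc_3_1 lc_d_Cert_tree lc_d_rc_21_2) (@D3.rec (fun _ => (Cert rels S Gen.d)) lc_d_rc_9_1 lc_d_rc_9_1 lc_d_rc_3_1 lc_d_rc_19_4 lc_d_rc_21_2 lc_d_rc_21_0 lc_d_rc_21_2 lc_d_rc_9_3 lc_d_rc_18_0 lc_d_rc_28_3 lc_d_rc_20_2 lc_d_rc_21_2 lc_d_rc_9_1 lc_d_rc_9_1 lc_d_rc_19_2 lc_d_rc_18_1 lc_d_rc_20_2 lc_d_rc_3_1 lc_d_rc_9_1 lc_d_rc_9_3 lc_d_Cert_tree lc_d_rc_20_2 lc_d_rc_21_2 lc_d_rc_18_0 lc_d_rc_21_2 lc_d_rc_3_1 lc_d_rc_9_1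 lc_d_rc_9_1 lc_d_Cert_tree lc_d_rc_20_2 lc_d_rc_3_1 lc_d_rc_20_2 lc_d_rc_20_0 lc_d_rc_21_0 lc_d_rc_9_1 lc_d_rc_9_1 lc_d_rc_20_2 lc_d_rc_21_2 lc_d_rc_21_2 lc_d_rc_3_3)
def ce_d_9 : D2 → D3 → (Cert rels S Gen.d) := @D2.rec (fun _ => D3 → (Cert rels S Gen.d)) (@D3.rec (fun _ => (Cert rels S Gen.d)) lc_d_rc_9_1 lc_d_rc_9_1 lc_d_rc_9_1 lc_d_Cert_tree lc_d_rc_3_3 lc_d_rc_3_1 lc_d_Cert_tree lc_d_rc_21_2 lc_d_rc_9_1 lc_d_rc_9_1 lc_d_Cert_tree lc_d_rc_3_3 lc_d_Cert_tree lc_d_rc_20_2 lc_d_rc_3_1 lc_d_rc_21_2 lc_d_rc_9_1 lc_d_rc_3_1 lc_d_rc_20_2 lc_d_rc_9_1 lc_d_rc_21_2 lc_d_rc_3_1 lc_d_Cert_tree lc_d_rc_20_2 lc_d_rc_20_2 lc_d_rc_3_1 lc_d_Cert_tree lc_d_rc_21_2 lc_d_rc_21_2 lc_d_rc_20_2 lc_d_rc_9_1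 lc_d_rc_3_1 lc_d_rc_18_0 lc_d_rc_3_3 lc_d_rc_3_1 lc_d_rc_9_1 lc_d_rc_21_0 lc_d_rc_18_0 lc_d_rc_21_2 lc_d_rc_21_2) (@D3.rec (fun _ => (Cert rels S Gen.d)) lc_d_rc_20_2 lc_d_rc_21_2 lc_d_rc_9_1 lc_d_rc_9_1 lc_d_rc_20_2 lc_d_rc_3_1 lc_d_rc_9_1 lc_d_rc_3_1 lc_d_rc_9_3 lc_d_rc_20_0 lc_d_rc_18_0 lc_d_rc_20_2 lc_d_rc_21_2 lc_d_rc_21_2 lc_d_rc_28_3 lc_d_rc_21_0 lc_d_rc_20_0 lc_d_rc_19_4 lc_d_rc_19_4 lc_d_rc_21_2 lc_d_rc_3_1 lc_d_rc_28_5 lc_d_rc_28_5 lc_d_rc_9_1 lc_d_rc_9_1 lc_d_rc_21_2 lc_d_rc_19_2 lc_d_rc_20_2 lc_d_rc_19_2 lc_d_rc_21_2 lc_d_rc_3_1 lc_d_Cert_tree lc_d_rc_20_2 lc_d_rc_20_2 lc_d_rc_3_1 lc_d_Cert_tree lc_d_rc_21_2 lc_d_rc_3_1 lc_d_rc_14_13 lc_d_rc_3_3) (@D3.rec (fun _ => (Cert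 rels S Gen.d)) lc_d_rc_9_1 lc_d_rc_9_1 lc_d_rc_3_1 lc_d_rc_18_0 lc_d_rc_20_2 lc_d_rc_21_2 lc_d_rc_3_1 lc_d_rc_14_13 lc_d_rc_21_2 lc_d_rc_9_1 lc_d_rc_9_1 lc_d_rc_3_1 lc_d_rc_18_0 lc_d_rc_21_2 lc_d_rc_3_3 lc_d_rc_19_2 lc_d_rc_3_1 lc_d_rc_21_2 lc_d_rc_21_2 lc_d_rc_3_1 lc_d_rc_9_1 lc_d_rc_3_1 lc_d_rc_19_2 lc_d_rc_20_2 lc_d_rc_19_2 lc_d_rc_20_2 lc_d_rc_9_1 lc_d_rc_9_1 lc_d_rc_21_2 lc_d_rc_9_1 lc_d_rc_21_2 lc_d_rc_9_1 lc_d_rc_9_1 lc_d_rc_3_1 lc_d_rc_9_1 lc_d_rc_19_2 lc_d_rc_3_1 lc_d_rc_19_2 lc_d_rc_21_2 lc_d_rc_28_1) (@D3.rec (fun _ => (Cert rels S Gen.d)) lc_d_rc_9_3 lc_d_rc_28_5 lc_d_rc_21_2 lc_d_rc_20_2 lc_d_rc_3_1 lc_d_rc_19_2 lc_d_rc_3_1 lc_d_rc_28_7 lc_d_rc_20_2 lc_d_rc_28_1 lc_d_rc_20_2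 lc_d_rc_18_0 lc_d_rc_18_0 lc_d_rc_9_3 lc_d_Cert_tree lc_d_rc_18_0 lc_d_rc_28_5 lc_d_rc_20_2 lc_d_rc_21_2 lc_d_rc_9_1 lc_d_rc_3_1 lc_d_Cert_tree lc_d_rc_20_2 lc_d_rc_21_0 lc_d_Cert_tree lc_d_rc_21_2 lc_d_rc_18_0 lc_d_rc_20_2 lc_d_rc_21_2 lc_d_rc_9_3 lc_d_Cert_tree lc_d_rc_18_0 lc_d_rc_3_3 lc_d_rc_21_2 lc_d_rc_20_2 lc_d_rc_9_1 lc_d_rc_21_0 lc_d_Cert_tree lc_d_rc_21_2 lc_d_rc_21_0) (@D3.rec (fun _ => (Cert rels S Gen.d)) lc_d_Cert_tree lc_d_rc_3_1 lc_d_rc_18_0 lc_d_rc_21_2 lc_d_rc_20_2 lc_d_rc_21_2 lc_d_rc_20_2 lc_d_rc_3_1 lc_d_rc_21_2 lc_d_rc_9_1 lc_d_rc_28_5 lc_d_rc_19_2 lc_d_rc_21_2 lc_d_rc_3_1 lc_d_Cert_tree lc_d_rc_20_2 lc_d_rc_9_1 lc_d_rc_9_1 lc_d_rc_3_1 lc_d_rc_18_0 lc_d_rc_3_1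 lc_d_rc_20_2 lc_d_rc_9_1 lc_d_rc_28_5 lc_d_rc_3_1 lc_d_rc_20_2 lc_d_rc_3_1 lc_d_Cert_tree lc_d_rc_21_2 lc_d_rc_9_1 lc_d_rc_9_1 lc_d_rc_3_1 lc_d_rc_18_0 lc_d_rc_19_2 lc_d_rc_28_5 lc_d_rc_21_2 lc_d_rc_21_2 lc_d_rc_21_2 lc_d_rc_18_0 lc_d_rc_28_3) (@D3.rec (fun _ => (Cert rels S Gen.d)) lc_d_rc_28_7 lc_d_rc_21_2 lc_d_rc_9_1 lc_d_rc_3_1 lc_d_Cert_tree lc_d_rc_20_2 lc_d_Cert_tree lc_d_rc_3_3 lc_d_rc_21_2 lc_d_rc_3_1 lc_d_rc_9_1 lc_d_rc_19_4 lc_d_Cert_tree lc_d_rc_18_0 lc_d_rc_20_2 lc_d_rc_21_2 lc_d_rc_19_4 lc_d_Cert_tree lc_d_rc_21_2 lc_d_rc_3_1 lc_d_Cert_tree lc_d_rc_18_1 lc_d_rc_21_2 lc_d_rc_28_7 lc_d_rc_18_0 lc_d_rc_20_2 lc_d_rc_21_0 lc_d_rc_9_1 lc_d_rc_20_2 lc_d_rc_21_2 lc_d_rc_3_1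 lc_d_rc_19_2 lc_d_rc_3_3 lc_d_rc_20_2 lc_d_rc_20_2 lc_d_rc_3_3 lc_d_rc_18_0 lc_d_rc_28_3 lc_d_rc_28_7 lc_d_rc_20_2) (@D3.rec (fun _ => (Cert rels S Gen.d)) lc_d_rc_9_1 lc_d_rc_9_1 lc_d_Cert_tree lc_d_rc_21_2 lc_d_Cert_tree lc_d_rc_28_5 lc_d_rc_20_2 lc_d_rc_21_2 lc_d_rc_9_1 lc_d_rc_3_1 lc_d_Cert_tree lc_d_rc_18_0 lc_d_rc_21_2 lc_d_rc_9_1 lc_d_rc_3_1 lc_d_Cert_tree lc_d_rc_20_2 lc_d_rc_3_1 lc_d_Cert_tree lc_d_rc_20_2 lc_d_rc_21_2 lc_d_rc_28_7 lc_d_rc_18_0 lc_d_rc_21_2 lc_d_rc_28_5 lc_d_rc_9_1 lc_d_rc_21_2 lc_d_rc_3_3 lc_d_rc_18_1 lc_d_Cert_tree lc_d_rc_18_0 lc_d_rc_20_2 lc_d_rc_21_2 lc_d_rc_3_1 lc_d_rc_9_1 lc_d_rc_28_7 lc_d_Cert_tree lc_d_rc_18_0 lc_d_rc_20_2 lc_d_rc_21_2) (@D3.rec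 (fun _ => (Cert rels S Gen.d)) lc_d_rc_3_1 lc_d_rc_9_1 lc_d_rc_28_7 lc_d_rc_9_1 lc_d_Cert_tree lc_d_rc_18_0 lc_d_rc_20_2 lc_d_rc_21_2 lc_d_rc_28_3 lc_d_rc_9_1 lc_d_Cert_tree lc_d_rc_18_0 lc_d_rc_20_2 lc_d_rc_28_3 lc_d_rc_9_1 lc_d_rc_9_1 lc_d_rc_3_1 lc_d_rc_20_2 lc_d_rc_3_1 lc_d_rc_3_1 lc_d_rc_18_0 lc_d_rc_21_2 lc_d_rc_21_2 lc_d_rc_3_1 lc_d_rc_21_2 lc_d_rc_21_2 lc_d_rc_3_1 lc_d_rc_18_0 lc_d_rc_20_2 lc_d_rc_3_1 lc_d_rc_21_2 lc_d_rc_3_1 lc_d_rc_21_2 lc_d_rc_9_1 lc_d_rc_21_2 lc_d_rc_20_0 lc_d_rc_20_2 lc_d_rc_9_1 lc_d_Cert_tree lc_d_rc_18_0) (@D3.rec (fun _ => (Cert rels S Gen.d)) lc_d_rc_20_2 lc_d_rc_3_1 lc_d_Cert_tree lc_d_rc_20_0 lc_d_Cert_tree lc_d_rc_18_0 lc_d_rc_20_2 lc_d_Cert_tree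 lc_d_rc_19_2 lc_d_rc_20_2 lc_d_rc_21_2 lc_d_rc_3_1 lc_d_rc_3_1 lc_d_rc_3_1 lc_d_rc_3_3 lc_d_rc_9_1 lc_d_rc_9_1 lc_d_rc_28_1 lc_d_rc_21_2 lc_d_rc_9_1 lc_d_Cert_tree lc_d_rc_18_0 lc_d_rc_19_4 lc_d_rc_3_1 lc_d_rc_28_7 lc_d_rc_20_2 lc_d_Cert_tree lc_d_rc_18_0 lc_d_rc_21_2 lc_d_Cert_tree lc_d_rc_28_7 lc_d_rc_21_2 lc_d_rc_20_2 lc_d_rc_3_1 lc_d_rc_9_1 lc_d_rc_3_1 lc_d_rc_9_3 lc_d_rc_20_2 lc_d_rc_9_1 lc_d_rc_20_0) (@D3.rec (fun _ => (Cert rels S Gen.d)) lc_d_rc_9_1 lc_d_rc_14_11 lc_d_rc_9_1 lc_d_rc_3_1 lc_d_rc_9_3 lc_d_rc_19_2 lc_d_rc_21_0 lc_d_rc_14_11 lc_d_rc_9_1 lc_d_rc_3_3 lc_d_rc_3_1 lc_d_rc_9_1 lc_d_rc_21_2 lc_d_rc_9_1 lc_d_rc_9_3 lc_d_rc_14_3 lc_d_rc_9_1 lc_d_Cert_tree lc_d_rc_18_0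 lc_d_rc_21_2 lc_d_rc_9_1 lc_d_rc_3_1 lc_d_Cert_tree lc_d_Cert_tree lc_d_rc_18_0 lc_d_rc_20_2 lc_d_rc_28_5 lc_d_rc_19_2 lc_d_rc_20_2 lc_d_rc_9_1 lc_d_rc_3_1 lc_d_rc_9_1 lc_d_rc_20_2 lc_d_rc_9_1 lc_d_rc_9_3 lc_d_rc_9_3 lc_d_rc_9_1 lc_d_Cert_tree lc_d_rc_18_0 lc_d_rc_21_2) (@D3.rec (fun _ => (Cert rels S Gen.d)) lc_d_rc_9_1 lc_d_rc_3_1 lc_d_Cert_tree lc_d_Cert_tree lc_d_rc_18_0 lc_d_rc_21_2 lc_d_rc_28_5 lc_d_rc_19_2 lc_d_rc_21_2 lc_d_rc_9_1 lc_d_rc_9_1 lc_d_rc_20_2 lc_d_rc_21_2 lc_d_Cert_tree lc_d_rc_3_1 lc_d_rc_3_1 lc_d_rc_20_2 lc_d_rc_20_2 lc_d_rc_20_2 lc_d_rc_18_0 lc_d_rc_20_2 lc_d_rc_18_0 lc_d_rc_21_2 lc_d_rc_3_3 lc_d_rc_3_3 lc_d_rc_9_1 lc_d_rc_3_1 lc_d_rc_28_7 lc_d_rc_21_2 lc_d_rc_9_1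 lc_d_rc_28_7 lc_d_rc_3_1 lc_d_rc_9_1 lc_d_Cert_tree lc_d_rc_18_0 lc_d_Cert_tree lc_d_rc_21_2 lc_d_rc_20_2 lc_d_rc_21_2 lc_d_rc_19_2) (@D3.rec (fun _ => (Cert rels S Gen.d)) lc_d_rc_9_3 lc_d_rc_28_1 lc_d_rc_21_2 lc_d_rc_20_2 lc_d_Cert_tree lc_d_rc_18_0 lc_d_rc_19_0 lc_d_rc_21_2 lc_d_Cert_tree lc_d_rc_18_0 lc_d_rc_19_4 lc_d_rc_21_2 lc_d_rc_28_3 lc_d_rc_3_1 lc_d_rc_20_2 lc_d_rc_3_1 lc_d_Cert_tree lc_d_rc_18_0 lc_d_Cert_tree lc_d_rc_20_2 lc_d_rc_21_2 lc_d_rc_32_30 lc_d_rc_21_2 lc_d_rc_28_7 lc_d_rc_21_2 lc_d_rc_19_0 lc_d_rc_20_2 lc_d_Cert_tree lc_d_rc_3_1 lc_d_rc_28_3 lc_d_rc_21_2 lc_d_rc_3_3 lc_d_rc_18_0 lc_d_rc_21_2 lc_d_rc_18_0 lc_d_rc_20_2 lc_d_rc_20_2 lc_d_rc_21_2 lc_d_rc_9_1 lc_d_rc_21_2)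 (@D3.rec (fun _ => (Cert rels S Gen.d)) lc_d_rc_20_0 lc_d_rc_9_1 lc_d_rc_9_1 lc_d_rc_28_7 lc_d_rc_9_1 lc_d_rc_3_1 lc_d_rc_9_3 lc_d_rc_18_0 lc_d_Cert_tree lc_d_rc_20_2 lc_d_rc_21_2 lc_d_rc_20_2 lc_d_rc_21_2 lc_d_rc_9_3 lc_d_rc_20_2 lc_d_rc_32_7 lc_d_rc_21_2 lc_d_Cert_tree lc_d_rc_18_0 lc_d_rc_20_2 lc_d_rc_3_1 lc_d_Cert_tree lc_d_rc_18_0 lc_d_rc_14_9 lc_d_rc_19_4 lc_d_rc_28_3 lc_d_rc_3_1 lc_d_rc_21_2 lc_d_rc_28_3 lc_d_Cert_tree lc_d_rc_18_0 lc_d_Cert_tree lc_d_rc_21_2 lc_d_rc_3_1 lc_d_rc_32_30 lc_d_rc_9_1 lc_d_rc_28_7 lc_d_rc_18_1 lc_d_Cert_tree lc_d_rc_18_0) (@D3.rec (fun _ => (Cert rels S Gen.d)) lc_d_rc_21_2 lc_d_rc_28_5 lc_d_rc_9_1 lc_d_rc_21_2 lc_d_rc_20_2 lc_d_rc_14_9 lc_d_rc_9_1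 lc_d_rc_14_1 lc_d_rc_9_3 lc_d_rc_3_3 lc_d_rc_21_2 lc_d_rc_9_1 lc_d_rc_28_1 lc_d_rc_19_2 lc_d_rc_20_2 lc_d_rc_21_2 lc_d_rc_18_0 lc_d_rc_19_2 lc_d_rc_21_2 lc_d_rc_9_1 lc_d_Cert_tree lc_d_rc_21_2 lc_d_rc_9_3 lc_d_rc_19_2 lc_d_rc_21_2 lc_d_Cert_tree lc_d_rc_18_0 lc_d_rc_20_2 lc_d_Cert_tree lc_d_rc_19_2 lc_d_rc_20_2 lc_d_rc_21_2 lc_d_rc_21_2 lc_d_rc_28_3 lc_d_rc_21_2 lc_d_rc_20_2 lc_d_rc_19_4 lc_d_Cert_tree lc_d_rc_20_2 lc_d_rc_20_2) (@D3.rec (fun _ => (Cert rels S Gen.d)) lc_d_rc_19_2 lc_d_rc_20_2 lc_d_Cert_tree lc_d_rc_18_0 lc_d_rc_21_2 lc_d_Cert_tree lc_d_rc_9_1 lc_d_rc_20_2 lc_d_rc_21_2 lc_d_rc_20_2 lc_d_Cert_tree lc_d_rc_21_2 lc_d_Cert_tree lc_d_rc_9_3 lc_d_Cert_tree lc_d_rc_21_2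 lc_d_rc_9_1 lc_d_Cert_tree lc_d_rc_20_2 lc_d_rc_9_1 lc_d_rc_21_2 lc_d_Cert_tree lc_d_rc_20_2 lc_d_Cert_tree lc_d_rc_32_54 lc_d_rc_3_1 lc_d_rc_3_1 lc_d_rc_9_1 lc_d_rc_21_2 lc_d_rc_9_1 lc_d_rc_28_5 lc_d_rc_19_4 lc_d_Cert_tree lc_d_rc_21_2 lc_d_rc_3_1 lc_d_Cert_tree lc_d_rc_20_2 lc_d_rc_9_1 lc_d_Cert_tree lc_d_rc_3_1) (@D3.rec (fun _ => (Cert rels S Gen.d)) lc_d_rc_18_0 lc_d_rc_21_2 lc_d_rc_3_1 lc_d_rc_9_1 lc_d_Cert_tree lc_d_rc_21_0 lc_d_rc_18_0 lc_d_rc_20_2 lc_d_rc_9_1 lc_d_rc_9_1 lc_d_Cert_tree lc_d_rc_3_1 lc_d_Cert_tree lc_d_rc_18_0 lc_d_rc_21_2 lc_d_rc_28_7 lc_d_Cert_tree lc_d_rc_18_0 lc_d_rc_20_2 lc_d_rc_28_7 lc_d_Cert_tree lc_d_Cert_tree lc_d_rc_20_2 lc_d_rc_21_2 lc_d_rc_3_1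 lc_d_rc_18_0 lc_d_rc_28_5 lc_d_rc_19_2 lc_d_rc_21_2 lc_d_rc_28_7 lc_d_Cert_tree lc_d_rc_28_7 lc_d_rc_9_1 lc_d_Cert_tree lc_d_rc_28_7 lc_d_rc_18_0 lc_d_rc_20_2 lc_d_rc_21_2 lc_d_Cert_tree lc_d_rc_20_2) (@D3.rec (fun _ => (Cert rels S Gen.d)) lc_d_rc_21_2 lc_d_rc_3_1 lc_d_rc_18_0 lc_d_rc_28_5 lc_d_rc_19_2 lc_d_rc_20_2 lc_d_rc_28_7 lc_d_Cert_tree lc_d_rc_21_2 lc_d_rc_9_1 lc_d_Cert_tree lc_d_rc_28_7 lc_d_rc_18_0 lc_d_rc_21_2 lc_d_rc_28_7 lc_d_Cert_tree lc_d_Cert_tree lc_d_rc_18_0 lc_d_rc_20_2 lc_d_rc_21_2 lc_d_rc_21_2 lc_d_rc_28_7 lc_d_Cert_tree lc_d_rc_18_0 lc_d_rc_20_2 lc_d_rc_21_2 lc_d_rc_28_3 lc_d_rc_3_1 lc_d_Cert_tree lc_d_rc_18_0 lc_d_Cert_tree lc_d_rc_21_2 lc_d_rc_21_2 lc_d_rc_9_1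 lc_d_rc_3_1 lc_d_rc_19_2 lc_d_rc_20_2 lc_d_rc_9_1 lc_d_Cert_tree lc_d_rc_18_0) (@D3.rec (fun _ => (Cert rels S Gen.d)) lc_d_rc_20_2 lc_d_Cert_tree lc_d_rc_19_2 lc_d_rc_18_0 lc_d_rc_20_2 lc_d_Cert_tree lc_d_rc_19_2 lc_d_rc_20_2 lc_d_rc_21_2 lc_d_Cert_tree lc_d_Cert_tree lc_d_rc_18_0 lc_d_rc_20_2 lc_d_rc_21_2 lc_d_rc_21_2 lc_d_rc_28_3 lc_d_Cert_tree lc_d_rc_18_0 lc_d_rc_20_2 lc_d_rc_21_2 lc_d_rc_28_3 lc_d_rc_3_1 lc_d_Cert_tree lc_d_rc_18_0 lc_d_Cert_tree lc_d_rc_20_2 lc_d_rc_3_1 lc_d_rc_9_1 lc_d_rc_3_1 lc_d_rc_9_3 lc_d_rc_21_2 lc_d_rc_9_1 lc_d_Cert_tree lc_d_rc_18_0 lc_d_rc_21_2 lc_d_Cert_tree lc_d_rc_19_2 lc_d_rc_18_0 lc_d_rc_21_2 lc_d_Cert_tree) (@D3.rec (fun _ => (Cert rels S Gen.d))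 lc_d_rc_19_2 lc_d_rc_21_2 lc_d_rc_3_3 lc_d_rc_21_2 lc_d_rc_21_2 lc_d_rc_3_1 lc_d_rc_21_2 lc_d_rc_9_1 lc_d_rc_3_1 lc_d_Cert_tree lc_d_rc_9_1 lc_d_rc_9_1 lc_d_Cert_tree lc_d_rc_28_5 lc_d_rc_19_2 lc_d_rc_9_1 lc_d_rc_3_1 lc_d_rc_20_2 lc_d_rc_9_1 lc_d_rc_3_1 lc_d_rc_20_2 lc_d_rc_21_2 lc_d_rc_20_2 lc_d_rc_21_2 lc_d_rc_3_1 lc_d_rc_20_2 lc_d_rc_9_1 lc_d_rc_3_1 lc_d_Cert_tree lc_d_rc_9_1 lc_d_rc_9_1 lc_d_Cert_tree lc_d_rc_28_5 lc_d_rc_19_2 lc_d_rc_9_1 lc_d_rc_21_2 lc_d_rc_21_2 lc_d_rc_9_1 lc_d_rc_3_1 lc_d_rc_28_3) (@D3.rec (fun _ => (Cert rels S Gen.d)) lc_d_rc_20_2 lc_d_rc_9_1 lc_d_rc_20_2 lc_d_rc_21_2 lc_d_rc_9_1 lc_d_rc_9_1 lc_d_Cert_tree lc_d_rc_28_3 lc_d_rc_3_1 lc_d_rc_9_1 lc_d_rc_3_1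 lc_d_rc_3_3 lc_d_rc_20_2 lc_d_rc_19_4 lc_d_Cert_tree lc_d_rc_21_2 lc_d_rc_18_0 lc_d_rc_21_2 lc_d_rc_9_1 lc_d_rc_28_3 lc_d_rc_21_2 lc_d_rc_3_1 lc_d_rc_3_1 lc_d_Cert_tree lc_d_rc_20_2 lc_d_rc_9_1 lc_d_rc_9_1 lc_d_rc_20_2 lc_d_rc_3_1 lc_d_rc_9_1 lc_d_rc_21_2 lc_d_rc_28_7 lc_d_rc_28_7 lc_d_rc_3_3 lc_d_rc_9_1 lc_d_rc_20_2 lc_d_rc_21_2 lc_d_rc_9_1 lc_d_rc_9_1 lc_d_Cert_tree) (@D3.rec (fun _ => (Cert rels S Gen.d)) lc_d_rc_28_5 lc_d_rc_3_1 lc_d_rc_9_1 lc_d_rc_3_1 lc_d_rc_9_1 lc_d_rc_21_2 lc_d_rc_3_1 lc_d_Cert_tree lc_d_rc_20_2 lc_d_rc_18_0 lc_d_rc_20_2 lc_d_rc_9_1 lc_d_rc_28_5 lc_d_rc_20_2 lc_d_rc_21_2 lc_d_rc_3_1 lc_d_Cert_tree lc_d_rc_21_2 lc_d_rc_9_1 lc_d_rc_9_1 lc_d_rc_21_2 lc_d_rc_3_1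 lc_d_rc_19_4 lc_d_rc_20_2 lc_d_rc_28_7 lc_d_rc_28_7 lc_d_rc_21_2 lc_d_rc_18_0 lc_d_rc_21_2 lc_d_Cert_tree lc_d_rc_3_1 lc_d_rc_20_2 lc_d_rc_21_2 lc_d_rc_9_1 lc_d_rc_9_1 lc_d_rc_18_0 lc_d_Cert_tree lc_d_rc_9_3 lc_d_rc_21_2 lc_d_rc_20_2) (@D3.rec (fun _ => (Cert rels S Gen.d)) lc_d_rc_21_2 lc_d_rc_21_2 lc_d_rc_21_0 lc_d_rc_9_1 lc_d_rc_28_3 lc_d_rc_3_3 lc_d_rc_9_1 lc_d_rc_9_1 lc_d_rc_3_1 lc_d_rc_21_2 lc_d_rc_28_7 lc_d_Cert_tree lc_d_rc_20_2 lc_d_rc_9_1 lc_d_Cert_tree lc_d_rc_3_1 lc_d_rc_18_0 lc_d_rc_20_2 lc_d_rc_21_2 lc_d_rc_20_2 lc_d_rc_21_2 lc_d_rc_9_1 lc_d_rc_18_0 lc_d_rc_20_2 lc_d_Cert_tree lc_d_rc_3_1 lc_d_rc_20_2 lc_d_rc_21_2 lc_d_rc_9_1 lc_d_rc_9_1 lc_d_rc_18_0 lc_d_Cert_tree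 lc_d_rc_20_2 lc_d_rc_19_2 lc_d_rc_20_2 lc_d_rc_21_2 lc_d_rc_21_2 lc_d_rc_21_0 lc_d_rc_28_3 lc_d_rc_21_2) (@D3.rec (fun _ => (Cert rels S Gen.d)) lc_d_rc_9_1 lc_d_rc_9_1 lc_d_rc_9_1 lc_d_rc_28_3 lc_d_rc_3_3 lc_d_rc_3_1 lc_d_Cert_tree lc_d_rc_21_2 lc_d_rc_9_1 lc_d_rc_28_3 lc_d_rc_3_1 lc_d_rc_18_0 lc_d_rc_21_2 lc_d_rc_3_1 lc_d_rc_20_2 lc_d_rc_21_2 lc_d_rc_9_1 lc_d_rc_18_0 lc_d_rc_21_2 lc_d_rc_28_3 lc_d_rc_19_2 lc_d_rc_20_2 lc_d_rc_21_2 lc_d_rc_9_1 lc_d_rc_9_1 lc_d_rc_18_0 lc_d_Cert_tree lc_d_rc_20_2 lc_d_rc_21_2 lc_d_rc_19_2 lc_d_rc_21_2 lc_d_rc_21_2 lc_d_rc_21_0 lc_d_rc_9_1 lc_d_rc_9_1 lc_d_rc_18_0 lc_d_rc_20_2 lc_d_rc_28_3 lc_d_rc_3_1 lc_d_rc_20_2) (@D3.rec (fun _ => (Cert rels S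 Gen.d)) lc_d_rc_21_2 lc_d_rc_9_1 lc_d_rc_9_1 lc_d_rc_18_0 lc_d_Cert_tree lc_d_rc_20_2 lc_d_rc_21_2 lc_d_rc_20_2 lc_d_rc_21_2 lc_d_rc_21_2 lc_d_rc_21_0 lc_d_rc_9_1 lc_d_rc_9_1 lc_d_rc_18_0 lc_d_rc_21_2 lc_d_rc_18_0 lc_d_rc_20_2 lc_d_rc_9_1 lc_d_rc_9_1 lc_d_rc_9_1 lc_d_rc_9_1 lc_d_rc_18_0 lc_d_rc_21_2 lc_d_rc_19_2 lc_d_rc_21_2 lc_d_rc_3_1 lc_d_rc_9_1 lc_d_rc_21_2 lc_d_rc_18_0 lc_d_rc_21_2 lc_d_rc_19_2 lc_d_rc_9_1 lc_d_rc_21_2 lc_d_rc_21_2 lc_d_rc_20_2 lc_d_rc_9_1 lc_d_rc_3_1 lc_d_rc_9_1 lc_d_rc_20_2 lc_d_rc_28_5) (@D3.rec (fun _ => (Cert rels S Gen.d)) lc_d_rc_3_1 lc_d_rc_28_1 lc_d_rc_28_5 lc_d_rc_14_9 lc_d_rc_18_0 lc_d_rc_20_2 lc_d_rc_9_1 lc_d_rc_9_3 lc_d_rc_18_0 lc_d_rc_20_0 lc_d_rc_14_3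 lc_d_rc_9_3 lc_d_rc_20_2 lc_d_rc_3_1 lc_d_rc_28_5 lc_d_rc_20_2 lc_d_rc_21_2 lc_d_rc_9_1 lc_d_rc_18_0 lc_d_rc_20_2 lc_d_rc_19_2 lc_d_rc_20_2 lc_d_rc_9_1 lc_d_rc_20_2 lc_d_rc_21_2 lc_d_rc_18_0 lc_d_rc_20_2 lc_d_rc_28_7 lc_d_rc_9_1 lc_d_rc_20_2 lc_d_rc_20_2 lc_d_rc_9_3 lc_d_rc_9_1 lc_d_rc_3_1 lc_d_rc_20_2 lc_d_rc_9_3 lc_d_rc_32_4 lc_d_rc_3_1 lc_d_rc_28_1 lc_d_rc_28_5) (@D3.rec (fun _ => (Cert rels S Gen.d)) lc_d_rc_14_9 lc_d_rc_18_0 lc_d_rc_21_2 lc_d_rc_9_1 lc_d_rc_14_3 lc_d_rc_9_3 lc_d_rc_3_3 lc_d_rc_21_2 lc_d_rc_3_1 lc_d_rc_28_5 lc_d_rc_21_2 lc_d_rc_3_1 lc_d_rc_9_1 lc_d_rc_9_1 lc_d_rc_9_1 lc_d_rc_9_1 lc_d_rc_3_1 lc_d_rc_28_3 lc_d_rc_20_2 lc_d_rc_20_0 lc_d_rc_3_1 lc_d_rc_18_0 lc_d_rc_20_2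 lc_d_rc_28_5 lc_d_rc_9_1 lc_d_Cert_tree lc_d_rc_21_2 lc_d_rc_21_0 lc_d_rc_3_1 lc_d_rc_9_1 lc_d_rc_9_1 lc_d_rc_3_1 lc_d_rc_21_2 lc_d_rc_20_0 lc_d_rc_9_3 lc_d_rc_28_1 lc_d_Cert_tree lc_d_rc_9_1 lc_d_rc_9_1 lc_d_Cert_tree)
def ce_d_10 : D2 → D3 → (Cert rels S Gen.d) := @D2.rec (fun _ => D3 → (Cert rels S Gen.d)) (@D3.rec (fun _ => (Cert rels S Gen.d)) lc_d_rc_20_2 lc_d_rc_18_0 lc_d_rc_21_2 lc_d_rc_3_1 lc_d_rc_28_5 lc_d_rc_18_0 lc_d_rc_20_2 lc_d_rc_9_1 lc_d_rc_9_1 lc_d_rc_9_1 lc_d_rc_3_1 lc_d_rc_28_3 lc_d_rc_21_2 lc_d_rc_3_3 lc_d_rc_3_1 lc_d_rc_18_0 lc_d_rc_21_2 lc_d_rc_28_5 lc_d_rc_9_1 lc_d_Cert_tree lc_d_rc_20_2 lc_d_rc_9_1 lc_d_rc_3_1 lc_d_rc_9_1 lc_d_rc_9_1 lc_d_rc_3_1 lc_d_rc_20_2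 lc_d_rc_21_0 lc_d_rc_20_0 lc_d_rc_3_1 lc_d_Cert_tree lc_d_rc_9_1 lc_d_rc_9_1 lc_d_Cert_tree lc_d_rc_21_2 lc_d_rc_18_0 lc_d_rc_20_2 lc_d_rc_20_2 lc_d_rc_28_5 lc_d_rc_18_0) (@D3.rec (fun _ => (Cert rels S Gen.d)) lc_d_rc_20_0 lc_d_rc_21_2 lc_d_rc_9_1 lc_d_rc_3_1 lc_d_rc_3_1 lc_d_rc_3_1 lc_d_rc_9_1 lc_d_rc_28_1 lc_d_rc_18_1 lc_d_rc_18_0 lc_d_rc_21_2 lc_d_rc_19_2 lc_d_rc_21_2 lc_d_rc_21_2 lc_d_rc_3_3 lc_d_rc_9_1 lc_d_rc_3_1 lc_d_rc_20_2 lc_d_rc_9_1 lc_d_rc_21_0 lc_d_rc_20_2 lc_d_rc_3_1 lc_d_rc_9_1 lc_d_rc_3_1 lc_d_rc_9_1 lc_d_rc_19_0 lc_d_rc_21_2 lc_d_rc_21_2 lc_d_rc_19_2 lc_d_rc_21_2 lc_d_rc_3_1 lc_d_rc_3_3 lc_d_rc_3_1 lc_d_Cert_tree lc_d_rc_20_2 lc_d_rc_3_1 lc_d_rc_3_1 lc_d_rc_21_2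 lc_d_rc_9_1 lc_d_rc_3_3) (@D3.rec (fun _ => (Cert rels S Gen.d)) lc_d_rc_18_0 lc_d_rc_21_2 lc_d_Cert_tree lc_d_rc_21_2 lc_d_rc_9_1 lc_d_rc_9_1 lc_d_rc_9_3 lc_d_rc_20_2 lc_d_rc_9_1 lc_d_Cert_tree lc_d_rc_3_3 lc_d_rc_20_2 lc_d_rc_9_1 lc_d_rc_3_1 lc_d_rc_3_1 lc_d_rc_3_1 lc_d_rc_9_1 lc_d_rc_3_1 lc_d_rc_28_1 lc_d_rc_18_0 lc_d_rc_20_2 lc_d_rc_9_1 lc_d_rc_20_2 lc_d_rc_21_2 lc_d_rc_3_3 lc_d_rc_3_1 lc_d_rc_21_2 lc_d_rc_9_1 lc_d_rc_9_1 lc_d_rc_3_1 lc_d_rc_3_1 lc_d_rc_9_1 lc_d_rc_9_1 lc_d_rc_3_1 lc_d_rc_9_1 lc_d_rc_20_2 lc_d_rc_9_1 lc_d_rc_20_2 lc_d_rc_19_2 lc_d_rc_20_2) (@D3.rec (fun _ => (Cert rels S Gen.d)) lc_d_rc_3_1 lc_d_rc_21_2 lc_d_rc_3_1 lc_d_Cert_tree lc_d_rc_21_2 lc_d_rc_28_7 lc_d_rc_3_1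 lc_d_rc_3_3 lc_d_rc_9_1 lc_d_rc_18_0 lc_d_rc_9_3 lc_d_rc_20_2 lc_d_rc_9_3 lc_d_rc_9_3 lc_d_rc_9_1 lc_d_Cert_tree lc_d_rc_9_1 lc_d_rc_32_54 lc_d_rc_21_2 lc_d_rc_3_1 lc_d_rc_3_1 lc_d_rc_3_1 lc_d_rc_21_2 lc_d_rc_3_1 lc_d_rc_21_2 lc_d_rc_18_0 lc_d_rc_21_2 lc_d_rc_21_2 lc_d_Cert_tree lc_d_rc_20_2 lc_d_rc_21_2 lc_d_rc_21_2 lc_d_rc_9_1 lc_d_rc_9_1 lc_d_rc_21_2 lc_d_rc_21_2 lc_d_rc_9_1 lc_d_rc_3_1 lc_d_rc_19_4 lc_d_rc_28_3) (@D3.rec (fun _ => (Cert rels S Gen.d)) lc_d_rc_18_0 lc_d_rc_9_1 lc_d_rc_9_1 lc_d_Cert_tree lc_d_rc_18_0 lc_d_rc_20_2 lc_d_Cert_tree lc_d_rc_9_1 lc_d_Cert_tree lc_d_rc_21_2 lc_d_rc_21_2 lc_d_rc_3_1 lc_d_rc_3_3 lc_d_rc_28_7 lc_d_rc_21_2 lc_d_rc_18_0 lc_d_rc_28_7 lc_d_rc_21_0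 lc_d_rc_18_0 lc_d_rc_20_2 lc_d_Cert_tree lc_d_rc_19_2 lc_d_rc_20_2 lc_d_rc_21_2 lc_d_rc_19_2 lc_d_rc_3_3 lc_d_rc_18_0 lc_d_rc_9_1 lc_d_rc_21_2 lc_d_rc_19_2 lc_d_rc_9_1 lc_d_rc_19_2 lc_d_rc_32_54 lc_d_rc_20_2 lc_d_rc_3_1 lc_d_rc_21_2 lc_d_rc_3_1 lc_d_rc_3_1 lc_d_rc_3_1 lc_d_rc_21_0) (@D3.rec (fun _ => (Cert rels S Gen.d)) lc_d_rc_18_0 lc_d_rc_20_2 lc_d_rc_20_2 lc_d_Cert_tree lc_d_rc_20_2 lc_d_rc_21_2 lc_d_rc_9_1 lc_d_rc_20_2 lc_d_rc_20_2 lc_d_rc_9_1 lc_d_rc_21_2 lc_d_rc_20_2 lc_d_rc_28_1 lc_d_rc_19_4 lc_d_rc_20_2 lc_d_Cert_tree lc_d_rc_18_0 lc_d_rc_21_2 lc_d_rc_9_1 lc_d_Cert_tree lc_d_rc_21_2 lc_d_rc_20_2 lc_d_rc_3_1 lc_d_rc_20_0 lc_d_rc_9_1 lc_d_rc_18_0 lc_d_rc_3_1 lc_d_rc_20_0 lc_d_rc_18_0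 lc_d_Cert_tree lc_d_rc_19_2 lc_d_rc_21_2 lc_d_rc_3_3 lc_d_rc_19_2 lc_d_rc_3_1 lc_d_rc_20_2 lc_d_rc_18_1 lc_d_rc_18_0 lc_d_rc_21_2 lc_d_rc_21_2) (@D3.rec (fun _ => (Cert rels S Gen.d)) lc_d_rc_3_1 lc_d_rc_28_5 lc_d_rc_20_2 lc_d_rc_3_1 lc_d_rc_28_7 lc_d_rc_20_2 lc_d_rc_19_2 lc_d_rc_21_2 lc_d_rc_19_2 lc_d_rc_21_2 lc_d_rc_21_2 lc_d_rc_3_1 lc_d_rc_20_2 lc_d_rc_9_1 lc_d_rc_9_1 lc_d_rc_3_1 lc_d_rc_9_1 lc_d_rc_9_1 lc_d_rc_3_3 lc_d_rc_3_1 lc_d_Cert_tree lc_d_rc_20_2 lc_d_rc_9_1 lc_d_rc_19_2 lc_d_rc_3_1 lc_d_rc_21_2 lc_d_rc_9_1 lc_d_rc_18_1 lc_d_rc_18_0 lc_d_rc_3_1 lc_d_rc_28_7 lc_d_rc_20_2 lc_d_rc_9_1 lc_d_rc_28_3 lc_d_rc_3_1 lc_d_rc_20_2 lc_d_rc_21_0 lc_d_rc_9_1 lc_d_rc_19_2 lc_d_rc_21_2)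 (@D3.rec (fun _ => (Cert rels S Gen.d)) lc_d_rc_9_1 lc_d_rc_20_2 lc_d_rc_21_2 lc_d_rc_3_3 lc_d_rc_20_2 lc_d_rc_3_1 lc_d_rc_18_0 lc_d_rc_28_3 lc_d_rc_9_1 lc_d_rc_3_1 lc_d_rc_3_3 lc_d_rc_9_1 lc_d_rc_32_33 lc_d_rc_9_1 lc_d_rc_3_1 lc_d_rc_9_1 lc_d_rc_28_3 lc_d_rc_18_0 lc_d_rc_20_2 lc_d_rc_21_2 lc_d_rc_3_1 lc_d_rc_28_7 lc_d_rc_18_0 lc_d_rc_20_2 lc_d_rc_21_2 lc_d_rc_19_2 lc_d_Cert_tree lc_d_rc_18_0 lc_d_rc_28_1 lc_d_rc_21_2 lc_d_rc_9_1 lc_d_rc_21_2 lc_d_rc_14_11 lc_d_rc_3_3 lc_d_rc_3_1 lc_d_Cert_tree lc_d_rc_20_2 lc_d_rc_18_0 lc_d_rc_19_2 lc_d_rc_3_1) (@D3.rec (fun _ => (Cert rels S Gen.d)) lc_d_rc_18_0 lc_d_rc_21_2 lc_d_rc_3_1 lc_d_rc_18_1 lc_d_rc_18_0 lc_d_rc_20_2 lc_d_rc_20_2 lc_d_rc_3_1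 lc_d_rc_3_1 lc_d_rc_28_7 lc_d_rc_21_2 lc_d_rc_19_2 lc_d_rc_20_2 lc_d_rc_19_2 lc_d_rc_9_1 lc_d_rc_21_2 lc_d_rc_28_3 lc_d_rc_9_1 lc_d_rc_9_1 lc_d_rc_3_1 lc_d_rc_9_1 lc_d_rc_3_1 lc_d_Cert_tree lc_d_rc_3_3 lc_d_rc_9_1 lc_d_rc_19_2 lc_d_rc_3_1 lc_d_rc_3_1 lc_d_rc_9_1 lc_d_rc_9_3 lc_d_rc_18_0 lc_d_rc_9_1 lc_d_rc_28_1 lc_d_rc_3_1 lc_d_rc_28_5 lc_d_rc_21_2 lc_d_rc_9_1 lc_d_rc_28_7 lc_d_rc_3_1 lc_d_rc_21_2) (@D3.rec (fun _ => (Cert rels S Gen.d)) lc_d_rc_28_3 lc_d_rc_9_1 lc_d_rc_19_2 lc_d_rc_3_1 lc_d_rc_19_4 lc_d_rc_19_2 lc_d_rc_28_5 lc_d_rc_21_0 lc_d_rc_21_2 lc_d_rc_20_2 lc_d_rc_18_0 lc_d_rc_3_1 lc_d_rc_9_1 lc_d_rc_3_1 lc_d_rc_3_3 lc_d_rc_9_1 lc_d_rc_32_33 lc_d_rc_9_1 lc_d_rc_3_1 lc_d_rc_9_1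 lc_d_rc_28_1 lc_d_rc_18_0 lc_d_rc_28_3 lc_d_rc_28_7 lc_d_rc_3_1 lc_d_rc_20_2 lc_d_rc_3_1 lc_d_rc_3_1 lc_d_Cert_tree lc_d_rc_18_0 lc_d_rc_20_2 lc_d_rc_28_1 lc_d_rc_9_1 lc_d_rc_20_2 lc_d_rc_28_5 lc_d_rc_3_1 lc_d_Cert_tree lc_d_rc_21_2 lc_d_rc_18_0 lc_d_rc_19_2) (@D3.rec (fun _ => (Cert rels S Gen.d)) lc_d_rc_3_1 lc_d_rc_3_3 lc_d_rc_20_2 lc_d_rc_3_1 lc_d_rc_14_11 lc_d_rc_21_2 lc_d_rc_21_2 lc_d_rc_20_2 lc_d_rc_21_2 lc_d_rc_9_1 lc_d_rc_28_5 lc_d_rc_21_2 lc_d_rc_21_2 lc_d_rc_3_1 lc_d_rc_9_1 lc_d_rc_28_1 lc_d_rc_21_2 lc_d_rc_3_1 lc_d_rc_19_2 lc_d_rc_21_2 lc_d_rc_3_1 lc_d_Cert_tree lc_d_rc_20_2 lc_d_rc_3_1 lc_d_rc_28_5 lc_d_rc_20_2 lc_d_rc_20_2 lc_d_rc_20_2 lc_d_rc_21_2 lc_d_rc_20_2 lc_d_rc_9_1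 lc_d_rc_28_5 lc_d_rc_20_2 lc_d_rc_21_2 lc_d_rc_21_0 lc_d_rc_9_1 lc_d_rc_28_1 lc_d_rc_20_2 lc_d_rc_3_1 lc_d_rc_19_2) (@D3.rec (fun _ => (Cert rels S Gen.d)) lc_d_rc_20_2 lc_d_rc_3_1 lc_d_Cert_tree lc_d_rc_21_2 lc_d_rc_3_1 lc_d_rc_28_5 lc_d_rc_21_2 lc_d_Cert_tree lc_d_rc_18_0 lc_d_rc_21_2 lc_d_Cert_tree lc_d_rc_18_0 lc_d_rc_20_2 lc_d_rc_21_2 lc_d_rc_21_2 lc_d_rc_20_2 lc_d_rc_20_2 lc_d_rc_18_0 lc_d_rc_21_2 lc_d_rc_9_1 lc_d_rc_20_0 lc_d_Cert_tree lc_d_rc_18_0 lc_d_rc_20_2 lc_d_rc_28_1 lc_d_rc_9_3 lc_d_Cert_tree lc_d_rc_9_1 lc_d_Cert_tree lc_d_rc_18_0 lc_d_rc_21_2 lc_d_rc_21_2 lc_d_rc_3_1 lc_d_Cert_tree lc_d_rc_20_2 lc_d_rc_9_1 lc_d_Cert_tree lc_d_rc_18_0 lc_d_rc_20_2 lc_d_rc_20_2) (@D3.rec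 (fun _ => (Cert rels S Gen.d)) lc_d_rc_3_1 lc_d_Cert_tree lc_d_rc_21_2 lc_d_rc_18_0 lc_d_rc_21_2 lc_d_Cert_tree lc_d_Cert_tree lc_d_rc_18_0 lc_d_rc_20_2 lc_d_rc_21_2 lc_d_rc_18_0 lc_d_rc_20_2 lc_d_Cert_tree lc_d_Cert_tree lc_d_rc_18_0 lc_d_rc_21_2 lc_d_rc_20_2 lc_d_rc_18_0 lc_d_rc_20_2 lc_d_rc_21_2 lc_d_rc_9_1 lc_d_rc_21_2 lc_d_rc_9_1 lc_d_rc_21_0 lc_d_Cert_tree lc_d_rc_9_1 lc_d_Cert_tree lc_d_rc_9_1 lc_d_rc_3_1 lc_d_rc_20_0 lc_d_rc_21_2 lc_d_rc_3_1 lc_d_rc_9_1 lc_d_rc_20_2 lc_d_Cert_tree lc_d_rc_3_1 lc_d_rc_18_0 lc_d_rc_21_2 lc_d_Cert_tree lc_d_rc_3_1) (@D3.rec (fun _ => (Cert rels S Gen.d)) lc_d_rc_18_0 lc_d_rc_20_2 lc_d_rc_20_2 lc_d_rc_21_2 lc_d_rc_18_0 lc_d_rc_21_2 lc_d_rc_9_1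 lc_d_rc_28_5 lc_d_rc_19_2 lc_d_rc_21_2 lc_d_rc_9_1 lc_d_rc_3_3 lc_d_rc_20_2 lc_d_rc_21_2 lc_d_rc_18_0 lc_d_rc_20_2 lc_d_rc_9_1 lc_d_rc_28_5 lc_d_rc_19_2 lc_d_rc_20_2 lc_d_rc_9_1 lc_d_rc_21_2 lc_d_rc_9_3 lc_d_rc_28_3 lc_d_rc_21_2 lc_d_rc_9_1 lc_d_Cert_tree lc_d_rc_18_0 lc_d_rc_21_2 lc_d_rc_21_2 lc_d_rc_9_1 lc_d_rc_3_1 lc_d_rc_20_2 lc_d_rc_9_1 lc_d_rc_9_3 lc_d_rc_28_3 lc_d_rc_20_2 lc_d_rc_9_1 lc_d_Cert_tree lc_d_rc_18_0) (@D3.rec (fun _ => (Cert rels S Gen.d)) lc_d_rc_20_2 lc_d_rc_20_2 lc_d_rc_9_1 lc_d_rc_21_2 lc_d_rc_21_2 lc_d_rc_9_1 lc_d_rc_3_1 lc_d_rc_3_1 lc_d_rc_32_22 lc_d_Cert_tree lc_d_rc_9_1 lc_d_Cert_tree lc_d_rc_18_0 lc_d_rc_20_2 lc_d_Cert_tree lc_d_rc_9_1 lc_d_Cert_tree lc_d_rc_18_0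 lc_d_rc_28_3 lc_d_rc_3_3 lc_d_rc_21_2 lc_d_rc_3_1 lc_d_rc_28_5 lc_d_rc_19_2 lc_d_rc_19_2 lc_d_Cert_tree lc_d_rc_19_2 lc_d_rc_9_1 lc_d_Cert_tree lc_d_rc_18_0 lc_d_rc_20_2 lc_d_rc_28_5 lc_d_rc_21_2 lc_d_Cert_tree lc_d_rc_18_0 lc_d_rc_20_2 lc_d_rc_28_5 lc_d_rc_19_2 lc_d_rc_20_2 lc_d_rc_9_1) (@D3.rec (fun _ => (Cert rels S Gen.d)) lc_d_rc_21_2 lc_d_rc_9_1 lc_d_rc_28_5 lc_d_rc_3_3 lc_d_rc_21_2 lc_d_rc_3_1 lc_d_rc_28_5 lc_d_rc_9_1 lc_d_rc_18_0 lc_d_Cert_tree lc_d_rc_20_2 lc_d_rc_9_1 lc_d_Cert_tree lc_d_rc_18_0 lc_d_rc_21_2 lc_d_rc_21_0 lc_d_rc_20_2 lc_d_Cert_tree lc_d_rc_18_0 lc_d_rc_21_2 lc_d_rc_28_5 lc_d_rc_19_2 lc_d_rc_21_2 lc_d_rc_9_1 lc_d_rc_3_3 lc_d_rc_9_1 lc_d_rc_3_3 lc_d_rc_21_2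 lc_d_rc_20_2 lc_d_rc_21_2 lc_d_rc_21_2 lc_d_rc_21_2 lc_d_rc_21_2 lc_d_rc_9_1 lc_d_rc_9_1 lc_d_Cert_tree lc_d_rc_20_2 lc_d_rc_18_0 lc_d_rc_20_2 lc_d_Cert_tree) (@D3.rec (fun _ => (Cert rels S Gen.d)) lc_d_rc_21_2 lc_d_Cert_tree lc_d_rc_18_0 lc_d_Cert_tree lc_d_rc_19_2 lc_d_rc_20_2 lc_d_rc_9_1 lc_d_Cert_tree lc_d_rc_18_0 lc_d_rc_20_2 lc_d_rc_21_2 lc_d_rc_28_3 lc_d_rc_3_1 lc_d_rc_20_2 lc_d_rc_9_1 lc_d_rc_18_0 lc_d_Cert_tree lc_d_rc_20_2 lc_d_rc_20_2 lc_d_rc_9_1 lc_d_rc_21_2 lc_d_rc_21_2 lc_d_rc_9_1 lc_d_rc_28_7 lc_d_rc_28_1 lc_d_rc_3_3 lc_d_rc_20_2 lc_d_rc_21_2 lc_d_rc_9_3 lc_d_rc_18_1 lc_d_rc_20_2 lc_d_rc_9_1 lc_d_rc_9_1 lc_d_Cert_tree lc_d_rc_21_2 lc_d_rc_18_0 lc_d_rc_21_2 lc_d_Cert_tree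 lc_d_rc_20_2 lc_d_Cert_tree) (@D3.rec (fun _ => (Cert rels S Gen.d)) lc_d_rc_18_0 lc_d_Cert_tree lc_d_rc_19_2 lc_d_rc_21_2 lc_d_rc_9_1 lc_d_Cert_tree lc_d_rc_18_0 lc_d_rc_20_2 lc_d_rc_21_2 lc_d_rc_28_3 lc_d_rc_3_1 lc_d_rc_21_2 lc_d_rc_9_1 lc_d_rc_18_0 lc_d_Cert_tree lc_d_rc_21_2 lc_d_rc_21_2 lc_d_rc_9_1 lc_d_rc_3_1 lc_d_rc_20_2 lc_d_rc_9_1 lc_d_rc_28_3 lc_d_rc_3_1 lc_d_rc_28_7 lc_d_Cert_tree lc_d_rc_3_1 lc_d_rc_28_7 lc_d_rc_9_1 lc_d_rc_19_2 lc_d_rc_3_3 lc_d_rc_9_1 lc_d_rc_28_3 lc_d_Cert_tree lc_d_rc_19_2 lc_d_rc_9_1 lc_d_Cert_tree lc_d_rc_28_7 lc_d_rc_18_0 lc_d_rc_20_2 lc_d_rc_3_1) (@D3.rec (fun _ => (Cert rels S Gen.d)) lc_d_rc_19_4 lc_d_rc_21_2 lc_d_rc_19_4 lc_d_rc_9_1 lc_d_rc_9_1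 lc_d_Cert_tree lc_d_rc_20_2 lc_d_rc_9_1 lc_d_rc_18_0 lc_d_rc_20_2 lc_d_rc_3_1 lc_d_rc_3_1 lc_d_Cert_tree lc_d_rc_9_1 lc_d_rc_21_0 lc_d_Cert_tree lc_d_rc_20_2 lc_d_rc_20_0 lc_d_Cert_tree lc_d_rc_18_0 lc_d_rc_28_5 lc_d_rc_19_2 lc_d_rc_20_2 lc_d_rc_9_1 lc_d_rc_3_1 lc_d_Cert_tree lc_d_rc_20_0 lc_d_Cert_tree lc_d_rc_9_1 lc_d_rc_18_0 lc_d_rc_21_2 lc_d_rc_3_1 lc_d_rc_20_2 lc_d_rc_9_1 lc_d_Cert_tree lc_d_rc_18_0 lc_d_rc_20_2 lc_d_rc_21_2 lc_d_rc_19_2 lc_d_rc_20_2) (@D3.rec (fun _ => (Cert rels S Gen.d)) lc_d_rc_9_1 lc_d_Cert_tree lc_d_rc_9_1 lc_d_Cert_tree lc_d_rc_28_5 lc_d_rc_19_2 lc_d_rc_9_1 lc_d_rc_21_2 lc_d_rc_21_2 lc_d_rc_9_1 lc_d_rc_3_1 lc_d_Cert_tree lc_d_rc_20_2 lc_d_rc_28_7 lc_d_Cert_tree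 lc_d_rc_21_2 lc_d_rc_9_1 lc_d_rc_9_1 lc_d_rc_18_1 lc_d_rc_20_2 lc_d_rc_9_1 lc_d_rc_28_3 lc_d_Cert_tree lc_d_rc_20_2 lc_d_rc_9_1 lc_d_Cert_tree lc_d_rc_18_0 lc_d_rc_21_2 lc_d_rc_20_0 lc_d_rc_9_1 lc_d_rc_20_2 lc_d_rc_9_3 lc_d_rc_9_1 lc_d_rc_9_1 lc_d_Cert_tree lc_d_rc_21_2 lc_d_rc_9_1 lc_d_rc_18_0 lc_d_rc_21_2 lc_d_rc_9_1) (@D3.rec (fun _ => (Cert rels S Gen.d)) lc_d_rc_9_1 lc_d_Cert_tree lc_d_rc_9_1 lc_d_rc_28_7 lc_d_Cert_tree lc_d_rc_20_2 lc_d_rc_20_0 lc_d_Cert_tree lc_d_rc_18_0 lc_d_rc_28_5 lc_d_rc_19_2 lc_d_rc_21_2 lc_d_rc_9_1 lc_d_rc_21_2 lc_d_Cert_tree lc_d_rc_20_2 lc_d_Cert_tree lc_d_rc_9_1 lc_d_rc_18_0 lc_d_rc_20_2 lc_d_rc_21_2 lc_d_rc_9_1 lc_d_rc_3_1 lc_d_Cert_tree lc_d_rc_18_0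 lc_d_rc_20_2 lc_d_rc_21_2 lc_d_rc_19_2 lc_d_rc_21_2 lc_d_rc_9_1 lc_d_Cert_tree lc_d_rc_9_1 lc_d_Cert_tree lc_d_rc_28_5 lc_d_rc_19_2 lc_d_rc_9_1 lc_d_rc_3_1 lc_d_rc_20_2 lc_d_rc_9_1 lc_d_rc_3_1) (@D3.rec (fun _ => (Cert rels S Gen.d)) lc_d_Cert_tree lc_d_rc_20_0 lc_d_Cert_tree lc_d_rc_21_2 lc_d_rc_9_1 lc_d_rc_20_2 lc_d_rc_21_2 lc_d_rc_21_2 lc_d_rc_9_1 lc_d_rc_3_1 lc_d_rc_9_1 lc_d_rc_3_1 lc_d_Cert_tree lc_d_rc_20_2 lc_d_rc_9_1 lc_d_Cert_tree lc_d_Cert_tree lc_d_rc_18_0 lc_d_rc_20_2 lc_d_Cert_tree lc_d_rc_9_1 lc_d_rc_21_2 lc_d_rc_21_2 lc_d_rc_9_1 lc_d_rc_3_1 lc_d_rc_9_1 lc_d_rc_3_1 lc_d_Cert_tree lc_d_rc_19_2 lc_d_rc_21_2 lc_d_rc_9_1 lc_d_rc_9_1 lc_d_rc_28_7 lc_d_Cert_tree lc_d_rc_20_2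 lc_d_rc_9_1 lc_d_Cert_tree lc_d_rc_3_1 lc_d_rc_18_0 lc_d_rc_20_2) (@D3.rec (fun _ => (Cert rels S Gen.d)) lc_d_rc_21_2 lc_d_Cert_tree lc_d_Cert_tree lc_d_rc_18_0 lc_d_rc_20_2 lc_d_Cert_tree lc_d_rc_19_2 lc_d_rc_20_2 lc_d_rc_9_1 lc_d_rc_18_0 lc_d_rc_20_2 lc_d_rc_21_2 lc_d_rc_28_5 lc_d_rc_3_1 lc_d_rc_20_2 lc_d_rc_21_2 lc_d_rc_21_2 lc_d_rc_21_2 lc_d_rc_9_1 lc_d_rc_21_2 lc_d_rc_19_4 lc_d_rc_9_1 lc_d_rc_9_1 lc_d_rc_19_2 lc_d_rc_19_2 lc_d_rc_9_1 lc_d_rc_9_1 lc_d_rc_20_2 lc_d_rc_28_7 lc_d_Cert_tree lc_d_rc_21_2 lc_d_rc_3_1 lc_d_Cert_tree lc_d_rc_20_2 lc_d_rc_21_2 lc_d_rc_3_1 lc_d_Cert_tree lc_d_rc_28_3 lc_d_rc_3_1 lc_d_rc_18_0) (@D3.rec (fun _ => (Cert rels S Gen.d)) lc_d_rc_21_2 lc_d_rc_20_2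 lc_d_Cert_tree lc_d_Cert_tree lc_d_rc_18_0 lc_d_rc_20_2 lc_d_rc_21_2 lc_d_Cert_tree lc_d_rc_18_0 lc_d_rc_20_2 lc_d_rc_21_2 lc_d_rc_28_3 lc_d_rc_3_1 lc_d_Cert_tree lc_d_rc_18_0 lc_d_Cert_tree lc_d_rc_28_3 lc_d_rc_3_1 lc_d_rc_9_1 lc_d_rc_3_1 lc_d_Cert_tree lc_d_rc_21_2 lc_d_Cert_tree lc_d_rc_18_0 lc_d_rc_21_2 lc_d_rc_18_0 lc_d_rc_21_2 lc_d_Cert_tree lc_d_rc_19_2 lc_d_rc_21_2 lc_d_rc_9_1 lc_d_rc_3_3 lc_d_Cert_tree lc_d_rc_18_0 lc_d_rc_20_2 lc_d_rc_21_2 lc_d_Cert_tree lc_d_rc_18_0 lc_d_rc_20_2 lc_d_rc_21_2) (@D3.rec (fun _ => (Cert rels S Gen.d)) lc_d_rc_19_2 lc_d_rc_20_2 lc_d_rc_21_2 lc_d_rc_9_1 lc_d_rc_9_1 lc_d_Cert_tree lc_d_Cert_tree lc_d_rc_18_0 lc_d_rc_20_2 lc_d_rc_21_2 lc_d_rc_28_7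 lc_d_rc_9_1 lc_d_rc_20_2 lc_d_rc_21_2 lc_d_rc_9_1 lc_d_rc_21_2 lc_d_rc_21_2 lc_d_rc_9_1 lc_d_Cert_tree lc_d_rc_28_3 lc_d_rc_3_1 lc_d_rc_9_1 lc_d_Cert_tree lc_d_rc_21_2 lc_d_rc_18_0 lc_d_Cert_tree lc_d_rc_18_0 lc_d_Cert_tree lc_d_rc_20_2 lc_d_rc_21_2 lc_d_Cert_tree lc_d_rc_20_2 lc_d_rc_18_0 lc_d_rc_20_2 lc_d_rc_9_1 lc_d_rc_28_5 lc_d_rc_21_2 lc_d_rc_9_1 lc_d_rc_3_1 lc_d_rc_9_1) (@D3.rec (fun _ => (Cert rels S Gen.d)) lc_d_rc_20_2 lc_d_rc_19_2 lc_d_rc_3_1 lc_d_Cert_tree lc_d_rc_20_2 lc_d_rc_9_1 lc_d_rc_21_2 lc_d_rc_20_2 lc_d_rc_9_1 lc_d_rc_21_2 lc_d_rc_3_1 lc_d_rc_3_1 lc_d_Cert_tree lc_d_rc_21_2 lc_d_rc_9_1 lc_d_rc_9_1 lc_d_Cert_tree lc_d_rc_18_0 lc_d_rc_21_2 lc_d_Cert_tree lc_d_rc_9_1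 lc_d_rc_20_2 lc_d_rc_9_1 lc_d_rc_21_2 lc_d_rc_3_1 lc_d_rc_3_1 lc_d_Cert_tree lc_d_rc_9_1 lc_d_rc_20_2 lc_d_rc_9_1 lc_d_rc_9_1 lc_d_rc_9_1 lc_d_rc_28_7 lc_d_Cert_tree lc_d_rc_21_2 lc_d_rc_9_1 lc_d_Cert_tree lc_d_rc_3_1 lc_d_rc_18_0 lc_d_rc_21_2)
def ce_d_11 : D2 → D3 → (Cert rels S Gen.d) := @D2.rec (fun _ => D3 → (Cert rels S Gen.d)) (@D3.rec (fun _ => (Cert rels S Gen.d)) lc_d_rc_20_2 lc_d_Cert_tree lc_d_Cert_tree lc_d_rc_18_0 lc_d_Cert_tree lc_d_rc_19_2 lc_d_rc_21_2 lc_d_rc_9_1 lc_d_rc_18_0 lc_d_rc_20_2 lc_d_rc_21_2 lc_d_rc_28_5 lc_d_rc_9_1 lc_d_rc_20_2 lc_d_rc_21_2 lc_d_rc_9_1 lc_d_rc_3_3 lc_d_rc_3_3 lc_d_rc_20_2 lc_d_rc_3_1 lc_d_rc_9_1 lc_d_rc_9_1 lc_d_rc_19_2 lc_d_rc_19_2 lc_d_rc_9_1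 lc_d_rc_9_1 lc_d_rc_21_2 lc_d_rc_28_7 lc_d_Cert_tree lc_d_rc_20_2 lc_d_rc_3_1 lc_d_Cert_tree lc_d_rc_20_2 lc_d_rc_21_2 lc_d_rc_3_1 lc_d_Cert_tree lc_d_rc_28_3 lc_d_rc_3_1 lc_d_rc_18_0 lc_d_rc_20_2) (@D3.rec (fun _ => (Cert rels S Gen.d)) lc_d_rc_21_2 lc_d_Cert_tree lc_d_Cert_tree lc_d_rc_18_0 lc_d_rc_20_2 lc_d_rc_21_2 lc_d_Cert_tree lc_d_rc_18_0 lc_d_rc_20_2 lc_d_rc_21_2 lc_d_rc_28_3 lc_d_rc_3_1 lc_d_Cert_tree lc_d_rc_18_0 lc_d_Cert_tree lc_d_rc_28_5 lc_d_rc_21_2 lc_d_rc_9_1 lc_d_rc_3_1 lc_d_Cert_tree lc_d_rc_20_2 lc_d_Cert_tree lc_d_rc_18_0 lc_d_rc_20_2 lc_d_rc_18_0 lc_d_rc_20_2 lc_d_Cert_tree lc_d_rc_19_2 lc_d_rc_20_2 lc_d_rc_9_1 lc_d_rc_21_2 lc_d_Cert_tree lc_d_rc_18_0 lc_d_rc_20_2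 lc_d_rc_20_2 lc_d_Cert_tree lc_d_rc_18_0 lc_d_rc_20_2 lc_d_rc_21_2 lc_d_rc_19_2) (@D3.rec (fun _ => (Cert rels S Gen.d)) lc_d_rc_20_2 lc_d_rc_21_2 lc_d_rc_9_1 lc_d_rc_9_1 lc_d_Cert_tree lc_d_Cert_tree lc_d_rc_18_0 lc_d_rc_20_2 lc_d_rc_21_2 lc_d_rc_28_7 lc_d_rc_9_1 lc_d_rc_20_2 lc_d_rc_21_2 lc_d_rc_21_2 lc_d_rc_9_1 lc_d_rc_21_2 lc_d_rc_9_1 lc_d_Cert_tree lc_d_rc_28_3 lc_d_rc_3_1 lc_d_rc_9_1 lc_d_Cert_tree lc_d_rc_20_2 lc_d_rc_18_0 lc_d_Cert_tree lc_d_rc_18_0 lc_d_Cert_tree lc_d_rc_20_2 lc_d_rc_21_2 lc_d_Cert_tree lc_d_rc_21_2 lc_d_rc_18_0 lc_d_rc_21_2 lc_d_rc_9_1 lc_d_rc_28_3 lc_d_rc_3_1 lc_d_rc_9_1 lc_d_rc_3_1 lc_d_rc_9_1 lc_d_rc_21_2) (@D3.rec (fun _ => (Cert rels S Gen.d)) lc_d_rc_19_2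 lc_d_rc_3_1 lc_d_rc_21_2 lc_d_rc_28_3 lc_d_rc_28_7 lc_d_rc_9_1 lc_d_rc_20_2 lc_d_rc_21_2 lc_d_rc_9_1 lc_d_rc_3_1 lc_d_rc_19_4 lc_d_rc_20_2 lc_d_rc_18_0 lc_d_rc_20_2 lc_d_rc_21_2 lc_d_rc_3_1 lc_d_rc_18_0 lc_d_rc_20_2 lc_d_rc_21_2 lc_d_Cert_tree lc_d_rc_19_2 lc_d_rc_20_2 lc_d_rc_21_2 lc_d_rc_21_2 lc_d_rc_21_2 lc_d_rc_9_1 lc_d_rc_28_3 lc_d_rc_18_0 lc_d_rc_20_2 lc_d_rc_21_2 lc_d_Cert_tree lc_d_rc_28_7 lc_d_rc_20_2 lc_d_rc_21_2 lc_d_rc_9_1 lc_d_rc_9_1 lc_d_rc_18_0 lc_d_Cert_tree lc_d_rc_20_2 lc_d_rc_21_2) (@D3.rec (fun _ => (Cert rels S Gen.d)) lc_d_rc_20_2 lc_d_rc_21_2 lc_d_rc_21_2 lc_d_rc_21_0 lc_d_rc_9_1 lc_d_rc_9_1 lc_d_rc_9_1 lc_d_rc_3_1 lc_d_rc_28_7 lc_d_rc_28_7 lc_d_rc_9_1 lc_d_rc_21_2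 lc_d_rc_21_2 lc_d_rc_3_1 lc_d_rc_20_2 lc_d_rc_9_3 lc_d_rc_19_2 lc_d_rc_9_1 lc_d_rc_20_2 lc_d_rc_3_3 lc_d_rc_9_1 lc_d_rc_3_1 lc_d_rc_9_1 lc_d_rc_20_2 lc_d_rc_18_0 lc_d_rc_20_2 lc_d_rc_21_2 lc_d_rc_3_1 lc_d_rc_18_0 lc_d_rc_20_2 lc_d_rc_21_2 lc_d_Cert_tree lc_d_rc_19_2 lc_d_rc_20_2 lc_d_rc_21_2 lc_d_rc_21_2 lc_d_rc_21_2 lc_d_rc_9_1 lc_d_rc_28_3 lc_d_rc_18_0) (@D3.rec (fun _ => (Cert rels S Gen.d)) lc_d_rc_20_2 lc_d_rc_21_2 lc_d_Cert_tree lc_d_rc_28_7 lc_d_rc_20_2 lc_d_rc_21_2 lc_d_rc_9_1 lc_d_rc_9_1 lc_d_rc_18_0 lc_d_Cert_tree lc_d_rc_20_2 lc_d_rc_21_2 lc_d_rc_20_2 lc_d_rc_21_2 lc_d_rc_21_2 lc_d_rc_21_0 lc_d_rc_9_1 lc_d_rc_9_1 lc_d_rc_9_1 lc_d_rc_3_1 lc_d_rc_28_7 lc_d_rc_28_7 lc_d_rc_20_2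 lc_d_rc_28_3 lc_d_rc_21_2 lc_d_rc_3_1 lc_d_Cert_tree lc_d_rc_9_1 lc_d_Cert_tree lc_d_rc_18_0 lc_d_rc_20_2 lc_d_rc_21_2 lc_d_rc_28_3 lc_d_Cert_tree lc_d_rc_9_1 lc_d_Cert_tree lc_d_rc_18_0 lc_d_rc_20_2 lc_d_rc_21_2 lc_d_rc_28_3) (@D3.rec (fun _ => (Cert rels S Gen.d)) lc_d_rc_21_2 lc_d_rc_20_2 lc_d_rc_19_2 lc_d_rc_21_2 lc_d_rc_9_1 lc_d_rc_19_2 lc_d_rc_20_2 lc_d_rc_28_7 lc_d_rc_18_0 lc_d_rc_19_2 lc_d_rc_19_2 lc_d_rc_9_1 lc_d_rc_9_1 lc_d_rc_19_2 lc_d_rc_21_2 lc_d_rc_19_2 lc_d_rc_20_2 lc_d_rc_9_1 lc_d_rc_21_2 lc_d_rc_18_0 lc_d_rc_21_2 lc_d_rc_3_3 lc_d_rc_20_2 lc_d_rc_21_2 lc_d_rc_21_2 lc_d_rc_18_0 lc_d_rc_20_2 lc_d_rc_3_3 lc_d_rc_21_2 lc_d_rc_21_2 lc_d_rc_9_3 lc_d_rc_9_1 lc_d_rc_18_0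 lc_d_rc_9_1 lc_d_rc_19_2 lc_d_Cert_tree lc_d_rc_20_2 lc_d_rc_9_1 lc_d_rc_20_2 lc_d_rc_20_2) (@D3.rec (fun _ => (Cert rels S Gen.d)) lc_d_rc_9_1 lc_d_rc_9_1 lc_d_rc_9_1 lc_d_rc_21_2 lc_d_Cert_tree lc_d_rc_21_2 lc_d_rc_9_1 lc_d_rc_21_2 lc_d_rc_28_3 lc_d_rc_19_2 lc_d_rc_21_2 lc_d_rc_21_2 lc_d_rc_9_1 lc_d_rc_20_0 lc_d_rc_20_2 lc_d_rc_18_0 lc_d_rc_20_2 lc_d_Cert_tree lc_d_rc_19_2 lc_d_rc_20_2 lc_d_rc_9_1 lc_d_rc_18_0 lc_d_rc_20_2 lc_d_rc_20_2 lc_d_rc_3_1 lc_d_rc_3_1 lc_d_rc_20_2 lc_d_rc_20_2 lc_d_rc_9_1 lc_d_rc_3_1 lc_d_Cert_tree lc_d_rc_18_0 lc_d_rc_20_2 lc_d_rc_9_1 lc_d_rc_20_2 lc_d_rc_9_1 lc_d_rc_28_5 lc_d_rc_21_2 lc_d_rc_9_1 lc_d_rc_3_1) (@D3.rec (fun _ => (Cert rels S Gen.d)) lc_d_rc_21_2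 lc_d_rc_21_2 lc_d_rc_9_1 lc_d_rc_21_2 lc_d_Cert_tree lc_d_rc_21_2 lc_d_rc_9_1 lc_d_rc_21_2 lc_d_rc_3_1 lc_d_rc_9_1 lc_d_rc_20_2 lc_d_rc_9_1 lc_d_rc_19_2 lc_d_rc_19_2 lc_d_rc_20_2 lc_d_rc_9_1 lc_d_rc_19_2 lc_d_rc_21_2 lc_d_rc_18_0 lc_d_rc_21_2 lc_d_Cert_tree lc_d_rc_19_2 lc_d_rc_21_2 lc_d_rc_9_1 lc_d_rc_18_0 lc_d_rc_28_3 lc_d_rc_21_2 lc_d_rc_21_0 lc_d_rc_3_1 lc_d_rc_21_2 lc_d_rc_21_2 lc_d_rc_9_1 lc_d_rc_3_1 lc_d_Cert_tree lc_d_rc_18_0 lc_d_rc_21_2 lc_d_rc_9_1 lc_d_rc_21_2 lc_d_rc_9_1 lc_d_rc_28_3) (@D3.rec (fun _ => (Cert rels S Gen.d)) lc_d_rc_3_1 lc_d_rc_9_1 lc_d_rc_3_1 lc_d_rc_20_2 lc_d_rc_20_2 lc_d_rc_9_1 lc_d_rc_3_3 lc_d_rc_3_3 lc_d_rc_20_2 lc_d_rc_9_1 lc_d_rc_20_2 lc_d_rc_3_1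 lc_d_rc_9_1 lc_d_rc_18_0 lc_d_rc_3_1 lc_d_Cert_tree lc_d_rc_20_2 lc_d_rc_9_1 lc_d_rc_3_1 lc_d_Cert_tree lc_d_rc_20_2 lc_d_rc_9_1 lc_d_rc_3_1 lc_d_rc_9_1 lc_d_rc_3_1 lc_d_rc_9_1 lc_d_rc_20_2 lc_d_rc_3_1 lc_d_rc_18_0 lc_d_rc_3_1 lc_d_rc_21_2 lc_d_rc_28_1 lc_d_rc_21_2 lc_d_rc_18_0 lc_d_rc_21_2 lc_d_rc_21_2 lc_d_rc_20_2 lc_d_rc_9_1 lc_d_rc_18_0 lc_d_rc_28_5) (@D3.rec (fun _ => (Cert rels S Gen.d)) lc_d_rc_21_2 lc_d_rc_19_2 lc_d_rc_21_2 lc_d_rc_9_1 lc_d_rc_3_1 lc_d_rc_9_1 lc_d_rc_20_2 lc_d_rc_21_2 lc_d_rc_20_2 lc_d_rc_18_0 lc_d_rc_20_2 lc_d_rc_28_5 lc_d_rc_21_2 lc_d_rc_21_2 lc_d_rc_21_2 lc_d_rc_9_1 lc_d_rc_3_1 lc_d_rc_21_2 lc_d_rc_9_1 lc_d_rc_9_1 lc_d_rc_18_0 lc_d_rc_3_1 lc_d_rc_20_2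 lc_d_rc_9_1 lc_d_rc_3_1 lc_d_rc_21_2 lc_d_Cert_tree lc_d_Cert_tree lc_d_rc_18_0 lc_d_rc_21_2 lc_d_rc_28_7 lc_d_rc_19_2 lc_d_rc_18_0 lc_d_rc_28_3 lc_d_rc_3_1 lc_d_rc_20_2 lc_d_rc_20_2 lc_d_rc_9_3 lc_d_rc_18_0 lc_d_Cert_tree) (@D3.rec (fun _ => (Cert rels S Gen.d)) lc_d_rc_20_2 lc_d_rc_21_2 lc_d_rc_3_1 lc_d_rc_21_2 lc_d_rc_19_4 lc_d_rc_28_3 lc_d_rc_20_2 lc_d_rc_9_1 lc_d_rc_20_2 lc_d_rc_21_2 lc_d_rc_3_1 lc_d_rc_20_2 lc_d_rc_3_1 lc_d_rc_19_2 lc_d_rc_19_2 lc_d_rc_3_1 lc_d_Cert_tree lc_d_rc_9_1 lc_d_rc_3_1 lc_d_rc_3_1 lc_d_rc_20_2 lc_d_rc_21_2 lc_d_rc_3_1 lc_d_rc_21_2 lc_d_rc_3_1 lc_d_rc_21_2 lc_d_rc_3_3 lc_d_Cert_tree lc_d_rc_18_0 lc_d_rc_20_2 lc_d_rc_21_2 lc_d_rc_9_1 lc_d_rc_28_3 lc_d_rc_3_1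 lc_d_rc_28_5 lc_d_rc_9_1 lc_d_rc_21_0 lc_d_rc_18_0 lc_d_rc_3_3 lc_d_rc_28_5) (@D3.rec (fun _ => (Cert rels S Gen.d)) lc_d_rc_3_1 lc_d_rc_21_2 lc_d_rc_20_2 lc_d_rc_18_0 lc_d_rc_3_1 lc_d_rc_18_0 lc_d_Cert_tree lc_d_rc_18_0 lc_d_rc_20_2 lc_d_rc_21_2 lc_d_rc_19_2 lc_d_rc_9_1 lc_d_rc_18_0 lc_d_rc_9_1 lc_d_rc_20_2 lc_d_rc_9_1 lc_d_rc_20_2 lc_d_rc_21_2 lc_d_rc_21_2 lc_d_Cert_tree lc_d_rc_28_3 lc_d_Cert_tree lc_d_rc_20_2 lc_d_rc_21_2 lc_d_Cert_tree lc_d_rc_18_0 lc_d_rc_20_2 lc_d_rc_9_1 lc_d_rc_9_1 lc_d_rc_3_1 lc_d_rc_21_2 lc_d_rc_3_1 lc_d_rc_3_3 lc_d_rc_3_1 lc_d_rc_18_0 lc_d_rc_9_3 lc_d_rc_20_2 lc_d_rc_18_0 lc_d_rc_28_1 lc_d_rc_3_1) (@D3.rec (fun _ => (Cert rels S Gen.d)) lc_d_rc_9_1 lc_d_rc_21_2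 lc_d_rc_9_1 lc_d_rc_3_1 lc_d_rc_9_1 lc_d_rc_21_2 lc_d_rc_21_0 lc_d_rc_28_7 lc_d_rc_28_7 lc_d_rc_19_2 lc_d_rc_9_1 lc_d_rc_20_0 lc_d_rc_9_1 lc_d_rc_9_1 lc_d_rc_28_3 lc_d_rc_21_2 lc_d_rc_21_2 lc_d_rc_18_0 lc_d_rc_18_0 lc_d_rc_21_2 lc_d_rc_3_1 lc_d_rc_21_2 lc_d_rc_3_1 lc_d_rc_9_1 lc_d_Cert_tree lc_d_rc_14_9 lc_d_rc_20_2 lc_d_rc_21_2 lc_d_rc_21_2 lc_d_rc_3_1 lc_d_Cert_tree lc_d_rc_20_2 lc_d_rc_3_1 lc_d_Cert_tree lc_d_rc_20_2 lc_d_rc_21_2 lc_d_rc_18_0 lc_d_rc_20_2 lc_d_rc_18_0 lc_d_rc_20_2) (@D3.rec (fun _ => (Cert rels S Gen.d)) lc_d_rc_19_2 lc_d_Cert_tree lc_d_rc_18_0 lc_d_Cert_tree lc_d_rc_20_2 lc_d_rc_21_2 lc_d_rc_9_1 lc_d_Cert_tree lc_d_rc_20_2 lc_d_rc_21_2 lc_d_rc_18_0 lc_d_rc_20_2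 lc_d_rc_21_2 lc_d_rc_21_2 lc_d_rc_21_2 lc_d_rc_18_0 lc_d_rc_20_2 lc_d_Cert_tree lc_d_rc_20_2 lc_d_rc_21_2 lc_d_rc_9_1 lc_d_rc_9_1 lc_d_rc_3_1 lc_d_rc_21_0 lc_d_Cert_tree lc_d_rc_20_2 lc_d_rc_18_0 lc_d_rc_20_2 lc_d_rc_20_2 lc_d_rc_28_7 lc_d_rc_18_0 lc_d_rc_3_1 lc_d_rc_9_1 lc_d_rc_3_1 lc_d_Cert_tree lc_d_rc_21_2 lc_d_rc_9_1 lc_d_rc_9_1 lc_d_rc_21_2 lc_d_rc_3_1) (@D3.rec (fun _ => (Cert rels S Gen.d)) lc_d_rc_18_0 lc_d_rc_32_38 lc_d_rc_20_2 lc_d_rc_20_2 lc_d_rc_28_1 lc_d_rc_21_0 lc_d_rc_21_2 lc_d_rc_18_0 lc_d_rc_28_5 lc_d_rc_20_2 lc_d_rc_21_2 lc_d_rc_9_1 lc_d_rc_20_2 lc_d_rc_9_1 lc_d_rc_20_2 lc_d_rc_19_2 lc_d_rc_9_1 lc_d_rc_3_1 lc_d_rc_9_1 lc_d_rc_21_2 lc_d_rc_20_2 lc_d_rc_18_0 lc_d_rc_21_2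 lc_d_rc_14_3 lc_d_rc_21_2 lc_d_rc_20_2 lc_d_rc_20_2 lc_d_rc_20_2 lc_d_rc_3_1 lc_d_rc_9_1 lc_d_rc_3_3 lc_d_rc_9_1 lc_d_rc_18_0 lc_d_rc_20_2 lc_d_rc_3_1 lc_d_rc_21_2 lc_d_rc_9_1 lc_d_rc_3_1 lc_d_rc_20_2 lc_d_Cert_tree) (@D3.rec (fun _ => (Cert rels S Gen.d)) lc_d_rc_9_1 lc_d_rc_20_2 lc_d_rc_19_2 lc_d_rc_18_0 lc_d_rc_28_3 lc_d_rc_3_1 lc_d_rc_9_3 lc_d_rc_18_0 lc_d_Cert_tree lc_d_rc_21_2 lc_d_rc_21_0 lc_d_rc_21_2 lc_d_rc_20_2 lc_d_rc_3_1 lc_d_rc_28_3 lc_d_rc_21_2 lc_d_rc_19_2 lc_d_rc_3_1 lc_d_rc_3_3 lc_d_rc_3_1 lc_d_rc_21_2 lc_d_rc_3_1 lc_d_rc_19_2 lc_d_rc_19_2 lc_d_rc_3_1 lc_d_Cert_tree lc_d_rc_19_2 lc_d_rc_3_1 lc_d_rc_3_1 lc_d_rc_20_2 lc_d_rc_21_2 lc_d_rc_3_1 lc_d_rc_19_0 lc_d_rc_3_3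 lc_d_rc_18_0 lc_d_rc_21_2 lc_d_rc_3_1 lc_d_rc_9_1 lc_d_rc_3_3 lc_d_rc_18_1) (@D3.rec (fun _ => (Cert rels S Gen.d)) lc_d_rc_28_5 lc_d_rc_3_3 lc_d_rc_21_2 lc_d_rc_18_0 lc_d_rc_20_2 lc_d_rc_28_5 lc_d_rc_3_1 lc_d_rc_20_2 lc_d_rc_3_1 lc_d_rc_3_1 lc_d_rc_3_1 lc_d_rc_21_2 lc_d_rc_18_0 lc_d_rc_21_2 lc_d_rc_28_1 lc_d_rc_19_2 lc_d_rc_9_1 lc_d_rc_18_0 lc_d_rc_9_1 lc_d_rc_28_3 lc_d_rc_9_1 lc_d_rc_20_2 lc_d_rc_21_2 lc_d_rc_20_2 lc_d_rc_28_3 lc_d_Cert_tree lc_d_rc_20_2 lc_d_rc_21_2 lc_d_rc_18_0 lc_d_rc_21_2 lc_d_rc_9_1 lc_d_rc_9_1 lc_d_rc_3_1 lc_d_rc_20_2 lc_d_rc_3_1 lc_d_rc_28_3 lc_d_rc_3_1 lc_d_rc_18_0 lc_d_rc_28_3 lc_d_rc_21_2) (@D3.rec (fun _ => (Cert rels S Gen.d)) lc_d_rc_18_0 lc_d_rc_28_1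 lc_d_rc_3_1 lc_d_rc_9_1 lc_d_rc_20_2 lc_d_rc_9_1 lc_d_rc_3_1 lc_d_rc_9_1 lc_d_rc_20_2 lc_d_rc_28_3 lc_d_rc_28_7 lc_d_rc_19_2 lc_d_rc_9_1 lc_d_rc_9_1 lc_d_rc_28_3 lc_d_rc_18_0 lc_d_rc_18_0 lc_d_rc_20_2 lc_d_rc_3_1 lc_d_rc_20_2 lc_d_rc_3_1 lc_d_Cert_tree lc_d_rc_28_7 lc_d_rc_20_2 lc_d_rc_21_2 lc_d_rc_21_2 lc_d_rc_21_0 lc_d_rc_20_2 lc_d_rc_18_0 lc_d_rc_20_2 lc_d_rc_19_2 lc_d_rc_9_1 lc_d_Cert_tree lc_d_rc_3_1 lc_d_rc_3_1 lc_d_rc_18_0 lc_d_rc_20_2 lc_d_rc_21_2 lc_d_rc_21_2 lc_d_rc_3_3) (@D3.rec (fun _ => (Cert rels S Gen.d)) lc_d_Cert_tree lc_d_rc_21_2 lc_d_rc_20_2 lc_d_rc_9_1 lc_d_rc_9_1 lc_d_rc_3_1 lc_d_rc_28_7 lc_d_Cert_tree lc_d_rc_9_3 lc_d_rc_18_0 lc_d_rc_21_2 lc_d_rc_21_2 lc_d_rc_28_7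 lc_d_rc_21_2 lc_d_rc_3_1 lc_d_rc_20_2 lc_d_rc_18_0 lc_d_rc_21_2 lc_d_rc_9_1 lc_d_rc_9_1 lc_d_rc_9_3 lc_d_rc_20_2 lc_d_rc_20_2 lc_d_rc_18_0 lc_d_rc_18_1 lc_d_rc_9_1 lc_d_rc_3_1 lc_d_rc_18_0 lc_d_Cert_tree lc_d_rc_21_2 lc_d_rc_20_2 lc_d_rc_21_2 lc_d_rc_19_2 lc_d_rc_20_2 lc_d_rc_21_2 lc_d_rc_21_0 lc_d_rc_9_1 lc_d_rc_20_2 lc_d_rc_21_2 lc_d_rc_3_1) (@D3.rec (fun _ => (Cert rels S Gen.d)) lc_d_rc_21_2 lc_d_rc_9_1 lc_d_Cert_tree lc_d_rc_18_0 lc_d_Cert_tree lc_d_rc_21_2 lc_d_rc_3_1 lc_d_rc_3_1 lc_d_rc_21_2 lc_d_Cert_tree lc_d_rc_21_2 lc_d_rc_18_0 lc_d_rc_21_2 lc_d_rc_9_1 lc_d_rc_28_5 lc_d_rc_21_2 lc_d_rc_3_3 lc_d_rc_9_1 lc_d_rc_9_1 lc_d_rc_20_2 lc_d_rc_9_1 lc_d_rc_3_1 lc_d_rc_28_5 lc_d_rc_9_1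 lc_d_rc_18_0 lc_d_rc_3_3 lc_d_rc_9_1 lc_d_Cert_tree lc_d_rc_20_2 lc_d_rc_21_2 lc_d_rc_21_2 lc_d_rc_19_4 lc_d_rc_20_2 lc_d_rc_3_1 lc_d_rc_21_2 lc_d_rc_18_0 lc_d_rc_19_2 lc_d_rc_9_1 lc_d_rc_9_1 lc_d_rc_19_2) (@D3.rec (fun _ => (Cert rels S Gen.d)) lc_d_rc_21_2 lc_d_rc_21_2 lc_d_rc_18_0 lc_d_rc_3_1 lc_d_rc_9_1 lc_d_rc_3_1 lc_d_rc_18_0 lc_d_Cert_tree lc_d_rc_20_2 lc_d_rc_20_2 lc_d_rc_21_2 lc_d_rc_9_1 lc_d_rc_20_2 lc_d_rc_21_2 lc_d_rc_28_3 lc_d_rc_9_1 lc_d_rc_20_2 lc_d_rc_21_2 lc_d_rc_9_1 lc_d_rc_28_5 lc_d_rc_20_2 lc_d_Cert_tree lc_d_rc_18_0 lc_d_Cert_tree lc_d_rc_20_2 lc_d_rc_3_1 lc_d_rc_3_1 lc_d_rc_21_0 lc_d_Cert_tree lc_d_rc_20_2 lc_d_rc_18_0 lc_d_rc_20_2 lc_d_rc_9_1 lc_d_rc_28_5 lc_d_rc_21_2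 lc_d_rc_3_3 lc_d_rc_9_1 lc_d_rc_9_1 lc_d_rc_3_1 lc_d_rc_20_0) (@D3.rec (fun _ => (Cert rels S Gen.d)) lc_d_rc_20_2 lc_d_rc_21_2 lc_d_rc_9_1 lc_d_rc_18_0 lc_d_rc_9_1 lc_d_rc_3_3 lc_d_Cert_tree lc_d_rc_20_2 lc_d_rc_21_2 lc_d_rc_19_4 lc_d_rc_20_2 lc_d_rc_3_1 lc_d_rc_20_2 lc_d_rc_21_2 lc_d_rc_19_2 lc_d_rc_20_2 lc_d_rc_3_3 lc_d_rc_18_0 lc_d_rc_20_2 lc_d_rc_3_1 lc_d_rc_20_2 lc_d_rc_21_2 lc_d_rc_28_7 lc_d_rc_19_2 lc_d_rc_21_2 lc_d_rc_21_2 lc_d_rc_21_2 lc_d_rc_9_1 lc_d_rc_19_4 lc_d_rc_21_2 lc_d_rc_9_3 lc_d_rc_20_2 lc_d_rc_19_4 lc_d_rc_18_0 lc_d_rc_21_2 lc_d_rc_20_2 lc_d_rc_3_3 lc_d_rc_9_1 lc_d_Cert_tree lc_d_rc_28_3) (@D3.rec (fun _ => (Cert rels S Gen.d)) lc_d_rc_28_3 lc_d_rc_18_0 lc_d_rc_3_3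 lc_d_rc_3_1 lc_d_rc_9_1 lc_d_rc_21_2 lc_d_Cert_tree lc_d_rc_21_2 lc_d_rc_18_0 lc_d_rc_20_2 lc_d_rc_21_2 lc_d_rc_9_1 lc_d_Cert_tree lc_d_rc_20_2 lc_d_rc_3_1 lc_d_rc_28_5 lc_d_rc_21_2 lc_d_rc_3_1 lc_d_rc_20_2 lc_d_rc_21_2 lc_d_rc_19_2 lc_d_rc_3_3 lc_d_rc_28_1 lc_d_rc_18_0 lc_d_rc_21_2 lc_d_rc_21_0 lc_d_rc_20_2 lc_d_rc_21_2 lc_d_rc_28_7 lc_d_rc_19_2 lc_d_rc_20_2 lc_d_rc_21_2 lc_d_rc_9_1 lc_d_rc_9_1 lc_d_rc_19_4 lc_d_rc_20_2 lc_d_rc_9_3 lc_d_rc_21_2 lc_d_rc_19_4 lc_d_rc_18_0) (@D3.rec (fun _ => (Cert rels S Gen.d)) lc_d_rc_20_2 lc_d_rc_20_2 lc_d_rc_20_0 lc_d_Cert_tree lc_d_rc_3_1 lc_d_rc_9_1 lc_d_rc_21_2 lc_d_Cert_tree lc_d_rc_18_0 lc_d_rc_20_2 lc_d_rc_21_2 lc_d_rc_9_1 lc_d_Cert_tree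 lc_d_rc_28_7 lc_d_rc_9_1 lc_d_rc_28_7 lc_d_rc_18_0 lc_d_rc_3_1 lc_d_rc_3_3 lc_d_rc_20_2 lc_d_rc_9_1 lc_d_rc_9_1 lc_d_rc_20_2 lc_d_rc_9_1 lc_d_rc_9_1 lc_d_rc_20_2 lc_d_rc_9_1 lc_d_rc_20_2 lc_d_rc_9_1 lc_d_rc_3_3 lc_d_rc_18_0 lc_d_rc_9_1 lc_d_rc_3_1 lc_d_rc_3_1 lc_d_rc_20_2 lc_d_rc_21_2 lc_d_rc_28_1 lc_d_rc_19_2 lc_d_rc_20_2 lc_d_rc_32_40) (@D3.rec (fun _ => (Cert rels S Gen.d)) lc_d_Cert_tree lc_d_rc_18_0 lc_d_rc_3_1 lc_d_rc_19_2 lc_d_rc_20_2 lc_d_rc_20_2 lc_d_rc_3_1 lc_d_rc_28_3 lc_d_rc_18_0 lc_d_rc_20_2 lc_d_rc_3_1 lc_d_rc_32_7 lc_d_rc_3_1 lc_d_Cert_tree lc_d_rc_9_3 lc_d_rc_9_1 lc_d_rc_20_2 lc_d_rc_3_1 lc_d_rc_3_1 lc_d_rc_28_7 lc_d_rc_21_2 lc_d_rc_20_2 lc_d_rc_9_1 lc_d_rc_3_1 lc_d_rc_9_1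 lc_d_rc_9_1 lc_d_rc_21_0 lc_d_rc_21_2 lc_d_rc_9_1 lc_d_rc_19_2 lc_d_rc_21_2 lc_d_rc_3_3 lc_d_rc_9_1 lc_d_rc_3_1 lc_d_rc_32_7 lc_d_rc_20_2 lc_d_Cert_tree lc_d_rc_18_0 lc_d_rc_3_1 lc_d_rc_19_2)
def ce_d_12 : D2 → D3 → (Cert rels S Gen.d) := @D2.rec (fun _ => D3 → (Cert rels S Gen.d)) (@D3.rec (fun _ => (Cert rels S Gen.d)) lc_d_rc_3_1 lc_d_rc_9_1 lc_d_rc_21_2 lc_d_rc_14_7 lc_d_rc_18_0 lc_d_rc_9_3 lc_d_rc_21_2 lc_d_rc_28_5 lc_d_rc_28_3 lc_d_Cert_tree lc_d_rc_20_2 lc_d_rc_9_1 lc_d_rc_21_2 lc_d_rc_21_2 lc_d_rc_3_1 lc_d_rc_21_2 lc_d_rc_9_1 lc_d_rc_19_4 lc_d_rc_9_1 lc_d_rc_19_4 lc_d_rc_20_2 lc_d_rc_3_3 lc_d_rc_21_2 lc_d_rc_20_2 lc_d_rc_21_2 lc_d_rc_21_2 lc_d_rc_21_0 lc_d_rc_9_1 lc_d_rc_9_1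 lc_d_rc_3_1 lc_d_Cert_tree lc_d_rc_21_2 lc_d_rc_3_1 lc_d_Cert_tree lc_d_rc_20_2 lc_d_rc_9_1 lc_d_rc_3_1 lc_d_rc_20_2 lc_d_rc_9_1 lc_d_rc_3_1) (@D3.rec (fun _ => (Cert rels S Gen.d)) lc_d_rc_21_2 lc_d_rc_21_2 lc_d_rc_3_1 lc_d_rc_21_2 lc_d_rc_3_1 lc_d_Cert_tree lc_d_rc_20_2 lc_d_rc_20_2 lc_d_rc_3_1 lc_d_Cert_tree lc_d_rc_21_2 lc_d_rc_3_1 lc_d_rc_19_4 lc_d_rc_3_3 lc_d_rc_9_1 lc_d_Cert_tree lc_d_rc_3_1 lc_d_rc_18_0 lc_d_rc_20_2 lc_d_rc_21_2 lc_d_rc_3_1 lc_d_rc_21_2 lc_d_rc_21_2 lc_d_rc_9_1 lc_d_Cert_tree lc_d_rc_3_1 lc_d_rc_18_0 lc_d_rc_21_2 lc_d_rc_3_3 lc_d_rc_9_1 lc_d_rc_21_2 lc_d_rc_9_1 lc_d_rc_9_1 lc_d_rc_3_1 lc_d_rc_9_1 lc_d_rc_3_1 lc_d_Cert_tree lc_d_rc_19_4 lc_d_rc_3_1 lc_d_rc_9_3)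 (@D3.rec (fun _ => (Cert rels S Gen.d)) lc_d_rc_21_2 lc_d_rc_9_1 lc_d_Cert_tree lc_d_rc_3_1 lc_d_rc_3_1 lc_d_rc_19_2 lc_d_rc_20_2 lc_d_rc_9_1 lc_d_rc_9_1 lc_d_rc_21_2 lc_d_rc_9_1 lc_d_rc_28_7 lc_d_rc_21_2 lc_d_rc_9_1 lc_d_rc_9_1 lc_d_rc_21_2 lc_d_rc_21_2 lc_d_rc_28_7 lc_d_rc_20_2 lc_d_rc_9_1 lc_d_rc_19_2 lc_d_rc_9_1 lc_d_rc_28_3 lc_d_rc_3_1 lc_d_rc_9_1 lc_d_rc_28_7 lc_d_rc_3_1 lc_d_rc_3_1 lc_d_rc_9_1 lc_d_rc_28_3 lc_d_rc_9_1 lc_d_rc_28_3 lc_d_rc_21_2 lc_d_rc_20_0 lc_d_rc_20_2 lc_d_rc_21_2 lc_d_rc_9_1 lc_d_rc_20_2 lc_d_rc_9_1 lc_d_rc_3_1) (@D3.rec (fun _ => (Cert rels S Gen.d)) lc_d_rc_21_2 lc_d_rc_3_1 lc_d_rc_20_2 lc_d_rc_21_2 lc_d_rc_20_2 lc_d_rc_9_1 lc_d_rc_9_3 lc_d_rc_21_2 lc_d_rc_9_1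 lc_d_rc_21_2 lc_d_rc_3_1 lc_d_rc_9_3 lc_d_rc_18_0 lc_d_rc_20_2 lc_d_rc_19_2 lc_d_rc_20_2 lc_d_rc_3_1 lc_d_rc_21_2 lc_d_rc_3_1 lc_d_rc_20_2 lc_d_rc_3_1 lc_d_rc_21_2 lc_d_rc_18_0 lc_d_rc_21_2 lc_d_rc_9_1 lc_d_rc_3_1 lc_d_rc_19_4 lc_d_rc_3_1 lc_d_rc_19_4 lc_d_rc_3_1 lc_d_rc_19_4 lc_d_rc_21_2 lc_d_rc_20_2 lc_d_rc_18_0 lc_d_rc_20_2 lc_d_rc_9_1 lc_d_rc_3_1 lc_d_rc_3_3 lc_d_rc_20_2 lc_d_rc_9_3) (@D3.rec (fun _ => (Cert rels S Gen.d)) lc_d_rc_3_1 lc_d_rc_19_4 lc_d_rc_20_2 lc_d_rc_21_2 lc_d_rc_9_1 lc_d_rc_9_1 lc_d_rc_3_1 lc_d_rc_3_1 lc_d_rc_9_1 lc_d_rc_9_1 lc_d_rc_3_1 lc_d_rc_21_2 lc_d_rc_20_2 lc_d_rc_9_1 lc_d_rc_9_1 lc_d_rc_3_1 lc_d_rc_21_2 lc_d_rc_9_1 lc_d_rc_9_1 lc_d_rc_3_1 lc_d_rc_3_1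 lc_d_rc_21_2 lc_d_rc_18_0 lc_d_rc_21_2 lc_d_rc_3_1 lc_d_rc_21_2 lc_d_rc_9_1 lc_d_Cert_tree lc_d_rc_21_2 lc_d_rc_21_2 lc_d_rc_9_1 lc_d_rc_3_1 lc_d_rc_3_1 lc_d_rc_20_2 lc_d_Cert_tree lc_d_rc_18_0 lc_d_rc_20_2 lc_d_rc_9_1 lc_d_rc_21_2 lc_d_rc_3_1) (@D3.rec (fun _ => (Cert rels S Gen.d)) lc_d_Cert_tree lc_d_rc_21_2 lc_d_rc_21_2 lc_d_rc_18_0 lc_d_rc_20_2 lc_d_rc_28_5 lc_d_rc_9_1 lc_d_rc_20_2 lc_d_rc_21_2 lc_d_rc_9_1 lc_d_rc_20_2 lc_d_rc_18_0 lc_d_rc_20_2 lc_d_rc_3_1 lc_d_rc_20_2 lc_d_rc_9_1 lc_d_Cert_tree lc_d_rc_20_2 lc_d_rc_20_2 lc_d_rc_9_1 lc_d_rc_21_2 lc_d_rc_3_1 lc_d_rc_21_2 lc_d_Cert_tree lc_d_rc_18_0 lc_d_rc_21_2 lc_d_rc_9_1 lc_d_rc_20_2 lc_d_rc_3_1 lc_d_Cert_tree lc_d_rc_20_2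 lc_d_rc_21_2 lc_d_rc_18_0 lc_d_rc_21_2 lc_d_rc_28_5 lc_d_rc_9_1 lc_d_rc_21_2 lc_d_rc_3_3 lc_d_rc_9_1 lc_d_rc_9_1) (@D3.rec (fun _ => (Cert rels S Gen.d)) lc_d_rc_3_1 lc_d_Cert_tree lc_d_rc_20_2 lc_d_rc_19_4 lc_d_rc_3_1 lc_d_rc_21_2 lc_d_rc_9_1 lc_d_rc_3_1 lc_d_Cert_tree lc_d_rc_21_2 lc_d_rc_19_4 lc_d_rc_3_1 lc_d_rc_3_3 lc_d_rc_9_1 lc_d_rc_21_2 lc_d_rc_20_2 lc_d_rc_21_2 lc_d_rc_18_0 lc_d_rc_9_1 lc_d_rc_28_1 lc_d_rc_20_2 lc_d_rc_20_2 lc_d_rc_3_1 lc_d_rc_20_2 lc_d_rc_21_2 lc_d_rc_21_0 lc_d_rc_18_0 lc_d_rc_20_2 lc_d_rc_28_1 lc_d_rc_21_2 lc_d_rc_20_2 lc_d_rc_18_0 lc_d_rc_28_3 lc_d_rc_20_2 lc_d_rc_21_2 lc_d_rc_18_0 lc_d_rc_28_3 lc_d_rc_21_2 lc_d_rc_20_2 lc_d_rc_3_1) (@D3.rec (fun _ =>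 (Cert rels S Gen.d)) lc_d_rc_3_1 lc_d_rc_9_1 lc_d_rc_18_0 lc_d_rc_21_2 lc_d_rc_3_1 lc_d_rc_21_2 lc_d_rc_20_2 lc_d_rc_21_2 lc_d_rc_9_1 lc_d_rc_20_2 lc_d_rc_9_1 lc_d_rc_3_1 lc_d_rc_21_2 lc_d_rc_28_5 lc_d_rc_28_5 lc_d_rc_9_1 lc_d_rc_20_2 lc_d_rc_21_2 lc_d_Cert_tree lc_d_rc_20_2 lc_d_rc_20_2 lc_d_rc_20_2 lc_d_rc_9_1 lc_d_rc_19_2 lc_d_rc_21_2 lc_d_rc_3_1 lc_d_rc_9_1 lc_d_rc_18_0 lc_d_rc_20_2 lc_d_rc_3_1 lc_d_rc_3_3 lc_d_rc_21_2 lc_d_rc_20_2 lc_d_rc_21_0 lc_d_rc_21_2 lc_d_rc_3_3 lc_d_rc_19_2 lc_d_rc_20_2 lc_d_rc_19_2 lc_d_rc_28_5) (@D3.rec (fun _ => (Cert rels S Gen.d)) lc_d_rc_18_0 lc_d_rc_20_2 lc_d_rc_21_2 lc_d_Cert_tree lc_d_rc_21_2 lc_d_rc_21_2 lc_d_rc_28_5 lc_d_rc_9_1 lc_d_rc_19_2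 lc_d_rc_21_2 lc_d_rc_21_2 lc_d_rc_3_1 lc_d_rc_19_0 lc_d_rc_20_2 lc_d_rc_20_2 lc_d_rc_9_1 lc_d_rc_9_1 lc_d_rc_21_2 lc_d_rc_9_1 lc_d_rc_20_2 lc_d_rc_9_1 lc_d_rc_3_1 lc_d_rc_9_3 lc_d_rc_3_1 lc_d_Cert_tree lc_d_rc_21_2 lc_d_rc_9_1 lc_d_rc_3_1 lc_d_Cert_tree lc_d_rc_20_2 lc_d_rc_9_1 lc_d_rc_20_2 lc_d_rc_21_2 lc_d_rc_3_1 lc_d_rc_3_1 lc_d_rc_20_2 lc_d_rc_9_3 lc_d_rc_20_2 lc_d_rc_3_1 lc_d_rc_3_1) (@D3.rec (fun _ => (Cert rels S Gen.d)) lc_d_rc_21_2 lc_d_rc_9_1 lc_d_Cert_tree lc_d_rc_3_1 lc_d_rc_18_0 lc_d_rc_21_2 lc_d_rc_3_1 lc_d_rc_9_1 lc_d_Cert_tree lc_d_rc_21_0 lc_d_rc_18_0 lc_d_rc_20_2 lc_d_rc_21_2 lc_d_rc_3_1 lc_d_Cert_tree lc_d_rc_20_2 lc_d_rc_21_2 lc_d_rc_19_2 lc_d_rc_9_1 lc_d_rc_3_1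 lc_d_Cert_tree lc_d_rc_20_2 lc_d_rc_21_2 lc_d_rc_21_2 lc_d_rc_9_1 lc_d_rc_3_1 lc_d_rc_21_0 lc_d_rc_3_1 lc_d_rc_9_1 lc_d_rc_21_2 lc_d_rc_3_1 lc_d_rc_20_0 lc_d_rc_3_1 lc_d_rc_9_1 lc_d_rc_28_7 lc_d_rc_3_1 lc_d_rc_18_0 lc_d_rc_28_7 lc_d_rc_21_2 lc_d_rc_3_1) (@D3.rec (fun _ => (Cert rels S Gen.d)) lc_d_rc_9_1 lc_d_rc_20_2 lc_d_rc_3_1 lc_d_rc_18_1 lc_d_rc_21_2 lc_d_rc_9_1 lc_d_rc_20_0 lc_d_rc_3_1 lc_d_rc_18_0 lc_d_rc_19_0 lc_d_rc_3_1 lc_d_rc_18_0 lc_d_rc_9_3 lc_d_rc_21_2 lc_d_rc_9_1 lc_d_rc_3_1 lc_d_rc_9_1 lc_d_rc_20_2 lc_d_rc_9_1 lc_d_rc_20_2 lc_d_Cert_tree lc_d_rc_21_2 lc_d_rc_3_3 lc_d_rc_28_7 lc_d_rc_9_1 lc_d_rc_9_1 lc_d_rc_18_0 lc_d_rc_3_3 lc_d_rc_3_1 lc_d_rc_9_1 lc_d_rc_3_1 lc_d_rc_9_1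 lc_d_rc_21_2 lc_d_rc_9_1 lc_d_rc_3_1 lc_d_Cert_tree lc_d_rc_20_2 lc_d_rc_3_3 lc_d_rc_28_7 lc_d_rc_9_1) (@D3.rec (fun _ => (Cert rels S Gen.d)) lc_d_rc_9_1 lc_d_rc_3_1 lc_d_rc_21_2 lc_d_rc_28_7 lc_d_Cert_tree lc_d_rc_9_1 lc_d_rc_3_1 lc_d_rc_9_1 lc_d_rc_9_1 lc_d_rc_21_0 lc_d_Cert_tree lc_d_rc_21_2 lc_d_rc_3_1 lc_d_rc_20_2 lc_d_rc_21_2 lc_d_rc_9_1 lc_d_rc_9_1 lc_d_rc_3_1 lc_d_rc_20_2 lc_d_rc_28_7 lc_d_Cert_tree lc_d_rc_9_1 lc_d_rc_9_1 lc_d_rc_9_1 lc_d_rc_9_1 lc_d_rc_20_0 lc_d_Cert_tree lc_d_rc_20_2 lc_d_rc_3_1 lc_d_rc_20_2 lc_d_rc_21_2 lc_d_rc_9_1 lc_d_rc_9_1 lc_d_rc_18_0 lc_d_rc_20_2 lc_d_rc_21_2 lc_d_rc_9_1 lc_d_rc_18_0 lc_d_rc_20_2 lc_d_rc_21_2) (@D3.rec (fun _ => (Cert rels S Gen.d))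 lc_d_rc_28_5 lc_d_rc_19_2 lc_d_rc_20_2 lc_d_rc_21_2 lc_d_rc_21_2 lc_d_rc_9_1 lc_d_rc_21_2 lc_d_rc_3_1 lc_d_Cert_tree lc_d_rc_3_3 lc_d_rc_19_4 lc_d_rc_9_1 lc_d_rc_20_2 lc_d_rc_21_2 lc_d_rc_21_2 lc_d_rc_9_1 lc_d_rc_3_3 lc_d_rc_3_1 lc_d_rc_9_1 lc_d_rc_3_1 lc_d_Cert_tree lc_d_rc_20_2 lc_d_rc_19_4 lc_d_Cert_tree lc_d_rc_3_1 lc_d_rc_18_0 lc_d_rc_20_2 lc_d_rc_21_2 lc_d_rc_3_1 lc_d_rc_3_1 lc_d_Cert_tree lc_d_rc_20_2 lc_d_rc_9_1 lc_d_rc_9_1 lc_d_Cert_tree lc_d_rc_18_0 lc_d_rc_20_2 lc_d_rc_20_2 lc_d_rc_3_1 lc_d_Cert_tree) (@D3.rec (fun _ => (Cert rels S Gen.d)) lc_d_rc_21_2 lc_d_rc_3_1 lc_d_Cert_tree lc_d_rc_20_2 lc_d_rc_21_2 lc_d_Cert_tree lc_d_rc_18_0 lc_d_rc_3_1 lc_d_rc_20_2 lc_d_rc_9_1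 lc_d_rc_3_1 lc_d_Cert_tree lc_d_rc_20_2 lc_d_Cert_tree lc_d_rc_9_3 lc_d_rc_18_0 lc_d_rc_21_2 lc_d_rc_3_3 lc_d_rc_3_1 lc_d_rc_3_1 lc_d_rc_21_2 lc_d_rc_20_2 lc_d_Cert_tree lc_d_rc_18_0 lc_d_rc_21_2 lc_d_rc_28_1 lc_d_rc_20_2 lc_d_rc_3_1 lc_d_rc_20_2 lc_d_rc_18_0 lc_d_rc_20_2 lc_d_rc_21_2 lc_d_rc_9_1 lc_d_rc_18_0 lc_d_rc_20_2 lc_d_rc_21_2 lc_d_rc_14_11 lc_d_rc_19_2 lc_d_rc_20_2 lc_d_rc_21_2) (@D3.rec (fun _ => (Cert rels S Gen.d)) lc_d_rc_9_1 lc_d_rc_21_2 lc_d_rc_21_2 lc_d_rc_3_1 lc_d_Cert_tree lc_d_rc_21_2 lc_d_rc_9_1 lc_d_rc_20_2 lc_d_rc_21_2 lc_d_rc_9_1 lc_d_rc_21_2 lc_d_rc_3_3 lc_d_rc_3_1 lc_d_rc_9_1 lc_d_rc_3_1 lc_d_Cert_tree lc_d_rc_21_2 lc_d_rc_19_4 lc_d_Cert_tree lc_d_rc_18_0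 lc_d_rc_21_2 lc_d_rc_20_2 lc_d_rc_21_2 lc_d_rc_3_1 lc_d_Cert_tree lc_d_rc_21_2 lc_d_rc_9_1 lc_d_rc_9_1 lc_d_Cert_tree lc_d_rc_18_0 lc_d_rc_21_2 lc_d_rc_21_2 lc_d_rc_3_1 lc_d_Cert_tree lc_d_rc_20_2 lc_d_rc_3_1 lc_d_Cert_tree lc_d_rc_20_2 lc_d_rc_20_2 lc_d_rc_28_1) (@D3.rec (fun _ => (Cert rels S Gen.d)) lc_d_rc_20_2 lc_d_rc_21_2 lc_d_Cert_tree lc_d_rc_20_2 lc_d_Cert_tree lc_d_rc_9_3 lc_d_rc_18_0 lc_d_rc_20_2 lc_d_rc_21_2 lc_d_rc_3_1 lc_d_rc_3_1 lc_d_rc_20_2 lc_d_rc_21_2 lc_d_Cert_tree lc_d_rc_18_0 lc_d_rc_20_2 lc_d_rc_21_2 lc_d_rc_3_1 lc_d_rc_20_2 lc_d_rc_21_2 lc_d_rc_21_2 lc_d_rc_3_1 lc_d_rc_20_2 lc_d_rc_21_2 lc_d_rc_9_1 lc_d_rc_28_5 lc_d_rc_21_2 lc_d_rc_21_2 lc_d_rc_21_0 lc_d_rc_9_1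 lc_d_rc_9_1 lc_d_rc_3_1 lc_d_Cert_tree lc_d_rc_20_2 lc_d_rc_9_1 lc_d_rc_9_1 lc_d_rc_28_3 lc_d_rc_3_1 lc_d_rc_18_0 lc_d_rc_20_2) (@D3.rec (fun _ => (Cert rels S Gen.d)) lc_d_rc_9_1 lc_d_rc_21_2 lc_d_rc_3_1 lc_d_Cert_tree lc_d_rc_21_2 lc_d_rc_18_0 lc_d_rc_20_2 lc_d_rc_9_1 lc_d_rc_9_1 lc_d_rc_9_1 lc_d_rc_20_2 lc_d_rc_9_1 lc_d_rc_21_2 lc_d_rc_3_1 lc_d_rc_21_2 lc_d_rc_9_1 lc_d_rc_3_1 lc_d_rc_3_3 lc_d_rc_28_1 lc_d_rc_18_0 lc_d_rc_21_2 lc_d_rc_3_1 lc_d_rc_9_1 lc_d_rc_28_7 lc_d_Cert_tree lc_d_rc_18_0 lc_d_rc_20_2 lc_d_rc_21_2 lc_d_Cert_tree lc_d_rc_9_1 lc_d_rc_20_2 lc_d_rc_21_2 lc_d_rc_21_2 lc_d_rc_21_2 lc_d_rc_3_1 lc_d_rc_28_5 lc_d_rc_20_2 lc_d_rc_21_2 lc_d_rc_9_3 lc_d_rc_9_1) (@D3.rec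 (fun _ => (Cert rels S Gen.d)) lc_d_rc_3_1 lc_d_rc_20_2 lc_d_rc_21_2 lc_d_rc_9_1 lc_d_rc_3_1 lc_d_rc_20_2 lc_d_rc_21_2 lc_d_rc_21_0 lc_d_rc_9_1 lc_d_rc_9_1 lc_d_rc_3_1 lc_d_Cert_tree lc_d_rc_21_2 lc_d_rc_9_1 lc_d_rc_9_1 lc_d_rc_28_3 lc_d_rc_3_1 lc_d_rc_18_0 lc_d_rc_21_2 lc_d_rc_21_2 lc_d_rc_3_1 lc_d_rc_3_1 lc_d_Cert_tree lc_d_rc_20_2 lc_d_rc_18_0 lc_d_rc_21_2 lc_d_rc_9_1 lc_d_rc_21_0 lc_d_rc_9_1 lc_d_rc_21_2 lc_d_rc_9_1 lc_d_rc_20_2 lc_d_rc_3_1 lc_d_rc_3_3 lc_d_rc_9_1 lc_d_rc_3_1 lc_d_rc_21_2 lc_d_rc_28_1 lc_d_rc_18_0 lc_d_rc_20_2) (@D3.rec (fun _ => (Cert rels S Gen.d)) lc_d_rc_3_1 lc_d_rc_9_1 lc_d_rc_28_7 lc_d_Cert_tree lc_d_rc_18_0 lc_d_rc_20_2 lc_d_rc_21_2 lc_d_Cert_tree lc_d_rc_9_1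 lc_d_rc_20_2 lc_d_rc_21_2 lc_d_rc_21_2 lc_d_rc_21_2 lc_d_rc_3_1 lc_d_rc_9_1 lc_d_rc_20_2 lc_d_rc_21_2 lc_d_rc_21_2 lc_d_rc_9_1 lc_d_rc_20_2 lc_d_rc_9_1 lc_d_rc_9_1 lc_d_rc_9_1 lc_d_rc_28_3 lc_d_rc_18_0 lc_d_rc_20_2 lc_d_rc_21_2 lc_d_rc_28_3 lc_d_rc_3_1 lc_d_rc_20_2 lc_d_rc_21_2 lc_d_rc_18_0 lc_d_rc_20_2 lc_d_Cert_tree lc_d_rc_9_1 lc_d_rc_20_2 lc_d_rc_21_2 lc_d_rc_20_2 lc_d_rc_9_1 lc_d_rc_21_2) (@D3.rec (fun _ => (Cert rels S Gen.d)) lc_d_rc_9_1 lc_d_rc_20_2 lc_d_rc_9_1 lc_d_rc_28_3 lc_d_rc_18_0 lc_d_rc_20_2 lc_d_rc_21_2 lc_d_rc_28_3 lc_d_rc_3_1 lc_d_rc_20_2 lc_d_rc_21_2 lc_d_rc_18_0 lc_d_Cert_tree lc_d_rc_9_1 lc_d_rc_20_2 lc_d_rc_21_2 lc_d_rc_20_2 lc_d_rc_9_1 lc_d_rc_21_0 lc_d_rc_28_3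 lc_d_rc_3_1 lc_d_rc_9_1 lc_d_rc_20_0 lc_d_rc_28_3 lc_d_rc_28_3 lc_d_rc_9_1 lc_d_rc_28_3 lc_d_rc_3_1 lc_d_rc_9_1 lc_d_rc_9_1 lc_d_rc_9_1 lc_d_rc_18_0 lc_d_rc_9_3 lc_d_rc_19_0 lc_d_rc_9_1 lc_d_rc_9_1 lc_d_rc_28_5 lc_d_rc_28_7 lc_d_rc_9_1 lc_d_rc_28_7) (@D3.rec (fun _ => (Cert rels S Gen.d)) lc_d_rc_9_1 lc_d_rc_21_2 lc_d_rc_9_1 lc_d_rc_3_1 lc_d_rc_21_2 lc_d_rc_9_1 lc_d_rc_28_7 lc_d_rc_20_2 lc_d_rc_9_1 lc_d_rc_21_2 lc_d_rc_21_2 lc_d_rc_9_1 lc_d_rc_20_2 lc_d_rc_21_2 lc_d_rc_3_1 lc_d_rc_20_2 lc_d_rc_20_2 lc_d_rc_9_1 lc_d_rc_9_1 lc_d_rc_3_1 lc_d_rc_21_0 lc_d_rc_20_2 lc_d_rc_9_1 lc_d_rc_20_2 lc_d_rc_3_1 lc_d_rc_20_0 lc_d_rc_20_2 lc_d_rc_19_2 lc_d_rc_28_1 lc_d_rc_3_1 lc_d_rc_3_3 lc_d_rc_9_1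 lc_d_rc_3_1 lc_d_rc_3_1 lc_d_rc_20_2 lc_d_rc_18_0 lc_d_rc_28_7 lc_d_rc_20_2 lc_d_rc_28_5 lc_d_rc_21_2) (@D3.rec (fun _ => (Cert rels S Gen.d)) lc_d_rc_28_7 lc_d_rc_3_1 lc_d_rc_9_1 lc_d_rc_28_5 lc_d_rc_3_1 lc_d_rc_28_3 lc_d_rc_20_2 lc_d_rc_28_3 lc_d_rc_9_3 lc_d_rc_18_0 lc_d_rc_20_2 lc_d_rc_28_5 lc_d_rc_9_1 lc_d_rc_9_3 lc_d_rc_28_1 lc_d_rc_20_0 lc_d_rc_20_2 lc_d_rc_28_3 lc_d_rc_21_2 lc_d_rc_21_0 lc_d_rc_21_2 lc_d_rc_18_0 lc_d_rc_28_5 lc_d_rc_21_2 lc_d_rc_3_1 lc_d_rc_20_2 lc_d_rc_9_1 lc_d_rc_21_2 lc_d_rc_9_1 lc_d_rc_28_5 lc_d_rc_20_2 lc_d_rc_9_1 lc_d_rc_21_2 lc_d_rc_3_1 lc_d_rc_20_2 lc_d_rc_21_2 lc_d_rc_9_1 lc_d_rc_9_1 lc_d_rc_9_1 lc_d_rc_3_1) (@D3.rec (fun _ => (Cert rels S Gen.d))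 lc_d_rc_9_1 lc_d_rc_21_2 lc_d_rc_9_1 lc_d_rc_3_1 lc_d_rc_21_2 lc_d_rc_21_0 lc_d_rc_19_2 lc_d_rc_3_1 lc_d_rc_3_1 lc_d_rc_3_3 lc_d_rc_9_1 lc_d_rc_3_1 lc_d_rc_20_0 lc_d_rc_20_2 lc_d_rc_20_2 lc_d_rc_20_0 lc_d_rc_28_1 lc_d_rc_9_1 lc_d_rc_20_0 lc_d_rc_3_1 lc_d_rc_21_2 lc_d_rc_3_3 lc_d_rc_18_0 lc_d_rc_20_2 lc_d_rc_21_2 lc_d_rc_20_0 lc_d_rc_21_0 lc_d_rc_9_1 lc_d_rc_28_7 lc_d_rc_21_2 lc_d_rc_3_1 lc_d_rc_3_1 lc_d_rc_9_1 lc_d_rc_3_1 lc_d_rc_3_1 lc_d_rc_20_2 lc_d_rc_21_0 lc_d_rc_21_2 lc_d_rc_3_1 lc_d_rc_3_1) (@D3.rec (fun _ => (Cert rels S Gen.d)) lc_d_rc_9_1 lc_d_rc_18_0 lc_d_rc_20_2 lc_d_rc_21_2 lc_d_Cert_tree lc_d_rc_21_2 lc_d_rc_28_5 lc_d_rc_3_1 lc_d_rc_20_0 lc_d_rc_19_0 lc_d_rc_28_5 lc_d_rc_9_3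 lc_d_rc_9_1 lc_d_rc_19_2 lc_d_rc_9_1 lc_d_rc_3_3 lc_d_rc_9_1 lc_d_rc_3_1 lc_d_rc_9_1 lc_d_rc_9_1 lc_d_rc_18_0 lc_d_rc_9_1 lc_d_rc_9_1 lc_d_rc_20_2 lc_d_rc_3_1 lc_d_rc_28_7 lc_d_rc_18_0 lc_d_rc_18_0 lc_d_rc_20_2 lc_d_rc_3_1 lc_d_rc_3_1 lc_d_rc_9_1 lc_d_rc_9_1 lc_d_rc_9_1 lc_d_rc_9_1 lc_d_rc_9_1 lc_d_rc_19_2 lc_d_rc_18_0 lc_d_rc_21_2 lc_d_rc_19_2) (@D3.rec (fun _ => (Cert rels S Gen.d)) lc_d_rc_14_13 lc_d_rc_21_2 lc_d_rc_3_1 lc_d_rc_9_1 lc_d_rc_3_1 lc_d_rc_21_2 lc_d_rc_3_1 lc_d_rc_3_1 lc_d_rc_21_2 lc_d_rc_20_2 lc_d_rc_19_4 lc_d_rc_20_2 lc_d_rc_9_1 lc_d_rc_18_0 lc_d_rc_21_2 lc_d_rc_19_2 lc_d_Cert_tree lc_d_rc_20_2 lc_d_rc_28_5 lc_d_rc_3_1 lc_d_rc_28_5 lc_d_rc_28_1 lc_d_rc_28_5 lc_d_rc_9_3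 lc_d_rc_9_1 lc_d_rc_19_2 lc_d_rc_9_1 lc_d_rc_9_1 lc_d_rc_9_1 lc_d_rc_3_1 lc_d_rc_20_2 lc_d_rc_9_1 lc_d_rc_18_0 lc_d_rc_9_1 lc_d_rc_9_1 lc_d_rc_20_2 lc_d_rc_3_1 lc_d_rc_28_7 lc_d_rc_14_1 lc_d_rc_18_0) (@D3.rec (fun _ => (Cert rels S Gen.d)) lc_d_rc_20_2 lc_d_rc_21_2 lc_d_rc_3_1 lc_d_rc_9_1 lc_d_rc_3_1 lc_d_rc_9_1 lc_d_rc_9_1 lc_d_rc_9_1 lc_d_rc_18_1 lc_d_rc_19_0 lc_d_rc_18_1 lc_d_rc_9_1 lc_d_rc_21_2 lc_d_rc_21_2 lc_d_rc_3_1 lc_d_rc_20_2 lc_d_rc_3_1 lc_d_rc_20_2 lc_d_rc_20_2 lc_d_rc_9_1 lc_d_rc_28_1 lc_d_rc_21_2 lc_d_rc_19_2 lc_d_rc_18_0 lc_d_rc_28_5 lc_d_rc_28_3 lc_d_rc_19_2 lc_d_rc_21_2 lc_d_rc_9_1 lc_d_Cert_tree lc_d_rc_20_2 lc_d_rc_18_0 lc_d_rc_14_11 lc_d_rc_9_1 lc_d_rc_19_4 lc_d_rc_9_3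 lc_d_rc_20_2 lc_d_rc_20_2 lc_d_rc_9_3 lc_d_rc_20_2)
def ce_d_13 : D2 → D3 → (Cert rels S Gen.d) := @D2.rec (fun _ => D3 → (Cert rels S Gen.d)) (@D3.rec (fun _ => (Cert rels S Gen.d)) lc_d_rc_9_1 lc_d_rc_9_1 lc_d_rc_20_2 lc_d_rc_3_1 lc_d_rc_19_4 lc_d_rc_20_2 lc_d_rc_3_1 lc_d_rc_18_0 lc_d_rc_14_11 lc_d_rc_9_1 lc_d_rc_9_1 lc_d_rc_20_2 lc_d_rc_9_1 lc_d_Cert_tree lc_d_rc_9_1 lc_d_rc_18_0 lc_d_rc_9_1 lc_d_rc_21_2 lc_d_rc_3_1 lc_d_rc_3_1 lc_d_rc_3_1 lc_d_rc_9_1 lc_d_rc_20_2 lc_d_rc_21_2 lc_d_rc_9_1 lc_d_rc_9_1 lc_d_rc_9_1 lc_d_rc_20_2 lc_d_rc_3_1 lc_d_rc_9_1 lc_d_rc_9_1 lc_d_rc_20_2 lc_d_rc_18_0 lc_d_rc_9_1 lc_d_rc_3_1 lc_d_rc_28_3 lc_d_rc_20_2 lc_d_rc_3_1 lc_d_rc_21_2 lc_d_rc_3_1) (@D3.rec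 (fun _ => (Cert rels S Gen.d)) lc_d_rc_9_1 lc_d_rc_9_1 lc_d_rc_9_1 lc_d_rc_19_4 lc_d_rc_3_1 lc_d_rc_21_2 lc_d_rc_18_0 lc_d_rc_21_2 lc_d_rc_20_2 lc_d_Cert_tree lc_d_rc_9_1 lc_d_rc_9_1 lc_d_rc_3_1 lc_d_rc_3_1 lc_d_rc_18_0 lc_d_rc_21_2 lc_d_rc_9_1 lc_d_rc_9_1 lc_d_rc_3_1 lc_d_rc_3_1 lc_d_rc_9_1 lc_d_rc_18_0 lc_d_rc_21_2 lc_d_rc_20_2 lc_d_rc_28_7 lc_d_rc_21_2 lc_d_rc_9_1 lc_d_rc_20_2 lc_d_rc_14_7 lc_d_rc_18_0 lc_d_rc_20_2 lc_d_Cert_tree lc_d_rc_9_1 lc_d_rc_3_1 lc_d_rc_3_1 lc_d_rc_18_0 lc_d_rc_20_2 lc_d_rc_19_2 lc_d_Cert_tree lc_d_rc_20_2) (@D3.rec (fun _ => (Cert rels S Gen.d)) lc_d_rc_9_1 lc_d_Cert_tree lc_d_rc_21_2 lc_d_rc_21_2 lc_d_rc_3_1 lc_d_rc_3_3 lc_d_rc_3_3 lc_d_rc_9_1 lc_d_rc_20_2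 lc_d_rc_18_0 lc_d_rc_20_2 lc_d_rc_9_1 lc_d_rc_3_1 lc_d_rc_18_0 lc_d_rc_21_2 lc_d_Cert_tree lc_d_Cert_tree lc_d_rc_18_0 lc_d_rc_21_2 lc_d_rc_18_0 lc_d_rc_20_2 lc_d_rc_21_2 lc_d_rc_3_1 lc_d_Cert_tree lc_d_rc_20_2 lc_d_rc_20_2 lc_d_rc_3_1 lc_d_Cert_tree lc_d_rc_21_2 lc_d_rc_3_1 lc_d_rc_19_4 lc_d_rc_20_2 lc_d_rc_21_2 lc_d_rc_9_1 lc_d_rc_21_2 lc_d_rc_18_0 lc_d_rc_20_2 lc_d_rc_3_3 lc_d_rc_19_4 lc_d_rc_3_3) (@D3.rec (fun _ => (Cert rels S Gen.d)) lc_d_rc_21_2 lc_d_rc_21_2 lc_d_rc_9_1 lc_d_rc_3_1 lc_d_rc_18_0 lc_d_rc_21_2 lc_d_rc_21_2 lc_d_rc_21_2 lc_d_rc_9_1 lc_d_rc_20_2 lc_d_rc_9_1 lc_d_rc_21_2 lc_d_rc_21_2 lc_d_Cert_tree lc_d_rc_20_2 lc_d_rc_19_4 lc_d_rc_21_2 lc_d_rc_20_2 lc_d_rc_3_1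 lc_d_Cert_tree lc_d_rc_21_2 lc_d_rc_19_4 lc_d_rc_3_1 lc_d_rc_19_4 lc_d_rc_19_4 lc_d_rc_9_1 lc_d_rc_9_1 lc_d_rc_9_1 lc_d_rc_9_1 lc_d_Cert_tree lc_d_Cert_tree lc_d_rc_9_1 lc_d_rc_3_1 lc_d_rc_28_7 lc_d_rc_9_1 lc_d_rc_3_1 lc_d_rc_28_7 lc_d_rc_3_1 lc_d_rc_3_1 lc_d_rc_3_1) (@D3.rec (fun _ => (Cert rels S Gen.d)) lc_d_rc_9_1 lc_d_rc_9_3 lc_d_rc_3_1 lc_d_rc_18_0 lc_d_rc_14_1 lc_d_rc_21_2 lc_d_rc_3_1 lc_d_rc_3_1 lc_d_rc_21_2 lc_d_rc_9_1 lc_d_rc_20_2 lc_d_rc_3_1 lc_d_rc_18_0 lc_d_rc_14_1 lc_d_rc_3_1 lc_d_rc_3_3 lc_d_rc_20_2 lc_d_rc_32_38 lc_d_rc_3_3 lc_d_rc_21_2 lc_d_rc_20_2 lc_d_rc_28_7 lc_d_rc_18_0 lc_d_rc_28_5 lc_d_rc_28_5 lc_d_rc_9_1 lc_d_rc_9_1 lc_d_rc_9_1 lc_d_rc_9_1 lc_d_rc_28_1 lc_d_rc_3_1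 lc_d_rc_32_35 lc_d_rc_9_3 lc_d_rc_3_3 lc_d_rc_20_2 lc_d_rc_14_3 lc_d_rc_28_7 lc_d_rc_21_2 lc_d_rc_20_2 lc_d_rc_28_5) (@D3.rec (fun _ => (Cert rels S Gen.d)) lc_d_rc_28_5 lc_d_rc_18_0 lc_d_rc_21_2 lc_d_rc_20_2 lc_d_rc_3_1 lc_d_rc_9_1 lc_d_Cert_tree lc_d_rc_28_7 lc_d_rc_21_2 lc_d_rc_9_1 lc_d_rc_3_1 lc_d_rc_9_3 lc_d_rc_20_2 lc_d_rc_21_0 lc_d_Cert_tree lc_d_rc_18_0 lc_d_rc_20_2 lc_d_rc_21_2 lc_d_Cert_tree lc_d_rc_20_2 lc_d_Cert_tree lc_d_rc_18_0 lc_d_rc_20_2 lc_d_rc_20_2 lc_d_rc_21_2 lc_d_rc_21_2 lc_d_rc_18_0 lc_d_rc_20_2 lc_d_rc_28_3 lc_d_rc_3_1 lc_d_rc_9_1 lc_d_Cert_tree lc_d_rc_28_7 lc_d_rc_3_1 lc_d_rc_9_1 lc_d_rc_3_1 lc_d_rc_19_2 lc_d_rc_21_2 lc_d_rc_20_0 lc_d_Cert_tree) (@D3.rec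 (fun _ => (Cert rels S Gen.d)) lc_d_rc_18_0 lc_d_rc_21_2 lc_d_rc_21_0 lc_d_Cert_tree lc_d_rc_21_2 lc_d_Cert_tree lc_d_rc_18_0 lc_d_rc_21_2 lc_d_rc_21_2 lc_d_rc_3_3 lc_d_rc_20_2 lc_d_rc_21_2 lc_d_Cert_tree lc_d_rc_28_5 lc_d_rc_18_0 lc_d_Cert_tree lc_d_rc_3_1 lc_d_rc_21_2 lc_d_rc_28_5 lc_d_rc_20_2 lc_d_Cert_tree lc_d_rc_28_5 lc_d_rc_18_0 lc_d_Cert_tree lc_d_rc_3_1 lc_d_rc_20_2 lc_d_rc_28_5 lc_d_rc_9_1 lc_d_rc_3_3 lc_d_rc_21_2 lc_d_Cert_tree lc_d_rc_28_3 lc_d_rc_3_1 lc_d_rc_9_1 lc_d_rc_3_1 lc_d_Cert_tree lc_d_rc_20_2 lc_d_rc_3_1 lc_d_rc_18_0 lc_d_rc_20_2) (@D3.rec (fun _ => (Cert rels S Gen.d)) lc_d_rc_18_0 lc_d_rc_21_2 lc_d_rc_9_1 lc_d_rc_28_3 lc_d_rc_3_1 lc_d_rc_9_1 lc_d_rc_3_1 lc_d_Cert_tree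 lc_d_rc_21_2 lc_d_Cert_tree lc_d_rc_21_2 lc_d_Cert_tree lc_d_rc_18_0 lc_d_rc_14_11 lc_d_rc_21_2 lc_d_rc_20_2 lc_d_rc_9_1 lc_d_Cert_tree lc_d_rc_18_0 lc_d_rc_21_2 lc_d_rc_9_3 lc_d_rc_18_0 lc_d_rc_20_2 lc_d_rc_21_2 lc_d_rc_28_7 lc_d_rc_28_7 lc_d_rc_28_3 lc_d_rc_3_1 lc_d_rc_20_2 lc_d_rc_9_1 lc_d_rc_9_1 lc_d_Cert_tree lc_d_rc_21_0 lc_d_rc_20_2 lc_d_rc_21_2 lc_d_rc_9_1 lc_d_Cert_tree lc_d_rc_21_0 lc_d_rc_9_1 lc_d_rc_3_3) (@D3.rec (fun _ => (Cert rels S Gen.d)) lc_d_Cert_tree lc_d_rc_28_3 lc_d_rc_3_1 lc_d_rc_9_1 lc_d_rc_3_1 lc_d_Cert_tree lc_d_rc_21_2 lc_d_rc_18_0 lc_d_rc_21_2 lc_d_rc_18_0 lc_d_rc_20_2 lc_d_rc_9_1 lc_d_rc_28_5 lc_d_rc_21_2 lc_d_rc_9_1 lc_d_rc_9_3 lc_d_Cert_tree lc_d_rc_20_2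 lc_d_Cert_tree lc_d_rc_3_1 lc_d_Cert_tree lc_d_rc_18_0 lc_d_rc_28_5 lc_d_rc_20_2 lc_d_rc_21_2 lc_d_rc_9_1 lc_d_Cert_tree lc_d_rc_18_0 lc_d_rc_20_2 lc_d_rc_21_0 lc_d_rc_18_0 lc_d_rc_20_2 lc_d_rc_21_2 lc_d_rc_3_1 lc_d_rc_28_7 lc_d_rc_28_3 lc_d_rc_3_1 lc_d_rc_21_2 lc_d_rc_9_1 lc_d_rc_9_1) (@D3.rec (fun _ => (Cert rels S Gen.d)) lc_d_Cert_tree lc_d_rc_28_5 lc_d_rc_21_2 lc_d_rc_3_1 lc_d_rc_9_1 lc_d_Cert_tree lc_d_rc_21_2 lc_d_rc_3_1 lc_d_rc_18_0 lc_d_rc_20_2 lc_d_rc_21_2 lc_d_Cert_tree lc_d_rc_9_1 lc_d_rc_20_2 lc_d_rc_21_2 lc_d_rc_20_2 lc_d_rc_3_1 lc_d_rc_28_5 lc_d_rc_20_2 lc_d_rc_21_2 lc_d_rc_3_1 lc_d_rc_18_0 lc_d_rc_19_2 lc_d_rc_21_2 lc_d_Cert_tree lc_d_rc_9_1 lc_d_rc_20_2 lc_d_rc_21_2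 lc_d_rc_3_1 lc_d_rc_3_1 lc_d_rc_28_1 lc_d_rc_20_2 lc_d_rc_21_2 lc_d_rc_3_1 lc_d_rc_20_2 lc_d_rc_21_2 lc_d_rc_18_0 lc_d_rc_20_2 lc_d_Cert_tree lc_d_rc_9_1) (@D3.rec (fun _ => (Cert rels S Gen.d)) lc_d_rc_20_2 lc_d_rc_21_2 lc_d_rc_3_1 lc_d_rc_20_2 lc_d_rc_21_2 lc_d_rc_18_0 lc_d_Cert_tree lc_d_rc_9_1 lc_d_rc_20_2 lc_d_rc_9_1 lc_d_rc_28_5 lc_d_rc_19_2 lc_d_rc_9_1 lc_d_rc_28_5 lc_d_rc_19_2 lc_d_rc_9_1 lc_d_rc_20_2 lc_d_rc_21_2 lc_d_rc_20_2 lc_d_rc_18_0 lc_d_rc_20_2 lc_d_rc_28_3 lc_d_rc_28_1 lc_d_rc_3_1 lc_d_rc_18_0 lc_d_rc_9_1 lc_d_rc_20_2 lc_d_rc_18_0 lc_d_rc_3_1 lc_d_rc_28_3 lc_d_rc_19_2 lc_d_rc_20_2 lc_d_rc_9_1 lc_d_rc_18_0 lc_d_rc_19_4 lc_d_rc_28_5 lc_d_rc_19_2 lc_d_rc_21_2 lc_d_rc_9_1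 lc_d_rc_9_1) (@D3.rec (fun _ => (Cert rels S Gen.d)) lc_d_rc_21_2 lc_d_rc_20_2 lc_d_rc_32_12 lc_d_rc_18_0 lc_d_rc_28_3 lc_d_rc_9_1 lc_d_rc_28_7 lc_d_rc_21_2 lc_d_rc_18_0 lc_d_rc_9_3 lc_d_rc_28_3 lc_d_rc_28_1 lc_d_rc_21_2 lc_d_rc_20_0 lc_d_rc_18_0 lc_d_rc_28_7 lc_d_rc_28_5 lc_d_rc_20_2 lc_d_rc_9_1 lc_d_rc_9_1 lc_d_rc_20_0 lc_d_rc_21_0 lc_d_rc_20_2 lc_d_rc_9_1 lc_d_rc_21_0 lc_d_rc_28_5 lc_d_rc_3_1 lc_d_rc_3_1 lc_d_rc_28_3 lc_d_rc_9_3 lc_d_rc_18_0 lc_d_rc_19_2 lc_d_rc_3_3 lc_d_rc_3_1 lc_d_rc_18_0 lc_d_Cert_tree lc_d_rc_18_0 lc_d_rc_9_1 lc_d_rc_21_2 lc_d_rc_20_0) (@D3.rec (fun _ => (Cert rels S Gen.d)) lc_d_rc_20_2 lc_d_rc_9_1 lc_d_Cert_tree lc_d_rc_3_1 lc_d_rc_14_9 lc_d_rc_9_1 lc_d_rc_3_1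 lc_d_rc_28_3 lc_d_rc_9_3 lc_d_rc_18_0 lc_d_rc_19_2 lc_d_rc_3_3 lc_d_rc_9_3 lc_d_rc_18_0 lc_d_Cert_tree lc_d_rc_18_0 lc_d_rc_20_2 lc_d_rc_21_2 lc_d_rc_19_2 lc_d_rc_21_2 lc_d_rc_9_1 lc_d_Cert_tree lc_d_rc_3_1 lc_d_rc_3_3 lc_d_rc_9_1 lc_d_rc_9_3 lc_d_rc_20_2 lc_d_rc_18_0 lc_d_rc_20_2 lc_d_rc_3_1 lc_d_rc_21_2 lc_d_rc_14_11 lc_d_rc_19_2 lc_d_rc_20_2 lc_d_Cert_tree lc_d_rc_21_2 lc_d_rc_9_1 lc_d_rc_9_1 lc_d_rc_28_3 lc_d_rc_3_1) (@D3.rec (fun _ => (Cert rels S Gen.d)) lc_d_rc_28_7 lc_d_rc_20_2 lc_d_rc_9_1 lc_d_rc_3_1 lc_d_rc_3_1 lc_d_rc_3_3 lc_d_rc_18_0 lc_d_rc_19_2 lc_d_rc_14_9 lc_d_rc_21_2 lc_d_rc_3_1 lc_d_rc_18_0 lc_d_Cert_tree lc_d_rc_3_1 lc_d_rc_3_3 lc_d_rc_3_3 lc_d_rc_18_0 lc_d_rc_9_3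 lc_d_rc_19_2 lc_d_rc_21_2 lc_d_Cert_tree lc_d_rc_18_0 lc_d_rc_21_2 lc_d_rc_9_1 lc_d_rc_19_0 lc_d_rc_19_2 lc_d_rc_21_2 lc_d_rc_9_1 lc_d_rc_9_1 lc_d_Cert_tree lc_d_rc_3_1 lc_d_rc_3_3 lc_d_rc_18_0 lc_d_Cert_tree lc_d_rc_3_3 lc_d_Cert_tree lc_d_rc_18_0 lc_d_rc_21_2 lc_d_rc_9_1 lc_d_rc_32_30) (@D3.rec (fun _ => (Cert rels S Gen.d)) lc_d_rc_19_0 lc_d_rc_3_1 lc_d_rc_3_1 lc_d_rc_21_2 lc_d_rc_18_0 lc_d_rc_21_2 lc_d_rc_3_1 lc_d_rc_20_2 lc_d_rc_28_3 lc_d_rc_19_2 lc_d_rc_21_2 lc_d_Cert_tree lc_d_rc_20_2 lc_d_rc_9_1 lc_d_rc_9_1 lc_d_rc_20_0 lc_d_rc_21_2 lc_d_rc_20_2 lc_d_rc_9_1 lc_d_rc_21_2 lc_d_rc_3_1 lc_d_rc_9_3 lc_d_rc_21_2 lc_d_rc_20_2 lc_d_rc_3_1 lc_d_rc_18_0 lc_d_Cert_tree lc_d_rc_3_1 lc_d_rc_21_2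 lc_d_rc_18_0 lc_d_rc_18_1 lc_d_rc_19_2 lc_d_rc_20_2 lc_d_Cert_tree lc_d_rc_18_0 lc_d_rc_9_1 lc_d_rc_19_0 lc_d_rc_19_0 lc_d_rc_19_2 lc_d_rc_9_1) (@D3.rec (fun _ => (Cert rels S Gen.d)) lc_d_Cert_tree lc_d_rc_3_1 lc_d_rc_3_3 lc_d_rc_18_0 lc_d_Cert_tree lc_d_rc_3_3 lc_d_Cert_tree lc_d_rc_18_0 lc_d_rc_3_3 lc_d_rc_18_1 lc_d_rc_32_30 lc_d_rc_21_2 lc_d_rc_3_1 lc_d_rc_18_0 lc_d_rc_20_2 lc_d_rc_28_1 lc_d_rc_3_1 lc_d_rc_14_3 lc_d_rc_19_2 lc_d_rc_9_3 lc_d_rc_20_2 lc_d_rc_19_2 lc_d_rc_9_3 lc_d_rc_20_2 lc_d_rc_9_3 lc_d_rc_28_1 lc_d_rc_9_1 lc_d_rc_3_1 lc_d_rc_3_1 lc_d_rc_3_1 lc_d_rc_20_2 lc_d_rc_21_2 lc_d_rc_21_2 lc_d_rc_28_5 lc_d_rc_19_2 lc_d_rc_18_0 lc_d_rc_21_2 lc_d_rc_9_1 lc_d_rc_20_0 lc_d_rc_9_3)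 (@D3.rec (fun _ => (Cert rels S Gen.d)) lc_d_rc_9_1 lc_d_rc_18_0 lc_d_rc_21_2 lc_d_rc_21_2 lc_d_rc_28_3 lc_d_rc_19_2 lc_d_rc_20_2 lc_d_rc_18_0 lc_d_rc_20_2 lc_d_rc_21_2 lc_d_rc_3_3 lc_d_rc_21_2 lc_d_rc_21_2 lc_d_rc_9_1 lc_d_rc_28_5 lc_d_rc_21_0 lc_d_rc_18_0 lc_d_rc_20_2 lc_d_rc_3_1 lc_d_rc_9_1 lc_d_rc_3_3 lc_d_rc_9_1 lc_d_rc_18_0 lc_d_rc_20_2 lc_d_rc_20_2 lc_d_rc_28_3 lc_d_rc_3_1 lc_d_rc_21_2 lc_d_rc_18_0 lc_d_rc_20_0 lc_d_rc_3_1 lc_d_rc_20_2 lc_d_rc_19_2 lc_d_rc_20_2 lc_d_rc_9_1 lc_d_rc_18_0 lc_d_rc_21_2 lc_d_rc_18_0 lc_d_rc_20_2 lc_d_rc_18_0) (@D3.rec (fun _ => (Cert rels S Gen.d)) lc_d_rc_21_2 lc_d_rc_21_2 lc_d_Cert_tree lc_d_rc_18_0 lc_d_rc_20_2 lc_d_rc_20_2 lc_d_Cert_tree lc_d_rc_18_0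 lc_d_rc_18_0 lc_d_Cert_tree lc_d_rc_9_1 lc_d_Cert_tree lc_d_rc_9_1 lc_d_Cert_tree lc_d_rc_21_2 lc_d_rc_18_0 lc_d_rc_21_2 lc_d_Cert_tree lc_d_rc_3_1 lc_d_rc_18_0 lc_d_rc_20_2 lc_d_rc_18_0 lc_d_rc_21_2 lc_d_rc_19_2 lc_d_rc_21_2 lc_d_rc_9_1 lc_d_rc_3_3 lc_d_rc_18_0 lc_d_rc_20_2 lc_d_rc_19_2 lc_d_rc_20_2 lc_d_rc_9_1 lc_d_rc_21_2 lc_d_Cert_tree lc_d_rc_18_0 lc_d_Cert_tree lc_d_rc_18_0 lc_d_rc_9_1 lc_d_rc_9_1 lc_d_Cert_tree) (@D3.rec (fun _ => (Cert rels S Gen.d)) lc_d_rc_18_0 lc_d_rc_20_2 lc_d_rc_9_1 lc_d_Cert_tree lc_d_rc_18_0 lc_d_rc_18_0 lc_d_rc_20_2 lc_d_rc_21_2 lc_d_rc_21_2 lc_d_rc_3_1 lc_d_rc_28_5 lc_d_rc_28_5 lc_d_rc_9_1 lc_d_Cert_tree lc_d_rc_18_0 lc_d_rc_20_2 lc_d_Cert_tree lc_d_Cert_tree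 lc_d_rc_18_0 lc_d_rc_20_2 lc_d_rc_28_5 lc_d_rc_19_2 lc_d_rc_20_2 lc_d_rc_9_1 lc_d_rc_21_2 lc_d_rc_18_0 lc_d_rc_20_2 lc_d_rc_21_2 lc_d_rc_21_2 lc_d_rc_28_7 lc_d_rc_14_3 lc_d_rc_28_5 lc_d_rc_9_1 lc_d_Cert_tree lc_d_rc_18_0 lc_d_rc_21_2 lc_d_Cert_tree lc_d_Cert_tree lc_d_rc_18_0 lc_d_rc_21_2) (@D3.rec (fun _ => (Cert rels S Gen.d)) lc_d_rc_28_5 lc_d_rc_19_2 lc_d_rc_21_2 lc_d_rc_9_1 lc_d_rc_3_3 lc_d_rc_18_0 lc_d_rc_18_0 lc_d_rc_21_2 lc_d_Cert_tree lc_d_rc_19_2 lc_d_rc_20_2 lc_d_rc_21_2 lc_d_rc_21_2 lc_d_rc_9_1 lc_d_rc_3_3 lc_d_rc_18_0 lc_d_rc_21_2 lc_d_rc_19_2 lc_d_rc_9_1 lc_d_rc_20_2 lc_d_rc_21_2 lc_d_rc_21_2 lc_d_rc_9_1 lc_d_rc_19_4 lc_d_rc_21_0 lc_d_rc_18_0 lc_d_rc_19_4 lc_d_rc_21_2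 lc_d_rc_21_2 lc_d_rc_18_0 lc_d_rc_21_2 lc_d_rc_9_1 lc_d_rc_9_1 lc_d_rc_3_1 lc_d_rc_18_1 lc_d_rc_20_2 lc_d_rc_9_1 lc_d_rc_20_2 lc_d_rc_3_1 lc_d_rc_28_7) (@D3.rec (fun _ => (Cert rels S Gen.d)) lc_d_rc_21_2 lc_d_Cert_tree lc_d_rc_3_1 lc_d_rc_18_0 lc_d_Cert_tree lc_d_rc_20_2 lc_d_rc_9_1 lc_d_Cert_tree lc_d_rc_18_0 lc_d_rc_20_0 lc_d_rc_14_15 lc_d_rc_19_2 lc_d_rc_28_3 lc_d_rc_20_2 lc_d_rc_9_1 lc_d_rc_18_0 lc_d_rc_20_2 lc_d_rc_20_2 lc_d_rc_21_2 lc_d_rc_9_1 lc_d_rc_18_0 lc_d_rc_18_0 lc_d_rc_20_2 lc_d_Cert_tree lc_d_rc_19_2 lc_d_rc_20_2 lc_d_rc_21_2 lc_d_rc_9_1 lc_d_rc_21_2 lc_d_rc_3_3 lc_d_rc_18_0 lc_d_rc_20_2 lc_d_rc_9_3 lc_d_rc_9_1 lc_d_rc_20_2 lc_d_rc_21_2 lc_d_rc_20_2 lc_d_rc_20_0 lc_d_rc_19_4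 lc_d_rc_3_3) (@D3.rec (fun _ => (Cert rels S Gen.d)) lc_d_rc_18_0 lc_d_rc_19_4 lc_d_rc_20_2 lc_d_rc_20_2 lc_d_rc_18_0 lc_d_rc_20_2 lc_d_rc_9_1 lc_d_rc_9_1 lc_d_rc_3_1 lc_d_rc_20_2 lc_d_rc_21_2 lc_d_rc_9_1 lc_d_rc_9_3 lc_d_rc_3_1 lc_d_rc_3_1 lc_d_rc_20_2 lc_d_Cert_tree lc_d_rc_19_2 lc_d_rc_18_0 lc_d_Cert_tree lc_d_rc_21_2 lc_d_rc_9_1 lc_d_rc_9_3 lc_d_rc_18_0 lc_d_rc_19_2 lc_d_rc_19_2 lc_d_rc_3_3 lc_d_rc_28_3 lc_d_rc_21_2 lc_d_rc_3_1 lc_d_rc_18_0 lc_d_rc_21_2 lc_d_rc_21_2 lc_d_rc_3_1 lc_d_rc_9_1 lc_d_rc_28_3 lc_d_rc_28_7 lc_d_Cert_tree lc_d_rc_20_2 lc_d_rc_18_0) (@D3.rec (fun _ => (Cert rels S Gen.d)) lc_d_rc_14_3 lc_d_rc_3_1 lc_d_Cert_tree lc_d_rc_20_2 lc_d_rc_21_2 lc_d_rc_18_0 lc_d_rc_21_2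 lc_d_rc_9_1 lc_d_rc_9_1 lc_d_Cert_tree lc_d_rc_20_2 lc_d_rc_9_1 lc_d_rc_20_2 lc_d_rc_3_1 lc_d_rc_9_1 lc_d_rc_20_0 lc_d_rc_3_1 lc_d_rc_21_2 lc_d_rc_9_3 lc_d_Cert_tree lc_d_rc_28_3 lc_d_rc_18_0 lc_d_rc_3_3 lc_d_rc_3_1 lc_d_Cert_tree lc_d_rc_20_2 lc_d_rc_21_2 lc_d_rc_18_0 lc_d_rc_20_2 lc_d_rc_9_1 lc_d_rc_9_1 lc_d_Cert_tree lc_d_rc_21_2 lc_d_rc_9_1 lc_d_rc_21_2 lc_d_rc_3_1 lc_d_rc_9_1 lc_d_rc_21_0 lc_d_rc_21_2 lc_d_rc_9_1) (@D3.rec (fun _ => (Cert rels S Gen.d)) lc_d_rc_20_2 lc_d_rc_3_1 lc_d_Cert_tree lc_d_rc_20_2 lc_d_rc_21_2 lc_d_rc_18_0 lc_d_rc_21_2 lc_d_rc_9_1 lc_d_rc_9_1 lc_d_rc_3_1 lc_d_rc_18_1 lc_d_rc_20_2 lc_d_rc_9_1 lc_d_rc_21_2 lc_d_Cert_tree lc_d_rc_18_0 lc_d_rc_21_2 lc_d_rc_9_1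 lc_d_rc_9_1 lc_d_rc_21_2 lc_d_rc_9_1 lc_d_rc_20_2 lc_d_rc_3_1 lc_d_Cert_tree lc_d_rc_18_1 lc_d_rc_3_1 lc_d_Cert_tree lc_d_rc_9_1 lc_d_rc_9_1 lc_d_Cert_tree lc_d_rc_18_0 lc_d_rc_20_2 lc_d_rc_20_2 lc_d_rc_3_1 lc_d_rc_14_13 lc_d_rc_21_2 lc_d_rc_3_1 lc_d_rc_20_2 lc_d_rc_3_1 lc_d_rc_32_50) (@D3.rec (fun _ => (Cert rels S Gen.d)) lc_d_rc_21_2 lc_d_rc_9_1 lc_d_rc_9_3 lc_d_rc_3_1 lc_d_rc_19_4 lc_d_rc_3_3 lc_d_rc_3_3 lc_d_rc_9_1 lc_d_rc_9_1 lc_d_rc_21_2 lc_d_rc_3_1 lc_d_Cert_tree lc_d_rc_20_2 lc_d_rc_21_2 lc_d_rc_18_0 lc_d_rc_20_2 lc_d_rc_9_1 lc_d_rc_9_1 lc_d_rc_3_1 lc_d_rc_9_3 lc_d_rc_21_2 lc_d_rc_9_1 lc_d_rc_3_1 lc_d_Cert_tree lc_d_rc_18_0 lc_d_rc_20_2 lc_d_rc_9_1 lc_d_rc_3_1 lc_d_rc_20_2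 lc_d_rc_9_1 lc_d_rc_21_2 lc_d_rc_3_1 lc_d_Cert_tree lc_d_rc_21_2 lc_d_rc_3_1 lc_d_Cert_tree lc_d_rc_9_1 lc_d_rc_9_1 lc_d_Cert_tree lc_d_rc_18_0) (@D3.rec (fun _ => (Cert rels S Gen.d)) lc_d_rc_21_2 lc_d_rc_21_2 lc_d_rc_3_1 lc_d_rc_28_3 lc_d_rc_20_2 lc_d_rc_3_1 lc_d_rc_21_2 lc_d_rc_3_1 lc_d_rc_19_4 lc_d_rc_3_3 lc_d_rc_9_1 lc_d_rc_19_4 lc_d_rc_3_1 lc_d_rc_19_4 lc_d_rc_21_2 lc_d_rc_3_3 lc_d_rc_9_1 lc_d_rc_21_2 lc_d_rc_9_1 lc_d_rc_9_3 lc_d_rc_18_0 lc_d_Cert_tree lc_d_rc_20_2 lc_d_rc_21_2 lc_d_rc_3_1 lc_d_rc_3_1 lc_d_rc_9_1 lc_d_rc_19_4 lc_d_rc_3_1 lc_d_rc_9_1 lc_d_rc_21_2 lc_d_rc_18_0 lc_d_rc_21_2 lc_d_rc_21_2 lc_d_rc_9_1 lc_d_rc_20_2 lc_d_rc_21_2 lc_d_rc_3_1 lc_d_rc_9_1 lc_d_rc_9_1)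
def ce_d_14 : D2 → D3 → (Cert rels S Gen.d) := @D2.rec (fun _ => D3 → (Cert rels S Gen.d)) (@D3.rec (fun _ => (Cert rels S Gen.d)) lc_d_rc_3_1 lc_d_rc_9_1 lc_d_rc_3_1 lc_d_rc_21_2 lc_d_rc_20_2 lc_d_rc_21_2 lc_d_rc_21_2 lc_d_rc_9_1 lc_d_Cert_tree lc_d_rc_18_0 lc_d_rc_20_2 lc_d_rc_21_2 lc_d_rc_28_5 lc_d_rc_20_2 lc_d_rc_21_2 lc_d_Cert_tree lc_d_rc_18_0 lc_d_rc_28_3 lc_d_rc_28_7 lc_d_rc_19_2 lc_d_rc_20_2 lc_d_rc_28_7 lc_d_rc_21_2 lc_d_rc_9_1 lc_d_rc_21_2 lc_d_rc_3_1 lc_d_rc_9_1 lc_d_rc_20_2 lc_d_rc_20_2 lc_d_rc_9_1 lc_d_rc_9_3 lc_d_rc_18_0 lc_d_Cert_tree lc_d_rc_20_2 lc_d_rc_9_3 lc_d_rc_3_1 lc_d_rc_3_1 lc_d_rc_9_1 lc_d_rc_3_1 lc_d_rc_9_3) (@D3.rec (fun _ => (Cert rels S Gen.d)) lc_d_rc_19_4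 lc_d_rc_20_2 lc_d_rc_18_0 lc_d_rc_20_2 lc_d_rc_9_1 lc_d_rc_21_2 lc_d_rc_20_2 lc_d_rc_21_2 lc_d_rc_3_1 lc_d_rc_9_1 lc_d_rc_9_1 lc_d_rc_9_1 lc_d_rc_3_1 lc_d_rc_20_2 lc_d_rc_3_1 lc_d_rc_20_2 lc_d_rc_21_2 lc_d_rc_9_1 lc_d_rc_9_1 lc_d_Cert_tree lc_d_rc_18_0 lc_d_rc_21_2 lc_d_rc_3_1 lc_d_rc_28_5 lc_d_rc_20_2 lc_d_rc_21_2 lc_d_rc_9_1 lc_d_rc_28_3 lc_d_rc_19_2 lc_d_rc_21_2 lc_d_rc_9_1 lc_d_rc_20_2 lc_d_rc_9_1 lc_d_rc_20_2 lc_d_rc_3_1 lc_d_rc_9_1 lc_d_rc_21_2 lc_d_rc_21_2 lc_d_rc_9_1 lc_d_rc_19_4) (@D3.rec (fun _ => (Cert rels S Gen.d)) lc_d_rc_28_3 lc_d_rc_3_3 lc_d_rc_21_2 lc_d_rc_9_1 lc_d_rc_9_1 lc_d_rc_3_1 lc_d_rc_20_2 lc_d_rc_21_0 lc_d_rc_20_2 lc_d_rc_21_2 lc_d_rc_18_0 lc_d_rc_3_3 lc_d_rc_21_2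 lc_d_rc_3_1 lc_d_rc_21_2 lc_d_rc_9_1 lc_d_rc_3_3 lc_d_rc_21_2 lc_d_rc_28_7 lc_d_rc_9_1 lc_d_rc_9_1 lc_d_rc_3_1 lc_d_rc_20_2 lc_d_rc_3_1 lc_d_Cert_tree lc_d_rc_21_2 lc_d_rc_20_2 lc_d_rc_9_1 lc_d_rc_19_4 lc_d_rc_20_2 lc_d_rc_28_3 lc_d_rc_3_1 lc_d_rc_9_1 lc_d_rc_9_1 lc_d_rc_3_1 lc_d_rc_21_2 lc_d_rc_3_1 lc_d_rc_20_2 lc_d_rc_21_2 lc_d_rc_18_0) (@D3.rec (fun _ => (Cert rels S Gen.d)) lc_d_rc_20_2 lc_d_rc_18_1 lc_d_rc_9_1 lc_d_rc_21_2 lc_d_rc_9_1 lc_d_rc_3_3 lc_d_rc_21_2 lc_d_rc_19_2 lc_d_rc_9_1 lc_d_rc_9_1 lc_d_rc_3_1 lc_d_Cert_tree lc_d_rc_20_2 lc_d_rc_3_1 lc_d_rc_21_2 lc_d_rc_19_2 lc_d_rc_21_2 lc_d_rc_19_2 lc_d_rc_20_2 lc_d_rc_20_2 lc_d_rc_21_2 lc_d_rc_21_2 lc_d_rc_3_1 lc_d_rc_21_2 lc_d_rc_9_1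 lc_d_rc_9_3 lc_d_rc_21_2 lc_d_rc_21_2 lc_d_rc_21_2 lc_d_rc_3_1 lc_d_rc_9_1 lc_d_rc_3_1 lc_d_rc_20_2 lc_d_rc_9_1 lc_d_rc_20_2 lc_d_rc_9_3 lc_d_rc_20_2 lc_d_rc_20_2 lc_d_rc_9_1 lc_d_rc_9_1) (@D3.rec (fun _ => (Cert rels S Gen.d)) lc_d_rc_20_2 lc_d_rc_3_1 lc_d_rc_20_2 lc_d_rc_9_1 lc_d_rc_32_35 lc_d_rc_20_2 lc_d_rc_21_0 lc_d_rc_20_2 lc_d_rc_3_1 lc_d_rc_9_1 lc_d_rc_3_1 lc_d_rc_21_2 lc_d_rc_9_1 lc_d_rc_21_2 lc_d_rc_9_3 lc_d_rc_3_1 lc_d_rc_3_1 lc_d_rc_9_1 lc_d_rc_9_1 lc_d_rc_28_5 lc_d_rc_3_1 lc_d_rc_19_4 lc_d_rc_20_2 lc_d_rc_3_1 lc_d_rc_3_1 lc_d_rc_19_2 lc_d_rc_18_0 lc_d_rc_21_2 lc_d_rc_9_1 lc_d_rc_28_3 lc_d_rc_21_2 lc_d_rc_9_1 lc_d_rc_18_0 lc_d_rc_21_2 lc_d_rc_18_0 lc_d_rc_21_2 lc_d_rc_21_2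 lc_d_rc_21_2 lc_d_rc_20_2 lc_d_rc_20_2) (@D3.rec (fun _ => (Cert rels S Gen.d)) lc_d_rc_28_5 lc_d_rc_3_1 lc_d_rc_9_3 lc_d_rc_20_2 lc_d_rc_28_3 lc_d_rc_3_1 lc_d_rc_19_2 lc_d_rc_18_0 lc_d_rc_20_2 lc_d_rc_9_1 lc_d_rc_3_1 lc_d_rc_20_2 lc_d_rc_9_1 lc_d_rc_18_0 lc_d_rc_14_11 lc_d_rc_18_0 lc_d_rc_28_1 lc_d_rc_20_2 lc_d_rc_9_1 lc_d_rc_20_2 lc_d_rc_20_2 lc_d_rc_21_2 lc_d_rc_9_1 lc_d_rc_3_1 lc_d_rc_21_2 lc_d_rc_9_1 lc_d_rc_3_1 lc_d_rc_19_2 lc_d_rc_9_1 lc_d_rc_9_1 lc_d_rc_3_1 lc_d_rc_9_1 lc_d_rc_9_1 lc_d_rc_9_1 lc_d_rc_9_1 lc_d_rc_21_2 lc_d_rc_9_3 lc_d_rc_9_1 lc_d_rc_21_2 lc_d_rc_9_1) (@D3.rec (fun _ => (Cert rels S Gen.d)) lc_d_rc_21_2 lc_d_rc_19_4 lc_d_rc_20_2 lc_d_rc_18_0 lc_d_rc_3_1 lc_d_Cert_tree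 lc_d_rc_21_2 lc_d_rc_9_1 lc_d_Cert_tree lc_d_rc_9_1 lc_d_rc_18_0 lc_d_rc_20_2 lc_d_Cert_tree lc_d_rc_18_0 lc_d_rc_14_3 lc_d_rc_20_2 lc_d_rc_9_1 lc_d_rc_3_1 lc_d_rc_20_2 lc_d_rc_3_1 lc_d_rc_21_2 lc_d_rc_9_1 lc_d_rc_9_1 lc_d_rc_3_1 lc_d_rc_3_1 lc_d_rc_9_1 lc_d_rc_9_1 lc_d_rc_20_2 lc_d_rc_9_1 lc_d_rc_9_3 lc_d_rc_21_2 lc_d_rc_9_1 lc_d_rc_20_2 lc_d_rc_28_3 lc_d_rc_3_1 lc_d_rc_18_0 lc_d_rc_3_1 lc_d_Cert_tree lc_d_rc_20_2 lc_d_Cert_tree) (@D3.rec (fun _ => (Cert rels S Gen.d)) lc_d_Cert_tree lc_d_rc_18_0 lc_d_rc_14_3 lc_d_rc_21_2 lc_d_rc_18_0 lc_d_rc_3_3 lc_d_rc_21_2 lc_d_rc_9_1 lc_d_rc_20_2 lc_d_rc_28_1 lc_d_rc_28_7 lc_d_rc_28_3 lc_d_Cert_tree lc_d_rc_18_0 lc_d_rc_18_0 lc_d_rc_19_2 lc_d_rc_20_2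 lc_d_rc_9_1 lc_d_rc_18_0 lc_d_Cert_tree lc_d_rc_18_0 lc_d_rc_21_2 lc_d_rc_19_2 lc_d_rc_20_2 lc_d_rc_19_2 lc_d_rc_20_2 lc_d_rc_9_3 lc_d_rc_18_0 lc_d_Cert_tree lc_d_rc_28_7 lc_d_rc_19_2 lc_d_rc_21_2 lc_d_rc_9_3 lc_d_rc_21_2 lc_d_rc_21_2 lc_d_rc_19_2 lc_d_rc_20_2 lc_d_rc_20_2 lc_d_rc_18_0 lc_d_rc_20_2) (@D3.rec (fun _ => (Cert rels S Gen.d)) lc_d_rc_9_1 lc_d_rc_28_7 lc_d_rc_28_7 lc_d_rc_28_3 lc_d_Cert_tree lc_d_rc_18_0 lc_d_rc_28_5 lc_d_rc_19_2 lc_d_rc_21_2 lc_d_rc_9_1 lc_d_Cert_tree lc_d_rc_18_0 lc_d_rc_20_2 lc_d_rc_19_2 lc_d_rc_28_5 lc_d_rc_19_2 lc_d_rc_18_0 lc_d_Cert_tree lc_d_rc_28_5 lc_d_rc_19_2 lc_d_rc_3_1 lc_d_rc_21_2 lc_d_rc_9_1 lc_d_rc_9_1 lc_d_rc_9_1 lc_d_rc_21_2 lc_d_rc_32_12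 lc_d_rc_9_1 lc_d_rc_9_3 lc_d_rc_20_2 lc_d_rc_9_3 lc_d_rc_18_0 lc_d_rc_9_3 lc_d_rc_20_2 lc_d_rc_21_0 lc_d_rc_20_0 lc_d_rc_20_2 lc_d_rc_20_2 lc_d_rc_9_1 lc_d_rc_9_1) (@D3.rec (fun _ => (Cert rels S Gen.d)) lc_d_rc_9_1 lc_d_rc_9_1 lc_d_rc_19_4 lc_d_rc_21_2 lc_d_rc_9_1 lc_d_rc_3_1 lc_d_rc_3_1 lc_d_rc_28_1 lc_d_rc_9_1 lc_d_rc_9_1 lc_d_rc_3_1 lc_d_rc_18_0 lc_d_rc_32_14 lc_d_rc_21_2 lc_d_rc_3_1 lc_d_rc_21_2 lc_d_rc_9_1 lc_d_rc_9_1 lc_d_rc_9_1 lc_d_rc_9_1 lc_d_rc_3_3 lc_d_rc_18_0 lc_d_rc_9_3 lc_d_rc_19_2 lc_d_rc_19_2 lc_d_rc_21_2 lc_d_rc_3_1 lc_d_rc_9_1 lc_d_rc_9_1 lc_d_rc_20_2 lc_d_rc_9_1 lc_d_rc_9_1 lc_d_rc_9_1 lc_d_rc_20_2 lc_d_rc_3_1 lc_d_rc_9_1 lc_d_rc_9_3 lc_d_rc_21_2 lc_d_rc_18_0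 lc_d_rc_28_7) (@D3.rec (fun _ => (Cert rels S Gen.d)) lc_d_rc_21_2 lc_d_rc_3_1 lc_d_rc_9_1 lc_d_rc_3_1 lc_d_rc_3_1 lc_d_rc_21_2 lc_d_rc_9_1 lc_d_rc_9_1 lc_d_rc_9_1 lc_d_rc_9_1 lc_d_rc_32_64 lc_d_rc_3_1 lc_d_rc_9_1 lc_d_rc_9_1 lc_d_rc_3_1 lc_d_rc_28_1 lc_d_rc_9_1 lc_d_rc_20_2 lc_d_rc_3_1 lc_d_rc_18_0 lc_d_rc_20_2 lc_d_rc_21_2 lc_d_rc_3_1 lc_d_rc_20_2 lc_d_rc_28_5 lc_d_rc_9_1 lc_d_rc_20_2 lc_d_rc_9_1 lc_d_rc_3_3 lc_d_rc_18_0 lc_d_rc_9_3 lc_d_rc_3_1 lc_d_rc_19_2 lc_d_rc_20_2 lc_d_rc_3_1 lc_d_rc_9_1 lc_d_rc_9_1 lc_d_rc_21_2 lc_d_rc_20_2 lc_d_rc_9_1) (@D3.rec (fun _ => (Cert rels S Gen.d)) lc_d_rc_20_2 lc_d_Cert_tree lc_d_rc_20_2 lc_d_rc_9_1 lc_d_rc_9_1 lc_d_rc_20_2 lc_d_Cert_tree lc_d_rc_28_5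 lc_d_rc_9_1 lc_d_rc_18_0 lc_d_rc_21_2 lc_d_rc_20_2 lc_d_rc_21_2 lc_d_rc_9_1 lc_d_Cert_tree lc_d_rc_21_2 lc_d_rc_9_1 lc_d_rc_9_1 lc_d_Cert_tree lc_d_rc_3_3 lc_d_rc_9_1 lc_d_rc_18_0 lc_d_rc_9_1 lc_d_rc_18_0 lc_d_rc_19_2 lc_d_rc_21_2 lc_d_rc_9_1 lc_d_rc_18_0 lc_d_rc_19_2 lc_d_rc_20_2 lc_d_rc_9_1 lc_d_rc_18_0 lc_d_rc_18_0 lc_d_Cert_tree lc_d_Cert_tree lc_d_rc_18_0 lc_d_rc_18_0 lc_d_rc_20_2 lc_d_rc_21_2 lc_d_rc_9_1) (@D3.rec (fun _ => (Cert rels S Gen.d)) lc_d_Cert_tree lc_d_Cert_tree lc_d_rc_18_0 lc_d_rc_20_2 lc_d_rc_21_2 lc_d_Cert_tree lc_d_Cert_tree lc_d_rc_18_0 lc_d_rc_3_1 lc_d_rc_21_2 lc_d_rc_20_2 lc_d_rc_9_1 lc_d_Cert_tree lc_d_Cert_tree lc_d_rc_18_0 lc_d_rc_21_2 lc_d_rc_20_2 lc_d_rc_18_0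 lc_d_rc_18_0 lc_d_rc_20_0 lc_d_rc_3_3 lc_d_rc_20_2 lc_d_rc_18_0 lc_d_rc_18_0 lc_d_rc_14_11 lc_d_rc_3_3 lc_d_rc_21_2 lc_d_rc_32_45 lc_d_rc_9_1 lc_d_rc_9_1 lc_d_rc_18_0 lc_d_rc_3_1 lc_d_Cert_tree lc_d_rc_18_0 lc_d_rc_3_1 lc_d_Cert_tree lc_d_rc_3_1 lc_d_rc_3_1 lc_d_rc_18_0 lc_d_rc_21_2) (@D3.rec (fun _ => (Cert rels S Gen.d)) lc_d_rc_9_1 lc_d_rc_21_2 lc_d_rc_9_1 lc_d_rc_18_0 lc_d_rc_20_2 lc_d_rc_9_1 lc_d_rc_20_2 lc_d_rc_9_1 lc_d_rc_3_1 lc_d_rc_21_2 lc_d_rc_9_1 lc_d_rc_28_5 lc_d_rc_21_2 lc_d_rc_9_1 lc_d_rc_3_1 lc_d_rc_3_1 lc_d_rc_20_2 lc_d_rc_9_1 lc_d_rc_3_1 lc_d_rc_20_2 lc_d_rc_9_1 lc_d_rc_28_5 lc_d_rc_20_2 lc_d_rc_9_1 lc_d_rc_21_2 lc_d_rc_3_1 lc_d_rc_21_2 lc_d_rc_28_5 lc_d_rc_28_3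 lc_d_rc_9_1 lc_d_Cert_tree lc_d_rc_18_0 lc_d_rc_21_2 lc_d_rc_9_1 lc_d_rc_28_3 lc_d_rc_9_1 lc_d_rc_19_2 lc_d_Cert_tree lc_d_rc_20_2 lc_d_rc_9_1) (@D3.rec (fun _ => (Cert rels S Gen.d)) lc_d_rc_28_5 lc_d_rc_9_1 lc_d_Cert_tree lc_d_rc_18_0 lc_d_rc_20_2 lc_d_rc_9_1 lc_d_rc_28_5 lc_d_rc_9_1 lc_d_rc_21_2 lc_d_Cert_tree lc_d_rc_21_2 lc_d_rc_9_1 lc_d_rc_9_1 lc_d_rc_9_1 lc_d_rc_18_0 lc_d_rc_3_1 lc_d_Cert_tree lc_d_Cert_tree lc_d_rc_18_0 lc_d_rc_21_2 lc_d_rc_9_1 lc_d_rc_18_0 lc_d_rc_3_1 lc_d_Cert_tree lc_d_Cert_tree lc_d_rc_18_0 lc_d_rc_20_2 lc_d_rc_9_1 lc_d_rc_28_3 lc_d_rc_9_1 lc_d_rc_21_2 lc_d_rc_9_1 lc_d_rc_19_2 lc_d_rc_21_2 lc_d_rc_18_0 lc_d_rc_28_1 lc_d_rc_21_2 lc_d_Cert_tree lc_d_rc_18_0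 lc_d_rc_28_5) (@D3.rec (fun _ => (Cert rels S Gen.d)) lc_d_rc_19_2 lc_d_rc_20_2 lc_d_rc_9_1 lc_d_rc_9_1 lc_d_rc_28_5 lc_d_rc_28_1 lc_d_rc_18_0 lc_d_rc_20_2 lc_d_rc_21_2 lc_d_rc_3_1 lc_d_rc_20_2 lc_d_rc_9_1 lc_d_rc_9_1 lc_d_rc_18_1 lc_d_rc_28_5 lc_d_rc_20_2 lc_d_rc_9_1 lc_d_rc_21_2 lc_d_rc_3_1 lc_d_rc_21_2 lc_d_rc_9_1 lc_d_rc_19_0 lc_d_rc_9_1 lc_d_rc_28_5 lc_d_rc_28_3 lc_d_rc_9_1 lc_d_rc_3_1 lc_d_rc_21_2 lc_d_rc_18_0 lc_d_rc_21_2 lc_d_rc_20_2 lc_d_Cert_tree lc_d_rc_18_0 lc_d_rc_28_5 lc_d_rc_19_2 lc_d_rc_21_2 lc_d_rc_9_1 lc_d_rc_9_1 lc_d_rc_21_0 lc_d_rc_28_1) (@D3.rec (fun _ => (Cert rels S Gen.d)) lc_d_rc_18_0 lc_d_rc_20_2 lc_d_rc_21_2 lc_d_rc_3_1 lc_d_rc_21_2 lc_d_rc_9_1 lc_d_rc_9_1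 lc_d_rc_19_4 lc_d_rc_28_5 lc_d_rc_21_2 lc_d_rc_9_1 lc_d_rc_3_1 lc_d_rc_3_1 lc_d_rc_20_2 lc_d_rc_9_1 lc_d_rc_28_7 lc_d_rc_21_2 lc_d_rc_9_1 lc_d_Cert_tree lc_d_rc_9_1 lc_d_rc_20_2 lc_d_rc_18_0 lc_d_rc_20_2 lc_d_Cert_tree lc_d_rc_19_2 lc_d_rc_20_2 lc_d_rc_9_1 lc_d_rc_18_0 lc_d_rc_18_0 lc_d_rc_20_2 lc_d_rc_21_2 lc_d_rc_28_3 lc_d_rc_3_1 lc_d_Cert_tree lc_d_rc_18_0 lc_d_Cert_tree lc_d_rc_28_3 lc_d_rc_20_2 lc_d_rc_9_1 lc_d_rc_3_1) (@D3.rec (fun _ => (Cert rels S Gen.d)) lc_d_rc_20_0 lc_d_rc_18_0 lc_d_rc_21_2 lc_d_rc_28_5 lc_d_rc_9_1 lc_d_rc_20_2 lc_d_rc_21_2 lc_d_rc_9_1 lc_d_rc_9_1 lc_d_rc_28_3 lc_d_rc_28_3 lc_d_rc_21_0 lc_d_rc_9_1 lc_d_rc_3_1 lc_d_rc_21_2 lc_d_rc_19_4 lc_d_rc_20_2 lc_d_rc_18_0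 lc_d_rc_20_2 lc_d_rc_9_1 lc_d_rc_28_5 lc_d_rc_9_1 lc_d_rc_21_2 lc_d_Cert_tree lc_d_rc_21_2 lc_d_rc_9_1 lc_d_rc_9_1 lc_d_rc_3_1 lc_d_rc_9_1 lc_d_rc_3_3 lc_d_rc_9_1 lc_d_Cert_tree lc_d_rc_9_1 lc_d_rc_21_2 lc_d_rc_18_0 lc_d_rc_21_2 lc_d_Cert_tree lc_d_rc_19_2 lc_d_rc_21_2 lc_d_rc_9_1) (@D3.rec (fun _ => (Cert rels S Gen.d)) lc_d_rc_18_0 lc_d_rc_18_0 lc_d_rc_20_2 lc_d_rc_21_2 lc_d_rc_28_3 lc_d_rc_3_1 lc_d_Cert_tree lc_d_rc_18_0 lc_d_Cert_tree lc_d_rc_28_5 lc_d_rc_21_2 lc_d_rc_9_1 lc_d_rc_3_1 lc_d_rc_9_3 lc_d_rc_18_0 lc_d_rc_20_2 lc_d_rc_28_5 lc_d_rc_9_1 lc_d_rc_20_2 lc_d_rc_21_2 lc_d_rc_9_1 lc_d_rc_9_1 lc_d_rc_28_5 lc_d_rc_28_3 lc_d_rc_3_1 lc_d_rc_9_1 lc_d_rc_3_1 lc_d_rc_20_2 lc_d_rc_19_4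 lc_d_rc_21_2 lc_d_rc_18_0 lc_d_rc_21_2 lc_d_rc_9_1 lc_d_rc_28_3 lc_d_rc_9_1 lc_d_rc_3_1 lc_d_rc_3_3 lc_d_rc_20_2 lc_d_rc_9_1 lc_d_rc_19_4) (@D3.rec (fun _ => (Cert rels S Gen.d)) lc_d_rc_3_1 lc_d_rc_9_1 lc_d_Cert_tree lc_d_Cert_tree lc_d_rc_18_0 lc_d_rc_20_2 lc_d_Cert_tree lc_d_rc_19_2 lc_d_Cert_tree lc_d_rc_28_7 lc_d_Cert_tree lc_d_Cert_tree lc_d_rc_3_1 lc_d_rc_18_0 lc_d_rc_20_2 lc_d_rc_18_0 lc_d_rc_20_2 lc_d_rc_28_5 lc_d_rc_19_2 lc_d_rc_20_2 lc_d_rc_9_1 lc_d_rc_3_1 lc_d_rc_19_4 lc_d_rc_9_1 lc_d_rc_3_1 lc_d_rc_19_4 lc_d_rc_3_1 lc_d_Cert_tree lc_d_rc_20_2 lc_d_Cert_tree lc_d_rc_20_2 lc_d_rc_18_0 lc_d_rc_9_1 lc_d_Cert_tree lc_d_Cert_tree lc_d_rc_9_1 lc_d_rc_20_2 lc_d_rc_9_1 lc_d_Cert_tree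 lc_d_rc_9_1) (@D3.rec (fun _ => (Cert rels S Gen.d)) lc_d_rc_3_1 lc_d_rc_18_0 lc_d_rc_21_2 lc_d_Cert_tree lc_d_Cert_tree lc_d_rc_18_0 lc_d_rc_20_2 lc_d_rc_21_2 lc_d_Cert_tree lc_d_rc_18_0 lc_d_rc_20_2 lc_d_rc_21_2 lc_d_rc_19_2 lc_d_rc_9_1 lc_d_Cert_tree lc_d_rc_28_3 lc_d_rc_19_2 lc_d_rc_9_1 lc_d_rc_3_1 lc_d_Cert_tree lc_d_Cert_tree lc_d_rc_18_0 lc_d_rc_21_2 lc_d_Cert_tree lc_d_rc_18_0 lc_d_rc_21_2 lc_d_rc_28_5 lc_d_rc_21_0 lc_d_rc_21_2 lc_d_rc_21_2 lc_d_rc_9_1 lc_d_Cert_tree lc_d_Cert_tree lc_d_rc_18_0 lc_d_rc_20_2 lc_d_rc_21_2 lc_d_Cert_tree lc_d_rc_9_1 lc_d_rc_20_2 lc_d_rc_21_2) (@D3.rec (fun _ => (Cert rels S Gen.d)) lc_d_rc_9_1 lc_d_rc_21_2 lc_d_rc_21_2 lc_d_rc_19_2 lc_d_rc_9_1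 lc_d_rc_3_1 lc_d_Cert_tree lc_d_rc_21_2 lc_d_rc_18_0 lc_d_rc_3_1 lc_d_Cert_tree lc_d_rc_20_2 lc_d_rc_21_2 lc_d_rc_18_0 lc_d_rc_20_2 lc_d_rc_9_1 lc_d_rc_28_5 lc_d_rc_9_1 lc_d_rc_19_2 lc_d_rc_21_2 lc_d_rc_21_2 lc_d_rc_9_1 lc_d_rc_9_1 lc_d_rc_3_1 lc_d_Cert_tree lc_d_rc_20_0 lc_d_rc_18_0 lc_d_rc_3_3 lc_d_Cert_tree lc_d_rc_18_0 lc_d_rc_21_2 lc_d_Cert_tree lc_d_Cert_tree lc_d_rc_20_0 lc_d_rc_28_7 lc_d_Cert_tree lc_d_Cert_tree lc_d_rc_3_1 lc_d_rc_18_0 lc_d_rc_21_2) (@D3.rec (fun _ => (Cert rels S Gen.d)) lc_d_rc_18_0 lc_d_rc_28_5 lc_d_rc_19_2 lc_d_rc_21_2 lc_d_rc_9_1 lc_d_rc_9_1 lc_d_rc_19_4 lc_d_rc_3_1 lc_d_rc_20_2 lc_d_rc_3_1 lc_d_rc_19_2 lc_d_Cert_tree lc_d_rc_3_1 lc_d_Cert_tree lc_d_rc_21_2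 lc_d_rc_18_0 lc_d_rc_28_3 lc_d_Cert_tree lc_d_Cert_tree lc_d_rc_9_1 lc_d_rc_21_2 lc_d_rc_9_1 lc_d_Cert_tree lc_d_rc_9_1 lc_d_rc_9_1 lc_d_rc_18_0 lc_d_rc_20_2 lc_d_Cert_tree lc_d_Cert_tree lc_d_rc_18_0 lc_d_rc_20_2 lc_d_rc_21_2 lc_d_Cert_tree lc_d_rc_18_0 lc_d_rc_20_2 lc_d_rc_21_2 lc_d_rc_19_2 lc_d_rc_9_1 lc_d_rc_19_4 lc_d_rc_28_5) (@D3.rec (fun _ => (Cert rels S Gen.d)) lc_d_rc_19_2 lc_d_rc_9_1 lc_d_rc_3_1 lc_d_Cert_tree lc_d_Cert_tree lc_d_rc_18_0 lc_d_rc_20_2 lc_d_Cert_tree lc_d_rc_18_0 lc_d_rc_20_2 lc_d_rc_28_5 lc_d_rc_3_1 lc_d_rc_20_2 lc_d_rc_9_1 lc_d_rc_21_2 lc_d_Cert_tree lc_d_Cert_tree lc_d_rc_18_0 lc_d_rc_20_2 lc_d_rc_21_2 lc_d_Cert_tree lc_d_rc_9_1 lc_d_rc_20_2 lc_d_rc_21_2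 lc_d_rc_21_2 lc_d_rc_9_1 lc_d_rc_21_2 lc_d_rc_19_2 lc_d_rc_9_1 lc_d_rc_3_1 lc_d_Cert_tree lc_d_rc_20_2 lc_d_rc_18_0 lc_d_rc_3_1 lc_d_Cert_tree lc_d_rc_20_2 lc_d_rc_18_0 lc_d_rc_21_2 lc_d_rc_9_1 lc_d_rc_28_3) (@D3.rec (fun _ => (Cert rels S Gen.d)) lc_d_rc_9_1 lc_d_rc_19_2 lc_d_rc_14_3 lc_d_rc_20_2 lc_d_rc_9_1 lc_d_rc_3_3 lc_d_rc_3_1 lc_d_Cert_tree lc_d_rc_3_3 lc_d_rc_18_0 lc_d_rc_20_2 lc_d_rc_18_0 lc_d_rc_9_1 lc_d_rc_20_2 lc_d_rc_3_1 lc_d_Cert_tree lc_d_rc_20_2 lc_d_rc_9_1 lc_d_rc_9_1 lc_d_rc_3_1 lc_d_rc_28_3 lc_d_rc_20_2 lc_d_rc_9_1 lc_d_rc_3_1 lc_d_Cert_tree lc_d_rc_20_2 lc_d_rc_21_2 lc_d_Cert_tree lc_d_rc_21_2 lc_d_rc_18_0 lc_d_rc_28_7 lc_d_rc_21_2 lc_d_Cert_tree lc_d_rc_21_2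 lc_d_rc_18_0 lc_d_rc_18_0 lc_d_Cert_tree lc_d_rc_21_2 lc_d_rc_20_2 lc_d_rc_9_1) (@D3.rec (fun _ => (Cert rels S Gen.d)) lc_d_rc_18_0 lc_d_rc_19_4 lc_d_Cert_tree lc_d_rc_9_3 lc_d_rc_21_2 lc_d_rc_9_1 lc_d_rc_3_1 lc_d_Cert_tree lc_d_Cert_tree lc_d_rc_9_1 lc_d_Cert_tree lc_d_rc_18_0 lc_d_rc_3_1 lc_d_rc_20_2 lc_d_rc_9_1 lc_d_Cert_tree lc_d_rc_3_1 lc_d_rc_18_0 lc_d_rc_20_2 lc_d_rc_21_2 lc_d_Cert_tree lc_d_Cert_tree lc_d_rc_18_0 lc_d_rc_20_2 lc_d_Cert_tree lc_d_rc_19_2 lc_d_rc_20_2 lc_d_rc_18_0 lc_d_rc_18_0 lc_d_rc_28_3 lc_d_rc_3_1 lc_d_rc_20_2 lc_d_rc_9_1 lc_d_Cert_tree lc_d_rc_18_0 lc_d_Cert_tree lc_d_rc_20_2 lc_d_rc_20_2 lc_d_rc_9_1 lc_d_rc_3_1)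
def ce_d_15 : D2 → D3 → (Cert rels S Gen.d) := @D2.rec (fun _ => D3 → (Cert rels S Gen.d)) (@D3.rec (fun _ => (Cert rels S Gen.d)) lc_d_rc_21_2 lc_d_rc_20_2 lc_d_rc_21_2 lc_d_rc_28_5 lc_d_rc_3_1 lc_d_rc_3_1 lc_d_rc_21_2 lc_d_rc_9_1 lc_d_rc_21_0 lc_d_rc_9_1 lc_d_rc_28_7 lc_d_rc_19_2 lc_d_rc_19_2 lc_d_rc_19_2 lc_d_rc_3_1 lc_d_rc_28_3 lc_d_rc_3_1 lc_d_rc_19_2 lc_d_rc_20_2 lc_d_rc_21_2 lc_d_rc_28_7 lc_d_Cert_tree lc_d_Cert_tree lc_d_rc_3_1 lc_d_rc_18_0 lc_d_rc_21_2 lc_d_rc_20_2 lc_d_Cert_tree lc_d_rc_18_0 lc_d_rc_21_2 lc_d_rc_18_1 lc_d_rc_18_0 lc_d_rc_19_4 lc_d_Cert_tree lc_d_rc_21_2 lc_d_rc_18_0 lc_d_rc_19_2 lc_d_rc_9_1 lc_d_rc_18_0 lc_d_Cert_tree) (@D3.rec (fun _ => (Cert rels S Gen.d))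 lc_d_rc_18_0 lc_d_rc_20_2 lc_d_rc_21_2 lc_d_Cert_tree lc_d_rc_19_2 lc_d_rc_20_2 lc_d_rc_21_2 lc_d_rc_9_1 lc_d_rc_18_0 lc_d_rc_21_2 lc_d_rc_18_0 lc_d_rc_9_1 lc_d_rc_20_2 lc_d_rc_21_2 lc_d_rc_21_2 lc_d_rc_9_1 lc_d_rc_9_1 lc_d_Cert_tree lc_d_rc_18_0 lc_d_Cert_tree lc_d_rc_28_5 lc_d_rc_21_2 lc_d_Cert_tree lc_d_rc_18_0 lc_d_rc_20_2 lc_d_rc_9_1 lc_d_rc_9_1 lc_d_rc_3_1 lc_d_Cert_tree lc_d_rc_21_2 lc_d_rc_9_1 lc_d_rc_19_2 lc_d_rc_3_1 lc_d_rc_18_0 lc_d_rc_19_2 lc_d_rc_20_2 lc_d_rc_18_0 lc_d_rc_21_2 lc_d_rc_19_2 lc_d_rc_28_5) (@D3.rec (fun _ => (Cert rels S Gen.d)) lc_d_rc_3_1 lc_d_rc_21_2 lc_d_rc_9_1 lc_d_rc_18_0 lc_d_rc_21_2 lc_d_rc_21_2 lc_d_rc_9_1 lc_d_rc_3_1 lc_d_rc_18_1 lc_d_rc_9_1 lc_d_rc_18_0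 lc_d_rc_14_7 lc_d_rc_21_2 lc_d_rc_20_2 lc_d_rc_21_2 lc_d_rc_9_1 lc_d_rc_9_1 lc_d_rc_18_0 lc_d_rc_21_2 lc_d_rc_19_2 lc_d_rc_20_2 lc_d_rc_21_2 lc_d_rc_9_1 lc_d_rc_21_2 lc_d_rc_9_1 lc_d_rc_20_2 lc_d_rc_9_1 lc_d_rc_9_1 lc_d_rc_28_1 lc_d_Cert_tree lc_d_rc_21_2 lc_d_rc_18_0 lc_d_rc_18_0 lc_d_rc_21_2 lc_d_rc_3_1 lc_d_rc_20_2 lc_d_rc_21_2 lc_d_rc_9_1 lc_d_rc_9_1 lc_d_Cert_tree) (@D3.rec (fun _ => (Cert rels S Gen.d)) lc_d_rc_28_5 lc_d_rc_28_7 lc_d_rc_20_2 lc_d_rc_21_2 lc_d_rc_9_1 lc_d_rc_21_2 lc_d_rc_21_0 lc_d_rc_21_2 lc_d_rc_3_1 lc_d_Cert_tree lc_d_rc_20_2 lc_d_rc_21_2 lc_d_rc_18_0 lc_d_rc_20_2 lc_d_rc_9_1 lc_d_rc_19_2 lc_d_rc_21_2 lc_d_rc_18_0 lc_d_rc_3_3 lc_d_rc_21_2 lc_d_rc_19_2 lc_d_Cert_tree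 lc_d_rc_18_0 lc_d_rc_28_3 lc_d_rc_20_2 lc_d_rc_21_2 lc_d_rc_28_5 lc_d_Cert_tree lc_d_rc_20_2 lc_d_rc_21_2 lc_d_rc_18_0 lc_d_rc_28_5 lc_d_rc_21_2 lc_d_rc_20_2 lc_d_rc_21_2 lc_d_rc_21_2 lc_d_rc_18_0 lc_d_rc_20_2 lc_d_rc_9_1 lc_d_rc_28_5) (@D3.rec (fun _ => (Cert rels S Gen.d)) lc_d_rc_20_2 lc_d_rc_9_1 lc_d_rc_20_2 lc_d_rc_21_2 lc_d_rc_9_1 lc_d_rc_9_1 lc_d_rc_3_1 lc_d_Cert_tree lc_d_rc_20_2 lc_d_rc_28_3 lc_d_rc_3_1 lc_d_rc_19_4 lc_d_rc_21_2 lc_d_rc_19_2 lc_d_rc_3_3 lc_d_rc_18_0 lc_d_rc_9_1 lc_d_rc_21_2 lc_d_rc_3_1 lc_d_rc_9_1 lc_d_rc_3_1 lc_d_rc_28_7 lc_d_rc_21_2 lc_d_rc_9_1 lc_d_rc_9_1 lc_d_rc_3_3 lc_d_Cert_tree lc_d_rc_3_1 lc_d_rc_18_0 lc_d_rc_21_2 lc_d_rc_20_2 lc_d_rc_20_2 lc_d_rc_3_1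 lc_d_Cert_tree lc_d_rc_21_2 lc_d_rc_18_0 lc_d_Cert_tree lc_d_rc_20_2 lc_d_rc_21_2 lc_d_rc_9_1) (@D3.rec (fun _ => (Cert rels S Gen.d)) lc_d_rc_18_0 lc_d_rc_3_1 lc_d_Cert_tree lc_d_rc_21_2 lc_d_rc_20_2 lc_d_rc_3_1 lc_d_Cert_tree lc_d_rc_9_1 lc_d_rc_9_1 lc_d_Cert_tree lc_d_rc_18_0 lc_d_Cert_tree lc_d_rc_3_1 lc_d_rc_21_2 lc_d_rc_9_1 lc_d_Cert_tree lc_d_rc_3_1 lc_d_rc_18_0 lc_d_rc_21_2 lc_d_rc_20_2 lc_d_Cert_tree lc_d_Cert_tree lc_d_rc_18_0 lc_d_rc_21_2 lc_d_Cert_tree lc_d_rc_19_2 lc_d_rc_21_2 lc_d_rc_18_0 lc_d_rc_18_0 lc_d_rc_28_3 lc_d_rc_3_1 lc_d_Cert_tree lc_d_rc_18_0 lc_d_Cert_tree lc_d_rc_21_2 lc_d_rc_21_2 lc_d_rc_9_1 lc_d_rc_3_1 lc_d_rc_20_2 lc_d_rc_20_2) (@D3.rec (fun _ => (Cert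 rels S Gen.d)) lc_d_rc_21_2 lc_d_rc_20_2 lc_d_rc_28_5 lc_d_rc_20_2 lc_d_rc_3_3 lc_d_rc_3_3 lc_d_rc_19_2 lc_d_rc_19_2 lc_d_rc_3_1 lc_d_rc_9_1 lc_d_rc_3_1 lc_d_rc_14_13 lc_d_rc_20_2 lc_d_rc_21_2 lc_d_rc_28_7 lc_d_Cert_tree lc_d_Cert_tree lc_d_rc_3_1 lc_d_rc_18_0 lc_d_rc_20_2 lc_d_rc_21_2 lc_d_Cert_tree lc_d_rc_18_0 lc_d_rc_20_2 lc_d_rc_9_1 lc_d_rc_18_0 lc_d_rc_20_2 lc_d_Cert_tree lc_d_rc_20_2 lc_d_rc_21_2 lc_d_rc_21_2 lc_d_rc_9_1 lc_d_rc_18_0 lc_d_Cert_tree lc_d_rc_18_0 lc_d_rc_20_2 lc_d_rc_21_2 lc_d_Cert_tree lc_d_rc_19_2 lc_d_rc_20_2) (@D3.rec (fun _ => (Cert rels S Gen.d)) lc_d_rc_21_2 lc_d_rc_9_1 lc_d_rc_18_0 lc_d_rc_20_2 lc_d_rc_20_2 lc_d_rc_21_2 lc_d_rc_20_2 lc_d_Cert_tree lc_d_rc_18_0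 lc_d_Cert_tree lc_d_rc_20_2 lc_d_rc_28_5 lc_d_Cert_tree lc_d_rc_18_0 lc_d_rc_21_2 lc_d_rc_9_1 lc_d_rc_9_1 lc_d_rc_3_1 lc_d_Cert_tree lc_d_rc_20_2 lc_d_rc_9_1 lc_d_rc_19_2 lc_d_rc_3_1 lc_d_rc_18_0 lc_d_rc_19_2 lc_d_rc_21_2 lc_d_rc_18_0 lc_d_rc_20_2 lc_d_rc_32_38 lc_d_rc_28_5 lc_d_rc_3_1 lc_d_rc_20_2 lc_d_rc_9_1 lc_d_rc_18_0 lc_d_rc_20_2 lc_d_rc_20_2 lc_d_rc_9_1 lc_d_rc_21_2 lc_d_rc_19_2 lc_d_rc_9_1) (@D3.rec (fun _ => (Cert rels S Gen.d)) lc_d_rc_18_0 lc_d_rc_20_2 lc_d_rc_3_3 lc_d_rc_20_2 lc_d_rc_9_1 lc_d_rc_3_3 lc_d_rc_18_0 lc_d_rc_20_2 lc_d_rc_19_2 lc_d_rc_20_2 lc_d_rc_21_2 lc_d_rc_9_1 lc_d_rc_9_1 lc_d_rc_19_2 lc_d_rc_9_1 lc_d_rc_9_1 lc_d_rc_28_7 lc_d_rc_18_0 lc_d_rc_18_0 lc_d_rc_20_2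 lc_d_rc_3_1 lc_d_rc_20_2 lc_d_rc_21_2 lc_d_rc_9_1 lc_d_rc_9_1 lc_d_Cert_tree lc_d_rc_28_7 lc_d_rc_28_5 lc_d_rc_20_2 lc_d_rc_21_2 lc_d_rc_21_2 lc_d_rc_9_1 lc_d_rc_21_0 lc_d_rc_20_2 lc_d_rc_3_1 lc_d_Cert_tree lc_d_rc_20_2 lc_d_rc_18_0 lc_d_rc_21_2 lc_d_rc_9_1) (@D3.rec (fun _ => (Cert rels S Gen.d)) lc_d_rc_19_2 lc_d_rc_20_2 lc_d_rc_18_0 lc_d_rc_21_2 lc_d_rc_28_5 lc_d_rc_19_2 lc_d_Cert_tree lc_d_rc_18_0 lc_d_rc_21_2 lc_d_rc_20_2 lc_d_rc_21_2 lc_d_rc_28_5 lc_d_Cert_tree lc_d_rc_20_2 lc_d_rc_21_2 lc_d_rc_18_0 lc_d_rc_20_2 lc_d_rc_3_1 lc_d_rc_21_2 lc_d_rc_28_5 lc_d_rc_21_2 lc_d_rc_18_0 lc_d_rc_21_2 lc_d_rc_9_1 lc_d_rc_28_5 lc_d_rc_21_2 lc_d_rc_9_1 lc_d_rc_21_2 lc_d_rc_14_11 lc_d_rc_9_1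 lc_d_rc_9_1 lc_d_rc_3_1 lc_d_Cert_tree lc_d_rc_21_2 lc_d_rc_19_4 lc_d_rc_3_1 lc_d_rc_19_4 lc_d_rc_20_2 lc_d_rc_19_2 lc_d_rc_9_1) (@D3.rec (fun _ => (Cert rels S Gen.d)) lc_d_rc_9_1 lc_d_rc_3_1 lc_d_rc_9_3 lc_d_rc_20_2 lc_d_rc_19_2 lc_d_rc_21_2 lc_d_rc_9_1 lc_d_rc_9_1 lc_d_rc_20_2 lc_d_rc_21_2 lc_d_rc_3_1 lc_d_rc_28_3 lc_d_rc_3_1 lc_d_rc_20_2 lc_d_rc_21_2 lc_d_Cert_tree lc_d_rc_18_0 lc_d_Cert_tree lc_d_rc_9_1 lc_d_rc_21_2 lc_d_rc_20_2 lc_d_rc_21_2 lc_d_rc_21_2 lc_d_rc_21_0 lc_d_rc_3_1 lc_d_rc_9_1 lc_d_rc_20_2 lc_d_rc_21_2 lc_d_rc_28_3 lc_d_rc_9_1 lc_d_rc_20_2 lc_d_rc_21_2 lc_d_rc_9_1 lc_d_rc_21_2 lc_d_rc_3_3 lc_d_Cert_tree lc_d_rc_18_0 lc_d_Cert_tree lc_d_rc_20_2 lc_d_rc_21_2) (@D3.rec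 (fun _ => (Cert rels S Gen.d)) lc_d_rc_3_1 lc_d_rc_3_1 lc_d_rc_9_1 lc_d_rc_9_1 lc_d_Cert_tree lc_d_rc_28_7 lc_d_Cert_tree lc_d_rc_20_2 lc_d_rc_21_2 lc_d_rc_18_0 lc_d_rc_28_3 lc_d_rc_21_2 lc_d_rc_28_5 lc_d_rc_21_2 lc_d_rc_9_1 lc_d_rc_3_3 lc_d_rc_21_2 lc_d_rc_3_1 lc_d_rc_9_1 lc_d_rc_9_1 lc_d_rc_19_2 lc_d_rc_20_2 lc_d_rc_3_1 lc_d_Cert_tree lc_d_rc_21_2 lc_d_rc_9_1 lc_d_rc_20_2 lc_d_rc_21_2 lc_d_rc_19_2 lc_d_rc_3_1 lc_d_rc_3_1 lc_d_rc_9_1 lc_d_rc_21_2 lc_d_rc_19_2 lc_d_rc_21_0 lc_d_rc_20_0 lc_d_rc_19_2 lc_d_rc_3_1 lc_d_rc_9_3 lc_d_rc_21_2) (@D3.rec (fun _ => (Cert rels S Gen.d)) lc_d_rc_32_48 lc_d_rc_20_2 lc_d_rc_3_3 lc_d_rc_9_1 lc_d_rc_20_2 lc_d_rc_21_2 lc_d_rc_3_1 lc_d_rc_28_3 lc_d_rc_3_1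 lc_d_rc_20_2 lc_d_rc_21_2 lc_d_Cert_tree lc_d_rc_18_0 lc_d_Cert_tree lc_d_rc_20_2 lc_d_rc_9_1 lc_d_rc_20_2 lc_d_rc_21_2 lc_d_rc_21_2 lc_d_rc_21_0 lc_d_rc_3_1 lc_d_rc_9_1 lc_d_rc_20_2 lc_d_rc_21_2 lc_d_rc_28_3 lc_d_rc_9_1 lc_d_rc_20_2 lc_d_rc_21_2 lc_d_rc_21_2 lc_d_rc_9_1 lc_d_rc_3_3 lc_d_Cert_tree lc_d_rc_18_0 lc_d_Cert_tree lc_d_rc_20_2 lc_d_rc_21_2 lc_d_rc_3_1 lc_d_rc_3_1 lc_d_rc_9_1 lc_d_rc_9_1) (@D3.rec (fun _ => (Cert rels S Gen.d)) lc_d_Cert_tree lc_d_rc_28_7 lc_d_Cert_tree lc_d_rc_20_2 lc_d_rc_21_2 lc_d_rc_18_0 lc_d_rc_20_2 lc_d_rc_14_13 lc_d_rc_9_1 lc_d_rc_21_2 lc_d_rc_9_1 lc_d_rc_3_3 lc_d_rc_21_2 lc_d_rc_3_1 lc_d_rc_9_1 lc_d_rc_9_1 lc_d_rc_3_1 lc_d_Cert_tree lc_d_rc_20_2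 lc_d_rc_14_11 lc_d_rc_21_2 lc_d_rc_9_1 lc_d_rc_20_2 lc_d_rc_21_2 lc_d_rc_3_1 lc_d_rc_19_2 lc_d_rc_9_1 lc_d_rc_18_0 lc_d_rc_21_2 lc_d_rc_20_2 lc_d_rc_20_0 lc_d_rc_9_1 lc_d_rc_3_1 lc_d_rc_18_0 lc_d_rc_3_1 lc_d_rc_20_2 lc_d_rc_21_2 lc_d_rc_9_3 lc_d_rc_18_0 lc_d_rc_20_2) (@D3.rec (fun _ => (Cert rels S Gen.d)) lc_d_rc_21_2 lc_d_rc_28_7 lc_d_rc_32_35 lc_d_rc_20_2 lc_d_rc_21_2 lc_d_rc_21_2 lc_d_rc_21_2 lc_d_rc_3_1 lc_d_rc_18_0 lc_d_rc_3_1 lc_d_rc_20_2 lc_d_rc_21_2 lc_d_rc_9_3 lc_d_rc_18_0 lc_d_rc_20_2 lc_d_rc_21_2 lc_d_rc_28_7 lc_d_rc_32_35 lc_d_rc_20_2 lc_d_rc_21_2 lc_d_rc_21_2 lc_d_rc_21_2 lc_d_rc_9_1 lc_d_rc_20_2 lc_d_rc_9_1 lc_d_rc_21_2 lc_d_rc_19_2 lc_d_rc_19_2 lc_d_rc_20_2 lc_d_rc_21_2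 lc_d_rc_3_1 lc_d_rc_21_2 lc_d_rc_20_2 lc_d_rc_3_1 lc_d_rc_21_2 lc_d_rc_9_1 lc_d_rc_28_3 lc_d_rc_18_0 lc_d_rc_20_2 lc_d_rc_20_2) (@D3.rec (fun _ => (Cert rels S Gen.d)) lc_d_rc_3_1 lc_d_rc_20_2 lc_d_rc_18_0 lc_d_rc_21_2 lc_d_rc_9_1 lc_d_rc_3_1 lc_d_rc_20_2 lc_d_rc_18_0 lc_d_rc_19_4 lc_d_rc_3_3 lc_d_rc_20_2 lc_d_rc_9_1 lc_d_rc_9_1 lc_d_rc_20_2 lc_d_rc_9_1 lc_d_rc_3_1 lc_d_rc_28_3 lc_d_rc_18_0 lc_d_rc_3_1 lc_d_rc_20_2 lc_d_rc_9_1 lc_d_rc_9_1 lc_d_rc_3_1 lc_d_rc_9_1 lc_d_rc_21_2 lc_d_rc_3_1 lc_d_rc_21_2 lc_d_rc_9_1 lc_d_rc_18_0 lc_d_rc_21_2 lc_d_rc_21_2 lc_d_rc_3_1 lc_d_rc_9_1 lc_d_rc_28_5 lc_d_rc_9_3 lc_d_rc_9_1 lc_d_rc_21_2 lc_d_rc_18_0 lc_d_rc_3_1 lc_d_rc_3_3) (@D3.rec (fun _ => (Cert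 rels S Gen.d)) lc_d_rc_21_2 lc_d_rc_9_1 lc_d_rc_9_1 lc_d_rc_21_2 lc_d_rc_9_1 lc_d_rc_3_1 lc_d_rc_28_5 lc_d_rc_18_0 lc_d_rc_28_1 lc_d_rc_21_2 lc_d_rc_9_1 lc_d_rc_9_1 lc_d_rc_3_1 lc_d_rc_21_2 lc_d_rc_20_2 lc_d_rc_3_1 lc_d_rc_20_2 lc_d_rc_9_1 lc_d_rc_20_2 lc_d_rc_20_2 lc_d_rc_3_1 lc_d_rc_3_1 lc_d_rc_28_5 lc_d_rc_9_3 lc_d_rc_18_1 lc_d_rc_21_2 lc_d_rc_18_0 lc_d_rc_3_1 lc_d_rc_19_4 lc_d_rc_20_2 lc_d_rc_9_1 lc_d_rc_28_7 lc_d_rc_3_1 lc_d_rc_18_0 lc_d_rc_28_3 lc_d_rc_21_2 lc_d_rc_28_3 lc_d_rc_21_2 lc_d_rc_9_1 lc_d_rc_3_3) (@D3.rec (fun _ => (Cert rels S Gen.d)) lc_d_rc_3_1 lc_d_rc_19_2 lc_d_rc_19_2 lc_d_rc_9_1 lc_d_rc_9_1 lc_d_rc_3_1 lc_d_rc_3_1 lc_d_rc_20_2 lc_d_rc_3_1 lc_d_rc_19_0 lc_d_rc_19_2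 lc_d_rc_3_1 lc_d_rc_9_1 lc_d_rc_3_1 lc_d_rc_9_1 lc_d_rc_9_1 lc_d_rc_20_2 lc_d_rc_14_1 lc_d_rc_18_0 lc_d_rc_18_0 lc_d_rc_28_1 lc_d_rc_9_1 lc_d_rc_19_2 lc_d_rc_3_1 lc_d_rc_3_1 lc_d_Cert_tree lc_d_rc_20_2 lc_d_rc_18_0 lc_d_rc_19_4 lc_d_rc_20_2 lc_d_rc_20_2 lc_d_rc_3_3 lc_d_rc_3_1 lc_d_rc_3_1 lc_d_rc_20_2 lc_d_rc_21_2 lc_d_rc_3_1 lc_d_rc_21_2 lc_d_rc_28_5 lc_d_rc_18_0) (@D3.rec (fun _ => (Cert rels S Gen.d)) lc_d_rc_3_1 lc_d_rc_18_0 lc_d_rc_3_3 lc_d_rc_20_2 lc_d_rc_3_1 lc_d_rc_9_1 lc_d_rc_18_0 lc_d_rc_19_2 lc_d_rc_21_2 lc_d_rc_20_2 lc_d_rc_28_3 lc_d_rc_3_1 lc_d_Cert_tree lc_d_rc_28_5 lc_d_rc_20_2 lc_d_rc_21_2 lc_d_rc_21_2 lc_d_rc_18_0 lc_d_Cert_tree lc_d_rc_3_1 lc_d_rc_18_0 lc_d_rc_20_2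 lc_d_rc_21_2 lc_d_rc_20_2 lc_d_rc_20_2 lc_d_rc_18_0 lc_d_rc_9_1 lc_d_rc_20_2 lc_d_rc_9_1 lc_d_rc_21_2 lc_d_rc_3_1 lc_d_rc_21_2 lc_d_rc_3_1 lc_d_rc_20_2 lc_d_rc_28_1 lc_d_rc_9_1 lc_d_rc_20_2 lc_d_rc_9_3 lc_d_rc_9_1 lc_d_rc_21_2) (@D3.rec (fun _ => (Cert rels S Gen.d)) lc_d_rc_3_1 lc_d_rc_20_2 lc_d_rc_21_2 lc_d_rc_3_1 lc_d_rc_28_1 lc_d_Cert_tree lc_d_rc_20_2 lc_d_rc_18_0 lc_d_rc_19_2 lc_d_rc_21_2 lc_d_rc_3_3 lc_d_rc_18_0 lc_d_rc_3_3 lc_d_rc_9_1 lc_d_Cert_tree lc_d_rc_3_1 lc_d_rc_3_1 lc_d_rc_18_0 lc_d_rc_20_2 lc_d_rc_21_2 lc_d_rc_21_2 lc_d_rc_3_1 lc_d_rc_28_3 lc_d_rc_20_2 lc_d_rc_28_1 lc_d_rc_18_0 lc_d_Cert_tree lc_d_rc_20_2 lc_d_rc_21_2 lc_d_rc_28_3 lc_d_Cert_tree lc_d_rc_20_2 lc_d_rc_21_2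 lc_d_rc_18_0 lc_d_rc_20_2 lc_d_rc_21_2 lc_d_Cert_tree lc_d_rc_20_0 lc_d_rc_18_0 lc_d_rc_20_2) (@D3.rec (fun _ => (Cert rels S Gen.d)) lc_d_rc_21_2 lc_d_rc_21_2 lc_d_rc_21_0 lc_d_rc_20_2 lc_d_rc_21_2 lc_d_rc_21_2 lc_d_rc_3_3 lc_d_rc_28_5 lc_d_rc_28_5 lc_d_rc_20_2 lc_d_rc_18_0 lc_d_rc_21_2 lc_d_rc_9_1 lc_d_rc_3_1 lc_d_rc_21_2 lc_d_rc_20_2 lc_d_rc_18_0 lc_d_rc_28_5 lc_d_rc_28_5 lc_d_rc_20_2 lc_d_rc_21_2 lc_d_rc_3_3 lc_d_rc_3_1 lc_d_rc_9_1 lc_d_rc_21_2 lc_d_rc_9_1 lc_d_rc_9_1 lc_d_rc_3_1 lc_d_rc_18_0 lc_d_rc_28_3 lc_d_rc_20_2 lc_d_rc_28_7 lc_d_rc_20_2 lc_d_rc_9_1 lc_d_rc_3_1 lc_d_rc_3_1 lc_d_rc_19_2 lc_d_rc_21_2 lc_d_rc_9_1 lc_d_rc_3_1) (@D3.rec (fun _ => (Cert rels S Gen.d)) lc_d_rc_3_1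 lc_d_rc_21_2 lc_d_rc_3_1 lc_d_rc_21_2 lc_d_rc_3_1 lc_d_rc_3_3 lc_d_rc_3_1 lc_d_rc_19_2 lc_d_rc_19_2 lc_d_rc_20_2 lc_d_rc_9_3 lc_d_rc_18_0 lc_d_rc_19_2 lc_d_rc_3_1 lc_d_Cert_tree lc_d_rc_21_2 lc_d_rc_18_0 lc_d_rc_18_0 lc_d_rc_9_3 lc_d_rc_21_2 lc_d_rc_3_3 lc_d_rc_3_1 lc_d_rc_3_1 lc_d_rc_9_1 lc_d_rc_21_2 lc_d_rc_21_0 lc_d_rc_18_0 lc_d_rc_21_2 lc_d_rc_3_1 lc_d_rc_21_2 lc_d_rc_19_2 lc_d_rc_20_2 lc_d_rc_28_7 lc_d_rc_19_2 lc_d_Cert_tree lc_d_rc_28_3 lc_d_rc_9_1 lc_d_rc_3_3 lc_d_rc_20_2 lc_d_Cert_tree) (@D3.rec (fun _ => (Cert rels S Gen.d)) lc_d_rc_28_3 lc_d_rc_18_0 lc_d_rc_20_2 lc_d_rc_21_2 lc_d_rc_21_2 lc_d_rc_21_2 lc_d_rc_9_1 lc_d_rc_21_2 lc_d_rc_9_1 lc_d_rc_20_2 lc_d_rc_3_1 lc_d_rc_20_2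 lc_d_rc_3_1 lc_d_rc_21_2 lc_d_rc_28_1 lc_d_rc_9_1 lc_d_rc_9_1 lc_d_rc_9_3 lc_d_rc_21_2 lc_d_rc_20_2 lc_d_rc_3_1 lc_d_rc_18_0 lc_d_rc_3_3 lc_d_rc_21_2 lc_d_rc_3_3 lc_d_rc_20_2 lc_d_Cert_tree lc_d_rc_21_0 lc_d_rc_28_3 lc_d_rc_18_0 lc_d_rc_20_2 lc_d_rc_21_2 lc_d_rc_20_2 lc_d_rc_21_2 lc_d_rc_21_2 lc_d_rc_3_3 lc_d_rc_20_2 lc_d_rc_18_0 lc_d_rc_20_2 lc_d_rc_9_1) (@D3.rec (fun _ => (Cert rels S Gen.d)) lc_d_rc_3_1 lc_d_rc_3_3 lc_d_rc_9_1 lc_d_rc_18_0 lc_d_rc_28_5 lc_d_rc_28_5 lc_d_rc_21_2 lc_d_rc_20_2 lc_d_rc_28_5 lc_d_rc_20_2 lc_d_Cert_tree lc_d_rc_21_2 lc_d_rc_18_0 lc_d_rc_21_2 lc_d_rc_19_2 lc_d_rc_21_2 lc_d_rc_3_1 lc_d_rc_20_2 lc_d_rc_21_2 lc_d_rc_21_2 lc_d_rc_21_2 lc_d_rc_18_0 lc_d_Cert_tree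 lc_d_rc_32_48 lc_d_Cert_tree lc_d_rc_21_2 lc_d_rc_18_0 lc_d_rc_21_2 lc_d_rc_18_0 lc_d_rc_21_2 lc_d_rc_9_1 lc_d_Cert_tree lc_d_rc_21_2 lc_d_rc_9_1 lc_d_rc_20_2 lc_d_rc_9_1 lc_d_rc_9_1 lc_d_rc_28_3 lc_d_rc_28_5 lc_d_rc_19_2) (@D3.rec (fun _ => (Cert rels S Gen.d)) lc_d_rc_18_0 lc_d_rc_19_2 lc_d_rc_21_2 lc_d_rc_20_0 lc_d_rc_21_2 lc_d_Cert_tree lc_d_rc_20_2 lc_d_rc_18_0 lc_d_rc_20_2 lc_d_rc_9_1 lc_d_rc_19_2 lc_d_rc_9_1 lc_d_rc_28_7 lc_d_rc_20_2 lc_d_rc_20_2 lc_d_rc_20_2 lc_d_rc_18_0 lc_d_Cert_tree lc_d_rc_32_48 lc_d_Cert_tree lc_d_rc_20_2 lc_d_rc_18_0 lc_d_rc_20_2 lc_d_rc_18_0 lc_d_rc_20_2 lc_d_rc_9_1 lc_d_Cert_tree lc_d_rc_20_2 lc_d_rc_9_1 lc_d_rc_21_2 lc_d_rc_9_1 lc_d_rc_9_1 lc_d_rc_20_2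 lc_d_rc_28_7 lc_d_rc_19_2 lc_d_rc_18_0 lc_d_rc_19_2 lc_d_rc_20_2 lc_d_rc_9_1 lc_d_rc_9_1) (@D3.rec (fun _ => (Cert rels S Gen.d)) lc_d_rc_9_1 lc_d_Cert_tree lc_d_rc_21_2 lc_d_rc_21_2 lc_d_Cert_tree lc_d_rc_18_0 lc_d_rc_20_2 lc_d_rc_21_2 lc_d_rc_9_1 lc_d_rc_9_1 lc_d_rc_3_1 lc_d_rc_18_0 lc_d_rc_21_2 lc_d_rc_9_1 lc_d_rc_28_3 lc_d_rc_20_2 lc_d_rc_21_2 lc_d_rc_9_1 lc_d_rc_18_0 lc_d_rc_20_2 lc_d_rc_9_1 lc_d_rc_20_0 lc_d_rc_9_1 lc_d_rc_9_1 lc_d_Cert_tree lc_d_rc_20_2 lc_d_rc_20_2 lc_d_Cert_tree lc_d_rc_18_0 lc_d_rc_3_1 lc_d_rc_18_0 lc_d_rc_32_54 lc_d_rc_20_2 lc_d_rc_21_2 lc_d_rc_9_1 lc_d_rc_18_0 lc_d_rc_20_2 lc_d_rc_3_1 lc_d_rc_19_2 lc_d_rc_9_1)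
def ce_d_16 : D2 → D3 → (Cert rels S Gen.d) := @D2.rec (fun _ => D3 → (Cert rels S Gen.d)) (@D3.rec (fun _ => (Cert rels S Gen.d)) lc_d_rc_3_1 lc_d_rc_19_2 lc_d_rc_9_1 lc_d_rc_19_2 lc_d_rc_3_1 lc_d_rc_14_3 lc_d_rc_9_3 lc_d_rc_18_0 lc_d_rc_20_2 lc_d_rc_3_1 lc_d_Cert_tree lc_d_rc_3_1 lc_d_rc_9_1 lc_d_rc_20_2 lc_d_rc_3_1 lc_d_rc_9_1 lc_d_Cert_tree lc_d_rc_18_0 lc_d_rc_21_2 lc_d_rc_20_2 lc_d_rc_20_2 lc_d_rc_18_1 lc_d_rc_9_1 lc_d_rc_19_0 lc_d_rc_18_0 lc_d_rc_18_0 lc_d_rc_21_2 lc_d_rc_3_1 lc_d_Cert_tree lc_d_rc_9_1 lc_d_rc_9_1 lc_d_rc_21_2 lc_d_rc_21_2 lc_d_rc_9_1 lc_d_Cert_tree lc_d_rc_18_0 lc_d_rc_20_2 lc_d_rc_9_3 lc_d_rc_21_2 lc_d_rc_19_4) (@D3.rec (fun _ => (Cert rels S Gen.d)) lc_d_rc_9_1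 lc_d_rc_9_1 lc_d_rc_9_1 lc_d_Cert_tree lc_d_rc_3_1 lc_d_rc_18_0 lc_d_rc_21_2 lc_d_rc_20_2 lc_d_rc_9_1 lc_d_Cert_tree lc_d_rc_3_1 lc_d_rc_18_0 lc_d_rc_20_2 lc_d_rc_21_2 lc_d_rc_21_2 lc_d_rc_20_2 lc_d_rc_3_1 lc_d_Cert_tree lc_d_rc_3_1 lc_d_rc_9_1 lc_d_rc_3_3 lc_d_rc_3_1 lc_d_rc_18_0 lc_d_rc_9_1 lc_d_rc_21_2 lc_d_rc_3_1 lc_d_Cert_tree lc_d_rc_21_2 lc_d_rc_9_1 lc_d_rc_21_0 lc_d_rc_3_1 lc_d_rc_18_0 lc_d_rc_9_1 lc_d_rc_3_1 lc_d_rc_9_1 lc_d_rc_19_4 lc_d_Cert_tree lc_d_rc_19_4 lc_d_rc_18_0 lc_d_rc_20_2) (@D3.rec (fun _ => (Cert rels S Gen.d)) lc_d_rc_9_1 lc_d_rc_3_1 lc_d_Cert_tree lc_d_rc_9_3 lc_d_rc_18_0 lc_d_rc_21_2 lc_d_Cert_tree lc_d_rc_3_1 lc_d_rc_9_1 lc_d_rc_21_2 lc_d_Cert_tree lc_d_rc_3_1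 lc_d_rc_9_1 lc_d_rc_20_2 lc_d_Cert_tree lc_d_rc_18_0 lc_d_rc_9_3 lc_d_Cert_tree lc_d_rc_18_0 lc_d_rc_21_2 lc_d_rc_32_61 lc_d_rc_14_3 lc_d_rc_21_2 lc_d_rc_21_2 lc_d_rc_3_1 lc_d_rc_3_1 lc_d_rc_21_2 lc_d_rc_3_1 lc_d_rc_18_0 lc_d_rc_20_2 lc_d_rc_3_1 lc_d_rc_18_0 lc_d_rc_9_1 lc_d_rc_3_1 lc_d_rc_9_1 lc_d_rc_20_2 lc_d_rc_19_2 lc_d_rc_20_2 lc_d_rc_19_4 lc_d_rc_20_2) (@D3.rec (fun _ => (Cert rels S Gen.d)) lc_d_rc_9_1 lc_d_rc_3_1 lc_d_rc_9_1 lc_d_rc_21_2 lc_d_rc_3_1 lc_d_rc_19_4 lc_d_rc_19_4 lc_d_rc_19_4 lc_d_rc_21_2 lc_d_Cert_tree lc_d_rc_3_1 lc_d_rc_9_1 lc_d_rc_21_2 lc_d_rc_20_2 lc_d_Cert_tree lc_d_rc_21_2 lc_d_rc_9_1 lc_d_rc_20_2 lc_d_rc_21_2 lc_d_rc_20_2 lc_d_rc_3_1 lc_d_rc_9_1 lc_d_rc_18_0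 lc_d_rc_21_2 lc_d_rc_3_1 lc_d_rc_3_1 lc_d_rc_20_2 lc_d_rc_9_1 lc_d_rc_18_0 lc_d_rc_28_5 lc_d_rc_21_2 lc_d_rc_20_2 lc_d_rc_9_1 lc_d_rc_20_0 lc_d_rc_18_0 lc_d_rc_20_2 lc_d_rc_21_2 lc_d_rc_20_2 lc_d_rc_19_2 lc_d_rc_28_5) (@D3.rec (fun _ => (Cert rels S Gen.d)) lc_d_rc_20_2 lc_d_rc_21_2 lc_d_rc_9_1 lc_d_rc_19_2 lc_d_rc_20_2 lc_d_rc_21_2 lc_d_rc_3_1 lc_d_rc_9_1 lc_d_rc_18_0 lc_d_rc_20_2 lc_d_rc_3_1 lc_d_rc_3_1 lc_d_rc_21_2 lc_d_rc_9_1 lc_d_rc_18_0 lc_d_rc_28_5 lc_d_rc_20_2 lc_d_rc_21_2 lc_d_rc_9_1 lc_d_rc_9_1 lc_d_rc_18_0 lc_d_rc_20_2 lc_d_rc_21_2 lc_d_rc_21_2 lc_d_rc_9_3 lc_d_rc_28_5 lc_d_rc_21_2 lc_d_rc_3_1 lc_d_rc_9_1 lc_d_rc_14_5 lc_d_Cert_tree lc_d_rc_3_3 lc_d_rc_3_1 lc_d_rc_18_0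 lc_d_rc_9_1 lc_d_rc_21_2 lc_d_rc_9_1 lc_d_Cert_tree lc_d_rc_3_3 lc_d_rc_3_1) (@D3.rec (fun _ => (Cert rels S Gen.d)) lc_d_rc_18_0 lc_d_rc_21_2 lc_d_rc_3_1 lc_d_rc_9_1 lc_d_rc_28_3 lc_d_rc_9_1 lc_d_rc_20_2 lc_d_rc_9_1 lc_d_rc_21_2 lc_d_rc_9_1 lc_d_rc_20_2 lc_d_rc_9_1 lc_d_rc_9_1 lc_d_rc_19_2 lc_d_rc_21_2 lc_d_rc_3_1 lc_d_rc_9_1 lc_d_rc_9_1 lc_d_rc_28_5 lc_d_rc_18_0 lc_d_rc_20_2 lc_d_rc_9_1 lc_d_rc_19_2 lc_d_rc_20_2 lc_d_rc_3_1 lc_d_rc_18_0 lc_d_rc_19_2 lc_d_rc_28_1 lc_d_rc_18_0 lc_d_rc_21_2 lc_d_rc_9_1 lc_d_rc_9_1 lc_d_rc_9_1 lc_d_rc_18_0 lc_d_rc_21_2 lc_d_rc_21_2 lc_d_rc_3_1 lc_d_rc_3_1 lc_d_rc_20_2 lc_d_rc_9_1) (@D3.rec (fun _ => (Cert rels S Gen.d)) lc_d_rc_18_0 lc_d_rc_20_2 lc_d_rc_20_2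 lc_d_rc_3_1 lc_d_rc_3_1 lc_d_rc_21_2 lc_d_rc_3_1 lc_d_rc_20_2 lc_d_rc_21_2 lc_d_rc_18_0 lc_d_rc_21_2 lc_d_rc_9_1 lc_d_rc_28_5 lc_d_rc_19_2 lc_d_rc_21_2 lc_d_rc_9_1 lc_d_rc_21_2 lc_d_rc_3_1 lc_d_rc_20_2 lc_d_rc_21_2 lc_d_rc_18_0 lc_d_rc_20_2 lc_d_rc_9_1 lc_d_rc_28_5 lc_d_rc_19_2 lc_d_rc_20_2 lc_d_rc_9_1 lc_d_rc_20_2 lc_d_rc_18_0 lc_d_rc_21_2 lc_d_rc_18_0 lc_d_rc_20_2 lc_d_rc_3_1 lc_d_rc_21_2 lc_d_rc_9_1 lc_d_rc_9_1 lc_d_rc_9_3 lc_d_Cert_tree lc_d_rc_21_2 lc_d_rc_9_1) (@D3.rec (fun _ => (Cert rels S Gen.d)) lc_d_rc_21_0 lc_d_rc_28_1 lc_d_rc_3_3 lc_d_rc_9_1 lc_d_rc_9_1 lc_d_rc_20_2 lc_d_rc_3_1 lc_d_rc_9_1 lc_d_rc_9_3 lc_d_Cert_tree lc_d_rc_20_2 lc_d_rc_9_1 lc_d_rc_20_0 lc_d_rc_19_0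 lc_d_rc_20_2 lc_d_rc_9_1 lc_d_rc_9_1 lc_d_rc_3_1 lc_d_rc_21_0 lc_d_rc_20_2 lc_d_rc_28_7 lc_d_rc_3_1 lc_d_rc_19_4 lc_d_rc_21_2 lc_d_Cert_tree lc_d_Cert_tree lc_d_Cert_tree lc_d_rc_18_0 lc_d_rc_21_2 lc_d_rc_19_2 lc_d_rc_9_1 lc_d_rc_9_1 lc_d_rc_3_1 lc_d_rc_20_0 lc_d_rc_21_2 lc_d_rc_19_4 lc_d_rc_3_1 lc_d_rc_19_4 lc_d_rc_20_2 lc_d_Cert_tree) (@D3.rec (fun _ => (Cert rels S Gen.d)) lc_d_Cert_tree lc_d_Cert_tree lc_d_rc_18_0 lc_d_rc_20_2 lc_d_rc_21_2 lc_d_rc_9_1 lc_d_rc_9_1 lc_d_rc_3_1 lc_d_Cert_tree lc_d_rc_3_1 lc_d_Cert_tree lc_d_rc_18_0 lc_d_rc_20_2 lc_d_rc_3_1 lc_d_Cert_tree lc_d_rc_20_2 lc_d_rc_21_2 lc_d_rc_3_1 lc_d_rc_9_3 lc_d_rc_20_0 lc_d_Cert_tree lc_d_rc_9_1 lc_d_rc_18_0 lc_d_rc_21_2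 lc_d_rc_3_1 lc_d_rc_3_1 lc_d_rc_3_1 lc_d_rc_20_2 lc_d_rc_28_3 lc_d_rc_3_1 lc_d_rc_20_2 lc_d_rc_9_1 lc_d_rc_3_1 lc_d_Cert_tree lc_d_rc_21_2 lc_d_Cert_tree lc_d_rc_18_0 lc_d_rc_21_2 lc_d_rc_3_1 lc_d_Cert_tree) (@D3.rec (fun _ => (Cert rels S Gen.d)) lc_d_rc_20_2 lc_d_rc_20_0 lc_d_rc_21_2 lc_d_rc_9_3 lc_d_rc_20_2 lc_d_Cert_tree lc_d_rc_9_1 lc_d_rc_18_0 lc_d_rc_20_2 lc_d_rc_21_2 lc_d_rc_3_1 lc_d_rc_3_1 lc_d_rc_21_2 lc_d_rc_28_3 lc_d_rc_3_1 lc_d_rc_20_0 lc_d_rc_3_1 lc_d_rc_20_2 lc_d_rc_21_2 lc_d_rc_20_2 lc_d_rc_21_2 lc_d_rc_19_2 lc_d_rc_21_2 lc_d_rc_21_2 lc_d_rc_9_1 lc_d_rc_21_0 lc_d_Cert_tree lc_d_rc_20_2 lc_d_rc_9_1 lc_d_rc_18_0 lc_d_Cert_tree lc_d_rc_21_2 lc_d_rc_21_2 lc_d_rc_9_1 lc_d_rc_3_1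 lc_d_rc_9_1 lc_d_rc_3_1 lc_d_Cert_tree lc_d_rc_20_2 lc_d_rc_9_1) (@D3.rec (fun _ => (Cert rels S Gen.d)) lc_d_rc_9_1 lc_d_rc_3_1 lc_d_rc_21_0 lc_d_rc_20_2 lc_d_rc_9_1 lc_d_rc_21_2 lc_d_rc_18_0 lc_d_rc_20_2 lc_d_rc_18_1 lc_d_rc_18_0 lc_d_rc_20_2 lc_d_Cert_tree lc_d_rc_19_2 lc_d_rc_20_2 lc_d_rc_9_1 lc_d_rc_3_1 lc_d_rc_19_4 lc_d_rc_3_1 lc_d_rc_9_1 lc_d_rc_9_1 lc_d_rc_28_3 lc_d_rc_18_0 lc_d_rc_20_2 lc_d_rc_20_2 lc_d_rc_3_1 lc_d_rc_3_1 lc_d_rc_21_2 lc_d_rc_3_1 lc_d_rc_28_3 lc_d_rc_18_0 lc_d_rc_21_2 lc_d_rc_28_7 lc_d_rc_20_2 lc_d_rc_9_1 lc_d_rc_3_1 lc_d_Cert_tree lc_d_rc_21_2 lc_d_rc_9_1 lc_d_Cert_tree lc_d_rc_3_1) (@D3.rec (fun _ => (Cert rels S Gen.d)) lc_d_rc_18_0 lc_d_rc_21_2 lc_d_rc_3_3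 lc_d_Cert_tree lc_d_Cert_tree lc_d_rc_18_0 lc_d_rc_20_2 lc_d_rc_21_2 lc_d_Cert_tree lc_d_rc_18_0 lc_d_rc_21_2 lc_d_rc_9_1 lc_d_rc_3_1 lc_d_Cert_tree lc_d_rc_28_3 lc_d_rc_18_0 lc_d_Cert_tree lc_d_rc_18_0 lc_d_rc_21_2 lc_d_rc_21_2 lc_d_rc_28_3 lc_d_rc_21_2 lc_d_Cert_tree lc_d_rc_18_0 lc_d_rc_3_1 lc_d_rc_20_0 lc_d_rc_21_2 lc_d_rc_3_1 lc_d_rc_20_2 lc_d_rc_21_2 lc_d_rc_20_2 lc_d_rc_21_2 lc_d_rc_19_2 lc_d_rc_20_2 lc_d_rc_9_1 lc_d_rc_21_2 lc_d_rc_21_0 lc_d_Cert_tree lc_d_rc_21_2 lc_d_rc_9_1) (@D3.rec (fun _ => (Cert rels S Gen.d)) lc_d_rc_18_0 lc_d_rc_20_2 lc_d_rc_9_1 lc_d_rc_21_2 lc_d_rc_3_1 lc_d_rc_20_2 lc_d_Cert_tree lc_d_rc_21_2 lc_d_rc_9_1 lc_d_rc_20_2 lc_d_rc_9_1 lc_d_rc_3_1 lc_d_rc_3_1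 lc_d_rc_21_2 lc_d_rc_9_1 lc_d_rc_18_1 lc_d_rc_18_0 lc_d_rc_21_2 lc_d_rc_21_0 lc_d_rc_18_0 lc_d_Cert_tree lc_d_rc_19_2 lc_d_rc_21_2 lc_d_rc_9_1 lc_d_rc_3_1 lc_d_rc_9_1 lc_d_rc_3_1 lc_d_rc_9_1 lc_d_rc_9_1 lc_d_rc_3_3 lc_d_rc_18_0 lc_d_rc_20_2 lc_d_rc_21_2 lc_d_rc_20_2 lc_d_rc_3_1 lc_d_rc_32_43 lc_d_rc_18_0 lc_d_rc_3_1 lc_d_rc_21_2 lc_d_rc_21_2) (@D3.rec (fun _ => (Cert rels S Gen.d)) lc_d_rc_21_2 lc_d_Cert_tree lc_d_rc_3_3 lc_d_rc_9_1 lc_d_Cert_tree lc_d_rc_9_3 lc_d_rc_18_0 lc_d_rc_21_2 lc_d_Cert_tree lc_d_Cert_tree lc_d_rc_18_0 lc_d_rc_20_2 lc_d_rc_21_2 lc_d_rc_21_2 lc_d_rc_21_2 lc_d_rc_3_1 lc_d_Cert_tree lc_d_rc_18_0 lc_d_rc_18_0 lc_d_rc_3_3 lc_d_rc_20_2 lc_d_rc_20_2 lc_d_Cert_tree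 lc_d_rc_18_0 lc_d_rc_3_1 lc_d_rc_20_2 lc_d_rc_21_0 lc_d_rc_9_1 lc_d_rc_9_1 lc_d_rc_9_1 lc_d_rc_9_1 lc_d_rc_3_1 lc_d_rc_20_2 lc_d_rc_19_2 lc_d_rc_18_0 lc_d_rc_21_2 lc_d_rc_20_2 lc_d_rc_21_2 lc_d_rc_18_1 lc_d_rc_9_1) (@D3.rec (fun _ => (Cert rels S Gen.d)) lc_d_rc_28_3 lc_d_rc_9_1 lc_d_rc_20_2 lc_d_rc_9_1 lc_d_rc_20_2 lc_d_rc_3_1 lc_d_Cert_tree lc_d_rc_21_2 lc_d_rc_9_1 lc_d_rc_9_1 lc_d_rc_3_1 lc_d_rc_18_0 lc_d_rc_21_2 lc_d_rc_3_1 lc_d_rc_3_1 lc_d_rc_20_2 lc_d_rc_9_1 lc_d_rc_3_1 lc_d_Cert_tree lc_d_rc_21_2 lc_d_rc_19_2 lc_d_rc_9_1 lc_d_rc_19_2 lc_d_rc_9_1 lc_d_rc_21_2 lc_d_rc_28_1 lc_d_rc_21_2 lc_d_rc_19_2 lc_d_rc_20_2 lc_d_rc_9_1 lc_d_rc_19_4 lc_d_rc_28_1 lc_d_rc_9_1 lc_d_rc_21_2 lc_d_rc_20_2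 lc_d_rc_32_69 lc_d_rc_20_2 lc_d_rc_21_2 lc_d_rc_18_0 lc_d_rc_20_2) (@D3.rec (fun _ => (Cert rels S Gen.d)) lc_d_rc_21_2 lc_d_rc_3_3 lc_d_rc_3_1 lc_d_rc_20_2 lc_d_rc_21_2 lc_d_rc_9_1 lc_d_rc_9_1 lc_d_rc_18_0 lc_d_Cert_tree lc_d_rc_20_2 lc_d_rc_21_2 lc_d_rc_21_2 lc_d_rc_21_0 lc_d_rc_19_2 lc_d_rc_9_1 lc_d_rc_28_1 lc_d_rc_3_1 lc_d_rc_3_1 lc_d_rc_20_2 lc_d_rc_20_0 lc_d_rc_21_2 lc_d_rc_3_3 lc_d_rc_18_0 lc_d_rc_9_1 lc_d_rc_9_1 lc_d_rc_9_1 lc_d_rc_9_1 lc_d_rc_3_1 lc_d_rc_21_2 lc_d_rc_19_2 lc_d_rc_18_0 lc_d_rc_3_3 lc_d_rc_21_2 lc_d_rc_19_2 lc_d_rc_19_4 lc_d_rc_9_1 lc_d_rc_28_3 lc_d_rc_9_1 lc_d_rc_21_2 lc_d_rc_9_1) (@D3.rec (fun _ => (Cert rels S Gen.d)) lc_d_rc_20_2 lc_d_rc_3_1 lc_d_Cert_tree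 lc_d_rc_3_1 lc_d_rc_9_1 lc_d_rc_28_3 lc_d_rc_3_1 lc_d_rc_18_0 lc_d_rc_20_2 lc_d_rc_21_2 lc_d_rc_3_1 lc_d_rc_21_2 lc_d_rc_9_1 lc_d_rc_3_1 lc_d_Cert_tree lc_d_rc_20_2 lc_d_rc_9_1 lc_d_rc_9_1 lc_d_rc_19_2 lc_d_rc_9_1 lc_d_rc_20_2 lc_d_rc_28_1 lc_d_rc_20_2 lc_d_rc_3_3 lc_d_rc_21_2 lc_d_rc_9_1 lc_d_rc_20_0 lc_d_rc_28_1 lc_d_rc_9_1 lc_d_rc_20_2 lc_d_rc_21_2 lc_d_rc_9_1 lc_d_rc_20_2 lc_d_rc_21_2 lc_d_rc_18_0 lc_d_rc_20_2 lc_d_rc_21_2 lc_d_rc_3_3 lc_d_rc_3_1 lc_d_rc_20_2) (@D3.rec (fun _ => (Cert rels S Gen.d)) lc_d_rc_21_2 lc_d_rc_9_1 lc_d_rc_9_1 lc_d_rc_18_0 lc_d_Cert_tree lc_d_rc_20_2 lc_d_rc_21_2 lc_d_rc_21_2 lc_d_rc_21_0 lc_d_rc_19_2 lc_d_rc_9_1 lc_d_rc_28_1 lc_d_rc_3_1 lc_d_rc_3_1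 lc_d_rc_20_2 lc_d_rc_20_2 lc_d_rc_21_2 lc_d_rc_3_3 lc_d_rc_9_1 lc_d_Cert_tree lc_d_rc_9_1 lc_d_rc_19_2 lc_d_rc_20_2 lc_d_rc_21_2 lc_d_rc_9_1 lc_d_rc_28_3 lc_d_rc_28_3 lc_d_rc_9_1 lc_d_rc_20_2 lc_d_rc_21_2 lc_d_rc_28_7 lc_d_rc_9_1 lc_d_rc_3_1 lc_d_rc_3_1 lc_d_rc_21_2 lc_d_rc_3_1 lc_d_rc_9_1 lc_d_rc_19_2 lc_d_rc_20_2 lc_d_rc_9_1) (@D3.rec (fun _ => (Cert rels S Gen.d)) lc_d_rc_18_0 lc_d_Cert_tree lc_d_rc_20_2 lc_d_rc_20_2 lc_d_rc_20_2 lc_d_rc_21_2 lc_d_rc_9_1 lc_d_Cert_tree lc_d_rc_9_1 lc_d_rc_19_2 lc_d_rc_20_2 lc_d_rc_21_2 lc_d_rc_9_1 lc_d_rc_28_3 lc_d_rc_28_3 lc_d_rc_9_1 lc_d_rc_20_2 lc_d_rc_21_2 lc_d_rc_20_2 lc_d_rc_9_1 lc_d_rc_3_1 lc_d_rc_3_1 lc_d_rc_21_2 lc_d_rc_3_1 lc_d_rc_9_1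 lc_d_rc_19_2 lc_d_rc_18_0 lc_d_Cert_tree lc_d_rc_21_2 lc_d_rc_20_2 lc_d_rc_21_2 lc_d_rc_28_7 lc_d_rc_9_1 lc_d_rc_20_2 lc_d_rc_18_1 lc_d_rc_28_7 lc_d_rc_9_1 lc_d_rc_20_2 lc_d_rc_21_2 lc_d_rc_19_2) (@D3.rec (fun _ => (Cert rels S Gen.d)) lc_d_rc_3_1 lc_d_rc_3_1 lc_d_rc_21_2 lc_d_rc_20_2 lc_d_rc_3_1 lc_d_rc_28_5 lc_d_rc_28_3 lc_d_rc_28_3 lc_d_rc_28_3 lc_d_rc_28_5 lc_d_rc_20_2 lc_d_rc_3_1 lc_d_rc_28_1 lc_d_rc_3_1 lc_d_rc_3_1 lc_d_rc_21_2 lc_d_rc_20_2 lc_d_rc_21_2 lc_d_rc_21_2 lc_d_rc_20_2 lc_d_rc_9_1 lc_d_rc_3_1 lc_d_rc_19_2 lc_d_rc_20_0 lc_d_rc_3_1 lc_d_rc_28_3 lc_d_rc_21_2 lc_d_rc_3_1 lc_d_rc_28_1 lc_d_rc_20_2 lc_d_rc_9_1 lc_d_rc_3_1 lc_d_rc_3_1 lc_d_rc_3_1 lc_d_rc_32_12 lc_d_rc_19_2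 lc_d_rc_28_5 lc_d_rc_21_2 lc_d_rc_18_0 lc_d_rc_19_2) (@D3.rec (fun _ => (Cert rels S Gen.d)) lc_d_rc_28_5 lc_d_rc_19_2 lc_d_rc_3_1 lc_d_rc_3_1 lc_d_rc_9_1 lc_d_rc_20_2 lc_d_rc_9_1 lc_d_rc_20_2 lc_d_rc_28_1 lc_d_rc_28_5 lc_d_rc_20_2 lc_d_rc_3_1 lc_d_rc_32_48 lc_d_rc_21_2 lc_d_rc_9_1 lc_d_rc_9_1 lc_d_rc_3_1 lc_d_rc_3_1 lc_d_rc_3_1 lc_d_rc_14_11 lc_d_rc_3_1 lc_d_rc_28_5 lc_d_rc_19_2 lc_d_rc_18_0 lc_d_rc_19_2 lc_d_rc_28_3 lc_d_rc_19_2 lc_d_rc_3_1 lc_d_rc_19_2 lc_d_rc_9_1 lc_d_rc_21_2 lc_d_rc_19_2 lc_d_rc_21_2 lc_d_rc_3_1 lc_d_rc_9_1 lc_d_rc_21_2 lc_d_rc_28_7 lc_d_rc_21_2 lc_d_rc_3_1 lc_d_rc_19_0) (@D3.rec (fun _ => (Cert rels S Gen.d)) lc_d_rc_28_3 lc_d_rc_3_1 lc_d_rc_19_2 lc_d_rc_21_2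 lc_d_rc_18_0 lc_d_rc_19_4 lc_d_rc_21_2 lc_d_rc_14_3 lc_d_rc_21_0 lc_d_rc_3_1 lc_d_rc_9_1 lc_d_rc_19_2 lc_d_rc_9_1 lc_d_rc_18_0 lc_d_rc_9_1 lc_d_rc_14_3 lc_d_rc_14_3 lc_d_rc_21_2 lc_d_rc_9_1 lc_d_rc_9_3 lc_d_rc_18_0 lc_d_rc_21_2 lc_d_rc_21_2 lc_d_rc_9_1 lc_d_rc_9_3 lc_d_rc_18_0 lc_d_rc_20_2 lc_d_rc_9_1 lc_d_rc_18_0 lc_d_rc_20_2 lc_d_rc_18_0 lc_d_rc_20_2 lc_d_rc_18_0 lc_d_rc_3_1 lc_d_rc_18_0 lc_d_rc_21_2 lc_d_rc_3_3 lc_d_rc_20_2 lc_d_rc_21_2 lc_d_rc_21_2) (@D3.rec (fun _ => (Cert rels S Gen.d)) lc_d_rc_18_0 lc_d_rc_18_0 lc_d_rc_28_7 lc_d_rc_21_2 lc_d_rc_28_7 lc_d_rc_20_2 lc_d_rc_20_2 lc_d_rc_19_4 lc_d_rc_18_0 lc_d_rc_20_2 lc_d_rc_21_2 lc_d_rc_3_3 lc_d_rc_18_0 lc_d_rc_20_2 lc_d_rc_9_3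 lc_d_rc_19_2 lc_d_rc_20_2 lc_d_rc_21_2 lc_d_rc_21_2 lc_d_rc_21_2 lc_d_rc_21_2 lc_d_rc_20_2 lc_d_rc_21_2 lc_d_rc_20_2 lc_d_Cert_tree lc_d_rc_18_0 lc_d_rc_20_2 lc_d_rc_19_2 lc_d_rc_3_1 lc_d_Cert_tree lc_d_rc_18_0 lc_d_rc_21_2 lc_d_rc_18_0 lc_d_rc_3_1 lc_d_rc_9_1 lc_d_rc_3_1 lc_d_rc_18_0 lc_d_rc_18_0 lc_d_rc_28_7 lc_d_rc_3_3) (@D3.rec (fun _ => (Cert rels S Gen.d)) lc_d_rc_9_1 lc_d_rc_9_1 lc_d_rc_28_3 lc_d_rc_21_2 lc_d_rc_9_1 lc_d_rc_28_3 lc_d_rc_28_5 lc_d_rc_21_2 lc_d_rc_18_0 lc_d_rc_21_2 lc_d_rc_9_1 lc_d_rc_9_1 lc_d_rc_3_1 lc_d_rc_21_2 lc_d_rc_20_2 lc_d_rc_18_0 lc_d_rc_18_0 lc_d_rc_20_2 lc_d_rc_19_2 lc_d_Cert_tree lc_d_Cert_tree lc_d_rc_18_0 lc_d_rc_21_2 lc_d_rc_20_2 lc_d_rc_18_0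 lc_d_rc_20_2 lc_d_rc_20_2 lc_d_rc_20_0 lc_d_rc_21_2 lc_d_rc_9_1 lc_d_rc_28_3 lc_d_rc_20_2 lc_d_rc_9_1 lc_d_rc_21_2 lc_d_rc_20_0 lc_d_rc_20_2 lc_d_rc_18_0 lc_d_rc_20_2 lc_d_rc_9_1 lc_d_rc_9_1) (@D3.rec (fun _ => (Cert rels S Gen.d)) lc_d_rc_3_1 lc_d_rc_32_74 lc_d_rc_21_2 lc_d_rc_20_2 lc_d_rc_18_0 lc_d_rc_21_2 lc_d_rc_19_2 lc_d_rc_19_2 lc_d_Cert_tree lc_d_rc_18_0 lc_d_rc_20_2 lc_d_rc_20_0 lc_d_rc_18_0 lc_d_rc_14_9 lc_d_rc_21_2 lc_d_rc_19_4 lc_d_rc_3_1 lc_d_rc_9_1 lc_d_rc_18_0 lc_d_rc_28_5 lc_d_rc_18_0 lc_d_rc_9_1 lc_d_rc_18_0 lc_d_rc_28_5 lc_d_rc_18_0 lc_d_rc_9_1 lc_d_rc_3_1 lc_d_rc_20_2 lc_d_rc_18_0 lc_d_rc_21_2 lc_d_rc_9_1 lc_d_rc_3_1 lc_d_rc_21_0 lc_d_rc_20_2 lc_d_rc_9_1 lc_d_rc_3_1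 lc_d_rc_18_0 lc_d_rc_20_2 lc_d_rc_19_2 lc_d_rc_20_2) (@D3.rec (fun _ => (Cert rels S Gen.d)) lc_d_rc_28_5 lc_d_rc_21_2 lc_d_rc_9_1 lc_d_rc_20_2 lc_d_rc_3_1 lc_d_rc_20_2 lc_d_rc_9_1 lc_d_rc_9_1 lc_d_rc_3_1 lc_d_rc_9_1 lc_d_rc_21_2 lc_d_Cert_tree lc_d_rc_19_4 lc_d_rc_18_0 lc_d_rc_21_2 lc_d_rc_20_2 lc_d_rc_9_3 lc_d_rc_18_0 lc_d_rc_21_2 lc_d_rc_19_4 lc_d_rc_18_0 lc_d_rc_3_1 lc_d_rc_9_1 lc_d_rc_28_3 lc_d_rc_3_1 lc_d_rc_9_1 lc_d_rc_19_2 lc_d_rc_3_1 lc_d_rc_9_1 lc_d_Cert_tree lc_d_rc_18_0 lc_d_rc_3_3 lc_d_rc_21_2 lc_d_rc_9_3 lc_d_rc_19_2 lc_d_rc_20_2 lc_d_rc_21_2 lc_d_rc_20_2 lc_d_rc_20_2 lc_d_Cert_tree)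
def ce_d_17 : D2 → D3 → (Cert rels S Gen.d) := @D2.rec (fun _ => D3 → (Cert rels S Gen.d)) (@D3.rec (fun _ => (Cert rels S Gen.d)) lc_d_rc_28_5 lc_d_rc_3_1 lc_d_rc_9_1 lc_d_rc_28_5 lc_d_rc_21_0 lc_d_rc_20_2 lc_d_rc_21_2 lc_d_rc_18_0 lc_d_rc_20_2 lc_d_rc_9_1 lc_d_rc_20_0 lc_d_rc_21_2 lc_d_rc_9_1 lc_d_rc_3_1 lc_d_rc_19_4 lc_d_rc_9_1 lc_d_rc_18_0 lc_d_rc_3_1 lc_d_rc_3_1 lc_d_rc_21_2 lc_d_rc_18_0 lc_d_rc_20_2 lc_d_rc_9_1 lc_d_rc_3_1 lc_d_rc_20_0 lc_d_rc_21_2 lc_d_rc_3_3 lc_d_rc_3_1 lc_d_rc_18_0 lc_d_rc_21_2 lc_d_rc_19_2 lc_d_rc_21_2 lc_d_rc_28_5 lc_d_rc_20_2 lc_d_rc_9_1 lc_d_rc_21_2 lc_d_rc_3_1 lc_d_rc_21_2 lc_d_rc_9_1 lc_d_rc_9_1) (@D3.rec (fun _ => (Cert rels S Gen.d)) lc_d_rc_20_2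 lc_d_Cert_tree lc_d_rc_9_3 lc_d_rc_18_0 lc_d_rc_21_2 lc_d_rc_19_4 lc_d_rc_18_0 lc_d_rc_20_2 lc_d_rc_19_4 lc_d_rc_18_0 lc_d_rc_19_2 lc_d_rc_21_2 lc_d_rc_28_3 lc_d_rc_3_1 lc_d_rc_9_1 lc_d_rc_19_2 lc_d_rc_21_2 lc_d_rc_9_1 lc_d_rc_18_0 lc_d_rc_3_3 lc_d_rc_20_2 lc_d_rc_9_3 lc_d_rc_19_2 lc_d_rc_20_2 lc_d_rc_21_2 lc_d_rc_20_2 lc_d_rc_20_2 lc_d_Cert_tree lc_d_rc_21_2 lc_d_rc_3_1 lc_d_rc_9_1 lc_d_rc_28_5 lc_d_rc_3_3 lc_d_rc_20_2 lc_d_rc_21_2 lc_d_rc_18_0 lc_d_rc_21_2 lc_d_rc_9_1 lc_d_rc_28_5 lc_d_rc_3_1) (@D3.rec (fun _ => (Cert rels S Gen.d)) lc_d_rc_9_1 lc_d_rc_3_1 lc_d_rc_28_1 lc_d_rc_28_3 lc_d_rc_18_0 lc_d_rc_3_1 lc_d_rc_14_11 lc_d_rc_28_3 lc_d_rc_3_1 lc_d_rc_20_2 lc_d_rc_21_2 lc_d_rc_9_1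 lc_d_rc_18_0 lc_d_Cert_tree lc_d_rc_20_2 lc_d_rc_21_2 lc_d_rc_19_2 lc_d_rc_20_2 lc_d_rc_3_1 lc_d_rc_3_1 lc_d_rc_3_1 lc_d_rc_3_1 lc_d_rc_20_2 lc_d_rc_20_0 lc_d_rc_21_2 lc_d_rc_3_3 lc_d_rc_21_2 lc_d_rc_28_3 lc_d_rc_21_2 lc_d_rc_9_1 lc_d_rc_18_0 lc_d_Cert_tree lc_d_rc_20_2 lc_d_rc_21_2 lc_d_rc_3_1 lc_d_rc_14_3 lc_d_rc_3_1 lc_d_rc_3_1 lc_d_rc_20_2 lc_d_rc_20_0) (@D3.rec (fun _ => (Cert rels S Gen.d)) lc_d_rc_21_2 lc_d_rc_3_3 lc_d_rc_9_1 lc_d_rc_3_1 lc_d_rc_3_1 lc_d_rc_21_2 lc_d_rc_3_1 lc_d_Cert_tree lc_d_rc_19_2 lc_d_rc_20_2 lc_d_rc_9_1 lc_d_rc_18_0 lc_d_rc_3_1 lc_d_rc_20_2 lc_d_rc_21_2 lc_d_rc_20_2 lc_d_rc_21_2 lc_d_rc_28_5 lc_d_rc_3_1 lc_d_rc_3_1 lc_d_rc_21_2 lc_d_rc_3_1 lc_d_Cert_tree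 lc_d_rc_19_2 lc_d_rc_18_0 lc_d_rc_3_1 lc_d_rc_20_2 lc_d_rc_20_2 lc_d_rc_21_2 lc_d_rc_9_1 lc_d_rc_20_2 lc_d_rc_14_5 lc_d_rc_20_2 lc_d_rc_19_2 lc_d_rc_9_1 lc_d_rc_20_2 lc_d_rc_9_1 lc_d_rc_9_1 lc_d_rc_9_1 lc_d_rc_3_1) (@D3.rec (fun _ => (Cert rels S Gen.d)) lc_d_rc_21_2 lc_d_rc_9_1 lc_d_rc_3_1 lc_d_rc_9_1 lc_d_rc_21_2 lc_d_rc_20_2 lc_d_rc_3_1 lc_d_rc_9_1 lc_d_rc_9_1 lc_d_rc_9_1 lc_d_rc_20_2 lc_d_rc_9_1 lc_d_rc_32_64 lc_d_rc_21_2 lc_d_rc_19_2 lc_d_rc_9_1 lc_d_rc_18_0 lc_d_rc_18_0 lc_d_rc_9_1 lc_d_rc_20_0 lc_d_rc_21_2 lc_d_rc_21_2 lc_d_rc_19_2 lc_d_rc_18_0 lc_d_rc_20_2 lc_d_rc_20_2 lc_d_rc_19_2 lc_d_rc_9_1 lc_d_rc_21_2 lc_d_rc_18_0 lc_d_rc_9_1 lc_d_rc_21_0 lc_d_rc_20_2 lc_d_rc_3_1 lc_d_rc_19_2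 lc_d_rc_18_0 lc_d_rc_21_2 lc_d_rc_9_1 lc_d_rc_28_3 lc_d_rc_9_3) (@D3.rec (fun _ => (Cert rels S Gen.d)) lc_d_rc_18_0 lc_d_rc_21_2 lc_d_rc_9_1 lc_d_rc_28_3 lc_d_rc_3_1 lc_d_Cert_tree lc_d_Cert_tree lc_d_rc_18_0 lc_d_rc_20_2 lc_d_rc_3_1 lc_d_rc_19_2 lc_d_rc_21_2 lc_d_rc_18_0 lc_d_rc_28_5 lc_d_rc_18_0 lc_d_Cert_tree lc_d_Cert_tree lc_d_rc_18_0 lc_d_rc_21_2 lc_d_rc_18_0 lc_d_rc_28_5 lc_d_rc_20_2 lc_d_rc_28_3 lc_d_rc_9_3 lc_d_rc_18_0 lc_d_rc_20_2 lc_d_rc_9_1 lc_d_rc_3_1 lc_d_Cert_tree lc_d_Cert_tree lc_d_rc_18_0 lc_d_rc_21_2 lc_d_rc_9_1 lc_d_rc_20_2 lc_d_rc_18_0 lc_d_rc_28_5 lc_d_rc_18_0 lc_d_Cert_tree lc_d_Cert_tree lc_d_rc_18_0) (@D3.rec (fun _ => (Cert rels S Gen.d)) lc_d_rc_20_2 lc_d_rc_18_0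 lc_d_rc_28_5 lc_d_rc_21_2 lc_d_rc_20_2 lc_d_rc_9_1 lc_d_rc_9_1 lc_d_rc_19_2 lc_d_rc_19_2 lc_d_rc_9_1 lc_d_rc_9_1 lc_d_rc_3_1 lc_d_rc_21_2 lc_d_rc_9_1 lc_d_rc_20_2 lc_d_rc_9_1 lc_d_rc_19_4 lc_d_rc_9_1 lc_d_rc_20_2 lc_d_rc_21_2 lc_d_rc_3_1 lc_d_rc_3_1 lc_d_rc_20_2 lc_d_rc_9_1 lc_d_rc_20_2 lc_d_rc_19_2 lc_d_rc_3_1 lc_d_rc_9_1 lc_d_rc_20_2 lc_d_rc_19_4 lc_d_rc_3_1 lc_d_rc_21_2 lc_d_rc_19_2 lc_d_rc_21_2 lc_d_rc_19_2 lc_d_rc_20_2 lc_d_rc_20_2 lc_d_rc_21_2 lc_d_rc_9_1 lc_d_rc_9_1) (@D3.rec (fun _ => (Cert rels S Gen.d)) lc_d_rc_18_0 lc_d_rc_21_2 lc_d_rc_20_2 lc_d_rc_9_1 lc_d_rc_9_1 lc_d_rc_18_0 lc_d_rc_18_0 lc_d_rc_3_1 lc_d_rc_28_7 lc_d_rc_18_0 lc_d_rc_3_1 lc_d_rc_28_7 lc_d_rc_18_0 lc_d_rc_21_2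 lc_d_rc_9_1 lc_d_rc_9_1 lc_d_rc_21_2 lc_d_rc_19_4 lc_d_rc_18_0 lc_d_rc_20_2 lc_d_rc_9_1 lc_d_rc_9_1 lc_d_rc_20_2 lc_d_rc_19_4 lc_d_rc_3_1 lc_d_rc_21_2 lc_d_rc_21_2 lc_d_rc_9_1 lc_d_rc_3_1 lc_d_rc_3_1 lc_d_rc_9_1 lc_d_rc_28_1 lc_d_rc_3_1 lc_d_rc_20_2 lc_d_rc_20_2 lc_d_rc_9_1 lc_d_rc_21_2 lc_d_rc_3_1 lc_d_rc_3_3 lc_d_rc_3_3) (@D3.rec (fun _ => (Cert rels S Gen.d)) lc_d_rc_18_0 lc_d_rc_21_2 lc_d_rc_21_2 lc_d_rc_28_3 lc_d_rc_18_0 lc_d_rc_20_2 lc_d_rc_20_2 lc_d_rc_9_3 lc_d_rc_3_1 lc_d_Cert_tree lc_d_Cert_tree lc_d_rc_18_0 lc_d_rc_28_5 lc_d_rc_9_1 lc_d_rc_3_1 lc_d_Cert_tree lc_d_Cert_tree lc_d_rc_18_0 lc_d_rc_28_5 lc_d_rc_9_1 lc_d_rc_28_5 lc_d_rc_20_2 lc_d_rc_21_2 lc_d_rc_21_2 lc_d_rc_9_1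 lc_d_rc_9_1 lc_d_rc_3_3 lc_d_rc_9_3 lc_d_rc_18_0 lc_d_rc_28_5 lc_d_rc_19_2 lc_d_rc_20_2 lc_d_rc_20_2 lc_d_rc_3_1 lc_d_rc_18_0 lc_d_Cert_tree lc_d_rc_18_0 lc_d_rc_3_3 lc_d_rc_21_2 lc_d_rc_3_1) (@D3.rec (fun _ => (Cert rels S Gen.d)) lc_d_rc_20_2 lc_d_rc_9_1 lc_d_rc_28_5 lc_d_rc_20_2 lc_d_rc_9_1 lc_d_rc_21_2 lc_d_rc_21_2 lc_d_rc_3_1 lc_d_rc_21_2 lc_d_rc_28_5 lc_d_rc_20_2 lc_d_rc_21_2 lc_d_rc_9_1 lc_d_rc_9_1 lc_d_rc_20_2 lc_d_rc_3_3 lc_d_rc_28_1 lc_d_rc_18_0 lc_d_rc_28_5 lc_d_rc_19_2 lc_d_rc_21_2 lc_d_rc_21_2 lc_d_rc_3_1 lc_d_rc_18_0 lc_d_Cert_tree lc_d_rc_18_0 lc_d_rc_28_5 lc_d_rc_20_0 lc_d_rc_3_1 lc_d_rc_21_2 lc_d_rc_9_1 lc_d_rc_28_5 lc_d_rc_21_2 lc_d_rc_9_1 lc_d_rc_3_1 lc_d_rc_28_1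 lc_d_rc_28_5 lc_d_rc_3_3 lc_d_rc_28_3 lc_d_rc_21_2) (@D3.rec (fun _ => (Cert rels S Gen.d)) lc_d_rc_3_1 lc_d_rc_3_3 lc_d_rc_18_0 lc_d_rc_21_2 lc_d_rc_21_2 lc_d_rc_21_2 lc_d_rc_9_1 lc_d_rc_3_1 lc_d_rc_21_2 lc_d_rc_28_5 lc_d_rc_28_5 lc_d_rc_21_2 lc_d_rc_21_2 lc_d_rc_19_2 lc_d_rc_20_2 lc_d_rc_21_2 lc_d_rc_19_4 lc_d_rc_21_2 lc_d_rc_3_1 lc_d_rc_9_1 lc_d_rc_21_2 lc_d_rc_9_1 lc_d_rc_18_1 lc_d_rc_32_7 lc_d_rc_20_2 lc_d_rc_3_1 lc_d_rc_9_1 lc_d_rc_9_1 lc_d_rc_21_2 lc_d_rc_3_1 lc_d_rc_28_3 lc_d_rc_21_2 lc_d_rc_9_1 lc_d_rc_3_1 lc_d_rc_18_0 lc_d_rc_19_2 lc_d_rc_28_3 lc_d_rc_18_0 lc_d_rc_28_3 lc_d_rc_9_1) (@D3.rec (fun _ => (Cert rels S Gen.d)) lc_d_rc_18_0 lc_d_rc_14_11 lc_d_rc_9_1 lc_d_rc_20_2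 lc_d_rc_19_2 lc_d_rc_20_2 lc_d_rc_28_3 lc_d_rc_20_2 lc_d_rc_20_2 lc_d_rc_28_5 lc_d_rc_9_1 lc_d_rc_19_4 lc_d_rc_28_3 lc_d_rc_20_2 lc_d_rc_21_2 lc_d_rc_32_45 lc_d_rc_18_0 lc_d_rc_20_2 lc_d_rc_20_2 lc_d_rc_9_1 lc_d_rc_21_2 lc_d_rc_3_1 lc_d_rc_20_2 lc_d_rc_20_2 lc_d_rc_20_2 lc_d_rc_20_2 lc_d_rc_20_2 lc_d_rc_20_2 lc_d_rc_3_3 lc_d_rc_20_2 lc_d_rc_19_4 lc_d_rc_9_1 lc_d_rc_28_1 lc_d_rc_9_1 lc_d_rc_20_2 lc_d_rc_9_1 lc_d_rc_3_1 lc_d_rc_28_7 lc_d_rc_21_2 lc_d_rc_3_1) (@D3.rec (fun _ => (Cert rels S Gen.d)) lc_d_rc_20_0 lc_d_rc_9_1 lc_d_rc_28_3 lc_d_rc_3_1 lc_d_rc_20_0 lc_d_rc_20_2 lc_d_rc_9_1 lc_d_rc_3_1 lc_d_rc_18_0 lc_d_rc_19_2 lc_d_rc_28_3 lc_d_rc_18_0 lc_d_rc_28_5 lc_d_rc_9_1 lc_d_rc_20_2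 lc_d_rc_21_2 lc_d_rc_19_2 lc_d_rc_9_1 lc_d_rc_28_3 lc_d_rc_19_2 lc_d_rc_21_2 lc_d_rc_28_3 lc_d_rc_9_1 lc_d_rc_20_2 lc_d_Cert_tree lc_d_rc_18_0 lc_d_rc_19_2 lc_d_rc_9_1 lc_d_rc_3_1 lc_d_rc_18_0 lc_d_rc_3_3 lc_d_rc_21_2 lc_d_rc_21_2 lc_d_rc_21_2 lc_d_rc_9_1 lc_d_rc_3_1 lc_d_rc_9_3 lc_d_rc_20_2 lc_d_rc_28_7 lc_d_rc_20_2) (@D3.rec (fun _ => (Cert rels S Gen.d)) lc_d_rc_18_0 lc_d_rc_9_1 lc_d_rc_20_2 lc_d_rc_3_1 lc_d_Cert_tree lc_d_rc_9_3 lc_d_rc_9_3 lc_d_rc_28_5 lc_d_rc_9_3 lc_d_Cert_tree lc_d_rc_18_0 lc_d_rc_19_2 lc_d_rc_9_1 lc_d_rc_3_1 lc_d_rc_18_0 lc_d_rc_20_2 lc_d_rc_20_2 lc_d_rc_20_2 lc_d_rc_20_2 lc_d_rc_9_1 lc_d_rc_3_1 lc_d_rc_21_0 lc_d_rc_21_2 lc_d_rc_28_7 lc_d_rc_21_2 lc_d_rc_18_0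 lc_d_rc_28_3 lc_d_rc_21_2 lc_d_rc_3_1 lc_d_Cert_tree lc_d_rc_21_2 lc_d_rc_9_3 lc_d_rc_28_7 lc_d_rc_9_3 lc_d_rc_20_2 lc_d_rc_3_1 lc_d_rc_18_0 lc_d_rc_21_2 lc_d_rc_21_2 lc_d_rc_21_2) (@D3.rec (fun _ => (Cert rels S Gen.d)) lc_d_rc_3_1 lc_d_rc_21_2 lc_d_rc_9_1 lc_d_rc_3_1 lc_d_rc_32_40 lc_d_rc_20_2 lc_d_rc_3_1 lc_d_rc_20_2 lc_d_rc_9_1 lc_d_rc_20_0 lc_d_rc_21_0 lc_d_rc_20_2 lc_d_rc_18_0 lc_d_rc_21_2 lc_d_rc_9_1 lc_d_rc_3_1 lc_d_rc_20_2 lc_d_rc_19_2 lc_d_rc_9_1 lc_d_rc_20_2 lc_d_rc_3_1 lc_d_Cert_tree lc_d_rc_20_2 lc_d_rc_9_1 lc_d_rc_21_2 lc_d_rc_20_2 lc_d_rc_18_0 lc_d_rc_21_0 lc_d_rc_21_2 lc_d_rc_9_1 lc_d_Cert_tree lc_d_rc_18_0 lc_d_rc_21_2 lc_d_rc_3_1 lc_d_Cert_tree lc_d_rc_20_2 lc_d_rc_9_3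 lc_d_rc_18_0 lc_d_rc_28_7 lc_d_rc_19_2) (@D3.rec (fun _ => (Cert rels S Gen.d)) lc_d_rc_20_2 lc_d_rc_9_1 lc_d_rc_3_1 lc_d_rc_32_17 lc_d_rc_21_2 lc_d_rc_9_1 lc_d_rc_3_1 lc_d_rc_19_2 lc_d_rc_3_1 lc_d_rc_19_2 lc_d_rc_19_2 lc_d_rc_19_2 lc_d_rc_9_1 lc_d_rc_21_2 lc_d_rc_3_1 lc_d_rc_18_0 lc_d_rc_20_2 lc_d_rc_20_2 lc_d_rc_20_2 lc_d_rc_20_2 lc_d_rc_20_2 lc_d_rc_9_1 lc_d_rc_3_1 lc_d_rc_28_7 lc_d_rc_21_2 lc_d_rc_3_1 lc_d_rc_9_1 lc_d_rc_19_2 lc_d_rc_3_1 lc_d_rc_18_0 lc_d_rc_20_2 lc_d_rc_9_1 lc_d_rc_3_1 lc_d_rc_21_2 lc_d_rc_9_1 lc_d_rc_9_1 lc_d_rc_21_2 lc_d_rc_3_1 lc_d_Cert_tree lc_d_rc_21_2) (@D3.rec (fun _ => (Cert rels S Gen.d)) lc_d_rc_9_1 lc_d_rc_3_3 lc_d_rc_3_1 lc_d_rc_18_0 lc_d_rc_9_1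 lc_d_rc_3_3 lc_d_rc_9_1 lc_d_rc_28_3 lc_d_rc_18_0 lc_d_rc_20_2 lc_d_rc_3_1 lc_d_Cert_tree lc_d_rc_21_2 lc_d_rc_9_3 lc_d_rc_18_0 lc_d_rc_28_7 lc_d_rc_19_2 lc_d_rc_21_2 lc_d_rc_21_2 lc_d_rc_3_1 lc_d_rc_28_3 lc_d_rc_3_1 lc_d_rc_9_1 lc_d_rc_3_1 lc_d_rc_28_7 lc_d_rc_21_2 lc_d_rc_20_2 lc_d_rc_19_2 lc_d_rc_20_2 lc_d_rc_9_1 lc_d_rc_9_1 lc_d_rc_21_2 lc_d_rc_20_2 lc_d_rc_21_2 lc_d_rc_18_0 lc_d_rc_3_3 lc_d_rc_9_1 lc_d_rc_9_1 lc_d_rc_3_1 lc_d_Cert_tree) (@D3.rec (fun _ => (Cert rels S Gen.d)) lc_d_rc_9_1 lc_d_rc_21_2 lc_d_rc_9_1 lc_d_rc_20_2 lc_d_rc_21_2 lc_d_rc_9_1 lc_d_rc_3_1 lc_d_rc_21_2 lc_d_rc_3_1 lc_d_rc_20_2 lc_d_rc_9_1 lc_d_rc_9_1 lc_d_rc_9_1 lc_d_rc_3_1 lc_d_rc_28_3 lc_d_rc_3_1 lc_d_rc_20_2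 lc_d_rc_21_2 lc_d_rc_20_2 lc_d_rc_21_2 lc_d_rc_3_3 lc_d_rc_19_2 lc_d_rc_3_3 lc_d_rc_9_3 lc_d_rc_21_2 lc_d_rc_20_0 lc_d_rc_18_0 lc_d_rc_3_1 lc_d_rc_19_2 lc_d_rc_20_2 lc_d_rc_9_1 lc_d_rc_3_3 lc_d_rc_9_1 lc_d_rc_9_1 lc_d_rc_28_3 lc_d_rc_28_3 lc_d_rc_21_2 lc_d_Cert_tree lc_d_rc_18_0 lc_d_rc_9_3) (@D3.rec (fun _ => (Cert rels S Gen.d)) lc_d_rc_21_2 lc_d_rc_20_0 lc_d_rc_9_1 lc_d_rc_21_0 lc_d_rc_20_2 lc_d_rc_21_2 lc_d_rc_9_1 lc_d_rc_3_1 lc_d_Cert_tree lc_d_rc_20_2 lc_d_rc_28_3 lc_d_rc_9_1 lc_d_rc_9_1 lc_d_rc_20_2 lc_d_rc_9_1 lc_d_rc_20_2 lc_d_rc_18_0 lc_d_rc_20_2 lc_d_rc_9_1 lc_d_rc_9_1 lc_d_rc_3_1 lc_d_Cert_tree lc_d_rc_9_1 lc_d_rc_20_2 lc_d_rc_9_1 lc_d_rc_21_2 lc_d_rc_20_2 lc_d_rc_9_1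 lc_d_rc_20_2 lc_d_rc_3_1 lc_d_rc_3_3 lc_d_rc_9_1 lc_d_rc_9_1 lc_d_rc_9_1 lc_d_rc_9_1 lc_d_rc_3_1 lc_d_rc_20_0 lc_d_rc_20_2 lc_d_rc_3_1 lc_d_rc_20_2) (@D3.rec (fun _ => (Cert rels S Gen.d)) lc_d_rc_21_2 lc_d_rc_21_2 lc_d_rc_3_3 lc_d_rc_19_2 lc_d_rc_21_2 lc_d_rc_9_3 lc_d_rc_20_2 lc_d_rc_18_1 lc_d_rc_18_0 lc_d_rc_3_1 lc_d_rc_19_2 lc_d_rc_21_2 lc_d_rc_9_1 lc_d_rc_3_3 lc_d_rc_9_1 lc_d_rc_9_1 lc_d_rc_20_2 lc_d_rc_21_2 lc_d_rc_20_2 lc_d_rc_3_1 lc_d_rc_20_2 lc_d_rc_9_3 lc_d_rc_21_2 lc_d_rc_20_2 lc_d_rc_9_1 lc_d_rc_3_1 lc_d_Cert_tree lc_d_rc_21_2 lc_d_rc_20_2 lc_d_rc_19_2 lc_d_rc_28_5 lc_d_rc_19_4 lc_d_rc_9_1 lc_d_rc_28_5 lc_d_rc_3_1 lc_d_rc_19_2 lc_d_rc_20_2 lc_d_rc_3_1 lc_d_rc_20_2 lc_d_rc_21_2)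 (@D3.rec (fun _ => (Cert rels S Gen.d)) lc_d_rc_9_1 lc_d_rc_3_1 lc_d_rc_28_5 lc_d_rc_21_2 lc_d_rc_20_2 lc_d_rc_9_1 lc_d_rc_19_4 lc_d_rc_9_1 lc_d_rc_19_0 lc_d_rc_20_2 lc_d_rc_9_1 lc_d_rc_9_1 lc_d_rc_3_1 lc_d_rc_20_2 lc_d_rc_3_1 lc_d_Cert_tree lc_d_rc_21_2 lc_d_rc_18_0 lc_d_rc_20_2 lc_d_rc_19_4 lc_d_rc_9_1 lc_d_rc_3_1 lc_d_rc_21_0 lc_d_rc_21_2 lc_d_rc_28_5 lc_d_rc_3_1 lc_d_rc_3_1 lc_d_rc_9_1 lc_d_rc_21_2 lc_d_rc_3_1 lc_d_rc_28_5 lc_d_rc_20_2 lc_d_rc_9_1 lc_d_rc_19_4 lc_d_rc_19_4 lc_d_rc_3_1 lc_d_rc_21_2 lc_d_rc_9_1 lc_d_rc_9_1 lc_d_rc_9_1) (@D3.rec (fun _ => (Cert rels S Gen.d)) lc_d_rc_3_1 lc_d_Cert_tree lc_d_rc_20_2 lc_d_rc_3_1 lc_d_rc_21_2 lc_d_rc_18_0 lc_d_rc_19_2 lc_d_rc_19_2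 lc_d_rc_9_1 lc_d_rc_9_3 lc_d_rc_9_1 lc_d_rc_3_3 lc_d_rc_19_4 lc_d_rc_3_1 lc_d_rc_9_1 lc_d_rc_21_2 lc_d_rc_14_9 lc_d_rc_9_3 lc_d_rc_9_1 lc_d_rc_20_2 lc_d_rc_3_1 lc_d_rc_19_2 lc_d_rc_9_3 lc_d_rc_21_2 lc_d_rc_18_0 lc_d_rc_19_2 lc_d_rc_9_3 lc_d_rc_18_0 lc_d_rc_18_0 lc_d_rc_3_1 lc_d_rc_9_3 lc_d_rc_20_2 lc_d_rc_18_0 lc_d_rc_19_2 lc_d_rc_18_0 lc_d_rc_18_0 lc_d_Cert_tree lc_d_rc_9_1 lc_d_rc_18_0 lc_d_rc_19_2) (@D3.rec (fun _ => (Cert rels S Gen.d)) lc_d_Cert_tree lc_d_rc_18_0 lc_d_Cert_tree lc_d_Cert_tree lc_d_Cert_tree lc_d_Cert_tree lc_d_rc_18_0 lc_d_rc_20_2 lc_d_rc_19_2 lc_d_Cert_tree lc_d_Cert_tree lc_d_rc_9_1 lc_d_rc_18_0 lc_d_rc_19_2 lc_d_Cert_tree lc_d_rc_18_0 lc_d_Cert_tree lc_d_Cert_tree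 lc_d_Cert_tree lc_d_rc_18_0 lc_d_rc_21_2 lc_d_rc_19_2 lc_d_rc_20_2 lc_d_rc_19_2 lc_d_rc_20_2 lc_d_rc_9_1 lc_d_rc_20_2 lc_d_rc_9_1 lc_d_rc_3_1 lc_d_rc_21_2 lc_d_rc_21_2 lc_d_rc_21_2 lc_d_rc_9_1 lc_d_rc_20_2 lc_d_rc_19_2 lc_d_rc_28_3 lc_d_rc_9_1 lc_d_rc_3_1 lc_d_rc_20_2 lc_d_rc_28_5) (@D3.rec (fun _ => (Cert rels S Gen.d)) lc_d_rc_20_2 lc_d_rc_9_1 lc_d_rc_28_5 lc_d_rc_21_2 lc_d_rc_18_0 lc_d_rc_20_2 lc_d_rc_18_0 lc_d_rc_19_2 lc_d_rc_28_3 lc_d_rc_18_0 lc_d_rc_18_0 lc_d_rc_19_2 lc_d_rc_3_1 lc_d_rc_9_1 lc_d_rc_19_2 lc_d_rc_9_1 lc_d_rc_18_0 lc_d_rc_18_0 lc_d_rc_21_2 lc_d_rc_32_71 lc_d_rc_28_5 lc_d_rc_21_2 lc_d_rc_9_1 lc_d_rc_3_1 lc_d_Cert_tree lc_d_rc_20_2 lc_d_rc_18_0 lc_d_rc_19_2 lc_d_rc_18_0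 lc_d_rc_20_2 lc_d_rc_3_3 lc_d_rc_18_0 lc_d_rc_18_0 lc_d_rc_9_1 lc_d_rc_32_14 lc_d_rc_28_5 lc_d_rc_19_2 lc_d_rc_9_1 lc_d_rc_3_1 lc_d_Cert_tree) (@D3.rec (fun _ => (Cert rels S Gen.d)) lc_d_rc_21_2 lc_d_rc_18_0 lc_d_rc_21_0 lc_d_rc_18_0 lc_d_rc_21_2 lc_d_rc_19_2 lc_d_rc_28_5 lc_d_rc_20_2 lc_d_rc_3_3 lc_d_Cert_tree lc_d_rc_28_5 lc_d_rc_3_1 lc_d_rc_32_43 lc_d_rc_21_2 lc_d_rc_9_1 lc_d_Cert_tree lc_d_rc_28_5 lc_d_rc_3_1 lc_d_rc_3_1 lc_d_Cert_tree lc_d_rc_3_1 lc_d_Cert_tree lc_d_rc_21_2 lc_d_rc_18_0 lc_d_rc_20_2 lc_d_rc_18_0 lc_d_rc_32_43 lc_d_rc_3_3 lc_d_rc_9_1 lc_d_rc_9_1 lc_d_rc_9_3 lc_d_rc_28_3 lc_d_rc_20_0 lc_d_rc_21_2 lc_d_rc_9_1 lc_d_rc_3_1 lc_d_rc_3_1 lc_d_rc_9_1 lc_d_rc_3_1 lc_d_rc_20_2)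 (@D3.rec (fun _ => (Cert rels S Gen.d)) lc_d_rc_9_1 lc_d_rc_19_2 lc_d_rc_3_1 lc_d_rc_21_0 lc_d_rc_20_2 lc_d_rc_9_1 lc_d_rc_21_2 lc_d_rc_3_1 lc_d_rc_9_1 lc_d_rc_32_50 lc_d_rc_21_2 lc_d_rc_9_1 lc_d_rc_19_2 lc_d_rc_3_1 lc_d_rc_3_1 lc_d_rc_21_2 lc_d_rc_9_1 lc_d_rc_28_5 lc_d_rc_9_1 lc_d_Cert_tree lc_d_rc_18_0 lc_d_rc_9_1 lc_d_rc_3_1 lc_d_Cert_tree lc_d_rc_18_0 lc_d_rc_9_1 lc_d_Cert_tree lc_d_rc_18_0 lc_d_rc_9_1 lc_d_rc_3_1 lc_d_Cert_tree lc_d_rc_18_0 lc_d_rc_3_1 lc_d_Cert_tree lc_d_rc_3_1 lc_d_Cert_tree lc_d_rc_19_2 lc_d_rc_9_1 lc_d_rc_28_5 lc_d_rc_18_0)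
def ce_d_18 : D2 → D3 → (Cert rels S Gen.d) := @D2.rec (fun _ => D3 → (Cert rels S Gen.d)) (@D3.rec (fun _ => (Cert rels S Gen.d)) lc_d_rc_3_3 lc_d_rc_18_0 lc_d_rc_3_1 lc_d_rc_21_2 lc_d_rc_3_1 lc_d_rc_3_3 lc_d_Cert_tree lc_d_rc_20_2 lc_d_rc_9_1 lc_d_rc_14_3 lc_d_rc_18_0 lc_d_rc_3_3 lc_d_rc_18_0 lc_d_rc_20_2 lc_d_rc_28_5 lc_d_rc_3_1 lc_d_rc_20_0 lc_d_Cert_tree lc_d_rc_9_1 lc_d_rc_3_1 lc_d_rc_20_2 lc_d_rc_9_1 lc_d_Cert_tree lc_d_rc_9_1 lc_d_rc_3_3 lc_d_rc_28_5 lc_d_rc_18_0 lc_d_rc_3_1 lc_d_rc_21_2 lc_d_rc_3_1 lc_d_rc_9_1 lc_d_rc_18_1 lc_d_rc_28_3 lc_d_rc_20_2 lc_d_rc_9_1 lc_d_rc_3_1 lc_d_rc_18_1 lc_d_rc_28_1 lc_d_rc_20_2 lc_d_rc_21_2) (@D3.rec (fun _ => (Cert rels S Gen.d)) lc_d_rc_9_1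 lc_d_rc_28_1 lc_d_rc_19_2 lc_d_rc_20_2 lc_d_rc_21_2 lc_d_rc_21_2 lc_d_rc_21_2 lc_d_rc_3_3 lc_d_rc_21_0 lc_d_rc_9_1 lc_d_rc_3_1 lc_d_rc_3_1 lc_d_rc_3_3 lc_d_rc_20_2 lc_d_rc_21_2 lc_d_rc_9_3 lc_d_rc_9_1 lc_d_rc_28_5 lc_d_rc_14_3 lc_d_rc_21_2 lc_d_rc_3_1 lc_d_rc_9_1 lc_d_rc_21_2 lc_d_rc_9_1 lc_d_rc_9_1 lc_d_rc_21_2 lc_d_rc_3_1 lc_d_rc_19_2 lc_d_rc_20_2 lc_d_rc_3_1 lc_d_rc_21_2 lc_d_rc_9_1 lc_d_rc_9_1 lc_d_Cert_tree lc_d_rc_20_2 lc_d_rc_3_3 lc_d_rc_28_5 lc_d_rc_18_0 lc_d_rc_19_4 lc_d_rc_3_1) (@D3.rec (fun _ => (Cert rels S Gen.d)) lc_d_rc_3_1 lc_d_rc_9_1 lc_d_rc_18_1 lc_d_rc_28_5 lc_d_rc_21_2 lc_d_rc_9_1 lc_d_rc_3_1 lc_d_rc_21_2 lc_d_rc_28_1 lc_d_rc_20_2 lc_d_rc_21_2 lc_d_rc_9_1 lc_d_rc_28_1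 lc_d_rc_19_2 lc_d_rc_20_2 lc_d_rc_21_2 lc_d_rc_21_2 lc_d_rc_20_2 lc_d_rc_3_3 lc_d_rc_19_2 lc_d_rc_9_1 lc_d_rc_9_1 lc_d_rc_3_1 lc_d_rc_19_4 lc_d_rc_20_2 lc_d_rc_21_2 lc_d_rc_19_4 lc_d_rc_9_1 lc_d_rc_28_3 lc_d_rc_19_2 lc_d_rc_3_3 lc_d_rc_3_1 lc_d_rc_21_0 lc_d_rc_20_2 lc_d_rc_9_1 lc_d_rc_9_1 lc_d_rc_20_2 lc_d_rc_3_1 lc_d_rc_28_3 lc_d_rc_21_2) (@D3.rec (fun _ => (Cert rels S Gen.d)) lc_d_rc_20_2 lc_d_rc_18_0 lc_d_rc_3_1 lc_d_rc_19_2 lc_d_rc_20_2 lc_d_rc_21_2 lc_d_rc_18_0 lc_d_rc_14_3 lc_d_rc_21_2 lc_d_rc_20_2 lc_d_rc_9_1 lc_d_Cert_tree lc_d_rc_9_1 lc_d_rc_20_2 lc_d_rc_21_2 lc_d_rc_9_1 lc_d_rc_28_3 lc_d_rc_18_0 lc_d_rc_19_4 lc_d_rc_18_0 lc_d_rc_28_5 lc_d_rc_9_1 lc_d_rc_9_1 lc_d_rc_3_1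 lc_d_Cert_tree lc_d_rc_21_2 lc_d_rc_9_1 lc_d_rc_20_2 lc_d_rc_21_2 lc_d_rc_20_2 lc_d_rc_9_1 lc_d_rc_20_2 lc_d_rc_21_2 lc_d_rc_28_5 lc_d_rc_9_1 lc_d_rc_9_1 lc_d_rc_3_1 lc_d_rc_3_1 lc_d_rc_21_2 lc_d_rc_3_1) (@D3.rec (fun _ => (Cert rels S Gen.d)) lc_d_rc_19_4 lc_d_rc_9_1 lc_d_rc_20_2 lc_d_rc_9_1 lc_d_rc_28_5 lc_d_rc_3_1 lc_d_Cert_tree lc_d_rc_21_2 lc_d_rc_9_1 lc_d_Cert_tree lc_d_rc_21_2 lc_d_rc_9_1 lc_d_rc_18_0 lc_d_rc_3_1 lc_d_rc_9_1 lc_d_rc_19_2 lc_d_rc_21_2 lc_d_rc_18_0 lc_d_rc_19_2 lc_d_rc_21_2 lc_d_rc_9_1 lc_d_rc_18_0 lc_d_rc_3_3 lc_d_rc_20_2 lc_d_rc_21_2 lc_d_rc_9_1 lc_d_Cert_tree lc_d_rc_9_1 lc_d_rc_20_2 lc_d_rc_21_2 lc_d_rc_9_1 lc_d_rc_28_5 lc_d_rc_18_0 lc_d_rc_19_4 lc_d_rc_18_0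 lc_d_rc_28_5 lc_d_rc_9_1 lc_d_rc_9_1 lc_d_rc_3_1 lc_d_Cert_tree) (@D3.rec (fun _ => (Cert rels S Gen.d)) lc_d_rc_20_2 lc_d_rc_9_1 lc_d_rc_28_7 lc_d_rc_28_7 lc_d_rc_21_2 lc_d_rc_9_1 lc_d_rc_20_2 lc_d_rc_21_2 lc_d_rc_28_5 lc_d_rc_9_1 lc_d_rc_9_1 lc_d_rc_3_1 lc_d_rc_19_0 lc_d_rc_20_2 lc_d_rc_3_1 lc_d_rc_19_4 lc_d_rc_9_1 lc_d_rc_21_2 lc_d_rc_9_1 lc_d_rc_28_5 lc_d_rc_3_1 lc_d_rc_9_1 lc_d_rc_20_2 lc_d_rc_9_1 lc_d_Cert_tree lc_d_rc_20_2 lc_d_rc_9_1 lc_d_rc_3_1 lc_d_rc_9_1 lc_d_rc_19_2 lc_d_rc_18_0 lc_d_Cert_tree lc_d_rc_18_0 lc_d_rc_28_5 lc_d_rc_3_1 lc_d_rc_20_2 lc_d_rc_19_2 lc_d_rc_18_0 lc_d_rc_3_1 lc_d_rc_18_0) (@D3.rec (fun _ => (Cert rels S Gen.d)) lc_d_rc_18_0 lc_d_Cert_tree lc_d_rc_18_0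 lc_d_Cert_tree lc_d_rc_18_0 lc_d_rc_20_2 lc_d_Cert_tree lc_d_rc_9_1 lc_d_rc_20_2 lc_d_rc_9_1 lc_d_rc_3_1 lc_d_rc_20_2 lc_d_rc_9_1 lc_d_rc_3_3 lc_d_rc_28_5 lc_d_rc_19_2 lc_d_rc_9_1 lc_d_rc_3_1 lc_d_rc_19_0 lc_d_Cert_tree lc_d_Cert_tree lc_d_rc_21_2 lc_d_rc_18_0 lc_d_rc_9_1 lc_d_rc_18_0 lc_d_rc_19_4 lc_d_rc_21_0 lc_d_rc_18_0 lc_d_rc_9_3 lc_d_rc_18_0 lc_d_Cert_tree lc_d_rc_28_3 lc_d_rc_20_2 lc_d_rc_9_1 lc_d_Cert_tree lc_d_rc_18_0 lc_d_rc_9_1 lc_d_rc_14_11 lc_d_rc_9_1 lc_d_rc_21_2) (@D3.rec (fun _ => (Cert rels S Gen.d)) lc_d_rc_18_0 lc_d_Cert_tree lc_d_rc_18_0 lc_d_rc_20_2 lc_d_rc_21_2 lc_d_rc_28_5 lc_d_rc_19_2 lc_d_rc_20_2 lc_d_rc_21_2 lc_d_rc_9_1 lc_d_rc_18_0 lc_d_rc_20_2 lc_d_rc_9_1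 lc_d_rc_9_1 lc_d_rc_20_2 lc_d_rc_21_2 lc_d_rc_19_2 lc_d_rc_21_2 lc_d_rc_18_0 lc_d_rc_20_2 lc_d_rc_9_1 lc_d_rc_9_1 lc_d_rc_3_1 lc_d_rc_21_2 lc_d_rc_9_1 lc_d_Cert_tree lc_d_rc_18_0 lc_d_rc_20_2 lc_d_rc_18_0 lc_d_rc_21_2 lc_d_rc_9_1 lc_d_rc_18_0 lc_d_rc_21_2 lc_d_rc_21_2 lc_d_rc_28_7 lc_d_rc_28_5 lc_d_rc_20_2 lc_d_rc_21_2 lc_d_rc_18_0 lc_d_rc_18_0) (@D3.rec (fun _ => (Cert rels S Gen.d)) lc_d_rc_28_7 lc_d_rc_3_1 lc_d_rc_20_2 lc_d_rc_21_2 lc_d_rc_18_0 lc_d_Cert_tree lc_d_rc_20_2 lc_d_rc_21_2 lc_d_rc_20_2 lc_d_rc_21_2 lc_d_rc_9_1 lc_d_rc_21_2 lc_d_rc_21_0 lc_d_Cert_tree lc_d_rc_9_1 lc_d_rc_9_1 lc_d_rc_9_1 lc_d_rc_3_1 lc_d_rc_3_1 lc_d_rc_21_2 lc_d_Cert_tree lc_d_rc_3_1 lc_d_rc_18_0 lc_d_rc_21_2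 lc_d_rc_28_5 lc_d_rc_19_2 lc_d_rc_9_1 lc_d_Cert_tree lc_d_rc_3_1 lc_d_rc_18_0 lc_d_rc_20_2 lc_d_rc_21_2 lc_d_rc_20_2 lc_d_rc_28_5 lc_d_rc_20_2 lc_d_rc_9_1 lc_d_rc_21_2 lc_d_rc_3_1 lc_d_rc_9_1 lc_d_rc_21_2) (@D3.rec (fun _ => (Cert rels S Gen.d)) lc_d_rc_9_1 lc_d_rc_19_4 lc_d_rc_21_2 lc_d_rc_9_1 lc_d_rc_3_1 lc_d_Cert_tree lc_d_rc_9_1 lc_d_Cert_tree lc_d_rc_18_0 lc_d_rc_28_3 lc_d_rc_20_0 lc_d_Cert_tree lc_d_rc_18_0 lc_d_rc_28_5 lc_d_rc_19_2 lc_d_rc_21_2 lc_d_rc_19_2 lc_d_rc_18_0 lc_d_rc_18_0 lc_d_rc_3_1 lc_d_rc_9_1 lc_d_Cert_tree lc_d_rc_18_0 lc_d_Cert_tree lc_d_rc_18_0 lc_d_rc_21_2 lc_d_Cert_tree lc_d_rc_9_1 lc_d_rc_21_2 lc_d_rc_3_1 lc_d_rc_19_2 lc_d_rc_9_1 lc_d_rc_28_5 lc_d_rc_28_5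 lc_d_rc_19_2 lc_d_rc_9_1 lc_d_rc_21_2 lc_d_rc_21_0 lc_d_Cert_tree lc_d_Cert_tree) (@D3.rec (fun _ => (Cert rels S Gen.d)) lc_d_rc_3_3 lc_d_rc_18_0 lc_d_rc_9_1 lc_d_rc_18_0 lc_d_rc_19_4 lc_d_rc_21_2 lc_d_rc_18_0 lc_d_rc_9_3 lc_d_rc_18_0 lc_d_Cert_tree lc_d_rc_20_0 lc_d_rc_21_2 lc_d_rc_9_1 lc_d_Cert_tree lc_d_rc_18_0 lc_d_rc_20_2 lc_d_rc_14_11 lc_d_rc_9_1 lc_d_rc_20_2 lc_d_rc_18_0 lc_d_Cert_tree lc_d_rc_18_0 lc_d_rc_20_2 lc_d_rc_21_2 lc_d_rc_28_5 lc_d_rc_19_2 lc_d_rc_20_2 lc_d_rc_21_2 lc_d_rc_21_0 lc_d_rc_18_0 lc_d_rc_21_2 lc_d_rc_9_1 lc_d_rc_9_1 lc_d_rc_20_2 lc_d_rc_21_2 lc_d_rc_20_2 lc_d_rc_21_2 lc_d_rc_9_1 lc_d_rc_9_1 lc_d_rc_3_1) (@D3.rec (fun _ => (Cert rels S Gen.d)) lc_d_rc_20_2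 lc_d_rc_9_1 lc_d_Cert_tree lc_d_rc_18_0 lc_d_rc_20_0 lc_d_rc_18_0 lc_d_rc_20_2 lc_d_rc_9_1 lc_d_rc_18_0 lc_d_rc_20_2 lc_d_rc_20_2 lc_d_rc_20_0 lc_d_rc_28_5 lc_d_rc_21_2 lc_d_rc_21_2 lc_d_rc_18_0 lc_d_rc_18_0 lc_d_rc_28_5 lc_d_rc_3_1 lc_d_rc_20_2 lc_d_rc_21_2 lc_d_rc_18_0 lc_d_Cert_tree lc_d_rc_28_7 lc_d_rc_28_7 lc_d_rc_20_2 lc_d_rc_21_2 lc_d_rc_21_2 lc_d_rc_9_1 lc_d_rc_21_0 lc_d_rc_9_1 lc_d_Cert_tree lc_d_rc_9_1 lc_d_rc_9_1 lc_d_rc_3_1 lc_d_rc_9_1 lc_d_rc_20_2 lc_d_Cert_tree lc_d_rc_3_1 lc_d_rc_18_0) (@D3.rec (fun _ => (Cert rels S Gen.d)) lc_d_rc_20_2 lc_d_rc_28_5 lc_d_rc_19_2 lc_d_rc_9_1 lc_d_Cert_tree lc_d_rc_18_0 lc_d_rc_20_2 lc_d_rc_28_5 lc_d_rc_21_2 lc_d_rc_9_1 lc_d_rc_20_2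 lc_d_rc_28_1 lc_d_rc_20_2 lc_d_rc_20_2 lc_d_rc_9_1 lc_d_rc_19_4 lc_d_rc_20_2 lc_d_rc_9_1 lc_d_rc_3_1 lc_d_Cert_tree lc_d_rc_9_1 lc_d_Cert_tree lc_d_rc_18_0 lc_d_rc_20_2 lc_d_rc_21_0 lc_d_rc_3_1 lc_d_rc_28_7 lc_d_rc_20_2 lc_d_rc_21_2 lc_d_rc_18_0 lc_d_rc_3_1 lc_d_rc_20_2 lc_d_rc_3_1 lc_d_rc_21_2 lc_d_rc_20_2 lc_d_rc_21_0 lc_d_rc_21_0 lc_d_rc_21_2 lc_d_rc_9_1 lc_d_rc_21_2) (@D3.rec (fun _ => (Cert rels S Gen.d)) lc_d_rc_18_0 lc_d_rc_18_0 lc_d_rc_9_1 lc_d_rc_3_3 lc_d_rc_18_0 lc_d_rc_20_2 lc_d_rc_28_3 lc_d_rc_3_1 lc_d_rc_28_3 lc_d_rc_18_0 lc_d_Cert_tree lc_d_rc_3_3 lc_d_rc_19_2 lc_d_rc_9_1 lc_d_rc_20_2 lc_d_rc_28_3 lc_d_rc_3_1 lc_d_Cert_tree lc_d_rc_18_0 lc_d_rc_9_1 lc_d_rc_3_1 lc_d_rc_9_1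 lc_d_rc_19_4 lc_d_rc_18_0 lc_d_rc_18_0 lc_d_rc_18_0 lc_d_rc_19_2 lc_d_rc_3_1 lc_d_rc_18_0 lc_d_rc_28_5 lc_d_rc_20_2 lc_d_rc_21_2 lc_d_rc_18_0 lc_d_rc_18_0 lc_d_rc_28_3 lc_d_rc_3_1 lc_d_rc_20_2 lc_d_rc_9_1 lc_d_rc_21_2 lc_d_rc_18_0) (@D3.rec (fun _ => (Cert rels S Gen.d)) lc_d_rc_19_4 lc_d_rc_19_2 lc_d_rc_19_2 lc_d_rc_9_1 lc_d_rc_28_3 lc_d_rc_28_3 lc_d_rc_3_1 lc_d_rc_9_1 lc_d_rc_3_3 lc_d_rc_18_0 lc_d_rc_19_4 lc_d_rc_20_2 lc_d_rc_9_1 lc_d_rc_20_2 lc_d_rc_20_2 lc_d_rc_18_0 lc_d_rc_18_1 lc_d_rc_9_1 lc_d_rc_3_1 lc_d_Cert_tree lc_d_rc_21_2 lc_d_rc_9_1 lc_d_rc_3_1 lc_d_rc_20_2 lc_d_rc_3_1 lc_d_rc_20_2 lc_d_rc_20_2 lc_d_rc_19_2 lc_d_rc_21_2 lc_d_Cert_tree lc_d_rc_18_0 lc_d_rc_18_0 lc_d_rc_19_2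 lc_d_rc_21_2 lc_d_rc_20_2 lc_d_rc_9_1 lc_d_rc_18_0 lc_d_rc_19_2 lc_d_Cert_tree lc_d_rc_18_0) (@D3.rec (fun _ => (Cert rels S Gen.d)) lc_d_rc_28_5 lc_d_rc_19_2 lc_d_rc_18_0 lc_d_rc_19_2 lc_d_rc_19_2 lc_d_rc_20_2 lc_d_rc_21_2 lc_d_rc_21_2 lc_d_rc_9_1 lc_d_rc_9_3 lc_d_rc_18_0 lc_d_rc_20_2 lc_d_rc_9_1 lc_d_rc_19_2 lc_d_rc_3_1 lc_d_rc_21_2 lc_d_rc_9_1 lc_d_rc_9_1 lc_d_rc_20_2 lc_d_rc_21_2 lc_d_rc_21_2 lc_d_rc_18_0 lc_d_rc_9_3 lc_d_rc_28_1 lc_d_rc_21_2 lc_d_rc_28_3 lc_d_Cert_tree lc_d_rc_21_2 lc_d_rc_18_0 lc_d_rc_18_0 lc_d_rc_21_2 lc_d_rc_9_1 lc_d_rc_28_1 lc_d_rc_20_2 lc_d_rc_18_0 lc_d_rc_21_2 lc_d_rc_20_2 lc_d_rc_9_1 lc_d_rc_3_1 lc_d_Cert_tree) (@D3.rec (fun _ => (Cert rels S Gen.d))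 lc_d_rc_21_2 lc_d_rc_3_1 lc_d_rc_28_3 lc_d_rc_21_2 lc_d_rc_9_1 lc_d_Cert_tree lc_d_rc_3_1 lc_d_rc_18_0 lc_d_rc_28_5 lc_d_rc_20_2 lc_d_rc_19_2 lc_d_rc_28_5 lc_d_rc_9_1 lc_d_rc_9_1 lc_d_rc_21_2 lc_d_rc_9_1 lc_d_rc_9_1 lc_d_rc_3_3 lc_d_rc_3_1 lc_d_rc_28_3 lc_d_rc_21_2 lc_d_rc_9_1 lc_d_rc_9_1 lc_d_rc_9_1 lc_d_rc_20_2 lc_d_rc_21_2 lc_d_rc_9_1 lc_d_rc_21_2 lc_d_rc_9_1 lc_d_rc_3_1 lc_d_rc_21_2 lc_d_rc_28_1 lc_d_rc_18_0 lc_d_rc_21_2 lc_d_rc_20_2 lc_d_rc_20_2 lc_d_rc_21_2 lc_d_rc_20_2 lc_d_rc_3_1 lc_d_rc_9_1) (@D3.rec (fun _ => (Cert rels S Gen.d)) lc_d_rc_3_1 lc_d_rc_3_1 lc_d_rc_20_2 lc_d_rc_21_2 lc_d_rc_18_0 lc_d_rc_20_2 lc_d_rc_21_2 lc_d_rc_9_1 lc_d_rc_9_1 lc_d_rc_28_3 lc_d_rc_21_2 lc_d_rc_3_1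 lc_d_rc_19_2 lc_d_rc_21_2 lc_d_rc_9_1 lc_d_rc_9_1 lc_d_rc_3_1 lc_d_rc_18_0 lc_d_rc_20_2 lc_d_rc_20_2 lc_d_rc_20_2 lc_d_rc_21_2 lc_d_rc_19_2 lc_d_rc_3_1 lc_d_rc_21_2 lc_d_Cert_tree lc_d_rc_28_1 lc_d_rc_18_0 lc_d_rc_21_2 lc_d_rc_20_2 lc_d_rc_19_4 lc_d_rc_20_2 lc_d_rc_21_2 lc_d_rc_28_3 lc_d_rc_9_1 lc_d_Cert_tree lc_d_rc_28_5 lc_d_rc_28_5 lc_d_rc_18_0 lc_d_rc_19_4) (@D3.rec (fun _ => (Cert rels S Gen.d)) lc_d_rc_21_2 lc_d_rc_21_2 lc_d_rc_21_0 lc_d_rc_21_2 lc_d_rc_9_1 lc_d_rc_9_1 lc_d_rc_28_1 lc_d_rc_9_1 lc_d_rc_28_5 lc_d_rc_20_2 lc_d_rc_9_1 lc_d_rc_20_2 lc_d_rc_3_1 lc_d_rc_9_1 lc_d_rc_20_2 lc_d_rc_3_1 lc_d_Cert_tree lc_d_rc_21_0 lc_d_rc_21_0 lc_d_rc_3_1 lc_d_rc_18_0 lc_d_rc_20_2 lc_d_rc_21_2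 lc_d_rc_21_2 lc_d_rc_21_2 lc_d_rc_3_1 lc_d_rc_21_2 lc_d_rc_3_1 lc_d_rc_21_2 lc_d_rc_3_1 lc_d_rc_28_7 lc_d_rc_20_2 lc_d_rc_9_1 lc_d_rc_20_2 lc_d_rc_3_1 lc_d_rc_20_2 lc_d_rc_21_2 lc_d_rc_18_0 lc_d_rc_9_1 lc_d_rc_3_3) (@D3.rec (fun _ => (Cert rels S Gen.d)) lc_d_rc_18_0 lc_d_rc_28_3 lc_d_rc_3_1 lc_d_rc_18_0 lc_d_Cert_tree lc_d_rc_9_1 lc_d_rc_21_2 lc_d_rc_9_1 lc_d_rc_21_2 lc_d_rc_3_3 lc_d_Cert_tree lc_d_rc_18_0 lc_d_rc_9_1 lc_d_rc_3_1 lc_d_rc_9_1 lc_d_rc_3_3 lc_d_rc_18_0 lc_d_rc_18_0 lc_d_rc_14_11 lc_d_rc_3_1 lc_d_rc_18_0 lc_d_rc_18_0 lc_d_rc_28_5 lc_d_rc_21_2 lc_d_rc_9_3 lc_d_rc_18_0 lc_d_rc_18_0 lc_d_rc_28_3 lc_d_rc_3_1 lc_d_rc_21_2 lc_d_rc_9_3 lc_d_rc_18_0 lc_d_rc_19_4 lc_d_rc_19_2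 lc_d_rc_19_2 lc_d_rc_9_1 lc_d_rc_28_3 lc_d_rc_28_1 lc_d_rc_18_0 lc_d_rc_9_3) (@D3.rec (fun _ => (Cert rels S Gen.d)) lc_d_rc_21_2 lc_d_rc_21_2 lc_d_rc_21_2 lc_d_rc_18_0 lc_d_rc_9_1 lc_d_rc_9_1 lc_d_rc_3_1 lc_d_Cert_tree lc_d_rc_20_2 lc_d_rc_9_1 lc_d_rc_3_1 lc_d_rc_21_2 lc_d_rc_21_2 lc_d_rc_28_7 lc_d_rc_19_2 lc_d_rc_20_0 lc_d_rc_20_2 lc_d_Cert_tree lc_d_rc_18_0 lc_d_rc_18_0 lc_d_rc_19_2 lc_d_rc_21_2 lc_d_rc_9_1 lc_d_rc_18_0 lc_d_rc_3_3 lc_d_Cert_tree lc_d_rc_18_0 lc_d_rc_28_3 lc_d_rc_18_0 lc_d_rc_9_3 lc_d_rc_19_2 lc_d_rc_20_2 lc_d_rc_21_2 lc_d_rc_9_1 lc_d_rc_3_1 lc_d_rc_9_3 lc_d_rc_18_0 lc_d_rc_20_2 lc_d_rc_9_1 lc_d_rc_20_2) (@D3.rec (fun _ => (Cert rels S Gen.d)) lc_d_rc_20_2 lc_d_rc_18_0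 lc_d_rc_21_0 lc_d_rc_20_2 lc_d_rc_28_3 lc_d_Cert_tree lc_d_rc_20_2 lc_d_rc_18_0 lc_d_rc_28_7 lc_d_rc_21_2 lc_d_rc_18_0 lc_d_rc_20_2 lc_d_rc_21_2 lc_d_rc_3_1 lc_d_Cert_tree lc_d_rc_20_2 lc_d_rc_3_1 lc_d_rc_21_2 lc_d_rc_20_2 lc_d_rc_9_1 lc_d_Cert_tree lc_d_rc_3_1 lc_d_rc_18_0 lc_d_rc_28_5 lc_d_rc_21_2 lc_d_rc_19_2 lc_d_rc_28_5 lc_d_rc_9_1 lc_d_rc_19_4 lc_d_rc_20_2 lc_d_rc_9_1 lc_d_rc_9_1 lc_d_rc_19_2 lc_d_rc_3_1 lc_d_rc_3_1 lc_d_rc_20_2 lc_d_rc_3_3 lc_d_rc_9_1 lc_d_rc_20_2 lc_d_rc_9_1) (@D3.rec (fun _ => (Cert rels S Gen.d)) lc_d_rc_9_1 lc_d_rc_21_2 lc_d_rc_20_2 lc_d_rc_3_1 lc_d_rc_21_2 lc_d_rc_9_1 lc_d_rc_3_1 lc_d_rc_3_1 lc_d_rc_20_2 lc_d_rc_18_0 lc_d_rc_20_2 lc_d_rc_21_2 lc_d_rc_9_1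 lc_d_rc_20_2 lc_d_rc_9_1 lc_d_rc_21_2 lc_d_rc_3_1 lc_d_rc_19_2 lc_d_rc_20_2 lc_d_rc_9_1 lc_d_rc_20_2 lc_d_rc_18_0 lc_d_rc_21_2 lc_d_rc_20_2 lc_d_rc_19_2 lc_d_rc_21_2 lc_d_Cert_tree lc_d_rc_28_1 lc_d_rc_18_0 lc_d_rc_20_2 lc_d_rc_28_5 lc_d_rc_3_3 lc_d_rc_20_2 lc_d_rc_21_2 lc_d_rc_21_2 lc_d_rc_9_1 lc_d_Cert_tree lc_d_rc_28_5 lc_d_rc_28_5 lc_d_rc_18_0) (@D3.rec (fun _ => (Cert rels S Gen.d)) lc_d_rc_20_2 lc_d_rc_19_4 lc_d_rc_21_2 lc_d_rc_21_0 lc_d_rc_20_2 lc_d_rc_20_2 lc_d_rc_9_1 lc_d_rc_20_2 lc_d_rc_28_5 lc_d_rc_21_2 lc_d_rc_9_1 lc_d_rc_9_1 lc_d_rc_3_1 lc_d_rc_9_1 lc_d_rc_20_2 lc_d_rc_3_1 lc_d_Cert_tree lc_d_rc_3_3 lc_d_rc_20_0 lc_d_rc_3_1 lc_d_rc_18_0 lc_d_rc_21_2 lc_d_rc_20_2 lc_d_rc_19_2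 lc_d_rc_20_2 lc_d_rc_20_2 lc_d_rc_20_2 lc_d_rc_19_2 lc_d_rc_21_2 lc_d_rc_9_1 lc_d_rc_9_1 lc_d_Cert_tree lc_d_rc_28_3 lc_d_rc_28_3 lc_d_rc_3_3 lc_d_rc_18_0 lc_d_rc_9_3 lc_d_rc_9_1 lc_d_rc_21_2 lc_d_rc_18_0) (@D3.rec (fun _ => (Cert rels S Gen.d)) lc_d_rc_19_2 lc_d_rc_21_2 lc_d_rc_21_2 lc_d_rc_20_2 lc_d_rc_3_1 lc_d_rc_3_1 lc_d_rc_3_1 lc_d_rc_14_9 lc_d_rc_19_4 lc_d_rc_21_2 lc_d_rc_28_1 lc_d_rc_20_0 lc_d_rc_3_1 lc_d_rc_28_3 lc_d_rc_28_3 lc_d_rc_21_2 lc_d_rc_9_1 lc_d_rc_21_2 lc_d_rc_3_1 lc_d_rc_28_1 lc_d_rc_18_0 lc_d_rc_9_3 lc_d_rc_28_7 lc_d_rc_21_2 lc_d_Cert_tree lc_d_rc_20_2 lc_d_rc_21_2 lc_d_rc_18_0 lc_d_rc_28_3 lc_d_rc_19_4 lc_d_rc_9_1 lc_d_rc_9_1 lc_d_rc_3_1 lc_d_rc_32_71 lc_d_rc_21_2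 lc_d_rc_18_0 lc_d_rc_9_1 lc_d_Cert_tree lc_d_rc_28_7 lc_d_rc_28_7) (@D3.rec (fun _ => (Cert rels S Gen.d)) lc_d_rc_18_0 lc_d_rc_19_4 lc_d_rc_20_2 lc_d_rc_21_2 lc_d_rc_9_1 lc_d_rc_3_1 lc_d_rc_21_2 lc_d_rc_28_7 lc_d_rc_20_2 lc_d_rc_28_3 lc_d_rc_9_1 lc_d_rc_20_2 lc_d_rc_9_1 lc_d_rc_9_1 lc_d_rc_9_1 lc_d_rc_20_2 lc_d_rc_3_1 lc_d_rc_9_1 lc_d_rc_21_2 lc_d_Cert_tree lc_d_rc_18_0 lc_d_rc_21_2 lc_d_rc_9_1 lc_d_rc_21_2 lc_d_rc_21_2 lc_d_rc_9_1 lc_d_rc_3_1 lc_d_rc_21_0 lc_d_rc_3_3 lc_d_rc_21_2 lc_d_rc_20_2 lc_d_rc_9_1 lc_d_rc_21_0 lc_d_rc_20_0 lc_d_rc_3_1 lc_d_rc_3_1 lc_d_rc_19_2 lc_d_rc_14_11 lc_d_rc_21_2 lc_d_rc_21_2)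
def ce_d_19 : D2 → D3 → (Cert rels S Gen.d) := @D2.rec (fun _ => D3 → (Cert rels S Gen.d)) (@D3.rec (fun _ => (Cert rels S Gen.d)) lc_d_rc_21_2 lc_d_rc_19_2 lc_d_rc_28_7 lc_d_rc_9_1 lc_d_rc_9_1 lc_d_Cert_tree lc_d_rc_28_3 lc_d_rc_28_3 lc_d_rc_3_3 lc_d_rc_18_0 lc_d_rc_9_3 lc_d_rc_9_1 lc_d_rc_20_2 lc_d_rc_18_0 lc_d_rc_20_2 lc_d_rc_19_2 lc_d_rc_21_2 lc_d_rc_20_2 lc_d_rc_9_3 lc_d_rc_3_1 lc_d_rc_3_1 lc_d_rc_19_4 lc_d_rc_3_3 lc_d_rc_21_2 lc_d_rc_20_2 lc_d_rc_9_1 lc_d_rc_19_2 lc_d_rc_28_3 lc_d_rc_28_3 lc_d_rc_20_2 lc_d_rc_21_2 lc_d_rc_9_1 lc_d_rc_3_1 lc_d_rc_28_1 lc_d_rc_18_0 lc_d_rc_9_3 lc_d_rc_20_2 lc_d_rc_28_5 lc_d_Cert_tree lc_d_rc_20_2) (@D3.rec (fun _ => (Cert rels S Gen.d)) lc_d_rc_21_2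 lc_d_rc_18_0 lc_d_rc_21_2 lc_d_rc_9_1 lc_d_rc_9_1 lc_d_rc_9_1 lc_d_rc_19_2 lc_d_rc_20_2 lc_d_rc_9_1 lc_d_rc_18_0 lc_d_rc_9_1 lc_d_Cert_tree lc_d_rc_28_7 lc_d_rc_28_7 lc_d_rc_18_0 lc_d_rc_28_5 lc_d_rc_19_4 lc_d_rc_9_1 lc_d_rc_21_2 lc_d_rc_3_1 lc_d_rc_20_2 lc_d_rc_21_0 lc_d_rc_20_0 lc_d_rc_20_2 lc_d_rc_21_2 lc_d_rc_9_1 lc_d_rc_9_1 lc_d_rc_9_1 lc_d_rc_9_1 lc_d_rc_3_1 lc_d_rc_21_2 lc_d_rc_20_2 lc_d_rc_21_2 lc_d_Cert_tree lc_d_rc_18_0 lc_d_rc_20_2 lc_d_rc_20_2 lc_d_rc_9_1 lc_d_rc_3_1 lc_d_rc_21_2) (@D3.rec (fun _ => (Cert rels S Gen.d)) lc_d_rc_3_1 lc_d_rc_9_1 lc_d_rc_3_1 lc_d_rc_20_0 lc_d_rc_3_3 lc_d_rc_20_2 lc_d_rc_20_0 lc_d_rc_20_0 lc_d_rc_3_1 lc_d_rc_3_1 lc_d_rc_19_2 lc_d_rc_21_0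 lc_d_rc_21_2 lc_d_rc_28_7 lc_d_rc_3_1 lc_d_rc_3_1 lc_d_rc_3_1 lc_d_rc_21_2 lc_d_rc_20_2 lc_d_rc_21_2 lc_d_rc_20_2 lc_d_rc_21_2 lc_d_rc_9_1 lc_d_rc_9_1 lc_d_rc_19_4 lc_d_rc_28_7 lc_d_rc_28_7 lc_d_rc_20_2 lc_d_rc_21_2 lc_d_rc_21_2 lc_d_rc_21_0 lc_d_rc_9_1 lc_d_rc_28_7 lc_d_rc_3_1 lc_d_rc_3_1 lc_d_rc_3_1 lc_d_rc_20_2 lc_d_rc_20_2 lc_d_rc_20_2 lc_d_rc_21_2) (@D3.rec (fun _ => (Cert rels S Gen.d)) lc_d_rc_9_1 lc_d_rc_9_1 lc_d_rc_19_4 lc_d_rc_28_7 lc_d_rc_3_1 lc_d_rc_20_2 lc_d_rc_9_3 lc_d_rc_21_2 lc_d_rc_21_0 lc_d_rc_9_1 lc_d_rc_20_2 lc_d_rc_20_2 lc_d_rc_20_2 lc_d_rc_21_2 lc_d_rc_20_2 lc_d_rc_9_1 lc_d_rc_20_2 lc_d_rc_3_1 lc_d_Cert_tree lc_d_rc_20_2 lc_d_rc_3_1 lc_d_rc_19_2 lc_d_rc_21_2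 lc_d_rc_3_1 lc_d_rc_19_2 lc_d_rc_3_1 lc_d_rc_19_2 lc_d_rc_21_2 lc_d_rc_9_1 lc_d_rc_21_2 lc_d_rc_3_1 lc_d_Cert_tree lc_d_rc_21_2 lc_d_rc_3_1 lc_d_rc_9_1 lc_d_rc_20_2 lc_d_rc_3_1 lc_d_rc_32_30 lc_d_rc_3_1 lc_d_rc_19_2) (@D3.rec (fun _ => (Cert rels S Gen.d)) lc_d_rc_21_2 lc_d_rc_18_1 lc_d_rc_9_3 lc_d_rc_21_2 lc_d_rc_3_1 lc_d_rc_9_1 lc_d_rc_19_2 lc_d_rc_3_1 lc_d_rc_19_2 lc_d_rc_3_3 lc_d_rc_18_0 lc_d_rc_19_2 lc_d_rc_3_1 lc_d_rc_28_7 lc_d_rc_3_3 lc_d_rc_18_0 lc_d_rc_20_2 lc_d_rc_18_0 lc_d_rc_21_2 lc_d_rc_21_0 lc_d_rc_20_2 lc_d_rc_21_2 lc_d_rc_9_1 lc_d_rc_20_2 lc_d_rc_20_2 lc_d_rc_9_1 lc_d_rc_21_2 lc_d_rc_3_1 lc_d_rc_28_1 lc_d_Cert_tree lc_d_rc_18_0 lc_d_rc_21_2 lc_d_rc_19_2 lc_d_rc_3_3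 lc_d_rc_18_0 lc_d_rc_20_2 lc_d_rc_21_2 lc_d_rc_20_2 lc_d_rc_21_2 lc_d_rc_19_4) (@D3.rec (fun _ => (Cert rels S Gen.d)) lc_d_rc_20_2 lc_d_rc_21_2 lc_d_rc_18_0 lc_d_Cert_tree lc_d_rc_18_0 lc_d_rc_20_2 lc_d_rc_21_2 lc_d_rc_20_2 lc_d_rc_21_2 lc_d_rc_18_0 lc_d_rc_20_2 lc_d_rc_20_2 lc_d_rc_21_2 lc_d_rc_21_2 lc_d_rc_14_3 lc_d_rc_21_2 lc_d_rc_3_1 lc_d_rc_28_1 lc_d_rc_9_1 lc_d_rc_20_2 lc_d_rc_21_2 lc_d_rc_9_1 lc_d_rc_19_2 lc_d_rc_21_2 lc_d_rc_20_2 lc_d_rc_21_2 lc_d_rc_3_1 lc_d_rc_19_2 lc_d_rc_19_2 lc_d_rc_3_3 lc_d_rc_18_0 lc_d_rc_19_2 lc_d_rc_18_0 lc_d_rc_19_4 lc_d_rc_18_0 lc_d_rc_19_4 lc_d_rc_18_0 lc_d_rc_20_2 lc_d_rc_9_1 lc_d_rc_20_2) (@D3.rec (fun _ => (Cert rels S Gen.d)) lc_d_rc_21_2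 lc_d_rc_21_2 lc_d_rc_9_1 lc_d_rc_21_2 lc_d_rc_9_1 lc_d_rc_20_2 lc_d_rc_3_1 lc_d_rc_20_2 lc_d_rc_19_2 lc_d_rc_18_0 lc_d_rc_20_2 lc_d_rc_21_2 lc_d_rc_21_2 lc_d_rc_3_1 lc_d_rc_28_1 lc_d_rc_9_1 lc_d_rc_19_2 lc_d_rc_20_2 lc_d_rc_18_0 lc_d_rc_21_2 lc_d_rc_9_1 lc_d_rc_21_2 lc_d_rc_28_5 lc_d_Cert_tree lc_d_rc_18_0 lc_d_rc_18_0 lc_d_rc_21_2 lc_d_rc_3_3 lc_d_rc_21_2 lc_d_Cert_tree lc_d_rc_21_2 lc_d_rc_9_1 lc_d_Cert_tree lc_d_rc_18_0 lc_d_rc_20_2 lc_d_rc_9_1 lc_d_rc_20_2 lc_d_rc_20_0 lc_d_rc_18_0 lc_d_rc_20_2) (@D3.rec (fun _ => (Cert rels S Gen.d)) lc_d_rc_9_1 lc_d_rc_20_2 lc_d_rc_28_5 lc_d_Cert_tree lc_d_rc_18_0 lc_d_rc_18_0 lc_d_rc_20_2 lc_d_rc_28_5 lc_d_rc_20_2 lc_d_Cert_tree lc_d_rc_20_2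 lc_d_rc_9_1 lc_d_Cert_tree lc_d_rc_18_0 lc_d_rc_28_5 lc_d_rc_9_1 lc_d_rc_21_2 lc_d_rc_19_2 lc_d_rc_18_0 lc_d_rc_18_0 lc_d_rc_18_1 lc_d_rc_20_2 lc_d_rc_21_2 lc_d_rc_9_1 lc_d_rc_9_1 lc_d_rc_28_5 lc_d_rc_21_2 lc_d_rc_9_1 lc_d_rc_3_3 lc_d_rc_3_3 lc_d_rc_28_5 lc_d_rc_9_1 lc_d_rc_28_5 lc_d_rc_20_2 lc_d_rc_9_1 lc_d_rc_18_0 lc_d_rc_18_0 lc_d_rc_18_1 lc_d_rc_3_1 lc_d_rc_9_1) (@D3.rec (fun _ => (Cert rels S Gen.d)) lc_d_rc_28_5 lc_d_rc_3_3 lc_d_rc_9_1 lc_d_rc_28_5 lc_d_rc_9_1 lc_d_rc_20_2 lc_d_rc_18_0 lc_d_rc_20_2 lc_d_rc_19_2 lc_d_Cert_tree lc_d_rc_18_0 lc_d_rc_20_0 lc_d_rc_9_1 lc_d_rc_21_2 lc_d_rc_18_0 lc_d_rc_21_2 lc_d_rc_21_2 lc_d_Cert_tree lc_d_rc_18_0 lc_d_rc_28_7 lc_d_rc_21_2 lc_d_rc_3_3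 lc_d_rc_21_2 lc_d_rc_18_0 lc_d_rc_21_2 lc_d_rc_28_5 lc_d_rc_19_2 lc_d_rc_21_2 lc_d_rc_21_2 lc_d_rc_28_5 lc_d_rc_20_2 lc_d_rc_18_0 lc_d_rc_20_2 lc_d_rc_21_0 lc_d_rc_19_2 lc_d_rc_20_2 lc_d_rc_20_2 lc_d_rc_20_2 lc_d_rc_9_1 lc_d_rc_18_0) (@D3.rec (fun _ => (Cert rels S Gen.d)) lc_d_rc_9_1 lc_d_rc_20_2 lc_d_rc_9_1 lc_d_rc_21_0 lc_d_rc_21_2 lc_d_rc_9_1 lc_d_rc_18_0 lc_d_rc_19_2 lc_d_rc_19_4 lc_d_rc_9_1 lc_d_rc_20_0 lc_d_rc_28_3 lc_d_rc_18_0 lc_d_rc_20_2 lc_d_rc_19_2 lc_d_rc_18_0 lc_d_rc_21_2 lc_d_rc_21_2 lc_d_rc_18_0 lc_d_rc_20_0 lc_d_rc_21_2 lc_d_rc_9_1 lc_d_rc_18_0 lc_d_rc_20_0 lc_d_rc_20_2 lc_d_rc_21_2 lc_d_rc_21_2 lc_d_rc_18_0 lc_d_Cert_tree lc_d_rc_9_3 lc_d_rc_18_0 lc_d_Cert_tree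 lc_d_rc_3_1 lc_d_rc_18_1 lc_d_rc_20_2 lc_d_rc_28_3 lc_d_rc_9_1 lc_d_rc_3_1 lc_d_rc_18_1 lc_d_rc_21_2) (@D3.rec (fun _ => (Cert rels S Gen.d)) lc_d_rc_20_2 lc_d_rc_19_4 lc_d_rc_18_0 lc_d_rc_18_0 lc_d_rc_20_2 lc_d_rc_9_1 lc_d_rc_3_3 lc_d_rc_21_2 lc_d_rc_19_2 lc_d_rc_19_2 lc_d_rc_9_1 lc_d_rc_9_1 lc_d_rc_19_2 lc_d_rc_28_5 lc_d_rc_9_1 lc_d_rc_20_2 lc_d_rc_21_2 lc_d_rc_9_3 lc_d_rc_9_1 lc_d_rc_28_5 lc_d_rc_9_1 lc_d_rc_21_2 lc_d_rc_9_1 lc_d_rc_9_1 lc_d_rc_3_3 lc_d_rc_19_2 lc_d_rc_9_1 lc_d_rc_9_1 lc_d_rc_28_5 lc_d_rc_9_3 lc_d_rc_28_5 lc_d_rc_9_1 lc_d_rc_20_2 lc_d_rc_21_2 lc_d_rc_9_3 lc_d_rc_9_1 lc_d_rc_28_5 lc_d_rc_9_1 lc_d_rc_18_0 lc_d_rc_14_5) (@D3.rec (fun _ => (Cert rels S Gen.d)) lc_d_rc_20_0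 lc_d_rc_19_4 lc_d_rc_18_0 lc_d_rc_21_2 lc_d_rc_21_0 lc_d_rc_19_4 lc_d_rc_21_2 lc_d_rc_9_1 lc_d_rc_20_2 lc_d_rc_21_2 lc_d_rc_9_1 lc_d_rc_9_1 lc_d_rc_20_2 lc_d_rc_21_2 lc_d_rc_21_2 lc_d_rc_21_2 lc_d_rc_3_1 lc_d_rc_20_2 lc_d_rc_3_1 lc_d_rc_3_1 lc_d_rc_21_2 lc_d_rc_9_1 lc_d_rc_14_11 lc_d_rc_9_1 lc_d_rc_3_1 lc_d_rc_20_2 lc_d_rc_21_0 lc_d_rc_20_2 lc_d_rc_9_1 lc_d_rc_14_3 lc_d_rc_9_1 lc_d_rc_3_1 lc_d_rc_21_2 lc_d_rc_20_0 lc_d_rc_21_2 lc_d_rc_20_2 lc_d_rc_21_2 lc_d_Cert_tree lc_d_rc_28_3 lc_d_Cert_tree) (@D3.rec (fun _ => (Cert rels S Gen.d)) lc_d_rc_18_0 lc_d_rc_21_2 lc_d_rc_18_0 lc_d_rc_21_2 lc_d_rc_28_1 lc_d_rc_20_2 lc_d_rc_20_0 lc_d_rc_3_3 lc_d_rc_20_2 lc_d_Cert_tree lc_d_rc_21_2 lc_d_Cert_tree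 lc_d_rc_18_0 lc_d_rc_20_2 lc_d_rc_18_0 lc_d_rc_21_0 lc_d_rc_28_1 lc_d_rc_19_4 lc_d_rc_21_0 lc_d_rc_9_3 lc_d_rc_28_3 lc_d_rc_21_0 lc_d_rc_3_1 lc_d_rc_28_3 lc_d_rc_21_2 lc_d_rc_18_0 lc_d_rc_21_2 lc_d_rc_18_0 lc_d_rc_18_0 lc_d_rc_14_11 lc_d_rc_21_2 lc_d_rc_28_3 lc_d_rc_9_1 lc_d_rc_3_1 lc_d_rc_21_2 lc_d_rc_20_2 lc_d_rc_18_0 lc_d_rc_21_2 lc_d_rc_18_0 lc_d_rc_18_0) (@D3.rec (fun _ => (Cert rels S Gen.d)) lc_d_rc_14_11 lc_d_rc_20_2 lc_d_Cert_tree lc_d_rc_18_0 lc_d_rc_20_2 lc_d_rc_18_0 lc_d_rc_28_5 lc_d_rc_9_3 lc_d_rc_20_2 lc_d_rc_20_0 lc_d_Cert_tree lc_d_rc_18_0 lc_d_rc_20_2 lc_d_rc_21_2 lc_d_rc_28_1 lc_d_Cert_tree lc_d_rc_18_0 lc_d_rc_9_1 lc_d_rc_19_2 lc_d_rc_21_2 lc_d_rc_9_1 lc_d_rc_3_1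 lc_d_Cert_tree lc_d_rc_18_0 lc_d_rc_21_2 lc_d_rc_18_0 lc_d_rc_28_5 lc_d_rc_9_3 lc_d_rc_21_2 lc_d_rc_21_0 lc_d_Cert_tree lc_d_rc_18_0 lc_d_rc_20_2 lc_d_rc_21_2 lc_d_rc_28_1 lc_d_Cert_tree lc_d_rc_18_0 lc_d_rc_9_1 lc_d_rc_19_2 lc_d_rc_20_2) (@D3.rec (fun _ => (Cert rels S Gen.d)) lc_d_rc_9_1 lc_d_rc_3_1 lc_d_rc_20_2 lc_d_rc_9_1 lc_d_rc_18_0 lc_d_Cert_tree lc_d_rc_18_0 lc_d_rc_21_2 lc_d_rc_19_2 lc_d_rc_9_1 lc_d_rc_3_1 lc_d_rc_20_0 lc_d_rc_20_2 lc_d_rc_9_1 lc_d_rc_18_0 lc_d_rc_9_1 lc_d_rc_21_2 lc_d_rc_20_0 lc_d_rc_20_2 lc_d_rc_28_3 lc_d_rc_20_2 lc_d_rc_18_0 lc_d_Cert_tree lc_d_rc_3_3 lc_d_rc_9_1 lc_d_rc_19_2 lc_d_rc_19_2 lc_d_rc_21_0 lc_d_rc_3_1 lc_d_rc_19_2 lc_d_rc_3_1 lc_d_rc_9_1 lc_d_rc_20_0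 lc_d_rc_3_1 lc_d_rc_9_1 lc_d_rc_21_2 lc_d_rc_3_1 lc_d_rc_21_2 lc_d_rc_3_1 lc_d_rc_21_0) (@D3.rec (fun _ => (Cert rels S Gen.d)) lc_d_rc_21_2 lc_d_rc_21_0 lc_d_rc_9_1 lc_d_Cert_tree lc_d_rc_18_0 lc_d_rc_21_2 lc_d_rc_9_3 lc_d_rc_18_0 lc_d_rc_21_2 lc_d_rc_21_2 lc_d_rc_3_3 lc_d_rc_18_0 lc_d_rc_18_0 lc_d_rc_19_2 lc_d_rc_3_1 lc_d_rc_20_2 lc_d_rc_21_2 lc_d_rc_9_1 lc_d_rc_18_0 lc_d_rc_9_1 lc_d_rc_21_2 lc_d_rc_3_1 lc_d_Cert_tree lc_d_rc_18_0 lc_d_Cert_tree lc_d_rc_18_0 lc_d_rc_21_2 lc_d_rc_18_0 lc_d_rc_3_1 lc_d_Cert_tree lc_d_rc_21_2 lc_d_rc_21_2 lc_d_rc_21_2 lc_d_rc_9_1 lc_d_rc_18_0 lc_d_Cert_tree lc_d_rc_20_2 lc_d_rc_21_2 lc_d_rc_9_1 lc_d_rc_18_0) (@D3.rec (fun _ => (Cert rels S Gen.d))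 lc_d_rc_9_1 lc_d_rc_21_2 lc_d_rc_28_3 lc_d_rc_18_0 lc_d_Cert_tree lc_d_rc_21_2 lc_d_rc_9_1 lc_d_rc_19_2 lc_d_rc_9_1 lc_d_rc_3_1 lc_d_rc_20_2 lc_d_rc_3_1 lc_d_rc_21_2 lc_d_Cert_tree lc_d_rc_18_0 lc_d_rc_20_2 lc_d_rc_20_2 lc_d_rc_18_0 lc_d_rc_18_0 lc_d_rc_18_0 lc_d_rc_9_1 lc_d_rc_19_2 lc_d_rc_20_2 lc_d_rc_21_2 lc_d_rc_3_3 lc_d_rc_18_0 lc_d_rc_18_0 lc_d_rc_3_1 lc_d_rc_19_2 lc_d_rc_3_1 lc_d_rc_20_2 lc_d_rc_3_1 lc_d_rc_19_2 lc_d_rc_20_2 lc_d_rc_28_7 lc_d_rc_21_2 lc_d_rc_19_4 lc_d_rc_21_2 lc_d_rc_3_1 lc_d_rc_9_1) (@D3.rec (fun _ => (Cert rels S Gen.d)) lc_d_rc_21_2 lc_d_rc_28_5 lc_d_rc_20_2 lc_d_rc_18_0 lc_d_rc_21_2 lc_d_rc_20_2 lc_d_rc_21_2 lc_d_rc_9_1 lc_d_rc_21_2 lc_d_rc_20_2 lc_d_rc_19_2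 lc_d_rc_9_1 lc_d_rc_18_0 lc_d_rc_9_1 lc_d_rc_21_2 lc_d_rc_9_1 lc_d_rc_20_2 lc_d_rc_14_5 lc_d_rc_19_2 lc_d_rc_21_2 lc_d_rc_28_1 lc_d_rc_9_1 lc_d_rc_20_2 lc_d_rc_21_2 lc_d_rc_28_3 lc_d_rc_9_1 lc_d_rc_21_2 lc_d_rc_9_1 lc_d_rc_9_1 lc_d_rc_19_4 lc_d_rc_20_2 lc_d_rc_21_2 lc_d_rc_18_0 lc_d_rc_9_1 lc_d_rc_21_2 lc_d_rc_9_1 lc_d_rc_3_3 lc_d_rc_3_1 lc_d_rc_19_2 lc_d_rc_20_2) (@D3.rec (fun _ => (Cert rels S Gen.d)) lc_d_rc_9_1 lc_d_rc_20_2 lc_d_rc_21_2 lc_d_rc_20_2 lc_d_rc_9_1 lc_d_rc_9_1 lc_d_rc_19_2 lc_d_rc_3_1 lc_d_rc_21_2 lc_d_rc_28_7 lc_d_rc_3_1 lc_d_rc_3_1 lc_d_rc_21_2 lc_d_rc_9_1 lc_d_rc_21_2 lc_d_rc_19_2 lc_d_rc_3_1 lc_d_rc_9_1 lc_d_rc_20_2 lc_d_rc_28_5 lc_d_rc_28_3 lc_d_rc_18_0 lc_d_rc_3_3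 lc_d_rc_21_2 lc_d_rc_28_3 lc_d_rc_9_1 lc_d_rc_20_2 lc_d_rc_21_2 lc_d_rc_19_2 lc_d_rc_9_1 lc_d_rc_18_0 lc_d_rc_18_0 lc_d_rc_20_2 lc_d_rc_3_3 lc_d_rc_21_2 lc_d_rc_19_2 lc_d_rc_3_3 lc_d_rc_28_1 lc_d_rc_20_2 lc_d_rc_3_1) (@D3.rec (fun _ => (Cert rels S Gen.d)) lc_d_rc_20_2 lc_d_rc_21_2 lc_d_rc_28_3 lc_d_rc_20_2 lc_d_rc_9_1 lc_d_rc_9_1 lc_d_rc_9_1 lc_d_rc_19_4 lc_d_rc_20_2 lc_d_rc_21_2 lc_d_rc_18_0 lc_d_rc_9_1 lc_d_rc_21_2 lc_d_rc_9_1 lc_d_rc_3_3 lc_d_rc_3_1 lc_d_rc_28_7 lc_d_rc_21_2 lc_d_rc_18_0 lc_d_rc_20_2 lc_d_rc_21_2 lc_d_rc_20_2 lc_d_rc_9_1 lc_d_rc_9_1 lc_d_rc_18_0 lc_d_rc_21_2 lc_d_rc_3_1 lc_d_rc_20_2 lc_d_rc_21_2 lc_d_rc_9_1 lc_d_rc_9_1 lc_d_rc_20_2 lc_d_rc_21_2 lc_d_rc_9_1 lc_d_rc_20_2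 lc_d_rc_21_2 lc_d_rc_9_1 lc_d_rc_9_1 lc_d_rc_3_3 lc_d_rc_20_2) (@D3.rec (fun _ => (Cert rels S Gen.d)) lc_d_rc_20_2 lc_d_rc_9_1 lc_d_rc_3_1 lc_d_Cert_tree lc_d_rc_20_2 lc_d_rc_18_0 lc_d_rc_20_2 lc_d_rc_20_0 lc_d_rc_9_1 lc_d_rc_20_0 lc_d_rc_18_0 lc_d_rc_20_2 lc_d_rc_3_1 lc_d_rc_20_2 lc_d_rc_9_1 lc_d_rc_9_1 lc_d_rc_20_2 lc_d_rc_9_1 lc_d_rc_9_1 lc_d_rc_20_2 lc_d_rc_21_2 lc_d_rc_9_1 lc_d_rc_9_1 lc_d_rc_3_3 lc_d_rc_18_0 lc_d_rc_20_2 lc_d_rc_21_0 lc_d_rc_14_11 lc_d_rc_28_3 lc_d_rc_9_1 lc_d_rc_3_1 lc_d_rc_18_1 lc_d_rc_21_2 lc_d_rc_18_1 lc_d_rc_21_2 lc_d_rc_19_2 lc_d_rc_19_2 lc_d_rc_20_0 lc_d_rc_19_2 lc_d_rc_20_2) (@D3.rec (fun _ => (Cert rels S Gen.d)) lc_d_rc_20_2 lc_d_rc_21_2 lc_d_rc_21_2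 lc_d_rc_21_2 lc_d_rc_20_2 lc_d_rc_19_4 lc_d_rc_9_1 lc_d_rc_3_1 lc_d_rc_19_2 lc_d_rc_21_2 lc_d_rc_19_2 lc_d_rc_21_2 lc_d_rc_20_2 lc_d_rc_18_0 lc_d_rc_28_5 lc_d_rc_20_2 lc_d_rc_18_0 lc_d_rc_28_5 lc_d_rc_21_2 lc_d_rc_32_30 lc_d_rc_3_1 lc_d_rc_32_38 lc_d_rc_21_2 lc_d_rc_32_30 lc_d_rc_19_4 lc_d_rc_21_2 lc_d_rc_21_2 lc_d_rc_9_1 lc_d_rc_3_1 lc_d_rc_21_2 lc_d_rc_20_2 lc_d_rc_21_0 lc_d_rc_20_2 lc_d_rc_20_2 lc_d_rc_28_3 lc_d_rc_18_0 lc_d_rc_18_0 lc_d_rc_19_4 lc_d_Cert_tree lc_d_rc_19_2) (@D3.rec (fun _ => (Cert rels S Gen.d)) lc_d_rc_21_2 lc_d_rc_3_1 lc_d_rc_19_2 lc_d_rc_20_2 lc_d_rc_9_1 lc_d_rc_19_2 lc_d_rc_9_1 lc_d_rc_9_1 lc_d_rc_32_38 lc_d_rc_20_2 lc_d_rc_32_48 lc_d_rc_19_4 lc_d_rc_20_2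 lc_d_rc_20_2 lc_d_rc_9_1 lc_d_rc_3_1 lc_d_rc_18_1 lc_d_rc_21_2 lc_d_rc_18_0 lc_d_rc_21_2 lc_d_rc_28_3 lc_d_rc_21_2 lc_d_rc_18_0 lc_d_rc_3_3 lc_d_rc_28_5 lc_d_rc_20_2 lc_d_rc_3_1 lc_d_rc_19_2 lc_d_rc_21_2 lc_d_rc_9_1 lc_d_rc_19_2 lc_d_rc_9_1 lc_d_rc_9_1 lc_d_rc_19_2 lc_d_rc_19_2 lc_d_rc_21_2 lc_d_rc_19_2 lc_d_rc_20_2 lc_d_rc_3_1 lc_d_rc_28_5) (@D3.rec (fun _ => (Cert rels S Gen.d)) lc_d_rc_9_1 lc_d_rc_20_2 lc_d_rc_28_5 lc_d_rc_20_2 lc_d_rc_9_1 lc_d_rc_3_1 lc_d_rc_21_2 lc_d_rc_20_2 lc_d_rc_18_0 lc_d_rc_21_2 lc_d_rc_21_2 lc_d_rc_21_2 lc_d_rc_19_2 lc_d_rc_9_1 lc_d_rc_18_0 lc_d_Cert_tree lc_d_Cert_tree lc_d_rc_18_0 lc_d_rc_21_2 lc_d_rc_18_0 lc_d_rc_3_3 lc_d_rc_28_5 lc_d_rc_3_1 lc_d_rc_20_2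 lc_d_rc_28_3 lc_d_rc_20_2 lc_d_rc_9_1 lc_d_rc_3_1 lc_d_rc_21_2 lc_d_rc_3_1 lc_d_rc_9_1 lc_d_rc_20_2 lc_d_rc_20_2 lc_d_rc_19_2 lc_d_rc_21_2 lc_d_rc_3_1 lc_d_rc_20_2 lc_d_rc_9_1 lc_d_rc_21_2 lc_d_rc_28_1) (@D3.rec (fun _ => (Cert rels S Gen.d)) lc_d_rc_21_2 lc_d_rc_19_4 lc_d_rc_3_1 lc_d_rc_20_2 lc_d_rc_21_2 lc_d_rc_18_0 lc_d_rc_20_2 lc_d_rc_20_2 lc_d_rc_19_2 lc_d_rc_21_2 lc_d_Cert_tree lc_d_rc_20_2 lc_d_rc_18_0 lc_d_rc_19_2 lc_d_rc_28_5 lc_d_rc_3_1 lc_d_rc_21_2 lc_d_rc_20_2 lc_d_rc_21_2 lc_d_rc_9_1 lc_d_rc_19_2 lc_d_rc_20_2 lc_d_rc_3_1 lc_d_rc_9_1 lc_d_rc_21_2 lc_d_rc_28_3 lc_d_rc_28_3 lc_d_rc_9_1 lc_d_Cert_tree lc_d_rc_20_2 lc_d_rc_21_2 lc_d_rc_18_0 lc_d_rc_28_5 lc_d_rc_9_1 lc_d_rc_9_3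 lc_d_rc_20_2 lc_d_rc_20_2 lc_d_rc_14_11 lc_d_rc_28_3 lc_d_rc_9_1) (@D3.rec (fun _ => (Cert rels S Gen.d)) lc_d_Cert_tree lc_d_rc_20_2 lc_d_rc_21_2 lc_d_rc_18_0 lc_d_rc_9_1 lc_d_rc_21_2 lc_d_rc_20_2 lc_d_rc_20_2 lc_d_rc_14_11 lc_d_rc_20_2 lc_d_rc_21_2 lc_d_rc_9_1 lc_d_rc_32_19 lc_d_rc_18_0 lc_d_rc_20_2 lc_d_rc_20_2 lc_d_rc_9_1 lc_d_rc_3_1 lc_d_Cert_tree lc_d_rc_20_0 lc_d_rc_20_2 lc_d_rc_21_2 lc_d_rc_3_1 lc_d_rc_9_1 lc_d_rc_28_5 lc_d_rc_28_5 lc_d_rc_21_2 lc_d_rc_9_1 lc_d_rc_18_0 lc_d_rc_9_3 lc_d_rc_20_2 lc_d_rc_28_1 lc_d_rc_19_2 lc_d_rc_20_2 lc_d_rc_20_2 lc_d_rc_28_1 lc_d_rc_32_50 lc_d_rc_21_2 lc_d_rc_21_2 lc_d_rc_21_2)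
def ce_d_20 : D2 → D3 → (Cert rels S Gen.d) := @D2.rec (fun _ => D3 → (Cert rels S Gen.d)) (@D3.rec (fun _ => (Cert rels S Gen.d)) lc_d_rc_19_2 lc_d_rc_18_0 lc_d_rc_18_0 lc_d_rc_20_2 lc_d_rc_18_0 lc_d_rc_18_0 lc_d_rc_21_2 lc_d_rc_21_2 lc_d_rc_19_4 lc_d_rc_20_2 lc_d_rc_9_1 lc_d_rc_18_0 lc_d_rc_18_0 lc_d_rc_21_2 lc_d_rc_18_0 lc_d_rc_18_0 lc_d_rc_28_7 lc_d_rc_20_2 lc_d_rc_3_3 lc_d_rc_19_2 lc_d_rc_9_1 lc_d_rc_9_1 lc_d_rc_9_1 lc_d_rc_19_2 lc_d_rc_19_2 lc_d_rc_21_2 lc_d_rc_19_2 lc_d_rc_28_5 lc_d_rc_3_1 lc_d_rc_20_0 lc_d_rc_3_1 lc_d_rc_21_2 lc_d_rc_21_2 lc_d_rc_19_4 lc_d_rc_20_2 lc_d_rc_28_1 lc_d_rc_19_4 lc_d_rc_3_1 lc_d_rc_21_2 lc_d_rc_3_1) (@D3.rec (fun _ => (Cert rels S Gen.d)) lc_d_rc_20_2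 lc_d_rc_3_1 lc_d_rc_20_2 lc_d_rc_3_1 lc_d_rc_9_1 lc_d_rc_21_2 lc_d_rc_20_2 lc_d_rc_19_2 lc_d_rc_19_2 lc_d_rc_18_0 lc_d_rc_18_0 lc_d_rc_20_2 lc_d_rc_28_3 lc_d_rc_3_1 lc_d_rc_19_2 lc_d_rc_19_2 lc_d_rc_18_0 lc_d_rc_18_0 lc_d_rc_21_2 lc_d_rc_28_3 lc_d_rc_3_1 lc_d_rc_28_5 lc_d_rc_3_1 lc_d_rc_21_2 lc_d_rc_9_1 lc_d_rc_21_2 lc_d_rc_3_1 lc_d_rc_3_3 lc_d_rc_14_3 lc_d_rc_3_1 lc_d_rc_28_3 lc_d_rc_20_2 lc_d_rc_18_0 lc_d_rc_3_1 lc_d_rc_19_0 lc_d_rc_18_0 lc_d_rc_20_2 lc_d_rc_18_0 lc_d_rc_9_1 lc_d_rc_9_1) (@D3.rec (fun _ => (Cert rels S Gen.d)) lc_d_rc_19_2 lc_d_rc_28_5 lc_d_rc_21_2 lc_d_rc_19_0 lc_d_rc_9_1 lc_d_rc_20_2 lc_d_rc_28_5 lc_d_rc_9_1 lc_d_rc_20_2 lc_d_rc_3_1 lc_d_rc_9_1 lc_d_rc_20_2 lc_d_rc_20_0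 lc_d_rc_3_1 lc_d_rc_28_5 lc_d_rc_21_2 lc_d_rc_3_1 lc_d_rc_3_1 lc_d_rc_3_1 lc_d_rc_18_0 lc_d_rc_21_2 lc_d_rc_9_1 lc_d_rc_9_1 lc_d_rc_9_1 lc_d_rc_3_1 lc_d_rc_28_3 lc_d_rc_3_1 lc_d_rc_3_1 lc_d_rc_9_1 lc_d_rc_21_2 lc_d_rc_9_1 lc_d_rc_28_3 lc_d_rc_9_1 lc_d_rc_9_1 lc_d_rc_9_1 lc_d_rc_9_1 lc_d_rc_20_2 lc_d_rc_9_3 lc_d_rc_21_2 lc_d_rc_21_2) (@D3.rec (fun _ => (Cert rels S Gen.d)) lc_d_rc_20_2 lc_d_rc_9_1 lc_d_rc_3_1 lc_d_rc_14_1 lc_d_rc_20_2 lc_d_rc_9_1 lc_d_rc_14_5 lc_d_rc_20_2 lc_d_rc_20_2 lc_d_rc_3_3 lc_d_rc_21_0 lc_d_rc_28_5 lc_d_rc_9_1 lc_d_rc_28_3 lc_d_rc_19_4 lc_d_rc_32_45 lc_d_rc_3_1 lc_d_rc_19_2 lc_d_rc_20_2 lc_d_rc_9_1 lc_d_rc_28_5 lc_d_rc_9_1 lc_d_rc_9_1 lc_d_rc_9_1 lc_d_rc_9_1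 lc_d_rc_19_4 lc_d_rc_28_7 lc_d_rc_9_1 lc_d_rc_20_2 lc_d_rc_21_2 lc_d_rc_9_1 lc_d_rc_3_1 lc_d_rc_28_7 lc_d_rc_21_2 lc_d_rc_9_1 lc_d_rc_18_1 lc_d_rc_3_1 lc_d_rc_3_3 lc_d_rc_20_2 lc_d_rc_28_3) (@D3.rec (fun _ => (Cert rels S Gen.d)) lc_d_rc_28_3 lc_d_rc_9_1 lc_d_rc_28_3 lc_d_rc_9_1 lc_d_rc_3_3 lc_d_Cert_tree lc_d_rc_18_0 lc_d_Cert_tree lc_d_rc_9_1 lc_d_rc_21_2 lc_d_rc_9_1 lc_d_rc_9_1 lc_d_rc_21_2 lc_d_rc_19_2 lc_d_rc_3_3 lc_d_rc_9_1 lc_d_rc_9_3 lc_d_rc_3_1 lc_d_rc_20_2 lc_d_rc_9_1 lc_d_rc_9_1 lc_d_rc_3_1 lc_d_rc_9_1 lc_d_rc_21_2 lc_d_rc_3_3 lc_d_Cert_tree lc_d_rc_18_0 lc_d_rc_18_1 lc_d_rc_20_2 lc_d_rc_3_1 lc_d_rc_21_0 lc_d_Cert_tree lc_d_rc_18_0 lc_d_Cert_tree lc_d_rc_9_1 lc_d_rc_3_1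 lc_d_rc_9_1 lc_d_rc_19_4 lc_d_rc_28_7 lc_d_rc_3_3) (@D3.rec (fun _ => (Cert rels S Gen.d)) lc_d_rc_21_2 lc_d_rc_9_1 lc_d_rc_28_5 lc_d_rc_21_0 lc_d_rc_28_5 lc_d_rc_9_1 lc_d_rc_9_1 lc_d_rc_3_1 lc_d_rc_9_1 lc_d_rc_3_3 lc_d_rc_3_3 lc_d_Cert_tree lc_d_rc_18_0 lc_d_rc_18_1 lc_d_rc_19_4 lc_d_rc_3_1 lc_d_rc_28_5 lc_d_rc_9_1 lc_d_rc_21_2 lc_d_rc_3_1 lc_d_rc_9_1 lc_d_rc_20_2 lc_d_rc_9_1 lc_d_rc_3_1 lc_d_rc_20_2 lc_d_rc_21_2 lc_d_rc_3_1 lc_d_Cert_tree lc_d_rc_9_1 lc_d_rc_9_1 lc_d_rc_28_7 lc_d_rc_20_2 lc_d_rc_3_1 lc_d_rc_28_3 lc_d_rc_20_2 lc_d_rc_9_1 lc_d_rc_9_1 lc_d_rc_28_5 lc_d_rc_18_0 lc_d_rc_28_1) (@D3.rec (fun _ => (Cert rels S Gen.d)) lc_d_rc_19_4 lc_d_rc_21_0 lc_d_rc_20_0 lc_d_rc_9_1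 lc_d_Cert_tree lc_d_rc_9_3 lc_d_rc_18_0 lc_d_rc_28_5 lc_d_rc_19_2 lc_d_Cert_tree lc_d_rc_21_0 lc_d_rc_18_0 lc_d_rc_20_2 lc_d_rc_9_3 lc_d_rc_19_2 lc_d_rc_9_1 lc_d_rc_9_1 lc_d_rc_20_2 lc_d_rc_21_2 lc_d_rc_9_1 lc_d_rc_21_2 lc_d_rc_9_1 lc_d_rc_3_1 lc_d_rc_28_7 lc_d_rc_3_1 lc_d_Cert_tree lc_d_rc_9_1 lc_d_rc_28_7 lc_d_rc_21_2 lc_d_rc_3_1 lc_d_rc_28_3 lc_d_rc_21_2 lc_d_rc_9_1 lc_d_rc_21_0 lc_d_rc_28_5 lc_d_rc_18_0 lc_d_rc_21_2 lc_d_rc_28_1 lc_d_rc_21_2 lc_d_rc_21_0) (@D3.rec (fun _ => (Cert rels S Gen.d)) lc_d_rc_9_1 lc_d_Cert_tree lc_d_rc_19_2 lc_d_rc_19_2 lc_d_Cert_tree lc_d_rc_28_5 lc_d_rc_18_0 lc_d_rc_21_2 lc_d_rc_20_2 lc_d_rc_19_2 lc_d_rc_9_1 lc_d_rc_32_40 lc_d_rc_21_2 lc_d_rc_9_1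 lc_d_rc_9_1 lc_d_rc_3_1 lc_d_Cert_tree lc_d_rc_20_2 lc_d_rc_28_7 lc_d_rc_9_1 lc_d_rc_19_2 lc_d_rc_18_0 lc_d_rc_21_0 lc_d_rc_3_1 lc_d_rc_20_2 lc_d_rc_9_1 lc_d_rc_9_1 lc_d_rc_3_1 lc_d_rc_20_2 lc_d_rc_9_1 lc_d_rc_21_2 lc_d_rc_21_0 lc_d_rc_9_3 lc_d_rc_20_2 lc_d_rc_20_2 lc_d_rc_3_3 lc_d_rc_21_0 lc_d_rc_20_2 lc_d_rc_21_2 lc_d_rc_3_1) (@D3.rec (fun _ => (Cert rels S Gen.d)) lc_d_rc_20_2 lc_d_rc_9_1 lc_d_rc_20_2 lc_d_rc_28_5 lc_d_rc_19_4 lc_d_rc_3_1 lc_d_rc_3_1 lc_d_rc_20_2 lc_d_rc_9_1 lc_d_rc_3_1 lc_d_rc_19_2 lc_d_rc_21_2 lc_d_rc_9_1 lc_d_rc_18_0 lc_d_rc_19_2 lc_d_rc_21_2 lc_d_rc_19_2 lc_d_rc_20_2 lc_d_rc_3_1 lc_d_rc_20_2 lc_d_rc_3_1 lc_d_rc_14_3 lc_d_rc_20_2 lc_d_rc_32_48 lc_d_rc_18_0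 lc_d_rc_28_3 lc_d_rc_28_7 lc_d_rc_20_2 lc_d_rc_9_1 lc_d_rc_9_1 lc_d_rc_21_2 lc_d_rc_3_1 lc_d_rc_9_1 lc_d_rc_21_2 lc_d_rc_18_0 lc_d_rc_9_1 lc_d_rc_3_1 lc_d_rc_3_3 lc_d_rc_9_1 lc_d_rc_9_1) (@D3.rec (fun _ => (Cert rels S Gen.d)) lc_d_rc_3_1 lc_d_rc_21_2 lc_d_rc_9_1 lc_d_rc_21_2 lc_d_rc_9_1 lc_d_rc_21_2 lc_d_rc_3_1 lc_d_rc_20_0 lc_d_rc_9_1 lc_d_rc_20_2 lc_d_rc_21_0 lc_d_rc_9_3 lc_d_rc_3_1 lc_d_rc_20_0 lc_d_rc_9_1 lc_d_rc_21_2 lc_d_rc_28_5 lc_d_rc_19_4 lc_d_rc_9_1 lc_d_rc_3_1 lc_d_rc_21_2 lc_d_rc_3_1 lc_d_rc_20_2 lc_d_rc_19_2 lc_d_rc_20_2 lc_d_rc_32_66 lc_d_rc_3_1 lc_d_rc_21_2 lc_d_rc_19_2 lc_d_rc_3_1 lc_d_rc_14_3 lc_d_rc_21_2 lc_d_rc_32_48 lc_d_rc_18_0 lc_d_rc_21_2 lc_d_rc_9_1 lc_d_rc_9_1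 lc_d_rc_19_2 lc_d_rc_20_2 lc_d_rc_3_1) (@D3.rec (fun _ => (Cert rels S Gen.d)) lc_d_rc_9_1 lc_d_rc_3_1 lc_d_rc_20_2 lc_d_rc_9_1 lc_d_rc_9_1 lc_d_rc_3_1 lc_d_rc_20_2 lc_d_rc_19_4 lc_d_rc_3_1 lc_d_rc_9_1 lc_d_rc_21_0 lc_d_Cert_tree lc_d_rc_21_2 lc_d_rc_18_0 lc_d_rc_21_2 lc_d_rc_9_1 lc_d_rc_9_1 lc_d_rc_20_2 lc_d_rc_18_0 lc_d_rc_3_1 lc_d_rc_9_1 lc_d_rc_21_2 lc_d_rc_21_2 lc_d_rc_9_1 lc_d_rc_9_1 lc_d_rc_3_1 lc_d_rc_21_2 lc_d_rc_19_4 lc_d_rc_21_2 lc_d_rc_3_1 lc_d_Cert_tree lc_d_rc_20_2 lc_d_rc_3_1 lc_d_rc_18_0 lc_d_rc_20_2 lc_d_rc_19_4 lc_d_rc_32_35 lc_d_rc_9_1 lc_d_rc_9_1 lc_d_rc_18_0) (@D3.rec (fun _ => (Cert rels S Gen.d)) lc_d_rc_19_2 lc_d_rc_18_0 lc_d_rc_3_1 lc_d_rc_18_0 lc_d_rc_18_0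 lc_d_rc_18_0 lc_d_rc_18_0 lc_d_rc_28_7 lc_d_rc_20_2 lc_d_rc_18_0 lc_d_rc_18_0 lc_d_rc_19_2 lc_d_rc_18_0 lc_d_rc_21_0 lc_d_rc_18_0 lc_d_rc_18_0 lc_d_rc_18_0 lc_d_rc_28_3 lc_d_rc_21_2 lc_d_rc_21_2 lc_d_rc_20_2 lc_d_rc_19_2 lc_d_rc_19_2 lc_d_rc_19_2 lc_d_rc_19_2 lc_d_rc_19_2 lc_d_rc_3_1 lc_d_rc_28_3 lc_d_rc_20_2 lc_d_rc_18_0 lc_d_rc_21_2 lc_d_rc_3_1 lc_d_rc_20_2 lc_d_rc_9_1 lc_d_rc_19_2 lc_d_rc_3_1 lc_d_rc_28_3 lc_d_rc_21_2 lc_d_rc_18_0 lc_d_rc_20_2) (@D3.rec (fun _ => (Cert rels S Gen.d)) lc_d_rc_3_1 lc_d_rc_19_0 lc_d_rc_19_2 lc_d_rc_19_4 lc_d_rc_20_2 lc_d_rc_18_0 lc_d_rc_9_1 lc_d_rc_9_1 lc_d_rc_19_4 lc_d_rc_21_2 lc_d_rc_18_0 lc_d_rc_9_1 lc_d_rc_9_1 lc_d_Cert_tree lc_d_rc_18_0 lc_d_Cert_tree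 lc_d_rc_18_0 lc_d_rc_3_1 lc_d_rc_3_1 lc_d_rc_20_2 lc_d_rc_21_2 lc_d_rc_9_1 lc_d_rc_20_2 lc_d_rc_19_4 lc_d_rc_20_2 lc_d_rc_19_2 lc_d_rc_19_2 lc_d_rc_9_1 lc_d_rc_28_7 lc_d_rc_9_1 lc_d_rc_20_0 lc_d_rc_21_0 lc_d_rc_9_1 lc_d_rc_21_2 lc_d_rc_19_4 lc_d_rc_21_2 lc_d_rc_19_2 lc_d_rc_19_2 lc_d_rc_9_1 lc_d_rc_28_7) (@D3.rec (fun _ => (Cert rels S Gen.d)) lc_d_rc_20_2 lc_d_rc_9_3 lc_d_rc_3_1 lc_d_rc_18_0 lc_d_rc_3_1 lc_d_rc_3_1 lc_d_rc_18_0 lc_d_rc_3_1 lc_d_rc_18_0 lc_d_rc_3_1 lc_d_rc_3_1 lc_d_rc_18_0 lc_d_rc_3_1 lc_d_Cert_tree lc_d_rc_18_0 lc_d_Cert_tree lc_d_rc_18_0 lc_d_rc_28_5 lc_d_rc_28_1 lc_d_rc_9_1 lc_d_rc_21_2 lc_d_rc_20_2 lc_d_rc_18_1 lc_d_rc_20_2 lc_d_rc_18_0 lc_d_rc_9_1 lc_d_rc_20_2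 lc_d_rc_9_1 lc_d_rc_20_2 lc_d_rc_28_5 lc_d_rc_18_1 lc_d_rc_21_2 lc_d_rc_18_0 lc_d_rc_3_1 lc_d_rc_20_2 lc_d_rc_9_3 lc_d_rc_18_0 lc_d_rc_21_2 lc_d_rc_20_2 lc_d_rc_28_3) (@D3.rec (fun _ => (Cert rels S Gen.d)) lc_d_rc_21_2 lc_d_rc_19_4 lc_d_rc_9_1 lc_d_rc_3_1 lc_d_rc_28_7 lc_d_rc_3_1 lc_d_rc_28_1 lc_d_rc_21_2 lc_d_rc_21_2 lc_d_rc_21_2 lc_d_rc_3_1 lc_d_rc_21_0 lc_d_rc_20_0 lc_d_rc_21_2 lc_d_rc_20_2 lc_d_rc_19_4 lc_d_rc_21_2 lc_d_rc_20_2 lc_d_rc_20_2 lc_d_rc_28_1 lc_d_rc_19_4 lc_d_rc_9_1 lc_d_rc_9_1 lc_d_rc_3_1 lc_d_rc_3_1 lc_d_rc_19_2 lc_d_rc_9_1 lc_d_rc_21_2 lc_d_rc_21_2 lc_d_rc_3_1 lc_d_Cert_tree lc_d_rc_20_2 lc_d_rc_18_1 lc_d_rc_20_2 lc_d_rc_21_2 lc_d_rc_9_1 lc_d_rc_19_2 lc_d_rc_3_1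 lc_d_rc_20_2 lc_d_rc_3_1) (@D3.rec (fun _ => (Cert rels S Gen.d)) lc_d_rc_21_2 lc_d_rc_18_0 lc_d_rc_20_2 lc_d_rc_21_2 lc_d_rc_20_2 lc_d_rc_28_5 lc_d_rc_19_4 lc_d_rc_9_1 lc_d_rc_3_1 lc_d_rc_28_3 lc_d_rc_9_1 lc_d_rc_28_1 lc_d_rc_20_2 lc_d_rc_19_2 lc_d_rc_21_2 lc_d_rc_3_1 lc_d_rc_19_2 lc_d_rc_20_2 lc_d_rc_3_1 lc_d_rc_20_2 lc_d_rc_21_2 lc_d_rc_21_2 lc_d_rc_21_2 lc_d_rc_19_4 lc_d_rc_19_4 lc_d_rc_9_1 lc_d_rc_19_2 lc_d_rc_19_2 lc_d_rc_3_1 lc_d_rc_19_2 lc_d_rc_9_1 lc_d_rc_21_0 lc_d_rc_20_2 lc_d_rc_3_1 lc_d_Cert_tree lc_d_rc_21_2 lc_d_rc_9_3 lc_d_rc_20_2 lc_d_rc_9_3 lc_d_rc_9_1) (@D3.rec (fun _ => (Cert rels S Gen.d)) lc_d_rc_20_0 lc_d_rc_3_1 lc_d_rc_28_1 lc_d_Cert_tree lc_d_rc_9_1 lc_d_rc_20_2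 lc_d_rc_20_2 lc_d_rc_28_5 lc_d_rc_9_1 lc_d_rc_20_2 lc_d_rc_28_7 lc_d_rc_18_0 lc_d_Cert_tree lc_d_rc_20_2 lc_d_rc_3_1 lc_d_rc_9_1 lc_d_rc_21_2 lc_d_rc_19_2 lc_d_rc_9_1 lc_d_rc_3_1 lc_d_rc_21_2 lc_d_rc_9_1 lc_d_rc_18_0 lc_d_rc_20_2 lc_d_rc_20_2 lc_d_rc_20_2 lc_d_rc_28_5 lc_d_rc_3_1 lc_d_rc_19_2 lc_d_rc_21_2 lc_d_rc_3_1 lc_d_rc_19_4 lc_d_rc_3_1 lc_d_rc_28_3 lc_d_rc_21_2 lc_d_rc_9_1 lc_d_rc_19_4 lc_d_Cert_tree lc_d_rc_21_2 lc_d_rc_9_1) (@D3.rec (fun _ => (Cert rels S Gen.d)) lc_d_rc_21_2 lc_d_rc_18_0 lc_d_rc_20_2 lc_d_rc_18_0 lc_d_rc_3_1 lc_d_rc_3_1 lc_d_rc_9_1 lc_d_Cert_tree lc_d_rc_21_2 lc_d_rc_28_5 lc_d_rc_9_1 lc_d_rc_21_2 lc_d_rc_28_3 lc_d_rc_18_0 lc_d_Cert_tree lc_d_rc_21_2 lc_d_rc_20_0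 lc_d_rc_9_1 lc_d_rc_20_2 lc_d_rc_28_3 lc_d_rc_9_1 lc_d_rc_3_1 lc_d_rc_21_2 lc_d_rc_3_3 lc_d_rc_18_0 lc_d_rc_21_2 lc_d_rc_21_2 lc_d_rc_21_2 lc_d_rc_9_1 lc_d_rc_3_1 lc_d_rc_18_0 lc_d_rc_20_2 lc_d_rc_3_1 lc_d_rc_19_4 lc_d_rc_3_1 lc_d_rc_32_38 lc_d_rc_20_2 lc_d_rc_9_1 lc_d_rc_32_33 lc_d_Cert_tree) (@D3.rec (fun _ => (Cert rels S Gen.d)) lc_d_rc_20_2 lc_d_rc_9_1 lc_d_rc_3_3 lc_d_rc_3_1 lc_d_rc_18_0 lc_d_rc_3_1 lc_d_rc_9_1 lc_d_rc_18_0 lc_d_rc_9_1 lc_d_rc_3_1 lc_d_rc_3_1 lc_d_rc_21_2 lc_d_rc_18_0 lc_d_rc_28_5 lc_d_rc_14_3 lc_d_Cert_tree lc_d_rc_18_0 lc_d_rc_9_1 lc_d_rc_28_3 lc_d_rc_3_1 lc_d_rc_20_2 lc_d_rc_21_0 lc_d_rc_19_2 lc_d_rc_18_0 lc_d_rc_9_1 lc_d_rc_19_2 lc_d_rc_9_1 lc_d_rc_3_1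 lc_d_rc_32_30 lc_d_rc_21_2 lc_d_rc_9_1 lc_d_rc_3_1 lc_d_rc_21_2 lc_d_rc_18_0 lc_d_rc_18_0 lc_d_rc_21_2 lc_d_rc_19_4 lc_d_rc_21_2 lc_d_rc_18_0 lc_d_rc_20_2) (@D3.rec (fun _ => (Cert rels S Gen.d)) lc_d_rc_19_2 lc_d_rc_28_3 lc_d_rc_18_0 lc_d_rc_28_5 lc_d_rc_19_2 lc_d_Cert_tree lc_d_rc_18_0 lc_d_rc_20_2 lc_d_rc_19_2 lc_d_rc_9_1 lc_d_rc_20_2 lc_d_rc_21_2 lc_d_rc_20_2 lc_d_rc_9_1 lc_d_rc_3_1 lc_d_rc_3_1 lc_d_rc_20_2 lc_d_rc_9_1 lc_d_rc_19_2 lc_d_rc_20_2 lc_d_rc_21_2 lc_d_rc_21_2 lc_d_rc_28_5 lc_d_rc_20_2 lc_d_rc_9_1 lc_d_rc_3_1 lc_d_Cert_tree lc_d_rc_9_1 lc_d_rc_28_3 lc_d_rc_3_1 lc_d_rc_20_2 lc_d_rc_21_2 lc_d_rc_19_2 lc_d_rc_18_0 lc_d_rc_9_1 lc_d_rc_3_1 lc_d_rc_20_2 lc_d_rc_9_1 lc_d_rc_18_1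 lc_d_rc_9_1) (@D3.rec (fun _ => (Cert rels S Gen.d)) lc_d_rc_9_1 lc_d_rc_19_2 lc_d_rc_3_1 lc_d_rc_3_1 lc_d_rc_18_0 lc_d_rc_3_3 lc_d_rc_3_1 lc_d_rc_19_2 lc_d_rc_21_2 lc_d_rc_20_2 lc_d_rc_21_2 lc_d_rc_3_3 lc_d_rc_9_1 lc_d_rc_9_1 lc_d_rc_18_0 lc_d_rc_3_1 lc_d_Cert_tree lc_d_rc_3_1 lc_d_rc_3_1 lc_d_rc_3_3 lc_d_rc_21_2 lc_d_rc_3_1 lc_d_Cert_tree lc_d_rc_18_0 lc_d_rc_28_5 lc_d_rc_9_1 lc_d_rc_9_1 lc_d_rc_21_2 lc_d_rc_9_1 lc_d_rc_3_1 lc_d_rc_19_2 lc_d_rc_18_0 lc_d_rc_20_2 lc_d_rc_20_0 lc_d_rc_20_2 lc_d_rc_21_2 lc_d_rc_9_1 lc_d_rc_3_1 lc_d_rc_3_1 lc_d_rc_9_1) (@D3.rec (fun _ => (Cert rels S Gen.d)) lc_d_rc_28_5 lc_d_rc_9_1 lc_d_rc_21_2 lc_d_rc_20_2 lc_d_rc_9_1 lc_d_rc_3_1 lc_d_rc_3_1 lc_d_rc_9_1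 lc_d_rc_18_0 lc_d_rc_3_1 lc_d_Cert_tree lc_d_rc_20_2 lc_d_rc_21_2 lc_d_rc_18_0 lc_d_rc_28_7 lc_d_rc_21_0 lc_d_rc_3_1 lc_d_rc_21_2 lc_d_rc_18_0 lc_d_rc_19_2 lc_d_rc_21_0 lc_d_rc_3_1 lc_d_rc_20_2 lc_d_rc_18_0 lc_d_rc_28_5 lc_d_rc_14_3 lc_d_rc_18_0 lc_d_rc_32_56 lc_d_rc_28_3 lc_d_rc_3_1 lc_d_rc_21_2 lc_d_rc_20_0 lc_d_rc_19_2 lc_d_rc_18_0 lc_d_rc_20_2 lc_d_rc_19_2 lc_d_rc_3_1 lc_d_rc_32_30 lc_d_rc_20_2 lc_d_rc_19_2) (@D3.rec (fun _ => (Cert rels S Gen.d)) lc_d_rc_18_0 lc_d_rc_18_0 lc_d_rc_28_5 lc_d_rc_20_2 lc_d_rc_18_0 lc_d_rc_21_2 lc_d_rc_9_1 lc_d_rc_9_1 lc_d_rc_18_0 lc_d_rc_28_5 lc_d_rc_19_2 lc_d_Cert_tree lc_d_rc_18_0 lc_d_rc_21_2 lc_d_rc_20_0 lc_d_rc_9_1 lc_d_rc_20_2 lc_d_rc_21_2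 lc_d_rc_9_1 lc_d_rc_9_1 lc_d_rc_3_1 lc_d_rc_21_2 lc_d_rc_19_2 lc_d_rc_20_2 lc_d_rc_21_2 lc_d_rc_3_1 lc_d_Cert_tree lc_d_rc_9_1 lc_d_rc_21_2 lc_d_rc_9_1 lc_d_rc_21_0 lc_d_rc_18_0 lc_d_rc_9_1 lc_d_rc_3_1 lc_d_rc_9_1 lc_d_rc_9_1 lc_d_rc_9_1 lc_d_rc_9_1 lc_d_rc_19_2 lc_d_rc_3_1) (@D3.rec (fun _ => (Cert rels S Gen.d)) lc_d_rc_3_1 lc_d_rc_18_0 lc_d_rc_19_2 lc_d_rc_19_2 lc_d_rc_28_7 lc_d_rc_21_2 lc_d_rc_21_2 lc_d_rc_3_1 lc_d_rc_9_1 lc_d_rc_9_1 lc_d_rc_18_0 lc_d_Cert_tree lc_d_rc_3_1 lc_d_rc_19_2 lc_d_rc_20_2 lc_d_rc_3_1 lc_d_rc_18_0 lc_d_rc_21_2 lc_d_rc_9_1 lc_d_rc_20_2 lc_d_rc_9_1 lc_d_rc_9_1 lc_d_rc_19_2 lc_d_rc_18_0 lc_d_rc_9_1 lc_d_rc_9_1 lc_d_rc_28_5 lc_d_rc_9_1 lc_d_rc_20_2 lc_d_rc_19_2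 lc_d_rc_9_1 lc_d_rc_3_1 lc_d_rc_3_1 lc_d_rc_9_1 lc_d_rc_18_0 lc_d_Cert_tree lc_d_rc_9_3 lc_d_rc_18_0 lc_d_rc_28_7 lc_d_rc_21_0) (@D3.rec (fun _ => (Cert rels S Gen.d)) lc_d_rc_18_0 lc_d_rc_21_2 lc_d_rc_21_2 lc_d_rc_28_3 lc_d_Cert_tree lc_d_rc_19_2 lc_d_rc_9_1 lc_d_rc_28_3 lc_d_rc_19_2 lc_d_rc_18_0 lc_d_rc_20_2 lc_d_rc_19_2 lc_d_rc_9_1 lc_d_rc_19_2 lc_d_rc_18_0 lc_d_rc_19_2 lc_d_rc_19_2 lc_d_rc_9_1 lc_d_rc_19_2 lc_d_rc_9_1 lc_d_rc_9_1 lc_d_rc_19_4 lc_d_rc_19_2 lc_d_rc_9_1 lc_d_rc_3_1 lc_d_rc_9_1 lc_d_rc_21_2 lc_d_rc_19_2 lc_d_rc_9_1 lc_d_rc_20_0 lc_d_rc_19_4 lc_d_rc_14_11 lc_d_rc_28_3 lc_d_rc_18_0 lc_d_rc_21_2 lc_d_rc_18_0 lc_d_rc_9_1 lc_d_rc_20_2 lc_d_rc_9_1 lc_d_rc_18_0) (@D3.rec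 (fun _ => (Cert rels S Gen.d)) lc_d_rc_3_1 lc_d_rc_20_2 lc_d_rc_21_2 lc_d_rc_9_1 lc_d_rc_32_35 lc_d_rc_9_1 lc_d_rc_28_3 lc_d_rc_18_1 lc_d_rc_21_2 lc_d_rc_19_4 lc_d_rc_19_4 lc_d_rc_28_3 lc_d_rc_18_0 lc_d_rc_21_2 lc_d_rc_20_2 lc_d_rc_3_1 lc_d_rc_28_5 lc_d_rc_28_5 lc_d_rc_9_1 lc_d_rc_18_0 lc_d_rc_3_1 lc_d_rc_18_0 lc_d_rc_28_3 lc_d_rc_19_2 lc_d_rc_32_61 lc_d_rc_9_1 lc_d_rc_3_1 lc_d_rc_28_5 lc_d_rc_20_2 lc_d_rc_3_1 lc_d_rc_21_2 lc_d_rc_21_2 lc_d_rc_3_1 lc_d_rc_20_2 lc_d_rc_20_2 lc_d_rc_20_2 lc_d_rc_21_2 lc_d_rc_9_1 lc_d_rc_9_3 lc_d_rc_19_2)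
def ce_d_21 : D2 → D3 → (Cert rels S Gen.d) := @D2.rec (fun _ => D3 → (Cert rels S Gen.d)) (@D3.rec (fun _ => (Cert rels S Gen.d)) lc_d_rc_3_1 lc_d_rc_9_1 lc_d_rc_19_2 lc_d_rc_3_3 lc_d_rc_20_2 lc_d_rc_19_2 lc_d_rc_19_2 lc_d_rc_18_0 lc_d_rc_20_2 lc_d_rc_19_4 lc_d_rc_9_1 lc_d_rc_18_0 lc_d_rc_14_3 lc_d_rc_19_4 lc_d_rc_21_2 lc_d_rc_19_4 lc_d_rc_9_1 lc_d_rc_9_1 lc_d_rc_19_2 lc_d_rc_9_1 lc_d_rc_20_2 lc_d_rc_18_0 lc_d_rc_21_0 lc_d_rc_20_2 lc_d_rc_20_2 lc_d_rc_20_2 lc_d_rc_20_2 lc_d_rc_3_1 lc_d_rc_21_2 lc_d_rc_3_3 lc_d_rc_18_0 lc_d_rc_21_2 lc_d_rc_9_1 lc_d_rc_18_0 lc_d_rc_9_3 lc_d_rc_9_1 lc_d_rc_19_2 lc_d_rc_9_1 lc_d_rc_9_1 lc_d_rc_19_4) (@D3.rec (fun _ => (Cert rels S Gen.d)) lc_d_rc_19_2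 lc_d_rc_3_1 lc_d_rc_9_1 lc_d_rc_20_2 lc_d_rc_28_1 lc_d_rc_9_3 lc_d_rc_28_3 lc_d_rc_18_0 lc_d_rc_20_2 lc_d_rc_18_0 lc_d_rc_3_1 lc_d_rc_21_0 lc_d_rc_18_0 lc_d_rc_9_1 lc_d_rc_9_1 lc_d_rc_28_7 lc_d_rc_21_2 lc_d_rc_28_1 lc_d_rc_20_2 lc_d_rc_32_40 lc_d_rc_18_0 lc_d_rc_3_1 lc_d_rc_21_2 lc_d_rc_28_5 lc_d_rc_18_0 lc_d_rc_3_1 lc_d_rc_18_0 lc_d_rc_28_3 lc_d_rc_20_2 lc_d_rc_9_1 lc_d_rc_9_1 lc_d_rc_3_1 lc_d_rc_28_5 lc_d_rc_20_2 lc_d_rc_21_2 lc_d_rc_9_3 lc_d_rc_9_1 lc_d_rc_3_1 lc_d_rc_9_1 lc_d_rc_19_2) (@D3.rec (fun _ => (Cert rels S Gen.d)) lc_d_rc_19_2 lc_d_rc_28_5 lc_d_rc_19_2 lc_d_rc_18_0 lc_d_rc_3_3 lc_d_rc_9_1 lc_d_rc_18_0 lc_d_rc_19_4 lc_d_rc_14_3 lc_d_rc_20_2 lc_d_rc_3_1 lc_d_rc_9_1 lc_d_rc_28_5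 lc_d_rc_9_1 lc_d_rc_19_2 lc_d_rc_18_0 lc_d_rc_21_2 lc_d_rc_21_2 lc_d_rc_21_2 lc_d_rc_32_30 lc_d_rc_20_2 lc_d_rc_18_0 lc_d_rc_9_1 lc_d_rc_9_1 lc_d_rc_28_3 lc_d_rc_9_1 lc_d_rc_20_2 lc_d_rc_21_2 lc_d_rc_9_1 lc_d_rc_19_2 lc_d_rc_9_1 lc_d_rc_9_3 lc_d_rc_19_2 lc_d_rc_9_1 lc_d_rc_9_1 lc_d_rc_20_2 lc_d_rc_28_1 lc_d_rc_21_2 lc_d_rc_21_2 lc_d_rc_19_2) (@D3.rec (fun _ => (Cert rels S Gen.d)) lc_d_rc_21_2 lc_d_rc_9_1 lc_d_rc_18_0 lc_d_rc_9_1 lc_d_rc_9_1 lc_d_rc_20_2 lc_d_rc_19_2 lc_d_rc_3_1 lc_d_rc_21_2 lc_d_rc_18_0 lc_d_rc_9_1 lc_d_rc_20_2 lc_d_rc_18_0 lc_d_rc_21_2 lc_d_rc_19_2 lc_d_rc_28_5 lc_d_rc_19_2 lc_d_rc_32_30 lc_d_rc_21_2 lc_d_rc_18_0 lc_d_rc_9_1 lc_d_rc_3_1 lc_d_rc_28_3 lc_d_rc_9_1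 lc_d_rc_21_2 lc_d_rc_20_2 lc_d_rc_21_2 lc_d_rc_19_2 lc_d_rc_9_1 lc_d_rc_19_2 lc_d_rc_9_3 lc_d_rc_9_1 lc_d_rc_21_2 lc_d_rc_21_2 lc_d_rc_3_3 lc_d_rc_28_1 lc_d_rc_20_2 lc_d_rc_19_4 lc_d_rc_19_2 lc_d_rc_3_1) (@D3.rec (fun _ => (Cert rels S Gen.d)) lc_d_rc_18_0 lc_d_rc_21_2 lc_d_rc_9_1 lc_d_rc_9_3 lc_d_rc_21_2 lc_d_rc_3_1 lc_d_rc_20_2 lc_d_rc_18_0 lc_d_rc_9_1 lc_d_rc_21_2 lc_d_rc_18_0 lc_d_rc_20_2 lc_d_rc_19_2 lc_d_rc_28_5 lc_d_rc_19_2 lc_d_rc_21_2 lc_d_rc_9_1 lc_d_rc_9_1 lc_d_rc_20_2 lc_d_rc_21_2 lc_d_rc_9_1 lc_d_rc_9_1 lc_d_rc_28_1 lc_d_rc_28_7 lc_d_rc_20_2 lc_d_rc_9_1 lc_d_rc_21_2 lc_d_rc_32_40 lc_d_rc_9_1 lc_d_rc_19_4 lc_d_rc_20_2 lc_d_rc_9_1 lc_d_rc_9_1 lc_d_rc_20_2 lc_d_rc_9_1 lc_d_rc_9_1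 lc_d_rc_28_5 lc_d_rc_28_7 lc_d_rc_21_2 lc_d_rc_19_4) (@D3.rec (fun _ => (Cert rels S Gen.d)) lc_d_rc_9_1 lc_d_rc_32_40 lc_d_rc_9_1 lc_d_rc_3_1 lc_d_rc_18_0 lc_d_rc_3_1 lc_d_rc_18_0 lc_d_rc_3_1 lc_d_rc_3_1 lc_d_rc_21_2 lc_d_rc_28_7 lc_d_rc_9_1 lc_d_rc_20_2 lc_d_rc_21_2 lc_d_rc_18_0 lc_d_rc_19_2 lc_d_rc_20_2 lc_d_rc_21_2 lc_d_rc_20_2 lc_d_rc_18_0 lc_d_rc_20_2 lc_d_rc_21_2 lc_d_rc_14_13 lc_d_rc_21_2 lc_d_rc_19_2 lc_d_rc_20_2 lc_d_rc_19_2 lc_d_rc_21_2 lc_d_rc_9_1 lc_d_rc_20_2 lc_d_rc_21_2 lc_d_rc_19_2 lc_d_rc_18_0 lc_d_rc_19_4 lc_d_rc_21_2 lc_d_rc_19_4 lc_d_rc_18_0 lc_d_rc_21_2 lc_d_rc_9_1 lc_d_rc_18_0) (@D3.rec (fun _ => (Cert rels S Gen.d)) lc_d_rc_20_2 lc_d_rc_20_0 lc_d_rc_28_5 lc_d_rc_20_2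 lc_d_rc_19_2 lc_d_rc_18_0 lc_d_rc_19_4 lc_d_rc_20_2 lc_d_rc_19_4 lc_d_rc_18_0 lc_d_rc_20_2 lc_d_rc_9_1 lc_d_rc_18_0 lc_d_rc_9_1 lc_d_rc_9_1 lc_d_rc_20_2 lc_d_rc_18_1 lc_d_rc_9_1 lc_d_rc_18_1 lc_d_rc_28_3 lc_d_rc_9_1 lc_d_rc_9_1 lc_d_rc_9_1 lc_d_rc_28_5 lc_d_rc_9_1 lc_d_rc_14_7 lc_d_rc_20_2 lc_d_rc_21_2 lc_d_rc_9_1 lc_d_rc_28_5 lc_d_rc_18_0 lc_d_rc_28_5 lc_d_rc_9_1 lc_d_rc_28_7 lc_d_rc_9_1 lc_d_rc_9_1 lc_d_rc_3_1 lc_d_rc_20_2 lc_d_rc_21_2 lc_d_rc_9_1) (@D3.rec (fun _ => (Cert rels S Gen.d)) lc_d_rc_9_3 lc_d_rc_18_0 lc_d_rc_19_2 lc_d_rc_28_7 lc_d_rc_18_0 lc_d_rc_28_5 lc_d_rc_21_2 lc_d_rc_28_7 lc_d_rc_18_0 lc_d_rc_28_3 lc_d_rc_21_2 lc_d_rc_21_2 lc_d_rc_20_2 lc_d_rc_9_1 lc_d_rc_21_2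 lc_d_rc_28_1 lc_d_rc_28_3 lc_d_rc_3_3 lc_d_rc_28_5 lc_d_rc_21_0 lc_d_rc_28_5 lc_d_rc_20_0 lc_d_rc_28_3 lc_d_Cert_tree lc_d_rc_18_0 lc_d_rc_28_3 lc_d_Cert_tree lc_d_rc_18_0 lc_d_rc_20_2 lc_d_rc_21_2 lc_d_rc_9_1 lc_d_rc_9_1 lc_d_Cert_tree lc_d_rc_19_2 lc_d_rc_9_1 lc_d_rc_28_3 lc_d_rc_20_2 lc_d_rc_9_1 lc_d_rc_19_2 lc_d_rc_9_1) (@D3.rec (fun _ => (Cert rels S Gen.d)) lc_d_rc_9_1 lc_d_Cert_tree lc_d_rc_28_7 lc_d_rc_9_1 lc_d_rc_20_0 lc_d_rc_21_2 lc_d_rc_9_1 lc_d_rc_19_2 lc_d_rc_9_1 lc_d_rc_3_1 lc_d_rc_3_1 lc_d_rc_28_3 lc_d_rc_20_2 lc_d_rc_20_2 lc_d_rc_20_2 lc_d_rc_9_1 lc_d_rc_18_1 lc_d_rc_3_1 lc_d_rc_28_3 lc_d_rc_21_2 lc_d_rc_21_2 lc_d_rc_21_2 lc_d_rc_18_0 lc_d_rc_18_0 lc_d_rc_28_5 lc_d_rc_21_2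 lc_d_rc_9_1 lc_d_rc_3_1 lc_d_rc_9_1 lc_d_rc_18_0 lc_d_rc_18_0 lc_d_rc_28_5 lc_d_rc_20_2 lc_d_rc_9_1 lc_d_rc_3_1 lc_d_rc_19_0 lc_d_rc_28_3 lc_d_rc_20_2 lc_d_rc_20_2 lc_d_rc_28_3) (@D3.rec (fun _ => (Cert rels S Gen.d)) lc_d_rc_21_2 lc_d_rc_3_1 lc_d_rc_21_2 lc_d_rc_28_3 lc_d_rc_28_3 lc_d_rc_20_2 lc_d_rc_9_3 lc_d_rc_18_0 lc_d_rc_20_2 lc_d_rc_3_1 lc_d_rc_9_1 lc_d_rc_18_0 lc_d_rc_19_2 lc_d_rc_19_2 lc_d_rc_20_2 lc_d_rc_21_2 lc_d_rc_18_0 lc_d_rc_21_2 lc_d_rc_20_0 lc_d_rc_21_2 lc_d_rc_9_1 lc_d_rc_9_3 lc_d_rc_18_0 lc_d_rc_21_2 lc_d_rc_19_2 lc_d_rc_9_1 lc_d_rc_18_0 lc_d_rc_20_2 lc_d_rc_19_2 lc_d_rc_20_2 lc_d_rc_21_2 lc_d_rc_18_0 lc_d_rc_20_2 lc_d_rc_20_2 lc_d_rc_20_2 lc_d_rc_9_1 lc_d_rc_9_1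 lc_d_rc_28_7 lc_d_rc_18_0 lc_d_rc_21_2) (@D3.rec (fun _ => (Cert rels S Gen.d)) lc_d_rc_9_1 lc_d_rc_20_2 lc_d_rc_18_0 lc_d_rc_19_2 lc_d_rc_18_0 lc_d_rc_21_2 lc_d_rc_21_2 lc_d_rc_3_1 lc_d_rc_3_1 lc_d_rc_3_1 lc_d_rc_18_0 lc_d_rc_18_0 lc_d_rc_21_2 lc_d_rc_18_0 lc_d_rc_19_2 lc_d_rc_9_1 lc_d_rc_3_1 lc_d_rc_18_0 lc_d_rc_9_1 lc_d_rc_18_0 lc_d_rc_18_0 lc_d_rc_20_2 lc_d_rc_14_11 lc_d_rc_9_1 lc_d_rc_28_1 lc_d_rc_21_2 lc_d_rc_19_2 lc_d_rc_20_2 lc_d_rc_9_3 lc_d_rc_14_11 lc_d_rc_3_1 lc_d_rc_3_1 lc_d_rc_19_2 lc_d_rc_9_1 lc_d_rc_21_2 lc_d_rc_9_1 lc_d_rc_3_1 lc_d_rc_19_0 lc_d_rc_3_1 lc_d_rc_20_2) (@D3.rec (fun _ => (Cert rels S Gen.d)) lc_d_rc_20_2 lc_d_rc_21_2 lc_d_rc_20_2 lc_d_rc_3_1 lc_d_rc_20_2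 lc_d_rc_18_0 lc_d_rc_19_2 lc_d_rc_21_2 lc_d_rc_9_3 lc_d_rc_9_1 lc_d_rc_19_0 lc_d_rc_19_2 lc_d_rc_3_1 lc_d_rc_9_1 lc_d_rc_21_2 lc_d_rc_9_1 lc_d_rc_3_1 lc_d_rc_19_2 lc_d_rc_21_2 lc_d_rc_20_2 lc_d_rc_21_2 lc_d_rc_21_2 lc_d_rc_3_1 lc_d_rc_3_1 lc_d_rc_20_2 lc_d_rc_3_1 lc_d_rc_20_2 lc_d_rc_20_2 lc_d_rc_20_0 lc_d_rc_20_2 lc_d_rc_3_1 lc_d_rc_28_3 lc_d_rc_9_1 lc_d_rc_18_0 lc_d_rc_9_1 lc_d_rc_20_2 lc_d_rc_9_1 lc_d_rc_3_1 lc_d_rc_21_2 lc_d_rc_28_5) (@D3.rec (fun _ => (Cert rels S Gen.d)) lc_d_rc_9_1 lc_d_rc_28_5 lc_d_rc_28_5 lc_d_rc_9_1 lc_d_rc_28_5 lc_d_rc_19_4 lc_d_rc_18_0 lc_d_rc_9_1 lc_d_rc_21_2 lc_d_rc_21_0 lc_d_rc_9_1 lc_d_rc_9_1 lc_d_rc_3_1 lc_d_rc_3_3 lc_d_rc_28_5 lc_d_rc_32_33 lc_d_rc_28_5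 lc_d_rc_18_0 lc_d_rc_28_5 lc_d_rc_19_4 lc_d_rc_20_0 lc_d_rc_9_1 lc_d_rc_20_2 lc_d_rc_9_1 lc_d_rc_9_1 lc_d_rc_9_1 lc_d_rc_21_2 lc_d_rc_9_1 lc_d_rc_21_2 lc_d_rc_20_0 lc_d_rc_28_5 lc_d_rc_20_2 lc_d_rc_20_2 lc_d_rc_21_2 lc_d_rc_3_1 lc_d_rc_18_0 lc_d_rc_18_0 lc_d_rc_9_1 lc_d_rc_20_0 lc_d_rc_21_2) (@D3.rec (fun _ => (Cert rels S Gen.d)) lc_d_rc_21_2 lc_d_rc_3_1 lc_d_rc_18_0 lc_d_rc_9_1 lc_d_rc_3_1 lc_d_rc_18_0 lc_d_rc_19_2 lc_d_rc_28_1 lc_d_rc_9_1 lc_d_rc_20_2 lc_d_rc_18_0 lc_d_rc_28_1 lc_d_rc_19_2 lc_d_rc_9_1 lc_d_rc_20_2 lc_d_rc_20_2 lc_d_rc_3_1 lc_d_rc_20_2 lc_d_rc_19_0 lc_d_rc_18_0 lc_d_rc_19_4 lc_d_rc_19_2 lc_d_rc_9_1 lc_d_rc_18_0 lc_d_rc_28_5 lc_d_rc_9_3 lc_d_rc_28_7 lc_d_rc_9_1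 lc_d_rc_20_2 lc_d_rc_28_7 lc_d_rc_9_1 lc_d_rc_21_2 lc_d_rc_28_5 lc_d_rc_9_1 lc_d_rc_3_1 lc_d_rc_28_3 lc_d_rc_20_2 lc_d_rc_9_1 lc_d_rc_9_1 lc_d_rc_28_3) (@D3.rec (fun _ => (Cert rels S Gen.d)) lc_d_rc_3_1 lc_d_rc_28_3 lc_d_rc_18_1 lc_d_rc_21_2 lc_d_rc_9_1 lc_d_rc_9_1 lc_d_rc_19_2 lc_d_rc_3_1 lc_d_rc_18_0 lc_d_rc_19_4 lc_d_rc_20_2 lc_d_rc_3_1 lc_d_rc_20_2 lc_d_rc_19_2 lc_d_rc_3_1 lc_d_rc_20_2 lc_d_rc_20_2 lc_d_rc_19_2 lc_d_rc_3_1 lc_d_rc_9_1 lc_d_rc_20_2 lc_d_rc_21_2 lc_d_rc_32_40 lc_d_rc_9_1 lc_d_rc_9_1 lc_d_rc_9_1 lc_d_rc_9_1 lc_d_rc_28_1 lc_d_rc_19_2 lc_d_rc_28_3 lc_d_rc_3_1 lc_d_rc_21_2 lc_d_rc_20_2 lc_d_rc_19_2 lc_d_rc_21_2 lc_d_rc_3_3 lc_d_rc_18_0 lc_d_rc_9_1 lc_d_rc_28_3 lc_d_rc_3_1)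 (@D3.rec (fun _ => (Cert rels S Gen.d)) lc_d_rc_18_0 lc_d_rc_14_3 lc_d_rc_20_2 lc_d_rc_9_3 lc_d_rc_18_0 lc_d_rc_20_2 lc_d_rc_19_2 lc_d_rc_21_2 lc_d_rc_18_0 lc_d_rc_18_0 lc_d_rc_9_1 lc_d_rc_28_5 lc_d_rc_3_1 lc_d_rc_18_0 lc_d_rc_9_1 lc_d_rc_21_2 lc_d_rc_28_3 lc_d_rc_3_1 lc_d_rc_28_5 lc_d_rc_21_2 lc_d_rc_20_2 lc_d_rc_18_0 lc_d_rc_20_2 lc_d_rc_20_2 lc_d_rc_18_0 lc_d_rc_18_0 lc_d_rc_20_2 lc_d_rc_3_1 lc_d_rc_9_1 lc_d_rc_19_4 lc_d_rc_18_0 lc_d_rc_19_2 lc_d_rc_18_0 lc_d_rc_20_2 lc_d_rc_21_2 lc_d_rc_21_2 lc_d_rc_3_1 lc_d_rc_18_0 lc_d_rc_9_1 lc_d_rc_3_1) (@D3.rec (fun _ => (Cert rels S Gen.d)) lc_d_rc_9_1 lc_d_rc_19_4 lc_d_rc_18_0 lc_d_rc_19_2 lc_d_rc_18_0 lc_d_rc_21_2 lc_d_rc_20_2 lc_d_rc_3_1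 lc_d_rc_20_2 lc_d_rc_3_1 lc_d_rc_20_2 lc_d_rc_20_2 lc_d_rc_18_0 lc_d_rc_9_1 lc_d_rc_3_1 lc_d_rc_20_2 lc_d_rc_20_2 lc_d_rc_20_2 lc_d_rc_3_1 lc_d_rc_21_0 lc_d_rc_20_2 lc_d_rc_20_2 lc_d_rc_28_5 lc_d_rc_3_1 lc_d_rc_9_1 lc_d_rc_20_0 lc_d_rc_19_2 lc_d_rc_20_0 lc_d_rc_3_1 lc_d_rc_20_2 lc_d_rc_20_2 lc_d_rc_9_1 lc_d_rc_21_2 lc_d_rc_20_2 lc_d_rc_32_35 lc_d_rc_21_2 lc_d_rc_9_1 lc_d_rc_19_4 lc_d_rc_9_1 lc_d_rc_3_1) (@D3.rec (fun _ => (Cert rels S Gen.d)) lc_d_rc_21_2 lc_d_rc_19_4 lc_d_rc_19_4 lc_d_rc_20_0 lc_d_rc_20_0 lc_d_rc_21_2 lc_d_rc_3_1 lc_d_rc_21_2 lc_d_rc_20_2 lc_d_rc_19_2 lc_d_rc_21_0 lc_d_rc_21_2 lc_d_rc_3_1 lc_d_rc_9_1 lc_d_rc_21_2 lc_d_rc_28_5 lc_d_rc_3_1 lc_d_rc_20_2 lc_d_rc_20_2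 lc_d_rc_19_4 lc_d_rc_19_4 lc_d_rc_9_1 lc_d_rc_9_1 lc_d_rc_18_0 lc_d_rc_20_0 lc_d_rc_21_2 lc_d_rc_9_1 lc_d_rc_3_1 lc_d_rc_21_2 lc_d_rc_19_4 lc_d_rc_9_1 lc_d_rc_9_1 lc_d_rc_18_0 lc_d_rc_21_0 lc_d_rc_20_2 lc_d_rc_9_1 lc_d_rc_9_1 lc_d_rc_28_5 lc_d_rc_9_1 lc_d_rc_28_7) (@D3.rec (fun _ => (Cert rels S Gen.d)) lc_d_rc_28_3 lc_d_rc_21_2 lc_d_rc_21_2 lc_d_rc_28_1 lc_d_rc_20_2 lc_d_rc_20_2 lc_d_rc_18_0 lc_d_rc_19_2 lc_d_rc_18_0 lc_d_rc_19_2 lc_d_rc_20_2 lc_d_rc_32_71 lc_d_rc_9_3 lc_d_rc_18_0 lc_d_rc_19_2 lc_d_rc_9_3 lc_d_rc_18_0 lc_d_rc_19_2 lc_d_rc_9_1 lc_d_rc_14_5 lc_d_rc_21_0 lc_d_rc_19_4 lc_d_rc_20_2 lc_d_rc_19_4 lc_d_rc_19_2 lc_d_rc_28_3 lc_d_rc_28_3 lc_d_rc_3_1 lc_d_rc_18_0 lc_d_rc_14_13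 lc_d_rc_20_2 lc_d_rc_9_1 lc_d_rc_14_5 lc_d_rc_20_0 lc_d_rc_19_4 lc_d_rc_21_2 lc_d_rc_21_0 lc_d_rc_19_2 lc_d_rc_28_3 lc_d_rc_28_5) (@D3.rec (fun _ => (Cert rels S Gen.d)) lc_d_rc_3_1 lc_d_rc_18_0 lc_d_rc_14_13 lc_d_rc_21_2 lc_d_rc_3_1 lc_d_rc_18_0 lc_d_rc_3_3 lc_d_rc_28_1 lc_d_rc_18_0 lc_d_rc_28_7 lc_d_rc_3_1 lc_d_rc_3_1 lc_d_rc_9_1 lc_d_rc_28_7 lc_d_rc_21_2 lc_d_rc_9_3 lc_d_rc_32_35 lc_d_rc_21_2 lc_d_rc_18_0 lc_d_rc_28_3 lc_d_rc_9_3 lc_d_rc_9_1 lc_d_rc_18_0 lc_d_rc_18_0 lc_d_rc_28_7 lc_d_rc_3_1 lc_d_rc_32_61 lc_d_rc_32_66 lc_d_rc_20_2 lc_d_rc_3_1 lc_d_rc_3_3 lc_d_rc_20_2 lc_d_rc_18_0 lc_d_rc_28_1 lc_d_rc_20_2 lc_d_rc_18_0 lc_d_rc_9_1 lc_d_rc_20_2 lc_d_rc_9_1 lc_d_rc_9_1) (@D3.rec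 (fun _ => (Cert rels S Gen.d)) lc_d_rc_21_2 lc_d_rc_28_5 lc_d_rc_20_2 lc_d_rc_3_1 lc_d_rc_18_0 lc_d_rc_32_45 lc_d_rc_3_1 lc_d_rc_20_2 lc_d_rc_28_5 lc_d_rc_3_1 lc_d_rc_3_1 lc_d_rc_9_1 lc_d_rc_21_2 lc_d_rc_9_1 lc_d_rc_3_3 lc_d_rc_18_0 lc_d_rc_3_1 lc_d_rc_21_2 lc_d_rc_3_1 lc_d_rc_9_1 lc_d_rc_19_4 lc_d_rc_9_1 lc_d_rc_3_1 lc_d_rc_9_1 lc_d_rc_9_1 lc_d_rc_3_1 lc_d_rc_3_1 lc_d_rc_9_1 lc_d_rc_9_1 lc_d_rc_18_0 lc_d_rc_3_1 lc_d_rc_9_1 lc_d_rc_18_0 lc_d_rc_9_1 lc_d_rc_3_1 lc_d_rc_20_2 lc_d_rc_20_2 lc_d_rc_19_2 lc_d_rc_9_1 lc_d_rc_20_0) (@D3.rec (fun _ => (Cert rels S Gen.d)) lc_d_rc_28_5 lc_d_rc_9_1 lc_d_rc_3_1 lc_d_rc_9_1 lc_d_rc_3_1 lc_d_rc_20_2 lc_d_rc_19_2 lc_d_rc_18_0 lc_d_rc_3_1 lc_d_rc_3_1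 lc_d_rc_21_2 lc_d_rc_21_2 lc_d_rc_9_1 lc_d_rc_28_5 lc_d_rc_21_2 lc_d_rc_9_1 lc_d_rc_18_0 lc_d_rc_18_1 lc_d_rc_3_1 lc_d_rc_21_2 lc_d_rc_28_5 lc_d_rc_3_1 lc_d_rc_9_1 lc_d_rc_21_2 lc_d_rc_18_0 lc_d_rc_19_4 lc_d_rc_19_2 lc_d_rc_9_1 lc_d_rc_9_1 lc_d_rc_9_1 lc_d_rc_18_0 lc_d_rc_3_1 lc_d_rc_3_1 lc_d_rc_28_5 lc_d_rc_9_1 lc_d_rc_3_1 lc_d_rc_9_1 lc_d_rc_18_0 lc_d_rc_32_33 lc_d_rc_18_0) (@D3.rec (fun _ => (Cert rels S Gen.d)) lc_d_rc_3_1 lc_d_rc_19_2 lc_d_rc_20_2 lc_d_rc_28_5 lc_d_rc_21_2 lc_d_rc_19_2 lc_d_rc_20_0 lc_d_rc_21_2 lc_d_rc_32_33 lc_d_rc_9_1 lc_d_rc_3_1 lc_d_rc_28_5 lc_d_rc_9_1 lc_d_rc_9_1 lc_d_rc_19_2 lc_d_rc_19_2 lc_d_rc_21_2 lc_d_rc_3_1 lc_d_rc_20_2 lc_d_rc_20_2 lc_d_rc_20_2 lc_d_rc_32_33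 lc_d_rc_3_1 lc_d_rc_9_1 lc_d_rc_19_2 lc_d_rc_20_0 lc_d_rc_28_5 lc_d_rc_3_1 lc_d_rc_20_0 lc_d_rc_3_3 lc_d_rc_3_3 lc_d_rc_21_2 lc_d_rc_18_1 lc_d_rc_3_1 lc_d_rc_9_1 lc_d_rc_20_2 lc_d_rc_19_2 lc_d_rc_28_1 lc_d_rc_20_2 lc_d_rc_32_69) (@D3.rec (fun _ => (Cert rels S Gen.d)) lc_d_rc_3_1 lc_d_rc_21_2 lc_d_rc_9_1 lc_d_rc_32_33 lc_d_rc_20_2 lc_d_rc_21_2 lc_d_rc_9_1 lc_d_rc_21_2 lc_d_rc_20_2 lc_d_rc_3_1 lc_d_rc_21_2 lc_d_rc_9_1 lc_d_rc_3_1 lc_d_rc_20_2 lc_d_rc_32_45 lc_d_rc_20_2 lc_d_rc_21_2 lc_d_rc_3_1 lc_d_rc_20_2 lc_d_rc_32_35 lc_d_rc_18_0 lc_d_rc_18_0 lc_d_rc_21_2 lc_d_rc_18_0 lc_d_rc_20_0 lc_d_rc_21_0 lc_d_rc_9_3 lc_d_rc_18_0 lc_d_rc_20_0 lc_d_rc_3_1 lc_d_rc_18_0 lc_d_rc_32_17 lc_d_rc_28_3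 lc_d_rc_28_3 lc_d_rc_9_1 lc_d_rc_9_1 lc_d_rc_20_0 lc_d_rc_20_2 lc_d_rc_9_1 lc_d_rc_9_1) (@D3.rec (fun _ => (Cert rels S Gen.d)) lc_d_rc_9_1 lc_d_rc_9_1 lc_d_rc_9_1 lc_d_rc_20_0 lc_d_rc_9_3 lc_d_rc_20_2 lc_d_rc_28_7 lc_d_rc_9_1 lc_d_rc_20_2 lc_d_rc_20_2 lc_d_rc_3_1 lc_d_rc_9_1 lc_d_rc_9_1 lc_d_rc_20_2 lc_d_rc_20_2 lc_d_rc_9_1 lc_d_rc_9_1 lc_d_rc_9_1 lc_d_rc_20_2 lc_d_rc_32_45 lc_d_rc_32_12 lc_d_rc_19_2 lc_d_rc_32_45 lc_d_rc_9_1 lc_d_rc_32_64 lc_d_rc_9_1 lc_d_rc_9_1 lc_d_rc_9_1 lc_d_rc_14_11 lc_d_rc_3_1 lc_d_rc_9_1 lc_d_rc_9_1 lc_d_rc_3_1 lc_d_rc_3_1 lc_d_rc_9_1 lc_d_rc_20_2 lc_d_rc_21_2 lc_d_rc_20_2 lc_d_rc_21_2 lc_d_rc_21_2) (@D3.rec (fun _ => (Cert rels S Gen.d)) lc_d_rc_32_64 lc_d_rc_32_14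 lc_d_rc_28_5 lc_d_rc_32_14 lc_d_rc_32_61 lc_d_rc_3_1 lc_d_rc_9_1 lc_d_rc_21_2 lc_d_rc_9_1 lc_d_rc_28_1 lc_d_rc_21_2 lc_d_rc_3_3 lc_d_rc_9_1 lc_d_rc_3_3 lc_d_rc_9_1 lc_d_rc_21_2 lc_d_rc_20_2 lc_d_rc_3_1 lc_d_rc_3_1 lc_d_rc_28_3 lc_d_rc_28_5 lc_d_rc_9_1 lc_d_rc_3_1 lc_d_rc_3_1 lc_d_rc_3_1 lc_d_rc_3_1 lc_d_rc_3_1 lc_d_rc_3_1 lc_d_rc_3_1 lc_d_rc_9_1 lc_d_rc_19_2 lc_d_rc_19_2 lc_d_rc_19_2 lc_d_rc_20_0 lc_d_rc_21_2 lc_d_rc_20_2 lc_d_rc_21_2 lc_d_rc_9_1 lc_d_rc_20_0 lc_d_rc_14_3)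
def ce_d : Pt → (Cert rels S Gen.d) := @Pt.rec (fun _ => (Cert rels S Gen.d)) (@D1.rec (fun _ => D2 → D3 → (Cert rels S Gen.d)) ce_d_0 ce_d_1 ce_d_2 ce_d_3 ce_d_4 ce_d_5 ce_d_6 ce_d_7 ce_d_8 ce_d_9 ce_d_10 ce_d_11 ce_d_12 ce_d_13 ce_d_14 ce_d_15 ce_d_16 ce_d_17 ce_d_18 ce_d_19 ce_d_20 ce_d_21)
def isSeed_d (p : Pt) : Bool := false

end

end Cfsg.Agent.Helper28.S1681
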