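import Cfsg.Agent.Lib.Helper28.S1681.Tree

set_option autoImplicit false
set_option maxRecDepth 100000
set_option linter.all false

namespace Cfsg.Agent.Helper28.S1681

open Cfsg.Agent.Helper28
open Cfsg.Spor.Suz (Gen)

noncomputable section

def lv_e_0 : D2 → D3 → Nat := @D2.rec (fun _ => D3 → Nat) (@D3.rec (fun _ => Nat) 0 1 2 3 4 0 5 0 5 5 1 6 0 6 6 0 1 2 2 6 7 7 0 7 7 0 1 2 2 7 7 0 1 2 2 2 2 3 6 7) (@D3.rec (fun _ => Nat) 8 0 8 8 0 1 2 2 8 8 8 9 0 0 1 2 2 2 2 3 3 8 8 8 8 8 8 1 2 2 2 2 2 3 3 3 4 3 6 4) (@D3.rec (fun _ => Nat) 7 8 8 8 9 9 9 0 1 2 2 9 9 0 0 1 2 2 2 2 3 3 3 6 9 10 10 15 0 0 1 2 2 1 2 2 2 2 2 3) (@D3.rec (fun _ => Nat) 3 3 3 4 4 4 4 4 4 9 0 9 9 0 9 2 2 2 3 3 3 4 3 3 3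 3 3 3 4 4 4 4 5 4 7 5 5 5 8 8) (@D3.rec (fun _ => Nat) 8 9 9 9 10 10 10 0 0 1 2 2 2 2 3 3 0 0 1 2 2 1 2 2 2 2 2 3 3 3 4 3 3 3 6 4 4 4 4 4) (@D3.rec (fun _ => Nat) 7 0 0 1 2 2 1 2 2 2 2 2 3 3 3 5 2 2 2 3 3 3 3 3 3 3 4 4 4 4 4 4 4 4 4 4 4 4 5 5) (@D3.rec (fun _ => Nat) 0 5 7 5 5 0 5 5 0 1 0 1 3 3 3 3 3 3 4 4 4 4 5 4 4 4 4 4 4 5 4 4 4 5 5 5 5 6 6 6) (@D3.rec (fun _ => Nat) 5 5 5 8 8 8 6 6 6 9 9 9 10 11 0 1 1 2 2 2 2 2 3 3 0 1 2 2 1 2 2 2 2 2 3 3 3 5 2 2) (@D3.rec (fun _ => Nat) 2 3 3 3 4 3 3 3 3 3 3 4 4 4 4 4 4 4 4 5 4 4 4 4 4 7 0 5 5 0 5 8 0 1 1 2 2 2 2 2) (@D3.rec (fun _ => Nat) 2 2 2 3 3 3 6 3 3 3 3 3 3 5 4 4 4 6 3 3 3 3 3 4 4 4 4 4 4 4 4 4 4 4 4 4 4 4 4 4) (@D3.rec (fun _ => Nat) 5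 5 0 5 5 5 0 5 5 5 0 5 6 5 5 0 5 5 0 1 2 6 8 0 1 2 6 6 0 0 1 0 0 1 4 7 4 4 4 4) (@D3.rec (fun _ => Nat) 4 5 4 4 4 5 5 6 5 5 5 5 5 5 6 5 5 5 5 5 6 5 5 5 6 6 6 6 6 6 0 7 7 7 0 6 6 106 6 9) (@D3.rec (fun _ => Nat) 9 112 9 7 7 10 10 11 12 0 1 2 2 2 2 3 3 3 1 2 2 2 2 2 3 3 2 2 2 3 3 3 6 3 3 3 3 3 3 5) (@D3.rec (fun _ => Nat) 4 4 4 4 4 4 4 6 3 3 3 3 3 3 4 4 4 4 4 4 4 4 5 4 4 4 4 4 4 5 4 4 4 4 4 4 4 5 5 5) (@D3.rec (fun _ => Nat) 0 5 5 6 5 5 5 5 0 5 6 5 6 6 0 5 5 0 5 8 1 2 6 0 1 2 6 0 0 1 2 2 2 2 3 3 3 3 3 3) (@D3.rec (fun _ => Nat) 3 3 3 6 4 7 4 0 4 4 4 4 4 5 4 4 4 6 0 5 5 0 7 7 4 7 4 4 4 4 4 4 4 4 4 4 5 5 5 5) (@D3.rec (fun _ => Nat) 5 5 5 5 5 5 5 5 5 5 5 0 5 5 5 0 5 6 0 6 1 2 6 6 0 6 1 2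 6 0 0 1 2 6 7 0 0 1 2 6) (@D3.rec (fun _ => Nat) 6 1 2 3 9 7 7 8 1 2 3 3 7 7 7 0 1 2 1 2 0 1 2 1 2 5 8 5 5 8 8 5 5 5 6 5 5 5 5 5) (@D3.rec (fun _ => Nat) 6 5 6 6 7 6 6 6 6 6 6 7 6 6 6 6 6 6 6 7 0 6 59 6 6 0 6 70 7 7 6 6 6 0 7 7 7 0 0 7) (@D3.rec (fun _ => Nat) 7 7 0 1 0 8 8 8 0 1 107 7 108 108 7 99 10 100 100 10 8 8 8 11 11 11 72 1 2 3 3 3 3 4 4 4 2 2 2 3) (@D3.rec (fun _ => Nat) 3 3 3 3 3 3 3 3 3 3 3 3 6 4 4 4 7 4 0 4 4 4 4 4 5 4 4 4 4 4 4 4 6 5 0 5 5 5 0 5) (@D3.rec (fun _ => Nat) 7 4 10 4 4 4 4 4 5 4 4 4 4 4 4 4 5 5 5 5 5 5 5 5 6 6 6 5 5 5 5 5 5 6 5 5 5 5 5 5) (@D3.rec (fun _ => Nat) 5 6 5 5 0 5 5 5 5 5 5 5 0 5 6 5 6 6 0 1 2 6 7 6 6 6 0 0 1 2 6 6 7 7 7 0 0 1 2 6) (@D3.rec (fun _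 => Nat) 0 0 1 2 6 0 2 3 7 7 1 2 3 7 7 1 73 1 2 3 3 3 3 4 0 4 4 4 0 4 4 4 4 4 5 4 7 5 5 8) (@D3.rec (fun _ => Nat) 8 5 81 5 5 77 1 2 2 5 5 5 6 5 5 5 6 0 5 5 0 7 7 1 1 5 8 5 5 8 8 5 5 5 5 5 5 5 5 5) (@D3.rec (fun _ => Nat) 64 5 64 6 6 6 6 6 6 7 6 6 6 6 6 6 6 6 0 6 6 6 0 6 6 0 6 0 1 2 6 6 0 6 0 1 2 6 1 2)
def lv_e_1 : D2 → D3 → Nat := @D2.rec (fun _ => D3 → Nat) (@D3.rec (fun _ => Nat) 3 7 1 2 3 7 0 1 0 1 2 2 3 10 7 7 9 0 1 0 1 2 2 3 3 7 7 7 3 8 4 4 8 3 3 8 1 2 2 2) (@D3.rec (fun _ => Nat) 3 1 2 2 2 3 6 9 6 6 9 9 9 6 6 6 7 9 9 9 9 6 6 6 6 6 6 6 7 0 6 6 6 0 6 7 7 6 7 7) (@D3.rec (fun _ => Nat) 7 8 8 7 7 7 7 7 7 7 7 7 7 7 7 8 8 7 7 7 0 7 7 8 7 7 7 7 7 7 0 7 8 7 8 8 8 1 2 7) (@D3.rec (fun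 _ => Nat) 65 7 7 0 1 2 7 66 8 8 0 0 7 7 7 0 0 1 0 8 8 8 0 0 1 1 8 8 0 8 8 1 1 9 9 0 9 9 1 107) (@D3.rec (fun _ => Nat) 107 8 108 108 108 8 8 113 113 11 108 114 114 11 11 9 12 3 4 76 4 10 4 4 5 5 5 5 5 3 3 3 3 3 4 4 4 4 4 4) (@D3.rec (fun _ => Nat) 79 4 4 4 4 4 5 4 4 4 7 5 0 5 5 1 2 2 5 5 5 6 65 5 5 5 77 5 5 6 5 0 5 5 5 0 5 7 6 0) (@D3.rec (fun _ => Nat) 1 0 6 0 1 0 5 11 5 5 11 11 5 5 5 6 5 5 5 5 5 5 5 6 5 65 5 5 5 5 5 78 5 6 6 6 6 6 6 7) (@D3.rec (fun _ => Nat) 7 7 6 6 6 6 6 6 7 6 6 6 6 6 6 6 7 6 6 0 6 6 8 6 6 6 6 0 6 7 6 7 7 0 0 1 2 6 6 6) (@D3.rec (fun _ => Nat) 6 6 0 0 0 1 2 6 6 7 7 7 0 1 2 110 113 7 1 1 2 105 105 7 1 0 1 2 2 3 7 7 0 1 0 1 2 2 3 7) (@D3.rec (fun _ => Nat) 7 0 1 3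 3 3 4 75 4 0 4 4 5 0 5 5 1 2 2 5 5 5 5 5 1 2 2 5 5 5 6 5 5 5 6 5 5 8 8 6) (@D3.rec (fun _ => Nat) 9 80 6 6 81 81 6 6 6 7 78 79 79 2 2 3 3 3 4 6 6 6 6 6 6 6 7 0 6 6 0 7 7 0 1 114 0 1 112 6) (@D3.rec (fun _ => Nat) 9 6 6 9 9 9 6 6 6 7 9 9 6 6 6 6 6 6 6 6 0 6 6 6 0 6 66 74 7 78 7 7 7 7 7 7 7 7 7 7) (@D3.rec (fun _ => Nat) 8 8 7 7 7 0 7 8 7 7 7 0 7 7 7 0 7 0 1 2 7 7 0 7 0 1 2 7 103 0 1 108 0 0 1 2 2 3 7 98) (@D3.rec (fun _ => Nat) 0 1 100 0 0 1 2 2 3 7 3 3 0 1 0 1 2 2 11 2 3 3 3 9 4 4 107 109 8 0 1 0 1 2 2 11 2 3 3 3) (@D3.rec (fun _ => Nat) 3 4 4 111 99 8 4 4 2 3 105 3 4 2 3 99 3 4 7 7 10 7 7 10 10 10 7 7 81 10 10 10 10 10 11 7 7 7 7 7) (@D3.rec (fun _ => Nat) 7 8 8 10 10 10 10 10 10 10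 10 7 7 7 0 7 7 8 7 7 7 7 7 7 0 7 8 7 8 8 8 0 1 7 7 7 0 0 1 7) (@D3.rec (fun _ => Nat) 8 8 0 7 7 8 8 8 9 8 8 8 0 8 8 8 8 8 9 8 8 8 8 8 8 8 8 0 8 8 8 8 8 8 8 0 9 9 9 9) (@D3.rec (fun _ => Nat) 9 8 8 8 8 8 0 8 8 0 1 2 8 9 8 8 9 9 8 8 8 0 8 8 8 8 8 8 8 0 8 8 0 1 2 8 8 9 9 9) (@D3.rec (fun _ => Nat) 8 9 9 9 0 9 10 2 3 8 67 8 0 8 8 8 0 0 1 2 3 8 75 8 0 9 9 9 0 0 1 0 1 8 8 0 8 108 8 0) (@D3.rec (fun _ => Nat) 1 0 0 1 0 1 9 9 0 9 100 9 0 1 0 0 1 1 1 107 109 107 108 108 109 110 109 108 108 9 107 101 113 105 109 111 113 111 105 112) (@D3.rec (fun _ => Nat) 12 4 5 76 5 5 5 11 5 5 11 11 5 5 6 6 6 6 6 6 7 6 6 6 6 4 4 4 4 4 78 5 5 5 5 5 5 5 79 5) (@D3.rec (fun _ => Nat) 5 79 79 5 5 5 6 5 5 5 5 5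 6 6 0 6 6 0 1 2 2 6 6 6 7 2 2 3 3 3 4 6 6 6 6 6 6 6 7 69) (@D3.rec (fun _ => Nat) 0 6 6 79 0 6 7 6 0 0 1 108 0 6 0 0 1 110 0 113 1 1 106 1 1 6 12 6 6 12 12 12 6 6 6 7 12 12 12 12) (@D3.rec (fun _ => Nat) 6 6 6 6 6 6 6 7 6 6 0 6 6 7 6 6 6 6 0 6 7 6 7 7 70 6 6 6 113 78 7 7 7 105 7 8 7 7 7 7) (@D3.rec (fun _ => Nat) 7 7 7 7 7 7 7 8 8 7 7 7 0 7 7 8 7 7 7 7 7 7 0 7 8 7 8 8 8 7 7 0 0 1 2 7 9 7 7 7) (@D3.rec (fun _ => Nat) 0 7 7 0 0 1 2 7 7 8 8 8 0 0 1 0 0 1 2 2 3 3 7 111 112 103 105 0 1 0 1 0 0 1 2 2 3 3 7 105)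
def lv_e_2 : D2 → D3 → Nat := @D2.rec (fun _ => D3 → Nat) (@D3.rec (fun _ => Nat) 105 103 115 0 1 0 1 2 2 13 2 3 3 104 4 110 0 1 0 1 2 2 76 2 3 3 102 4 103 0 1 4 5 77 5 5 5 79 5 5) (@D3.rec (fun _ => Nat) 1 2 2 5 5 6 83 6 6 0 1 2 2 6 6 6 7 2 2 3 3 6 6 6 6 6 6 6 6 6 7 2 2 3 3 3 4 6 6 6) (@D3.rec (fun _ => Nat) 6 6 6 6 7 0 6 6 0 7 7 6 112 9 104 82 82 7 7 83 83 83 82 7 7 7 7 7 7 8 8 78 78 79 79 3 3 3 4 4) (@D3.rec (fun _ => Nat) 4 4 4 4 4 4 5 7 7 7 0 7 7 8 7 7 7 7 7 7 0 7 8 7 8 8 8 0 1 7 0 0 1 8 0 0 0 1 106 0) (@D3.rec (fun _ => Nat) 0 1 116 7 10 7 7 10 10 10 7 7 10 10 10 10 10 11 7 7 7 7 7 7 8 8 10 10 10 10 10 10 7 7 7 0 7 8 7 7) (@D3.rec (fun _ => Nat) 7 0 7 7 7 0 7 1 2 7 7 0 7 1 2 7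 66 0 67 0 8 8 78 78 8 8 8 9 8 8 8 8 8 8 8 8 0 8 8 8) (@D3.rec (fun _ => Nat) 8 8 8 8 0 9 9 9 9 9 8 8 8 8 0 8 8 0 1 2 8 9 9 8 8 8 8 0 8 8 0 1 2 8 8 8 8 0 8 8) (@D3.rec (fun _ => Nat) 1 2 8 0 1 2 2 3 8 8 8 0 8 8 1 2 8 0 1 2 2 3 8 8 100 92 1 105 0 0 1 2 2 1 2 2 2 3 3 111) (@D3.rec (fun _ => Nat) 4 99 96 1 100 0 0 1 2 2 1 2 2 2 3 3 103 4 94 1 91 2 11 0 1 93 2 94 2 2 3 3 92 14 18 3 3 4 4 4) (@D3.rec (fun _ => Nat) 4 4 4 111 5 0 109 106 104 1 2 102 11 0 1 2 107 108 2 2 3 109 3 75 19 3 3 4 4 4 4 4 4 103 5 0 101 101 3 4) (@D3.rec (fun _ => Nat) 0 101 4 5 95 5 3 4 0 100 4 5 5 99 8 8 8 0 8 8 11 11 8 8 8 9 11 80 11 11 11 11 8 8 8 8 8 8 82 82) (@D3.rec (fun _ => Nat) 11 11 11 12 11 11 11 11 11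 11 12 12 8 8 0 8 8 8 8 8 8 8 0 9 9 9 9 9 11 11 11 0 11 11 12 11 11 11 11 11) (@D3.rec (fun _ => Nat) 11 0 11 11 11 11 11 11 8 8 8 8 8 0 8 8 0 1 2 8 9 8 8 9 9 8 8 8 0 8 8 8 8 8 8 8 0 8 8 0) (@D3.rec (fun _ => Nat) 1 2 8 8 9 9 9 8 9 9 9 0 9 10 0 1 8 8 8 8 8 0 0 1 0 1 8 8 9 9 9 0 0 1 8 106 9 114 9 10) (@D3.rec (fun _ => Nat) 0 9 9 9 9 0 1 2 2 9 9 9 10 9 9 9 12 9 9 10 11 9 9 9 0 9 10 9 9 9 0 9 9 82 83 9 9 9 0 0) (@D3.rec (fun _ => Nat) 1 2 9 9 9 9 9 9 10 0 9 9 90 91 9 9 9 0 0 1 2 10 10 10 10 13 10 10 0 10 11 9 9 9 0 9 9 9 9 10) (@D3.rec (fun _ => Nat) 9 0 9 9 0 1 2 9 9 9 9 0 1 2 2 3 8 9 67 10 10 9 9 0 10 10 10 10 10 9 9 9 9 9 0 9 9 0 1 2) (@D3.rec (fun _ => Nat) 9 9 9 9 9 0 9 9 9 9 10 9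 0 9 9 0 1 2 9 9 9 9 0 1 2 2 3 3 9 68 9 9 10 10 0 10 10 9 9 9) (@D3.rec (fun _ => Nat) 10 10 10 10 10 0 10 10 0 1 2 11 11 3 4 4 9 67 9 0 67 9 1 9 9 0 9 0 9 9 1 0 1 3 4 4 9 68 9 0) (@D3.rec (fun _ => Nat) 68 10 1 10 10 0 10 0 10 10 1 0 1 97 1 104 104 0 1 109 108 108 0 1 0 0 1 2 101 1 2 100 1 109 110 0 1 113 112 112) (@D3.rec (fun _ => Nat) 0 1 103 0 1 102 101 1 2 109 109 109 109 110 110 110 110 104 110 110 110 109 109 0 110 112 106 105 110 111 113 113 113 111 113 0 102 5 5 5) (@D3.rec (fun _ => Nat) 82 78 6 6 78 78 78 6 7 6 12 6 6 12 12 12 6 6 6 7 12 12 6 6 6 6 7 7 7 7 7 7 7 7 7 7 8 8 82 7) (@D3.rec (fun _ => Nat) 8 94 7 7 5 5 5 5 5 5 80 80 80 6 80 6 80 6 6 6 6 6 6 0 0 6 93 6 6 93 97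 6 6 6 7 81 81 81 81 6) (@D3.rec (fun _ => Nat) 6 6 6 6 6 6 7 0 6 6 0 6 7 99 7 7 0 1 91 95 94 99 0 1 2 2 2 2 3 98 3 94 7 7 7 7 7 7 8 8) (@D3.rec (fun _ => Nat) 3 3 3 4 4 4 4 4 4 4 4 5 7 7 7 0 7 7 8 7 7 7 7 7 7 0 7 8 7 8 8 8 71 0 0 1 2 7 0 79) (@D3.rec (fun _ => Nat) 0 0 1 2 7 0 103 113 100 1 91 0 1 110 0 1 101 106 99 1 95 0 1 112 0 1 7 13 7 7 13 13 7 7 13 13 13 13 13 14)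
def lv_e_3 : D2 → D3 → Nat := @D2.rec (fun _ => D3 → Nat) (@D3.rec (fun _ => Nat) 7 7 7 7 7 7 8 8 13 13 13 13 13 13 13 13 7 7 7 0 7 7 8 7 7 7 7 7 7 0 7 8 7 8 8 8 7 7 0 1) (@D3.rec (fun _ => Nat) 2 7 8 7 7 7 0 7 7 0 1 2 7 7 8 8 8 0 70 0 7 107 113 113 80 0 8 115 105 105 8 9 8 8 8 8 8 9 8 8) (@D3.rec (fun _ => Nat) 8 8 8 8 8 8 0 8 8 8 8 8 8 8 0 9 9 9 9 9 8 8 8 8 8 0 8 8 1 2 8 9 8 8 9 9 8 8 8 0) (@D3.rec (fun _ => Nat) 8 8 8 8 8 8 8 0 8 8 1 2 8 8 9 9 9 8 9 9 9 0 9 10 8 0 8 0 8 8 1 0 1 2 2 3 3 8 8 8) (@D3.rec (fun _ => Nat) 9 8 0 8 0 0 1 8 0 8 0 8 8 1 0 1 2 2 3 3 8 9 8 8 9 0 9 0 0 1 0 1 0 0 1 95 2 1 2 2) (@D3.rec (fun _ => Nat) 2 3 3 3 3 112 4 105 115 0 0 1 0 1 0 0 1 100 99 1 2 2 2 98 3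 3 3 104 4 110 113 0 0 1 0 1 2 2 94 2) (@D3.rec (fun _ => Nat) 2 3 3 99 19 3 4 4 4 4 111 0 105 0 1 2 2 18 0 1 2 2 99 2 2 100 104 3 76 3 4 102 4 4 102 0 103 0 1 2) (@D3.rec (fun _ => Nat) 2 19 5 5 5 77 6 6 77 77 77 6 7 6 6 6 79 79 6 6 6 7 2 2 3 3 6 6 6 6 82 7 7 82 84 83 7 7 0 1) (@D3.rec (fun _ => Nat) 2 2 2 2 3 3 3 4 7 7 7 7 8 8 3 3 4 4 4 4 4 4 7 7 8 7 7 7 7 7 7 7 7 7 7 7 8 8 3 3) (@D3.rec (fun _ => Nat) 3 4 82 83 4 4 92 91 4 5 7 7 7 0 7 7 8 7 7 7 7 7 7 0 7 8 7 8 8 8 1 7 0 1 8 0 113 114 116 106) (@D3.rec (fun _ => Nat) 82 82 8 8 8 8 8 8 92 94 83 83 96 95 82 84 8 8 0 8 8 8 8 8 8 8 0 9 9 9 9 9 80 80 87 87 83 101 97 81) (@D3.rec (fun _ => Nat) 4 4 4 4 4 4 4 5 94 96 5 0 5 5 95 5 5 5 98 98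 5 0 5 6 98 6 6 6 8 8 8 8 8 0 8 8 0 1 2 9) (@D3.rec (fun _ => Nat) 8 8 9 9 8 8 8 0 8 8 8 8 8 8 8 0 8 8 0 1 2 8 9 9 9 8 9 9 9 0 9 10 0 1 8 0 0 1 0 1) (@D3.rec (fun _ => Nat) 9 0 0 1 101 0 1 97 96 1 2 106 0 98 0 1 99 99 1 2 114 0 8 8 11 11 8 8 8 9 11 11 11 11 11 8 8 8 8 8) (@D3.rec (fun _ => Nat) 8 11 11 11 12 11 11 11 11 11 11 12 12 8 8 0 8 8 8 8 8 8 8 0 9 9 9 9 9 11 11 11 0 11 12 11 11 11 0 11) (@D3.rec (fun _ => Nat) 11 8 8 8 8 0 8 8 0 1 2 8 9 9 8 8 8 8 0 8 8 0 1 2 8 8 8 8 0 8 8 1 8 2 3 8 8 8 0 8) (@D3.rec (fun _ => Nat) 8 1 8 2 3 8 8 68 0 66 68 1 76 0 76 76 1 9 9 80 80 80 80 9 14 14 15 9 9 9 9 9 9 9 9 9 9 9 0 0) (@D3.rec (fun _ => Nat) 1 2 9 9 9 9 15 9 10 0 9 9 9 9 9 9 9 0 0 1 2 10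 10 10 10 13 10 10 0 10 11 9 9 9 9 10 0 9 9 1) (@D3.rec (fun _ => Nat) 2 9 9 9 9 0 1 2 2 3 8 9 10 10 10 10 10 9 9 9 9 10 0 9 9 1 2 9 9 9 9 0 1 2 2 3 3 9 9 9) (@D3.rec (fun _ => Nat) 9 9 9 9 0 9 9 0 1 2 2 9 9 10 2 3 9 9 92 1 94 93 93 2 3 3 4 4 4 9 9 9 9 0 9 9 0 1 2 2) (@D3.rec (fun _ => Nat) 9 9 10 2 3 9 9 96 1 97 97 2 3 3 4 4 4 9 9 10 103 0 95 103 0 0 1 92 2 1 2 2 2 2 2 3 3 4 2 2) (@D3.rec (fun _ => Nat) 3 65 3 3 4 4 4 4 111 0 99 0 100 99 0 0 1 2 107 1 2 2 2 2 2 3 3 106 2 2 3 68 3 3 4 4 4 4 105 0) (@D3.rec (fun _ => Nat) 92 92 2 94 94 92 1 95 2 2 3 91 93 3 3 4 4 4 4 94 20 20 4 4 4 4 5 5 5 0 5 5 98 5 104 5 5 0 113 6) (@D3.rec (fun _ => Nat) 0 0 1 2 109 104 100 103 2 105 98 96 1 2 100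 2 3 106 108 3 3 4 4 4 109 108 78 19 4 4 4 4 5 5 5 0 5 5 108 5) (@D3.rec (fun _ => Nat) 99 5 5 0 101 6 0 0 1 2 101 99 4 0 5 0 90 5 1 2 102 5 5 6 95 6 93 6 4 0 5 0 5 102 1 2 98 5 5 6) (@D3.rec (fun _ => Nat) 6 99 6 102 81 9 9 9 9 1 93 98 9 9 9 10 12 12 12 13 9 9 9 12 9 9 10 11 12 81 12 12 81 81 12 12 12 12 12 12)
def lv_e_4 : D2 → D3 → Nat := @D2.rec (fun _ => D3 → Nat) (@D3.rec (fun _ => Nat) 12 12 9 9 9 0 9 10 9 9 9 0 9 9 83 83 83 82 12 12 12 12 12 13 12 12 0 12 12 12 12 12 12 12 0 13 13 13 13 13) (@D3.rec (fun _ => Nat) 9 9 9 0 83 1 2 9 9 9 9 9 9 10 0 9 9 9 9 9 0 95 1 2 10 10 10 10 12 10 10 0 10 11 12 12 12 93 12 12) (@D3.rec (fun _ => Nat) 0 1 2 12 13 12 12 13 13 12 12 12 0 12 12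 12 12 12 95 12 12 0 1 2 12 12 12 12 12 12 12 12 12 0 12 13 9 9 9 0) (@D3.rec (fun _ => Nat) 9 9 9 9 10 9 0 9 9 0 1 2 9 9 9 9 0 0 1 2 2 3 8 9 10 10 9 9 0 10 10 10 10 10 9 9 9 9 9 0) (@D3.rec (fun _ => Nat) 9 9 0 1 2 9 9 9 9 9 0 9 9 9 9 10 9 0 9 9 0 1 2 9 9 9 9 0 0 1 2 2 3 3 9 9 9 10 10 0) (@D3.rec (fun _ => Nat) 10 10 9 9 9 10 10 10 10 10 0 10 10 0 1 2 11 11 0 1 2 9 9 9 9 9 0 9 0 9 9 1 0 1 0 1 2 9 9 10) (@D3.rec (fun _ => Nat) 10 10 0 10 0 10 10 1 0 1 9 108 108 10 106 116 0 1 90 95 95 96 18 10 11 18 10 12 0 83 1 2 2 2 2 3 3 3 4 10) (@D3.rec (fun _ => Nat) 10 10 10 10 11 18 10 0 10 15 11 13 11 14 10 0 11 11 10 12 10 82 80 17 12 10 0 10 12 1 2 10 11 86 84 11 18 10 0 10) (@D3.rec (fun _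 => Nat) 10 1 2 10 10 84 83 83 10 11 10 0 10 10 0 1 96 0 1 97 2 3 10 10 16 10 0 10 86 84 13 10 0 11 110 1 2 10 10 16) (@D3.rec (fun _ => Nat) 87 93 90 10 11 10 0 10 10 0 1 105 0 1 98 2 3 11 11 11 11 0 11 86 88 14 11 0 11 110 1 2 11 12 11 10 10 10 1 2) (@D3.rec (fun _ => Nat) 10 10 11 15 10 10 15 10 0 10 10 0 1 2 2 10 10 11 89 1 2 2 3 10 10 10 10 10 10 0 10 1 2 2 2 3 3 3 7 4) (@D3.rec (fun _ => Nat) 4 4 8 10 69 0 67 11 11 11 11 10 10 10 10 10 0 0 1 2 11 11 11 11 11 11 0 11 12 10 10 10 10 0 10 10 10 11 10 0) (@D3.rec (fun _ => Nat) 10 10 0 1 2 10 10 0 0 1 2 2 3 10 10 10 10 10 10 10 1 2 10 10 11 10 10 10 15 0 10 10 0 1 2 2 10 10 11 93) (@D3.rec (fun _ => Nat) 1 2 2 3 10 10 10 10 10 0 10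 1 2 2 2 3 3 3 3 4 4 4 4 10 77 0 77 10 10 10 10 11 11 11 11 11 0 0 1 2) (@D3.rec (fun _ => Nat) 11 11 11 11 10 12 0 10 10 11 11 11 11 0 11 11 11 11 11 0 11 11 1 2 11 11 0 1 2 2 8 12 12 12 12 4 4 5 5 10) (@D3.rec (fun _ => Nat) 10 10 69 0 65 0 1 2 67 10 10 0 10 0 10 10 0 1 10 0 10 10 0 1 2 2 10 11 0 1 2 2 6 4 4 5 5 10 10 10) (@D3.rec (fun _ => Nat) 77 0 77 0 1 2 70 11 11 0 11 0 11 11 0 1 11 0 11 11 0 1 2 2 11 12 0 1 2 2 7 95 94 101 104 104 0 0 1 109) (@D3.rec (fun _ => Nat) 108 0 110 0 1 2 2 6 0 0 1 100 103 0 1 2 2 2 2 104 2 101 102 114 112 0 0 1 116 112 0 112 0 1 2 2 7 104 0 102) (@D3.rec (fun _ => Nat) 0 1 2 2 2 2 109 109 111 109 111 0 110 110 112 111 110 110 106 114 110 0 110 122 109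 111 1 2 110 114 113 114 0 107 118 111 113 112 112 114) (@D3.rec (fun _ => Nat) 0 114 120 111 113 1 2 117 6 6 6 7 78 78 78 78 78 80 7 8 7 7 13 7 7 13 13 7 7 13 13 13 13 13 14 7 7 7 7 8) (@D3.rec (fun _ => Nat) 8 13 13 13 13 13 13 7 8 7 7 8 8 8 9 8 8 8 8 87 8 8 8 8 94 9 9 9 9 84 84 8 9 90 96 8 8 6 6 6) (@D3.rec (fun _ => Nat) 6 6 6 6 6 0 0 80 80 7 7 7 7 7 8 7 7 7 0 7 8 7 7 7 0 7 7 1 1 7 7 93 99 97 94 7 7 7 7 7) (@D3.rec (fun _ => Nat) 7 8 8 81 81 81 111 81 81 81 111 7 7 7 0 7 7 8 7 7 7 7 7 7 0 7 8 7 8 8 8 1 2 7 0 1 2 7 0 8) (@D3.rec (fun _ => Nat) 9 1 1 2 2 80 2 2 3 103 3 102 3 3 93 93 4 101 97 97 4 96 8 8 8 8 8 8 8 8 8 9 9 9 9 9 4 4 4 4) (@D3.rec (fun _ => Nat) 4 4 4 5 5 96 5 93 111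 119 5 6 101 6 97 114 115 6 8 8 0 8 8 1 2 8 9 8 8 9 9 8 8 8 0 8 8 8 8 0) (@D3.rec (fun _ => Nat) 8 8 1 2 8 8 9 9 9 8 9 9 9 0 9 10 71 71 1 0 1 2 2 3 8 8 1 81 81 1 0 1 2 2 3 8 8 1 104 96)
def lv_e_5 : D2 → D3 → Nat := @D2.rec (fun _ => D3 → Nat) (@D3.rec (fun _ => Nat) 94 1 2 110 0 1 100 102 97 1 2 112 0 1 14 8 8 14 14 8 8 8 9 14 14 8 8 8 8 8 8 14 14 14 14 14 14 14 14 15) (@D3.rec (fun _ => Nat) 15 8 8 0 8 8 8 8 8 8 8 0 9 9 9 9 9 84 14 14 14 15 14 14 14 94 14 14 14 14 14 14 14 8 8 8 8 8 0 8) (@D3.rec (fun _ => Nat) 8 1 2 8 9 8 8 9 9 8 8 8 0 8 8 8 8 8 8 8 0 8 8 1 2 8 8 9 9 9 8 9 9 9 0 9 10 8 90 8) (@D3.rec (fun _ => Nat) 0 8 8 1 2 3 3 8 8 8 10 8 0 8 0 0 1 8 96 8 0 8 8 1 2 3 3 8 9 8 8 9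 0 9 0 0 1 72 97 72) (@D3.rec (fun _ => Nat) 1 8 107 107 114 119 0 80 107 80 1 9 117 115 117 117 0 9 9 9 9 9 9 9 9 10 10 9 9 9 9 10 9 9 9 9 9 9 9 9) (@D3.rec (fun _ => Nat) 9 1 2 9 9 9 9 9 9 10 114 9 9 9 9 9 9 1 2 10 10 10 10 13 10 10 120 10 11 9 9 9 9 0 9 9 9 9 10 0) (@D3.rec (fun _ => Nat) 9 9 1 2 9 9 9 9 2 3 8 9 9 10 10 9 9 117 10 10 10 10 10 9 9 9 9 9 113 9 9 1 9 9 9 9 9 0 9 9) (@D3.rec (fun _ => Nat) 9 9 10 0 9 9 1 2 9 9 9 9 2 3 3 9 10 9 9 10 10 9 9 9 10 10 10 10 10 10 10 1 11 81 84 9 9 1 0 9) (@D3.rec (fun _ => Nat) 9 1 2 9 10 1 103 2 5 2 3 3 3 4 4 4 4 9 9 9 0 9 11 9 11 11 9 0 0 1 9 0 9 9 1 0 1 89 96 9) (@D3.rec (fun _ => Nat) 9 1 0 9 9 1 2 9 10 1 2 100 5 2 3 3 3 4 4 4 4 9 10 9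 0 10 9 10 9 9 10 0 0 1 10 0 10 10 1 0) (@D3.rec (fun _ => Nat) 1 0 1 2 5 0 0 1 97 2 1 2 2 99 99 98 2 2 3 3 3 3 100 98 96 4 4 112 0 105 0 106 0 0 1 2 2 1 0 1) (@D3.rec (fun _ => Nat) 2 5 0 0 1 97 105 1 2 105 2 2 3 3 3 104 101 99 4 4 104 0 115 0 115 0 0 1 2 2 1 0 1 2 2 2 3 96 3 3) (@D3.rec (fun _ => Nat) 4 4 101 101 15 4 4 4 98 111 103 0 104 103 0 106 0 0 1 2 112 0 1 2 2 20 2 2 3 5 0 1 2 2 2 3 99 3 102 4) (@D3.rec (fun _ => Nat) 78 4 4 111 102 105 0 102 103 0 104 1 2 103 0 1 2 2 19 2 2 3 5 6 6 6 7 79 79 7 7 79 79 79 79 79 7 8 7 7) (@D3.rec (fun _ => Nat) 7 7 79 79 79 79 7 7 7 7 8 8 3 3 81 81 4 86 85 4 7 7 8 7 7 7 83 84 8 8 84 84 82 82 8 8 8 8 79 1) (@D3.rec (fun _ => Nat) 2 2 2 2 3 4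 3 3 3 4 4 4 4 5 8 8 8 8 9 9 9 9 4 4 4 4 4 4 5 5 5 5 7 5 5 6 5 5 8 8) (@D3.rec (fun _ => Nat) 8 9 8 8 8 8 8 8 8 8 8 8 8 8 0 8 8 8 8 8 8 8 0 9 9 9 9 9 4 4 4 5 84 84 0 83 5 82 87 85) (@D3.rec (fun _ => Nat) 89 92 91 0 88 6 82 83 85 87 8 8 8 8 8 0 8 8 0 1 2 9 8 8 9 9 8 8 8 0 8 8 8 8 8 8 8 0 8 8) (@D3.rec (fun _ => Nat) 0 1 2 8 9 9 9 8 9 9 9 0 9 10 8 0 0 1 9 0 0 1 114 118 0 106 115 0 84 83 83 81 94 85 85 85 83 97 84 84) (@D3.rec (fun _ => Nat) 84 84 9 9 0 1 2 9 9 9 9 13 9 10 0 9 9 9 9 0 1 2 10 10 10 10 11 10 10 0 10 11 82 80 88 88 101 99 5 5) (@D3.rec (fun _ => Nat) 5 5 5 5 5 5 6 6 6 6 93 6 1 2 104 95 6 6 6 95 6 6 6 0 6 89 97 6 1 2 111 98 7 7 7 98 7 7 7 0) (@D3.rec (fun _ => Nat) 7 87 9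 9 9 9 10 0 1 2 9 9 9 9 1 2 2 8 10 9 9 0 10 10 10 10 10 9 9 9 9 9 0 9 82 0 1 2 9 9) (@D3.rec (fun _ => Nat) 9 9 9 9 10 0 1 2 9 9 9 9 1 2 2 3 9 10 10 0 10 10 9 9 9 10 10 10 10 10 0 10 82 0 1 2 11 11 1 66) (@D3.rec (fun _ => Nat) 9 0 9 9 1 0 1 1 69 10 0 10 10 1 0 1 0 92 0 1 2 2 95 2 107 0 107 112 1 0 96 0 1 2 2 98 2 116 0 114) (@D3.rec (fun _ => Nat) 116 1 9 9 12 12 12 13 9 15 15 14 12 12 12 12 12 12 12 12 12 12 12 9 9 61 9 9 9 85 9 12 12 12 12 12 13 12 12 0) (@D3.rec (fun _ => Nat) 12 12 12 12 12 12 12 0 13 13 13 13 13 9 9 9 9 9 0 0 1 2 9 9 9 9 14 9 10 0 9 9 9 9 9 9 9 0 0 1)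
def lv_e_6 : D2 → D3 → Nat := @D2.rec (fun _ => D3 → Nat) (@D3.rec (fun _ => Nat) 2 10 10 10 10 12 10 10 0 10 11 12 12 12 90 12 12 0 1 2 12 13 13 12 12 12 92 12 12 0 1 2 12 12 12 9 9 9 9 10) (@D3.rec (fun _ => Nat) 0 9 9 0 1 2 9 9 9 9 0 1 2 2 3 8 9 10 10 10 10 10 9 9 9 9 10 0 9 9 0 1 2 9 9 9 9 0 1 2) (@D3.rec (fun _ => Nat) 2 3 3 9 9 9 9 9 9 9 0 9 9 0 1 2 2 9 9 10 9 9 3 4 4 4 9 9 9 9 0 9 9 0 1 2 2 9 9 10) (@D3.rec (fun _ => Nat) 9 9 3 4 4 4 9 9 10 68 0 66 68 0 1 2 2 68 66 69 0 69 69 0 1 2 2 69 78 10 15 10 14 82 80 82 80 80 82 16) (@D3.rec (fun _ => Nat) 16 14 15 13 14 10 10 0 10 10 10 11 10 0 10 10 1 1 2 2 3 10 10 10 14 10 112 10 15 10 114 11 113 1 2 10 10 10 0 10) (@D3.rec (fun _ =>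 Nat) 10 10 11 10 0 10 10 1 1 2 2 3 11 11 11 13 11 114 11 13 11 114 11 110 1 2 12 84 86 86 1 101 10 2 3 10 10 10 10 88) (@D3.rec (fun _ => Nat) 84 88 86 94 1 93 96 2 3 3 7 4 8 10 11 11 11 11 11 119 11 15 82 88 1 101 10 2 3 10 10 10 10 84 86 86 99 1 98 98) (@D3.rec (fun _ => Nat) 2 3 3 3 4 4 10 10 10 10 10 10 116 10 10 10 0 1 2 2 10 10 1 2 2 2 3 3 6 10 10 11 11 3 4 10 10 10 94 95) (@D3.rec (fun _ => Nat) 105 3 4 4 4 4 4 4 5 5 5 10 10 10 10 0 1 2 2 10 10 1 2 2 2 3 3 6 10 10 10 11 3 4 10 10 11 98 98 100) (@D3.rec (fun _ => Nat) 3 4 4 4 4 4 4 5 10 10 11 92 93 1 95 105 105 100 1 96 101 1 2 2 2 2 2 2 3 3 3 3 3 3 3 4 105 4 4 4) (@D3.rec (fun _ => Nat) 5 3 3 4 4 4 4 4 4 5 5 0 5 97 0 113 0 0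 1 96 98 1 99 100 100 112 1 114 110 1 2 2 2 2 2 2 3 3 3 3) (@D3.rec (fun _ => Nat) 3 3 3 4 4 4 3 3 4 4 4 4 4 4 5 0 5 108 0 105 1 94 89 96 95 93 94 94 94 2 95 3 97 3 100 101 94 93 4 4) (@D3.rec (fun _ => Nat) 4 4 101 107 107 5 108 0 106 107 94 113 16 20 20 18 5 5 5 0 5 5 5 5 102 109 97 96 109 0 6 6 1 109 6 104 97 98 106 6) (@D3.rec (fun _ => Nat) 6 6 0 1 113 0 7 0 7 7 1 0 1 2 3 109 109 98 103 103 105 104 98 98 98 2 3 100 100 3 103 105 104 108 4 4 4 5 111 0) (@D3.rec (fun _ => Nat) 107 113 109 109 106 108 80 21 21 17 5 5 5 0 5 5 5 5 107 109 101 104 105 0 6 6 1 103 6 100 109 110 100 6 6 6 0 1 105 0) (@D3.rec (fun _ => Nat) 7 0 7 7 1 0 1 2 3 113 113 5 77 5 1 77 6 98 1 100 2 90 6 2 6 6 6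 7 7 7 96 7 5 85 5 1 85 6 104 1) (@D3.rec (fun _ => Nat) 2 101 6 104 2 6 6 6 7 7 7 7 104 19 10 11 18 10 12 95 96 100 92 10 10 10 10 10 11 60 13 13 15 86 13 14 16 19 10 95) (@D3.rec (fun _ => Nat) 10 14 11 13 11 14 10 108 11 11 10 12 10 13 85 13 13 82 82 13 13 13 14 82 82 13 13 13 13 13 13 13 13 13 0 13 14 13 13 13) (@D3.rec (fun _ => Nat) 0 13 13 18 12 10 88 10 12 101 1 2 10 11 11 17 10 94 10 10 106 1 2 10 10 84 84 84 83 94 96 13 13 13 101 93 14 14 14 13) (@D3.rec (fun _ => Nat) 13 13 85 1 2 94 13 13 13 13 13 14 0 13 13 13 13 13 91 1 2 103 14 14 14 14 14 14 0 14 15 10 11 10 80 10 10 83 1 83) (@D3.rec (fun _ => Nat) 83 2 3 10 10 15 10 0 10 14 10 0 11 0 1 2 10 10 17 10 11 10 96 10 10 90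 1 93 95 2 3 11 11 11 11 0 11 13 11 0) (@D3.rec (fun _ => Nat) 11 0 1 2 11 12 11 13 13 14 90 92 92 93 13 13 13 13 0 1 2 2 3 93 13 13 14 13 13 0 14 14 14 14 14 13 13 13 0 13) (@D3.rec (fun _ => Nat) 13 0 1 2 13 13 13 13 13 14 92 94 94 99 13 13 13 13 0 1 2 2 3 95 13 13 13 13 13 0 13 13 13 13 13 13 13 13 0 13) (@D3.rec (fun _ => Nat) 13 0 1 2 13 14 14 10 10 98 10 1 96 2 10 10 11 14 10 10 14 10 10 10 1 95 2 10 10 11 86 1 89 2 3 10 10 10 10 10) (@D3.rec (fun _ => Nat) 10 0 10 88 0 1 86 2 1 2 2 91 85 3 7 4 4 8 10 11 11 11 11 10 10 10 10 10 0 0 1 2 11 11 11 11 11 11 0 11) (@D3.rec (fun _ => Nat) 12 10 10 10 10 0 10 10 10 11 10 0 10 10 0 1 2 10 10 0 0 1 2 2 3 10 10 10 10 10 10 100 10 1 2 112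 10 10 11 10)
def lv_e_7 : D2 → D3 → Nat := @D2.rec (fun _ => D3 → Nat) (@D3.rec (fun _ => Nat) 10 10 14 10 10 1 2 99 10 10 11 96 1 96 2 3 10 10 10 10 10 0 10 100 0 1 2 93 1 2 2 99 91 3 3 4 4 4 10 10) (@D3.rec (fun _ => Nat) 10 10 10 11 11 11 11 11 0 0 1 2 11 11 11 11 10 12 0 10 10 11 11 11 11 0 11 11 11 11 11 0 11 11 0 1 2 11 11 0) (@D3.rec (fun _ => Nat) 0 1 2 2 8 12 12 12 12 86 1 2 2 3 10 10 10 10 10 0 10 0 10 10 0 1 10 0 10 10 0 1 2 2 10 11 0 1 2 2) (@D3.rec (fun _ => Nat) 93 1 2 2 3 10 10 10 11 11 0 11 0 11 11 0 1 11 0 11 11 0 1 2 2 11 12 0 1 2 2 108 108 108 0 118 118 118 0 1) (@D3.rec (fun _ => Nat) 88 92 102 97 99 99 20 0 12 19 0 13 83 1 83 83 83 2 2 3 4 3 3 3 4 97 98 104 96 0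 11 11 11 14 0 11 12 12 13 67) (@D3.rec (fun _ => Nat) 0 1 2 15 12 0 12 12 90 0 1 2 12 11 0 11 11 82 82 88 88 11 1 2 11 13 2 3 8 11 12 87 85 92 94 11 1 2 11 11) (@D3.rec (fun _ => Nat) 2 3 3 11 11 85 85 85 91 83 11 11 0 1 2 2 11 12 1 96 1 3 101 4 0 11 16 12 11 0 108 1 2 11 84 11 0 11 11 112) (@D3.rec (fun _ => Nat) 1 2 12 110 2 3 3 11 11 15 93 93 93 97 95 11 11 0 1 2 2 11 12 1 102 1 3 100 4 0 12 12 11 12 0 109 1 2 12 88) (@D3.rec (fun _ => Nat) 12 0 12 12 110 1 2 12 108 2 3 8 12 13 12 11 82 11 12 2 3 99 11 11 11 11 12 15 11 0 15 12 76 1 2 2 11 89 78 1) (@D3.rec (fun _ => Nat) 2 2 2 2 3 3 6 11 11 11 2 3 4 4 11 11 11 0 11 11 11 11 0 11 0 1 2 11 2 2 3 3 3 3 105 4 4 4 4 4) (@D3.rec (fun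 _ => Nat) 4 9 5 10 10 10 10 11 11 11 11 69 0 0 1 67 12 12 12 12 0 12 12 11 11 0 11 11 11 0 11 11 0 1 0 0 1 2 2 3) (@D3.rec (fun _ => Nat) 12 12 12 12 108 12 0 12 108 1 2 12 13 11 11 11 11 0 11 11 1 113 11 11 11 11 0 11 11 0 1 2 2 11 11 12 0 1 2 2) (@D3.rec (fun _ => Nat) 11 11 0 0 0 1 2 2 1 2 2 2 3 3 4 11 11 11 11 115 11 82 11 11 11 2 3 100 11 11 11 11 12 11 0 11 17 84 1 2) (@D3.rec (fun _ => Nat) 2 11 94 86 1 2 2 2 2 3 3 6 11 11 12 2 3 4 4 11 11 11 0 11 11 11 11 0 0 1 2 11 2 2 3 3 3 3 107 4) (@D3.rec (fun _ => Nat) 4 4 4 4 4 4 5 5 5 5 5 11 11 11 11 70 0 0 1 77 11 11 11 11 0 11 11 12 12 0 12 12 12 0 12 12 1 0 1 2) (@D3.rec (fun _ => Nat) 2 3 12 12 12 12 108 12 0 13 111 1 2 11 11 12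 12 12 0 12 12 1 12 12 12 12 0 12 12 0 1 2 2 12 12 13 2 12 12 0) (@D3.rec (fun _ => Nat) 0 1 2 2 11 2 3 7 8 13 13 13 13 109 13 5 5 86 6 11 94 11 11 69 1 1 2 3 69 11 11 11 0 11 11 1 0 11 11 0) (@D3.rec (fun _ => Nat) 1 2 2 11 12 0 1 0 11 11 0 1 2 2 11 11 0 1 2 2 2 3 6 11 12 1 2 2 7 2 2 3 5 5 5 93 6 11 96 11) (@D3.rec (fun _ => Nat) 11 70 1 1 2 3 79 12 12 12 0 12 12 1 0 12 12 0 1 2 2 12 13 0 1 0 12 12 0 1 2 2 12 12 0 1 2 2 2 3) (@D3.rec (fun _ => Nat) 6 12 13 1 2 2 8 2 2 3 5 104 106 0 1 2 114 1 111 0 110 0 110 110 1 112 110 1 109 2 7 2 2 3 112 113 1 2 0 1) (@D3.rec (fun _ => Nat) 2 2 2 104 0 1 2 2 2 2 2 3 3 3 101 111 112 0 1 106 2 1 103 0 102 0 102 108 1 114 114 1 2 103 8 2 2 106 3 111)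 (@D3.rec (fun _ => Nat) 102 0 1 2 106 0 1 2 2 2 2 2 3 111 111 111 109 111 111 0 111 123 1 0 112 117 112 110 112 106 112 112 110 0 106 120 120 119 112 0) (@D3.rec (fun _ => Nat) 0 1 2 114 122 122 111 111 111 111 2 3 112 114 0 114 121 1 0 118 112 108 113 111 0 113 110 113 115 0 0 1 2 111 120 120 113 115 115 115) (@D3.rec (fun _ => Nat) 2 3 119 7 8 80 80 8 8 9 9 14 8 8 14 14 8 9 14 14 8 8 8 8 14 14 14 14 14 14 14 14 15 15 8 8 8 8 9 9) (@D3.rec (fun _ => Nat) 9 9 14 14 15 14 14 14 8 9 8 8 9 10 9 9 13 9 9 9 87 89 9 9 9 15 9 10 0 9 9 94 92 10 10 10 13 10 10 0) (@D3.rec (fun _ => Nat) 10 11 84 84 88 9 9 9 10 10 10 91 93 97 9 9 9 9 9 9 7 7 7 7 7 8 7 7 7 89 7 8 7 7 7 91 7 7 1 1)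
def lv_e_8 : D2 → D3 → Nat := @D2.rec (fun _ => D3 → Nat) (@D3.rec (fun _ => Nat) 82 82 82 82 82 82 85 86 8 94 92 9 8 88 87 8 1 86 86 102 8 95 93 8 1 92 94 98 8 9 93 95 95 98 97 99 99 95 8 8) (@D3.rec (fun _ => Nat) 106 8 8 8 8 8 8 8 104 9 9 9 9 9 93 83 83 107 95 109 108 100 83 83 109 99 111 107 8 8 0 8 8 1 2 8 9 8 8 9) (@D3.rec (fun _ => Nat) 9 8 8 8 0 8 8 8 8 0 8 8 1 2 8 8 9 9 9 8 9 9 9 0 9 10 2 3 8 8 1 2 3 8 8 1 78 2 2 82) (@D3.rec (fun _ => Nat) 82 3 3 4 4 95 103 100 99 102 97 102 9 9 9 9 9 9 10 111 9 9 98 9 10 10 10 10 10 10 113 10 11 5 5 5 6 6 6 111) (@D3.rec (fun _ => Nat) 111 116 95 109 118 118 102 117 111 117 99 98 115 116 104 9 9 1 2 9 9 9 2 3 9 10 116 9 0 10 10 102 117 10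 9 9 9 9 9 0) (@D3.rec (fun _ => Nat) 1 2 9 9 9 9 1 2 9 9 9 2 3 9 9 119 10 0 10 10 103 116 9 10 10 10 10 10 0 1 2 11 11 98 1 2 2 3 4 9) (@D3.rec (fun _ => Nat) 9 9 112 1 2 2 3 4 9 9 10 96 2 3 112 112 103 1 100 60 99 2 3 106 114 100 1 99 62 15 15 9 9 98 15 108 16 9 9 9) (@D3.rec (fun _ => Nat) 9 9 9 10 10 15 15 15 15 15 15 9 9 9 9 10 9 9 9 9 9 77 78 15 82 85 15 87 15 15 15 15 95 16 16 16 16 9 9 9) (@D3.rec (fun _ => Nat) 9 100 1 2 9 9 9 9 9 9 10 9 9 9 9 9 9 103 1 2 10 10 10 10 12 10 10 10 11 84 84 15 15 15 15 16 16 15 15 15) (@D3.rec (fun _ => Nat) 15 91 94 15 15 15 15 15 15 15 15 15 16 9 9 9 9 0 9 9 9 9 10 0 9 9 1 2 9 9 9 9 2 3 8 9 9 10 10 9) (@D3.rec (fun _ => Nat) 9 0 10 10 10 10 10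 9 9 9 9 9 0 9 9 1 113 9 9 9 9 9 0 9 9 9 9 10 0 9 9 1 2 9 9 9 9 2 3 3) (@D3.rec (fun _ => Nat) 9 10 9 9 10 114 118 113 10 9 9 9 10 10 10 10 10 112 10 10 1 112 11 9 9 0 9 9 109 1 99 2 9 10 3 3 4 4 4 4) (@D3.rec (fun _ => Nat) 9 9 9 0 9 10 9 10 10 9 0 0 1 9 0 9 9 1 0 1 9 9 0 9 9 103 1 2 101 9 10 3 3 4 4 4 4 9 10 9) (@D3.rec (fun _ => Nat) 0 10 9 10 9 9 10 0 0 1 10 0 10 10 1 0 1 97 98 97 100 109 109 111 0 109 120 0 119 119 1 113 101 113 100 107 107 117 0 115) (@D3.rec (fun _ => Nat) 114 0 116 1 87 10 95 10 89 10 10 17 10 10 97 11 11 11 11 11 10 10 10 10 10 10 102 10 10 10 10 10 10 103 98 10 100 2 3 10) (@D3.rec (fun _ => Nat) 10 10 10 15 10 14 10 10 10 14 89 10 91 2 3 11 11 11 11 13 13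 13 11 11 11 11 0 10 10 86 10 10 10 1 2 10 10 11 94 10) (@D3.rec (fun _ => Nat) 10 15 10 1 2 10 10 11 2 3 10 10 10 10 10 10 0 10 3 7 4 4 8 10 10 109 11 11 11 11 11 10 10 10 10 10 13 11 11 11) (@D3.rec (fun _ => Nat) 11 11 11 12 10 10 10 10 10 112 10 10 10 0 10 10 10 97 10 10 1 2 10 10 11 10 10 10 89 1 2 10 10 11 2 3 10 10 10 10) (@D3.rec (fun _ => Nat) 10 0 10 3 3 4 4 4 10 11 11 10 10 10 10 11 11 11 11 11 11 11 10 12 10 10 11 11 11 11 11 11 12 12 79 81 101 101 84 10) (@D3.rec (fun _ => Nat) 11 1 10 2 10 11 105 2 106 3 3 63 3 4 4 4 4 5 5 5 0 10 10 0 1 10 10 11 11 10 11 13 10 0 10 1 0 1 10 0) (@D3.rec (fun _ => Nat) 10 10 1 10 11 0 1 2 90 92 100 90 101 10 11 1 10 2 10 11 101 2 3 3 108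 61 3 4 4 4 4 5 5 5 0 11 10 0 1 11) (@D3.rec (fun _ => Nat) 12 10 11 11 10 10 11 0 11 1 0 1 11 0 11 11 1 11 12 0 1 2 1 102 2 101 1 1 2 2 93 3 2 3 102 98 3 3 4 4) (@D3.rec (fun _ => Nat) 106 5 112 0 1 112 0 105 105 1 108 107 0 0 1 2 2 1 2 2 2 3 1 101 2 100 1 1 2 99 97 2 100 3 3 4 100 5 102 0) (@D3.rec (fun _ => Nat) 1 117 0 115 120 1 115 115 0 0 1 2 2 1 2 2 2 3 1 91 2 3 92 3 112 4 4 98 4 4 5 105 97 97 101 103 17 21 17 104) (@D3.rec (fun _ => Nat) 106 103 0 1 2 117 103 1 116 118 116 122 1 111 1 2 113 121 1 104 107 20 2 2 3 3 20 18 3 5 115 1 96 2 3 97 3 114 117 117) (@D3.rec (fun _ => Nat) 4 105 106 108 103 79 81 104 109 0 1 2 104 112 1 110 104 2 109 105 1 100 99 21 2 2 3 103 21 17 3 5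 7 7 7 8 91 95 79 81)
def lv_e_9 : D2 → D3 → Nat := @D2.rec (fun _ => D3 → Nat) (@D3.rec (fun _ => Nat) 106 106 8 8 8 9 9 9 8 8 8 8 8 8 81 81 81 85 81 81 8 8 8 8 9 9 9 9 4 4 81 81 83 83 83 86 83 87 83 83) (@D3.rec (fun _ => Nat) 8 8 8 9 8 8 8 8 9 9 84 93 98 9 9 83 83 2 2 3 4 3 4 4 5 4 4 4 5 5 5 5 101 6 6 6 102 9 9 9) (@D3.rec (fun _ => Nat) 13 9 10 115 9 9 10 10 10 11 10 10 116 10 11 5 5 5 5 6 5 5 6 5 5 6 98 104 7 86 6 111 101 6 90 9 9 86 82 9) (@D3.rec (fun _ => Nat) 9 10 10 9 87 9 83 9 9 9 9 61 85 9 9 0 0 1 2 9 9 9 9 13 9 10 117 9 9 9 9 0 0 1 2 10 10 10 10 10) (@D3.rec (fun _ => Nat) 10 10 118 10 11 5 6 84 84 84 0 1 85 87 85 87 84 89 81 87 92 94 94 0 1 88 87 85 85 82 83 83 87 9 9 9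 9 10 101 0) (@D3.rec (fun _ => Nat) 1 2 9 9 9 9 1 2 2 8 10 9 9 0 10 10 10 10 10 9 9 9 9 9 0 9 0 1 2 9 9 9 9 9 9 10 108 0 1 2) (@D3.rec (fun _ => Nat) 9 9 9 9 1 2 2 3 9 10 10 0 10 10 9 9 9 10 10 10 10 10 0 10 0 1 2 11 11 9 0 9 9 1 0 1 10 0 10 10) (@D3.rec (fun _ => Nat) 1 0 1 112 119 0 120 120 1 115 115 0 118 1 83 83 85 85 85 87 0 85 85 86 86 84 86 0 86 86 10 1 2 3 10 10 10 10 10 118) (@D3.rec (fun _ => Nat) 10 12 15 11 10 0 11 0 1 2 10 12 10 1 2 3 11 11 11 11 11 113 11 11 11 12 11 0 11 114 1 2 12 11 6 6 6 6 6 6) (@D3.rec (fun _ => Nat) 6 6 6 7 7 7 7 7 7 7 90 101 2 3 101 105 89 7 0 89 104 99 116 7 0 7 0 1 2 7 87 93 2 3 111 111 87 8 0 87) (@D3.rec (fun _ => Nat) 100 100 112 8 0 8 0 1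 2 8 10 13 10 1 2 10 10 10 10 0 10 97 2 3 7 8 11 11 11 95 10 92 10 10 0 0 1 2 11 104) (@D3.rec (fun _ => Nat) 11 85 11 84 10 0 10 10 96 0 10 10 0 1 2 10 0 0 1 2 3 10 85 10 10 10 10 1 2 10 10 10 0 10 107 2 3 3 4 10) (@D3.rec (fun _ => Nat) 10 10 85 11 11 86 11 0 0 1 2 11 102 10 83 10 86 11 0 11 11 96 0 11 11 0 1 2 11 0 0 1 2 8 12 85 12 12 10 111) (@D3.rec (fun _ => Nat) 10 10 1 109 10 0 1 2 2 11 11 1 0 1 2 2 0 1 2 108 1 2 2 2 3 109 0 110 0 1 2 2 114 0 1 2 102 1 2 2) (@D3.rec (fun _ => Nat) 2 3 116 0 114 0 1 2 2 114 10 14 10 15 13 13 16 13 14 15 15 15 13 16 13 13 13 13 13 13 14 13 13 13 13 13 13 13 13 13) (@D3.rec (fun _ => Nat) 0 13 14 13 13 13 0 13 13 14 63 13 90 95 13 13 13 99 14 14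 14 13 13 13 89 91 0 1 95 13 13 13 13 13 14 0 13 13 13 13) (@D3.rec (fun _ => Nat) 13 91 93 0 1 102 14 14 14 14 14 14 0 14 15 10 10 0 10 10 10 11 10 0 10 10 0 1 0 91 1 2 2 3 10 10 10 15 10 121) (@D3.rec (fun _ => Nat) 10 14 10 116 11 118 1 2 10 10 10 0 10 10 10 11 10 0 10 10 0 1 0 93 1 2 2 3 11 11 11 12 11 115 11 14 11 118 11 115) (@D3.rec (fun _ => Nat) 1 2 12 13 13 14 95 13 13 13 13 0 1 2 2 3 95 13 14 14 14 14 13 13 14 101 13 13 13 13 0 1 2 2 3 105 13 13 13 13) (@D3.rec (fun _ => Nat) 13 1 98 101 10 0 1 2 2 3 10 10 10 10 1 2 2 2 3 3 3 7 4 4 105 8 10 11 11 11 11 11 11 16 1 114 108 10 0 1) (@D3.rec (fun _ => Nat) 2 2 3 10 10 10 10 1 2 2 2 3 3 3 3 4 4 104 4 10 10 10 10 10 10 10 10 96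 10 0 1 2 2 10 10 0 1 95 2 2) (@D3.rec (fun _ => Nat) 2 3 6 10 10 11 11 10 10 10 4 4 4 5 5 98 0 5 5 10 10 10 100 10 0 1 2 2 10 10 0 1 2 106 2 2 3 6 10 10) (@D3.rec (fun _ => Nat) 10 11 10 10 11 4 4 4 5 5 102 0 5 5 10 10 11 101 70 0 1 89 2 66 70 0 1 2 2 2 2 3 4 69 68 103 78 0 1 2) (@D3.rec (fun _ => Nat) 93 78 89 0 1 2 2 2 2 3 6 69 71 0 15 0 16 80 82 80 82 94 11 1 2 11 11 12 0 11 94 1 2 11 2 3 4 11 11 11) (@D3.rec (fun _ => Nat) 11 11 15 11 114 114 11 15 115 11 11 11 112 12 112 2 112 11 104 11 1 2 11 11 12 0 11 107 1 2 11 2 3 4 12 12 12 12 12 13) (@D3.rec (fun _ => Nat) 12 119 112 12 12 12 12 115 12 112 2 113 13 101 11 3 4 4 4 11 11 107 11 106 94 103 100 3 4 9 5 10 10 11 11 12 12 12 12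 12)
def lv_e_10 : D2 → D3 → Nat := @D2.rec (fun _ => D3 → Nat) (@D3.rec (fun _ => Nat) 12 110 12 13 12 107 12 101 11 3 4 4 4 11 11 108 11 110 99 97 97 3 4 4 5 5 5 11 11 11 11 11 11 11 12 113 11 11 11 106) (@D3.rec (fun _ => Nat) 11 11 1 2 2 2 3 11 11 98 2 105 3 3 6 4 4 4 7 11 11 12 12 4 5 11 11 11 94 94 96 97 4 4 4 5 5 5 5 5) (@D3.rec (fun _ => Nat) 105 5 6 6 6 6 11 86 11 11 11 11 1 2 2 2 3 11 11 100 2 109 3 3 6 4 4 4 7 11 11 11 12 4 5 11 11 12 98 98) (@D3.rec (fun _ => Nat) 99 99 4 4 4 5 5 5 5 104 6 6 93 11 12 12 12 92 103 97 93 107 106 97 101 2 2 3 3 3 3 3 3 4 4 4 4 93 4 4) (@D3.rec (fun _ => Nat) 4 5 107 5 0 5 107 4 4 4 97 98 5 5 5 0 5 107 0 105 0 1 2 99 1 116 0 113 119 1 0 1 97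 96 100 102 107 101 114 113) (@D3.rec (fun _ => Nat) 2 2 3 3 3 3 3 3 4 4 104 4 4 4 106 5 0 5 4 4 4 106 99 5 5 0 5 110 0 0 1 2 110 1 114 113 107 91 91 94) (@D3.rec (fun _ => Nat) 94 94 94 96 96 96 94 94 94 3 97 99 98 98 97 95 5 101 109 111 6 109 110 1 99 98 96 109 109 16 22 16 22 22 97 22 6 6 1 6) (@D3.rec (fun _ => Nat) 6 6 99 108 101 99 0 1 7 106 7 98 111 101 105 110 7 0 7 7 1 117 110 106 112 1 8 0 8 120 1 2 108 109 0 1 2 113 3 4) (@D3.rec (fun _ => Nat) 4 4 111 111 103 103 103 105 106 107 112 98 98 98 3 103 102 102 105 110 5 117 6 120 116 1 111 110 111 109 109 108 106 113 77 79 21 21 111 21) (@D3.rec (fun _ => Nat) 6 6 1 6 6 6 111 103 104 102 0 1 7 100 7 112 109 116 100 112 7 0 7 7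 1 104 102 1 8 0 107 8 1 2 110 0 1 2 111 3) (@D3.rec (fun _ => Nat) 4 4 4 105 103 6 77 6 79 7 102 2 101 3 92 7 7 7 7 102 109 8 105 103 102 103 6 85 6 87 7 103 2 3 101 104 7 7 7 7) (@D3.rec (fun _ => Nat) 102 115 8 121 113 119 118 19 0 12 19 0 13 95 95 100 105 97 11 11 11 14 103 11 12 12 13 63 62 0 14 17 14 17 14 86 87 0 15 15) (@D3.rec (fun _ => Nat) 14 18 14 88 95 14 12 0 12 12 96 107 12 11 0 11 11 84 83 83 83 83 83 84 14 14 14 15 84 83 83 83 83 83 14 14 0 14 14 14) (@D3.rec (fun _ => Nat) 0 14 82 87 0 14 15 95 1 2 14 15 79 86 0 14 14 105 1 2 14 14 11 101 84 11 13 97 99 2 3 3 11 12 11 105 96 11 11 107) (@D3.rec (fun _ => Nat) 113 2 3 3 11 11 85 84 94 14 14 14 0 100 15 15 15 0 14 14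 14 15 85 2 100 94 94 16 14 0 14 14 15 14 0 15 0 1 2 14) (@D3.rec (fun _ => Nat) 14 18 14 14 14 15 92 2 104 101 102 15 15 0 15 15 14 15 0 15 0 1 2 15 16 15 11 11 80 82 11 12 85 83 3 4 4 0 11 17) (@D3.rec (fun _ => Nat) 12 11 0 0 1 2 11 11 0 11 11 0 1 2 12 0 1 2 2 3 3 11 11 14 11 11 91 93 11 12 95 95 3 4 4 0 12 12 11 12) (@D3.rec (fun _ => Nat) 0 0 1 2 12 12 0 12 12 0 1 2 12 0 1 2 2 3 8 12 13 12 89 15 14 86 86 91 94 94 95 14 14 96 79 14 86 0 14 88) (@D3.rec (fun _ => Nat) 1 2 2 3 3 4 4 93 0 14 15 15 15 95 14 14 14 14 14 0 0 1 2 15 15 15 15 107 17 0 15 16 14 15 14 0 14 14 1 2) (@D3.rec (fun _ => Nat) 14 14 0 1 2 2 3 3 14 14 14 14 14 14 14 86 85 94 96 98 99 14 14 99 80 14 0 14 100 1 2 2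 3 3 4 4 95 0 14 14) (@D3.rec (fun _ => Nat) 14 14 101 14 14 14 14 14 0 0 1 2 14 14 14 14 110 15 0 14 14 14 14 14 0 14 14 1 2 14 14 0 1 2 2 3 8 14 15 15) (@D3.rec (fun _ => Nat) 15 15 11 100 11 12 2 98 3 98 11 11 11 11 12 16 11 0 14 12 11 2 95 3 95 11 11 11 85 88 91 3 4 113 4 11 11 11 0 11) (@D3.rec (fun _ => Nat) 11 11 11 0 11 0 1 2 11 90 88 88 90 1 88 2 2 88 88 88 2 3 85 4 4 9 5 10 10 10 82 11 11 11 11 12 12 12 12 115) (@D3.rec (fun _ => Nat) 12 12 11 11 0 11 11 11 0 11 11 0 1 0 0 1 2 2 3 12 12 12 12 114 12 0 12 117 1 2 12 13 11 113 11 11 11 0 11 11) (@D3.rec (fun _ => Nat) 1 2 112 11 11 11 11 0 11 11 0 1 2 2 11 11 12 0 1 2 2 103 11 11 0 0 0 1 2 2 1 2 2 2 3 3 3 4 11 11) (@D3.rec (fun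 _ => Nat) 11 11 11 11 102 11 11 2 3 114 108 11 11 11 11 12 11 0 11 16 11 2 3 99 99 11 11 12 94 96 96 3 4 103 4 11 11 11 0 11)
def lv_e_11 : D2 → D3 → Nat := @D2.rec (fun _ => D3 → Nat) (@D3.rec (fun _ => Nat) 11 11 11 0 0 1 2 11 98 98 95 101 1 101 94 2 99 93 93 2 98 91 4 4 4 5 5 5 5 91 11 11 11 11 11 11 11 11 107 11) (@D3.rec (fun _ => Nat) 11 12 12 0 12 12 12 118 12 12 118 1 0 0 1 2 2 3 12 12 12 12 110 12 0 13 109 1 2 11 11 12 109 12 114 12 0 12 12 1) (@D3.rec (fun _ => Nat) 111 114 12 12 12 12 0 12 12 0 1 2 2 12 12 13 0 1 2 2 102 12 12 0 0 0 1 2 2 1 2 2 2 3 3 7 8 13 13 13) (@D3.rec (fun _ => Nat) 13 13 84 2 3 4 11 11 11 11 11 11 0 11 11 1 0 11 11 0 1 2 2 11 12 0 1 0 11 11 0 1 2 2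 11 11 0 1 2 2) (@D3.rec (fun _ => Nat) 2 2 3 6 11 12 0 1 2 2 2 2 3 5 95 2 3 4 11 11 11 12 12 12 0 12 12 1 0 12 12 0 1 2 2 12 13 0 1 0) (@D3.rec (fun _ => Nat) 12 12 0 1 2 2 12 12 0 1 2 2 2 2 3 6 12 13 0 1 2 2 2 2 3 5 114 114 115 0 112 121 1 115 115 119 0 118 119 1) (@D3.rec (fun _ => Nat) 101 98 1 94 13 1 105 14 85 3 4 101 101 1 2 1 2 1 2 0 0 1 2 1 2 0 0 1 2 84 2 3 12 3 7 101 4 8 96 2) (@D3.rec (fun _ => Nat) 3 12 3 3 105 4 4 85 1 2 2 82 12 96 4 102 99 0 1 2 12 0 12 12 108 1 108 2 3 12 12 0 12 1 2 13 110 2 3 13) (@D3.rec (fun _ => Nat) 13 110 3 3 104 4 4 12 12 15 91 1 2 2 101 13 106 4 102 100 0 1 2 13 0 13 13 110 1 109 2 3 13 13 0 13 1 2 13 110) (@D3.rec (fun _ => Nat) 2 3 13 13 108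 3 7 104 4 8 14 14 13 0 12 12 12 3 4 4 4 99 12 17 12 12 12 13 0 12 12 13 13 0 0 1 2 15 0 90) (@D3.rec (fun _ => Nat) 78 2 2 103 12 12 12 78 2 2 78 92 3 3 6 4 4 12 12 12 116 4 4 5 5 5 12 12 111 12 108 1 0 115 1 2 12 0 90 1) (@D3.rec (fun _ => Nat) 2 12 12 3 3 4 4 4 4 4 107 5 10 5 9 9 9 9 6 6 6 6 10 10 10 12 12 71 120 71 1 0 1 69 67 69 13 106 13 108) (@D3.rec (fun _ => Nat) 1 114 13 13 12 110 12 0 12 12 1 12 0 12 0 1 2 2 12 1 0 1 2 2 1 2 2 3 3 4 4 13 13 13 112 13 13 114 13 1) (@D3.rec (fun _ => Nat) 13 2 114 13 14 12 12 12 12 1 12 12 12 111 12 12 12 0 96 12 1 2 12 0 1 2 2 2 3 4 79 12 0 1 2 2 11 2 117 13) (@D3.rec (fun _ => Nat) 1 0 0 1 2 2 0 1 2 2 2 2 2 3 5 2 2 3 3 3 4 4 5 5 12 12 112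 12 12 12 0 12 3 4 4 4 102 12 12 12) (@D3.rec (fun _ => Nat) 0 12 12 12 13 17 13 0 0 1 2 12 86 102 2 2 103 12 12 12 86 2 2 102 86 3 3 6 4 7 12 12 115 13 4 4 5 5 5 12) (@D3.rec (fun _ => Nat) 12 12 1 0 114 1 0 88 1 2 12 12 3 3 4 4 4 4 4 107 5 5 5 5 5 5 5 6 6 6 6 6 12 14 117 79 1 0 1 70) (@D3.rec (fun _ => Nat) 70 71 12 105 12 113 1 117 12 12 12 13 0 13 13 1 13 0 13 0 1 2 2 13 0 1 2 2 12 2 3 3 4 4 13 13 13 106 13 13) (@D3.rec (fun _ => Nat) 110 13 1 14 2 109 12 12 13 13 13 1 13 13 13 0 105 13 1 2 13 1 2 2 2 3 6 14 116 13 1 0 1 2 2 12 2 2 3 5) (@D3.rec (fun _ => Nat) 14 12 3 4 9 10 10 14 14 109 14 14 14 6 87 85 93 3 122 70 118 70 12 117 12 1 1 0 1 2 2 2 1 2 2 103 1 105 2 12) (@D3.rec (fun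 _ => Nat) 12 13 0 0 1 2 2 2 12 1 2 2 2 3 3 3 6 4 7 12 12 13 13 13 99 2 2 8 8 93 3 5 6 93 91 94 3 119 72 120) (@D3.rec (fun _ => Nat) 72 13 120 13 1 1 0 1 2 2 2 1 2 2 105 1 2 104 13 13 14 0 0 1 2 2 2 13 1 2 2 2 3 3 3 6 4 7 13 13) (@D3.rec (fun _ => Nat) 13 14 14 101 2 2 9 101 9 3 5 113 106 106 1 2 113 0 111 1 110 110 0 1 2 110 112 112 2 104 8 8 3 114 111 2 101 0 1 2) (@D3.rec (fun _ => Nat) 2 2 2 2 3 107 1 2 2 2 2 3 3 3 3 4 105 118 120 121 1 2 118 0 118 1 110 100 0 1 2 114 104 114 2 102 9 9 3 122) (@D3.rec (fun _ => Nat) 113 105 0 1 2 3 105 1 2 2 2 3 3 111 111 111 0 115 119 118 111 1 121 123 1 2 112 119 114 113 0 113 109 113 111 113 125 112 119 124) (@D3.rec (fun _ => Nat) 112 0 0 1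 118 98 99 118 0 100 113 0 1 1 2 3 3 116 121 123 113 111 115 113 3 115 1 119 121 1 2 117 113 107 122 116 114 0 0 1)
def lv_e_12 : D2 → D3 → Nat := @D2.rec (fun _ => D3 → Nat) (@D3.rec (fun _ => Nat) 112 112 112 117 0 115 111 0 1 1 2 3 3 121 113 113 115 115 3 8 8 9 9 15 15 15 16 9 10 15 15 15 15 15 15 9 9 12 9 9) (@D3.rec (fun _ => Nat) 9 15 15 15 15 15 15 16 16 16 16 9 9 9 14 9 10 119 9 9 10 10 10 12 10 10 121 10 11 15 15 16 15 15 15 9 9 9 10 10) (@D3.rec (fun _ => Nat) 10 9 9 9 9 9 9 10 10 87 10 10 15 10 1 101 11 11 13 11 1 84 84 92 95 10 95 14 91 96 87 10 10 8 9 8 8 8 8 82) (@D3.rec (fun _ => Nat) 82 82 82 85 94 89 90 86 88 83 103 95 95 97 95 96 112 99 99 96 96 9 102 104 9 9 9 9 9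 10 9 9 9 102 104 10 10 10 10 10) (@D3.rec (fun _ => Nat) 10 10 11 92 101 104 111 109 102 109 111 110 100 97 104 109 111 103 96 109 109 9 97 9 1 2 9 9 9 2 3 102 9 10 9 0 10 10 10 9) (@D3.rec (fun _ => Nat) 9 9 9 101 9 0 1 2 9 9 9 111 9 1 2 9 9 9 2 3 104 9 9 10 0 10 10 9 10 10 10 10 102 10 0 1 2 11 11 3) (@D3.rec (fun _ => Nat) 100 4 105 9 9 9 3 102 4 103 9 9 10 10 10 10 10 111 10 11 105 10 11 11 11 11 114 11 11 108 12 118 109 113 112 115 100 118 111 10) (@D3.rec (fun _ => Nat) 2 3 0 3 4 10 118 1 11 104 114 117 107 117 10 89 10 10 1 2 2 10 10 107 10 2 3 0 3 4 10 120 1 11 108 116 118 103 116 11) (@D3.rec (fun _ => Nat) 88 11 11 1 2 2 12 12 101 102 2 4 10 107 2 4 10 3 101 3 101 10 10 106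 109 99 16 108 106 108 17 10 10 16 10 10 11 11 11 11) (@D3.rec (fun _ => Nat) 11 16 16 16 0 16 17 16 16 16 0 16 16 10 10 10 10 10 10 10 10 10 10 10 10 80 78 89 89 89 16 16 16 16 16 17 109 16 16 95) (@D3.rec (fun _ => Nat) 95 93 17 17 17 17 17 17 106 17 18 89 10 2 3 10 10 10 10 14 10 15 10 10 10 13 101 10 2 3 11 11 11 11 14 14 14 11 11 11) (@D3.rec (fun _ => Nat) 11 86 84 93 16 95 80 16 17 17 17 17 16 16 16 16 16 92 94 86 16 94 87 16 16 16 16 16 16 16 16 16 17 0 10 10 10 97 10 10) (@D3.rec (fun _ => Nat) 0 1 102 2 10 10 11 10 10 14 10 1 97 2 10 10 11 2 3 10 10 10 10 10 10 0 10 3 7 4 4 4 8 10 10 0 11 11 11 11) (@D3.rec (fun _ => Nat) 11 10 10 10 10 10 117 1 113 13 11 11 11 11 11 105 11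 12 10 10 10 10 10 0 10 1 111 10 10 0 10 10 10 101 10 10 0 1 2 99) (@D3.rec (fun _ => Nat) 10 10 11 10 10 10 1 2 105 10 10 11 2 3 10 10 10 10 10 0 10 3 3 4 4 4 4 10 11 118 11 10 10 10 10 11 11 11 11 108) (@D3.rec (fun _ => Nat) 114 11 11 11 10 12 113 10 10 11 11 11 11 11 114 11 112 12 12 10 11 1 95 102 10 103 2 99 97 10 11 4 4 4 4 99 5 106 97 5) (@D3.rec (fun _ => Nat) 5 5 100 5 99 0 10 10 0 1 2 10 10 12 12 10 12 12 10 0 10 1 0 1 10 0 10 10 0 1 100 102 10 11 0 1 2 2 10 11) (@D3.rec (fun _ => Nat) 1 104 99 10 103 2 101 101 10 11 4 4 4 4 103 5 108 97 5 5 9 114 5 113 0 11 10 0 1 2 11 12 10 11 11 10 10 11 0 11) (@D3.rec (fun _ => Nat) 1 0 1 11 0 11 11 0 1 109 108 11 12 0 1 2 2 99 100 100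 102 113 113 113 0 109 121 1 113 113 115 0 120 0 1 2 2 109 101 109) (@D3.rec (fun _ => Nat) 102 114 114 119 0 119 118 1 117 116 117 0 0 1 2 11 11 3 4 11 11 11 11 11 15 11 16 11 117 11 3 4 12 12 12 12 12 15 12 15) (@D3.rec (fun _ => Nat) 111 12 12 1 2 94 11 11 12 11 2 3 3 11 11 11 12 12 3 4 4 4 11 11 11 11 11 1 11 4 4 9 10 11 11 107 110 109 12 12) (@D3.rec (fun _ => Nat) 12 12 12 12 12 12 13 11 11 113 11 11 11 11 14 12 12 12 12 11 11 115 119 115 1 2 11 11 11 89 2 3 3 11 11 11 11 12 3 4) (@D3.rec (fun _ => Nat) 4 4 11 11 11 12 1 11 4 4 4 5 11 11 11 11 11 11 11 12 11 12 117 12 12 12 12 83 100 103 83 84 12 11 116 11 109 108 3 3) (@D3.rec (fun _ => Nat) 104 105 5 5 5 6 0 1 11 11 11 11 0 1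 11 11 110 11 13 13 0 11 1 11 106 1 2 104 11 11 1 11 11 11 112 113 1 2 2 92) (@D3.rec (fun _ => Nat) 100 102 102 11 98 113 12 118 12 107 3 3 105 107 5 5 5 6 0 1 12 11 11 11 0 1 12 12 118 12 11 11 0 12 1 12 113 1 2 110) (@D3.rec (fun _ => Nat) 12 12 1 12 12 112 13 119 1 2 2 101 2 3 94 106 3 101 98 4 5 101 1 0 112 0 1 2 108 106 111 0 1 105 1 2 2 3 2 3)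
def lv_e_13 : D2 → D3 → Nat := @D2.rec (fun _ => D3 → Nat) (@D3.rec (fun _ => Nat) 4 102 2 100 5 103 1 0 120 0 1 2 117 118 111 0 1 118 1 2 2 3 2 3 4 93 3 105 112 92 4 4 113 102 5 109 17 111 1 2) (@D3.rec (fun _ => Nat) 113 100 119 116 118 116 22 107 105 22 3 3 108 115 111 22 98 3 112 107 97 108 108 78 1 2 104 110 105 21 102 21 3 103 113 105 21 8 8 8) (@D3.rec (fun _ => Nat) 9 9 9 92 97 106 108 9 9 117 9 10 10 118 10 9 9 98 9 100 9 84 87 81 83 83 92 81 83 9 9 9 12 9 10 119 9 9 10 10) (@D3.rec (fun _ => Nat) 10 10 10 10 118 10 11 86 83 85 84 9 9 9 9 10 10 9 9 9 9 9 9 3 4 101 102 4 5 5 6 5 5 5 6 6 6 88 102 100) (@D3.rec (fun _ => Nat) 108 102 86 119 112 101 89 118 113 104 120 87 118 112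 102 10 117 10 11 117 12 6 8 6 6 107 102 114 100 10 84 85 10 11 13 10 10 10 10 64) (@D3.rec (fun _ => Nat) 90 98 10 0 1 0 1 2 2 3 10 10 10 10 10 115 10 12 14 12 10 117 11 117 10 11 104 10 0 1 0 1 2 2 3 11 11 11 11 11) (@D3.rec (fun _ => Nat) 113 11 12 12 11 11 118 11 118 12 11 86 1 88 85 94 85 84 87 84 1 88 87 87 85 84 87 10 12 10 1 2 2 99 10 10 10 10 0 10) (@D3.rec (fun _ => Nat) 86 2 3 3 7 8 11 11 11 10 10 10 0 0 1 2 11 11 107 11 10 0 10 10 10 10 0 1 2 10 0 1 2 2 3 10 10 10 10 10) (@D3.rec (fun _ => Nat) 1 2 2 110 10 10 10 0 10 92 2 3 3 3 4 10 10 10 11 11 11 0 0 1 2 11 10 114 10 11 0 11 11 11 11 0 1 2 11 0) (@D3.rec (fun _ => Nat) 1 2 2 8 12 12 12 10 0 10 10 0 1 115 2 10 0 1 2 2 11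 112 110 11 0 1 107 114 110 0 1 2 2 112 110 116 0 121 0 1) (@D3.rec (fun _ => Nat) 2 2 120 116 119 0 0 1 2 87 119 1 88 116 1 3 4 11 85 115 113 11 13 15 116 13 11 0 11 118 1 115 12 113 1 118 2 115 11 3) (@D3.rec (fun _ => Nat) 4 12 82 114 12 13 14 12 0 12 114 1 117 12 114 114 2 119 13 7 7 7 7 8 8 8 8 3 113 118 0 1 104 116 0 8 0 118 8 1) (@D3.rec (fun _ => Nat) 2 114 1 2 2 3 3 116 117 0 1 101 114 0 9 0 9 115 1 2 115 1 2 2 3 11 11 105 11 11 11 110 1 2 105 97 3 9 12 12) (@D3.rec (fun _ => Nat) 12 12 11 88 11 11 116 11 11 0 1 0 1 2 2 12 0 11 1 2 98 98 94 96 0 1 116 11 12 1 2 0 0 1 2 1 2 3 11 11) (@D3.rec (fun _ => Nat) 11 11 11 11 109 11 11 11 118 1 2 107 109 3 4 11 11 11 12 12 88 12 12 0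 1 0 1 2 2 0 12 1 2 98 98 99 96 0 1 12) (@D3.rec (fun _ => Nat) 1 2 0 0 1 2 1 2 7 13 13 13 13 114 11 11 11 0 1 2 120 2 2 110 12 12 0 1 119 2 2 2 118 1 2 90 2 3 3 110) (@D3.rec (fun _ => Nat) 105 0 112 123 0 1 2 0 1 2 2 2 3 112 1 2 94 2 3 3 112 102 0 117 104 0 1 2 0 1 2 2 2 3 116 0 16 0 15 0) (@D3.rec (fun _ => Nat) 14 16 18 0 15 15 17 110 109 14 14 14 15 14 14 0 14 14 14 0 14 0 14 1 2 14 15 0 14 1 2 14 14 63 0 88 0 14 14 14) (@D3.rec (fun _ => Nat) 0 15 15 15 0 85 14 14 14 15 1 93 17 14 0 14 14 14 0 15 118 1 2 14 14 91 14 14 14 15 1 100 15 15 0 15 15 15 0 15) (@D3.rec (fun _ => Nat) 115 1 2 15 16 98 102 11 107 1 106 2 11 11 12 100 11 101 1 101 2 11 0 1 93 90 1 2 99 92 2 3 3 4 4 113 11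 11 11 11) (@D3.rec (fun _ => Nat) 11 14 11 120 121 114 11 16 0 11 11 11 120 118 12 120 118 2 112 11 106 106 11 107 1 2 111 11 11 12 106 11 109 1 2 112 11 0 1 101) (@D3.rec (fun _ => Nat) 102 1 2 95 95 2 3 3 4 4 117 12 12 12 12 12 14 12 112 113 117 12 116 118 12 12 12 117 119 12 115 119 2 113 13 14 14 14 14 0) (@D3.rec (fun _ => Nat) 14 99 1 98 2 5 2 3 3 4 4 101 15 15 15 15 17 14 14 14 14 0 14 103 1 2 104 5 2 3 3 4 4 103 14 14 14 14 14 101) (@D3.rec (fun _ => Nat) 11 99 1 99 2 5 2 3 3 4 120 4 11 11 11 2 2 3 103 3 3 3 4 4 4 4 4 9 5 5 0 106 100 117 116 10 11 11 12 12) (@D3.rec (fun _ => Nat) 12 12 12 12 12 13 12 12 110 11 101 1 2 104 5 2 3 3 4 114 121 11 11 11 2 2 3 98 3 3 3 4 4 4 4 4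 4 5 5 0) (@D3.rec (fun _ => Nat) 107 102 120 116 5 11 11 11 11 11 11 11 12 11 11 11 11 96 11 106 0 1 95 2 2 2 3 11 11 1 2 94 2 95 3 3 3 6 4 7)
def lv_e_14 : D2 → D3 → Nat := @D2.rec (fun _ => D3 → Nat) (@D3.rec (fun _ => Nat) 11 11 12 12 11 11 11 5 5 0 5 5 6 100 6 6 0 100 0 1 2 6 6 6 11 11 11 11 100 11 106 0 1 2 109 2 2 3 11 11) (@D3.rec (fun _ => Nat) 1 2 107 2 3 3 108 3 6 4 7 11 11 11 12 11 11 12 5 5 0 5 5 6 6 104 6 104 1 2 6 6 6 11 12 12 12 103 92 1) (@D3.rec (fun _ => Nat) 95 2 2 92 118 70 70 1 90 2 94 2 2 95 3 3 4 3 4 120 5 70 70 68 68 68 105 94 1 2 98 2 119 95 71 71 1 2 96 104) (@D3.rec (fun _ => Nat) 2 2 3 3 111 4 3 6 4 118 78 78 70 80 80 1 2 1 2 82 82 102 12 2 3 1 96 96 2 4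 12 12 12 114 12 12 13 13 112 12) (@D3.rec (fun _ => Nat) 106 12 2 3 1 109 106 2 4 13 13 13 112 13 13 13 13 113 14 103 4 4 4 5 5 96 101 98 5 9 9 112 116 13 105 13 112 121 14 14) (@D3.rec (fun _ => Nat) 103 4 4 4 5 5 101 98 100 5 5 5 122 105 12 111 13 106 108 12 12 2 3 12 101 4 4 4 7 119 8 8 13 5 6 6 12 13 12 12) (@D3.rec (fun _ => Nat) 96 5 5 101 5 6 6 6 106 6 106 7 12 117 12 2 3 12 108 4 4 4 7 5 115 5 6 6 12 13 13 13 100 5 5 100 5 6 6 109) (@D3.rec (fun _ => Nat) 13 111 13 3 87 4 4 4 4 5 5 5 6 0 0 1 104 106 113 5 102 99 1 0 1 107 0 0 1 2 2 3 0 1 115 1 110 3 102 4) (@D3.rec (fun _ => Nat) 4 5 5 5 6 0 0 1 105 105 5 106 102 1 0 1 0 1 2 2 3 91 91 97 95 96 102 95 6 113 119 0 118 110 113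 119 102 18 22 99) (@D3.rec (fun _ => Nat) 22 7 7 99 1 103 8 8 1 119 111 0 122 111 1 114 9 120 2 109 1 115 2 4 4 4 117 111 113 103 105 107 106 100 105 110 6 112 0 111) (@D3.rec (fun _ => Nat) 113 120 120 113 124 80 23 111 23 7 7 106 1 102 8 8 1 104 113 0 113 121 1 115 105 118 2 117 1 113 2 4 4 4 111 111 115 7 79 101) (@D3.rec (fun _ => Nat) 107 8 3 101 106 92 8 120 106 0 104 7 87 100 8 3 106 121 8 110 119 0 117 94 1 2 13 110 1 2 14 99 105 65 64 100 99 1 2 15) (@D3.rec (fun _ => Nat) 17 15 106 15 15 89 91 108 107 1 2 16 16 15 119 15 15 103 0 0 1 2 105 0 0 1 2 86 84 85 103 15 15 111 16 16 85 84 0 15) (@D3.rec (fun _ => Nat) 1 2 15 0 15 1 2 15 1 2 87 103 2 3 102 15 15 16 1 2 89 107 2 3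 110 15 15 15 95 89 12 111 102 104 99 3 3 110 106 103) (@D3.rec (fun _ => Nat) 105 96 12 110 107 109 108 3 3 106 105 102 86 85 0 15 15 15 0 0 1 0 16 16 16 0 0 1 15 15 16 88 102 94 94 18 15 15 0 0) (@D3.rec (fun _ => Nat) 1 2 15 15 17 15 0 15 15 1 2 16 0 1 2 2 3 3 15 15 15 18 15 15 16 93 104 104 101 16 15 16 0 0 1 2 16 16 16 16) (@D3.rec (fun _ => Nat) 0 16 16 1 2 16 0 1 2 2 3 8 16 16 17 16 12 85 85 4 4 0 111 0 1 2 12 109 0 12 12 0 1 118 0 1 2 2 3 12) (@D3.rec (fun _ => Nat) 12 114 12 112 1 2 106 13 120 1 2 2 3 13 13 1 2 115 2 3 3 3 3 4 4 4 12 12 16 13 95 94 4 4 0 105 0 1 2 13) (@D3.rec (fun _ => Nat) 108 0 13 13 0 1 120 0 1 2 2 3 13 13 113 13 112 1 112 2 13 112 1 2 2 3 13 13 1 2 113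 2 3 3 3 7 4 4 8 14) (@D3.rec (fun _ => Nat) 14 13 87 17 0 88 89 94 86 95 95 15 96 0 94 0 86 0 1 2 15 91 2 90 90 3 93 4 87 4 4 0 5 87 0 1 2 16 16 16) (@D3.rec (fun _ => Nat) 98 0 95 15 15 0 15 15 15 0 15 15 1 0 1 2 2 3 16 16 16 119 16 105 105 19 117 1 2 16 18 15 15 0 15 15 0 1 2 2) (@D3.rec (fun _ => Nat) 15 15 16 2 3 15 15 15 0 0 1 2 2 6 2 3 3 3 3 4 4 4 15 15 15 15 0 15 16 0 88 87 96 100 101 101 15 100 0 99) (@D3.rec (fun _ => Nat) 0 0 1 2 15 95 2 92 96 3 94 4 96 4 4 0 5 97 0 1 2 15 15 15 101 0 101 15 15 0 15 15 15 0 15 15 1 115 1 2) (@D3.rec (fun _ => Nat) 2 3 15 15 15 118 15 114 110 16 121 1 2 15 15 15 15 0 15 15 0 1 2 2 15 15 16 2 3 15 15 15 0 0 1 2 7 2 3 3) (@D3.rec (fun _ => Nat)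 3 7 4 4 8 16 16 16 16 0 16 98 100 101 12 12 12 3 98 4 113 4 100 12 16 12 12 12 13 0 12 12 13 13 106 0 0 1 2 16) (@D3.rec (fun _ => Nat) 0 12 12 12 3 82 4 111 12 12 12 0 4 4 105 115 82 111 113 110 12 12 0 12 0 1 116 0 109 0 1 2 12 0 0 1 2 2 115 12)
def lv_e_15 : D2 → D3 → Nat := @D2.rec (fun _ => D3 → Nat) (@D3.rec (fun _ => Nat) 12 88 88 88 91 2 90 102 97 3 95 104 5 9 9 9 6 118 6 82 10 90 105 106 104 106 106 12 104 12 13 116 13 111 111 13 13 13 0 12) (@D3.rec (fun _ => Nat) 0 12 12 112 1 110 110 12 0 12 115 1 2 2 12 114 1 0 0 1 2 2 1 2 2 3 3 4 4 4 13 13 13 108 13 13 117 104 13 118) (@D3.rec (fun _ => Nat) 1 106 13 119 119 2 119 106 13 14 115 115 12 112 110 12 12 108 12 1 109 109 12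 12 12 2 3 112 12 12 12 0 0 12 1 2 2 12 0 1) (@D3.rec (fun _ => Nat) 2 2 2 2 103 3 6 12 0 1 2 114 6 2 110 112 100 121 13 0 1 0 0 1 108 2 0 1 2 2 2 2 2 3 3 4 2 2 3 3) (@D3.rec (fun _ => Nat) 3 3 3 111 116 4 5 5 5 12 12 12 12 12 114 115 102 103 12 3 4 113 4 110 108 12 12 12 0 12 12 12 13 18 13 0 0 1 2 12) (@D3.rec (fun _ => Nat) 98 12 12 12 3 4 105 91 12 12 0 13 4 4 104 103 96 105 102 92 12 12 0 12 0 1 112 0 109 0 1 0 0 1 2 2 114 12 12 102) (@D3.rec (fun _ => Nat) 96 103 96 94 98 96 5 5 5 5 6 110 91 6 6 95 98 102 100 97 104 12 104 13 12 110 12 111 111 12 12 12 112 13 0 13 13 115 1 110) (@D3.rec (fun _ => Nat) 109 13 116 13 113 116 13 0 0 1 2 115 1 2 2 117 3 4 4 4 13 13 13 106 13 13 120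 108 13 121 1 112 14 111 119 2 110 112 12 12) (@D3.rec (fun _ => Nat) 111 13 111 111 13 111 107 13 1 109 109 13 13 109 111 111 13 0 107 13 1 2 2 13 0 1 2 2 2 2 3 104 6 14 0 1 120 7 2 111) (@D3.rec (fun _ => Nat) 112 102 116 13 0 1 0 0 1 2 105 0 1 2 2 2 2 2 3 3 5 2 2 3 3 3 3 3 109 115 9 10 10 10 14 14 14 14 14 114) (@D3.rec (fun _ => Nat) 4 82 117 5 12 12 0 1 113 105 108 0 1 111 113 0 99 1 2 2 2 2 113 113 0 1 2 2 0 1 101 2 12 12 13 0 0 1 2 2) (@D3.rec (fun _ => Nat) 2 2 99 3 12 0 1 2 2 2 2 2 107 3 3 4 3 6 4 7 12 12 13 13 13 1 2 2 2 2 101 3 3 5 4 6 4 99 120 5) (@D3.rec (fun _ => Nat) 13 13 0 1 109 117 112 0 1 116 112 0 103 1 2 2 2 2 114 114 0 1 2 2 0 1 2 106 13 13 14 0 0 1 2 2 2 2 3 115)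 (@D3.rec (fun _ => Nat) 13 0 1 2 2 2 2 2 3 3 108 4 3 6 4 7 13 13 13 14 14 1 2 2 2 2 3 101 3 5 4 6 112 114 111 104 109 113 112 114) (@D3.rec (fun _ => Nat) 117 0 1 2 2 109 119 113 113 118 107 113 117 118 120 114 0 1 2 2 117 117 102 100 104 99 2 2 1 1 2 1 1 2 3 4 9 102 103 3) (@D3.rec (fun _ => Nat) 4 4 106 100 84 103 101 102 1 106 2 3 1 2 3 4 4 119 1 2 3 3 4 4 4 14 4 4 103 103 5 5 5 13 17 101 100 104 1 105) (@D3.rec (fun _ => Nat) 2 3 1 2 3 4 4 112 1 2 3 3 4 4 4 14 4 9 103 10 10 10 15 14 1 13 115 4 4 4 5 115 5 113 5 5 101 100 1 17) (@D3.rec (fun _ => Nat) 1 1 2 3 17 1 103 102 13 13 4 4 5 5 5 5 103 13 0 111 13 116 1 2 0 1 2 108 4 4 5 11 6 6 6 6 11 11 11 105) (@D3.rec (fun _ => Nat) 7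 120 71 120 0 1 113 1 13 13 0 1 1 2 2 2 105 12 1 2 104 2 2 3 3 2 109 13 3 4 4 4 5 5 14 14 15 15 13 112) (@D3.rec (fun _ => Nat) 13 1 98 2 0 1 2 108 2 3 4 119 72 0 1 2 2 12 2 2 3 5 13 12 102 0 1 99 99 0 1 2 2 2 2 2 1 2 2 2) (@D3.rec (fun _ => Nat) 2 3 6 3 3 3 5 6 3 3 14 13 4 5 5 6 113 13 110 114 13 1 4 4 4 5 115 5 112 5 5 102 110 1 13 1 1 2 3 13) (@D3.rec (fun _ => Nat) 104 102 13 13 4 7 5 5 5 104 13 0 1 0 1 2 112 4 4 5 5 6 6 6 6 6 107 120 0 1 1 14 0 1 1 2 2 2 110 1) (@D3.rec (fun _ => Nat) 2 101 2 2 3 3 105 13 3 4 4 4 5 5 14 15 13 13 1 107 2 109 2 3 6 114 1 114 116 13 2 2 13 13 3 5 4 14 13 4) (@D3.rec (fun _ => Nat) 9 9 10 118 15 118 118 15 96 114 1 2 2 2 2 2 104 101 2 97 106 0 1 105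 1 2 2 2 2 2 3 3 3 3 3 4 7 14 14 113) (@D3.rec (fun _ => Nat) 115 120 106 100 113 1 2 2 2 2 2 107 104 2 106 111 0 1 109 1 2 2 2 2 2 3 3 3 3 3 4 7 14 14 108 109 110 100 111 1) (@D3.rec (fun _ => Nat) 112 1 2 118 1 109 2 2 3 3 3 2 2 3 3 111 3 3 111 4 5 121 1 106 1 2 117 1 116 3 2 3 110 110 3 114 120 111 1 119)
def lv_e_16 : D2 → D3 → Nat := @D2.rec (fun _ => D3 → Nat) (@D3.rec (fun _ => Nat) 124 2 112 1 111 112 120 0 115 1 1 116 1 2 101 0 1 119 3 3 113 113 2 122 121 0 119 1 1 117 1 2 119 0 1 114 3 3 117 117) (@D3.rec (fun _ => Nat) 16 17 16 16 16 0 16 17 16 16 16 0 16 16 10 10 16 16 16 16 16 17 110 16 16 17 17 17 17 17 17 106 17 18 10 10 16 10 109 119) (@D3.rec (fun _ => Nat) 11 11 14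 11 119 120 16 17 17 17 16 16 16 16 10 101 13 10 107 10 11 11 12 12 11 11 83 84 83 97 100 92 104 10 10 10 10 10 11 10) (@D3.rec (fun _ => Nat) 104 11 11 11 11 11 11 12 89 100 104 104 107 87 98 104 106 103 99 10 2 3 0 3 107 4 110 10 105 0 1 105 11 10 103 10 10 103 1 2) (@D3.rec (fun _ => Nat) 2 105 10 10 105 10 2 3 0 3 102 4 107 10 105 0 1 101 11 11 99 11 11 101 1 2 2 99 12 12 4 102 104 97 105 105 10 4 108 102) (@D3.rec (fun _ => Nat) 97 105 105 10 11 11 12 13 114 114 113 113 3 1 4 116 114 119 118 114 2 3 1 4 120 116 118 116 119 2 11 11 104 105 99 101 19 17 19 108) (@D3.rec (fun _ => Nat) 108 108 108 21 18 21 18 19 23 106 17 25 105 1 2 17 18 18 22 19 106 17 21 102 1 2 17 17 95 11 109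 11 89 91 89 17 17 17 17 17) (@D3.rec (fun _ => Nat) 18 107 17 18 98 95 99 20 18 18 17 18 18 98 19 18 3 106 4 4 11 11 11 11 11 16 11 108 15 11 11 3 110 4 4 12 12 12 12 12) (@D3.rec (fun _ => Nat) 14 12 103 14 12 12 87 17 86 95 93 0 93 20 17 18 103 18 87 18 18 18 0 18 19 17 17 24 17 17 17 94 17 96 88 92 0 94 22 17) (@D3.rec (fun _ => Nat) 101 20 17 88 17 17 18 0 17 17 17 17 23 17 18 18 1 102 98 104 99 1 2 92 100 94 11 11 12 101 11 2 99 3 3 11 11 11 12 12) (@D3.rec (fun _ => Nat) 3 101 121 104 11 11 100 11 11 99 11 0 1 102 11 4 4 4 9 101 5 97 5 10 10 10 100 11 11 0 0 1 2 12 12 12 12 12 12 12) (@D3.rec (fun _ => Nat) 106 12 13 11 11 0 11 11 11 119 11 113 14 12 12 108 12 111 108 108 12 11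 11 0 0 1 2 1 106 99 100 105 1 2 106 97 97 11 11 11) (@D3.rec (fun _ => Nat) 111 2 3 3 103 11 11 11 11 12 3 106 120 108 11 11 107 11 12 107 0 1 113 11 4 4 4 4 105 116 98 5 5 108 11 11 113 117 118 113) (@D3.rec (fun _ => Nat) 11 11 11 11 11 12 111 11 12 110 0 12 12 108 109 113 118 113 102 115 107 12 12 117 114 113 12 102 105 101 97 11 11 5 97 5 5 5 5 99) (@D3.rec (fun _ => Nat) 104 101 96 6 115 100 6 6 106 100 99 121 99 100 1 2 11 11 11 11 1 2 2 101 112 11 11 105 11 12 14 11 1 104 11 1 2 2 104 11) (@D3.rec (fun _ => Nat) 11 0 1 100 108 11 11 0 1 109 113 102 102 11 0 1 2 111 2 2 111 113 11 104 105 101 103 12 12 5 97 5 5 8 5 103 108 105 98 6) (@D3.rec (fun _ => Nat) 115 110 6 6 115 107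 109 113 106 109 1 2 12 11 11 11 1 2 2 110 116 12 12 118 12 11 11 12 1 109 12 1 2 2 114 12 12 0 1 109) (@D3.rec (fun _ => Nat) 106 12 12 0 1 110 108 110 107 13 0 1 110 2 2 2 113 114 99 100 102 102 105 108 114 116 110 1 2 2 116 114 113 111 118 115 0 1 2 120) (@D3.rec (fun _ => Nat) 113 1 2 2 2 2 115 103 115 102 109 114 116 120 113 1 2 2 118 121 121 116 114 118 0 1 117 1 2 2 4 118 17 112 4 118 15 112 3 3) (@D3.rec (fun _ => Nat) 118 4 4 4 9 13 13 13 13 14 119 12 13 13 110 107 3 3 120 4 4 4 5 12 12 12 110 13 113 101 83 118 83 84 111 81 105 6 108 1) (@D3.rec (fun _ => Nat) 95 1 118 1 2 104 109 113 12 12 12 115 111 2 3 100 100 116 100 119 100 109 6 102 1 98 1 118 1 2 114 92 93 14 14 14 118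 119 2 3) (@D3.rec (fun _ => Nat) 0 1 1 2 0 1 3 4 120 0 1 1 2 0 1 3 4 107 23 22 109 109 22 78 23 105 105 23 9 9 117 9 10 10 119 10 10 117 11 118) (@D3.rec (fun _ => Nat) 103 106 100 98 102 101 86 87 110 81 93 89 110 81 118 10 117 10 114 11 114 12 84 83 10 116 10 11 13 10 115 10 10 10 5 6 119 118 11 12) (@D3.rec (fun _ => Nat) 86 93 98 98 0 1 1 2 83 2 3 3 108 4 4 11 117 115 11 14 16 0 14 11 119 11 115 12 115 11 105 104 0 1 1 2 90 2 3 3) (@D3.rec (fun _ => Nat) 106 4 4 12 117 114 12 113 12 117 13 12 118 12 119 12 118 13 5 87 0 89 5 88 0 89 11 11 5 2 3 101 101 101 11 11 121 11 1 113) (@D3.rec (fun _ => Nat) 86 88 3 3 4 4 4 9 101 114 98 12 12 104 12 12 11 114 11 11 117 11 11 0 1 0 1 2 113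 12 112 106 106 11 1 101 2 11 12 1)
def lv_e_17 : D2 → D3 → Nat := @D2.rec (fun _ => D3 → Nat) (@D3.rec (fun _ => Nat) 2 2 108 105 1 2 103 89 2 3 3 3 109 11 11 11 110 11 11 11 5 2 3 115 119 108 11 11 122 11 1 114 92 87 3 3 4 4 4 4) (@D3.rec (fun _ => Nat) 116 11 11 112 11 12 112 12 12 114 115 12 0 1 0 1 2 112 103 114 108 12 1 2 106 116 12 1 2 2 108 112 1 114 2 85 2 3 3 7) (@D3.rec (fun _ => Nat) 113 13 13 13 118 13 11 109 1 113 108 11 0 1 115 2 2 113 11 1 2 2 2 2 105 105 12 106 114 12 0 1 113 116 115 1 2 2 2 2) (@D3.rec (fun _ => Nat) 113 117 114 114 112 119 114 109 1 2 121 0 1 2 126 2 2 122 118 115 115 116 110 1 0 1 119 2 119 116 4 17 12 1 13 12 13 13 119 12) (@D3.rec (fun _ => Nat)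 4 13 13 1 13 13 13 13 116 14 8 8 9 9 1 96 1 0 119 1 2 98 2 6 2 3 1 124 1 0 118 1 2 109 2 7 2 3 105 2) (@D3.rec (fun _ => Nat) 85 100 100 13 90 1 1 2 2 13 1 2 98 1 6 1 1 2 2 2 3 12 107 2 92 107 109 88 1 1 2 2 1 2 98 1 7 1 1 2) (@D3.rec (fun _ => Nat) 2 2 3 14 113 12 0 1 2 0 1 2 93 3 112 1 1 2 1 2 3 116 96 3 108 1 1 2 1 2 3 116 1 2 1 2 1 2 15 17) (@D3.rec (fun _ => Nat) 104 1 2 16 16 113 0 15 15 0 16 16 105 15 120 1 110 15 111 15 119 1 119 15 1 2 2 113 9 15 15 16 1 2 2 117 3 15 15 15) (@D3.rec (fun _ => Nat) 103 89 65 1 108 92 94 1 15 15 15 0 110 1 16 16 16 0 117 1 87 82 89 15 15 16 17 15 0 121 1 2 15 15 86 15 127 15 15 1) (@D3.rec (fun _ => Nat) 116 16 120 2 117 3 15 15 15 93 88 91 15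 15 16 16 16 0 118 1 2 16 16 90 16 109 16 16 1 119 16 121 2 117 8 16 16 17 105 96) (@D3.rec (fun _ => Nat) 12 102 87 107 2 104 3 91 100 104 101 2 98 1 93 91 2 3 3 95 93 3 4 4 4 4 4 106 5 113 120 111 12 12 109 12 119 119 118 116) (@D3.rec (fun _ => Nat) 117 0 1 12 12 13 116 13 118 123 113 12 105 106 12 111 91 109 2 3 95 106 111 109 109 2 108 1 97 102 2 3 3 101 95 3 4 4 4 4) (@D3.rec (fun _ => Nat) 4 104 5 118 120 115 13 13 110 13 119 118 117 114 118 13 13 13 121 13 119 121 115 14 15 0 1 15 99 6 2 100 3 6 3 4 4 4 4 4) (@D3.rec (fun _ => Nat) 109 108 104 105 101 16 16 16 17 15 0 1 15 105 6 2 3 104 7 3 4 4 4 4 4 107 107 104 103 106 15 15 15 15 120 101 6 2 99 111) (@D3.rec (fun _ => Nat)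 102 6 3 118 113 4 4 4 107 116 5 115 110 3 3 4 93 95 4 95 4 4 4 5 5 5 103 5 5 5 5 0 9 101 6 103 6 103 0 1) (@D3.rec (fun _ => Nat) 107 110 113 119 100 117 113 108 102 13 13 14 14 116 103 6 2 116 106 106 6 3 113 112 4 4 115 121 115 96 3 3 4 100 98 4 102 4 4 4) (@D3.rec (fun _ => Nat) 5 5 5 103 5 5 5 5 0 5 107 6 110 6 100 0 1 107 107 112 108 106 117 118 109 102 12 13 12 12 96 106 1 95 96 2 3 3 109 4) (@D3.rec (fun _ => Nat) 12 2 3 95 96 3 3 95 4 4 4 4 7 105 123 8 8 98 13 12 13 12 12 6 6 6 102 0 1 2 6 6 6 7 102 7 103 107 104 102) (@D3.rec (fun _ => Nat) 104 1 108 1 2 3 7 98 7 100 12 12 100 106 1 110 108 2 3 3 114 4 12 2 3 111 107 3 3 4 4 4 108 4 7 5 5 106 114 118) (@D3.rec (fun _ => Nat)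 107 12 13 13 13 6 6 6 106 0 1 2 6 6 6 7 7 106 107 108 108 106 2 3 7 107 7 112 13 13 93 2 3 107 120 120 120 72 2 99) (@D3.rec (fun _ => Nat) 3 92 94 92 3 3 4 118 4 4 5 5 110 115 113 113 94 104 96 2 3 117 119 122 107 80 2 3 94 97 104 98 3 3 4 4 4 4 114 4) (@D3.rec (fun _ => Nat) 119 117 97 118 121 105 2 2 3 13 3 14 5 5 6 98 5 5 6 98 8 8 6 6 106 7 108 111 112 5 6 6 111 107 110 119 5 6 0 1) (@D3.rec (fun _ => Nat) 1 110 103 1 1 1 2 2 3 1 5 6 0 1 1 114 104 1 1 2 2 3 93 1 119 24 119 9 1 2 122 121 118 108 1 114 80 1 2 107) (@D3.rec (fun _ => Nat) 118 111 8 121 0 106 0 1 8 0 0 1 2 99 2 103 106 102 64 99 101 2 3 99 98 98 106 16 104 106 16 108 108 89 111 110 2 3 108 107) (@D3.rec (fun _ => Nat)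 102 113 16 115 115 16 109 1 0 1 2 2 109 1 0 1 2 2 85 85 86 86 114 108 115 111 1 16 2 110 16 1 16 2 116 16 2 3 89 96) (@D3.rec (fun _ => Nat) 97 3 4 106 4 16 91 2 3 88 102 107 3 4 116 4 16 101 109 113 114 99 101 99 0 117 100 110 109 111 97 0 87 87 86 86 1 16 16 106)
def lv_e_18 : D2 → D3 → Nat := @D2.rec (fun _ => D3 → Nat) (@D3.rec (fun _ => Nat) 100 0 16 101 1 0 1 1 17 17 107 96 0 97 17 1 0 1 16 16 16 112 100 98 16 16 112 110 124 1 104 1 2 2 94 16 16 118 120 16) (@D3.rec (fun _ => Nat) 17 16 1 117 2 17 113 90 2 3 97 17 1 2 2 2 3 3 3 3 4 4 4 4 16 99 100 20 16 16 16 112 17 104 100 16 17 117 120 112) (@D3.rec (fun _ => Nat) 1 108 1 2 2 103 17 17 107 17 105 18 17 1 2 112 102 17 107 2 3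 100 17 1 2 2 2 3 3 3 7 4 4 4 8 17 95 96 17 18) (@D3.rec (fun _ => Nat) 85 101 0 1 2 98 112 1 2 2 3 0 1 2 107 0 1 0 1 111 2 3 3 4 4 112 122 116 109 2 3 109 122 2 3 3 4 4 4 14) (@D3.rec (fun _ => Nat) 2 3 111 3 3 4 4 4 4 4 4 4 0 5 13 16 95 106 1 2 107 103 1 2 2 3 0 1 117 2 0 1 0 1 113 2 3 3 4 4) (@D3.rec (fun _ => Nat) 103 114 114 107 2 3 114 114 2 3 3 4 4 4 14 2 3 113 3 3 4 4 4 4 4 4 9 10 15 14 89 17 91 110 1 90 88 107 96 96) (@D3.rec (fun _ => Nat) 113 97 0 16 0 99 112 1 2 94 1 111 0 1 113 2 3 102 16 85 4 95 107 89 114 5 1 113 0 117 1 2 2 3 17 119 95 115 1 2) (@D3.rec (fun _ => Nat) 106 16 0 16 16 104 1 104 109 16 0 16 0 1 2 2 1 2 114 2 3 3 4 4 17 17 119 110 110 118 17 105 107 108 19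 122 2 17 119 0) (@D3.rec (fun _ => Nat) 0 1 2 2 104 1 2 2 2 2 3 3 6 16 16 17 3 4 4 4 16 16 0 16 112 1 0 1 2 7 2 2 3 12 7 3 3 113 113 4) (@D3.rec (fun _ => Nat) 4 4 4 4 5 16 16 16 0 1 16 18 84 117 1 88 88 89 119 100 100 101 0 16 0 100 119 1 2 102 1 0 1 111 2 3 99 16 94 4) (@D3.rec (fun _ => Nat) 94 106 94 113 5 1 118 111 109 1 2 2 3 16 117 101 117 1 2 119 16 0 16 16 114 1 113 119 16 0 16 0 1 2 2 115 2 115 3 4) (@D3.rec (fun _ => Nat) 4 16 16 117 108 109 117 16 118 120 111 17 116 2 16 109 0 0 1 2 2 109 1 2 2 2 2 3 3 6 16 16 17 3 4 4 4 16 16 0) (@D3.rec (fun _ => Nat) 16 109 1 0 1 8 2 13 8 3 3 112 120 4 4 4 4 9 10 17 17 17 0 1 17 102 101 102 13 0 4 4 100 100 99 118 113 5 116 103) (@D3.rec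 (fun _ => Nat) 106 111 1 16 114 107 0 1 0 116 1 2 2 3 16 0 1 13 110 13 4 85 112 115 106 108 118 1 115 115 115 13 0 0 0 1 116 13 120 113) (@D3.rec (fun _ => Nat) 1 118 1 0 1 2 2 113 0 112 1 115 116 1 111 114 2 118 113 115 117 98 6 6 11 119 120 84 83 105 107 105 109 106 108 85 103 104 113 111) (@D3.rec (fun _ => Nat) 114 1 0 118 1 114 114 13 13 111 106 110 110 114 1 116 117 114 2 2 100 0 1 2 117 0 1 2 2 2 2 116 116 118 2 3 8 3 127 115) (@D3.rec (fun _ => Nat) 117 4 4 4 108 115 5 0 114 111 14 113 112 14 119 121 117 15 15 114 115 113 112 112 13 111 110 109 111 3 4 13 104 0 1 1 2 2 2 105) (@D3.rec (fun _ => Nat) 112 1 2 116 114 2 2 3 116 3 3 6 110 100 110 1 2 7 2 110 7 118 108 102 114 1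 110 107 1 107 1 110 2 2 110 1 2 2 2 2) (@D3.rec (fun _ => Nat) 2 123 3 3 3 3 4 111 3 3 3 4 4 4 119 5 5 5 105 6 114 114 101 13 13 104 104 4 4 118 114 5 120 108 114 107 114 111 1 13) (@D3.rec (fun _ => Nat) 100 0 1 113 1 2 2 107 13 107 13 112 13 4 101 93 105 106 116 1 109 105 105 105 13 0 0 0 1 112 111 109 1 114 1 0 1 0 123 1) (@D3.rec (fun _ => Nat) 119 1 111 117 2 119 112 114 114 101 6 6 6 116 97 114 99 101 97 100 100 97 99 103 106 113 102 110 115 111 1 113 115 14 114 109 115 110 110 120) (@D3.rec (fun _ => Nat) 110 0 1 118 0 1 2 2 2 119 2 3 9 117 117 117 4 4 4 120 112 5 0 114 114 14 113 128 15 119 117 118 13 13 110 111 112 111 109 111) (@D3.rec (fun _ => Nat) 111 1 109 2 2 109 116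 1 115 118 2 2 118 3 3 3 6 108 106 108 1 8 8 126 109 104 1 109 103 1 108 1 2 105 2 105 1 2 2 2) (@D3.rec (fun _ => Nat) 2 2 3 109 3 3 3 5 3 3 3 4 4 4 115 9 9 9 109 10 111 115 107 15 15 5 118 1 117 117 0 1 113 115 108 95 1 2 99 99) (@D3.rec (fun _ => Nat) 2 2 115 113 1 115 2 2 2 3 4 105 1 101 109 2 101 98 96 105 100 1 2 2 1 97 2 2 2 2 106 109 3 101 4 112 0 1 98 101) (@D3.rec (fun _ => Nat) 2 2 2 99 108 99 107 3 3 4 107 109 107 4 7 110 99 109 100 14 103 14 2 2 3 107 105 3 101 106 102 102 4 6 104 102 105 7 96 5)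
def lv_e_19 : D2 → D3 → Nat := @D2.rec (fun _ => D3 → Nat) (@D3.rec (fun _ => Nat) 110 1 109 112 0 1 118 115 118 103 1 2 101 103 2 2 114 116 1 2 117 2 2 3 5 102 1 109 110 2 108 109 106 102 107 1 2 2 1 2) (@D3.rec (fun _ => Nat) 106 2 2 2 108 117 3 4 108 101 0 1 108 107 2 2 2 100 108 105 115 3 3 4 109 110 117 4 7 106 119 108 109 14 112 14 2 2 118 103) (@D3.rec (fun _ => Nat) 3 3 109 107 109 103 4 6 107 5 103 108 107 104 113 113 106 104 115 115 115 117 123 111 1 2 2 2 2 3 123 118 113 121 117 108 113 117 119 112) (@D3.rec (fun _ => Nat) 121 120 1 2 2 2 2 117 3 121 102 101 103 103 103 3 2 4 4 3 4 4 4 5 5 5 5 103 3 2 4 4 3 4 4 4 5 9 9 9) (@D3.rec (fun _ => Nat) 5 5 5 5 117 6 3 5 1 1 112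 2 7 1 1 113 2 104 2 104 104 104 3 3 14 14 4 5 5 1 110 2 117 1 13 2 2 13 13 3) (@D3.rec (fun _ => Nat) 5 1 107 1 2 2 2 3 3 111 2 3 3 3 6 4 117 6 14 6 108 5 5 5 5 115 6 3 1 1 117 2 1 1 112 2 101 2 100 100) (@D3.rec (fun _ => Nat) 100 3 3 14 14 4 5 5 112 114 14 14 115 15 4 14 11 118 2 2 122 3 0 1 2 2 2 3 3 3 3 3 4 103 4 4 113 122 2 2) (@D3.rec (fun _ => Nat) 120 3 0 1 2 2 2 3 3 3 3 3 4 112 4 4 115 112 8 110 112 109 111 3 3 3 3 3 4 114 4 4 113 110 5 13 114 115 3 4) (@D3.rec (fun _ => Nat) 113 115 112 114 1 2 113 118 2 1 116 121 1 2 115 119 2 1 114 121 17 18 24 104 17 106 1 120 17 18 23 109 17 109 1 119 17 17 17 109) (@D3.rec (fun _ => Nat) 17 17 17 18 17 19 109 18 18 18 18 19 106 11 11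 100 12 12 103 18 18 19 105 17 17 17 11 106 108 11 107 109 106 102 106 11 11 106 105 106) (@D3.rec (fun _ => Nat) 12 13 105 101 103 3 4 0 1 4 104 0 1 105 105 105 105 2 106 105 113 107 3 4 0 1 4 101 0 1 107 107 102 102 2 103 104 112 99 104) (@D3.rec (fun _ => Nat) 116 11 99 105 114 11 120 112 118 119 114 113 117 120 108 104 21 108 110 23 108 91 2 114 99 100 19 110 89 2 119 102 109 18 95 111 93 113 112 111) (@D3.rec (fun _ => Nat) 107 18 120 125 19 104 95 19 95 100 111 107 105 19 115 121 19 100 94 18 4 4 106 5 106 100 16 108 110 109 111 4 4 110 5 115 104 16 103 103) (@D3.rec (fun _ => Nat) 103 101 19 111 95 0 115 1 103 101 20 0 99 105 90 19 0 19 1 2 78 90 18 117 88 0 115 1 107 105 22 0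 103 95 88 18 0 18 1 2) (@D3.rec (fun _ => Nat) 86 90 99 97 102 104 107 3 3 99 106 121 101 104 99 101 117 115 100 108 103 107 1 102 114 5 5 9 9 9 101 112 111 118 116 102 100 100 100 1) (@D3.rec (fun _ => Nat) 1 2 108 13 105 13 13 106 13 102 14 104 115 117 1 2 107 12 115 116 117 118 115 109 13 111 13 106 1 1 2 2 108 107 111 114 3 3 102 107) (@D3.rec (fun _ => Nat) 108 116 113 118 1 115 116 5 5 103 112 108 111 12 113 12 12 111 102 111 108 1 103 2 13 118 112 109 110 105 105 101 102 101 97 6 6 6 100 101) (@D3.rec (fun _ => Nat) 102 7 102 108 7 114 101 101 121 100 2 114 106 2 101 109 103 2 2 3 103 106 106 106 1 107 116 105 113 1 2 2 109 109 109 113 109 12 12 12) (@D3.rec (fun _ => Nat) 1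 2 2 2 115 127 125 105 105 101 103 105 103 6 6 6 105 105 106 7 109 113 7 113 108 109 113 108 2 115 102 2 108 115 110 2 2 107 3 112) (@D3.rec (fun _ => Nat) 112 112 1 110 108 107 106 1 2 2 115 110 108 110 110 14 14 14 1 2 2 2 115 121 114 103 114 114 114 122 121 2 2 119 115 115 122 122 1 2) (@D3.rec (fun _ => Nat) 2 3 116 122 115 113 2 2 3 113 119 112 116 118 121 118 2 2 116 123 123 120 122 1 115 2 124 114 13 3 118 109 15 3 121 1 1 1 1 10) (@D3.rec (fun _ => Nat) 119 11 120 100 102 89 89 118 11 121 118 12 119 114 117 122 117 116 115 112 111 104 100 1 2 3 83 3 4 4 4 4 4 108 5 118 118 16 115 1) (@D3.rec (fun _ => Nat) 113 12 13 12 13 13 117 12 111 105 1 2 3 87 3 4 4 4 4 4 106 5 117 14 119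 117 13 13 13 13 13 120 14 1 1 88 3 4 101 88) (@D3.rec (fun _ => Nat) 90 118 4 4 4 114 116 100 105 13 101 113 1 1 2 116 13 110 2 91 2 106 2 108 105 90 3 3 111 117 106 12 88 3 4 112 94 89 114 4) (@D3.rec (fun _ => Nat) 4 4 113 114 108 112 112 1 1 2 112 2 89 2 118 2 118 114 85 3 3 123 111 116 14 115 112 115 1 2 2 2 2 117 12 2 2 107 114 114) (@D3.rec (fun _ => Nat) 1 2 2 2 116 114 2 2 115 115 115 123 124 111 111 2 3 115 121 1 2 2 2 120 122 122 119 121 107 1 2 1 2 114 110 1 2 111 115 88)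
def lv_e_20 : D2 → D3 → Nat := @D2.rec (fun _ => D3 → Nat) (@D3.rec (fun _ => Nat) 102 115 2 113 115 2 116 120 3 92 109 112 2 117 112 2 117 118 3 1 1 92 96 2 2 2 2 104 1 107 1 103 16 16 105 16 16 2 8 113) (@D3.rec (fun _ => Nat) 16 2 3 117 16 105 108 16 16 108 0 16 104 1 17 17 109 0 17 109 1 105 87 84 89 16 16 16 16 1 118 2 16 16 16 116 16 17 120 17) (@D3.rec (fun _ => Nat) 117 119 3 16 16 93 110 88 86 16 16 17 17 1 119 2 17 17 17 113 17 17 119 17 119 115 7 17 18 86 109 107 3 113 93 3 3 4 4 99) (@D3.rec (fun _ => Nat) 99 94 4 4 4 5 5 5 5 5 5 121 115 116 119 124 1 13 93 110 109 3 110 99 3 3 4 4 98 105 97 4 4 4 111 113 5 126 6 5) (@D3.rec (fun _ => Nat) 126 117 125 114 14 16 0 116 1 16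 117 3 118 116 4 7 4 4 4 5 113 5 102 113 106 105 120 102 17 109 108 16 0 117 1 16 106 3 110 113) (@D3.rec (fun _ => Nat) 4 7 4 4 4 5 104 5 107 112 104 105 118 101 16 104 106 119 101 124 7 4 118 118 120 113 5 100 115 4 4 95 111 113 93 5 5 5 113 5) (@D3.rec (fun _ => Nat) 5 6 6 97 6 6 114 114 1 101 117 111 102 106 1 98 108 105 111 8 4 114 109 110 111 116 4 4 94 112 112 105 5 5 5 109 5 5 6 6) (@D3.rec (fun _ => Nat) 105 6 6 1 115 118 117 115 108 1 108 98 106 96 3 4 4 4 4 104 110 109 3 100 4 96 94 4 4 4 95 116 95 124 5 5 5 9 106 8) (@D3.rec (fun _ => Nat) 8 100 108 7 7 113 1 2 7 7 108 106 8 107 104 105 106 106 108 102 3 8 103 103 112 103 102 106 112 3 4 4 109 116 116 3 100 4 111 109) (@D3.rec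 (fun _ => Nat) 4 4 4 114 5 5 5 5 109 104 120 108 5 5 108 105 7 7 112 1 2 7 7 114 108 8 106 108 105 3 8 104 107 123 112 94 3 120 120 116) (@D3.rec (fun _ => Nat) 3 100 105 92 94 4 4 5 120 6 6 115 96 113 108 96 3 119 118 119 3 104 106 94 98 4 4 4 115 5 119 98 118 114 119 6 6 118 115 101) (@D3.rec (fun _ => Nat) 1 99 111 112 108 110 2 108 104 110 105 1 106 115 108 106 2 114 106 2 2 1 1 1 1 3 116 103 98 108 100 112 17 17 3 115 112 104 113 102) (@D3.rec (fun _ => Nat) 108 17 17 1 112 111 2 118 1 122 117 2 109 86 0 87 0 110 118 17 17 3 119 91 105 4 4 5 106 102 104 105 3 114 88 109 4 4 115 116) (@D3.rec (fun _ => Nat) 103 106 110 117 113 104 121 1 107 111 109 105 1 88 0 87 0 107 101 1 108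 101 1 117 102 118 95 1 109 97 1 111 104 17 84 96 120 96 17 102) (@D3.rec (fun _ => Nat) 104 2 3 112 121 97 114 19 2 113 117 99 3 4 18 2 2 110 117 3 3 4 4 4 4 4 100 108 101 104 5 5 101 104 104 102 102 102 108 18) (@D3.rec (fun _ => Nat) 76 118 104 17 108 108 2 3 112 114 98 108 18 2 117 117 3 4 18 2 2 124 122 3 3 4 4 4 4 9 102 116 116 109 10 10 106 101 103 109) (@D3.rec (fun _ => Nat) 96 98 120 110 0 1 2 2 3 122 120 113 1 2 114 1 119 1 3 4 4 122 125 109 3 116 3 4 4 4 5 3 4 4 4 111 4 4 4 4) (@D3.rec (fun _ => Nat) 118 0 5 110 5 1 112 109 2 2 3 119 117 112 1 2 111 1 122 1 3 4 4 115 115 117 3 114 3 4 4 4 5 3 4 4 4 109 4 4) (@D3.rec (fun _ => Nat) 4 4 117 5 121 9 101 91 19 117 96 110 118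 120 1 87 0 17 120 1 106 104 112 114 114 2 113 110 1 110 3 116 114 107 109 119 1 2 119 2) (@D3.rec (fun _ => Nat) 3 4 119 119 2 85 0 17 116 1 106 110 17 116 0 1 2 100 1 2 2 2 115 116 3 4 4 5 5 96 18 97 18 108 108 114 115 107 0 1) (@D3.rec (fun _ => Nat) 107 1 2 2 106 2 2 3 3 3 3 6 4 7 0 100 91 99 4 4 4 5 17 0 17 98 1 108 112 110 1 116 2 116 8 116 3 115 113 119) (@D3.rec (fun _ => Nat) 105 110 8 4 4 5 5 6 0 100 17 101 17 113 0 1 17 111 86 18 113 102 116 119 116 1 0 17 114 1 122 102 114 118 119 2 114 1 118 3) (@D3.rec (fun _ => Nat) 103 108 121 116 111 2 3 4 115 119 2 17 0 17 115 1 112 108 17 114 1 2 1 2 2 4 4 5 5 17 17 108 108 17 109 0 1 108 1 2) (@D3.rec (fun _ => Nat) 2 109 2 2 3 3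 3 6 4 7 0 93 4 4 4 5 0 17 1 108 111 118 1 118 111 109 108 108 9 4 4 5 9 10 119 18 18 108 110 1) (@D3.rec (fun _ => Nat) 1 5 100 101 108 116 107 1 1 111 2 3 0 1 117 108 110 117 1 1 103 1 116 116 110 1 2 2 3 115 1 115 115 120 117 107 109 108 106 109) (@D3.rec (fun _ => Nat) 1 114 114 111 125 128 0 1 112 2 1 118 2 2 3 110 3 9 9 115 5 116 112 1 118 108 120 115 112 4 1 2 114 2 112 113 110 3 3 112)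
def lv_e_21 : D2 → D3 → Nat := @D2.rec (fun _ => D3 → Nat) (@D3.rec (fun _ => Nat) 116 102 100 2 8 116 103 113 109 2 110 106 2 2 3 3 4 4 4 4 6 119 119 119 100 5 107 107 109 1 115 2 107 109 116 109 1 1 108 1) (@D3.rec (fun _ => Nat) 112 116 1 116 1 119 114 115 114 97 102 105 102 115 112 107 115 1 118 1 2 2 3 3 123 5 109 123 1 114 117 121 116 119 113 3 3 128 113 114) (@D3.rec (fun _ => Nat) 106 121 106 118 2 107 111 2 2 3 3 4 4 4 11 125 117 125 109 1 118 4 117 116 121 2 98 99 119 2 3 3 4 105 105 101 105 108 100 2) (@D3.rec (fun _ => Nat) 2 109 2 2 107 109 4 110 1 4 101 109 107 103 3 7 105 1 111 4 119 117 115 2 103 103 120 2 3 3 5 108 101 108 112 101 110 2 2 119) (@D3.rec (fun _ => Nat)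 2 2 114 113 4 103 1 4 100 113 112 112 3 5 102 118 121 116 124 121 115 117 122 125 122 2 2 3 104 118 110 121 119 118 118 118 122 120 121 2) (@D3.rec (fun _ => Nat) 2 3 112 120 114 5 112 5 6 106 106 15 106 15 13 114 14 14 15 8 3 3 118 4 6 103 103 103 15 15 3 1 2 3 3 4 104 4 4 110) (@D3.rec (fun _ => Nat) 115 5 111 3 1 2 3 3 4 120 4 4 109 123 5 108 112 114 114 114 111 111 4 4 4 5 5 5 5 114 113 113 110 115 115 4 5 5 5 115) (@D3.rec (fun _ => Nat) 115 117 2 128 119 121 2 112 114 123 106 19 109 18 19 19 116 102 123 19 114 18 108 110 122 107 109 116 104 107 4 0 1 1 107 107 106 117 113 4) (@D3.rec (fun _ => Nat) 0 1 1 104 109 103 113 116 108 102 116 103 115 100 97 110 92 116 114 118 99 97 124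 121 107 107 19 113 107 105 105 105 105 20 113 107 5 105 114 111) (@D3.rec (fun _ => Nat) 109 5 116 110 117 108 20 107 113 1 118 112 111 1 105 108 0 99 1 2 112 19 109 114 1 123 117 117 1 112 112 0 92 1 2 118 96 101 109 109) (@D3.rec (fun _ => Nat) 108 110 107 114 102 103 102 102 107 2 115 111 111 100 2 107 113 115 109 118 113 111 109 2 7 7 104 116 3 104 116 2 2 3 123 113 124 111 111 13) (@D3.rec (fun _ => Nat) 2 2 116 115 7 7 106 115 3 113 112 2 2 124 119 3 117 110 15 2 2 125 124 114 123 125 122 2 3 3 4 4 116 0 115 113 3 123 117 121) (@D3.rec (fun _ => Nat) 117 119 120 118 118 3 4 95 4 4 4 5 118 123 5 105 118 114 113 3 4 97 4 4 4 5 116 122 5 108 117 4 123 104 2 114 110 92 118 4) (@D3.rec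 (fun _ => Nat) 115 2 115 85 104 2 2 2 3 121 2 2 2 3 111 3 106 111 117 0 2 2 3 2 17 17 106 1 117 111 1 116 105 105 113 111 17 18 110 108) (@D3.rec (fun _ => Nat) 122 111 18 18 102 109 116 95 4 4 5 99 120 5 5 5 5 5 113 112 6 6 123 108 111 118 99 4 4 5 104 122 5 5 113 127 0 17 121 1) (@D3.rec (fun _ => Nat) 116 4 103 122 5 5 123 111 115 0 17 119 1 122 4 107 109 5 5 106 109 116 113 120 128 115 6 6 107 119 110 117 117 111 111 121 110 117 6 6) (@D3.rec (fun _ => Nat) 107 119 117 118 117 115 109 123 93 4 4 4 119 4 96 96 5 5 5 9 118 116 6 106 106 8 8 125 106 112 106 106 110 121 123 108 98 4 4 103) (@D3.rec (fun _ => Nat) 107 5 5 5 5 6 116 117 8 8 115 108 115 108 117 117 101 94 6 6 114 104 113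 115 122 108 110 103 100 5 120 119 116 119 108 126 113 104 116 108) (@D3.rec (fun _ => Nat) 114 113 100 124 114 102 112 1 121 1 5 116 89 0 1 88 0 1 96 3 4 4 118 5 5 112 103 108 116 118 104 102 3 4 4 114 9 9 115 109) (@D3.rec (fun _ => Nat) 117 126 114 106 110 107 1 114 115 115 119 5 4 4 4 5 114 115 105 5 111 1 109 127 114 5 4 4 4 5 126 119 127 5 118 113 86 115 1 120) (@D3.rec (fun _ => Nat) 2 120 108 4 117 88 1 110 116 1 2 3 112 5 5 119 6 6 101 111 1 3 3 4 7 5 8 1 90 109 5 6 123 18 1 103 114 112 112 115) (@D3.rec (fun _ => Nat) 9 9 5 6 7 7 1 0 103 1 122 117 1 112 109 4 112 18 1 114 115 2 5 5 111 1 3 4 7 1 106 5 1 108 119 5 11 0 114 117) (@D3.rec (fun _ => Nat) 107 1 121 118 2 3 119 119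 119 1 3 114 114 116 108 4 107 108 116 120 116 126 3 126 106 3 124 104 3 124 119 105 5 121 109 122 5 114 109 112) (@D3.rec (fun _ => Nat) 115 114 114 5 5 5 5 118 6 114 115 116 118 118 5 5 5 117 116 124 123 125 110 116 115 121 1 110 107 1 121 109 112 126 109 107 1 1 3 117) (@D3.rec (fun _ => Nat) 3 123 116 3 4 4 4 125 5 107 1 115 121 120 121 110 112 117 4 5 118 4 5 120 122 111 3 3 125 1 3 107 107 107 110 5 120 6 6 114) (@D3.rec (fun _ => Nat) 129 125 5 124 113 125 1 119 1 6 6 125 112 122 109 119 121 1 1 106 125 5 5 3 6 6 5 8 6 116 7 7 1 1 117 6 126 4 5 124)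
def lv_e : Pt → Nat := @Pt.rec (fun _ => Nat) (@D1.rec (fun _ => D2 → D3 → Nat) lv_e_0 lv_e_1 lv_e_2 lv_e_3 lv_e_4 lv_e_5 lv_e_6 lv_e_7 lv_e_8 lv_e_9 lv_e_10 lv_e_11 lv_e_12 lv_e_13 lv_e_14 lv_e_15 lv_e_16 lv_e_17 lv_e_18 lv_e_19 lv_e_20 lv_e_21)
abbrev lc_e_Cert_tree : Cert rels S Gen.e := Cert.tree
abbrev lc_e_rc_10_1 : Cert rels S Gen.e := rc_10_1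
abbrev lc_e_rc_10_3 : Cert rels S Gen.e := rc_10_3
abbrev lc_e_rc_15_1 : Cert rels S Gen.e := rc_15_1
abbrev lc_e_rc_15_3 : Cert rels S Gen.e := rc_15_3
abbrev lc_e_rc_19_1 : Cert rels S Gen.e := rc_19_1
abbrev lc_e_rc_19_3 : Cert rels S Gen.e := rc_19_3
abbrev lc_e_rc_19_5 : Cert rels S Gen.e := rc_19_5
abbrev lc_e_rc_22_0 : Cert rels S Gen.e := rc_22_0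
abbrev lc_e_rc_22_1 : Cert rels S Gen.e := rc_22_1
abbrev lc_e_rc_23_0 : Cert rels S Gen.e := rc_23_0
abbrev lc_e_rc_23_2 : Cert rels S Gen.e := rc_23_2
abbrev lc_e_rc_24_0 : Cert rels S Gen.e := rc_24_0
abbrev lc_e_rc_24_2 : Cert rels S Gen.e := rc_24_2
abbrev lc_e_rc_32_25 : Cert rels S Gen.e := rc_32_25
abbrev lc_e_rc_32_51 : Cert rels S Gen.e := rc_32_51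
abbrev lc_e_rc_32_77 : Cert rels S Gen.e := rc_32_77
abbrev lc_e_rc_4_1 : Cert rels S Gen.e := rc_4_1
abbrev lc_e_rc_4_3 : Cert rels S Gen.e := rc_4_3
def ce_e_0 : D2 → D3 → (Cert rels S Gen.e) := @D2.rec (fun _ => D3 → (Cert rels S Gen.e)) (@D3.rec (fun _ => (Cert rels S Gen.e)) lc_e_Cert_tree lc_e_rc_22_0 lc_e_rc_19_3 lc_e_rc_15_1 lc_e_rc_10_1 lc_e_Cert_tree lc_e_rc_4_1 lc_e_Cert_tree lc_e_rc_23_2 lc_e_rc_24_2 lc_e_rc_22_0 lc_e_rc_10_1 lc_e_Cert_tree lc_e_rc_4_1 lc_e_rc_4_1 lc_e_Cert_tree lc_e_rc_22_0 lc_e_rc_23_2 lc_e_rc_24_2 lc_e_rc_24_2 lc_e_rc_4_1 lc_e_rc_4_1 lc_e_Cert_tree lc_e_rc_23_2 lc_e_rc_24_2 lc_e_Cert_tree lc_e_rc_22_0 lc_e_rc_23_2 lc_e_rc_24_2 lc_e_rc_10_1 lc_e_rc_10_1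 lc_e_Cert_tree lc_e_rc_22_0 lc_e_rc_23_2 lc_e_rc_24_2 lc_e_rc_23_2 lc_e_rc_24_2 lc_e_rc_24_2 lc_e_rc_24_2 lc_e_rc_10_1) (@D3.rec (fun _ => (Cert rels S Gen.e)) lc_e_rc_10_1 lc_e_Cert_tree lc_e_rc_4_1 lc_e_rc_4_1 lc_e_Cert_tree lc_e_rc_22_0 lc_e_rc_23_2 lc_e_rc_24_2 lc_e_rc_23_2 lc_e_rc_24_2 lc_e_rc_24_2 lc_e_rc_4_1 lc_e_Cert_tree lc_e_Cert_tree lc_e_rc_22_0 lc_e_rc_23_2 lc_e_rc_24_2 lc_e_rc_23_2 lc_e_rc_24_2 lc_e_rc_10_1 lc_e_rc_10_1 lc_e_rc_4_1 lc_e_rc_15_1 lc_e_rc_24_2 lc_e_rc_4_1 lc_e_rc_15_1 lc_e_rc_23_2 lc_e_rc_22_0 lc_e_rc_23_2 lc_e_rc_24_2 lc_e_rc_19_3 lc_e_rc_23_2 lc_e_rc_24_2 lc_e_rc_10_1 lc_e_rc_24_2 lc_e_rc_10_1 lc_e_rc_4_3 lc_e_rc_24_2 lc_e_rc_24_0 lc_e_rc_10_1) (@D3.rec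 (fun _ => (Cert rels S Gen.e)) lc_e_rc_10_1 lc_e_rc_4_1 lc_e_rc_15_1 lc_e_rc_23_2 lc_e_rc_4_1 lc_e_rc_15_1 lc_e_rc_24_2 lc_e_Cert_tree lc_e_rc_22_0 lc_e_rc_23_2 lc_e_rc_24_2 lc_e_rc_10_1 lc_e_rc_10_1 lc_e_Cert_tree lc_e_Cert_tree lc_e_rc_22_0 lc_e_rc_23_2 lc_e_rc_24_2 lc_e_rc_23_2 lc_e_rc_24_2 lc_e_rc_10_1 lc_e_rc_24_2 lc_e_rc_10_1 lc_e_rc_24_2 lc_e_rc_24_2 lc_e_rc_4_1 lc_e_rc_10_1 lc_e_rc_4_1 lc_e_Cert_tree lc_e_Cert_tree lc_e_rc_22_0 lc_e_rc_23_2 lc_e_rc_24_2 lc_e_rc_22_0 lc_e_rc_23_2 lc_e_rc_24_2 lc_e_rc_19_3 lc_e_rc_23_2 lc_e_rc_24_2 lc_e_rc_10_1) (@D3.rec (fun _ => (Cert rels S Gen.e)) lc_e_rc_10_1 lc_e_rc_10_1 lc_e_rc_10_1 lc_e_rc_4_1 lc_e_rc_15_1 lc_e_rc_24_2 lc_e_rc_4_1 lc_e_rc_15_1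 lc_e_rc_23_2 lc_e_rc_10_1 lc_e_Cert_tree lc_e_rc_24_2 lc_e_rc_10_1 lc_e_Cert_tree lc_e_rc_23_2 lc_e_rc_19_3 lc_e_rc_23_2 lc_e_rc_24_2 lc_e_rc_10_1 lc_e_rc_24_2 lc_e_rc_10_1 lc_e_rc_4_3 lc_e_rc_15_1 lc_e_rc_23_2 lc_e_rc_24_2 lc_e_rc_10_1 lc_e_rc_24_2 lc_e_rc_10_1 lc_e_rc_4_1 lc_e_rc_24_2 lc_e_rc_10_1 lc_e_rc_23_2 lc_e_rc_10_1 lc_e_rc_10_1 lc_e_rc_10_1 lc_e_rc_4_1 lc_e_rc_15_1 lc_e_rc_23_2 lc_e_rc_4_1 lc_e_rc_15_1) (@D3.rec (fun _ => (Cert rels S Gen.e)) lc_e_rc_24_2 lc_e_rc_4_1 lc_e_rc_24_2 lc_e_rc_23_2 lc_e_rc_4_1 lc_e_rc_4_1 lc_e_rc_24_2 lc_e_Cert_tree lc_e_Cert_tree lc_e_rc_22_0 lc_e_rc_23_2 lc_e_rc_24_2 lc_e_rc_23_2 lc_e_rc_24_2 lc_e_rc_10_1 lc_e_rc_10_1 lc_e_Cert_tree lc_e_Cert_tree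 lc_e_rc_22_0 lc_e_rc_23_2 lc_e_rc_24_2 lc_e_rc_22_0 lc_e_rc_23_2 lc_e_rc_24_2 lc_e_rc_19_3 lc_e_rc_23_2 lc_e_rc_24_2 lc_e_rc_10_1 lc_e_rc_24_2 lc_e_rc_10_1 lc_e_rc_4_3 lc_e_rc_10_1 lc_e_rc_24_2 lc_e_rc_10_1 lc_e_rc_24_0 lc_e_rc_15_1 lc_e_rc_24_2 lc_e_rc_10_1 lc_e_rc_15_1 lc_e_rc_23_2) (@D3.rec (fun _ => (Cert rels S Gen.e)) lc_e_rc_10_1 lc_e_Cert_tree lc_e_Cert_tree lc_e_rc_22_0 lc_e_rc_23_2 lc_e_rc_24_2 lc_e_rc_22_0 lc_e_rc_23_2 lc_e_rc_24_2 lc_e_rc_19_3 lc_e_rc_23_2 lc_e_rc_24_2 lc_e_rc_10_1 lc_e_rc_24_2 lc_e_rc_10_1 lc_e_rc_24_2 lc_e_rc_19_3 lc_e_rc_23_2 lc_e_rc_24_2 lc_e_rc_10_1 lc_e_rc_10_1 lc_e_rc_15_1 lc_e_rc_23_2 lc_e_rc_24_2 lc_e_rc_10_1 lc_e_rc_10_1 lc_e_rc_4_1 lc_e_rc_15_1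 lc_e_rc_24_2 lc_e_rc_4_1 lc_e_rc_15_1 lc_e_rc_23_2 lc_e_rc_4_1 lc_e_rc_15_1 lc_e_rc_24_2 lc_e_rc_4_1 lc_e_rc_15_1 lc_e_rc_23_2 lc_e_rc_10_1 lc_e_rc_4_1) (@D3.rec (fun _ => (Cert rels S Gen.e)) lc_e_Cert_tree lc_e_rc_24_2 lc_e_rc_4_3 lc_e_rc_10_1 lc_e_rc_4_1 lc_e_Cert_tree lc_e_rc_23_2 lc_e_rc_24_2 lc_e_Cert_tree lc_e_rc_22_0 lc_e_Cert_tree lc_e_rc_22_0 lc_e_rc_15_1 lc_e_rc_23_2 lc_e_rc_24_2 lc_e_rc_10_1 lc_e_rc_24_2 lc_e_rc_10_1 lc_e_rc_4_1 lc_e_rc_15_1 lc_e_rc_10_1 lc_e_rc_15_1 lc_e_rc_10_1 lc_e_rc_10_1 lc_e_rc_15_1 lc_e_rc_15_1 lc_e_rc_10_1 lc_e_rc_24_2 lc_e_rc_10_1 lc_e_rc_4_3 lc_e_rc_24_2 lc_e_rc_10_1 lc_e_rc_23_2 lc_e_rc_10_1 lc_e_rc_24_2 lc_e_rc_4_1 lc_e_rc_15_1 lc_e_rc_23_2 lc_e_rc_4_1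 lc_e_rc_15_1) (@D3.rec (fun _ => (Cert rels S Gen.e)) lc_e_rc_4_1 lc_e_rc_15_1 lc_e_rc_23_2 lc_e_rc_4_1 lc_e_rc_15_1 lc_e_rc_24_2 lc_e_rc_4_1 lc_e_rc_4_1 lc_e_rc_23_2 lc_e_rc_4_1 lc_e_rc_4_1 lc_e_rc_24_2 lc_e_rc_24_2 lc_e_rc_4_1 lc_e_Cert_tree lc_e_rc_22_0 lc_e_rc_22_0 lc_e_rc_23_2 lc_e_rc_24_2 lc_e_rc_19_3 lc_e_rc_23_2 lc_e_rc_24_2 lc_e_rc_10_1 lc_e_rc_10_1 lc_e_Cert_tree lc_e_rc_22_0 lc_e_rc_23_2 lc_e_rc_24_2 lc_e_rc_22_0 lc_e_rc_23_2 lc_e_rc_24_2 lc_e_rc_19_3 lc_e_rc_23_2 lc_e_rc_24_2 lc_e_rc_10_1 lc_e_rc_24_2 lc_e_rc_10_1 lc_e_rc_24_2 lc_e_rc_19_3 lc_e_rc_23_2) (@D3.rec (fun _ => (Cert rels S Gen.e)) lc_e_rc_24_2 lc_e_rc_10_1 lc_e_rc_24_2 lc_e_rc_10_1 lc_e_rc_4_3 lc_e_rc_15_1 lc_e_rc_23_2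 lc_e_rc_24_2 lc_e_rc_10_1 lc_e_rc_24_2 lc_e_rc_10_1 lc_e_rc_4_1 lc_e_rc_4_1 lc_e_rc_15_1 lc_e_rc_24_2 lc_e_rc_10_1 lc_e_rc_4_1 lc_e_rc_15_1 lc_e_rc_23_2 lc_e_rc_10_1 lc_e_rc_15_1 lc_e_rc_24_2 lc_e_rc_10_1 lc_e_rc_15_1 lc_e_rc_23_2 lc_e_rc_10_1 lc_e_Cert_tree lc_e_rc_24_2 lc_e_rc_15_1 lc_e_Cert_tree lc_e_rc_23_2 lc_e_rc_15_1 lc_e_Cert_tree lc_e_rc_22_0 lc_e_rc_22_0 lc_e_rc_23_2 lc_e_rc_24_2 lc_e_rc_19_3 lc_e_rc_23_2 lc_e_rc_24_2) (@D3.rec (fun _ => (Cert rels S Gen.e)) lc_e_rc_19_3 lc_e_rc_23_2 lc_e_rc_24_2 lc_e_rc_10_1 lc_e_rc_24_2 lc_e_rc_10_1 lc_e_rc_24_2 lc_e_rc_15_1 lc_e_rc_23_2 lc_e_rc_24_2 lc_e_rc_10_1 lc_e_rc_24_2 lc_e_rc_10_1 lc_e_rc_24_0 lc_e_rc_15_1 lc_e_rc_10_1 lc_e_rc_15_1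 lc_e_rc_10_1 lc_e_rc_15_1 lc_e_rc_23_2 lc_e_rc_24_2 lc_e_rc_10_1 lc_e_rc_10_1 lc_e_rc_4_1 lc_e_rc_15_1 lc_e_rc_24_2 lc_e_rc_4_1 lc_e_rc_15_1 lc_e_rc_23_2 lc_e_rc_10_1 lc_e_rc_15_1 lc_e_rc_15_1 lc_e_rc_10_1 lc_e_rc_10_1 lc_e_rc_4_1 lc_e_rc_15_1 lc_e_rc_24_2 lc_e_rc_4_1 lc_e_rc_15_1 lc_e_rc_23_2) (@D3.rec (fun _ => (Cert rels S Gen.e)) lc_e_rc_4_1 lc_e_rc_4_1 lc_e_Cert_tree lc_e_rc_24_2 lc_e_rc_4_1 lc_e_rc_4_1 lc_e_Cert_tree lc_e_rc_23_2 lc_e_rc_10_1 lc_e_rc_4_1 lc_e_Cert_tree lc_e_rc_24_2 lc_e_rc_4_1 lc_e_rc_10_1 lc_e_rc_4_1 lc_e_Cert_tree lc_e_rc_23_2 lc_e_rc_24_2 lc_e_Cert_tree lc_e_rc_22_0 lc_e_rc_24_2 lc_e_rc_10_1 lc_e_rc_4_3 lc_e_Cert_tree lc_e_rc_22_0 lc_e_rc_23_2 lc_e_rc_10_1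 lc_e_rc_24_2 lc_e_Cert_tree lc_e_Cert_tree lc_e_rc_22_0 lc_e_Cert_tree lc_e_Cert_tree lc_e_rc_22_0 lc_e_rc_10_1 lc_e_rc_19_3 lc_e_rc_15_1 lc_e_rc_15_1 lc_e_rc_10_1 lc_e_rc_24_2) (@D3.rec (fun _ => (Cert rels S Gen.e)) lc_e_rc_10_1 lc_e_rc_4_1 lc_e_rc_15_1 lc_e_rc_10_1 lc_e_rc_15_1 lc_e_rc_10_1 lc_e_rc_4_1 lc_e_rc_4_1 lc_e_rc_4_1 lc_e_rc_23_2 lc_e_rc_24_2 lc_e_rc_10_1 lc_e_rc_15_1 lc_e_rc_10_1 lc_e_rc_15_1 lc_e_rc_15_1 lc_e_rc_24_2 lc_e_rc_10_1 lc_e_rc_15_1 lc_e_rc_23_2 lc_e_rc_10_1 lc_e_rc_24_2 lc_e_rc_4_1 lc_e_rc_15_1 lc_e_rc_23_2 lc_e_rc_4_1 lc_e_rc_15_1 lc_e_rc_24_2 lc_e_rc_10_1 lc_e_rc_4_1 lc_e_Cert_tree lc_e_rc_23_2 lc_e_rc_10_1 lc_e_rc_4_1 lc_e_Cert_tree lc_e_rc_4_1 lc_e_rc_4_1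 lc_e_rc_10_3 lc_e_rc_23_2 lc_e_rc_4_1) (@D3.rec (fun _ => (Cert rels S Gen.e)) lc_e_rc_4_1 lc_e_rc_10_3 lc_e_rc_24_2 lc_e_rc_4_1 lc_e_rc_10_1 lc_e_rc_4_1 lc_e_rc_10_1 lc_e_rc_10_1 lc_e_rc_10_1 lc_e_Cert_tree lc_e_rc_22_0 lc_e_rc_19_3 lc_e_rc_19_3 lc_e_rc_23_2 lc_e_rc_24_2 lc_e_rc_15_1 lc_e_rc_23_2 lc_e_rc_24_2 lc_e_rc_22_0 lc_e_rc_23_2 lc_e_rc_24_2 lc_e_rc_19_3 lc_e_rc_23_2 lc_e_rc_24_2 lc_e_rc_10_1 lc_e_rc_10_1 lc_e_rc_19_3 lc_e_rc_23_2 lc_e_rc_24_2 lc_e_rc_10_1 lc_e_rc_24_2 lc_e_rc_10_1 lc_e_rc_24_2 lc_e_rc_15_1 lc_e_rc_23_2 lc_e_rc_24_2 lc_e_rc_10_1 lc_e_rc_24_2 lc_e_rc_10_1 lc_e_rc_24_0) (@D3.rec (fun _ => (Cert rels S Gen.e)) lc_e_rc_4_1 lc_e_rc_15_1 lc_e_rc_24_2 lc_e_rc_10_1 lc_e_rc_4_1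 lc_e_rc_15_1 lc_e_rc_23_2 lc_e_rc_10_1 lc_e_rc_15_1 lc_e_rc_23_2 lc_e_rc_24_2 lc_e_rc_10_1 lc_e_rc_24_2 lc_e_rc_10_1 lc_e_rc_4_1 lc_e_rc_4_1 lc_e_rc_15_1 lc_e_rc_24_2 lc_e_rc_10_1 lc_e_rc_4_1 lc_e_rc_15_1 lc_e_rc_23_2 lc_e_rc_10_1 lc_e_rc_10_1 lc_e_rc_15_1 lc_e_rc_15_1 lc_e_rc_10_1 lc_e_rc_24_2 lc_e_rc_10_1 lc_e_rc_4_3 lc_e_rc_4_1 lc_e_rc_15_1 lc_e_rc_24_2 lc_e_rc_10_1 lc_e_rc_4_1 lc_e_rc_15_1 lc_e_rc_23_2 lc_e_rc_10_1 lc_e_rc_10_1 lc_e_rc_4_1) (@D3.rec (fun _ => (Cert rels S Gen.e)) lc_e_Cert_tree lc_e_rc_24_2 lc_e_rc_24_2 lc_e_rc_4_3 lc_e_rc_4_1 lc_e_rc_15_1 lc_e_rc_10_1 lc_e_rc_4_1 lc_e_Cert_tree lc_e_rc_23_2 lc_e_rc_23_2 lc_e_rc_24_2 lc_e_rc_4_1 lc_e_rc_15_1 lc_e_Cert_tree lc_e_rc_24_2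 lc_e_rc_15_1 lc_e_Cert_tree lc_e_rc_23_2 lc_e_rc_15_1 lc_e_rc_22_0 lc_e_rc_24_2 lc_e_rc_10_1 lc_e_Cert_tree lc_e_rc_22_0 lc_e_rc_23_2 lc_e_rc_10_1 lc_e_Cert_tree lc_e_Cert_tree lc_e_rc_22_0 lc_e_rc_19_3 lc_e_rc_19_3 lc_e_rc_23_2 lc_e_rc_24_2 lc_e_rc_15_1 lc_e_rc_23_2 lc_e_rc_24_2 lc_e_rc_15_1 lc_e_rc_23_2 lc_e_rc_24_2) (@D3.rec (fun _ => (Cert rels S Gen.e)) lc_e_rc_10_1 lc_e_rc_24_2 lc_e_rc_10_1 lc_e_rc_24_0 lc_e_rc_10_1 lc_e_rc_10_1 lc_e_rc_10_1 lc_e_Cert_tree lc_e_rc_15_1 lc_e_rc_15_1 lc_e_rc_10_1 lc_e_rc_24_2 lc_e_rc_10_1 lc_e_rc_4_3 lc_e_rc_15_1 lc_e_rc_10_1 lc_e_rc_15_1 lc_e_rc_10_1 lc_e_Cert_tree lc_e_rc_4_1 lc_e_rc_15_1 lc_e_Cert_tree lc_e_rc_4_1 lc_e_rc_15_1 lc_e_rc_10_1 lc_e_rc_19_3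 lc_e_rc_15_1 lc_e_rc_15_1 lc_e_rc_10_1 lc_e_rc_10_1 lc_e_rc_4_1 lc_e_rc_15_1 lc_e_rc_24_2 lc_e_rc_4_1 lc_e_rc_15_1 lc_e_rc_23_2 lc_e_rc_4_1 lc_e_rc_4_1 lc_e_rc_4_1 lc_e_rc_23_2) (@D3.rec (fun _ => (Cert rels S Gen.e)) lc_e_rc_24_2 lc_e_rc_10_1 lc_e_rc_10_1 lc_e_rc_4_1 lc_e_rc_15_1 lc_e_rc_24_2 lc_e_rc_4_1 lc_e_rc_15_1 lc_e_rc_23_2 lc_e_rc_4_1 lc_e_rc_4_1 lc_e_Cert_tree lc_e_rc_24_2 lc_e_rc_4_1 lc_e_rc_4_1 lc_e_Cert_tree lc_e_rc_23_2 lc_e_rc_10_1 lc_e_Cert_tree lc_e_rc_4_1 lc_e_rc_22_0 lc_e_rc_24_2 lc_e_rc_10_1 lc_e_rc_10_1 lc_e_Cert_tree lc_e_rc_4_1 lc_e_rc_22_0 lc_e_rc_23_2 lc_e_rc_10_1 lc_e_Cert_tree lc_e_Cert_tree lc_e_rc_22_0 lc_e_rc_24_2 lc_e_rc_10_1 lc_e_rc_4_1 lc_e_Cert_tree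 lc_e_Cert_tree lc_e_rc_22_0 lc_e_rc_23_2 lc_e_rc_10_1) (@D3.rec (fun _ => (Cert rels S Gen.e)) lc_e_rc_24_2 lc_e_rc_22_0 lc_e_rc_24_2 lc_e_rc_10_1 lc_e_rc_4_3 lc_e_rc_4_1 lc_e_rc_23_2 lc_e_rc_10_1 lc_e_rc_22_0 lc_e_rc_23_2 lc_e_rc_10_1 lc_e_rc_24_2 lc_e_rc_4_1 lc_e_rc_24_2 lc_e_rc_10_1 lc_e_Cert_tree lc_e_rc_22_0 lc_e_rc_24_2 lc_e_rc_22_0 lc_e_rc_19_3 lc_e_Cert_tree lc_e_rc_22_0 lc_e_rc_23_2 lc_e_rc_22_0 lc_e_rc_19_3 lc_e_rc_4_1 lc_e_rc_19_3 lc_e_rc_23_2 lc_e_rc_24_2 lc_e_rc_19_3 lc_e_rc_19_3 lc_e_rc_10_1 lc_e_rc_15_1 lc_e_rc_10_1 lc_e_rc_15_1 lc_e_rc_15_1 lc_e_rc_24_2 lc_e_rc_10_1 lc_e_rc_15_1 lc_e_rc_23_2) (@D3.rec (fun _ => (Cert rels S Gen.e)) lc_e_rc_10_1 lc_e_rc_4_1 lc_e_rc_4_1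 lc_e_rc_10_1 lc_e_rc_10_1 lc_e_rc_10_1 lc_e_rc_4_1 lc_e_rc_4_1 lc_e_rc_23_2 lc_e_rc_24_2 lc_e_rc_24_2 lc_e_rc_4_3 lc_e_rc_4_1 lc_e_rc_10_1 lc_e_rc_24_2 lc_e_rc_10_1 lc_e_rc_4_1 lc_e_rc_10_1 lc_e_rc_23_2 lc_e_rc_10_1 lc_e_Cert_tree lc_e_rc_24_2 lc_e_rc_23_2 lc_e_rc_4_1 lc_e_rc_15_1 lc_e_Cert_tree lc_e_rc_23_2 lc_e_rc_23_2 lc_e_rc_4_1 lc_e_rc_15_1 lc_e_rc_24_2 lc_e_rc_10_1 lc_e_rc_4_1 lc_e_Cert_tree lc_e_rc_23_2 lc_e_rc_10_1 lc_e_rc_4_1 lc_e_Cert_tree lc_e_Cert_tree lc_e_rc_4_1) (@D3.rec (fun _ => (Cert rels S Gen.e)) lc_e_rc_15_1 lc_e_rc_10_1 lc_e_Cert_tree lc_e_rc_22_0 lc_e_Cert_tree lc_e_rc_4_1 lc_e_rc_15_1 lc_e_rc_10_1 lc_e_Cert_tree lc_e_rc_22_0 lc_e_rc_10_1 lc_e_rc_4_1 lc_e_rc_15_1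 lc_e_rc_23_2 lc_e_rc_10_1 lc_e_rc_10_1 lc_e_rc_4_1 lc_e_rc_15_1 lc_e_rc_24_2 lc_e_rc_10_1 lc_e_rc_10_1 lc_e_rc_4_1 lc_e_rc_24_2 lc_e_rc_10_1 lc_e_rc_4_1 lc_e_rc_23_2 lc_e_rc_32_51 lc_e_rc_22_0 lc_e_rc_19_3 lc_e_rc_15_1 lc_e_rc_15_1 lc_e_rc_23_2 lc_e_rc_24_2 lc_e_rc_10_1 lc_e_rc_15_1 lc_e_rc_15_1 lc_e_rc_19_3 lc_e_rc_23_2 lc_e_rc_24_2 lc_e_rc_10_1) (@D3.rec (fun _ => (Cert rels S Gen.e)) lc_e_rc_10_1 lc_e_rc_15_1 lc_e_rc_23_2 lc_e_rc_24_2 lc_e_rc_10_1 lc_e_rc_10_1 lc_e_rc_15_1 lc_e_rc_23_2 lc_e_rc_24_2 lc_e_rc_10_1 lc_e_rc_24_2 lc_e_rc_10_1 lc_e_rc_24_0 lc_e_rc_24_2 lc_e_rc_10_1 lc_e_rc_23_2 lc_e_rc_10_1 lc_e_rc_10_1 lc_e_Cert_tree lc_e_rc_15_1 lc_e_rc_15_1 lc_e_rc_10_1 lc_e_rc_24_2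 lc_e_rc_10_1 lc_e_rc_4_3 lc_e_rc_4_1 lc_e_rc_15_1 lc_e_rc_24_2 lc_e_rc_10_1 lc_e_rc_4_1 lc_e_rc_15_1 lc_e_rc_23_2 lc_e_rc_10_1 lc_e_rc_4_1 lc_e_Cert_tree lc_e_rc_24_2 lc_e_rc_15_1 lc_e_rc_4_1 lc_e_Cert_tree lc_e_rc_23_2) (@D3.rec (fun _ => (Cert rels S Gen.e)) lc_e_rc_15_1 lc_e_rc_10_1 lc_e_rc_19_3 lc_e_rc_15_1 lc_e_rc_15_1 lc_e_rc_10_1 lc_e_rc_24_2 lc_e_rc_10_1 lc_e_rc_4_1 lc_e_rc_4_1 lc_e_rc_15_1 lc_e_rc_24_2 lc_e_rc_10_1 lc_e_rc_4_1 lc_e_rc_15_1 lc_e_rc_23_2 lc_e_rc_10_1 lc_e_rc_10_1 lc_e_rc_24_2 lc_e_rc_24_2 lc_e_rc_4_1 lc_e_rc_15_1 lc_e_rc_10_1 lc_e_rc_23_2 lc_e_rc_23_2 lc_e_rc_4_1 lc_e_rc_15_1 lc_e_rc_4_1 lc_e_rc_23_2 lc_e_rc_24_2 lc_e_rc_10_1 lc_e_rc_15_1 lc_e_rc_10_1 lc_e_rc_15_1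 lc_e_rc_4_1 lc_e_rc_15_1 lc_e_rc_24_2 lc_e_rc_10_1 lc_e_rc_4_1 lc_e_rc_15_1) (@D3.rec (fun _ => (Cert rels S Gen.e)) lc_e_rc_23_2 lc_e_rc_10_1 lc_e_rc_10_1 lc_e_rc_4_1 lc_e_Cert_tree lc_e_rc_24_2 lc_e_rc_24_2 lc_e_rc_4_1 lc_e_rc_4_1 lc_e_rc_15_1 lc_e_rc_10_1 lc_e_rc_4_1 lc_e_Cert_tree lc_e_rc_23_2 lc_e_rc_23_2 lc_e_rc_24_2 lc_e_rc_4_1 lc_e_rc_15_1 lc_e_Cert_tree lc_e_rc_22_0 lc_e_rc_24_2 lc_e_rc_10_1 lc_e_rc_4_3 lc_e_rc_4_1 lc_e_rc_24_2 lc_e_rc_4_1 lc_e_Cert_tree lc_e_Cert_tree lc_e_rc_22_0 lc_e_rc_23_2 lc_e_rc_10_1 lc_e_rc_24_2 lc_e_rc_4_1 lc_e_rc_23_2 lc_e_rc_4_1 lc_e_Cert_tree lc_e_Cert_tree lc_e_rc_22_0 lc_e_rc_24_2 lc_e_rc_10_1) (@D3.rec (fun _ => (Cert rels S Gen.e)) lc_e_Cert_tree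 lc_e_Cert_tree lc_e_rc_22_0 lc_e_rc_23_2 lc_e_rc_10_1 lc_e_Cert_tree lc_e_rc_24_2 lc_e_rc_10_1 lc_e_rc_4_1 lc_e_rc_23_2 lc_e_rc_22_0 lc_e_rc_23_2 lc_e_rc_10_1 lc_e_rc_4_1 lc_e_rc_24_2 lc_e_rc_22_0 lc_e_rc_4_1 lc_e_rc_22_0 lc_e_rc_19_3 lc_e_rc_15_1 lc_e_rc_15_1 lc_e_rc_23_2 lc_e_rc_24_2 lc_e_rc_10_1 lc_e_Cert_tree lc_e_rc_15_1 lc_e_rc_15_1 lc_e_rc_10_1 lc_e_Cert_tree lc_e_rc_15_1 lc_e_rc_15_1 lc_e_rc_10_1 lc_e_rc_24_2 lc_e_rc_10_1 lc_e_rc_4_1 lc_e_rc_10_1 lc_e_rc_10_1 lc_e_rc_4_1 lc_e_rc_15_1 lc_e_rc_4_1) (@D3.rec (fun _ => (Cert rels S Gen.e)) lc_e_rc_15_1 lc_e_rc_4_1 lc_e_rc_19_3 lc_e_rc_23_2 lc_e_rc_24_2 lc_e_rc_19_5 lc_e_rc_22_0 lc_e_rc_23_2 lc_e_rc_24_2 lc_e_rc_10_1 lc_e_rc_15_1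 lc_e_rc_10_1 lc_e_rc_15_1 lc_e_rc_15_1 lc_e_rc_10_1 lc_e_rc_15_1 lc_e_rc_10_1 lc_e_Cert_tree lc_e_rc_4_1 lc_e_rc_15_1 lc_e_Cert_tree lc_e_rc_4_1 lc_e_rc_15_1 lc_e_rc_22_0 lc_e_rc_22_0 lc_e_rc_4_1 lc_e_rc_19_3 lc_e_rc_23_2 lc_e_rc_24_2 lc_e_rc_19_3 lc_e_rc_19_3 lc_e_rc_10_1 lc_e_rc_10_1 lc_e_rc_4_1 lc_e_rc_15_1 lc_e_rc_24_2 lc_e_rc_4_1 lc_e_rc_15_1 lc_e_rc_23_2 lc_e_rc_4_1) (@D3.rec (fun _ => (Cert rels S Gen.e)) lc_e_rc_23_0 lc_e_rc_4_1 lc_e_rc_23_2 lc_e_rc_10_1 lc_e_rc_4_1 lc_e_rc_4_1 lc_e_rc_23_2 lc_e_rc_24_2 lc_e_rc_24_2 lc_e_rc_4_3 lc_e_rc_4_1 lc_e_rc_10_1 lc_e_rc_24_2 lc_e_rc_4_1 lc_e_rc_10_1 lc_e_rc_23_2 lc_e_rc_4_1 lc_e_rc_4_1 lc_e_Cert_tree lc_e_rc_24_2 lc_e_rc_4_1 lc_e_rc_4_1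 lc_e_Cert_tree lc_e_rc_23_2 lc_e_rc_10_1 lc_e_Cert_tree lc_e_rc_4_1 lc_e_Cert_tree lc_e_rc_22_0 lc_e_rc_24_2 lc_e_rc_10_1 lc_e_rc_10_1 lc_e_Cert_tree lc_e_rc_4_1 lc_e_Cert_tree lc_e_rc_22_0 lc_e_rc_23_2 lc_e_rc_10_1 lc_e_rc_22_0 lc_e_rc_24_2)
def ce_e_1 : D2 → D3 → (Cert rels S Gen.e) := @D2.rec (fun _ => D3 → (Cert rels S Gen.e)) (@D3.rec (fun _ => (Cert rels S Gen.e)) lc_e_rc_10_1 lc_e_rc_4_1 lc_e_rc_22_0 lc_e_rc_23_2 lc_e_rc_10_1 lc_e_rc_4_1 lc_e_Cert_tree lc_e_rc_22_0 lc_e_Cert_tree lc_e_rc_22_0 lc_e_rc_24_2 lc_e_rc_24_2 lc_e_rc_10_1 lc_e_rc_4_3 lc_e_rc_4_1 lc_e_rc_23_2 lc_e_rc_10_1 lc_e_Cert_tree lc_e_rc_22_0 lc_e_Cert_tree lc_e_rc_22_0 lc_e_rc_23_2 lc_e_rc_23_2 lc_e_rc_10_1 lc_e_rc_24_2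 lc_e_rc_4_1 lc_e_rc_24_2 lc_e_rc_10_1 lc_e_rc_10_1 lc_e_rc_4_1 lc_e_rc_4_1 lc_e_rc_15_1 lc_e_rc_10_1 lc_e_rc_10_1 lc_e_rc_24_2 lc_e_rc_10_1 lc_e_rc_22_0 lc_e_rc_19_3 lc_e_rc_24_2 lc_e_rc_19_3) (@D3.rec (fun _ => (Cert rels S Gen.e)) lc_e_rc_15_1 lc_e_rc_22_0 lc_e_rc_19_3 lc_e_rc_23_2 lc_e_rc_19_3 lc_e_rc_15_1 lc_e_rc_10_1 lc_e_rc_4_1 lc_e_rc_4_1 lc_e_rc_4_1 lc_e_rc_15_1 lc_e_rc_23_2 lc_e_rc_24_2 lc_e_rc_23_2 lc_e_rc_24_2 lc_e_rc_24_2 lc_e_rc_4_1 lc_e_rc_19_3 lc_e_rc_19_3 lc_e_rc_19_3 lc_e_rc_19_3 lc_e_rc_4_1 lc_e_rc_10_1 lc_e_rc_24_2 lc_e_rc_10_1 lc_e_rc_4_1 lc_e_rc_10_1 lc_e_rc_23_2 lc_e_rc_10_1 lc_e_Cert_tree lc_e_rc_24_2 lc_e_rc_4_1 lc_e_rc_15_1 lc_e_Cert_tree lc_e_rc_23_2 lc_e_rc_4_1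 lc_e_rc_15_1 lc_e_rc_10_1 lc_e_rc_10_1 lc_e_rc_4_1) (@D3.rec (fun _ => (Cert rels S Gen.e)) lc_e_rc_15_1 lc_e_rc_4_1 lc_e_rc_15_1 lc_e_rc_4_1 lc_e_rc_15_1 lc_e_rc_23_2 lc_e_rc_24_2 lc_e_rc_10_1 lc_e_rc_10_1 lc_e_rc_4_1 lc_e_rc_23_2 lc_e_rc_24_2 lc_e_rc_10_1 lc_e_rc_4_1 lc_e_rc_24_2 lc_e_rc_4_3 lc_e_rc_10_1 lc_e_rc_10_1 lc_e_rc_4_1 lc_e_rc_4_1 lc_e_Cert_tree lc_e_rc_24_2 lc_e_rc_24_2 lc_e_rc_4_3 lc_e_rc_4_1 lc_e_rc_10_1 lc_e_rc_23_2 lc_e_rc_10_1 lc_e_rc_4_1 lc_e_rc_4_1 lc_e_Cert_tree lc_e_rc_23_2 lc_e_rc_23_2 lc_e_rc_24_2 lc_e_rc_4_1 lc_e_rc_10_1 lc_e_rc_24_2 lc_e_rc_22_0 lc_e_rc_24_2 lc_e_rc_10_1) (@D3.rec (fun _ => (Cert rels S Gen.e)) lc_e_rc_4_3 lc_e_rc_10_1 lc_e_rc_4_1 lc_e_Cert_tree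 lc_e_rc_22_0 lc_e_rc_23_2 lc_e_rc_10_1 lc_e_rc_4_3 lc_e_rc_10_1 lc_e_rc_4_1 lc_e_Cert_tree lc_e_Cert_tree lc_e_rc_4_1 lc_e_rc_15_1 lc_e_rc_10_1 lc_e_Cert_tree lc_e_Cert_tree lc_e_rc_22_0 lc_e_Cert_tree lc_e_rc_4_1 lc_e_rc_15_1 lc_e_rc_10_1 lc_e_Cert_tree lc_e_Cert_tree lc_e_rc_22_0 lc_e_rc_22_0 lc_e_rc_4_1 lc_e_rc_15_1 lc_e_Cert_tree lc_e_rc_4_1 lc_e_rc_24_2 lc_e_rc_22_0 lc_e_rc_22_0 lc_e_rc_4_1 lc_e_rc_15_1 lc_e_Cert_tree lc_e_rc_4_1 lc_e_rc_23_2 lc_e_rc_22_0 lc_e_rc_15_1) (@D3.rec (fun _ => (Cert rels S Gen.e)) lc_e_rc_23_2 lc_e_rc_10_1 lc_e_rc_15_3 lc_e_rc_23_2 lc_e_rc_23_2 lc_e_rc_4_1 lc_e_rc_24_2 lc_e_rc_15_1 lc_e_rc_24_2 lc_e_rc_10_1 lc_e_rc_15_3 lc_e_rc_24_2 lc_e_rc_23_0 lc_e_rc_4_1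 lc_e_rc_23_2 lc_e_rc_10_1 lc_e_rc_10_1 lc_e_rc_15_1 lc_e_rc_10_1 lc_e_rc_19_1 lc_e_rc_10_1 lc_e_rc_19_3 lc_e_rc_15_1 lc_e_rc_15_1 lc_e_rc_4_1 lc_e_rc_23_2 lc_e_rc_24_2 lc_e_rc_10_1 lc_e_rc_10_1 lc_e_rc_15_1 lc_e_rc_23_2 lc_e_rc_24_2 lc_e_rc_10_1 lc_e_rc_10_1 lc_e_rc_10_1 lc_e_rc_15_1 lc_e_rc_15_1 lc_e_rc_10_1 lc_e_rc_10_1 lc_e_rc_10_1) (@D3.rec (fun _ => (Cert rels S Gen.e)) lc_e_rc_15_3 lc_e_rc_15_1 lc_e_rc_15_1 lc_e_rc_10_1 lc_e_rc_24_2 lc_e_rc_10_1 lc_e_rc_4_1 lc_e_rc_24_2 lc_e_rc_10_1 lc_e_rc_23_2 lc_e_rc_10_1 lc_e_rc_4_1 lc_e_Cert_tree lc_e_rc_23_2 lc_e_rc_24_2 lc_e_rc_22_0 lc_e_rc_23_2 lc_e_rc_24_2 lc_e_rc_10_1 lc_e_rc_15_1 lc_e_rc_10_1 lc_e_rc_15_1 lc_e_rc_19_3 lc_e_rc_15_1 lc_e_rc_24_2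 lc_e_rc_10_1 lc_e_rc_4_1 lc_e_rc_15_1 lc_e_rc_23_2 lc_e_rc_10_1 lc_e_rc_4_1 lc_e_Cert_tree lc_e_rc_24_2 lc_e_rc_15_1 lc_e_rc_4_1 lc_e_Cert_tree lc_e_rc_23_2 lc_e_rc_15_1 lc_e_rc_10_1 lc_e_Cert_tree) (@D3.rec (fun _ => (Cert rels S Gen.e)) lc_e_rc_22_0 lc_e_Cert_tree lc_e_rc_10_1 lc_e_Cert_tree lc_e_rc_22_0 lc_e_Cert_tree lc_e_rc_4_1 lc_e_rc_19_3 lc_e_rc_23_2 lc_e_rc_24_2 lc_e_rc_19_3 lc_e_rc_19_3 lc_e_rc_10_1 lc_e_rc_15_1 lc_e_rc_10_1 lc_e_rc_15_1 lc_e_rc_4_1 lc_e_rc_15_1 lc_e_rc_24_2 lc_e_rc_10_1 lc_e_rc_4_1 lc_e_rc_15_1 lc_e_rc_23_2 lc_e_rc_10_1 lc_e_rc_10_1 lc_e_rc_19_3 lc_e_rc_24_2 lc_e_rc_24_2 lc_e_rc_4_1 lc_e_rc_15_1 lc_e_rc_10_1 lc_e_rc_4_1 lc_e_rc_23_2 lc_e_rc_23_2 lc_e_rc_4_1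 lc_e_rc_15_1 lc_e_rc_4_1 lc_e_rc_24_2 lc_e_rc_4_1 lc_e_rc_4_1) (@D3.rec (fun _ => (Cert rels S Gen.e)) lc_e_rc_23_2 lc_e_rc_4_1 lc_e_rc_10_1 lc_e_rc_4_1 lc_e_rc_4_1 lc_e_rc_23_2 lc_e_rc_24_2 lc_e_rc_24_2 lc_e_rc_4_3 lc_e_rc_4_1 lc_e_rc_10_1 lc_e_rc_24_2 lc_e_rc_10_1 lc_e_rc_4_1 lc_e_rc_10_1 lc_e_rc_23_2 lc_e_rc_10_1 lc_e_rc_10_1 lc_e_rc_4_1 lc_e_Cert_tree lc_e_rc_24_2 lc_e_rc_24_2 lc_e_rc_4_3 lc_e_rc_4_1 lc_e_rc_15_1 lc_e_rc_10_1 lc_e_rc_4_1 lc_e_Cert_tree lc_e_rc_23_2 lc_e_rc_23_2 lc_e_rc_24_2 lc_e_rc_4_1 lc_e_rc_15_1 lc_e_Cert_tree lc_e_Cert_tree lc_e_rc_22_0 lc_e_rc_24_2 lc_e_rc_10_1 lc_e_rc_4_1 lc_e_rc_4_1) (@D3.rec (fun _ => (Cert rels S Gen.e)) lc_e_rc_24_2 lc_e_rc_4_1 lc_e_Cert_tree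 lc_e_Cert_tree lc_e_Cert_tree lc_e_rc_22_0 lc_e_rc_23_2 lc_e_rc_10_1 lc_e_rc_24_2 lc_e_rc_4_1 lc_e_rc_23_2 lc_e_rc_4_1 lc_e_Cert_tree lc_e_rc_22_0 lc_e_rc_24_2 lc_e_rc_10_1 lc_e_rc_4_3 lc_e_rc_4_1 lc_e_rc_22_0 lc_e_rc_22_0 lc_e_rc_23_2 lc_e_rc_4_3 lc_e_rc_10_1 lc_e_rc_4_1 lc_e_rc_22_0 lc_e_Cert_tree lc_e_rc_22_0 lc_e_rc_24_2 lc_e_rc_24_2 lc_e_rc_10_1 lc_e_rc_4_1 lc_e_rc_23_2 lc_e_Cert_tree lc_e_rc_22_0 lc_e_Cert_tree lc_e_rc_22_0 lc_e_rc_23_2 lc_e_rc_23_2 lc_e_rc_10_1 lc_e_rc_4_1) (@D3.rec (fun _ => (Cert rels S Gen.e)) lc_e_rc_24_2 lc_e_Cert_tree lc_e_rc_22_0 lc_e_rc_10_1 lc_e_rc_10_1 lc_e_rc_15_1 lc_e_rc_10_1 lc_e_rc_19_1 lc_e_rc_10_1 lc_e_Cert_tree lc_e_rc_15_1 lc_e_rc_15_1 lc_e_rc_4_1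 lc_e_Cert_tree lc_e_rc_23_2 lc_e_rc_24_2 lc_e_rc_22_0 lc_e_rc_23_2 lc_e_rc_24_2 lc_e_rc_10_1 lc_e_rc_10_1 lc_e_rc_4_1 lc_e_rc_23_2 lc_e_rc_24_2 lc_e_rc_22_0 lc_e_rc_23_2 lc_e_rc_24_2 lc_e_rc_10_1 lc_e_rc_15_1 lc_e_rc_10_1 lc_e_rc_15_1 lc_e_rc_15_1 lc_e_rc_10_1 lc_e_rc_15_1 lc_e_rc_10_1 lc_e_rc_4_1 lc_e_rc_15_1 lc_e_rc_4_1 lc_e_rc_15_1 lc_e_rc_4_1) (@D3.rec (fun _ => (Cert rels S Gen.e)) lc_e_rc_4_1 lc_e_rc_19_1 lc_e_rc_4_1 lc_e_rc_4_1 lc_e_rc_23_2 lc_e_rc_24_2 lc_e_rc_23_2 lc_e_rc_24_2 lc_e_rc_24_2 lc_e_rc_4_3 lc_e_rc_19_1 lc_e_rc_23_2 lc_e_rc_24_2 lc_e_rc_23_2 lc_e_rc_24_2 lc_e_rc_10_1 lc_e_rc_24_2 lc_e_rc_10_1 lc_e_rc_4_3 lc_e_rc_4_1 lc_e_rc_10_1 lc_e_rc_24_2 lc_e_rc_10_1 lc_e_rc_4_1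 lc_e_rc_10_1 lc_e_rc_23_2 lc_e_rc_10_1 lc_e_Cert_tree lc_e_rc_4_1 lc_e_rc_15_1 lc_e_Cert_tree lc_e_rc_4_1 lc_e_rc_15_1 lc_e_Cert_tree lc_e_rc_22_0 lc_e_rc_4_1 lc_e_Cert_tree lc_e_rc_22_0 lc_e_rc_4_1 lc_e_rc_10_1) (@D3.rec (fun _ => (Cert rels S Gen.e)) lc_e_rc_4_1 lc_e_rc_4_1 lc_e_rc_4_1 lc_e_rc_15_1 lc_e_rc_23_2 lc_e_rc_24_2 lc_e_rc_23_2 lc_e_rc_24_2 lc_e_rc_24_2 lc_e_rc_4_1 lc_e_rc_19_3 lc_e_rc_19_3 lc_e_rc_4_1 lc_e_rc_10_1 lc_e_rc_24_2 lc_e_rc_4_1 lc_e_rc_10_1 lc_e_rc_23_2 lc_e_rc_4_1 lc_e_rc_4_1 lc_e_Cert_tree lc_e_rc_24_2 lc_e_rc_4_1 lc_e_rc_4_1 lc_e_Cert_tree lc_e_rc_23_2 lc_e_rc_4_1 lc_e_rc_4_1 lc_e_rc_4_1 lc_e_rc_15_1 lc_e_rc_23_2 lc_e_rc_24_2 lc_e_rc_10_1 lc_e_rc_10_1 lc_e_rc_4_1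 lc_e_rc_23_2 lc_e_rc_24_2 lc_e_rc_10_1 lc_e_rc_4_1 lc_e_rc_24_2) (@D3.rec (fun _ => (Cert rels S Gen.e)) lc_e_rc_4_3 lc_e_rc_10_1 lc_e_rc_10_1 lc_e_rc_4_1 lc_e_rc_4_1 lc_e_Cert_tree lc_e_rc_24_2 lc_e_rc_4_3 lc_e_rc_10_1 lc_e_rc_4_1 lc_e_rc_4_1 lc_e_Cert_tree lc_e_rc_23_2 lc_e_rc_24_2 lc_e_rc_10_1 lc_e_Cert_tree lc_e_rc_4_1 lc_e_Cert_tree lc_e_rc_22_0 lc_e_rc_24_2 lc_e_rc_10_1 lc_e_rc_10_1 lc_e_Cert_tree lc_e_rc_4_1 lc_e_Cert_tree lc_e_rc_22_0 lc_e_rc_23_2 lc_e_rc_10_1 lc_e_rc_32_51 lc_e_Cert_tree lc_e_rc_22_0 lc_e_rc_23_2 lc_e_Cert_tree lc_e_Cert_tree lc_e_rc_22_0 lc_e_rc_24_2 lc_e_rc_24_2 lc_e_rc_10_1 lc_e_rc_4_1 lc_e_rc_10_3) (@D3.rec (fun _ => (Cert rels S Gen.e)) lc_e_Cert_tree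 lc_e_rc_22_0 lc_e_rc_23_2 lc_e_Cert_tree lc_e_Cert_tree lc_e_rc_22_0 lc_e_rc_23_2 lc_e_rc_23_2 lc_e_rc_10_1 lc_e_rc_4_1 lc_e_rc_10_1 lc_e_rc_10_1 lc_e_Cert_tree lc_e_rc_22_0 lc_e_Cert_tree lc_e_rc_22_0 lc_e_rc_23_2 lc_e_rc_24_2 lc_e_rc_19_3 lc_e_rc_24_2 lc_e_rc_10_1 lc_e_rc_23_2 lc_e_rc_10_1 lc_e_rc_4_1 lc_e_rc_4_1 lc_e_rc_15_1 lc_e_rc_10_1 lc_e_rc_23_0 lc_e_rc_10_1 lc_e_Cert_tree lc_e_rc_22_0 lc_e_Cert_tree lc_e_rc_22_0 lc_e_rc_23_2 lc_e_rc_24_2 lc_e_rc_19_3 lc_e_rc_23_2 lc_e_rc_10_1 lc_e_rc_24_2 lc_e_rc_10_1) (@D3.rec (fun _ => (Cert rels S Gen.e)) lc_e_rc_24_2 lc_e_rc_4_1 lc_e_rc_15_1 lc_e_rc_10_1 lc_e_rc_23_2 lc_e_rc_10_1 lc_e_rc_4_1 lc_e_rc_15_1 lc_e_rc_19_3 lc_e_rc_15_1 lc_e_rc_32_77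 lc_e_rc_15_1 lc_e_rc_10_1 lc_e_rc_19_3 lc_e_rc_15_1 lc_e_rc_10_1 lc_e_rc_15_1 lc_e_rc_10_1 lc_e_rc_4_1 lc_e_rc_15_1 lc_e_rc_10_1 lc_e_rc_23_2 lc_e_rc_24_2 lc_e_rc_15_1 lc_e_rc_4_1 lc_e_rc_4_1 lc_e_rc_10_1 lc_e_rc_10_1 lc_e_rc_19_1 lc_e_rc_15_1 lc_e_rc_15_1 lc_e_rc_23_2 lc_e_rc_24_2 lc_e_rc_24_2 lc_e_rc_4_3 lc_e_rc_4_1 lc_e_rc_23_2 lc_e_rc_24_2 lc_e_rc_10_1 lc_e_rc_4_1) (@D3.rec (fun _ => (Cert rels S Gen.e)) lc_e_rc_24_2 lc_e_rc_4_1 lc_e_rc_10_1 lc_e_rc_4_1 lc_e_rc_15_1 lc_e_rc_24_2 lc_e_rc_19_3 lc_e_rc_4_1 lc_e_rc_15_1 lc_e_rc_23_2 lc_e_rc_19_3 lc_e_rc_10_1 lc_e_rc_4_1 lc_e_rc_4_1 lc_e_Cert_tree lc_e_rc_24_2 lc_e_rc_24_2 lc_e_rc_4_1 lc_e_rc_4_1 lc_e_rc_10_1 lc_e_rc_23_2 lc_e_rc_10_1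 lc_e_rc_4_1 lc_e_rc_4_1 lc_e_Cert_tree lc_e_rc_23_2 lc_e_rc_23_2 lc_e_rc_24_2 lc_e_rc_4_1 lc_e_rc_10_1 lc_e_rc_24_2 lc_e_Cert_tree lc_e_rc_22_0 lc_e_rc_10_1 lc_e_rc_10_1 lc_e_rc_4_1 lc_e_Cert_tree lc_e_Cert_tree lc_e_rc_22_0 lc_e_rc_10_1) (@D3.rec (fun _ => (Cert rels S Gen.e)) lc_e_rc_10_1 lc_e_rc_4_1 lc_e_Cert_tree lc_e_rc_4_1 lc_e_rc_15_1 lc_e_rc_4_1 lc_e_rc_15_1 lc_e_rc_4_1 lc_e_rc_4_1 lc_e_rc_4_1 lc_e_rc_4_1 lc_e_rc_4_1 lc_e_Cert_tree lc_e_rc_23_2 lc_e_rc_24_2 lc_e_rc_23_2 lc_e_rc_24_2 lc_e_rc_24_2 lc_e_rc_4_3 lc_e_rc_4_1 lc_e_rc_15_1 lc_e_rc_24_2 lc_e_rc_4_1 lc_e_rc_15_1 lc_e_rc_23_2 lc_e_rc_10_1 lc_e_rc_4_1 lc_e_Cert_tree lc_e_rc_24_2 lc_e_rc_10_1 lc_e_rc_4_1 lc_e_rc_15_1 lc_e_rc_23_2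 lc_e_rc_10_1 lc_e_rc_4_1 lc_e_Cert_tree lc_e_rc_4_3 lc_e_rc_10_1 lc_e_rc_4_1 lc_e_rc_15_1) (@D3.rec (fun _ => (Cert rels S Gen.e)) lc_e_rc_24_2 lc_e_rc_4_1 lc_e_rc_15_1 lc_e_rc_23_2 lc_e_rc_24_2 lc_e_rc_10_1 lc_e_Cert_tree lc_e_rc_4_1 lc_e_rc_10_1 lc_e_Cert_tree lc_e_rc_22_0 lc_e_rc_24_2 lc_e_rc_24_2 lc_e_rc_4_3 lc_e_rc_4_1 lc_e_rc_24_2 lc_e_rc_4_3 lc_e_rc_10_1 lc_e_rc_10_1 lc_e_rc_4_1 lc_e_rc_4_1 lc_e_Cert_tree lc_e_rc_23_2 lc_e_rc_24_2 lc_e_rc_4_1 lc_e_rc_15_1 lc_e_rc_23_2 lc_e_rc_24_2 lc_e_rc_10_1 lc_e_Cert_tree lc_e_rc_4_1 lc_e_rc_10_1 lc_e_Cert_tree lc_e_rc_22_0 lc_e_rc_23_2 lc_e_rc_23_2 lc_e_rc_24_2 lc_e_rc_4_1 lc_e_rc_23_2 lc_e_rc_24_2) (@D3.rec (fun _ => (Cert rels S Gen.e))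 lc_e_rc_10_1 lc_e_rc_10_1 lc_e_rc_4_1 lc_e_rc_4_1 lc_e_Cert_tree lc_e_rc_24_2 lc_e_rc_4_3 lc_e_rc_24_2 lc_e_rc_10_1 lc_e_rc_4_1 lc_e_rc_10_1 lc_e_rc_23_2 lc_e_Cert_tree lc_e_rc_4_1 lc_e_rc_15_1 lc_e_rc_10_1 lc_e_Cert_tree lc_e_Cert_tree lc_e_rc_22_0 lc_e_rc_23_2 lc_e_rc_10_1 lc_e_rc_4_1 lc_e_rc_10_1 lc_e_rc_24_2 lc_e_Cert_tree lc_e_rc_4_1 lc_e_rc_15_1 lc_e_rc_10_1 lc_e_Cert_tree lc_e_Cert_tree lc_e_rc_22_0 lc_e_Cert_tree lc_e_rc_22_0 lc_e_rc_4_1 lc_e_rc_15_1 lc_e_Cert_tree lc_e_rc_4_1 lc_e_rc_10_3 lc_e_rc_24_2 lc_e_Cert_tree) (@D3.rec (fun _ => (Cert rels S Gen.e)) lc_e_rc_22_0 lc_e_Cert_tree lc_e_Cert_tree lc_e_rc_22_0 lc_e_Cert_tree lc_e_rc_22_0 lc_e_rc_4_1 lc_e_rc_15_1 lc_e_Cert_tree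 lc_e_rc_4_1 lc_e_rc_10_3 lc_e_rc_23_2 lc_e_Cert_tree lc_e_rc_22_0 lc_e_Cert_tree lc_e_Cert_tree lc_e_rc_22_0 lc_e_rc_22_0 lc_e_rc_22_0 lc_e_rc_15_1 lc_e_rc_23_2 lc_e_rc_23_0 lc_e_rc_4_1 lc_e_rc_23_2 lc_e_rc_24_2 lc_e_rc_10_1 lc_e_rc_24_2 lc_e_rc_23_2 lc_e_rc_24_2 lc_e_rc_10_1 lc_e_rc_15_1 lc_e_rc_24_2 lc_e_rc_23_0 lc_e_rc_15_3 lc_e_rc_24_2 lc_e_rc_4_1 lc_e_rc_24_0 lc_e_rc_10_3 lc_e_rc_24_2 lc_e_rc_19_3) (@D3.rec (fun _ => (Cert rels S Gen.e)) lc_e_rc_10_1 lc_e_rc_10_1 lc_e_rc_4_1 lc_e_rc_19_1 lc_e_rc_23_2 lc_e_rc_24_2 lc_e_rc_4_1 lc_e_rc_19_3 lc_e_rc_23_2 lc_e_rc_24_2 lc_e_rc_19_3 lc_e_rc_19_3 lc_e_rc_10_1 lc_e_rc_10_1 lc_e_rc_10_1 lc_e_rc_4_1 lc_e_rc_4_1 lc_e_rc_23_2 lc_e_rc_24_2 lc_e_rc_24_2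 lc_e_rc_4_3 lc_e_rc_4_1 lc_e_rc_24_2 lc_e_rc_4_1 lc_e_rc_23_2 lc_e_rc_10_1 lc_e_rc_15_1 lc_e_rc_15_1 lc_e_rc_10_1 lc_e_rc_10_1 lc_e_rc_4_1 lc_e_rc_23_2 lc_e_rc_24_2 lc_e_rc_10_1 lc_e_rc_10_1 lc_e_rc_15_1 lc_e_rc_15_1 lc_e_rc_4_1 lc_e_rc_10_1 lc_e_rc_23_2) (@D3.rec (fun _ => (Cert rels S Gen.e)) lc_e_rc_24_2 lc_e_rc_23_2 lc_e_rc_24_2 lc_e_rc_10_1 lc_e_rc_15_1 lc_e_rc_10_1 lc_e_rc_15_1 lc_e_rc_15_1 lc_e_rc_24_2 lc_e_rc_10_1 lc_e_rc_15_1 lc_e_rc_23_2 lc_e_rc_10_1 lc_e_rc_10_1 lc_e_Cert_tree lc_e_rc_4_1 lc_e_rc_4_1 lc_e_Cert_tree lc_e_rc_22_0 lc_e_rc_23_2 lc_e_rc_24_2 lc_e_rc_23_2 lc_e_rc_24_2 lc_e_rc_24_2 lc_e_rc_4_3 lc_e_rc_23_2 lc_e_rc_24_2 lc_e_rc_10_1 lc_e_rc_24_2 lc_e_rc_10_1 lc_e_rc_4_3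 lc_e_rc_4_1 lc_e_rc_10_1 lc_e_rc_24_2 lc_e_rc_10_1 lc_e_rc_4_1 lc_e_rc_10_1 lc_e_rc_23_2 lc_e_rc_10_1 lc_e_rc_4_1) (@D3.rec (fun _ => (Cert rels S Gen.e)) lc_e_Cert_tree lc_e_rc_24_2 lc_e_rc_15_1 lc_e_rc_15_1 lc_e_Cert_tree lc_e_rc_23_2 lc_e_rc_15_1 lc_e_rc_10_1 lc_e_Cert_tree lc_e_Cert_tree lc_e_rc_22_0 lc_e_rc_24_2 lc_e_Cert_tree lc_e_rc_10_1 lc_e_Cert_tree lc_e_Cert_tree lc_e_rc_22_0 lc_e_rc_4_3 lc_e_Cert_tree lc_e_rc_24_2 lc_e_rc_22_0 lc_e_rc_22_0 lc_e_rc_23_2 lc_e_rc_22_0 lc_e_rc_22_0 lc_e_rc_10_1 lc_e_rc_4_1 lc_e_rc_4_1 lc_e_rc_4_1 lc_e_rc_15_1 lc_e_rc_23_2 lc_e_rc_24_2 lc_e_rc_23_2 lc_e_rc_24_2 lc_e_rc_24_2 lc_e_rc_4_1 lc_e_rc_19_3 lc_e_rc_19_3 lc_e_rc_19_3 lc_e_rc_19_3) (@D3.rec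 (fun _ => (Cert rels S Gen.e)) lc_e_rc_4_1 lc_e_rc_10_1 lc_e_rc_24_2 lc_e_rc_10_1 lc_e_rc_4_1 lc_e_rc_10_1 lc_e_rc_23_2 lc_e_rc_10_1 lc_e_rc_10_1 lc_e_rc_4_1 lc_e_Cert_tree lc_e_rc_24_2 lc_e_rc_24_2 lc_e_rc_4_1 lc_e_rc_4_1 lc_e_rc_15_1 lc_e_rc_10_1 lc_e_rc_4_1 lc_e_Cert_tree lc_e_rc_23_2 lc_e_rc_23_2 lc_e_rc_24_2 lc_e_rc_4_1 lc_e_rc_15_1 lc_e_rc_4_1 lc_e_rc_4_1 lc_e_rc_24_2 lc_e_rc_4_1 lc_e_rc_19_3 lc_e_rc_15_1 lc_e_rc_4_1 lc_e_rc_23_2 lc_e_rc_4_1 lc_e_rc_19_3 lc_e_rc_4_1 lc_e_rc_4_1 lc_e_rc_4_1 lc_e_rc_23_2 lc_e_rc_24_2 lc_e_rc_10_1) (@D3.rec (fun _ => (Cert rels S Gen.e)) lc_e_rc_10_1 lc_e_rc_4_1 lc_e_rc_23_2 lc_e_rc_24_2 lc_e_rc_10_1 lc_e_rc_4_1 lc_e_rc_24_2 lc_e_rc_4_3 lc_e_rc_10_1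 lc_e_rc_10_1 lc_e_rc_4_1 lc_e_rc_4_1 lc_e_Cert_tree lc_e_rc_24_2 lc_e_rc_24_2 lc_e_rc_4_3 lc_e_rc_4_1 lc_e_rc_10_1 lc_e_rc_23_2 lc_e_rc_10_1 lc_e_rc_4_1 lc_e_rc_4_1 lc_e_Cert_tree lc_e_rc_23_2 lc_e_rc_23_2 lc_e_rc_24_2 lc_e_rc_4_1 lc_e_rc_10_1 lc_e_rc_24_2 lc_e_rc_15_1 lc_e_rc_10_1 lc_e_Cert_tree lc_e_Cert_tree lc_e_rc_22_0 lc_e_rc_24_2 lc_e_rc_10_1 lc_e_rc_4_3 lc_e_rc_4_1 lc_e_rc_24_2 lc_e_rc_4_1) (@D3.rec (fun _ => (Cert rels S Gen.e)) lc_e_Cert_tree lc_e_rc_15_1 lc_e_rc_10_1 lc_e_Cert_tree lc_e_Cert_tree lc_e_rc_22_0 lc_e_rc_23_2 lc_e_rc_10_1 lc_e_rc_24_2 lc_e_rc_4_1 lc_e_rc_23_2 lc_e_rc_4_1 lc_e_Cert_tree lc_e_Cert_tree lc_e_rc_22_0 lc_e_Cert_tree lc_e_Cert_tree lc_e_rc_22_0 lc_e_rc_24_2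 lc_e_rc_24_2 lc_e_rc_10_1 lc_e_rc_23_2 lc_e_rc_4_1 lc_e_rc_10_1 lc_e_rc_4_1 lc_e_rc_10_3 lc_e_rc_10_1 lc_e_Cert_tree lc_e_rc_22_0 lc_e_Cert_tree lc_e_rc_22_0 lc_e_Cert_tree lc_e_Cert_tree lc_e_rc_22_0 lc_e_rc_23_2 lc_e_rc_23_2 lc_e_rc_10_1 lc_e_rc_24_2 lc_e_rc_4_1 lc_e_rc_4_1)
def ce_e_2 : D2 → D3 → (Cert rels S Gen.e) := @D2.rec (fun _ => D3 → (Cert rels S Gen.e)) (@D3.rec (fun _ => (Cert rels S Gen.e)) lc_e_rc_10_1 lc_e_rc_23_2 lc_e_rc_4_3 lc_e_Cert_tree lc_e_rc_22_0 lc_e_Cert_tree lc_e_rc_22_0 lc_e_rc_23_2 lc_e_rc_24_2 lc_e_rc_15_1 lc_e_rc_24_2 lc_e_rc_10_1 lc_e_rc_10_1 lc_e_rc_23_2 lc_e_rc_15_1 lc_e_rc_23_2 lc_e_Cert_tree lc_e_rc_22_0 lc_e_Cert_tree lc_e_rc_22_0 lc_e_rc_23_2 lc_e_rc_24_2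 lc_e_rc_15_1 lc_e_rc_23_2 lc_e_rc_10_1 lc_e_rc_10_1 lc_e_rc_4_1 lc_e_rc_15_1 lc_e_rc_4_1 lc_e_Cert_tree lc_e_rc_22_0 lc_e_rc_10_1 lc_e_rc_4_1 lc_e_rc_19_1 lc_e_rc_23_2 lc_e_rc_24_2 lc_e_rc_4_1 lc_e_rc_15_1 lc_e_rc_23_2 lc_e_rc_24_2) (@D3.rec (fun _ => (Cert rels S Gen.e)) lc_e_rc_22_0 lc_e_rc_23_2 lc_e_rc_24_2 lc_e_rc_10_1 lc_e_rc_10_1 lc_e_rc_10_1 lc_e_rc_4_3 lc_e_rc_4_1 lc_e_rc_4_1 lc_e_Cert_tree lc_e_rc_22_0 lc_e_rc_23_2 lc_e_rc_24_2 lc_e_rc_23_2 lc_e_rc_24_2 lc_e_rc_24_2 lc_e_rc_4_3 lc_e_rc_23_2 lc_e_rc_24_2 lc_e_rc_10_1 lc_e_rc_10_1 lc_e_rc_4_1 lc_e_rc_24_2 lc_e_rc_4_1 lc_e_rc_23_2 lc_e_rc_4_1 lc_e_rc_4_1 lc_e_rc_23_2 lc_e_rc_24_2 lc_e_rc_24_2 lc_e_rc_4_1 lc_e_rc_23_2 lc_e_rc_24_2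 lc_e_rc_10_1 lc_e_rc_24_2 lc_e_rc_10_1 lc_e_rc_4_3 lc_e_rc_4_1 lc_e_rc_10_1 lc_e_rc_24_2) (@D3.rec (fun _ => (Cert rels S Gen.e)) lc_e_rc_10_1 lc_e_rc_4_1 lc_e_rc_10_1 lc_e_rc_23_2 lc_e_rc_10_1 lc_e_Cert_tree lc_e_rc_4_1 lc_e_rc_15_1 lc_e_Cert_tree lc_e_rc_4_1 lc_e_rc_15_1 lc_e_rc_4_1 lc_e_rc_19_3 lc_e_rc_4_1 lc_e_rc_19_3 lc_e_rc_23_2 lc_e_rc_24_2 lc_e_rc_10_1 lc_e_rc_10_1 lc_e_rc_23_2 lc_e_rc_24_2 lc_e_rc_24_2 lc_e_rc_24_2 lc_e_rc_4_1 lc_e_rc_23_2 lc_e_rc_24_2 lc_e_rc_10_1 lc_e_rc_4_1 lc_e_rc_24_2 lc_e_rc_4_3 lc_e_rc_10_1 lc_e_rc_23_2 lc_e_rc_24_2 lc_e_rc_10_1 lc_e_rc_10_1 lc_e_rc_10_1 lc_e_rc_24_2 lc_e_rc_10_1 lc_e_rc_4_1 lc_e_rc_4_1) (@D3.rec (fun _ => (Cert rels S Gen.e)) lc_e_rc_15_1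 lc_e_rc_24_2 lc_e_rc_10_1 lc_e_rc_4_1 lc_e_rc_15_1 lc_e_rc_23_2 lc_e_rc_10_1 lc_e_rc_10_1 lc_e_rc_4_1 lc_e_rc_4_1 lc_e_Cert_tree lc_e_rc_24_2 lc_e_rc_24_2 lc_e_rc_4_3 lc_e_rc_4_1 lc_e_rc_10_1 lc_e_rc_23_2 lc_e_rc_10_1 lc_e_rc_4_1 lc_e_rc_4_1 lc_e_Cert_tree lc_e_rc_23_2 lc_e_rc_23_2 lc_e_rc_24_2 lc_e_rc_4_1 lc_e_rc_10_1 lc_e_rc_24_2 lc_e_Cert_tree lc_e_rc_22_0 lc_e_rc_4_1 lc_e_Cert_tree lc_e_Cert_tree lc_e_rc_22_0 lc_e_rc_4_1 lc_e_Cert_tree lc_e_Cert_tree lc_e_Cert_tree lc_e_rc_22_0 lc_e_rc_15_1 lc_e_Cert_tree) (@D3.rec (fun _ => (Cert rels S Gen.e)) lc_e_Cert_tree lc_e_rc_22_0 lc_e_rc_15_1 lc_e_rc_4_1 lc_e_rc_10_1 lc_e_rc_23_2 lc_e_rc_24_2 lc_e_rc_15_1 lc_e_rc_4_1 lc_e_rc_4_1 lc_e_rc_10_1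 lc_e_rc_10_1 lc_e_rc_15_1 lc_e_rc_15_1 lc_e_rc_23_2 lc_e_rc_24_2 lc_e_rc_24_2 lc_e_rc_4_1 lc_e_rc_4_1 lc_e_rc_23_2 lc_e_rc_24_2 lc_e_rc_10_1 lc_e_rc_4_1 lc_e_rc_24_2 lc_e_rc_4_1 lc_e_rc_10_1 lc_e_rc_4_1 lc_e_rc_15_1 lc_e_rc_24_2 lc_e_rc_4_1 lc_e_rc_15_1 lc_e_rc_23_2 lc_e_rc_10_1 lc_e_rc_4_1 lc_e_rc_4_1 lc_e_Cert_tree lc_e_rc_24_2 lc_e_rc_4_1 lc_e_rc_10_1 lc_e_rc_4_1) (@D3.rec (fun _ => (Cert rels S Gen.e)) lc_e_rc_4_1 lc_e_Cert_tree lc_e_rc_23_2 lc_e_rc_24_2 lc_e_rc_10_1 lc_e_Cert_tree lc_e_rc_4_1 lc_e_rc_22_0 lc_e_rc_24_2 lc_e_rc_10_1 lc_e_rc_10_1 lc_e_Cert_tree lc_e_rc_4_1 lc_e_rc_22_0 lc_e_rc_23_2 lc_e_rc_10_1 lc_e_rc_10_1 lc_e_Cert_tree lc_e_rc_10_1 lc_e_Cert_tree lc_e_rc_4_1 lc_e_rc_4_1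 lc_e_rc_15_1 lc_e_rc_15_1 lc_e_rc_23_2 lc_e_rc_24_2 lc_e_rc_24_2 lc_e_rc_4_3 lc_e_rc_4_1 lc_e_rc_15_1 lc_e_rc_24_2 lc_e_rc_4_1 lc_e_rc_15_1 lc_e_rc_23_2 lc_e_rc_10_1 lc_e_rc_4_1 lc_e_Cert_tree lc_e_rc_24_2 lc_e_rc_10_1 lc_e_rc_4_1) (@D3.rec (fun _ => (Cert rels S Gen.e)) lc_e_rc_15_1 lc_e_rc_23_2 lc_e_rc_10_1 lc_e_rc_4_1 lc_e_Cert_tree lc_e_rc_4_3 lc_e_rc_10_1 lc_e_rc_4_1 lc_e_rc_15_1 lc_e_rc_24_2 lc_e_rc_4_1 lc_e_rc_23_2 lc_e_rc_24_2 lc_e_rc_10_1 lc_e_Cert_tree lc_e_rc_4_1 lc_e_rc_10_1 lc_e_Cert_tree lc_e_rc_22_0 lc_e_rc_24_2 lc_e_rc_24_2 lc_e_rc_4_3 lc_e_rc_10_1 lc_e_rc_4_1 lc_e_rc_23_2 lc_e_rc_24_2 lc_e_rc_10_1 lc_e_Cert_tree lc_e_rc_4_1 lc_e_rc_10_1 lc_e_Cert_tree lc_e_rc_22_0 lc_e_rc_23_2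 lc_e_rc_23_2 lc_e_rc_24_2 lc_e_rc_10_1 lc_e_rc_4_1 lc_e_Cert_tree lc_e_rc_23_2 lc_e_rc_24_2) (@D3.rec (fun _ => (Cert rels S Gen.e)) lc_e_rc_22_0 lc_e_rc_24_2 lc_e_rc_10_1 lc_e_Cert_tree lc_e_rc_22_0 lc_e_rc_24_2 lc_e_rc_24_2 lc_e_rc_10_1 lc_e_rc_4_1 lc_e_rc_23_2 lc_e_rc_4_1 lc_e_Cert_tree lc_e_rc_23_2 lc_e_rc_24_2 lc_e_rc_22_0 lc_e_rc_23_2 lc_e_rc_10_1 lc_e_Cert_tree lc_e_rc_22_0 lc_e_rc_23_2 lc_e_rc_23_2 lc_e_rc_10_1 lc_e_rc_4_1 lc_e_rc_24_2 lc_e_rc_24_2 lc_e_rc_4_1 lc_e_rc_22_0 lc_e_rc_19_5 lc_e_Cert_tree lc_e_Cert_tree lc_e_rc_22_0 lc_e_rc_23_2 lc_e_rc_24_2 lc_e_rc_22_0 lc_e_rc_24_2 lc_e_rc_19_3 lc_e_rc_24_2 lc_e_rc_10_1 lc_e_rc_10_1 lc_e_rc_4_1) (@D3.rec (fun _ => (Cert rels S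 Gen.e)) lc_e_rc_15_1 lc_e_rc_10_3 lc_e_rc_4_1 lc_e_rc_22_0 lc_e_rc_19_5 lc_e_Cert_tree lc_e_Cert_tree lc_e_rc_22_0 lc_e_rc_23_2 lc_e_rc_24_2 lc_e_rc_22_0 lc_e_rc_23_2 lc_e_rc_19_3 lc_e_rc_23_2 lc_e_rc_10_1 lc_e_rc_10_1 lc_e_rc_4_1 lc_e_rc_15_1 lc_e_rc_19_1 lc_e_rc_22_0 lc_e_rc_19_1 lc_e_rc_24_2 lc_e_rc_19_3 lc_e_Cert_tree lc_e_rc_22_0 lc_e_rc_4_3 lc_e_rc_24_2 lc_e_rc_4_1 lc_e_rc_23_2 lc_e_rc_24_2 lc_e_rc_24_2 lc_e_rc_10_1 lc_e_rc_4_3 lc_e_rc_15_1 lc_e_rc_24_2 lc_e_rc_10_1 lc_e_rc_23_2 lc_e_rc_4_1 lc_e_rc_15_1 lc_e_rc_23_2) (@D3.rec (fun _ => (Cert rels S Gen.e)) lc_e_rc_10_1 lc_e_rc_4_1 lc_e_rc_15_1 lc_e_rc_10_1 lc_e_rc_4_1 lc_e_Cert_tree lc_e_rc_15_1 lc_e_rc_19_1 lc_e_rc_4_3 lc_e_rc_22_0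 lc_e_rc_23_2 lc_e_rc_4_1 lc_e_rc_19_3 lc_e_Cert_tree lc_e_rc_22_0 lc_e_rc_23_2 lc_e_rc_10_1 lc_e_rc_10_1 lc_e_rc_23_2 lc_e_rc_24_2 lc_e_rc_10_1 lc_e_rc_23_2 lc_e_rc_23_2 lc_e_rc_15_1 lc_e_rc_23_2 lc_e_rc_10_1 lc_e_rc_24_2 lc_e_rc_4_1 lc_e_rc_15_1 lc_e_rc_24_2 lc_e_rc_10_1 lc_e_rc_4_1 lc_e_rc_15_1 lc_e_rc_4_1 lc_e_rc_4_1 lc_e_Cert_tree lc_e_rc_15_1 lc_e_rc_19_1 lc_e_rc_15_1 lc_e_rc_10_1) (@D3.rec (fun _ => (Cert rels S Gen.e)) lc_e_Cert_tree lc_e_rc_24_2 lc_e_rc_10_1 lc_e_rc_4_1 lc_e_rc_19_1 lc_e_rc_24_2 lc_e_rc_15_1 lc_e_rc_10_1 lc_e_Cert_tree lc_e_rc_10_3 lc_e_rc_10_1 lc_e_rc_4_1 lc_e_rc_23_2 lc_e_rc_4_3 lc_e_rc_4_1 lc_e_rc_4_1 lc_e_rc_4_1 lc_e_Cert_tree lc_e_rc_23_2 lc_e_rc_24_2 lc_e_rc_23_2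 lc_e_rc_24_2 lc_e_rc_23_2 lc_e_rc_24_2 lc_e_rc_24_2 lc_e_rc_4_1 lc_e_rc_10_1 lc_e_rc_19_1 lc_e_rc_15_1 lc_e_rc_15_1 lc_e_rc_10_1 lc_e_rc_10_1 lc_e_rc_4_1 lc_e_rc_15_1 lc_e_rc_24_2 lc_e_rc_4_1 lc_e_rc_15_1 lc_e_rc_23_2 lc_e_rc_23_2 lc_e_rc_24_2) (@D3.rec (fun _ => (Cert rels S Gen.e)) lc_e_rc_10_1 lc_e_rc_15_1 lc_e_rc_10_1 lc_e_rc_15_1 lc_e_rc_4_1 lc_e_rc_15_1 lc_e_rc_24_2 lc_e_rc_10_1 lc_e_rc_4_1 lc_e_rc_15_1 lc_e_rc_4_3 lc_e_rc_10_1 lc_e_rc_10_1 lc_e_rc_4_1 lc_e_Cert_tree lc_e_rc_24_2 lc_e_rc_10_1 lc_e_rc_4_1 lc_e_rc_15_1 lc_e_rc_23_2 lc_e_rc_10_1 lc_e_rc_4_1 lc_e_Cert_tree lc_e_rc_4_1 lc_e_rc_10_1 lc_e_rc_4_1 lc_e_rc_15_1 lc_e_rc_24_2 lc_e_rc_10_1 lc_e_rc_15_1 lc_e_rc_4_1 lc_e_Cert_tree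 lc_e_rc_15_1 lc_e_rc_24_2 lc_e_rc_4_3 lc_e_rc_4_1 lc_e_rc_15_1 lc_e_rc_23_2 lc_e_rc_10_1 lc_e_rc_15_1) (@D3.rec (fun _ => (Cert rels S Gen.e)) lc_e_rc_4_1 lc_e_Cert_tree lc_e_rc_15_1 lc_e_rc_23_2 lc_e_rc_24_2 lc_e_rc_4_1 lc_e_rc_15_1 lc_e_rc_24_2 lc_e_rc_4_1 lc_e_rc_15_1 lc_e_rc_23_2 lc_e_rc_24_2 lc_e_rc_10_1 lc_e_Cert_tree lc_e_rc_4_1 lc_e_rc_10_1 lc_e_Cert_tree lc_e_rc_22_0 lc_e_rc_24_2 lc_e_rc_24_2 lc_e_rc_4_1 lc_e_rc_4_1 lc_e_rc_24_2 lc_e_rc_4_1 lc_e_rc_10_1 lc_e_rc_10_1 lc_e_rc_4_1 lc_e_rc_4_1 lc_e_Cert_tree lc_e_rc_23_2 lc_e_rc_24_2 lc_e_rc_4_1 lc_e_rc_15_1 lc_e_rc_23_2 lc_e_rc_24_2 lc_e_rc_10_1 lc_e_Cert_tree lc_e_rc_4_1 lc_e_rc_10_1 lc_e_Cert_tree) (@D3.rec (fun _ => (Cert rels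 S Gen.e)) lc_e_rc_22_0 lc_e_rc_23_2 lc_e_rc_23_2 lc_e_rc_24_2 lc_e_rc_4_1 lc_e_rc_23_2 lc_e_rc_24_2 lc_e_rc_10_1 lc_e_rc_10_1 lc_e_rc_4_1 lc_e_rc_4_1 lc_e_Cert_tree lc_e_rc_24_2 lc_e_rc_4_1 lc_e_Cert_tree lc_e_rc_22_0 lc_e_rc_4_1 lc_e_rc_23_2 lc_e_rc_4_1 lc_e_rc_15_1 lc_e_rc_10_1 lc_e_Cert_tree lc_e_Cert_tree lc_e_rc_22_0 lc_e_Cert_tree lc_e_rc_22_0 lc_e_rc_4_1 lc_e_rc_24_2 lc_e_rc_4_1 lc_e_rc_15_1 lc_e_rc_10_1 lc_e_Cert_tree lc_e_Cert_tree lc_e_rc_22_0 lc_e_rc_4_1 lc_e_rc_19_3 lc_e_rc_4_1 lc_e_rc_19_3 lc_e_rc_10_1 lc_e_rc_10_1) (@D3.rec (fun _ => (Cert rels S Gen.e)) lc_e_Cert_tree lc_e_rc_4_1 lc_e_rc_4_1 lc_e_rc_10_1 lc_e_rc_10_1 lc_e_Cert_tree lc_e_rc_22_0 lc_e_rc_23_2 lc_e_rc_24_2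 lc_e_rc_10_1 lc_e_rc_24_2 lc_e_rc_10_1 lc_e_rc_4_3 lc_e_rc_4_1 lc_e_rc_23_2 lc_e_rc_24_2 lc_e_rc_4_3 lc_e_rc_4_1 lc_e_rc_24_2 lc_e_rc_4_3 lc_e_rc_4_3 lc_e_rc_10_1 lc_e_rc_4_1 lc_e_rc_4_1 lc_e_Cert_tree lc_e_rc_24_2 lc_e_rc_4_3 lc_e_rc_10_1 lc_e_rc_4_1 lc_e_rc_4_1 lc_e_Cert_tree lc_e_rc_23_2 lc_e_rc_24_2 lc_e_rc_10_3 lc_e_rc_4_1 lc_e_rc_23_2 lc_e_rc_24_2 lc_e_rc_10_1 lc_e_Cert_tree lc_e_Cert_tree) (@D3.rec (fun _ => (Cert rels S Gen.e)) lc_e_rc_22_0 lc_e_rc_24_2 lc_e_rc_10_1 lc_e_rc_4_1 lc_e_rc_15_1 lc_e_rc_23_2 lc_e_rc_10_1 lc_e_rc_4_1 lc_e_rc_24_2 lc_e_Cert_tree lc_e_rc_23_2 lc_e_rc_24_2 lc_e_rc_24_0 lc_e_rc_4_1 lc_e_rc_23_2 lc_e_rc_24_2 lc_e_rc_10_1 lc_e_Cert_tree lc_e_Cert_tree lc_e_rc_22_0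 lc_e_rc_23_2 lc_e_rc_10_1 lc_e_rc_4_1 lc_e_rc_15_1 lc_e_rc_24_2 lc_e_rc_24_2 lc_e_rc_4_1 lc_e_rc_4_1 lc_e_Cert_tree lc_e_rc_24_2 lc_e_rc_4_3 lc_e_rc_4_1 lc_e_rc_4_1 lc_e_rc_15_1 lc_e_Cert_tree lc_e_rc_23_2 lc_e_rc_24_2 lc_e_rc_24_2 lc_e_rc_24_2 lc_e_rc_4_3) (@D3.rec (fun _ => (Cert rels S Gen.e)) lc_e_rc_4_1 lc_e_Cert_tree lc_e_rc_23_2 lc_e_rc_24_2 lc_e_Cert_tree lc_e_rc_22_0 lc_e_rc_24_2 lc_e_rc_10_1 lc_e_rc_4_1 lc_e_rc_15_1 lc_e_rc_23_2 lc_e_Cert_tree lc_e_rc_22_0 lc_e_rc_24_2 lc_e_rc_24_2 lc_e_rc_10_1 lc_e_rc_4_3 lc_e_rc_4_1 lc_e_rc_24_2 lc_e_rc_4_3 lc_e_rc_10_1 lc_e_rc_10_1 lc_e_rc_4_1 lc_e_Cert_tree lc_e_rc_4_3 lc_e_rc_10_1 lc_e_rc_4_1 lc_e_rc_15_1 lc_e_rc_24_2 lc_e_rc_4_1 lc_e_rc_15_1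 lc_e_rc_23_2 lc_e_rc_24_2 lc_e_rc_10_1 lc_e_Cert_tree lc_e_rc_4_1 lc_e_rc_10_1 lc_e_Cert_tree lc_e_rc_22_0 lc_e_rc_23_2) (@D3.rec (fun _ => (Cert rels S Gen.e)) lc_e_rc_24_2 lc_e_rc_10_1 lc_e_rc_4_1 lc_e_rc_4_1 lc_e_rc_15_1 lc_e_Cert_tree lc_e_rc_23_2 lc_e_rc_24_2 lc_e_rc_23_2 lc_e_rc_24_2 lc_e_rc_4_3 lc_e_rc_4_1 lc_e_Cert_tree lc_e_rc_23_2 lc_e_rc_24_2 lc_e_Cert_tree lc_e_rc_22_0 lc_e_rc_23_2 lc_e_rc_10_1 lc_e_rc_4_1 lc_e_rc_15_1 lc_e_rc_24_2 lc_e_Cert_tree lc_e_rc_22_0 lc_e_rc_23_2 lc_e_rc_23_2 lc_e_rc_10_1 lc_e_rc_24_2 lc_e_rc_4_1 lc_e_rc_23_2 lc_e_rc_24_2 lc_e_rc_10_1 lc_e_rc_10_1 lc_e_rc_4_1 lc_e_Cert_tree lc_e_rc_24_2 lc_e_rc_10_1 lc_e_rc_4_1 lc_e_rc_15_1 lc_e_rc_23_2) (@D3.rec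 (fun _ => (Cert rels S Gen.e)) lc_e_rc_4_1 lc_e_rc_15_1 lc_e_rc_23_2 lc_e_rc_24_2 lc_e_rc_10_1 lc_e_Cert_tree lc_e_rc_4_1 lc_e_rc_10_1 lc_e_Cert_tree lc_e_rc_22_0 lc_e_rc_24_2 lc_e_rc_4_3 lc_e_rc_10_1 lc_e_rc_10_1 lc_e_rc_4_1 lc_e_rc_15_1 lc_e_rc_10_1 lc_e_rc_15_1 lc_e_rc_4_1 lc_e_Cert_tree lc_e_rc_15_1 lc_e_rc_24_2 lc_e_rc_22_0 lc_e_rc_4_1 lc_e_rc_15_1 lc_e_Cert_tree lc_e_rc_4_1 lc_e_Cert_tree lc_e_rc_23_2 lc_e_rc_24_2 lc_e_rc_22_0 lc_e_Cert_tree lc_e_rc_22_0 lc_e_rc_10_1 lc_e_rc_4_1 lc_e_rc_15_1 lc_e_rc_10_1 lc_e_rc_4_1 lc_e_rc_4_1 lc_e_Cert_tree) (@D3.rec (fun _ => (Cert rels S Gen.e)) lc_e_rc_24_2 lc_e_rc_4_3 lc_e_rc_22_0 lc_e_rc_4_1 lc_e_rc_15_1 lc_e_Cert_tree lc_e_rc_4_1 lc_e_Cert_tree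 lc_e_rc_23_2 lc_e_rc_24_2 lc_e_rc_22_0 lc_e_Cert_tree lc_e_rc_22_0 lc_e_rc_32_51 lc_e_rc_22_0 lc_e_rc_10_1 lc_e_rc_4_1 lc_e_Cert_tree lc_e_rc_22_0 lc_e_rc_24_2 lc_e_rc_15_1 lc_e_rc_24_2 lc_e_Cert_tree lc_e_rc_22_0 lc_e_Cert_tree lc_e_Cert_tree lc_e_rc_22_0 lc_e_rc_23_2 lc_e_rc_23_2 lc_e_rc_22_0 lc_e_rc_19_3 lc_e_rc_10_3 lc_e_rc_22_0 lc_e_rc_23_0 lc_e_rc_4_1 lc_e_Cert_tree lc_e_rc_22_0 lc_e_rc_19_3 lc_e_rc_15_1 lc_e_rc_22_0) (@D3.rec (fun _ => (Cert rels S Gen.e)) lc_e_Cert_tree lc_e_rc_22_0 lc_e_rc_4_3 lc_e_Cert_tree lc_e_rc_22_0 lc_e_rc_23_2 lc_e_rc_4_1 lc_e_rc_22_0 lc_e_rc_19_3 lc_e_rc_4_1 lc_e_rc_23_2 lc_e_rc_10_1 lc_e_rc_23_0 lc_e_rc_10_1 lc_e_rc_4_1 lc_e_rc_4_1 lc_e_rc_10_1 lc_e_rc_15_1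 lc_e_rc_4_1 lc_e_rc_10_1 lc_e_rc_24_2 lc_e_rc_24_2 lc_e_rc_24_2 lc_e_Cert_tree lc_e_rc_24_2 lc_e_rc_24_0 lc_e_rc_24_0 lc_e_rc_10_1 lc_e_rc_4_1 lc_e_rc_10_1 lc_e_rc_4_1 lc_e_rc_24_0 lc_e_rc_23_2 lc_e_rc_22_0 lc_e_rc_22_1 lc_e_Cert_tree lc_e_rc_24_2 lc_e_rc_4_1 lc_e_rc_23_2 lc_e_rc_24_2) (@D3.rec (fun _ => (Cert rels S Gen.e)) lc_e_rc_10_1 lc_e_rc_4_1 lc_e_rc_4_1 lc_e_rc_4_1 lc_e_rc_15_1 lc_e_rc_23_2 lc_e_rc_24_2 lc_e_rc_24_2 lc_e_rc_4_3 lc_e_rc_10_1 lc_e_rc_4_1 lc_e_rc_4_1 lc_e_rc_4_1 lc_e_rc_15_1 lc_e_rc_23_2 lc_e_rc_24_2 lc_e_rc_23_2 lc_e_rc_24_2 lc_e_rc_24_2 lc_e_rc_4_1 lc_e_rc_19_3 lc_e_rc_19_3 lc_e_rc_4_1 lc_e_rc_24_2 lc_e_rc_4_1 lc_e_rc_23_2 lc_e_rc_4_1 lc_e_rc_15_1 lc_e_rc_23_2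 lc_e_rc_24_2 lc_e_rc_10_1 lc_e_rc_10_1 lc_e_rc_4_1 lc_e_rc_24_2 lc_e_rc_10_1 lc_e_rc_4_1 lc_e_rc_4_3 lc_e_rc_10_1 lc_e_rc_10_1 lc_e_rc_4_1) (@D3.rec (fun _ => (Cert rels S Gen.e)) lc_e_rc_4_3 lc_e_rc_19_5 lc_e_rc_4_1 lc_e_rc_24_2 lc_e_rc_23_2 lc_e_rc_24_2 lc_e_rc_10_1 lc_e_rc_10_1 lc_e_rc_15_1 lc_e_rc_15_1 lc_e_rc_22_0 lc_e_rc_23_2 lc_e_rc_24_2 lc_e_rc_23_2 lc_e_rc_24_2 lc_e_rc_24_2 lc_e_rc_24_2 lc_e_rc_4_1 lc_e_rc_10_1 lc_e_rc_24_2 lc_e_rc_4_1 lc_e_rc_10_1 lc_e_rc_23_2 lc_e_Cert_tree lc_e_Cert_tree lc_e_rc_10_1 lc_e_rc_23_2 lc_e_rc_4_1 lc_e_rc_4_1 lc_e_rc_4_1 lc_e_rc_4_1 lc_e_rc_23_2 lc_e_rc_24_2 lc_e_rc_24_2 lc_e_rc_4_1 lc_e_rc_10_1 lc_e_rc_24_2 lc_e_rc_10_1 lc_e_rc_24_2 lc_e_rc_4_1)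 (@D3.rec (fun _ => (Cert rels S Gen.e)) lc_e_rc_10_1 lc_e_rc_24_2 lc_e_rc_10_1 lc_e_rc_4_1 lc_e_rc_10_1 lc_e_rc_23_2 lc_e_rc_10_1 lc_e_Cert_tree lc_e_rc_24_2 lc_e_rc_15_1 lc_e_Cert_tree lc_e_rc_23_2 lc_e_rc_15_1 lc_e_rc_32_51 lc_e_rc_23_2 lc_e_rc_24_2 lc_e_Cert_tree lc_e_rc_22_0 lc_e_rc_4_3 lc_e_rc_4_3 lc_e_rc_10_1 lc_e_rc_10_1 lc_e_Cert_tree lc_e_rc_22_0 lc_e_rc_23_2 lc_e_rc_24_2 lc_e_rc_23_2 lc_e_rc_24_2 lc_e_rc_10_1 lc_e_rc_19_3 lc_e_rc_10_1 lc_e_rc_19_3 lc_e_rc_4_1 lc_e_rc_23_2 lc_e_rc_24_2 lc_e_rc_10_1 lc_e_rc_4_1 lc_e_rc_24_2 lc_e_rc_4_3 lc_e_rc_10_1) (@D3.rec (fun _ => (Cert rels S Gen.e)) lc_e_rc_10_1 lc_e_rc_24_2 lc_e_rc_10_1 lc_e_rc_4_1 lc_e_rc_4_1 lc_e_rc_15_1 lc_e_rc_24_2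 lc_e_rc_10_1 lc_e_rc_4_1 lc_e_rc_15_1 lc_e_rc_23_2 lc_e_rc_10_1 lc_e_rc_10_1 lc_e_rc_4_1 lc_e_rc_4_1 lc_e_Cert_tree lc_e_rc_24_2 lc_e_rc_24_2 lc_e_rc_4_3 lc_e_rc_4_1 lc_e_rc_10_1 lc_e_rc_23_2 lc_e_rc_10_1 lc_e_rc_4_1 lc_e_rc_4_1 lc_e_Cert_tree lc_e_rc_23_2 lc_e_rc_23_2 lc_e_rc_24_2 lc_e_rc_4_1 lc_e_rc_10_1 lc_e_rc_24_2 lc_e_rc_10_1 lc_e_Cert_tree lc_e_Cert_tree lc_e_rc_22_0 lc_e_rc_24_2 lc_e_rc_10_1 lc_e_Cert_tree lc_e_rc_10_1) (@D3.rec (fun _ => (Cert rels S Gen.e)) lc_e_Cert_tree lc_e_Cert_tree lc_e_rc_22_0 lc_e_rc_23_2 lc_e_rc_10_1 lc_e_Cert_tree lc_e_rc_10_3 lc_e_rc_24_2 lc_e_rc_4_3 lc_e_rc_22_0 lc_e_rc_4_1 lc_e_Cert_tree lc_e_rc_22_0 lc_e_rc_24_2 lc_e_Cert_tree lc_e_rc_22_0 lc_e_rc_10_3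 lc_e_rc_23_2 lc_e_rc_4_3 lc_e_rc_22_0 lc_e_rc_4_1 lc_e_Cert_tree lc_e_rc_22_0 lc_e_rc_19_5 lc_e_Cert_tree lc_e_rc_22_0 lc_e_rc_4_1 lc_e_rc_10_1 lc_e_rc_23_2 lc_e_rc_24_2 lc_e_rc_4_1 lc_e_rc_4_1 lc_e_rc_10_1 lc_e_rc_10_1 lc_e_rc_15_1 lc_e_rc_15_1 lc_e_rc_23_2 lc_e_rc_24_2 lc_e_rc_24_2 lc_e_rc_4_3)
def ce_e_3 : D2 → D3 → (Cert rels S Gen.e) := @D2.rec (fun _ => D3 → (Cert rels S Gen.e)) (@D3.rec (fun _ => (Cert rels S Gen.e)) lc_e_rc_4_1 lc_e_rc_23_2 lc_e_rc_24_2 lc_e_rc_10_1 lc_e_rc_4_1 lc_e_rc_24_2 lc_e_rc_4_1 lc_e_rc_10_1 lc_e_rc_4_1 lc_e_rc_15_1 lc_e_rc_24_2 lc_e_rc_19_3 lc_e_rc_4_1 lc_e_rc_15_1 lc_e_rc_23_2 lc_e_rc_19_3 lc_e_rc_10_1 lc_e_rc_4_1 lc_e_rc_4_1 lc_e_Cert_tree lc_e_rc_24_2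 lc_e_rc_24_2 lc_e_rc_4_1 lc_e_rc_4_1 lc_e_rc_10_1 lc_e_rc_23_2 lc_e_rc_10_1 lc_e_rc_4_1 lc_e_rc_4_1 lc_e_Cert_tree lc_e_rc_23_2 lc_e_rc_23_2 lc_e_rc_24_2 lc_e_rc_4_1 lc_e_rc_10_1 lc_e_rc_24_2 lc_e_rc_15_1 lc_e_rc_10_1 lc_e_Cert_tree lc_e_rc_22_0) (@D3.rec (fun _ => (Cert rels S Gen.e)) lc_e_rc_24_2 lc_e_rc_10_1 lc_e_rc_4_1 lc_e_rc_4_1 lc_e_rc_24_2 lc_e_rc_4_1 lc_e_Cert_tree lc_e_rc_15_1 lc_e_rc_10_1 lc_e_Cert_tree lc_e_rc_22_0 lc_e_rc_23_2 lc_e_rc_10_1 lc_e_rc_24_2 lc_e_rc_4_1 lc_e_rc_23_2 lc_e_rc_4_1 lc_e_Cert_tree lc_e_rc_10_1 lc_e_Cert_tree lc_e_rc_4_1 lc_e_rc_19_3 lc_e_rc_19_3 lc_e_rc_15_1 lc_e_rc_10_1 lc_e_Cert_tree lc_e_rc_4_1 lc_e_rc_19_3 lc_e_rc_19_3 lc_e_rc_15_1 lc_e_rc_10_1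 lc_e_rc_10_1 lc_e_rc_4_1 lc_e_rc_4_1 lc_e_rc_23_2 lc_e_rc_24_2 lc_e_rc_24_2 lc_e_rc_4_3 lc_e_rc_4_1 lc_e_rc_15_1) (@D3.rec (fun _ => (Cert rels S Gen.e)) lc_e_rc_24_2 lc_e_rc_4_1 lc_e_rc_15_1 lc_e_rc_23_2 lc_e_rc_10_1 lc_e_rc_4_1 lc_e_Cert_tree lc_e_rc_24_2 lc_e_rc_10_1 lc_e_rc_4_1 lc_e_rc_15_1 lc_e_rc_23_2 lc_e_rc_10_1 lc_e_rc_4_1 lc_e_Cert_tree lc_e_rc_4_3 lc_e_rc_10_1 lc_e_rc_4_1 lc_e_rc_15_1 lc_e_rc_24_2 lc_e_rc_4_1 lc_e_rc_15_1 lc_e_rc_23_2 lc_e_rc_24_2 lc_e_rc_10_1 lc_e_Cert_tree lc_e_rc_4_1 lc_e_rc_10_1 lc_e_rc_22_0 lc_e_rc_24_2 lc_e_rc_24_2 lc_e_rc_4_3 lc_e_rc_4_1 lc_e_rc_24_2 lc_e_rc_4_3 lc_e_rc_10_1 lc_e_rc_10_1 lc_e_rc_4_1 lc_e_rc_4_1 lc_e_Cert_tree) (@D3.rec (fun _ => (Cert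 rels S Gen.e)) lc_e_rc_23_2 lc_e_rc_24_2 lc_e_rc_4_1 lc_e_rc_15_1 lc_e_rc_23_2 lc_e_rc_24_2 lc_e_rc_10_1 lc_e_Cert_tree lc_e_rc_4_1 lc_e_rc_10_1 lc_e_rc_22_0 lc_e_rc_23_2 lc_e_rc_23_2 lc_e_rc_24_2 lc_e_rc_4_1 lc_e_rc_23_2 lc_e_rc_24_2 lc_e_rc_10_1 lc_e_rc_10_1 lc_e_rc_4_1 lc_e_rc_4_1 lc_e_Cert_tree lc_e_rc_24_2 lc_e_rc_4_3 lc_e_rc_15_1 lc_e_Cert_tree lc_e_rc_4_1 lc_e_Cert_tree lc_e_rc_23_2 lc_e_rc_24_2 lc_e_rc_22_0 lc_e_Cert_tree lc_e_rc_22_0 lc_e_rc_24_2 lc_e_rc_24_2 lc_e_rc_10_1 lc_e_rc_23_2 lc_e_rc_4_1 lc_e_rc_10_1 lc_e_rc_23_2) (@D3.rec (fun _ => (Cert rels S Gen.e)) lc_e_rc_10_1 lc_e_rc_4_1 lc_e_Cert_tree lc_e_rc_10_1 lc_e_Cert_tree lc_e_Cert_tree lc_e_rc_22_0 lc_e_rc_15_1 lc_e_Cert_tree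 lc_e_rc_4_1 lc_e_Cert_tree lc_e_rc_23_2 lc_e_rc_24_2 lc_e_rc_22_0 lc_e_Cert_tree lc_e_rc_22_0 lc_e_rc_23_2 lc_e_rc_23_2 lc_e_rc_10_1 lc_e_rc_24_2 lc_e_rc_4_1 lc_e_rc_10_1 lc_e_rc_24_2 lc_e_rc_10_1 lc_e_rc_4_1 lc_e_Cert_tree lc_e_rc_10_1 lc_e_Cert_tree lc_e_Cert_tree lc_e_rc_22_0 lc_e_Cert_tree lc_e_rc_22_0 lc_e_Cert_tree lc_e_Cert_tree lc_e_rc_22_0 lc_e_rc_23_2 lc_e_rc_24_2 lc_e_rc_22_0 lc_e_rc_24_2 lc_e_rc_19_3) (@D3.rec (fun _ => (Cert rels S Gen.e)) lc_e_rc_24_2 lc_e_rc_10_1 lc_e_rc_23_2 lc_e_rc_10_1 lc_e_rc_23_2 lc_e_rc_10_1 lc_e_rc_15_1 lc_e_rc_15_1 lc_e_rc_15_1 lc_e_Cert_tree lc_e_Cert_tree lc_e_rc_22_0 lc_e_Cert_tree lc_e_rc_22_0 lc_e_Cert_tree lc_e_Cert_tree lc_e_rc_22_0 lc_e_rc_10_1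 lc_e_rc_24_2 lc_e_rc_22_0 lc_e_rc_23_2 lc_e_rc_19_3 lc_e_rc_23_2 lc_e_rc_24_0 lc_e_rc_24_2 lc_e_rc_10_1 lc_e_rc_24_2 lc_e_rc_4_1 lc_e_rc_15_1 lc_e_rc_23_2 lc_e_rc_4_3 lc_e_Cert_tree lc_e_Cert_tree lc_e_rc_22_0 lc_e_Cert_tree lc_e_rc_22_0 lc_e_rc_23_2 lc_e_rc_24_2 lc_e_rc_23_2 lc_e_rc_23_2) (@D3.rec (fun _ => (Cert rels S Gen.e)) lc_e_rc_24_2 lc_e_rc_24_2 lc_e_rc_10_1 lc_e_rc_24_2 lc_e_rc_15_1 lc_e_rc_10_1 lc_e_rc_4_1 lc_e_rc_15_1 lc_e_rc_23_2 lc_e_rc_15_1 lc_e_rc_23_2 lc_e_Cert_tree lc_e_rc_23_2 lc_e_Cert_tree lc_e_rc_22_0 lc_e_rc_23_2 lc_e_rc_24_2 lc_e_rc_23_2 lc_e_Cert_tree lc_e_rc_22_0 lc_e_rc_23_2 lc_e_rc_24_2 lc_e_rc_24_2 lc_e_rc_23_2 lc_e_rc_24_2 lc_e_rc_15_1 lc_e_rc_23_2 lc_e_rc_23_2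 lc_e_rc_15_1 lc_e_rc_10_1 lc_e_rc_4_1 lc_e_rc_23_2 lc_e_rc_24_2 lc_e_rc_15_1 lc_e_rc_4_1 lc_e_Cert_tree lc_e_rc_4_1 lc_e_Cert_tree lc_e_rc_22_0 lc_e_rc_23_2) (@D3.rec (fun _ => (Cert rels S Gen.e)) lc_e_rc_24_2 lc_e_rc_24_2 lc_e_rc_4_1 lc_e_rc_23_2 lc_e_rc_24_2 lc_e_rc_4_1 lc_e_rc_4_1 lc_e_rc_4_1 lc_e_rc_15_1 lc_e_rc_23_2 lc_e_rc_24_2 lc_e_rc_24_2 lc_e_rc_4_3 lc_e_rc_10_1 lc_e_rc_4_1 lc_e_rc_4_1 lc_e_rc_15_1 lc_e_rc_15_1 lc_e_rc_23_2 lc_e_rc_24_2 lc_e_rc_24_2 lc_e_rc_4_1 lc_e_rc_23_2 lc_e_rc_24_2 lc_e_rc_10_1 lc_e_rc_10_1 lc_e_rc_4_1 lc_e_rc_24_2 lc_e_rc_4_1 lc_e_rc_23_2 lc_e_rc_4_1 lc_e_rc_23_2 lc_e_rc_24_2 lc_e_rc_4_3 lc_e_rc_15_3 lc_e_rc_24_2 lc_e_rc_10_1 lc_e_rc_10_1 lc_e_Cert_tree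 lc_e_rc_22_0) (@D3.rec (fun _ => (Cert rels S Gen.e)) lc_e_rc_23_2 lc_e_rc_24_2 lc_e_rc_23_2 lc_e_rc_24_2 lc_e_rc_10_1 lc_e_rc_24_2 lc_e_rc_10_1 lc_e_rc_4_3 lc_e_rc_4_1 lc_e_rc_24_2 lc_e_rc_10_1 lc_e_rc_4_1 lc_e_rc_4_3 lc_e_rc_10_1 lc_e_rc_10_1 lc_e_rc_10_1 lc_e_rc_4_1 lc_e_rc_15_1 lc_e_rc_24_2 lc_e_rc_4_1 lc_e_rc_15_1 lc_e_rc_23_2 lc_e_rc_10_1 lc_e_rc_4_1 lc_e_rc_4_3 lc_e_rc_10_1 lc_e_rc_4_1 lc_e_rc_24_2 lc_e_rc_10_1 lc_e_rc_10_1 lc_e_rc_4_1 lc_e_rc_23_2 lc_e_rc_24_2 lc_e_rc_10_1 lc_e_rc_4_1 lc_e_rc_24_2 lc_e_rc_4_1 lc_e_rc_10_1 lc_e_rc_10_1 lc_e_rc_24_2) (@D3.rec (fun _ => (Cert rels S Gen.e)) lc_e_rc_10_1 lc_e_rc_4_1 lc_e_rc_4_1 lc_e_rc_22_0 lc_e_rc_24_2 lc_e_rc_10_1 lc_e_rc_4_1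 lc_e_rc_24_0 lc_e_rc_23_2 lc_e_rc_10_1 lc_e_rc_10_1 lc_e_rc_4_1 lc_e_rc_4_1 lc_e_Cert_tree lc_e_rc_24_2 lc_e_rc_24_2 lc_e_rc_4_1 lc_e_rc_4_1 lc_e_rc_10_1 lc_e_rc_23_2 lc_e_rc_10_1 lc_e_rc_4_1 lc_e_rc_4_1 lc_e_Cert_tree lc_e_rc_23_2 lc_e_rc_23_2 lc_e_rc_24_2 lc_e_rc_4_1 lc_e_rc_10_1 lc_e_rc_24_2 lc_e_rc_22_0 lc_e_rc_4_1 lc_e_Cert_tree lc_e_rc_22_0 lc_e_rc_4_1 lc_e_Cert_tree lc_e_rc_19_3 lc_e_rc_15_1 lc_e_rc_19_3 lc_e_rc_15_1) (@D3.rec (fun _ => (Cert rels S Gen.e)) lc_e_rc_23_0 lc_e_rc_24_0 lc_e_rc_4_1 lc_e_rc_15_1 lc_e_rc_24_2 lc_e_rc_4_1 lc_e_rc_15_1 lc_e_rc_23_2 lc_e_rc_4_1 lc_e_rc_15_1 lc_e_rc_24_2 lc_e_rc_10_1 lc_e_rc_4_1 lc_e_rc_15_1 lc_e_rc_19_3 lc_e_rc_10_1 lc_e_rc_10_1 lc_e_rc_4_1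 lc_e_Cert_tree lc_e_rc_24_2 lc_e_rc_10_1 lc_e_rc_4_1 lc_e_rc_15_1 lc_e_rc_23_2 lc_e_rc_10_1 lc_e_rc_4_1 lc_e_Cert_tree lc_e_rc_4_3 lc_e_rc_10_1 lc_e_rc_4_1 lc_e_rc_15_1 lc_e_rc_24_2 lc_e_rc_10_1 lc_e_rc_10_1 lc_e_rc_4_1 lc_e_rc_4_1 lc_e_rc_19_5 lc_e_rc_4_1 lc_e_rc_4_1 lc_e_rc_23_2) (@D3.rec (fun _ => (Cert rels S Gen.e)) lc_e_rc_4_1 lc_e_rc_15_1 lc_e_rc_24_2 lc_e_rc_10_1 lc_e_rc_4_1 lc_e_rc_15_1 lc_e_rc_23_2 lc_e_rc_10_1 lc_e_rc_23_2 lc_e_rc_4_1 lc_e_rc_4_1 lc_e_Cert_tree lc_e_rc_24_2 lc_e_rc_24_2 lc_e_rc_4_3 lc_e_rc_4_1 lc_e_rc_15_1 lc_e_rc_23_2 lc_e_rc_24_2 lc_e_rc_24_2 lc_e_rc_4_1 lc_e_Cert_tree lc_e_rc_23_2 lc_e_rc_23_2 lc_e_rc_4_3 lc_e_rc_4_1 lc_e_rc_15_1 lc_e_rc_24_2 lc_e_rc_4_1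 lc_e_rc_15_1 lc_e_rc_23_2 lc_e_rc_24_2 lc_e_rc_10_1 lc_e_Cert_tree lc_e_rc_4_1 lc_e_rc_10_1 lc_e_Cert_tree lc_e_rc_22_0 lc_e_rc_24_2 lc_e_rc_4_3) (@D3.rec (fun _ => (Cert rels S Gen.e)) lc_e_rc_4_1 lc_e_rc_24_2 lc_e_rc_4_3 lc_e_rc_10_1 lc_e_rc_10_1 lc_e_rc_4_1 lc_e_rc_4_1 lc_e_Cert_tree lc_e_rc_23_2 lc_e_rc_24_2 lc_e_rc_4_1 lc_e_rc_15_1 lc_e_rc_23_2 lc_e_rc_24_2 lc_e_rc_10_1 lc_e_Cert_tree lc_e_rc_4_1 lc_e_rc_10_1 lc_e_Cert_tree lc_e_rc_22_0 lc_e_rc_23_2 lc_e_rc_24_2 lc_e_rc_4_1 lc_e_rc_23_2 lc_e_rc_24_2 lc_e_rc_10_1 lc_e_rc_10_1 lc_e_rc_4_1 lc_e_rc_4_1 lc_e_Cert_tree lc_e_rc_24_2 lc_e_rc_4_3 lc_e_Cert_tree lc_e_rc_22_0 lc_e_rc_10_1 lc_e_Cert_tree lc_e_Cert_tree lc_e_rc_22_0 lc_e_Cert_tree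 lc_e_rc_22_0) (@D3.rec (fun _ => (Cert rels S Gen.e)) lc_e_rc_10_1 lc_e_Cert_tree lc_e_Cert_tree lc_e_rc_22_0 lc_e_rc_4_3 lc_e_Cert_tree lc_e_rc_22_0 lc_e_rc_4_1 lc_e_rc_15_1 lc_e_rc_22_0 lc_e_rc_19_3 lc_e_rc_15_3 lc_e_Cert_tree lc_e_rc_15_1 lc_e_Cert_tree lc_e_rc_22_0 lc_e_rc_15_1 lc_e_rc_24_2 lc_e_rc_22_0 lc_e_rc_19_3 lc_e_rc_10_1 lc_e_Cert_tree lc_e_rc_4_1 lc_e_rc_4_1 lc_e_rc_23_2 lc_e_rc_24_2 lc_e_rc_23_2 lc_e_rc_24_2 lc_e_rc_24_2 lc_e_rc_4_1 lc_e_rc_10_1 lc_e_rc_15_1 lc_e_rc_15_1 lc_e_rc_10_1 lc_e_rc_10_1 lc_e_rc_4_1 lc_e_rc_15_1 lc_e_rc_24_2 lc_e_rc_4_1 lc_e_rc_15_1) (@D3.rec (fun _ => (Cert rels S Gen.e)) lc_e_rc_23_2 lc_e_rc_10_1 lc_e_rc_15_1 lc_e_rc_10_1 lc_e_rc_15_1 lc_e_rc_4_1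 lc_e_rc_15_1 lc_e_rc_24_2 lc_e_rc_10_1 lc_e_rc_4_1 lc_e_rc_15_1 lc_e_rc_4_1 lc_e_rc_10_1 lc_e_rc_10_1 lc_e_rc_4_1 lc_e_Cert_tree lc_e_rc_24_2 lc_e_rc_10_1 lc_e_rc_4_1 lc_e_rc_15_1 lc_e_rc_23_2 lc_e_rc_10_1 lc_e_rc_4_1 lc_e_Cert_tree lc_e_rc_4_1 lc_e_rc_10_1 lc_e_rc_4_1 lc_e_rc_15_1 lc_e_rc_24_2 lc_e_rc_10_1 lc_e_rc_15_1 lc_e_rc_4_1 lc_e_Cert_tree lc_e_rc_15_1 lc_e_rc_4_1 lc_e_rc_10_1 lc_e_rc_15_1 lc_e_rc_4_1 lc_e_Cert_tree lc_e_rc_15_1) (@D3.rec (fun _ => (Cert rels S Gen.e)) lc_e_rc_24_2 lc_e_rc_4_1 lc_e_rc_23_2 lc_e_rc_24_2 lc_e_rc_10_1 lc_e_Cert_tree lc_e_rc_4_1 lc_e_rc_10_1 lc_e_Cert_tree lc_e_rc_22_0 lc_e_rc_24_2 lc_e_rc_24_2 lc_e_rc_4_1 lc_e_rc_10_1 lc_e_rc_4_1 lc_e_rc_23_2 lc_e_rc_24_2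 lc_e_rc_10_1 lc_e_Cert_tree lc_e_rc_4_1 lc_e_rc_10_1 lc_e_Cert_tree lc_e_rc_22_0 lc_e_rc_23_2 lc_e_rc_23_2 lc_e_rc_24_2 lc_e_rc_10_1 lc_e_rc_4_1 lc_e_Cert_tree lc_e_rc_23_2 lc_e_rc_24_2 lc_e_rc_22_0 lc_e_rc_10_1 lc_e_rc_24_2 lc_e_rc_10_1 lc_e_rc_4_1 lc_e_rc_23_2 lc_e_rc_4_1 lc_e_Cert_tree lc_e_rc_23_2) (@D3.rec (fun _ => (Cert rels S Gen.e)) lc_e_rc_24_2 lc_e_rc_22_0 lc_e_rc_10_1 lc_e_rc_23_2 lc_e_rc_10_1 lc_e_rc_4_1 lc_e_rc_24_2 lc_e_rc_15_1 lc_e_Cert_tree lc_e_rc_15_1 lc_e_rc_24_2 lc_e_rc_22_0 lc_e_rc_4_1 lc_e_Cert_tree lc_e_rc_23_2 lc_e_rc_24_2 lc_e_rc_22_0 lc_e_rc_10_1 lc_e_rc_10_1 lc_e_rc_15_3 lc_e_rc_15_1 lc_e_rc_10_1 lc_e_rc_15_1 lc_e_rc_24_2 lc_e_rc_4_3 lc_e_rc_10_3 lc_e_rc_4_3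 lc_e_rc_10_1 lc_e_rc_4_1 lc_e_rc_24_2 lc_e_rc_10_1 lc_e_rc_4_1 lc_e_rc_23_2 lc_e_rc_4_1 lc_e_rc_15_1 lc_e_rc_23_2 lc_e_rc_24_2 lc_e_rc_10_1 lc_e_Cert_tree lc_e_Cert_tree) (@D3.rec (fun _ => (Cert rels S Gen.e)) lc_e_rc_22_0 lc_e_rc_24_2 lc_e_rc_10_1 lc_e_rc_4_1 lc_e_rc_15_1 lc_e_rc_23_2 lc_e_rc_4_3 lc_e_rc_4_1 lc_e_rc_24_2 lc_e_Cert_tree lc_e_rc_23_2 lc_e_rc_24_2 lc_e_rc_4_1 lc_e_rc_15_1 lc_e_rc_23_2 lc_e_rc_24_2 lc_e_rc_10_1 lc_e_Cert_tree lc_e_Cert_tree lc_e_rc_22_0 lc_e_rc_23_2 lc_e_rc_10_1 lc_e_rc_4_1 lc_e_rc_15_1 lc_e_rc_24_2 lc_e_rc_24_2 lc_e_rc_4_1 lc_e_rc_4_1 lc_e_Cert_tree lc_e_rc_24_2 lc_e_rc_4_3 lc_e_rc_4_1 lc_e_rc_4_1 lc_e_rc_24_2 lc_e_rc_24_2 lc_e_rc_4_3 lc_e_Cert_tree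 lc_e_rc_23_2 lc_e_rc_24_2 lc_e_rc_22_0) (@D3.rec (fun _ => (Cert rels S Gen.e)) lc_e_rc_24_2 lc_e_rc_10_1 lc_e_rc_4_1 lc_e_rc_15_1 lc_e_rc_23_2 lc_e_Cert_tree lc_e_rc_22_0 lc_e_rc_24_2 lc_e_rc_24_2 lc_e_rc_10_1 lc_e_rc_4_3 lc_e_rc_4_1 lc_e_rc_4_3 lc_e_rc_10_1 lc_e_rc_4_1 lc_e_rc_15_1 lc_e_rc_24_2 lc_e_rc_4_1 lc_e_rc_4_1 lc_e_rc_23_2 lc_e_rc_24_2 lc_e_rc_4_3 lc_e_Cert_tree lc_e_rc_23_2 lc_e_rc_24_2 lc_e_rc_22_0 lc_e_rc_23_2 lc_e_rc_10_1 lc_e_rc_4_1 lc_e_rc_15_1 lc_e_rc_24_2 lc_e_Cert_tree lc_e_rc_22_0 lc_e_rc_23_2 lc_e_rc_23_2 lc_e_rc_10_1 lc_e_rc_24_2 lc_e_rc_4_1 lc_e_rc_24_2 lc_e_rc_10_1) (@D3.rec (fun _ => (Cert rels S Gen.e)) lc_e_rc_4_1 lc_e_rc_15_1 lc_e_rc_23_2 lc_e_rc_10_1 lc_e_Cert_tree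 lc_e_rc_4_1 lc_e_rc_4_1 lc_e_Cert_tree lc_e_rc_22_0 lc_e_rc_23_2 lc_e_rc_24_2 lc_e_rc_24_2 lc_e_rc_24_2 lc_e_rc_4_3 lc_e_rc_24_2 lc_e_rc_10_1 lc_e_rc_4_1 lc_e_rc_23_2 lc_e_rc_4_3 lc_e_rc_22_0 lc_e_rc_23_2 lc_e_rc_15_3 lc_e_rc_10_1 lc_e_rc_24_2 lc_e_rc_10_1 lc_e_rc_10_1 lc_e_rc_4_1 lc_e_rc_15_1 lc_e_rc_23_2 lc_e_rc_10_1 lc_e_rc_4_1 lc_e_rc_24_2 lc_e_rc_10_1 lc_e_Cert_tree lc_e_rc_4_1 lc_e_rc_4_1 lc_e_Cert_tree lc_e_rc_22_0 lc_e_rc_23_2 lc_e_rc_24_2) (@D3.rec (fun _ => (Cert rels S Gen.e)) lc_e_rc_23_2 lc_e_rc_24_2 lc_e_rc_4_3 lc_e_rc_23_2 lc_e_rc_10_1 lc_e_rc_4_1 lc_e_rc_24_2 lc_e_rc_4_3 lc_e_rc_22_0 lc_e_rc_15_3 lc_e_rc_10_1 lc_e_rc_23_2 lc_e_rc_10_1 lc_e_rc_10_1 lc_e_rc_4_1 lc_e_rc_15_1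 lc_e_rc_24_2 lc_e_rc_10_1 lc_e_rc_4_1 lc_e_rc_4_3 lc_e_rc_24_0 lc_e_Cert_tree lc_e_rc_19_1 lc_e_rc_19_5 lc_e_Cert_tree lc_e_Cert_tree lc_e_rc_22_0 lc_e_rc_4_3 lc_e_rc_24_2 lc_e_rc_22_0 lc_e_rc_23_2 lc_e_rc_24_2 lc_e_rc_19_3 lc_e_rc_23_2 lc_e_rc_24_2 lc_e_rc_24_2 lc_e_rc_10_1 lc_e_rc_4_3 lc_e_rc_19_3 lc_e_rc_24_2) (@D3.rec (fun _ => (Cert rels S Gen.e)) lc_e_rc_10_1 lc_e_rc_4_3 lc_e_rc_24_2 lc_e_rc_10_1 lc_e_rc_4_1 lc_e_rc_15_1 lc_e_rc_23_2 lc_e_rc_15_1 lc_e_rc_4_1 lc_e_Cert_tree lc_e_rc_24_0 lc_e_Cert_tree lc_e_rc_19_1 lc_e_rc_19_5 lc_e_Cert_tree lc_e_Cert_tree lc_e_rc_22_0 lc_e_rc_23_2 lc_e_rc_10_3 lc_e_rc_22_0 lc_e_rc_23_2 lc_e_rc_24_2 lc_e_rc_19_3 lc_e_rc_23_2 lc_e_rc_24_2 lc_e_rc_10_1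 lc_e_rc_24_2 lc_e_rc_23_2 lc_e_rc_19_3 lc_e_rc_23_2 lc_e_rc_10_1 lc_e_rc_4_3 lc_e_rc_23_2 lc_e_rc_10_1 lc_e_rc_4_1 lc_e_rc_15_1 lc_e_rc_24_2 lc_e_rc_15_1 lc_e_rc_4_1 lc_e_Cert_tree) (@D3.rec (fun _ => (Cert rels S Gen.e)) lc_e_rc_19_1 lc_e_rc_19_1 lc_e_rc_24_2 lc_e_rc_19_1 lc_e_rc_15_1 lc_e_rc_4_1 lc_e_rc_22_0 lc_e_rc_23_2 lc_e_rc_24_2 lc_e_rc_24_2 lc_e_rc_10_1 lc_e_rc_4_1 lc_e_rc_4_1 lc_e_rc_24_2 lc_e_rc_10_1 lc_e_rc_10_1 lc_e_rc_4_1 lc_e_rc_15_1 lc_e_rc_23_2 lc_e_rc_10_1 lc_e_rc_15_1 lc_e_rc_10_1 lc_e_rc_4_1 lc_e_rc_15_1 lc_e_rc_23_2 lc_e_rc_10_1 lc_e_rc_10_1 lc_e_rc_4_1 lc_e_rc_24_2 lc_e_Cert_tree lc_e_rc_23_2 lc_e_rc_10_1 lc_e_rc_24_2 lc_e_rc_4_1 lc_e_rc_19_1 lc_e_rc_24_2 lc_e_rc_4_1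 lc_e_Cert_tree lc_e_rc_15_1 lc_e_rc_10_1) (@D3.rec (fun _ => (Cert rels S Gen.e)) lc_e_Cert_tree lc_e_Cert_tree lc_e_rc_22_0 lc_e_rc_23_2 lc_e_rc_15_1 lc_e_rc_10_3 lc_e_rc_4_3 lc_e_rc_23_2 lc_e_rc_23_2 lc_e_rc_23_2 lc_e_rc_15_1 lc_e_rc_4_1 lc_e_rc_22_0 lc_e_rc_23_2 lc_e_rc_24_2 lc_e_rc_23_2 lc_e_rc_10_1 lc_e_rc_10_1 lc_e_rc_23_2 lc_e_rc_10_1 lc_e_rc_23_2 lc_e_rc_4_1 lc_e_rc_15_1 lc_e_rc_24_2 lc_e_rc_23_2 lc_e_rc_10_1 lc_e_rc_15_1 lc_e_rc_10_1 lc_e_rc_4_1 lc_e_rc_15_1 lc_e_rc_24_2 lc_e_rc_10_1 lc_e_rc_10_1 lc_e_rc_4_1 lc_e_rc_4_1 lc_e_Cert_tree lc_e_rc_24_2 lc_e_rc_24_2 lc_e_rc_23_2 lc_e_rc_4_1) (@D3.rec (fun _ => (Cert rels S Gen.e)) lc_e_rc_19_1 lc_e_rc_23_2 lc_e_rc_4_1 lc_e_Cert_tree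 lc_e_rc_4_1 lc_e_rc_10_1 lc_e_Cert_tree lc_e_Cert_tree lc_e_rc_22_0 lc_e_rc_24_2 lc_e_rc_15_1 lc_e_rc_10_3 lc_e_rc_10_1 lc_e_Cert_tree lc_e_rc_4_1 lc_e_Cert_tree lc_e_rc_23_2 lc_e_rc_24_2 lc_e_rc_22_0 lc_e_rc_24_2 lc_e_rc_24_0 lc_e_rc_4_1 lc_e_rc_24_2 lc_e_rc_10_1 lc_e_rc_15_3 lc_e_rc_4_1 lc_e_rc_24_2 lc_e_rc_23_2 lc_e_rc_10_1 lc_e_Cert_tree lc_e_rc_4_1 lc_e_Cert_tree lc_e_rc_23_2 lc_e_rc_4_3 lc_e_rc_22_0 lc_e_rc_23_2 lc_e_rc_24_2 lc_e_rc_4_1 lc_e_rc_23_2 lc_e_rc_10_1) (@D3.rec (fun _ => (Cert rels S Gen.e)) lc_e_rc_4_1 lc_e_rc_15_3 lc_e_rc_24_2 lc_e_rc_4_3 lc_e_rc_10_1 lc_e_rc_4_1 lc_e_rc_4_1 lc_e_rc_10_1 lc_e_rc_10_1 lc_e_rc_22_0 lc_e_rc_4_1 lc_e_rc_4_1 lc_e_rc_10_1 lc_e_rc_24_2 lc_e_rc_10_1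 lc_e_rc_4_1 lc_e_rc_23_2 lc_e_rc_24_2 lc_e_rc_24_2 lc_e_rc_4_3 lc_e_rc_4_1 lc_e_rc_23_2 lc_e_rc_24_2 lc_e_rc_4_3 lc_e_rc_4_1 lc_e_rc_24_2 lc_e_rc_4_1 lc_e_rc_4_3 lc_e_rc_4_1 lc_e_rc_19_1 lc_e_rc_23_2 lc_e_rc_24_2 lc_e_rc_23_2 lc_e_rc_24_2 lc_e_rc_10_1 lc_e_rc_10_1 lc_e_rc_4_1 lc_e_rc_15_1 lc_e_rc_24_2 lc_e_rc_4_1)
def ce_e_4 : D2 → D3 → (Cert rels S Gen.e) := @D2.rec (fun _ => D3 → (Cert rels S Gen.e)) (@D3.rec (fun _ => (Cert rels S Gen.e)) lc_e_rc_15_1 lc_e_rc_23_2 lc_e_rc_10_1 lc_e_rc_4_1 lc_e_rc_4_1 lc_e_Cert_tree lc_e_rc_24_2 lc_e_rc_4_1 lc_e_rc_10_1 lc_e_rc_4_1 lc_e_rc_4_1 lc_e_Cert_tree lc_e_rc_23_2 lc_e_rc_24_2 lc_e_rc_10_1 lc_e_rc_24_2 lc_e_rc_10_1 lc_e_rc_24_2 lc_e_rc_10_1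 lc_e_rc_24_2 lc_e_rc_10_1 lc_e_rc_10_1 lc_e_rc_23_2 lc_e_rc_10_1 lc_e_rc_10_1 lc_e_rc_15_1 lc_e_Cert_tree lc_e_rc_15_1 lc_e_rc_10_1 lc_e_rc_4_1 lc_e_rc_15_1 lc_e_rc_23_2 lc_e_rc_10_1 lc_e_rc_15_1 lc_e_Cert_tree lc_e_rc_15_1 lc_e_rc_10_1 lc_e_rc_4_1 lc_e_rc_15_1 lc_e_rc_24_2) (@D3.rec (fun _ => (Cert rels S Gen.e)) lc_e_rc_23_2 lc_e_rc_24_2 lc_e_rc_10_1 lc_e_Cert_tree lc_e_rc_10_1 lc_e_rc_22_0 lc_e_rc_24_2 lc_e_rc_10_1 lc_e_rc_4_1 lc_e_rc_15_1 lc_e_rc_23_2 lc_e_rc_10_1 lc_e_rc_4_1 lc_e_rc_24_0 lc_e_Cert_tree lc_e_rc_23_2 lc_e_rc_24_2 lc_e_rc_23_2 lc_e_rc_24_2 lc_e_rc_10_1 lc_e_Cert_tree lc_e_rc_19_1 lc_e_rc_22_0 lc_e_rc_23_2 lc_e_rc_10_1 lc_e_rc_4_1 lc_e_rc_15_1 lc_e_rc_24_2 lc_e_rc_24_0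 lc_e_rc_4_1 lc_e_rc_4_1 lc_e_Cert_tree lc_e_rc_24_2 lc_e_rc_4_1 lc_e_rc_23_2 lc_e_rc_24_2 lc_e_rc_10_1 lc_e_rc_23_2 lc_e_rc_15_1 lc_e_rc_10_1) (@D3.rec (fun _ => (Cert rels S Gen.e)) lc_e_Cert_tree lc_e_rc_22_0 lc_e_rc_24_2 lc_e_rc_10_1 lc_e_rc_15_1 lc_e_rc_4_1 lc_e_rc_15_1 lc_e_rc_4_3 lc_e_rc_10_1 lc_e_rc_10_1 lc_e_rc_15_1 lc_e_rc_4_1 lc_e_Cert_tree lc_e_rc_15_1 lc_e_rc_24_2 lc_e_rc_23_2 lc_e_rc_24_2 lc_e_rc_10_1 lc_e_rc_24_2 lc_e_rc_15_1 lc_e_rc_10_1 lc_e_Cert_tree lc_e_rc_22_0 lc_e_rc_23_2 lc_e_rc_10_1 lc_e_rc_15_1 lc_e_rc_4_1 lc_e_rc_15_1 lc_e_rc_24_2 lc_e_rc_10_1 lc_e_rc_10_1 lc_e_rc_15_1 lc_e_rc_4_1 lc_e_Cert_tree lc_e_rc_15_1 lc_e_rc_4_1 lc_e_rc_4_1 lc_e_rc_4_1 lc_e_rc_15_1 lc_e_Cert_tree)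 (@D3.rec (fun _ => (Cert rels S Gen.e)) lc_e_rc_23_2 lc_e_rc_24_2 lc_e_rc_24_2 lc_e_rc_24_2 lc_e_rc_4_1 lc_e_rc_4_1 lc_e_Cert_tree lc_e_rc_23_2 lc_e_rc_24_2 lc_e_Cert_tree lc_e_rc_22_0 lc_e_rc_24_2 lc_e_rc_10_1 lc_e_rc_4_1 lc_e_rc_15_1 lc_e_rc_23_2 lc_e_Cert_tree lc_e_Cert_tree lc_e_rc_22_0 lc_e_rc_24_2 lc_e_rc_24_2 lc_e_rc_10_1 lc_e_rc_4_3 lc_e_rc_4_1 lc_e_rc_4_1 lc_e_rc_10_1 lc_e_rc_10_1 lc_e_rc_4_1 lc_e_Cert_tree lc_e_rc_4_1 lc_e_rc_10_1 lc_e_rc_4_1 lc_e_rc_15_1 lc_e_rc_24_2 lc_e_rc_4_1 lc_e_rc_15_1 lc_e_rc_23_2 lc_e_rc_24_2 lc_e_rc_10_1 lc_e_Cert_tree) (@D3.rec (fun _ => (Cert rels S Gen.e)) lc_e_rc_4_1 lc_e_rc_10_1 lc_e_Cert_tree lc_e_rc_22_0 lc_e_rc_23_2 lc_e_rc_24_2 lc_e_rc_10_1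 lc_e_rc_4_1 lc_e_rc_4_1 lc_e_rc_15_1 lc_e_Cert_tree lc_e_rc_23_2 lc_e_rc_24_2 lc_e_rc_23_2 lc_e_rc_24_2 lc_e_rc_4_1 lc_e_rc_4_1 lc_e_Cert_tree lc_e_rc_23_2 lc_e_rc_24_2 lc_e_Cert_tree lc_e_rc_22_0 lc_e_rc_23_2 lc_e_rc_10_1 lc_e_rc_4_1 lc_e_rc_15_1 lc_e_rc_24_2 lc_e_Cert_tree lc_e_Cert_tree lc_e_rc_22_0 lc_e_rc_23_2 lc_e_rc_23_2 lc_e_rc_10_1 lc_e_rc_24_2 lc_e_rc_4_1 lc_e_rc_24_2 lc_e_rc_10_1 lc_e_rc_10_1 lc_e_rc_4_1 lc_e_Cert_tree) (@D3.rec (fun _ => (Cert rels S Gen.e)) lc_e_rc_24_2 lc_e_rc_10_1 lc_e_rc_4_1 lc_e_rc_15_1 lc_e_rc_23_2 lc_e_rc_4_1 lc_e_rc_15_1 lc_e_rc_23_2 lc_e_rc_24_2 lc_e_rc_10_1 lc_e_Cert_tree lc_e_rc_4_1 lc_e_rc_10_1 lc_e_Cert_tree lc_e_rc_22_0 lc_e_rc_24_2 lc_e_rc_4_1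 lc_e_rc_10_1 lc_e_Cert_tree lc_e_rc_22_0 lc_e_rc_23_2 lc_e_rc_10_1 lc_e_rc_4_1 lc_e_rc_24_2 lc_e_rc_4_1 lc_e_rc_15_1 lc_e_Cert_tree lc_e_rc_4_1 lc_e_Cert_tree lc_e_rc_23_2 lc_e_rc_24_2 lc_e_rc_22_0 lc_e_Cert_tree lc_e_rc_22_0 lc_e_Cert_tree lc_e_rc_22_0 lc_e_rc_24_2 lc_e_rc_10_1 lc_e_rc_4_1 lc_e_rc_4_1) (@D3.rec (fun _ => (Cert rels S Gen.e)) lc_e_rc_4_1 lc_e_rc_15_1 lc_e_Cert_tree lc_e_rc_4_1 lc_e_Cert_tree lc_e_rc_23_2 lc_e_rc_24_2 lc_e_rc_22_0 lc_e_Cert_tree lc_e_rc_22_0 lc_e_rc_10_1 lc_e_rc_23_2 lc_e_rc_15_1 lc_e_rc_10_1 lc_e_rc_23_2 lc_e_rc_15_1 lc_e_Cert_tree lc_e_rc_22_0 lc_e_rc_15_3 lc_e_rc_15_3 lc_e_rc_4_3 lc_e_rc_10_1 lc_e_rc_10_3 lc_e_rc_15_1 lc_e_rc_10_3 lc_e_rc_10_3 lc_e_rc_15_1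 lc_e_rc_10_3 lc_e_Cert_tree lc_e_rc_4_1 lc_e_rc_22_0 lc_e_rc_23_2 lc_e_rc_24_2 lc_e_rc_23_2 lc_e_rc_24_2 lc_e_rc_10_1 lc_e_rc_24_2 lc_e_rc_10_1 lc_e_rc_4_3 lc_e_rc_10_1) (@D3.rec (fun _ => (Cert rels S Gen.e)) lc_e_rc_24_2 lc_e_rc_10_1 lc_e_rc_10_1 lc_e_rc_23_2 lc_e_rc_10_1 lc_e_rc_4_3 lc_e_rc_4_1 lc_e_Cert_tree lc_e_rc_24_2 lc_e_rc_4_3 lc_e_rc_23_2 lc_e_rc_4_3 lc_e_rc_4_1 lc_e_rc_4_3 lc_e_rc_4_1 lc_e_Cert_tree lc_e_rc_4_3 lc_e_rc_24_2 lc_e_rc_24_2 lc_e_rc_4_3 lc_e_rc_4_1 lc_e_rc_22_1 lc_e_rc_15_1 lc_e_rc_10_3 lc_e_rc_10_3 lc_e_rc_10_1 lc_e_Cert_tree lc_e_rc_4_1 lc_e_rc_4_3 lc_e_rc_22_0 lc_e_rc_24_2 lc_e_rc_10_1 lc_e_rc_4_3 lc_e_rc_24_2 lc_e_rc_23_0 lc_e_rc_10_3 lc_e_rc_10_3 lc_e_rc_10_1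 lc_e_Cert_tree lc_e_rc_4_1) (@D3.rec (fun _ => (Cert rels S Gen.e)) lc_e_rc_24_2 lc_e_rc_22_0 lc_e_rc_23_2 lc_e_rc_10_1 lc_e_rc_24_2 lc_e_rc_24_2 lc_e_rc_10_1 lc_e_rc_4_1 lc_e_rc_24_2 lc_e_rc_4_3 lc_e_rc_4_1 lc_e_Cert_tree lc_e_rc_23_2 lc_e_rc_24_2 lc_e_Cert_tree lc_e_rc_22_0 lc_e_rc_19_1 lc_e_Cert_tree lc_e_rc_22_0 lc_e_rc_23_2 lc_e_rc_24_2 lc_e_rc_10_1 lc_e_rc_15_1 lc_e_rc_23_2 lc_e_rc_4_3 lc_e_rc_4_1 lc_e_Cert_tree lc_e_rc_23_2 lc_e_rc_24_2 lc_e_rc_24_0 lc_e_rc_4_3 lc_e_rc_10_1 lc_e_Cert_tree lc_e_rc_24_2 lc_e_rc_23_0 lc_e_rc_22_0 lc_e_rc_23_2 lc_e_rc_10_1 lc_e_rc_24_2 lc_e_rc_4_3) (@D3.rec (fun _ => (Cert rels S Gen.e)) lc_e_rc_4_1 lc_e_rc_10_1 lc_e_rc_24_2 lc_e_rc_24_2 lc_e_rc_4_3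 lc_e_rc_4_1 lc_e_Cert_tree lc_e_rc_23_2 lc_e_rc_24_2 lc_e_Cert_tree lc_e_rc_22_0 lc_e_rc_10_3 lc_e_Cert_tree lc_e_rc_22_0 lc_e_rc_24_2 lc_e_rc_23_2 lc_e_rc_10_1 lc_e_rc_15_1 lc_e_rc_24_2 lc_e_rc_24_2 lc_e_rc_4_1 lc_e_Cert_tree lc_e_rc_24_2 lc_e_rc_24_0 lc_e_rc_24_0 lc_e_rc_4_3 lc_e_rc_10_1 lc_e_Cert_tree lc_e_rc_4_1 lc_e_rc_15_3 lc_e_rc_22_0 lc_e_rc_24_2 lc_e_rc_10_1 lc_e_rc_4_3 lc_e_rc_24_2 lc_e_rc_10_1 lc_e_rc_10_1 lc_e_rc_24_2 lc_e_rc_22_0 lc_e_rc_24_2) (@D3.rec (fun _ => (Cert rels S Gen.e)) lc_e_rc_24_2 lc_e_rc_10_1 lc_e_rc_4_3 lc_e_rc_4_3 lc_e_rc_4_1 lc_e_rc_24_2 lc_e_rc_4_3 lc_e_rc_4_1 lc_e_Cert_tree lc_e_rc_4_1 lc_e_rc_4_1 lc_e_Cert_tree lc_e_rc_22_0 lc_e_rc_23_2 lc_e_rc_24_2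 lc_e_rc_24_2 lc_e_rc_24_2 lc_e_rc_4_3 lc_e_rc_15_3 lc_e_rc_22_0 lc_e_rc_24_2 lc_e_rc_24_2 lc_e_rc_10_1 lc_e_rc_4_1 lc_e_rc_15_1 lc_e_rc_23_2 lc_e_rc_10_1 lc_e_rc_4_1 lc_e_rc_4_1 lc_e_Cert_tree lc_e_rc_23_2 lc_e_rc_22_0 lc_e_rc_24_2 lc_e_rc_19_3 lc_e_rc_24_2 lc_e_rc_10_1 lc_e_rc_23_2 lc_e_rc_10_1 lc_e_rc_4_1 lc_e_rc_4_1) (@D3.rec (fun _ => (Cert rels S Gen.e)) lc_e_rc_15_1 lc_e_rc_23_2 lc_e_rc_10_1 lc_e_rc_10_1 lc_e_rc_24_2 lc_e_Cert_tree lc_e_rc_24_2 lc_e_rc_10_1 lc_e_rc_4_1 lc_e_rc_15_1 lc_e_rc_24_2 lc_e_rc_4_1 lc_e_rc_15_1 lc_e_rc_23_2 lc_e_rc_24_2 lc_e_rc_10_1 lc_e_Cert_tree lc_e_Cert_tree lc_e_rc_22_0 lc_e_rc_23_2 lc_e_rc_10_1 lc_e_rc_4_1 lc_e_rc_15_1 lc_e_rc_24_2 lc_e_rc_4_1 lc_e_rc_4_1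 lc_e_Cert_tree lc_e_rc_24_2 lc_e_rc_4_3 lc_e_rc_4_1 lc_e_rc_4_1 lc_e_rc_4_1 lc_e_rc_15_1 lc_e_Cert_tree lc_e_rc_23_2 lc_e_rc_24_2 lc_e_rc_23_2 lc_e_rc_4_3 lc_e_rc_4_1 lc_e_Cert_tree) (@D3.rec (fun _ => (Cert rels S Gen.e)) lc_e_rc_23_2 lc_e_rc_24_2 lc_e_Cert_tree lc_e_rc_22_0 lc_e_rc_23_2 lc_e_rc_10_1 lc_e_rc_15_1 lc_e_Cert_tree lc_e_Cert_tree lc_e_rc_22_0 lc_e_rc_23_2 lc_e_rc_23_2 lc_e_rc_24_2 lc_e_rc_10_1 lc_e_rc_4_1 lc_e_rc_15_1 lc_e_rc_23_2 lc_e_rc_10_1 lc_e_rc_10_1 lc_e_rc_23_2 lc_e_rc_22_0 lc_e_rc_23_2 lc_e_rc_10_1 lc_e_rc_24_2 lc_e_rc_4_3 lc_e_rc_4_1 lc_e_rc_23_2 lc_e_rc_24_2 lc_e_rc_4_3 lc_e_Cert_tree lc_e_rc_4_1 lc_e_rc_4_1 lc_e_Cert_tree lc_e_rc_22_0 lc_e_rc_23_2 lc_e_rc_24_2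 lc_e_rc_23_2 lc_e_rc_24_2 lc_e_rc_4_3 lc_e_rc_15_3) (@D3.rec (fun _ => (Cert rels S Gen.e)) lc_e_rc_22_0 lc_e_rc_23_2 lc_e_rc_23_2 lc_e_rc_10_1 lc_e_rc_4_1 lc_e_rc_15_1 lc_e_rc_24_2 lc_e_rc_10_1 lc_e_rc_4_1 lc_e_Cert_tree lc_e_rc_24_2 lc_e_rc_22_0 lc_e_rc_23_2 lc_e_rc_19_3 lc_e_rc_23_2 lc_e_rc_10_1 lc_e_rc_24_2 lc_e_rc_10_1 lc_e_rc_24_2 lc_e_rc_4_1 lc_e_rc_15_1 lc_e_rc_24_2 lc_e_rc_10_1 lc_e_rc_10_1 lc_e_rc_4_1 lc_e_Cert_tree lc_e_rc_24_2 lc_e_rc_10_1 lc_e_rc_4_1 lc_e_rc_15_1 lc_e_rc_23_2 lc_e_rc_4_1 lc_e_rc_15_1 lc_e_rc_23_2 lc_e_rc_24_2 lc_e_rc_10_1 lc_e_Cert_tree lc_e_Cert_tree lc_e_rc_22_0 lc_e_rc_24_2) (@D3.rec (fun _ => (Cert rels S Gen.e)) lc_e_rc_10_1 lc_e_rc_4_1 lc_e_rc_15_1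 lc_e_rc_23_2 lc_e_rc_4_1 lc_e_rc_24_2 lc_e_Cert_tree lc_e_rc_23_2 lc_e_rc_24_2 lc_e_rc_4_1 lc_e_rc_4_1 lc_e_rc_4_1 lc_e_rc_15_1 lc_e_Cert_tree lc_e_rc_23_2 lc_e_rc_24_2 lc_e_rc_24_2 lc_e_rc_24_2 lc_e_rc_4_1 lc_e_Cert_tree lc_e_rc_23_2 lc_e_rc_24_2 lc_e_rc_22_0 lc_e_rc_24_2 lc_e_rc_10_1 lc_e_rc_15_1 lc_e_Cert_tree lc_e_rc_22_0 lc_e_rc_24_2 lc_e_rc_24_2 lc_e_rc_4_3 lc_e_rc_10_1 lc_e_rc_4_1 lc_e_rc_15_1 lc_e_rc_24_2 lc_e_rc_4_1 lc_e_rc_15_1 lc_e_rc_10_1 lc_e_rc_4_1 lc_e_rc_4_1) (@D3.rec (fun _ => (Cert rels S Gen.e)) lc_e_rc_15_1 lc_e_rc_24_2 lc_e_rc_10_1 lc_e_Cert_tree lc_e_rc_15_1 lc_e_Cert_tree lc_e_rc_22_0 lc_e_rc_23_2 lc_e_rc_24_2 lc_e_rc_10_1 lc_e_rc_10_1 lc_e_Cert_tree lc_e_rc_4_1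 lc_e_Cert_tree lc_e_rc_23_2 lc_e_rc_24_2 lc_e_Cert_tree lc_e_rc_22_0 lc_e_rc_10_1 lc_e_Cert_tree lc_e_rc_4_1 lc_e_rc_4_1 lc_e_Cert_tree lc_e_rc_22_0 lc_e_rc_23_2 lc_e_rc_24_2 lc_e_rc_24_2 lc_e_rc_4_3 lc_e_Cert_tree lc_e_rc_22_0 lc_e_rc_23_2 lc_e_rc_24_2 lc_e_rc_19_3 lc_e_rc_4_1 lc_e_rc_15_1 lc_e_rc_10_1 lc_e_rc_4_1 lc_e_rc_4_1 lc_e_rc_15_1 lc_e_rc_23_2) (@D3.rec (fun _ => (Cert rels S Gen.e)) lc_e_rc_10_1 lc_e_Cert_tree lc_e_rc_4_1 lc_e_Cert_tree lc_e_rc_22_0 lc_e_rc_24_2 lc_e_rc_4_3 lc_e_rc_10_1 lc_e_rc_10_1 lc_e_Cert_tree lc_e_rc_4_1 lc_e_Cert_tree lc_e_rc_23_2 lc_e_rc_24_2 lc_e_Cert_tree lc_e_rc_22_0 lc_e_rc_10_1 lc_e_Cert_tree lc_e_rc_4_1 lc_e_rc_4_1 lc_e_Cert_tree lc_e_rc_22_0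 lc_e_rc_23_2 lc_e_rc_24_2 lc_e_rc_24_2 lc_e_rc_4_3 lc_e_Cert_tree lc_e_rc_22_0 lc_e_rc_23_2 lc_e_rc_24_2 lc_e_rc_19_3 lc_e_rc_10_1 lc_e_rc_32_51 lc_e_rc_23_2 lc_e_rc_15_1 lc_e_rc_4_1 lc_e_Cert_tree lc_e_Cert_tree lc_e_rc_22_0 lc_e_rc_24_2) (@D3.rec (fun _ => (Cert rels S Gen.e)) lc_e_rc_15_3 lc_e_Cert_tree lc_e_rc_24_2 lc_e_Cert_tree lc_e_rc_22_0 lc_e_rc_23_2 lc_e_rc_24_2 lc_e_rc_19_3 lc_e_Cert_tree lc_e_Cert_tree lc_e_rc_22_0 lc_e_rc_4_3 lc_e_rc_4_1 lc_e_Cert_tree lc_e_rc_22_0 lc_e_rc_23_2 lc_e_rc_24_2 lc_e_rc_19_3 lc_e_rc_23_2 lc_e_rc_4_1 lc_e_rc_19_3 lc_e_rc_10_1 lc_e_rc_23_2 lc_e_rc_23_0 lc_e_rc_4_1 lc_e_Cert_tree lc_e_Cert_tree lc_e_rc_22_0 lc_e_rc_24_0 lc_e_rc_15_3 lc_e_Cert_tree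 lc_e_rc_15_1 lc_e_Cert_tree lc_e_rc_22_0 lc_e_rc_23_2 lc_e_rc_24_2 lc_e_rc_19_3 lc_e_rc_4_3 lc_e_Cert_tree lc_e_rc_4_1) (@D3.rec (fun _ => (Cert rels S Gen.e)) lc_e_Cert_tree lc_e_rc_22_0 lc_e_rc_23_2 lc_e_rc_24_2 lc_e_rc_19_3 lc_e_rc_19_3 lc_e_rc_10_1 lc_e_rc_10_1 lc_e_rc_4_1 lc_e_rc_10_1 lc_e_rc_24_2 lc_e_Cert_tree lc_e_rc_15_1 lc_e_rc_23_2 lc_e_rc_10_1 lc_e_rc_10_1 lc_e_rc_4_1 lc_e_rc_10_3 lc_e_rc_10_1 lc_e_rc_24_2 lc_e_rc_4_1 lc_e_Cert_tree lc_e_rc_24_2 lc_e_rc_15_3 lc_e_rc_24_2 lc_e_rc_10_1 lc_e_rc_22_0 lc_e_rc_24_2 lc_e_rc_10_1 lc_e_rc_4_1 lc_e_rc_24_0 lc_e_rc_23_2 lc_e_Cert_tree lc_e_rc_15_1 lc_e_rc_10_1 lc_e_rc_10_1 lc_e_rc_4_1 lc_e_rc_10_3 lc_e_rc_23_2 lc_e_rc_4_1) (@D3.rec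 (fun _ => (Cert rels S Gen.e)) lc_e_Cert_tree lc_e_rc_23_2 lc_e_rc_15_3 lc_e_rc_4_1 lc_e_rc_15_3 lc_e_rc_22_0 lc_e_rc_23_2 lc_e_rc_10_1 lc_e_rc_4_1 lc_e_rc_4_1 lc_e_rc_24_2 lc_e_rc_4_1 lc_e_rc_4_1 lc_e_rc_4_1 lc_e_rc_15_1 lc_e_rc_15_1 lc_e_rc_24_2 lc_e_rc_4_3 lc_e_rc_10_1 lc_e_rc_10_1 lc_e_rc_4_1 lc_e_rc_15_1 lc_e_rc_10_1 lc_e_rc_23_2 lc_e_rc_24_2 lc_e_rc_4_1 lc_e_rc_4_1 lc_e_rc_10_1 lc_e_rc_10_1 lc_e_rc_15_1 lc_e_rc_15_1 lc_e_rc_23_2 lc_e_rc_24_2 lc_e_rc_24_2 lc_e_rc_4_1 lc_e_rc_4_1 lc_e_rc_24_2 lc_e_rc_10_1 lc_e_rc_4_1 lc_e_rc_4_1) (@D3.rec (fun _ => (Cert rels S Gen.e)) lc_e_rc_10_1 lc_e_rc_4_1 lc_e_rc_15_1 lc_e_rc_24_2 lc_e_rc_4_1 lc_e_rc_15_1 lc_e_rc_23_2 lc_e_rc_4_1 lc_e_rc_4_1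 lc_e_rc_4_1 lc_e_rc_24_2 lc_e_rc_4_1 lc_e_rc_4_1 lc_e_rc_24_2 lc_e_rc_4_3 lc_e_rc_4_1 lc_e_rc_24_2 lc_e_rc_4_1 lc_e_rc_23_2 lc_e_rc_10_1 lc_e_rc_10_1 lc_e_rc_4_1 lc_e_rc_15_1 lc_e_rc_23_2 lc_e_rc_23_0 lc_e_rc_10_1 lc_e_rc_4_1 lc_e_rc_15_1 lc_e_rc_24_2 lc_e_rc_10_3 lc_e_rc_24_2 lc_e_rc_10_1 lc_e_rc_10_1 lc_e_rc_10_3 lc_e_rc_23_2 lc_e_rc_10_1 lc_e_rc_10_1 lc_e_rc_23_2 lc_e_rc_24_2 lc_e_rc_4_1) (@D3.rec (fun _ => (Cert rels S Gen.e)) lc_e_rc_10_1 lc_e_rc_24_2 lc_e_rc_4_1 lc_e_rc_10_1 lc_e_rc_23_2 lc_e_Cert_tree lc_e_Cert_tree lc_e_rc_10_1 lc_e_rc_10_1 lc_e_rc_4_1 lc_e_rc_23_2 lc_e_rc_24_2 lc_e_rc_4_1 lc_e_rc_24_2 lc_e_rc_4_3 lc_e_rc_10_1 lc_e_rc_4_1 lc_e_rc_4_1 lc_e_Cert_tree lc_e_rc_24_2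 lc_e_rc_4_3 lc_e_rc_10_1 lc_e_rc_4_1 lc_e_rc_4_1 lc_e_Cert_tree lc_e_rc_23_2 lc_e_rc_24_2 lc_e_rc_22_0 lc_e_rc_22_0 lc_e_rc_23_2 lc_e_rc_24_2 lc_e_rc_10_1 lc_e_rc_15_3 lc_e_rc_10_1 lc_e_rc_15_3 lc_e_rc_4_1 lc_e_rc_23_2 lc_e_rc_24_2 lc_e_rc_10_1 lc_e_rc_4_1) (@D3.rec (fun _ => (Cert rels S Gen.e)) lc_e_rc_24_2 lc_e_rc_4_1 lc_e_rc_10_1 lc_e_rc_4_1 lc_e_rc_15_1 lc_e_rc_24_2 lc_e_rc_15_1 lc_e_rc_4_1 lc_e_rc_15_1 lc_e_rc_23_2 lc_e_rc_23_0 lc_e_rc_10_1 lc_e_rc_4_1 lc_e_rc_4_1 lc_e_Cert_tree lc_e_rc_24_2 lc_e_rc_24_2 lc_e_rc_4_1 lc_e_rc_4_1 lc_e_rc_10_1 lc_e_rc_23_2 lc_e_rc_10_1 lc_e_rc_4_1 lc_e_rc_4_1 lc_e_Cert_tree lc_e_rc_23_2 lc_e_rc_23_2 lc_e_rc_24_2 lc_e_rc_4_1 lc_e_rc_10_1 lc_e_rc_24_2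 lc_e_rc_22_0 lc_e_rc_24_2 lc_e_rc_10_1 lc_e_Cert_tree lc_e_rc_22_0 lc_e_rc_23_2 lc_e_rc_10_1 lc_e_Cert_tree lc_e_rc_24_2) (@D3.rec (fun _ => (Cert rels S Gen.e)) lc_e_rc_4_3 lc_e_rc_22_0 lc_e_rc_22_0 lc_e_rc_23_2 lc_e_rc_24_2 lc_e_rc_4_3 lc_e_rc_23_2 lc_e_rc_24_2 lc_e_rc_10_1 lc_e_rc_24_2 lc_e_rc_10_1 lc_e_rc_23_2 lc_e_rc_10_1 lc_e_rc_10_1 lc_e_rc_4_1 lc_e_rc_15_1 lc_e_rc_24_2 lc_e_rc_10_1 lc_e_rc_4_1 lc_e_rc_15_1 lc_e_rc_23_2 lc_e_rc_10_1 lc_e_rc_10_1 lc_e_rc_4_1 lc_e_rc_24_2 lc_e_rc_10_1 lc_e_rc_4_1 lc_e_rc_15_1 lc_e_rc_23_2 lc_e_rc_10_1 lc_e_rc_4_1 lc_e_rc_4_3 lc_e_rc_10_1 lc_e_rc_4_1 lc_e_rc_15_1 lc_e_rc_24_2 lc_e_rc_4_1 lc_e_rc_15_1 lc_e_rc_24_2 lc_e_rc_10_1) (@D3.rec (fun _ =>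 (Cert rels S Gen.e)) lc_e_rc_4_1 lc_e_rc_15_1 lc_e_rc_23_2 lc_e_rc_10_1 lc_e_rc_4_1 lc_e_rc_4_3 lc_e_rc_24_2 lc_e_rc_24_2 lc_e_rc_19_3 lc_e_rc_4_1 lc_e_rc_23_2 lc_e_rc_24_2 lc_e_rc_24_2 lc_e_rc_23_2 lc_e_rc_23_2 lc_e_rc_4_1 lc_e_rc_10_3 lc_e_rc_24_2 lc_e_rc_24_2 lc_e_rc_10_1 lc_e_Cert_tree lc_e_rc_4_1 lc_e_rc_10_1 lc_e_rc_22_0 lc_e_rc_24_2 lc_e_rc_24_2 lc_e_rc_4_3 lc_e_rc_4_1 lc_e_rc_24_2 lc_e_rc_4_3 lc_e_rc_10_1 lc_e_rc_10_1 lc_e_rc_4_1 lc_e_rc_4_1 lc_e_Cert_tree lc_e_rc_23_2 lc_e_rc_24_2 lc_e_rc_23_2 lc_e_rc_10_1 lc_e_Cert_tree) (@D3.rec (fun _ => (Cert rels S Gen.e)) lc_e_rc_4_1 lc_e_rc_10_1 lc_e_rc_22_0 lc_e_rc_23_2 lc_e_rc_23_2 lc_e_rc_24_2 lc_e_rc_4_1 lc_e_rc_23_2 lc_e_rc_24_2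 lc_e_rc_10_1 lc_e_rc_10_1 lc_e_rc_4_1 lc_e_rc_4_1 lc_e_Cert_tree lc_e_rc_24_2 lc_e_rc_4_3 lc_e_rc_4_1 lc_e_rc_24_2 lc_e_rc_22_0 lc_e_Cert_tree lc_e_rc_22_0 lc_e_rc_24_2 lc_e_rc_24_2 lc_e_rc_10_1 lc_e_rc_4_1 lc_e_rc_23_2 lc_e_rc_22_0 lc_e_rc_4_1 lc_e_rc_23_2 lc_e_rc_22_0 lc_e_Cert_tree lc_e_rc_22_0 lc_e_rc_23_2 lc_e_rc_23_2 lc_e_rc_10_1 lc_e_rc_4_1 lc_e_rc_24_2 lc_e_rc_22_0 lc_e_rc_10_1 lc_e_rc_32_25)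
def ce_e_5 : D2 → D3 → (Cert rels S Gen.e) := @D2.rec (fun _ => D3 → (Cert rels S Gen.e)) (@D3.rec (fun _ => (Cert rels S Gen.e)) lc_e_rc_4_1 lc_e_rc_22_0 lc_e_rc_24_2 lc_e_rc_10_1 lc_e_Cert_tree lc_e_rc_22_0 lc_e_rc_10_1 lc_e_rc_32_25 lc_e_rc_4_1 lc_e_rc_22_0 lc_e_rc_23_2 lc_e_rc_10_1 lc_e_Cert_tree lc_e_rc_22_0 lc_e_rc_4_1 lc_e_rc_4_1 lc_e_rc_4_1 lc_e_rc_23_2 lc_e_rc_24_2 lc_e_rc_23_2 lc_e_rc_24_2 lc_e_rc_24_2 lc_e_rc_4_1 lc_e_rc_10_1 lc_e_rc_10_1 lc_e_rc_4_1 lc_e_rc_15_1 lc_e_rc_24_2 lc_e_rc_4_1 lc_e_rc_15_1 lc_e_rc_23_2 lc_e_rc_10_1 lc_e_rc_10_1 lc_e_rc_4_1 lc_e_rc_15_1 lc_e_rc_24_2 lc_e_rc_10_1 lc_e_rc_4_1 lc_e_rc_15_1 lc_e_rc_4_3) (@D3.rec (fun _ => (Cert rels S Gen.e)) lc_e_rc_10_1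 lc_e_rc_10_1 lc_e_rc_4_1 lc_e_Cert_tree lc_e_rc_24_2 lc_e_rc_10_1 lc_e_rc_4_1 lc_e_rc_15_1 lc_e_rc_23_2 lc_e_rc_10_1 lc_e_rc_4_1 lc_e_Cert_tree lc_e_rc_4_1 lc_e_rc_10_1 lc_e_rc_4_1 lc_e_rc_15_1 lc_e_rc_24_2 lc_e_rc_10_1 lc_e_rc_4_1 lc_e_rc_15_1 lc_e_rc_24_2 lc_e_rc_4_3 lc_e_rc_4_1 lc_e_rc_15_1 lc_e_rc_23_2 lc_e_rc_15_3 lc_e_rc_4_1 lc_e_rc_15_1 lc_e_rc_23_2 lc_e_rc_24_2 lc_e_rc_4_1 lc_e_rc_15_1 lc_e_rc_24_2 lc_e_rc_4_1 lc_e_rc_15_1 lc_e_rc_23_2 lc_e_rc_24_2 lc_e_rc_10_1 lc_e_Cert_tree lc_e_rc_4_1) (@D3.rec (fun _ => (Cert rels S Gen.e)) lc_e_rc_10_1 lc_e_rc_22_0 lc_e_rc_24_2 lc_e_rc_24_2 lc_e_rc_4_1 lc_e_rc_4_1 lc_e_rc_24_2 lc_e_rc_4_1 lc_e_rc_10_1 lc_e_rc_10_1 lc_e_rc_4_1 lc_e_rc_4_1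 lc_e_Cert_tree lc_e_rc_23_2 lc_e_rc_24_2 lc_e_rc_4_1 lc_e_rc_15_1 lc_e_rc_23_2 lc_e_rc_24_2 lc_e_rc_10_1 lc_e_Cert_tree lc_e_rc_4_1 lc_e_rc_10_1 lc_e_rc_22_0 lc_e_rc_23_2 lc_e_rc_23_2 lc_e_rc_24_2 lc_e_rc_4_1 lc_e_rc_23_2 lc_e_rc_24_2 lc_e_rc_10_1 lc_e_rc_10_1 lc_e_rc_4_1 lc_e_rc_4_1 lc_e_Cert_tree lc_e_rc_24_2 lc_e_rc_4_1 lc_e_rc_15_1 lc_e_rc_10_1 lc_e_rc_4_1) (@D3.rec (fun _ => (Cert rels S Gen.e)) lc_e_Cert_tree lc_e_rc_23_2 lc_e_rc_24_2 lc_e_rc_22_0 lc_e_rc_24_2 lc_e_rc_10_1 lc_e_rc_23_2 lc_e_rc_4_1 lc_e_rc_10_1 lc_e_rc_23_2 lc_e_rc_10_1 lc_e_rc_4_1 lc_e_Cert_tree lc_e_rc_10_1 lc_e_Cert_tree lc_e_Cert_tree lc_e_rc_22_0 lc_e_rc_15_1 lc_e_rc_10_1 lc_e_rc_4_1 lc_e_Cert_tree lc_e_rc_23_2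 lc_e_rc_24_2 lc_e_rc_22_0 lc_e_rc_23_2 lc_e_rc_10_1 lc_e_rc_24_2 lc_e_rc_4_1 lc_e_rc_10_1 lc_e_rc_24_2 lc_e_rc_10_1 lc_e_rc_4_1 lc_e_Cert_tree lc_e_rc_10_1 lc_e_Cert_tree lc_e_Cert_tree lc_e_rc_22_0 lc_e_rc_4_1 lc_e_rc_19_3 lc_e_rc_24_2) (@D3.rec (fun _ => (Cert rels S Gen.e)) lc_e_rc_22_0 lc_e_rc_10_1 lc_e_rc_23_2 lc_e_rc_15_1 lc_e_rc_15_1 lc_e_rc_19_5 lc_e_Cert_tree lc_e_rc_4_1 lc_e_rc_10_3 lc_e_rc_23_2 lc_e_rc_22_0 lc_e_rc_10_1 lc_e_rc_23_2 lc_e_rc_15_1 lc_e_rc_15_1 lc_e_rc_19_5 lc_e_Cert_tree lc_e_rc_10_1 lc_e_rc_10_1 lc_e_rc_4_1 lc_e_rc_23_2 lc_e_rc_24_2 lc_e_rc_10_1 lc_e_rc_4_1 lc_e_rc_24_2 lc_e_rc_4_3 lc_e_rc_10_1 lc_e_rc_10_1 lc_e_rc_4_1 lc_e_rc_4_1 lc_e_rc_24_2 lc_e_rc_4_3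 lc_e_rc_10_1 lc_e_rc_4_1 lc_e_rc_4_1 lc_e_rc_23_2 lc_e_rc_24_2 lc_e_rc_4_1 lc_e_rc_15_1 lc_e_rc_23_2) (@D3.rec (fun _ => (Cert rels S Gen.e)) lc_e_rc_24_2 lc_e_rc_22_0 lc_e_rc_24_2 lc_e_rc_10_1 lc_e_rc_4_1 lc_e_rc_15_1 lc_e_rc_23_2 lc_e_rc_10_1 lc_e_rc_4_1 lc_e_rc_24_2 lc_e_rc_10_3 lc_e_rc_23_2 lc_e_rc_24_2 lc_e_rc_4_1 lc_e_rc_15_1 lc_e_rc_23_2 lc_e_rc_24_2 lc_e_rc_22_0 lc_e_rc_23_2 lc_e_rc_10_1 lc_e_rc_4_1 lc_e_rc_15_1 lc_e_rc_24_2 lc_e_rc_24_2 lc_e_rc_4_1 lc_e_rc_4_1 lc_e_rc_4_3 lc_e_rc_24_2 lc_e_rc_4_3 lc_e_rc_4_1 lc_e_rc_4_1 lc_e_rc_4_1 lc_e_rc_15_1 lc_e_Cert_tree lc_e_rc_23_2 lc_e_rc_24_2 lc_e_rc_24_2 lc_e_rc_24_2 lc_e_rc_4_3 lc_e_Cert_tree) (@D3.rec (fun _ => (Cert rels S Gen.e))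 lc_e_rc_23_2 lc_e_rc_24_2 lc_e_rc_22_0 lc_e_rc_24_2 lc_e_rc_10_1 lc_e_rc_4_1 lc_e_rc_15_1 lc_e_rc_23_2 lc_e_rc_24_2 lc_e_rc_10_1 lc_e_rc_4_3 lc_e_rc_4_1 lc_e_rc_24_2 lc_e_rc_4_3 lc_e_rc_10_1 lc_e_rc_10_1 lc_e_rc_4_1 lc_e_rc_4_1 lc_e_rc_15_1 lc_e_rc_10_1 lc_e_rc_4_1 lc_e_rc_15_1 lc_e_rc_24_2 lc_e_rc_4_1 lc_e_rc_15_1 lc_e_rc_23_2 lc_e_rc_24_2 lc_e_rc_10_1 lc_e_rc_23_2 lc_e_rc_4_1 lc_e_rc_10_1 lc_e_rc_22_0 lc_e_rc_10_1 lc_e_rc_4_1 lc_e_rc_4_1 lc_e_rc_4_1 lc_e_rc_15_1 lc_e_Cert_tree lc_e_rc_23_2 lc_e_rc_24_2) (@D3.rec (fun _ => (Cert rels S Gen.e)) lc_e_rc_23_2 lc_e_rc_24_2 lc_e_rc_4_3 lc_e_Cert_tree lc_e_rc_23_2 lc_e_rc_24_2 lc_e_rc_22_0 lc_e_rc_23_2 lc_e_rc_10_1 lc_e_rc_4_1 lc_e_rc_15_1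 lc_e_rc_24_2 lc_e_rc_23_2 lc_e_rc_10_1 lc_e_rc_24_2 lc_e_rc_4_1 lc_e_rc_23_2 lc_e_rc_24_2 lc_e_rc_10_1 lc_e_rc_10_1 lc_e_rc_10_1 lc_e_rc_4_1 lc_e_rc_15_1 lc_e_rc_23_2 lc_e_rc_4_1 lc_e_rc_15_1 lc_e_rc_23_2 lc_e_rc_24_2 lc_e_rc_10_1 lc_e_rc_4_1 lc_e_rc_10_1 lc_e_rc_22_0 lc_e_rc_10_1 lc_e_rc_23_0 lc_e_rc_4_1 lc_e_rc_23_2 lc_e_rc_24_2 lc_e_rc_22_0 lc_e_Cert_tree lc_e_rc_4_1) (@D3.rec (fun _ => (Cert rels S Gen.e)) lc_e_rc_4_1 lc_e_rc_22_0 lc_e_rc_24_2 lc_e_rc_24_2 lc_e_rc_4_3 lc_e_rc_22_0 lc_e_rc_4_3 lc_e_rc_24_2 lc_e_rc_19_3 lc_e_rc_24_2 lc_e_rc_10_1 lc_e_rc_10_1 lc_e_rc_23_2 lc_e_rc_4_1 lc_e_rc_15_1 lc_e_rc_23_2 lc_e_rc_10_1 lc_e_rc_10_1 lc_e_rc_4_1 lc_e_rc_4_1 lc_e_Cert_tree lc_e_rc_23_2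 lc_e_rc_23_2 lc_e_rc_24_2 lc_e_rc_4_1 lc_e_rc_24_2 lc_e_rc_10_1 lc_e_Cert_tree lc_e_Cert_tree lc_e_rc_22_0 lc_e_rc_4_1 lc_e_Cert_tree lc_e_rc_23_2 lc_e_rc_24_2 lc_e_rc_22_0 lc_e_Cert_tree lc_e_rc_22_0 lc_e_rc_4_1 lc_e_rc_19_1 lc_e_rc_23_2) (@D3.rec (fun _ => (Cert rels S Gen.e)) lc_e_rc_24_2 lc_e_rc_22_0 lc_e_Cert_tree lc_e_rc_4_1 lc_e_rc_4_1 lc_e_rc_22_0 lc_e_rc_23_2 lc_e_rc_24_2 lc_e_rc_4_3 lc_e_rc_22_0 lc_e_rc_23_2 lc_e_rc_24_2 lc_e_rc_19_3 lc_e_rc_23_2 lc_e_rc_10_1 lc_e_rc_10_1 lc_e_rc_24_2 lc_e_rc_4_1 lc_e_rc_15_1 lc_e_rc_24_2 lc_e_rc_10_1 lc_e_rc_10_1 lc_e_rc_4_1 lc_e_rc_4_1 lc_e_Cert_tree lc_e_rc_24_2 lc_e_rc_24_2 lc_e_rc_4_3 lc_e_rc_4_1 lc_e_rc_23_2 lc_e_rc_10_1 lc_e_Cert_tree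 lc_e_Cert_tree lc_e_rc_22_0 lc_e_rc_4_1 lc_e_Cert_tree lc_e_rc_23_2 lc_e_rc_24_2 lc_e_rc_22_0 lc_e_Cert_tree) (@D3.rec (fun _ => (Cert rels S Gen.e)) lc_e_rc_22_0 lc_e_Cert_tree lc_e_rc_22_0 lc_e_rc_24_2 lc_e_rc_19_3 lc_e_Cert_tree lc_e_Cert_tree lc_e_rc_22_0 lc_e_rc_23_2 lc_e_rc_24_2 lc_e_rc_22_0 lc_e_rc_24_2 lc_e_rc_24_2 lc_e_rc_4_1 lc_e_rc_10_1 lc_e_rc_10_1 lc_e_rc_19_3 lc_e_rc_24_2 lc_e_rc_10_1 lc_e_rc_24_2 lc_e_rc_10_1 lc_e_rc_23_2 lc_e_rc_23_2 lc_e_rc_23_0 lc_e_rc_24_2 lc_e_rc_10_1 lc_e_rc_15_1 lc_e_rc_15_1 lc_e_Cert_tree lc_e_rc_15_3 lc_e_Cert_tree lc_e_rc_15_1 lc_e_Cert_tree lc_e_Cert_tree lc_e_rc_22_0 lc_e_rc_23_2 lc_e_rc_24_2 lc_e_rc_22_0 lc_e_Cert_tree lc_e_rc_22_0) (@D3.rec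 (fun _ => (Cert rels S Gen.e)) lc_e_rc_23_2 lc_e_rc_19_3 lc_e_Cert_tree lc_e_Cert_tree lc_e_rc_22_0 lc_e_rc_23_2 lc_e_rc_4_1 lc_e_rc_22_0 lc_e_rc_23_2 lc_e_rc_23_2 lc_e_rc_19_3 lc_e_rc_23_2 lc_e_rc_10_1 lc_e_rc_23_2 lc_e_rc_24_2 lc_e_rc_15_1 lc_e_rc_4_1 lc_e_rc_4_1 lc_e_rc_10_1 lc_e_rc_15_1 lc_e_rc_4_1 lc_e_Cert_tree lc_e_rc_10_1 lc_e_Cert_tree lc_e_rc_22_0 lc_e_Cert_tree lc_e_Cert_tree lc_e_rc_22_0 lc_e_rc_23_2 lc_e_rc_24_2 lc_e_rc_22_0 lc_e_Cert_tree lc_e_rc_22_0 lc_e_rc_24_2 lc_e_rc_23_2 lc_e_rc_24_2 lc_e_rc_10_1 lc_e_rc_24_2 lc_e_rc_24_2 lc_e_rc_10_1) (@D3.rec (fun _ => (Cert rels S Gen.e)) lc_e_rc_10_1 lc_e_rc_4_1 lc_e_rc_15_1 lc_e_rc_23_2 lc_e_rc_19_3 lc_e_rc_4_1 lc_e_rc_15_1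 lc_e_rc_23_2 lc_e_rc_24_2 lc_e_rc_4_1 lc_e_rc_24_2 lc_e_Cert_tree lc_e_rc_4_1 lc_e_rc_4_1 lc_e_Cert_tree lc_e_rc_10_1 lc_e_Cert_tree lc_e_Cert_tree lc_e_rc_22_0 lc_e_rc_23_2 lc_e_rc_10_1 lc_e_Cert_tree lc_e_rc_22_0 lc_e_rc_23_2 lc_e_rc_24_2 lc_e_rc_10_1 lc_e_rc_23_2 lc_e_rc_24_2 lc_e_rc_24_2 lc_e_rc_24_2 lc_e_Cert_tree lc_e_rc_22_0 lc_e_rc_23_2 lc_e_rc_23_2 lc_e_rc_24_2 lc_e_rc_10_1 lc_e_rc_24_0 lc_e_rc_23_2 lc_e_rc_4_1 lc_e_rc_10_1) (@D3.rec (fun _ => (Cert rels S Gen.e)) lc_e_rc_15_3 lc_e_rc_4_1 lc_e_rc_24_2 lc_e_rc_23_2 lc_e_rc_4_1 lc_e_rc_4_1 lc_e_Cert_tree lc_e_rc_24_2 lc_e_rc_4_1 lc_e_Cert_tree lc_e_rc_10_1 lc_e_rc_22_0 lc_e_rc_24_2 lc_e_rc_10_1 lc_e_Cert_tree lc_e_rc_22_0 lc_e_rc_23_2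 lc_e_rc_24_2 lc_e_rc_10_1 lc_e_rc_23_2 lc_e_rc_24_2 lc_e_rc_24_2 lc_e_rc_24_2 lc_e_rc_4_1 lc_e_rc_4_1 lc_e_rc_24_2 lc_e_rc_4_1 lc_e_rc_4_1 lc_e_rc_4_1 lc_e_rc_10_1 lc_e_rc_10_1 lc_e_rc_19_3 lc_e_rc_15_1 lc_e_rc_15_1 lc_e_rc_24_2 lc_e_rc_4_1 lc_e_rc_10_1 lc_e_rc_10_1 lc_e_rc_23_2 lc_e_rc_24_2) (@D3.rec (fun _ => (Cert rels S Gen.e)) lc_e_rc_10_1 lc_e_rc_10_1 lc_e_rc_15_1 lc_e_rc_15_1 lc_e_rc_10_1 lc_e_rc_15_1 lc_e_rc_4_1 lc_e_rc_24_2 lc_e_rc_10_1 lc_e_rc_4_1 lc_e_rc_4_1 lc_e_rc_10_1 lc_e_rc_10_1 lc_e_rc_10_1 lc_e_rc_15_1 lc_e_rc_4_1 lc_e_rc_24_2 lc_e_rc_23_0 lc_e_rc_24_0 lc_e_rc_23_2 lc_e_rc_10_1 lc_e_rc_4_1 lc_e_rc_4_1 lc_e_rc_10_1 lc_e_rc_4_1 lc_e_rc_24_2 lc_e_rc_15_3 lc_e_rc_24_2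 lc_e_rc_23_2 lc_e_rc_24_2 lc_e_rc_10_1 lc_e_rc_19_3 lc_e_rc_4_3 lc_e_rc_4_3 lc_e_rc_15_1 lc_e_rc_24_2 lc_e_rc_15_1 lc_e_rc_23_2 lc_e_rc_4_3 lc_e_rc_22_0) (@D3.rec (fun _ => (Cert rels S Gen.e)) lc_e_rc_23_2 lc_e_rc_24_2 lc_e_rc_23_2 lc_e_rc_24_2 lc_e_rc_24_2 lc_e_rc_4_3 lc_e_rc_10_1 lc_e_rc_24_2 lc_e_rc_10_1 lc_e_rc_4_1 lc_e_rc_24_2 lc_e_rc_10_1 lc_e_rc_23_2 lc_e_rc_10_1 lc_e_rc_10_1 lc_e_rc_4_1 lc_e_rc_15_1 lc_e_rc_23_2 lc_e_rc_10_1 lc_e_rc_4_1 lc_e_rc_15_1 lc_e_rc_24_2 lc_e_rc_4_1 lc_e_rc_15_1 lc_e_rc_24_2 lc_e_rc_4_1 lc_e_rc_15_1 lc_e_rc_23_2 lc_e_rc_10_1 lc_e_rc_4_1 lc_e_rc_4_1 lc_e_rc_24_2 lc_e_rc_4_3 lc_e_rc_10_1 lc_e_rc_4_1 lc_e_rc_24_2 lc_e_rc_23_2 lc_e_rc_24_2 lc_e_rc_23_2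 lc_e_rc_24_2) (@D3.rec (fun _ => (Cert rels S Gen.e)) lc_e_rc_10_1 lc_e_rc_10_1 lc_e_rc_23_2 lc_e_rc_24_2 lc_e_rc_10_1 lc_e_rc_10_1 lc_e_rc_4_1 lc_e_rc_15_1 lc_e_rc_24_2 lc_e_rc_4_1 lc_e_rc_15_1 lc_e_rc_23_2 lc_e_rc_10_1 lc_e_rc_4_1 lc_e_Cert_tree lc_e_rc_24_2 lc_e_rc_10_1 lc_e_rc_4_1 lc_e_rc_15_1 lc_e_rc_23_2 lc_e_rc_10_1 lc_e_rc_4_1 lc_e_Cert_tree lc_e_rc_4_1 lc_e_rc_10_1 lc_e_rc_4_1 lc_e_rc_15_1 lc_e_rc_24_2 lc_e_rc_24_2 lc_e_rc_10_1 lc_e_rc_23_2 lc_e_rc_10_1 lc_e_rc_10_1 lc_e_rc_4_1 lc_e_Cert_tree lc_e_rc_24_2 lc_e_rc_24_2 lc_e_rc_4_1 lc_e_rc_24_0 lc_e_rc_24_0) (@D3.rec (fun _ => (Cert rels S Gen.e)) lc_e_rc_24_2 lc_e_rc_10_1 lc_e_rc_24_0 lc_e_Cert_tree lc_e_rc_4_1 lc_e_rc_23_2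 lc_e_rc_4_1 lc_e_rc_24_0 lc_e_rc_24_0 lc_e_rc_10_3 lc_e_rc_4_1 lc_e_rc_15_1 lc_e_rc_23_2 lc_e_rc_24_2 lc_e_rc_10_1 lc_e_Cert_tree lc_e_rc_4_1 lc_e_rc_10_1 lc_e_Cert_tree lc_e_rc_22_0 lc_e_rc_24_2 lc_e_rc_4_1 lc_e_rc_4_1 lc_e_rc_24_2 lc_e_rc_4_1 lc_e_rc_10_1 lc_e_rc_10_1 lc_e_rc_4_1 lc_e_rc_4_1 lc_e_Cert_tree lc_e_rc_23_2 lc_e_rc_24_2 lc_e_rc_4_1 lc_e_rc_15_1 lc_e_rc_23_2 lc_e_rc_24_2 lc_e_rc_10_1 lc_e_Cert_tree lc_e_rc_4_1 lc_e_rc_10_1) (@D3.rec (fun _ => (Cert rels S Gen.e)) lc_e_Cert_tree lc_e_rc_22_0 lc_e_rc_23_2 lc_e_rc_24_2 lc_e_rc_4_1 lc_e_rc_23_2 lc_e_rc_24_2 lc_e_rc_10_1 lc_e_rc_10_1 lc_e_rc_4_1 lc_e_rc_4_1 lc_e_Cert_tree lc_e_rc_24_2 lc_e_rc_4_1 lc_e_rc_10_1 lc_e_Cert_tree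 lc_e_Cert_tree lc_e_rc_22_0 lc_e_rc_10_1 lc_e_Cert_tree lc_e_Cert_tree lc_e_rc_22_0 lc_e_rc_15_1 lc_e_rc_19_5 lc_e_Cert_tree lc_e_rc_15_1 lc_e_rc_19_5 lc_e_Cert_tree lc_e_rc_24_2 lc_e_rc_19_1 lc_e_rc_4_1 lc_e_rc_4_1 lc_e_rc_15_1 lc_e_rc_10_1 lc_e_rc_4_1 lc_e_rc_15_1 lc_e_rc_19_1 lc_e_rc_15_1 lc_e_rc_19_1 lc_e_rc_4_1) (@D3.rec (fun _ => (Cert rels S Gen.e)) lc_e_rc_15_1 lc_e_rc_10_1 lc_e_rc_24_2 lc_e_rc_10_1 lc_e_Cert_tree lc_e_rc_22_0 lc_e_rc_24_2 lc_e_rc_10_1 lc_e_rc_4_1 lc_e_rc_15_1 lc_e_rc_23_2 lc_e_rc_4_3 lc_e_rc_4_1 lc_e_rc_24_2 lc_e_Cert_tree lc_e_rc_23_2 lc_e_rc_24_2 lc_e_rc_23_2 lc_e_rc_10_1 lc_e_Cert_tree lc_e_rc_22_0 lc_e_rc_23_2 lc_e_rc_10_1 lc_e_rc_4_1 lc_e_rc_15_1 lc_e_rc_24_2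 lc_e_rc_24_2 lc_e_rc_4_1 lc_e_rc_4_1 lc_e_Cert_tree lc_e_rc_24_2 lc_e_rc_4_3 lc_e_rc_19_1 lc_e_rc_23_2 lc_e_rc_4_1 lc_e_rc_4_1 lc_e_rc_4_1 lc_e_rc_4_1 lc_e_rc_4_1 lc_e_rc_24_2) (@D3.rec (fun _ => (Cert rels S Gen.e)) lc_e_rc_24_2 lc_e_rc_4_1 lc_e_rc_15_1 lc_e_rc_23_2 lc_e_rc_4_1 lc_e_rc_23_2 lc_e_rc_23_2 lc_e_rc_4_1 lc_e_rc_15_1 lc_e_rc_24_2 lc_e_rc_23_2 lc_e_rc_10_1 lc_e_rc_22_0 lc_e_rc_24_2 lc_e_rc_24_2 lc_e_rc_15_1 lc_e_rc_4_1 lc_e_rc_24_2 lc_e_rc_23_2 lc_e_rc_10_1 lc_e_rc_10_1 lc_e_rc_4_1 lc_e_rc_4_1 lc_e_Cert_tree lc_e_rc_23_2 lc_e_rc_23_2 lc_e_rc_24_2 lc_e_rc_10_1 lc_e_rc_22_0 lc_e_rc_23_2 lc_e_rc_4_1 lc_e_rc_15_1 lc_e_rc_4_1 lc_e_rc_23_2 lc_e_rc_24_2 lc_e_rc_10_1 lc_e_rc_10_1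 lc_e_rc_4_1 lc_e_rc_4_1 lc_e_Cert_tree) (@D3.rec (fun _ => (Cert rels S Gen.e)) lc_e_rc_24_2 lc_e_rc_19_1 lc_e_rc_4_1 lc_e_rc_24_2 lc_e_rc_24_2 lc_e_rc_24_2 lc_e_rc_4_3 lc_e_Cert_tree lc_e_rc_22_0 lc_e_rc_24_2 lc_e_rc_10_1 lc_e_rc_4_1 lc_e_rc_15_1 lc_e_rc_23_2 lc_e_rc_22_0 lc_e_rc_24_2 lc_e_rc_24_2 lc_e_rc_4_3 lc_e_rc_10_1 lc_e_rc_10_1 lc_e_rc_4_1 lc_e_Cert_tree lc_e_rc_4_3 lc_e_rc_10_1 lc_e_rc_4_1 lc_e_rc_15_1 lc_e_rc_24_2 lc_e_rc_4_1 lc_e_rc_15_1 lc_e_rc_23_2 lc_e_rc_24_2 lc_e_rc_10_1 lc_e_Cert_tree lc_e_rc_4_1 lc_e_rc_10_1 lc_e_Cert_tree lc_e_rc_22_0 lc_e_rc_23_2 lc_e_rc_24_2 lc_e_rc_10_1) (@D3.rec (fun _ => (Cert rels S Gen.e)) lc_e_rc_4_1 lc_e_rc_23_2 lc_e_rc_23_2 lc_e_rc_24_2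 lc_e_rc_4_3 lc_e_Cert_tree lc_e_rc_22_0 lc_e_rc_23_2 lc_e_rc_10_1 lc_e_rc_4_1 lc_e_rc_15_1 lc_e_rc_24_2 lc_e_rc_22_0 lc_e_rc_23_2 lc_e_rc_23_2 lc_e_rc_24_2 lc_e_rc_10_1 lc_e_rc_10_1 lc_e_rc_4_1 lc_e_Cert_tree lc_e_rc_24_2 lc_e_rc_10_1 lc_e_rc_4_1 lc_e_rc_15_1 lc_e_rc_23_2 lc_e_rc_4_1 lc_e_rc_15_1 lc_e_rc_23_2 lc_e_rc_24_2 lc_e_rc_10_1 lc_e_Cert_tree lc_e_rc_4_1 lc_e_rc_10_1 lc_e_Cert_tree lc_e_rc_22_0 lc_e_rc_24_2 lc_e_rc_4_3 lc_e_rc_10_1 lc_e_rc_22_0 lc_e_rc_4_1) (@D3.rec (fun _ => (Cert rels S Gen.e)) lc_e_rc_4_1 lc_e_Cert_tree lc_e_rc_23_2 lc_e_rc_24_2 lc_e_rc_22_0 lc_e_Cert_tree lc_e_rc_22_0 lc_e_rc_22_0 lc_e_rc_4_1 lc_e_rc_4_1 lc_e_Cert_tree lc_e_rc_23_2 lc_e_rc_24_2 lc_e_rc_22_0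 lc_e_Cert_tree lc_e_rc_22_0 lc_e_Cert_tree lc_e_rc_15_1 lc_e_Cert_tree lc_e_rc_22_0 lc_e_rc_23_2 lc_e_rc_24_2 lc_e_rc_23_0 lc_e_rc_19_3 lc_e_rc_15_3 lc_e_Cert_tree lc_e_rc_23_2 lc_e_rc_23_2 lc_e_rc_22_0 lc_e_Cert_tree lc_e_rc_15_1 lc_e_Cert_tree lc_e_rc_22_0 lc_e_rc_23_2 lc_e_rc_24_2 lc_e_rc_24_0 lc_e_rc_19_3 lc_e_rc_4_1 lc_e_Cert_tree lc_e_rc_24_2) (@D3.rec (fun _ => (Cert rels S Gen.e)) lc_e_rc_24_2 lc_e_rc_22_0 lc_e_rc_10_1 lc_e_rc_10_1 lc_e_rc_23_2 lc_e_rc_24_2 lc_e_rc_24_2 lc_e_rc_4_1 lc_e_rc_24_2 lc_e_rc_4_1 lc_e_rc_10_3 lc_e_rc_4_1 lc_e_rc_4_1 lc_e_rc_23_2 lc_e_rc_24_2 lc_e_rc_10_1 lc_e_rc_10_1 lc_e_rc_4_1 lc_e_rc_15_1 lc_e_rc_24_2 lc_e_rc_4_1 lc_e_rc_15_1 lc_e_rc_23_2 lc_e_rc_10_1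 lc_e_rc_4_1 lc_e_rc_4_1 lc_e_rc_24_2 lc_e_rc_10_1 lc_e_rc_4_1 lc_e_rc_23_0 lc_e_rc_23_2 lc_e_rc_10_1 lc_e_rc_24_2 lc_e_rc_10_1 lc_e_rc_10_1 lc_e_rc_23_2 lc_e_rc_10_1 lc_e_rc_10_1 lc_e_rc_15_1 lc_e_Cert_tree) (@D3.rec (fun _ => (Cert rels S Gen.e)) lc_e_rc_15_1 lc_e_rc_10_1 lc_e_rc_4_1 lc_e_rc_15_1 lc_e_rc_23_2 lc_e_rc_10_1 lc_e_rc_15_1 lc_e_Cert_tree lc_e_rc_15_1 lc_e_rc_10_1 lc_e_rc_4_1 lc_e_rc_15_1 lc_e_rc_24_2 lc_e_rc_4_1 lc_e_rc_15_1 lc_e_rc_23_2 lc_e_rc_24_2 lc_e_rc_10_1 lc_e_Cert_tree lc_e_Cert_tree lc_e_rc_22_0 lc_e_rc_24_2 lc_e_rc_10_1 lc_e_rc_4_1 lc_e_rc_15_1 lc_e_rc_23_2 lc_e_rc_4_1 lc_e_rc_4_1 lc_e_rc_24_0 lc_e_Cert_tree lc_e_rc_23_2 lc_e_rc_24_2 lc_e_rc_4_1 lc_e_rc_15_1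 lc_e_rc_23_2 lc_e_rc_24_2 lc_e_rc_10_1 lc_e_Cert_tree lc_e_Cert_tree lc_e_rc_22_0)
def ce_e_6 : D2 → D3 → (Cert rels S Gen.e) := @D2.rec (fun _ => D3 → (Cert rels S Gen.e)) (@D3.rec (fun _ => (Cert rels S Gen.e)) lc_e_rc_23_2 lc_e_rc_10_1 lc_e_rc_4_1 lc_e_rc_15_1 lc_e_rc_24_2 lc_e_rc_24_0 lc_e_rc_4_1 lc_e_rc_4_1 lc_e_Cert_tree lc_e_rc_24_2 lc_e_rc_4_1 lc_e_rc_23_2 lc_e_rc_24_2 lc_e_rc_10_1 lc_e_rc_10_1 lc_e_rc_15_1 lc_e_rc_10_1 lc_e_Cert_tree lc_e_rc_22_0 lc_e_rc_24_2 lc_e_rc_10_1 lc_e_rc_15_1 lc_e_rc_10_1 lc_e_rc_23_2 lc_e_rc_24_2 lc_e_rc_10_1 lc_e_rc_10_1 lc_e_rc_15_1 lc_e_rc_10_1 lc_e_Cert_tree lc_e_rc_22_0 lc_e_rc_23_2 lc_e_rc_10_1 lc_e_rc_15_1 lc_e_rc_10_1 lc_e_rc_4_1 lc_e_rc_4_1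 lc_e_rc_24_2 lc_e_rc_24_2 lc_e_rc_4_1) (@D3.rec (fun _ => (Cert rels S Gen.e)) lc_e_Cert_tree lc_e_rc_23_2 lc_e_rc_24_2 lc_e_Cert_tree lc_e_rc_22_0 lc_e_rc_24_2 lc_e_rc_10_1 lc_e_rc_4_1 lc_e_rc_15_1 lc_e_rc_23_2 lc_e_Cert_tree lc_e_rc_22_0 lc_e_rc_24_2 lc_e_rc_24_2 lc_e_rc_10_1 lc_e_rc_4_3 lc_e_rc_4_1 lc_e_rc_4_1 lc_e_rc_10_1 lc_e_rc_4_1 lc_e_rc_15_1 lc_e_rc_24_2 lc_e_rc_4_1 lc_e_rc_4_1 lc_e_rc_23_2 lc_e_rc_24_2 lc_e_rc_4_1 lc_e_Cert_tree lc_e_rc_23_2 lc_e_rc_24_2 lc_e_Cert_tree lc_e_rc_22_0 lc_e_rc_23_2 lc_e_rc_10_1 lc_e_rc_4_1 lc_e_rc_15_1 lc_e_rc_24_2 lc_e_Cert_tree lc_e_rc_22_0 lc_e_rc_23_2) (@D3.rec (fun _ => (Cert rels S Gen.e)) lc_e_rc_23_2 lc_e_rc_10_1 lc_e_rc_24_2 lc_e_rc_4_1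 lc_e_rc_24_2 lc_e_rc_10_1 lc_e_rc_4_1 lc_e_rc_15_1 lc_e_rc_23_2 lc_e_rc_10_1 lc_e_Cert_tree lc_e_rc_4_1 lc_e_rc_4_1 lc_e_Cert_tree lc_e_rc_22_0 lc_e_rc_23_2 lc_e_rc_24_2 lc_e_rc_24_2 lc_e_rc_24_2 lc_e_rc_4_1 lc_e_rc_4_1 lc_e_rc_23_2 lc_e_rc_10_1 lc_e_rc_4_1 lc_e_rc_15_1 lc_e_rc_23_2 lc_e_rc_10_1 lc_e_rc_4_1 lc_e_rc_24_2 lc_e_rc_10_1 lc_e_Cert_tree lc_e_rc_4_1 lc_e_rc_4_1 lc_e_Cert_tree lc_e_rc_22_0 lc_e_rc_23_2 lc_e_rc_24_2 lc_e_rc_23_2 lc_e_rc_24_2 lc_e_rc_4_1) (@D3.rec (fun _ => (Cert rels S Gen.e)) lc_e_rc_4_1 lc_e_rc_24_2 lc_e_rc_10_1 lc_e_rc_4_1 lc_e_rc_15_1 lc_e_rc_24_2 lc_e_rc_10_1 lc_e_rc_4_1 lc_e_rc_4_1 lc_e_rc_10_1 lc_e_Cert_tree lc_e_rc_15_1 lc_e_rc_24_2 lc_e_Cert_tree lc_e_rc_22_0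 lc_e_rc_23_2 lc_e_rc_24_2 lc_e_rc_24_2 lc_e_rc_24_0 lc_e_rc_10_1 lc_e_Cert_tree lc_e_rc_4_1 lc_e_rc_4_1 lc_e_Cert_tree lc_e_rc_22_0 lc_e_rc_23_2 lc_e_rc_24_2 lc_e_rc_24_2 lc_e_rc_4_1 lc_e_rc_15_1 lc_e_rc_10_3 lc_e_rc_15_1 lc_e_rc_10_3 lc_e_rc_23_2 lc_e_rc_24_2 lc_e_rc_15_3 lc_e_rc_4_1 lc_e_rc_23_2 lc_e_rc_15_3 lc_e_rc_4_3) (@D3.rec (fun _ => (Cert rels S Gen.e)) lc_e_rc_4_3 lc_e_rc_24_2 lc_e_rc_4_3 lc_e_rc_10_3 lc_e_rc_10_3 lc_e_rc_4_1 lc_e_rc_15_1 lc_e_Cert_tree lc_e_rc_23_2 lc_e_rc_24_2 lc_e_rc_24_2 lc_e_rc_4_3 lc_e_rc_4_1 lc_e_Cert_tree lc_e_rc_23_2 lc_e_rc_24_2 lc_e_rc_22_0 lc_e_rc_22_0 lc_e_rc_24_2 lc_e_rc_24_2 lc_e_rc_10_1 lc_e_rc_4_1 lc_e_rc_15_1 lc_e_rc_23_2 lc_e_rc_4_3 lc_e_rc_4_1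 lc_e_rc_15_1 lc_e_rc_23_2 lc_e_rc_4_3 lc_e_rc_10_1 lc_e_rc_10_1 lc_e_rc_24_2 lc_e_rc_4_1 lc_e_rc_22_0 lc_e_rc_23_2 lc_e_rc_24_2 lc_e_rc_4_1 lc_e_rc_15_1 lc_e_Cert_tree lc_e_rc_23_2) (@D3.rec (fun _ => (Cert rels S Gen.e)) lc_e_rc_24_2 lc_e_rc_24_2 lc_e_rc_4_3 lc_e_rc_4_1 lc_e_Cert_tree lc_e_rc_23_2 lc_e_rc_24_2 lc_e_rc_22_0 lc_e_rc_22_0 lc_e_rc_23_2 lc_e_rc_23_2 lc_e_rc_10_1 lc_e_rc_4_1 lc_e_rc_15_1 lc_e_rc_24_2 lc_e_rc_24_2 lc_e_rc_4_1 lc_e_rc_10_1 lc_e_rc_24_2 lc_e_rc_24_2 lc_e_rc_10_1 lc_e_rc_10_1 lc_e_rc_4_1 lc_e_rc_19_1 lc_e_rc_22_0 lc_e_rc_24_2 lc_e_rc_4_3 lc_e_rc_24_2 lc_e_rc_24_2 lc_e_rc_24_2 lc_e_rc_22_0 lc_e_rc_4_3 lc_e_rc_24_2 lc_e_rc_24_2 lc_e_rc_10_1 lc_e_rc_4_1 lc_e_rc_15_1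 lc_e_rc_23_2 lc_e_rc_10_1 lc_e_rc_23_2) (@D3.rec (fun _ => (Cert rels S Gen.e)) lc_e_rc_10_1 lc_e_rc_23_0 lc_e_rc_4_1 lc_e_rc_4_3 lc_e_rc_22_0 lc_e_rc_24_2 lc_e_rc_4_1 lc_e_rc_24_2 lc_e_rc_23_2 lc_e_rc_10_1 lc_e_rc_4_1 lc_e_rc_4_1 lc_e_rc_10_1 lc_e_rc_10_1 lc_e_rc_10_1 lc_e_rc_4_1 lc_e_rc_15_1 lc_e_rc_24_2 lc_e_rc_4_1 lc_e_rc_4_3 lc_e_rc_24_2 lc_e_rc_4_3 lc_e_rc_24_2 lc_e_rc_10_1 lc_e_rc_22_0 lc_e_rc_24_2 lc_e_rc_23_2 lc_e_rc_23_2 lc_e_rc_10_1 lc_e_rc_4_1 lc_e_rc_15_1 lc_e_rc_24_2 lc_e_rc_10_1 lc_e_rc_15_1 lc_e_rc_19_1 lc_e_rc_24_2 lc_e_rc_4_3 lc_e_rc_22_0 lc_e_rc_23_2 lc_e_rc_10_1) (@D3.rec (fun _ => (Cert rels S Gen.e)) lc_e_rc_23_2 lc_e_rc_24_2 lc_e_rc_10_1 lc_e_rc_24_2 lc_e_rc_4_1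 lc_e_rc_10_1 lc_e_rc_10_1 lc_e_rc_10_1 lc_e_rc_4_1 lc_e_rc_15_1 lc_e_rc_23_2 lc_e_rc_4_1 lc_e_rc_4_3 lc_e_rc_23_2 lc_e_rc_24_2 lc_e_rc_24_2 lc_e_Cert_tree lc_e_rc_22_0 lc_e_rc_23_2 lc_e_rc_24_2 lc_e_rc_10_1 lc_e_rc_10_1 lc_e_rc_22_0 lc_e_rc_24_2 lc_e_rc_23_2 lc_e_rc_24_2 lc_e_rc_24_2 lc_e_rc_10_1 lc_e_rc_24_2 lc_e_rc_10_1 lc_e_rc_4_1 lc_e_rc_4_3 lc_e_rc_10_1 lc_e_rc_10_1 lc_e_rc_4_1 lc_e_rc_10_1 lc_e_rc_4_1 lc_e_rc_24_2 lc_e_rc_10_1 lc_e_rc_24_2) (@D3.rec (fun _ => (Cert rels S Gen.e)) lc_e_rc_10_1 lc_e_rc_10_1 lc_e_rc_4_1 lc_e_rc_15_1 lc_e_rc_23_2 lc_e_rc_4_1 lc_e_rc_15_1 lc_e_rc_23_2 lc_e_rc_10_1 lc_e_rc_4_1 lc_e_rc_24_2 lc_e_rc_23_2 lc_e_rc_24_2 lc_e_rc_10_1 lc_e_rc_23_2 lc_e_Cert_tree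 lc_e_rc_22_0 lc_e_rc_23_2 lc_e_rc_24_2 lc_e_rc_10_1 lc_e_rc_10_1 lc_e_rc_22_0 lc_e_rc_23_2 lc_e_rc_23_2 lc_e_rc_24_2 lc_e_rc_10_1 lc_e_rc_24_2 lc_e_rc_24_2 lc_e_rc_4_1 lc_e_rc_24_2 lc_e_rc_10_1 lc_e_rc_10_1 lc_e_rc_10_1 lc_e_rc_4_1 lc_e_rc_10_1 lc_e_rc_4_1 lc_e_rc_4_3 lc_e_rc_10_1 lc_e_rc_23_2 lc_e_rc_10_1) (@D3.rec (fun _ => (Cert rels S Gen.e)) lc_e_rc_10_1 lc_e_rc_4_1 lc_e_rc_15_1 lc_e_rc_24_2 lc_e_rc_4_1 lc_e_rc_15_1 lc_e_rc_24_2 lc_e_rc_10_1 lc_e_rc_23_2 lc_e_rc_24_2 lc_e_rc_10_1 lc_e_rc_4_3 lc_e_rc_23_2 lc_e_rc_22_0 lc_e_rc_10_1 lc_e_rc_19_5 lc_e_rc_23_2 lc_e_rc_23_2 lc_e_rc_22_0 lc_e_rc_23_2 lc_e_rc_10_1 lc_e_rc_22_0 lc_e_rc_24_2 lc_e_rc_19_3 lc_e_rc_24_2 lc_e_rc_19_3 lc_e_rc_23_2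 lc_e_rc_24_2 lc_e_rc_24_2 lc_e_rc_10_1 lc_e_rc_15_1 lc_e_rc_23_2 lc_e_rc_24_2 lc_e_rc_24_2 lc_e_rc_10_1 lc_e_rc_4_1 lc_e_rc_23_2 lc_e_rc_4_1 lc_e_rc_15_1 lc_e_rc_23_2) (@D3.rec (fun _ => (Cert rels S Gen.e)) lc_e_rc_10_1 lc_e_rc_24_2 lc_e_rc_10_1 lc_e_rc_15_1 lc_e_rc_23_2 lc_e_rc_10_1 lc_e_rc_4_1 lc_e_rc_15_1 lc_e_rc_23_2 lc_e_rc_4_1 lc_e_rc_24_2 lc_e_Cert_tree lc_e_rc_23_2 lc_e_rc_19_1 lc_e_Cert_tree lc_e_rc_10_1 lc_e_Cert_tree lc_e_Cert_tree lc_e_rc_22_0 lc_e_rc_4_3 lc_e_rc_24_2 lc_e_rc_22_0 lc_e_rc_10_1 lc_e_rc_19_5 lc_e_rc_19_5 lc_e_rc_24_2 lc_e_rc_22_0 lc_e_rc_10_1 lc_e_rc_24_2 lc_e_rc_22_0 lc_e_rc_23_2 lc_e_rc_19_3 lc_e_rc_23_2 lc_e_rc_19_3 lc_e_rc_23_2 lc_e_rc_24_2 lc_e_rc_10_1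 lc_e_rc_23_2 lc_e_rc_15_1 lc_e_rc_23_2) (@D3.rec (fun _ => (Cert rels S Gen.e)) lc_e_rc_24_2 lc_e_rc_10_1 lc_e_rc_24_2 lc_e_rc_4_1 lc_e_rc_15_1 lc_e_rc_24_2 lc_e_rc_23_2 lc_e_rc_10_1 lc_e_rc_15_1 lc_e_rc_24_2 lc_e_rc_10_1 lc_e_rc_4_1 lc_e_rc_15_1 lc_e_rc_24_2 lc_e_rc_4_1 lc_e_Cert_tree lc_e_rc_24_2 lc_e_rc_24_2 lc_e_Cert_tree lc_e_rc_10_1 lc_e_rc_22_0 lc_e_rc_15_1 lc_e_rc_23_2 lc_e_rc_24_2 lc_e_rc_19_1 lc_e_rc_19_1 lc_e_rc_24_2 lc_e_rc_10_3 lc_e_rc_24_2 lc_e_rc_24_2 lc_e_rc_24_2 lc_e_rc_10_1 lc_e_rc_4_1 lc_e_rc_10_1 lc_e_rc_4_1 lc_e_rc_4_1 lc_e_rc_4_3 lc_e_rc_10_1 lc_e_rc_10_1 lc_e_rc_4_1) (@D3.rec (fun _ => (Cert rels S Gen.e)) lc_e_rc_15_1 lc_e_rc_23_2 lc_e_rc_4_1 lc_e_rc_10_1 lc_e_rc_15_1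 lc_e_rc_10_1 lc_e_rc_4_1 lc_e_Cert_tree lc_e_rc_23_2 lc_e_rc_23_2 lc_e_rc_4_1 lc_e_rc_10_3 lc_e_rc_19_3 lc_e_rc_4_1 lc_e_rc_15_1 lc_e_rc_19_3 lc_e_rc_10_1 lc_e_rc_4_1 lc_e_rc_24_0 lc_e_Cert_tree lc_e_rc_23_2 lc_e_rc_10_1 lc_e_rc_4_1 lc_e_rc_24_2 lc_e_rc_4_1 lc_e_rc_15_1 lc_e_rc_4_1 lc_e_rc_23_2 lc_e_rc_10_1 lc_e_Cert_tree lc_e_rc_4_1 lc_e_rc_10_1 lc_e_rc_22_0 lc_e_rc_23_2 lc_e_rc_4_1 lc_e_rc_23_2 lc_e_rc_24_2 lc_e_rc_24_2 lc_e_rc_19_1 lc_e_rc_4_1) (@D3.rec (fun _ => (Cert rels S Gen.e)) lc_e_rc_23_2 lc_e_rc_10_1 lc_e_Cert_tree lc_e_rc_22_0 lc_e_rc_15_1 lc_e_Cert_tree lc_e_rc_4_1 lc_e_Cert_tree lc_e_rc_23_2 lc_e_rc_24_2 lc_e_rc_22_0 lc_e_Cert_tree lc_e_rc_22_0 lc_e_rc_23_2 lc_e_rc_10_1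 lc_e_rc_4_1 lc_e_rc_24_2 lc_e_rc_15_1 lc_e_rc_32_51 lc_e_rc_4_1 lc_e_rc_23_0 lc_e_rc_23_0 lc_e_rc_23_2 lc_e_rc_10_3 lc_e_rc_23_2 lc_e_rc_23_2 lc_e_rc_10_1 lc_e_rc_24_2 lc_e_rc_24_0 lc_e_rc_10_1 lc_e_rc_4_1 lc_e_rc_15_3 lc_e_rc_10_1 lc_e_rc_23_0 lc_e_rc_4_1 lc_e_rc_15_1 lc_e_rc_24_2 lc_e_rc_10_1 lc_e_rc_4_1 lc_e_Cert_tree) (@D3.rec (fun _ => (Cert rels S Gen.e)) lc_e_rc_24_2 lc_e_rc_24_2 lc_e_rc_4_1 lc_e_rc_10_3 lc_e_rc_19_5 lc_e_rc_15_1 lc_e_rc_15_3 lc_e_rc_4_1 lc_e_rc_15_1 lc_e_rc_19_3 lc_e_rc_10_1 lc_e_rc_4_1 lc_e_rc_4_1 lc_e_Cert_tree lc_e_rc_24_2 lc_e_rc_24_2 lc_e_rc_4_1 lc_e_rc_23_2 lc_e_rc_15_3 lc_e_rc_4_3 lc_e_rc_24_2 lc_e_rc_4_1 lc_e_rc_15_1 lc_e_Cert_tree lc_e_rc_4_1 lc_e_rc_10_1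 lc_e_rc_22_0 lc_e_rc_10_1 lc_e_rc_4_1 lc_e_rc_19_1 lc_e_rc_10_1 lc_e_rc_23_2 lc_e_rc_19_1 lc_e_rc_4_1 lc_e_rc_24_2 lc_e_rc_10_1 lc_e_Cert_tree lc_e_rc_22_0 lc_e_rc_10_1 lc_e_Cert_tree) (@D3.rec (fun _ => (Cert rels S Gen.e)) lc_e_rc_4_1 lc_e_Cert_tree lc_e_rc_23_2 lc_e_rc_24_2 lc_e_rc_22_0 lc_e_Cert_tree lc_e_rc_22_0 lc_e_rc_24_2 lc_e_rc_10_1 lc_e_rc_4_1 lc_e_rc_23_2 lc_e_rc_4_1 lc_e_rc_10_3 lc_e_rc_24_2 lc_e_rc_22_0 lc_e_rc_4_3 lc_e_rc_4_1 lc_e_rc_32_25 lc_e_rc_22_0 lc_e_rc_32_25 lc_e_rc_24_2 lc_e_rc_24_2 lc_e_rc_23_2 lc_e_rc_24_2 lc_e_rc_10_1 lc_e_rc_4_1 lc_e_rc_23_2 lc_e_rc_4_1 lc_e_rc_24_2 lc_e_rc_10_1 lc_e_rc_24_2 lc_e_rc_10_1 lc_e_rc_4_1 lc_e_rc_10_3 lc_e_rc_23_2 lc_e_rc_22_0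 lc_e_rc_4_3 lc_e_rc_4_1 lc_e_rc_32_25 lc_e_rc_22_0) (@D3.rec (fun _ => (Cert rels S Gen.e)) lc_e_rc_23_2 lc_e_rc_4_3 lc_e_rc_24_2 lc_e_rc_4_3 lc_e_rc_23_2 lc_e_rc_10_1 lc_e_rc_4_1 lc_e_rc_24_2 lc_e_rc_4_1 lc_e_rc_23_2 lc_e_rc_10_1 lc_e_rc_10_1 lc_e_rc_10_1 lc_e_rc_10_1 lc_e_rc_15_1 lc_e_rc_10_1 lc_e_rc_10_1 lc_e_rc_15_1 lc_e_rc_10_1 lc_e_rc_10_1 lc_e_rc_23_2 lc_e_rc_10_1 lc_e_rc_24_2 lc_e_rc_10_1 lc_e_rc_24_2 lc_e_rc_10_1 lc_e_rc_10_1 lc_e_rc_23_2 lc_e_rc_10_1 lc_e_rc_23_2 lc_e_rc_23_2 lc_e_rc_24_2 lc_e_rc_4_3 lc_e_rc_23_0 lc_e_rc_24_2 lc_e_rc_4_3 lc_e_rc_4_3 lc_e_rc_4_1 lc_e_rc_4_1 lc_e_rc_15_1) (@D3.rec (fun _ => (Cert rels S Gen.e)) lc_e_rc_24_2 lc_e_rc_4_1 lc_e_rc_23_2 lc_e_rc_4_3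 lc_e_rc_4_1 lc_e_rc_4_1 lc_e_rc_4_1 lc_e_rc_32_25 lc_e_rc_4_1 lc_e_rc_24_0 lc_e_rc_24_2 lc_e_rc_4_3 lc_e_rc_4_1 lc_e_rc_10_1 lc_e_rc_32_77 lc_e_rc_4_1 lc_e_rc_4_1 lc_e_rc_23_2 lc_e_rc_24_2 lc_e_rc_23_2 lc_e_rc_24_2 lc_e_rc_24_2 lc_e_rc_4_3 lc_e_rc_10_1 lc_e_rc_10_1 lc_e_rc_4_1 lc_e_rc_10_1 lc_e_rc_24_2 lc_e_rc_4_1 lc_e_rc_10_1 lc_e_rc_23_2 lc_e_rc_10_1 lc_e_rc_4_1 lc_e_rc_4_1 lc_e_Cert_tree lc_e_rc_24_2 lc_e_rc_4_3 lc_e_rc_10_1 lc_e_rc_4_1 lc_e_rc_4_1) (@D3.rec (fun _ => (Cert rels S Gen.e)) lc_e_Cert_tree lc_e_rc_23_2 lc_e_rc_24_2 lc_e_rc_10_1 lc_e_rc_10_1 lc_e_rc_10_1 lc_e_rc_10_1 lc_e_rc_4_1 lc_e_rc_4_1 lc_e_rc_4_3 lc_e_rc_22_0 lc_e_rc_24_2 lc_e_rc_10_1 lc_e_rc_4_1 lc_e_rc_10_1 lc_e_rc_10_1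 lc_e_rc_10_1 lc_e_rc_10_1 lc_e_rc_4_1 lc_e_rc_24_2 lc_e_rc_4_3 lc_e_rc_22_0 lc_e_rc_23_2 lc_e_rc_10_1 lc_e_rc_24_2 lc_e_rc_15_1 lc_e_rc_10_1 lc_e_rc_15_1 lc_e_rc_10_1 lc_e_rc_10_3 lc_e_rc_15_1 lc_e_rc_24_2 lc_e_rc_4_1 lc_e_rc_10_1 lc_e_rc_10_3 lc_e_rc_23_2 lc_e_rc_23_2 lc_e_rc_4_1 lc_e_rc_10_1 lc_e_rc_15_1) (@D3.rec (fun _ => (Cert rels S Gen.e)) lc_e_rc_23_2 lc_e_rc_24_2 lc_e_rc_19_3 lc_e_rc_22_0 lc_e_rc_24_2 lc_e_rc_10_1 lc_e_rc_4_1 lc_e_rc_15_1 lc_e_rc_23_2 lc_e_rc_10_1 lc_e_rc_4_1 lc_e_rc_24_2 lc_e_Cert_tree lc_e_rc_23_2 lc_e_rc_24_2 lc_e_rc_15_1 lc_e_rc_23_2 lc_e_rc_24_2 lc_e_rc_19_3 lc_e_rc_22_0 lc_e_rc_23_2 lc_e_rc_10_1 lc_e_rc_4_1 lc_e_rc_15_1 lc_e_rc_24_2 lc_e_rc_24_0 lc_e_rc_4_1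 lc_e_rc_4_1 lc_e_Cert_tree lc_e_rc_24_2 lc_e_rc_4_3 lc_e_rc_24_2 lc_e_rc_4_1 lc_e_rc_4_1 lc_e_rc_23_0 lc_e_rc_23_2 lc_e_rc_24_2 lc_e_rc_10_1 lc_e_rc_22_0 lc_e_rc_10_1) (@D3.rec (fun _ => (Cert rels S Gen.e)) lc_e_rc_24_2 lc_e_rc_24_2 lc_e_rc_10_1 lc_e_rc_15_1 lc_e_rc_23_2 lc_e_rc_4_1 lc_e_rc_4_1 lc_e_Cert_tree lc_e_rc_23_2 lc_e_rc_4_1 lc_e_rc_10_1 lc_e_Cert_tree lc_e_rc_24_0 lc_e_Cert_tree lc_e_rc_22_0 lc_e_rc_23_2 lc_e_rc_10_1 lc_e_rc_24_2 lc_e_rc_4_1 lc_e_rc_24_2 lc_e_rc_4_1 lc_e_rc_4_1 lc_e_rc_4_1 lc_e_rc_23_2 lc_e_rc_24_2 lc_e_rc_10_1 lc_e_rc_22_0 lc_e_rc_15_1 lc_e_rc_23_2 lc_e_rc_23_2 lc_e_rc_10_1 lc_e_rc_15_1 lc_e_rc_24_2 lc_e_rc_24_0 lc_e_rc_4_1 lc_e_Cert_tree lc_e_rc_24_2 lc_e_rc_4_1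 lc_e_rc_10_1 lc_e_Cert_tree) (@D3.rec (fun _ => (Cert rels S Gen.e)) lc_e_rc_4_1 lc_e_Cert_tree lc_e_rc_22_0 lc_e_rc_24_2 lc_e_rc_10_1 lc_e_rc_4_1 lc_e_rc_24_0 lc_e_rc_24_2 lc_e_rc_24_2 lc_e_rc_4_3 lc_e_rc_19_1 lc_e_rc_23_2 lc_e_rc_24_2 lc_e_rc_24_2 lc_e_rc_10_1 lc_e_rc_4_1 lc_e_rc_15_1 lc_e_rc_23_2 lc_e_Cert_tree lc_e_rc_22_0 lc_e_rc_24_2 lc_e_rc_24_2 lc_e_rc_10_1 lc_e_rc_24_2 lc_e_rc_10_1 lc_e_rc_23_2 lc_e_rc_10_1 lc_e_rc_10_1 lc_e_rc_15_1 lc_e_Cert_tree lc_e_rc_15_1 lc_e_rc_10_1 lc_e_rc_4_1 lc_e_rc_15_1 lc_e_rc_24_2 lc_e_rc_23_2 lc_e_rc_24_2 lc_e_rc_10_1 lc_e_Cert_tree lc_e_rc_15_1) (@D3.rec (fun _ => (Cert rels S Gen.e)) lc_e_rc_10_1 lc_e_Cert_tree lc_e_rc_22_0 lc_e_rc_23_2 lc_e_rc_10_1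 lc_e_rc_15_1 lc_e_rc_10_1 lc_e_rc_23_2 lc_e_rc_24_2 lc_e_rc_4_3 lc_e_rc_19_1 lc_e_rc_23_2 lc_e_rc_24_2 lc_e_rc_4_3 lc_e_rc_10_1 lc_e_rc_4_1 lc_e_rc_15_1 lc_e_rc_24_2 lc_e_Cert_tree lc_e_rc_22_0 lc_e_rc_23_2 lc_e_rc_23_2 lc_e_rc_10_1 lc_e_rc_23_2 lc_e_rc_10_1 lc_e_rc_24_2 lc_e_rc_10_1 lc_e_rc_10_1 lc_e_rc_15_1 lc_e_Cert_tree lc_e_rc_15_1 lc_e_rc_10_1 lc_e_rc_4_1 lc_e_rc_15_1 lc_e_rc_23_2 lc_e_rc_23_2 lc_e_rc_24_2 lc_e_rc_10_1 lc_e_Cert_tree lc_e_rc_15_1) (@D3.rec (fun _ => (Cert rels S Gen.e)) lc_e_rc_10_1 lc_e_Cert_tree lc_e_rc_22_0 lc_e_rc_24_2 lc_e_rc_10_1 lc_e_rc_15_1 lc_e_rc_10_1 lc_e_rc_10_1 lc_e_rc_10_1 lc_e_rc_23_2 lc_e_rc_24_2 lc_e_rc_22_0 lc_e_rc_19_3 lc_e_rc_24_2 lc_e_rc_24_2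 lc_e_rc_10_1 lc_e_rc_4_1 lc_e_rc_4_1 lc_e_rc_4_1 lc_e_rc_24_2 lc_e_rc_4_1 lc_e_rc_4_1 lc_e_rc_4_1 lc_e_rc_4_1 lc_e_rc_22_0 lc_e_rc_15_1 lc_e_rc_24_2 lc_e_rc_24_2 lc_e_rc_24_2 lc_e_rc_4_1 lc_e_rc_4_1 lc_e_rc_22_0 lc_e_rc_24_2 lc_e_rc_24_2 lc_e_rc_10_1 lc_e_rc_4_1 lc_e_rc_15_1 lc_e_rc_23_2 lc_e_rc_10_1 lc_e_rc_4_1) (@D3.rec (fun _ => (Cert rels S Gen.e)) lc_e_rc_4_1 lc_e_Cert_tree lc_e_rc_23_2 lc_e_rc_23_0 lc_e_Cert_tree lc_e_rc_22_0 lc_e_rc_10_1 lc_e_rc_24_2 lc_e_rc_22_0 lc_e_rc_24_2 lc_e_rc_24_2 lc_e_rc_4_1 lc_e_rc_24_2 lc_e_rc_10_1 lc_e_rc_4_1 lc_e_rc_4_1 lc_e_rc_23_2 lc_e_rc_10_1 lc_e_rc_10_1 lc_e_rc_10_1 lc_e_rc_4_1 lc_e_rc_15_1 lc_e_rc_24_2 lc_e_rc_4_1 lc_e_rc_15_1 lc_e_rc_23_2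 lc_e_rc_24_2 lc_e_rc_10_1 lc_e_Cert_tree lc_e_Cert_tree lc_e_rc_22_0 lc_e_rc_23_2 lc_e_rc_10_1 lc_e_rc_4_1 lc_e_rc_15_1 lc_e_rc_24_2 lc_e_rc_4_1 lc_e_rc_4_1 lc_e_Cert_tree lc_e_rc_24_2) (@D3.rec (fun _ => (Cert rels S Gen.e)) lc_e_rc_4_1 lc_e_rc_4_1 lc_e_rc_4_1 lc_e_rc_4_1 lc_e_rc_15_1 lc_e_Cert_tree lc_e_rc_23_2 lc_e_rc_24_2 lc_e_rc_23_2 lc_e_rc_4_1 lc_e_rc_4_1 lc_e_Cert_tree lc_e_rc_23_2 lc_e_rc_24_2 lc_e_Cert_tree lc_e_rc_22_0 lc_e_rc_23_2 lc_e_rc_10_1 lc_e_rc_15_1 lc_e_Cert_tree lc_e_Cert_tree lc_e_rc_22_0 lc_e_rc_23_2 lc_e_rc_23_2 lc_e_rc_24_2 lc_e_rc_10_1 lc_e_rc_4_1 lc_e_rc_15_1 lc_e_rc_23_2 lc_e_rc_10_1 lc_e_rc_10_1 lc_e_rc_4_3 lc_e_rc_23_2 lc_e_rc_22_0 lc_e_rc_23_2 lc_e_rc_10_1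 lc_e_rc_10_1 lc_e_rc_24_2 lc_e_rc_4_1 lc_e_rc_4_1)
def ce_e_7 : D2 → D3 → (Cert rels S Gen.e) := @D2.rec (fun _ => D3 → (Cert rels S Gen.e)) (@D3.rec (fun _ => (Cert rels S Gen.e)) lc_e_rc_23_2 lc_e_rc_24_2 lc_e_rc_4_1 lc_e_rc_4_1 lc_e_rc_4_1 lc_e_rc_22_0 lc_e_rc_23_2 lc_e_rc_15_1 lc_e_rc_23_2 lc_e_rc_24_2 lc_e_rc_4_1 lc_e_rc_23_0 lc_e_rc_22_0 lc_e_rc_19_1 lc_e_rc_23_2 lc_e_rc_10_1 lc_e_rc_4_1 lc_e_rc_15_1 lc_e_rc_24_2 lc_e_rc_10_1 lc_e_rc_4_1 lc_e_Cert_tree lc_e_rc_24_2 lc_e_rc_4_3 lc_e_Cert_tree lc_e_rc_22_0 lc_e_rc_23_2 lc_e_rc_23_0 lc_e_rc_22_0 lc_e_rc_23_2 lc_e_rc_23_2 lc_e_rc_4_1 lc_e_rc_23_2 lc_e_rc_10_1 lc_e_rc_24_2 lc_e_rc_4_1 lc_e_rc_24_2 lc_e_rc_10_1 lc_e_rc_10_1 lc_e_rc_10_1)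 (@D3.rec (fun _ => (Cert rels S Gen.e)) lc_e_rc_4_1 lc_e_rc_15_1 lc_e_rc_23_2 lc_e_rc_4_1 lc_e_rc_15_1 lc_e_rc_23_2 lc_e_rc_24_2 lc_e_rc_10_1 lc_e_Cert_tree lc_e_Cert_tree lc_e_rc_22_0 lc_e_rc_24_2 lc_e_rc_10_1 lc_e_rc_4_1 lc_e_rc_15_1 lc_e_rc_23_2 lc_e_rc_4_1 lc_e_rc_24_0 lc_e_Cert_tree lc_e_rc_23_2 lc_e_rc_24_2 lc_e_rc_4_1 lc_e_rc_4_1 lc_e_rc_4_1 lc_e_rc_15_1 lc_e_Cert_tree lc_e_rc_23_2 lc_e_rc_24_2 lc_e_rc_24_2 lc_e_rc_24_2 lc_e_rc_4_1 lc_e_Cert_tree lc_e_rc_23_2 lc_e_rc_24_2 lc_e_Cert_tree lc_e_rc_22_0 lc_e_rc_24_2 lc_e_rc_10_1 lc_e_rc_15_1 lc_e_Cert_tree) (@D3.rec (fun _ => (Cert rels S Gen.e)) lc_e_Cert_tree lc_e_rc_22_0 lc_e_rc_24_2 lc_e_rc_24_2 lc_e_rc_4_3 lc_e_rc_10_1 lc_e_rc_4_1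 lc_e_rc_15_1 lc_e_rc_24_2 lc_e_rc_4_1 lc_e_rc_22_0 lc_e_rc_23_2 lc_e_rc_23_2 lc_e_rc_24_2 lc_e_rc_4_1 lc_e_rc_15_1 lc_e_rc_24_2 lc_e_rc_10_1 lc_e_rc_10_1 lc_e_Cert_tree lc_e_rc_4_1 lc_e_Cert_tree lc_e_rc_23_2 lc_e_rc_24_2 lc_e_Cert_tree lc_e_rc_22_0 lc_e_rc_10_1 lc_e_Cert_tree lc_e_rc_4_1 lc_e_rc_4_1 lc_e_Cert_tree lc_e_rc_22_0 lc_e_rc_23_2 lc_e_rc_24_2 lc_e_rc_24_2 lc_e_rc_4_1 lc_e_Cert_tree lc_e_rc_22_0 lc_e_rc_23_2 lc_e_rc_24_2) (@D3.rec (fun _ => (Cert rels S Gen.e)) lc_e_rc_4_1 lc_e_rc_22_0 lc_e_rc_24_2 lc_e_rc_24_2 lc_e_rc_23_2 lc_e_rc_4_1 lc_e_rc_15_1 lc_e_rc_23_2 lc_e_rc_10_1 lc_e_rc_10_1 lc_e_Cert_tree lc_e_rc_4_1 lc_e_Cert_tree lc_e_rc_23_2 lc_e_rc_24_2 lc_e_Cert_tree lc_e_rc_22_0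 lc_e_rc_10_1 lc_e_Cert_tree lc_e_rc_4_1 lc_e_rc_4_1 lc_e_Cert_tree lc_e_rc_22_0 lc_e_rc_23_2 lc_e_rc_24_2 lc_e_rc_24_2 lc_e_rc_4_1 lc_e_Cert_tree lc_e_rc_22_0 lc_e_rc_23_2 lc_e_rc_24_2 lc_e_rc_10_1 lc_e_rc_15_1 lc_e_rc_19_5 lc_e_Cert_tree lc_e_rc_10_1 lc_e_rc_15_1 lc_e_rc_19_5 lc_e_Cert_tree lc_e_rc_22_0) (@D3.rec (fun _ => (Cert rels S Gen.e)) lc_e_rc_10_1 lc_e_rc_10_1 lc_e_rc_10_1 lc_e_rc_4_3 lc_e_rc_15_1 lc_e_rc_23_2 lc_e_rc_15_1 lc_e_Cert_tree lc_e_rc_15_1 lc_e_rc_15_1 lc_e_Cert_tree lc_e_rc_15_1 lc_e_rc_10_1 lc_e_rc_22_0 lc_e_rc_4_1 lc_e_rc_4_1 lc_e_rc_19_3 lc_e_rc_23_2 lc_e_rc_24_2 lc_e_rc_24_2 lc_e_rc_4_3 lc_e_rc_10_1 lc_e_rc_24_2 lc_e_rc_10_1 lc_e_rc_4_1 lc_e_rc_22_0 lc_e_rc_23_0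 lc_e_rc_10_1 lc_e_rc_24_0 lc_e_Cert_tree lc_e_rc_24_2 lc_e_rc_24_2 lc_e_rc_4_1 lc_e_rc_10_1 lc_e_Cert_tree lc_e_rc_23_2 lc_e_rc_23_2 lc_e_rc_4_1 lc_e_rc_10_1 lc_e_rc_15_1) (@D3.rec (fun _ => (Cert rels S Gen.e)) lc_e_Cert_tree lc_e_rc_22_0 lc_e_rc_24_2 lc_e_rc_4_3 lc_e_rc_23_2 lc_e_Cert_tree lc_e_rc_4_1 lc_e_rc_4_1 lc_e_rc_23_0 lc_e_Cert_tree lc_e_rc_22_0 lc_e_rc_23_2 lc_e_rc_24_2 lc_e_rc_24_2 lc_e_Cert_tree lc_e_rc_4_1 lc_e_rc_4_1 lc_e_rc_15_1 lc_e_rc_24_2 lc_e_rc_15_3 lc_e_rc_19_1 lc_e_rc_24_2 lc_e_rc_22_0 lc_e_rc_24_2 lc_e_rc_10_1 lc_e_rc_15_1 lc_e_rc_24_2 lc_e_rc_10_1 lc_e_rc_4_3 lc_e_rc_23_2 lc_e_rc_10_1 lc_e_rc_4_3 lc_e_rc_10_3 lc_e_rc_4_1 lc_e_rc_19_1 lc_e_rc_23_2 lc_e_rc_22_0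 lc_e_rc_23_2 lc_e_rc_10_1 lc_e_rc_24_2) (@D3.rec (fun _ => (Cert rels S Gen.e)) lc_e_rc_23_2 lc_e_rc_10_1 lc_e_rc_24_2 lc_e_rc_24_2 lc_e_rc_10_1 lc_e_rc_4_1 lc_e_rc_24_2 lc_e_rc_10_1 lc_e_rc_10_1 lc_e_rc_4_3 lc_e_rc_4_1 lc_e_rc_4_1 lc_e_Cert_tree lc_e_rc_22_0 lc_e_rc_23_2 lc_e_rc_24_2 lc_e_rc_24_2 lc_e_rc_4_3 lc_e_rc_22_0 lc_e_rc_22_1 lc_e_rc_22_0 lc_e_rc_10_1 lc_e_rc_10_1 lc_e_rc_23_2 lc_e_Cert_tree lc_e_rc_23_2 lc_e_rc_15_1 lc_e_rc_4_1 lc_e_rc_10_1 lc_e_Cert_tree lc_e_rc_15_3 lc_e_rc_22_0 lc_e_rc_23_2 lc_e_rc_10_1 lc_e_rc_24_2 lc_e_rc_4_1 lc_e_Cert_tree lc_e_rc_23_2 lc_e_rc_24_2 lc_e_rc_4_1) (@D3.rec (fun _ => (Cert rels S Gen.e)) lc_e_rc_22_0 lc_e_rc_23_2 lc_e_rc_10_1 lc_e_rc_15_3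 lc_e_rc_23_2 lc_e_rc_10_1 lc_e_rc_24_2 lc_e_rc_24_2 lc_e_rc_10_1 lc_e_rc_4_3 lc_e_rc_10_3 lc_e_rc_23_2 lc_e_rc_4_3 lc_e_rc_10_1 lc_e_rc_19_1 lc_e_rc_4_1 lc_e_rc_4_1 lc_e_Cert_tree lc_e_rc_22_0 lc_e_rc_23_2 lc_e_rc_24_2 lc_e_rc_24_2 lc_e_rc_4_3 lc_e_rc_22_0 lc_e_rc_10_3 lc_e_rc_22_0 lc_e_rc_10_1 lc_e_rc_10_1 lc_e_rc_24_2 lc_e_Cert_tree lc_e_rc_24_2 lc_e_rc_24_2 lc_e_rc_4_1 lc_e_rc_10_1 lc_e_Cert_tree lc_e_rc_15_3 lc_e_rc_22_0 lc_e_rc_24_2 lc_e_rc_10_1 lc_e_rc_10_1) (@D3.rec (fun _ => (Cert rels S Gen.e)) lc_e_rc_4_1 lc_e_Cert_tree lc_e_rc_23_2 lc_e_rc_24_2 lc_e_rc_15_3 lc_e_rc_22_0 lc_e_rc_24_2 lc_e_rc_10_1 lc_e_rc_15_3 lc_e_rc_24_2 lc_e_rc_10_1 lc_e_rc_4_3 lc_e_rc_23_2 lc_e_rc_10_1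 lc_e_rc_24_2 lc_e_rc_15_1 lc_e_rc_15_1 lc_e_rc_10_1 lc_e_rc_15_1 lc_e_rc_24_2 lc_e_rc_10_1 lc_e_rc_4_1 lc_e_rc_10_1 lc_e_rc_4_1 lc_e_rc_10_1 lc_e_rc_23_2 lc_e_rc_10_1 lc_e_rc_4_3 lc_e_rc_4_1 lc_e_Cert_tree lc_e_rc_4_3 lc_e_rc_4_1 lc_e_rc_19_1 lc_e_rc_22_0 lc_e_rc_23_2 lc_e_rc_24_2 lc_e_rc_10_1 lc_e_rc_10_3 lc_e_rc_22_0 lc_e_rc_22_0) (@D3.rec (fun _ => (Cert rels S Gen.e)) lc_e_rc_23_2 lc_e_rc_24_2 lc_e_rc_23_2 lc_e_rc_24_2 lc_e_rc_24_2 lc_e_rc_10_1 lc_e_rc_24_2 lc_e_rc_10_1 lc_e_rc_4_1 lc_e_rc_24_2 lc_e_rc_24_2 lc_e_rc_10_1 lc_e_rc_4_1 lc_e_rc_23_2 lc_e_rc_10_1 lc_e_rc_4_1 lc_e_rc_4_1 lc_e_Cert_tree lc_e_rc_23_2 lc_e_rc_24_2 lc_e_rc_15_1 lc_e_rc_10_1 lc_e_Cert_tree lc_e_rc_4_1 lc_e_Cert_tree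 lc_e_rc_22_0 lc_e_rc_23_2 lc_e_rc_10_1 lc_e_rc_19_3 lc_e_rc_24_2 lc_e_rc_10_1 lc_e_rc_24_2 lc_e_rc_10_1 lc_e_rc_23_2 lc_e_rc_4_1 lc_e_rc_15_1 lc_e_rc_23_2 lc_e_rc_10_1 lc_e_rc_4_1 lc_e_rc_15_1) (@D3.rec (fun _ => (Cert rels S Gen.e)) lc_e_rc_23_2 lc_e_rc_10_1 lc_e_rc_10_1 lc_e_rc_23_2 lc_e_rc_4_1 lc_e_rc_15_1 lc_e_rc_24_2 lc_e_rc_4_1 lc_e_rc_15_1 lc_e_rc_23_2 lc_e_rc_24_2 lc_e_rc_10_1 lc_e_Cert_tree lc_e_Cert_tree lc_e_rc_22_0 lc_e_rc_10_1 lc_e_rc_4_1 lc_e_rc_15_1 lc_e_rc_4_1 lc_e_rc_4_1 lc_e_Cert_tree lc_e_rc_24_2 lc_e_rc_23_2 lc_e_rc_4_1 lc_e_rc_15_1 lc_e_Cert_tree lc_e_rc_23_2 lc_e_rc_24_2 lc_e_rc_4_1 lc_e_Cert_tree lc_e_rc_23_2 lc_e_rc_24_2 lc_e_Cert_tree lc_e_rc_22_0 lc_e_Cert_tree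 lc_e_Cert_tree lc_e_rc_22_0 lc_e_rc_23_2 lc_e_rc_23_2 lc_e_rc_10_1) (@D3.rec (fun _ => (Cert rels S Gen.e)) lc_e_rc_4_1 lc_e_rc_15_1 lc_e_rc_24_2 lc_e_rc_4_1 lc_e_rc_10_3 lc_e_rc_24_2 lc_e_Cert_tree lc_e_rc_4_1 lc_e_rc_23_2 lc_e_rc_22_0 lc_e_rc_24_2 lc_e_rc_10_1 lc_e_rc_4_3 lc_e_rc_10_1 lc_e_rc_4_1 lc_e_rc_4_1 lc_e_rc_4_1 lc_e_Cert_tree lc_e_rc_23_2 lc_e_rc_24_2 lc_e_rc_22_0 lc_e_rc_23_2 lc_e_rc_10_1 lc_e_rc_10_1 lc_e_rc_23_2 lc_e_rc_4_1 lc_e_Cert_tree lc_e_rc_4_1 lc_e_rc_4_1 lc_e_Cert_tree lc_e_rc_22_0 lc_e_rc_23_2 lc_e_rc_24_2 lc_e_rc_23_2 lc_e_rc_24_2 lc_e_rc_4_3 lc_e_Cert_tree lc_e_rc_22_0 lc_e_rc_23_2 lc_e_rc_23_2) (@D3.rec (fun _ => (Cert rels S Gen.e)) lc_e_rc_15_1 lc_e_rc_24_2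 lc_e_Cert_tree lc_e_Cert_tree lc_e_Cert_tree lc_e_rc_22_0 lc_e_rc_23_2 lc_e_rc_24_2 lc_e_rc_22_0 lc_e_rc_23_2 lc_e_rc_19_3 lc_e_rc_23_2 lc_e_rc_24_2 lc_e_rc_24_2 lc_e_rc_10_1 lc_e_rc_4_1 lc_e_rc_15_1 lc_e_rc_23_2 lc_e_rc_4_1 lc_e_rc_4_1 lc_e_rc_23_2 lc_e_rc_24_2 lc_e_rc_15_1 lc_e_rc_10_1 lc_e_rc_24_2 lc_e_rc_23_2 lc_e_rc_10_1 lc_e_rc_4_1 lc_e_rc_4_1 lc_e_rc_10_1 lc_e_rc_24_2 lc_e_rc_10_1 lc_e_rc_10_1 lc_e_rc_4_1 lc_e_Cert_tree lc_e_rc_24_2 lc_e_rc_4_3 lc_e_rc_19_1 lc_e_rc_22_0 lc_e_rc_23_2) (@D3.rec (fun _ => (Cert rels S Gen.e)) lc_e_rc_24_2 lc_e_rc_10_1 lc_e_rc_10_3 lc_e_rc_22_0 lc_e_rc_22_0 lc_e_rc_23_2 lc_e_rc_24_2 lc_e_rc_23_2 lc_e_rc_24_2 lc_e_rc_10_1 lc_e_rc_24_2 lc_e_rc_24_2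 lc_e_rc_4_1 lc_e_rc_23_2 lc_e_rc_10_1 lc_e_rc_23_2 lc_e_rc_10_1 lc_e_rc_4_1 lc_e_rc_24_2 lc_e_rc_10_1 lc_e_rc_4_1 lc_e_rc_4_1 lc_e_Cert_tree lc_e_rc_24_2 lc_e_rc_23_2 lc_e_rc_15_1 lc_e_rc_10_1 lc_e_Cert_tree lc_e_Cert_tree lc_e_rc_22_0 lc_e_rc_24_2 lc_e_rc_10_1 lc_e_rc_19_3 lc_e_rc_23_2 lc_e_rc_10_1 lc_e_rc_23_2 lc_e_rc_10_1 lc_e_rc_24_2 lc_e_rc_4_1 lc_e_rc_15_1) (@D3.rec (fun _ => (Cert rels S Gen.e)) lc_e_rc_24_2 lc_e_rc_10_1 lc_e_rc_4_1 lc_e_rc_15_1 lc_e_rc_24_2 lc_e_rc_10_1 lc_e_rc_10_1 lc_e_rc_24_2 lc_e_rc_4_1 lc_e_rc_15_1 lc_e_rc_23_2 lc_e_rc_4_1 lc_e_rc_15_1 lc_e_rc_23_2 lc_e_rc_24_2 lc_e_rc_10_1 lc_e_Cert_tree lc_e_Cert_tree lc_e_rc_22_0 lc_e_rc_24_2 lc_e_rc_4_1 lc_e_rc_15_1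 lc_e_rc_4_1 lc_e_rc_4_1 lc_e_Cert_tree lc_e_rc_23_2 lc_e_rc_24_2 lc_e_rc_4_1 lc_e_rc_15_1 lc_e_Cert_tree lc_e_rc_23_2 lc_e_rc_24_2 lc_e_rc_4_1 lc_e_Cert_tree lc_e_rc_23_2 lc_e_rc_24_2 lc_e_rc_22_0 lc_e_Cert_tree lc_e_rc_22_0 lc_e_rc_24_2) (@D3.rec (fun _ => (Cert rels S Gen.e)) lc_e_rc_24_2 lc_e_rc_10_1 lc_e_rc_4_1 lc_e_rc_15_1 lc_e_rc_23_2 lc_e_rc_4_1 lc_e_rc_10_3 lc_e_rc_23_2 lc_e_Cert_tree lc_e_rc_24_2 lc_e_rc_24_2 lc_e_rc_22_0 lc_e_rc_23_2 lc_e_rc_10_1 lc_e_rc_24_2 lc_e_rc_10_1 lc_e_rc_4_1 lc_e_rc_4_1 lc_e_Cert_tree lc_e_rc_23_2 lc_e_rc_24_2 lc_e_rc_22_0 lc_e_rc_10_1 lc_e_rc_10_1 lc_e_rc_24_2 lc_e_rc_4_1 lc_e_Cert_tree lc_e_rc_4_1 lc_e_rc_4_1 lc_e_Cert_tree lc_e_rc_22_0 lc_e_rc_23_2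 lc_e_rc_24_2 lc_e_rc_24_2 lc_e_rc_24_2 lc_e_rc_4_3 lc_e_rc_24_2 lc_e_rc_15_1 lc_e_rc_23_2 lc_e_Cert_tree) (@D3.rec (fun _ => (Cert rels S Gen.e)) lc_e_Cert_tree lc_e_rc_22_0 lc_e_rc_23_2 lc_e_rc_24_2 lc_e_rc_19_3 lc_e_rc_24_2 lc_e_rc_23_2 lc_e_rc_4_1 lc_e_rc_10_1 lc_e_rc_4_1 lc_e_rc_15_1 lc_e_rc_24_2 lc_e_rc_4_1 lc_e_rc_4_1 lc_e_rc_24_2 lc_e_rc_10_1 lc_e_rc_4_1 lc_e_rc_19_1 lc_e_rc_24_2 lc_e_rc_4_1 lc_e_rc_23_0 lc_e_rc_24_2 lc_e_rc_23_2 lc_e_rc_24_2 lc_e_rc_22_0 lc_e_rc_22_0 lc_e_rc_23_2 lc_e_rc_24_2 lc_e_rc_24_2 lc_e_rc_4_1 lc_e_rc_15_1 lc_e_rc_23_2 lc_e_Cert_tree lc_e_rc_23_2 lc_e_rc_24_2 lc_e_rc_22_0 lc_e_Cert_tree lc_e_rc_4_1 lc_e_rc_4_1 lc_e_Cert_tree) (@D3.rec (fun _ => (Cert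 rels S Gen.e)) lc_e_rc_22_0 lc_e_rc_23_2 lc_e_rc_24_2 lc_e_rc_24_2 lc_e_rc_4_3 lc_e_Cert_tree lc_e_rc_22_0 lc_e_Cert_tree lc_e_rc_23_2 lc_e_rc_24_2 lc_e_Cert_tree lc_e_rc_22_0 lc_e_rc_23_2 lc_e_rc_24_2 lc_e_rc_10_1 lc_e_rc_10_1 lc_e_Cert_tree lc_e_rc_22_0 lc_e_rc_24_2 lc_e_rc_23_2 lc_e_rc_24_2 lc_e_rc_24_2 lc_e_rc_24_2 lc_e_rc_10_1 lc_e_rc_10_1 lc_e_rc_22_0 lc_e_rc_23_2 lc_e_rc_24_2 lc_e_rc_19_3 lc_e_rc_23_2 lc_e_rc_24_2 lc_e_rc_24_2 lc_e_rc_24_2 lc_e_rc_10_1 lc_e_rc_4_1 lc_e_rc_19_1 lc_e_rc_23_2 lc_e_rc_4_1 lc_e_rc_24_0 lc_e_rc_23_2) (@D3.rec (fun _ => (Cert rels S Gen.e)) lc_e_rc_24_2 lc_e_rc_23_2 lc_e_rc_22_0 lc_e_rc_22_0 lc_e_rc_24_2 lc_e_rc_23_2 lc_e_rc_10_1 lc_e_rc_4_1 lc_e_rc_15_1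 lc_e_rc_24_2 lc_e_Cert_tree lc_e_rc_23_2 lc_e_rc_24_2 lc_e_rc_22_0 lc_e_Cert_tree lc_e_rc_4_1 lc_e_rc_4_1 lc_e_Cert_tree lc_e_rc_22_0 lc_e_rc_23_2 lc_e_rc_24_2 lc_e_rc_24_2 lc_e_rc_4_3 lc_e_Cert_tree lc_e_rc_22_0 lc_e_Cert_tree lc_e_rc_23_2 lc_e_rc_24_2 lc_e_Cert_tree lc_e_rc_22_0 lc_e_rc_23_2 lc_e_rc_24_2 lc_e_rc_10_1 lc_e_rc_10_1 lc_e_Cert_tree lc_e_rc_22_0 lc_e_rc_23_2 lc_e_rc_23_2 lc_e_rc_24_2 lc_e_rc_24_2) (@D3.rec (fun _ => (Cert rels S Gen.e)) lc_e_rc_24_2 lc_e_rc_10_1 lc_e_rc_10_1 lc_e_rc_22_0 lc_e_rc_23_2 lc_e_rc_24_2 lc_e_rc_19_3 lc_e_rc_23_2 lc_e_rc_24_2 lc_e_rc_24_2 lc_e_rc_24_2 lc_e_rc_15_1 lc_e_rc_10_1 lc_e_Cert_tree lc_e_rc_22_0 lc_e_rc_23_2 lc_e_rc_23_2 lc_e_rc_22_0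 lc_e_rc_10_1 lc_e_Cert_tree lc_e_rc_4_1 lc_e_Cert_tree lc_e_rc_23_2 lc_e_rc_24_2 lc_e_rc_22_0 lc_e_rc_24_2 lc_e_rc_10_1 lc_e_rc_22_0 lc_e_rc_4_3 lc_e_rc_24_2 lc_e_rc_19_3 lc_e_rc_23_2 lc_e_rc_24_2 lc_e_rc_24_2 lc_e_rc_15_3 lc_e_rc_10_3 lc_e_rc_22_0 lc_e_rc_24_2 lc_e_Cert_tree lc_e_rc_22_0) (@D3.rec (fun _ => (Cert rels S Gen.e)) lc_e_rc_23_2 lc_e_rc_24_2 lc_e_rc_19_3 lc_e_rc_4_1 lc_e_Cert_tree lc_e_rc_22_0 lc_e_rc_23_2 lc_e_rc_24_2 lc_e_rc_19_3 lc_e_rc_23_2 lc_e_rc_24_2 lc_e_rc_24_2 lc_e_rc_15_1 lc_e_rc_23_2 lc_e_rc_4_1 lc_e_rc_10_1 lc_e_rc_10_1 lc_e_Cert_tree lc_e_rc_22_0 lc_e_rc_24_2 lc_e_rc_24_2 lc_e_rc_22_0 lc_e_rc_10_1 lc_e_Cert_tree lc_e_rc_4_1 lc_e_Cert_tree lc_e_rc_23_2 lc_e_rc_10_1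 lc_e_rc_22_0 lc_e_rc_22_1 lc_e_rc_22_0 lc_e_rc_22_0 lc_e_rc_23_2 lc_e_rc_24_2 lc_e_rc_19_3 lc_e_rc_23_2 lc_e_rc_24_2 lc_e_rc_4_3 lc_e_rc_23_2 lc_e_rc_15_1) (@D3.rec (fun _ => (Cert rels S Gen.e)) lc_e_rc_23_2 lc_e_Cert_tree lc_e_rc_22_0 lc_e_rc_23_2 lc_e_rc_4_1 lc_e_Cert_tree lc_e_rc_22_0 lc_e_rc_23_2 lc_e_rc_24_2 lc_e_rc_19_3 lc_e_rc_23_2 lc_e_rc_24_2 lc_e_rc_15_1 lc_e_rc_15_1 lc_e_rc_23_2 lc_e_rc_4_1 lc_e_rc_10_1 lc_e_rc_10_1 lc_e_rc_4_1 lc_e_Cert_tree lc_e_rc_24_2 lc_e_rc_15_3 lc_e_rc_22_0 lc_e_Cert_tree lc_e_rc_23_2 lc_e_rc_10_1 lc_e_rc_4_1 lc_e_rc_10_1 lc_e_rc_4_1 lc_e_rc_10_1 lc_e_rc_23_2 lc_e_rc_10_1 lc_e_rc_4_1 lc_e_Cert_tree lc_e_rc_15_1 lc_e_rc_15_3 lc_e_rc_10_3 lc_e_rc_4_3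 lc_e_rc_10_1 lc_e_Cert_tree) (@D3.rec (fun _ => (Cert rels S Gen.e)) lc_e_Cert_tree lc_e_rc_22_0 lc_e_rc_24_2 lc_e_rc_24_2 lc_e_rc_10_3 lc_e_rc_15_3 lc_e_rc_10_1 lc_e_rc_4_1 lc_e_rc_23_2 lc_e_rc_10_1 lc_e_rc_24_2 lc_e_rc_10_1 lc_e_rc_23_2 lc_e_rc_4_1 lc_e_Cert_tree lc_e_rc_23_2 lc_e_rc_15_3 lc_e_rc_22_0 lc_e_Cert_tree lc_e_rc_15_1 lc_e_rc_4_1 lc_e_rc_10_1 lc_e_rc_10_1 lc_e_rc_4_1 lc_e_Cert_tree lc_e_rc_4_1 lc_e_rc_23_2 lc_e_rc_24_2 lc_e_rc_10_1 lc_e_Cert_tree lc_e_Cert_tree lc_e_rc_22_0 lc_e_rc_23_2 lc_e_rc_23_2 lc_e_rc_10_3 lc_e_rc_15_3 lc_e_rc_19_5 lc_e_rc_4_1 lc_e_rc_23_2 lc_e_rc_24_2) (@D3.rec (fun _ => (Cert rels S Gen.e)) lc_e_rc_23_2 lc_e_rc_10_1 lc_e_rc_10_3 lc_e_rc_10_1 lc_e_rc_10_1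 lc_e_rc_15_1 lc_e_rc_15_1 lc_e_rc_15_1 lc_e_rc_23_2 lc_e_rc_15_1 lc_e_rc_24_2 lc_e_rc_4_1 lc_e_rc_4_1 lc_e_rc_4_1 lc_e_rc_23_2 lc_e_rc_24_2 lc_e_rc_24_2 lc_e_rc_4_1 lc_e_rc_10_1 lc_e_rc_10_1 lc_e_rc_4_1 lc_e_rc_24_2 lc_e_rc_4_1 lc_e_rc_23_2 lc_e_rc_10_1 lc_e_rc_10_1 lc_e_rc_4_1 lc_e_rc_15_1 lc_e_rc_24_2 lc_e_rc_10_1 lc_e_rc_4_1 lc_e_rc_15_1 lc_e_rc_4_1 lc_e_rc_10_1 lc_e_rc_10_1 lc_e_rc_4_1 lc_e_rc_15_1 lc_e_rc_23_2 lc_e_rc_10_1 lc_e_rc_4_1) (@D3.rec (fun _ => (Cert rels S Gen.e)) lc_e_rc_15_1 lc_e_rc_24_2 lc_e_rc_4_1 lc_e_rc_15_1 lc_e_rc_4_1 lc_e_rc_4_1 lc_e_rc_15_1 lc_e_rc_24_2 lc_e_rc_10_1 lc_e_rc_10_1 lc_e_rc_10_1 lc_e_rc_10_1 lc_e_rc_10_1 lc_e_rc_10_1 lc_e_rc_10_1 lc_e_rc_4_1 lc_e_rc_10_3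 lc_e_rc_10_1 lc_e_rc_4_1 lc_e_rc_24_2 lc_e_rc_10_3 lc_e_rc_23_0 lc_e_rc_4_1 lc_e_rc_15_1 lc_e_rc_23_2 lc_e_rc_4_3 lc_e_rc_4_1 lc_e_rc_24_2 lc_e_Cert_tree lc_e_rc_23_2 lc_e_rc_24_2 lc_e_rc_23_2 lc_e_rc_10_3 lc_e_rc_4_1 lc_e_rc_15_1 lc_e_rc_24_2 lc_e_rc_24_2 lc_e_rc_4_1 lc_e_rc_4_1 lc_e_Cert_tree) (@D3.rec (fun _ => (Cert rels S Gen.e)) lc_e_rc_24_2 lc_e_rc_4_3 lc_e_rc_24_2 lc_e_rc_24_2 lc_e_rc_24_2 lc_e_rc_4_1 lc_e_rc_15_1 lc_e_rc_23_2 lc_e_rc_4_1 lc_e_rc_15_1 lc_e_rc_24_2 lc_e_rc_23_2 lc_e_rc_4_3 lc_e_rc_19_1 lc_e_rc_4_1 lc_e_rc_15_1 lc_e_rc_24_2 lc_e_rc_4_1 lc_e_rc_15_1 lc_e_rc_23_2 lc_e_rc_4_1 lc_e_rc_23_2 lc_e_rc_24_2 lc_e_rc_4_1 lc_e_rc_24_2 lc_e_rc_4_1 lc_e_rc_10_1 lc_e_rc_4_1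 lc_e_rc_4_1 lc_e_rc_15_1 lc_e_rc_24_2 lc_e_rc_4_1 lc_e_rc_10_1 lc_e_rc_4_1 lc_e_rc_4_1 lc_e_rc_15_1 lc_e_rc_23_2 lc_e_rc_24_2 lc_e_rc_22_0 lc_e_rc_22_0)
def ce_e_8 : D2 → D3 → (Cert rels S Gen.e) := @D2.rec (fun _ => D3 → (Cert rels S Gen.e)) (@D3.rec (fun _ => (Cert rels S Gen.e)) lc_e_rc_4_1 lc_e_rc_15_1 lc_e_rc_24_2 lc_e_rc_4_1 lc_e_rc_15_1 lc_e_rc_23_2 lc_e_rc_4_1 lc_e_rc_19_1 lc_e_rc_24_2 lc_e_rc_22_0 lc_e_rc_19_1 lc_e_rc_15_1 lc_e_rc_24_2 lc_e_rc_10_1 lc_e_rc_19_1 lc_e_rc_4_1 lc_e_rc_22_0 lc_e_rc_10_3 lc_e_rc_23_2 lc_e_rc_23_2 lc_e_rc_23_2 lc_e_rc_22_0 lc_e_rc_19_1 lc_e_rc_4_1 lc_e_rc_22_0 lc_e_rc_19_1 lc_e_rc_23_2 lc_e_rc_24_2 lc_e_rc_24_2 lc_e_rc_4_1 lc_e_rc_10_1 lc_e_rc_15_1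 lc_e_rc_24_2 lc_e_rc_23_0 lc_e_rc_10_1 lc_e_rc_15_1 lc_e_rc_23_2 lc_e_rc_24_0 lc_e_rc_10_1 lc_e_rc_4_1) (@D3.rec (fun _ => (Cert rels S Gen.e)) lc_e_rc_32_51 lc_e_rc_24_2 lc_e_rc_10_1 lc_e_rc_4_1 lc_e_rc_15_1 lc_e_rc_23_2 lc_e_rc_10_1 lc_e_rc_4_1 lc_e_rc_4_3 lc_e_rc_4_1 lc_e_rc_10_1 lc_e_rc_4_1 lc_e_rc_15_1 lc_e_rc_24_2 lc_e_rc_4_1 lc_e_rc_4_1 lc_e_rc_24_2 lc_e_rc_15_1 lc_e_rc_24_2 lc_e_rc_15_1 lc_e_rc_15_1 lc_e_rc_32_25 lc_e_rc_4_1 lc_e_rc_23_2 lc_e_rc_15_1 lc_e_rc_23_2 lc_e_rc_4_1 lc_e_rc_15_1 lc_e_rc_24_2 lc_e_rc_10_1 lc_e_Cert_tree lc_e_rc_4_1 lc_e_rc_10_1 lc_e_rc_22_0 lc_e_rc_24_2 lc_e_rc_24_2 lc_e_rc_4_1 lc_e_rc_4_1 lc_e_rc_24_2 lc_e_rc_4_1) (@D3.rec (fun _ => (Cert rels S Gen.e))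 lc_e_rc_10_1 lc_e_rc_10_1 lc_e_rc_4_1 lc_e_rc_4_1 lc_e_Cert_tree lc_e_rc_23_2 lc_e_rc_24_2 lc_e_rc_23_2 lc_e_rc_10_1 lc_e_Cert_tree lc_e_rc_4_1 lc_e_rc_10_1 lc_e_rc_22_0 lc_e_rc_23_2 lc_e_rc_23_2 lc_e_rc_24_2 lc_e_rc_4_1 lc_e_rc_23_2 lc_e_rc_24_2 lc_e_rc_10_1 lc_e_rc_10_1 lc_e_rc_4_1 lc_e_rc_4_1 lc_e_Cert_tree lc_e_rc_24_2 lc_e_rc_4_1 lc_e_rc_24_2 lc_e_rc_10_1 lc_e_rc_4_1 lc_e_rc_23_2 lc_e_rc_22_0 lc_e_rc_23_2 lc_e_rc_10_1 lc_e_rc_4_1 lc_e_rc_24_2 lc_e_rc_22_0 lc_e_rc_19_3 lc_e_rc_23_2 lc_e_rc_24_2 lc_e_rc_19_3) (@D3.rec (fun _ => (Cert rels S Gen.e)) lc_e_rc_19_3 lc_e_rc_10_1 lc_e_rc_10_1 lc_e_rc_24_2 lc_e_rc_23_2 lc_e_rc_24_2 lc_e_rc_10_1 lc_e_rc_19_3 lc_e_rc_23_2 lc_e_rc_10_1 lc_e_rc_19_3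 lc_e_rc_32_51 lc_e_rc_24_2 lc_e_rc_10_1 lc_e_rc_4_1 lc_e_rc_15_1 lc_e_rc_23_2 lc_e_rc_4_1 lc_e_rc_24_2 lc_e_rc_15_3 lc_e_rc_23_2 lc_e_rc_24_2 lc_e_rc_4_1 lc_e_rc_23_2 lc_e_rc_10_1 lc_e_rc_4_1 lc_e_rc_15_1 lc_e_rc_24_2 lc_e_rc_4_1 lc_e_rc_4_1 lc_e_rc_24_0 lc_e_rc_24_2 lc_e_rc_4_3 lc_e_rc_4_1 lc_e_rc_24_2 lc_e_rc_23_2 lc_e_rc_24_0 lc_e_rc_23_2 lc_e_rc_24_2 lc_e_rc_10_1) (@D3.rec (fun _ => (Cert rels S Gen.e)) lc_e_rc_24_2 lc_e_rc_10_3 lc_e_rc_10_1 lc_e_rc_24_0 lc_e_rc_15_3 lc_e_rc_10_1 lc_e_rc_24_2 lc_e_rc_10_1 lc_e_rc_24_2 lc_e_rc_4_1 lc_e_rc_10_1 lc_e_rc_4_1 lc_e_rc_19_1 lc_e_rc_10_1 lc_e_rc_10_1 lc_e_rc_24_2 lc_e_rc_24_2 lc_e_rc_22_0 lc_e_rc_24_2 lc_e_rc_10_1 lc_e_rc_15_1 lc_e_rc_23_2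 lc_e_rc_24_2 lc_e_rc_10_1 lc_e_rc_4_1 lc_e_rc_4_3 lc_e_rc_10_1 lc_e_rc_4_1 lc_e_Cert_tree lc_e_rc_4_3 lc_e_rc_10_1 lc_e_rc_4_1 lc_e_rc_10_1 lc_e_rc_24_2 lc_e_rc_4_1 lc_e_rc_15_1 lc_e_rc_23_2 lc_e_rc_24_2 lc_e_rc_4_1 lc_e_Cert_tree) (@D3.rec (fun _ => (Cert rels S Gen.e)) lc_e_rc_22_0 lc_e_rc_23_2 lc_e_rc_24_2 lc_e_rc_10_1 lc_e_rc_23_2 lc_e_rc_23_2 lc_e_rc_22_0 lc_e_rc_23_2 lc_e_rc_10_1 lc_e_rc_15_1 lc_e_rc_24_2 lc_e_rc_23_2 lc_e_rc_10_1 lc_e_rc_4_1 lc_e_rc_24_2 lc_e_rc_23_0 lc_e_rc_4_1 lc_e_Cert_tree lc_e_rc_24_2 lc_e_rc_10_1 lc_e_rc_4_1 lc_e_rc_24_0 lc_e_rc_23_2 lc_e_rc_4_1 lc_e_rc_15_1 lc_e_rc_23_2 lc_e_rc_24_2 lc_e_rc_4_1 lc_e_Cert_tree lc_e_rc_22_0 lc_e_rc_24_2 lc_e_rc_4_3 lc_e_rc_10_1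 lc_e_rc_32_51 lc_e_rc_22_0 lc_e_rc_24_2 lc_e_rc_24_2 lc_e_rc_10_1 lc_e_rc_4_1 lc_e_rc_10_1) (@D3.rec (fun _ => (Cert rels S Gen.e)) lc_e_rc_4_1 lc_e_rc_24_2 lc_e_rc_32_51 lc_e_rc_22_0 lc_e_rc_23_2 lc_e_rc_23_2 lc_e_rc_10_1 lc_e_rc_4_1 lc_e_rc_10_1 lc_e_rc_4_1 lc_e_rc_4_3 lc_e_rc_10_1 lc_e_rc_24_2 lc_e_rc_10_1 lc_e_rc_4_1 lc_e_rc_23_2 lc_e_rc_10_1 lc_e_rc_22_0 lc_e_rc_4_1 lc_e_rc_4_3 lc_e_rc_10_1 lc_e_rc_23_2 lc_e_rc_10_1 lc_e_rc_23_2 lc_e_rc_24_2 lc_e_rc_24_2 lc_e_rc_22_0 lc_e_rc_4_1 lc_e_rc_19_3 lc_e_rc_4_1 lc_e_rc_4_1 lc_e_rc_10_1 lc_e_rc_10_1 lc_e_rc_19_3 lc_e_rc_24_2 lc_e_rc_10_1 lc_e_rc_4_3 lc_e_rc_4_1 lc_e_rc_23_2 lc_e_rc_24_2) (@D3.rec (fun _ => (Cert rels S Gen.e)) lc_e_rc_10_1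 lc_e_rc_4_1 lc_e_rc_24_2 lc_e_rc_4_1 lc_e_rc_10_1 lc_e_rc_4_1 lc_e_rc_15_1 lc_e_rc_24_2 lc_e_rc_4_1 lc_e_rc_15_1 lc_e_rc_23_2 lc_e_rc_10_1 lc_e_rc_4_1 lc_e_rc_4_1 lc_e_rc_24_2 lc_e_rc_4_1 lc_e_rc_10_1 lc_e_rc_4_1 lc_e_rc_4_1 lc_e_rc_23_2 lc_e_rc_24_2 lc_e_rc_4_1 lc_e_rc_4_1 lc_e_rc_24_2 lc_e_rc_19_3 lc_e_rc_19_3 lc_e_rc_23_2 lc_e_rc_10_1 lc_e_rc_10_1 lc_e_rc_4_1 lc_e_rc_15_1 lc_e_rc_23_2 lc_e_rc_23_0 lc_e_rc_10_1 lc_e_rc_4_1 lc_e_rc_15_1 lc_e_rc_24_2 lc_e_rc_4_1 lc_e_rc_15_1 lc_e_rc_23_2) (@D3.rec (fun _ => (Cert rels S Gen.e)) lc_e_rc_24_2 lc_e_rc_19_3 lc_e_rc_22_0 lc_e_rc_24_2 lc_e_rc_10_1 lc_e_rc_4_1 lc_e_rc_15_1 lc_e_rc_23_2 lc_e_rc_10_1 lc_e_rc_4_1 lc_e_rc_24_0 lc_e_rc_23_2 lc_e_rc_24_2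 lc_e_rc_4_1 lc_e_rc_15_1 lc_e_rc_23_2 lc_e_rc_24_2 lc_e_rc_19_3 lc_e_rc_22_0 lc_e_rc_23_2 lc_e_rc_10_1 lc_e_rc_4_1 lc_e_rc_15_1 lc_e_rc_24_2 lc_e_rc_24_0 lc_e_rc_4_1 lc_e_rc_4_1 lc_e_rc_24_2 lc_e_rc_4_1 lc_e_rc_19_3 lc_e_rc_24_2 lc_e_rc_10_1 lc_e_rc_10_1 lc_e_rc_4_1 lc_e_rc_15_1 lc_e_rc_4_3 lc_e_rc_10_1 lc_e_rc_10_1 lc_e_rc_4_1 lc_e_rc_15_1) (@D3.rec (fun _ => (Cert rels S Gen.e)) lc_e_rc_24_2 lc_e_rc_19_3 lc_e_rc_23_2 lc_e_rc_10_1 lc_e_rc_10_1 lc_e_rc_4_1 lc_e_rc_15_1 lc_e_rc_24_2 lc_e_rc_10_1 lc_e_rc_10_1 lc_e_rc_4_1 lc_e_rc_15_1 lc_e_rc_4_1 lc_e_rc_4_1 lc_e_rc_4_1 lc_e_rc_4_1 lc_e_rc_15_1 lc_e_Cert_tree lc_e_rc_23_2 lc_e_rc_24_2 lc_e_rc_24_2 lc_e_rc_24_2 lc_e_rc_4_1 lc_e_Cert_tree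 lc_e_rc_23_2 lc_e_rc_24_2 lc_e_rc_22_0 lc_e_rc_24_2 lc_e_rc_10_1 lc_e_rc_4_1 lc_e_rc_15_1 lc_e_rc_23_2 lc_e_rc_24_2 lc_e_rc_10_1 lc_e_rc_4_3 lc_e_rc_4_1 lc_e_rc_24_2 lc_e_rc_4_1 lc_e_rc_10_1 lc_e_rc_10_1) (@D3.rec (fun _ => (Cert rels S Gen.e)) lc_e_rc_4_1 lc_e_Cert_tree lc_e_rc_15_1 lc_e_rc_10_1 lc_e_rc_4_1 lc_e_rc_15_1 lc_e_rc_24_2 lc_e_rc_4_1 lc_e_rc_15_1 lc_e_rc_23_2 lc_e_rc_24_2 lc_e_rc_10_1 lc_e_Cert_tree lc_e_rc_4_1 lc_e_rc_10_1 lc_e_rc_22_0 lc_e_rc_4_3 lc_e_rc_10_1 lc_e_rc_4_1 lc_e_rc_4_1 lc_e_rc_4_1 lc_e_rc_15_1 lc_e_Cert_tree lc_e_rc_23_2 lc_e_rc_24_2 lc_e_rc_23_2 lc_e_rc_24_2 lc_e_rc_4_1 lc_e_Cert_tree lc_e_rc_23_2 lc_e_rc_24_2 lc_e_rc_22_0 lc_e_rc_23_2 lc_e_rc_10_1 lc_e_rc_4_1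 lc_e_rc_15_1 lc_e_rc_24_2 lc_e_rc_23_2 lc_e_rc_10_1 lc_e_rc_24_2) (@D3.rec (fun _ => (Cert rels S Gen.e)) lc_e_rc_4_1 lc_e_rc_23_2 lc_e_rc_24_2 lc_e_rc_10_1 lc_e_rc_10_1 lc_e_rc_4_1 lc_e_rc_4_1 lc_e_rc_23_0 lc_e_rc_10_1 lc_e_rc_4_1 lc_e_rc_15_1 lc_e_rc_23_2 lc_e_rc_4_1 lc_e_rc_15_1 lc_e_rc_23_2 lc_e_rc_24_2 lc_e_rc_10_1 lc_e_rc_24_0 lc_e_rc_4_1 lc_e_rc_10_1 lc_e_rc_22_0 lc_e_rc_4_3 lc_e_rc_10_1 lc_e_rc_23_2 lc_e_rc_24_2 lc_e_Cert_tree lc_e_rc_4_1 lc_e_rc_4_1 lc_e_rc_32_77 lc_e_rc_22_0 lc_e_rc_23_2 lc_e_rc_24_2 lc_e_rc_24_2 lc_e_rc_4_1 lc_e_rc_10_1 lc_e_rc_23_2 lc_e_rc_4_1 lc_e_rc_15_1 lc_e_rc_23_2 lc_e_rc_10_1) (@D3.rec (fun _ => (Cert rels S Gen.e)) lc_e_rc_10_1 lc_e_rc_4_1 lc_e_rc_4_1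 lc_e_Cert_tree lc_e_rc_23_2 lc_e_rc_23_2 lc_e_rc_24_2 lc_e_rc_4_1 lc_e_rc_24_2 lc_e_rc_10_1 lc_e_Cert_tree lc_e_Cert_tree lc_e_rc_22_0 lc_e_rc_4_1 lc_e_Cert_tree lc_e_rc_23_2 lc_e_rc_24_2 lc_e_rc_22_0 lc_e_Cert_tree lc_e_rc_22_0 lc_e_rc_23_2 lc_e_rc_24_2 lc_e_Cert_tree lc_e_rc_4_1 lc_e_rc_4_1 lc_e_rc_4_3 lc_e_rc_22_0 lc_e_rc_23_2 lc_e_rc_4_3 lc_e_rc_24_2 lc_e_rc_4_1 lc_e_rc_10_1 lc_e_rc_24_2 lc_e_rc_4_1 lc_e_rc_15_1 lc_e_rc_24_2 lc_e_rc_10_1 lc_e_rc_10_1 lc_e_rc_4_1 lc_e_rc_4_1) (@D3.rec (fun _ => (Cert rels S Gen.e)) lc_e_Cert_tree lc_e_rc_24_2 lc_e_rc_24_2 lc_e_rc_4_1 lc_e_rc_4_1 lc_e_rc_23_2 lc_e_rc_10_1 lc_e_Cert_tree lc_e_Cert_tree lc_e_rc_22_0 lc_e_rc_4_1 lc_e_Cert_tree lc_e_rc_23_2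 lc_e_rc_24_2 lc_e_rc_22_0 lc_e_Cert_tree lc_e_rc_22_0 lc_e_rc_4_1 lc_e_rc_4_1 lc_e_rc_24_2 lc_e_rc_4_1 lc_e_rc_10_1 lc_e_rc_15_1 lc_e_rc_19_5 lc_e_Cert_tree lc_e_rc_19_5 lc_e_rc_10_3 lc_e_Cert_tree lc_e_rc_23_2 lc_e_rc_24_2 lc_e_rc_22_0 lc_e_rc_4_1 lc_e_rc_4_1 lc_e_rc_23_2 lc_e_rc_24_2 lc_e_rc_10_1 lc_e_rc_15_1 lc_e_rc_19_5 lc_e_Cert_tree lc_e_rc_19_5) (@D3.rec (fun _ => (Cert rels S Gen.e)) lc_e_rc_10_3 lc_e_Cert_tree lc_e_rc_23_2 lc_e_rc_22_0 lc_e_rc_4_1 lc_e_rc_24_2 lc_e_rc_23_0 lc_e_rc_23_2 lc_e_rc_23_0 lc_e_rc_24_2 lc_e_rc_10_1 lc_e_rc_24_2 lc_e_rc_15_1 lc_e_rc_23_2 lc_e_rc_10_1 lc_e_rc_15_1 lc_e_rc_10_1 lc_e_rc_4_1 lc_e_rc_15_1 lc_e_rc_24_2 lc_e_rc_10_1 lc_e_rc_15_1 lc_e_rc_23_2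 lc_e_rc_24_2 lc_e_rc_4_1 lc_e_rc_10_1 lc_e_rc_24_2 lc_e_rc_10_1 lc_e_rc_15_1 lc_e_rc_23_2 lc_e_rc_24_2 lc_e_rc_4_1 lc_e_rc_10_1 lc_e_rc_23_2 lc_e_rc_4_1 lc_e_rc_24_2 lc_e_rc_4_3 lc_e_rc_24_2 lc_e_rc_10_1 lc_e_rc_4_1) (@D3.rec (fun _ => (Cert rels S Gen.e)) lc_e_rc_15_1 lc_e_rc_23_2 lc_e_rc_10_1 lc_e_rc_10_3 lc_e_rc_15_1 lc_e_rc_23_2 lc_e_rc_10_1 lc_e_rc_4_1 lc_e_rc_10_1 lc_e_rc_4_3 lc_e_rc_24_0 lc_e_rc_23_2 lc_e_rc_10_1 lc_e_rc_23_2 lc_e_rc_10_1 lc_e_rc_4_1 lc_e_rc_15_1 lc_e_rc_24_2 lc_e_rc_24_2 lc_e_rc_4_1 lc_e_rc_15_1 lc_e_rc_23_2 lc_e_rc_10_1 lc_e_rc_4_1 lc_e_rc_10_1 lc_e_rc_24_2 lc_e_Cert_tree lc_e_rc_4_1 lc_e_rc_4_1 lc_e_rc_24_2 lc_e_rc_10_1 lc_e_rc_23_2 lc_e_rc_24_2 lc_e_rc_22_0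 lc_e_rc_24_2 lc_e_rc_24_2 lc_e_rc_10_1 lc_e_rc_4_3 lc_e_rc_10_1 lc_e_rc_4_1) (@D3.rec (fun _ => (Cert rels S Gen.e)) lc_e_rc_24_2 lc_e_rc_4_3 lc_e_rc_4_1 lc_e_rc_22_0 lc_e_rc_24_2 lc_e_rc_24_2 lc_e_rc_24_2 lc_e_rc_4_3 lc_e_rc_24_2 lc_e_rc_10_1 lc_e_rc_4_1 lc_e_rc_15_1 lc_e_rc_23_2 lc_e_rc_10_1 lc_e_rc_4_1 lc_e_rc_4_1 lc_e_Cert_tree lc_e_rc_23_2 lc_e_rc_10_1 lc_e_rc_4_1 lc_e_rc_4_1 lc_e_rc_15_1 lc_e_rc_10_1 lc_e_rc_10_1 lc_e_rc_4_1 lc_e_rc_4_3 lc_e_rc_4_3 lc_e_rc_10_1 lc_e_rc_4_1 lc_e_rc_15_1 lc_e_rc_24_2 lc_e_rc_4_1 lc_e_rc_15_1 lc_e_rc_23_2 lc_e_rc_24_2 lc_e_rc_10_1 lc_e_rc_23_0 lc_e_rc_4_1 lc_e_rc_15_1 lc_e_rc_24_2) (@D3.rec (fun _ => (Cert rels S Gen.e)) lc_e_rc_4_1 lc_e_rc_4_1 lc_e_rc_24_2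 lc_e_rc_4_3 lc_e_rc_4_1 lc_e_rc_4_1 lc_e_rc_24_2 lc_e_rc_23_2 lc_e_rc_4_1 lc_e_rc_23_2 lc_e_rc_24_2 lc_e_rc_4_1 lc_e_rc_23_2 lc_e_Cert_tree lc_e_rc_4_1 lc_e_rc_4_1 lc_e_rc_10_1 lc_e_rc_24_2 lc_e_rc_23_2 lc_e_rc_24_2 lc_e_rc_22_0 lc_e_rc_23_2 lc_e_rc_10_1 lc_e_rc_24_2 lc_e_rc_4_3 lc_e_rc_4_1 lc_e_rc_23_2 lc_e_rc_24_2 lc_e_rc_24_2 lc_e_rc_22_0 lc_e_rc_23_2 lc_e_rc_23_2 lc_e_rc_24_2 lc_e_rc_4_3 lc_e_rc_23_2 lc_e_rc_10_1 lc_e_rc_4_1 lc_e_rc_15_1 lc_e_rc_24_2 lc_e_rc_10_1) (@D3.rec (fun _ => (Cert rels S Gen.e)) lc_e_rc_4_1 lc_e_Cert_tree lc_e_rc_24_2 lc_e_rc_10_1 lc_e_rc_24_2 lc_e_rc_4_1 lc_e_rc_15_1 lc_e_rc_10_1 lc_e_rc_10_1 lc_e_rc_4_1 lc_e_rc_24_2 lc_e_rc_10_1 lc_e_rc_4_1 lc_e_rc_15_1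 lc_e_rc_23_2 lc_e_rc_4_1 lc_e_rc_15_1 lc_e_rc_23_2 lc_e_rc_24_2 lc_e_rc_4_1 lc_e_rc_15_1 lc_e_rc_23_2 lc_e_rc_4_1 lc_e_rc_24_2 lc_e_rc_23_2 lc_e_rc_24_2 lc_e_rc_4_1 lc_e_rc_4_1 lc_e_rc_23_2 lc_e_rc_24_2 lc_e_rc_4_1 lc_e_rc_23_2 lc_e_rc_4_1 lc_e_rc_24_2 lc_e_rc_4_1 lc_e_rc_24_2 lc_e_rc_32_25 lc_e_rc_32_25 lc_e_rc_4_1 lc_e_rc_24_2) (@D3.rec (fun _ => (Cert rels S Gen.e)) lc_e_rc_4_3 lc_e_rc_22_0 lc_e_rc_10_1 lc_e_rc_24_2 lc_e_rc_10_1 lc_e_rc_10_1 lc_e_rc_23_2 lc_e_rc_24_2 lc_e_rc_24_2 lc_e_rc_10_1 lc_e_rc_23_2 lc_e_rc_19_3 lc_e_rc_10_1 lc_e_rc_4_1 lc_e_rc_15_1 lc_e_rc_23_2 lc_e_rc_10_1 lc_e_rc_10_1 lc_e_rc_24_2 lc_e_rc_15_1 lc_e_Cert_tree lc_e_rc_4_1 lc_e_rc_10_1 lc_e_Cert_tree lc_e_rc_22_0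 lc_e_rc_10_1 lc_e_rc_24_2 lc_e_rc_4_1 lc_e_rc_24_2 lc_e_rc_10_1 lc_e_rc_4_1 lc_e_rc_4_3 lc_e_rc_4_1 lc_e_Cert_tree lc_e_rc_24_2 lc_e_rc_22_0 lc_e_Cert_tree lc_e_rc_22_0 lc_e_rc_10_1 lc_e_Cert_tree) (@D3.rec (fun _ => (Cert rels S Gen.e)) lc_e_rc_4_1 lc_e_rc_4_1 lc_e_rc_22_0 lc_e_rc_24_2 lc_e_rc_4_3 lc_e_Cert_tree lc_e_rc_22_0 lc_e_rc_24_2 lc_e_rc_4_1 lc_e_rc_4_1 lc_e_rc_4_1 lc_e_rc_19_1 lc_e_rc_4_1 lc_e_rc_24_2 lc_e_rc_4_3 lc_e_rc_22_0 lc_e_rc_10_1 lc_e_rc_23_2 lc_e_rc_10_1 lc_e_rc_10_1 lc_e_rc_24_2 lc_e_rc_23_2 lc_e_rc_10_1 lc_e_rc_24_2 lc_e_rc_24_2 lc_e_rc_4_1 lc_e_rc_10_1 lc_e_rc_4_1 lc_e_rc_15_1 lc_e_rc_24_2 lc_e_rc_10_1 lc_e_rc_24_2 lc_e_rc_23_2 lc_e_rc_15_1 lc_e_Cert_tree lc_e_rc_4_1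 lc_e_rc_10_1 lc_e_Cert_tree lc_e_rc_22_0 lc_e_rc_10_1) (@D3.rec (fun _ => (Cert rels S Gen.e)) lc_e_rc_4_3 lc_e_rc_4_1 lc_e_rc_4_3 lc_e_rc_10_1 lc_e_rc_4_1 lc_e_rc_24_2 lc_e_rc_4_1 lc_e_Cert_tree lc_e_rc_23_2 lc_e_rc_22_0 lc_e_Cert_tree lc_e_rc_22_0 lc_e_rc_10_1 lc_e_Cert_tree lc_e_rc_4_1 lc_e_rc_4_1 lc_e_rc_22_0 lc_e_rc_24_2 lc_e_rc_4_3 lc_e_Cert_tree lc_e_rc_22_0 lc_e_rc_23_2 lc_e_rc_22_0 lc_e_rc_15_3 lc_e_rc_24_2 lc_e_rc_24_2 lc_e_rc_22_0 lc_e_rc_22_0 lc_e_rc_24_2 lc_e_rc_24_2 lc_e_rc_23_2 lc_e_rc_10_1 lc_e_rc_24_2 lc_e_rc_23_2 lc_e_rc_19_1 lc_e_rc_23_2 lc_e_rc_24_2 lc_e_rc_10_1 lc_e_rc_10_1 lc_e_rc_10_1) (@D3.rec (fun _ => (Cert rels S Gen.e)) lc_e_rc_23_2 lc_e_rc_4_1 lc_e_rc_15_1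 lc_e_Cert_tree lc_e_rc_22_0 lc_e_rc_23_0 lc_e_Cert_tree lc_e_rc_23_2 lc_e_rc_24_2 lc_e_rc_22_0 lc_e_rc_15_1 lc_e_rc_23_2 lc_e_Cert_tree lc_e_Cert_tree lc_e_rc_22_0 lc_e_rc_23_2 lc_e_rc_24_2 lc_e_rc_22_0 lc_e_rc_24_2 lc_e_rc_23_2 lc_e_rc_24_2 lc_e_rc_23_2 lc_e_rc_22_0 lc_e_rc_23_2 lc_e_rc_23_2 lc_e_rc_23_2 lc_e_rc_22_0 lc_e_rc_22_0 lc_e_rc_23_2 lc_e_rc_23_2 lc_e_rc_24_2 lc_e_rc_23_2 lc_e_rc_23_0 lc_e_rc_23_2 lc_e_rc_10_1 lc_e_rc_10_1 lc_e_rc_10_1 lc_e_rc_4_1 lc_e_rc_10_1 lc_e_Cert_tree) (@D3.rec (fun _ => (Cert rels S Gen.e)) lc_e_rc_22_0 lc_e_rc_15_3 lc_e_Cert_tree lc_e_rc_10_3 lc_e_rc_10_1 lc_e_rc_22_0 lc_e_rc_4_1 lc_e_rc_24_2 lc_e_Cert_tree lc_e_Cert_tree lc_e_rc_22_0 lc_e_rc_23_2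 lc_e_rc_24_2 lc_e_rc_22_0 lc_e_rc_23_2 lc_e_rc_23_2 lc_e_rc_24_2 lc_e_rc_24_2 lc_e_rc_22_0 lc_e_rc_24_2 lc_e_rc_24_2 lc_e_rc_10_1 lc_e_rc_24_2 lc_e_rc_10_1 lc_e_rc_10_1 lc_e_rc_15_1 lc_e_rc_23_2 lc_e_rc_24_2 lc_e_rc_10_1 lc_e_rc_4_1 lc_e_rc_4_1 lc_e_rc_15_1 lc_e_rc_23_2 lc_e_rc_24_2 lc_e_rc_4_1 lc_e_rc_19_3 lc_e_rc_4_1 lc_e_rc_10_1 lc_e_rc_23_2 lc_e_rc_10_1) (@D3.rec (fun _ => (Cert rels S Gen.e)) lc_e_rc_19_3 lc_e_rc_10_1 lc_e_Cert_tree lc_e_rc_22_0 lc_e_rc_23_2 lc_e_rc_10_1 lc_e_rc_10_1 lc_e_rc_22_0 lc_e_rc_10_1 lc_e_rc_4_1 lc_e_rc_10_1 lc_e_rc_10_3 lc_e_rc_22_0 lc_e_rc_10_3 lc_e_rc_22_0 lc_e_rc_23_2 lc_e_rc_23_0 lc_e_rc_10_3 lc_e_rc_22_0 lc_e_rc_24_2 lc_e_rc_19_3 lc_e_rc_4_1 lc_e_rc_23_2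 lc_e_rc_24_2 lc_e_rc_10_1 lc_e_rc_10_1 lc_e_rc_15_1 lc_e_rc_19_3 lc_e_rc_24_2 lc_e_rc_24_0 lc_e_rc_23_2 lc_e_rc_22_0 lc_e_rc_24_2 lc_e_rc_23_2 lc_e_rc_10_1 lc_e_rc_24_2 lc_e_rc_10_1 lc_e_rc_23_0 lc_e_rc_24_2 lc_e_rc_4_3) (@D3.rec (fun _ => (Cert rels S Gen.e)) lc_e_rc_10_1 lc_e_rc_10_1 lc_e_rc_4_1 lc_e_rc_15_1 lc_e_rc_24_2 lc_e_rc_10_1 lc_e_rc_24_2 lc_e_rc_10_1 lc_e_rc_4_3 lc_e_Cert_tree lc_e_rc_22_0 lc_e_rc_24_2 lc_e_rc_10_1 lc_e_rc_10_1 lc_e_rc_22_0 lc_e_rc_19_3 lc_e_rc_23_2 lc_e_rc_24_2 lc_e_rc_4_1 lc_e_rc_23_2 lc_e_rc_22_0 lc_e_rc_4_1 lc_e_rc_23_2 lc_e_rc_4_1 lc_e_rc_23_2 lc_e_rc_24_2 lc_e_rc_10_1 lc_e_rc_10_1 lc_e_rc_15_1 lc_e_rc_19_3 lc_e_rc_24_2 lc_e_rc_24_0 lc_e_rc_10_1 lc_e_rc_10_1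 lc_e_rc_10_1 lc_e_rc_10_1 lc_e_rc_4_1 lc_e_rc_4_1 lc_e_rc_15_1 lc_e_rc_15_1)
def ce_e_9 : D2 → D3 → (Cert rels S Gen.e) := @D2.rec (fun _ => D3 → (Cert rels S Gen.e)) (@D3.rec (fun _ => (Cert rels S Gen.e)) lc_e_rc_4_1 lc_e_rc_4_1 lc_e_rc_4_1 lc_e_rc_15_1 lc_e_rc_23_2 lc_e_rc_4_1 lc_e_rc_15_1 lc_e_rc_24_2 lc_e_rc_23_2 lc_e_rc_24_2 lc_e_rc_15_1 lc_e_rc_24_2 lc_e_rc_15_1 lc_e_rc_23_2 lc_e_rc_23_2 lc_e_rc_24_2 lc_e_rc_15_3 lc_e_rc_23_0 lc_e_rc_23_2 lc_e_rc_15_3 lc_e_rc_10_1 lc_e_rc_4_1 lc_e_rc_15_1 lc_e_rc_23_2 lc_e_rc_10_1 lc_e_rc_4_1 lc_e_rc_15_1 lc_e_rc_24_2 lc_e_rc_24_2 lc_e_rc_23_2 lc_e_rc_15_1 lc_e_rc_24_2 lc_e_rc_22_1 lc_e_rc_24_2 lc_e_rc_24_0 lc_e_rc_4_1 lc_e_rc_10_3 lc_e_rc_24_2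 lc_e_rc_24_0 lc_e_rc_15_1) (@D3.rec (fun _ => (Cert rels S Gen.e)) lc_e_rc_23_2 lc_e_rc_24_2 lc_e_rc_10_1 lc_e_rc_10_1 lc_e_rc_23_2 lc_e_rc_24_2 lc_e_rc_10_1 lc_e_rc_10_1 lc_e_rc_23_2 lc_e_rc_24_2 lc_e_rc_19_3 lc_e_rc_4_3 lc_e_rc_4_3 lc_e_rc_24_2 lc_e_rc_23_2 lc_e_rc_19_3 lc_e_rc_19_3 lc_e_rc_23_2 lc_e_rc_24_2 lc_e_rc_24_2 lc_e_rc_4_3 lc_e_rc_24_2 lc_e_rc_4_1 lc_e_rc_10_1 lc_e_rc_10_1 lc_e_rc_24_2 lc_e_rc_10_1 lc_e_rc_23_2 lc_e_rc_10_1 lc_e_rc_24_2 lc_e_rc_4_1 lc_e_rc_15_1 lc_e_rc_19_3 lc_e_rc_23_2 lc_e_rc_4_1 lc_e_rc_15_1 lc_e_rc_10_1 lc_e_rc_4_1 lc_e_rc_15_1 lc_e_rc_23_2) (@D3.rec (fun _ => (Cert rels S Gen.e)) lc_e_rc_4_3 lc_e_rc_4_1 lc_e_rc_24_2 lc_e_rc_15_3 lc_e_rc_23_2 lc_e_rc_24_2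 lc_e_rc_4_1 lc_e_rc_15_1 lc_e_rc_24_2 lc_e_rc_24_2 lc_e_rc_4_1 lc_e_rc_4_1 lc_e_rc_15_3 lc_e_rc_24_2 lc_e_rc_4_3 lc_e_rc_10_1 lc_e_rc_4_1 lc_e_rc_4_1 lc_e_rc_24_2 lc_e_rc_4_1 lc_e_rc_10_1 lc_e_rc_4_1 lc_e_rc_24_0 lc_e_rc_23_2 lc_e_rc_24_2 lc_e_rc_4_1 lc_e_rc_10_1 lc_e_rc_4_1 lc_e_rc_15_1 lc_e_rc_10_1 lc_e_rc_4_1 lc_e_rc_24_2 lc_e_rc_10_1 lc_e_rc_24_2 lc_e_rc_4_1 lc_e_rc_24_2 lc_e_rc_24_2 lc_e_rc_24_2 lc_e_rc_4_1 lc_e_rc_15_1) (@D3.rec (fun _ => (Cert rels S Gen.e)) lc_e_rc_23_2 lc_e_rc_15_1 lc_e_rc_24_2 lc_e_rc_23_2 lc_e_rc_24_2 lc_e_rc_23_2 lc_e_rc_4_1 lc_e_rc_15_1 lc_e_rc_24_2 lc_e_rc_15_1 lc_e_rc_23_2 lc_e_rc_24_0 lc_e_rc_23_0 lc_e_rc_24_2 lc_e_rc_10_1 lc_e_Cert_tree lc_e_Cert_tree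 lc_e_rc_22_0 lc_e_rc_24_2 lc_e_rc_10_1 lc_e_rc_4_1 lc_e_rc_15_1 lc_e_rc_23_2 lc_e_rc_4_3 lc_e_rc_4_1 lc_e_rc_24_0 lc_e_rc_24_0 lc_e_rc_23_2 lc_e_rc_24_2 lc_e_rc_23_2 lc_e_rc_10_1 lc_e_Cert_tree lc_e_Cert_tree lc_e_rc_22_0 lc_e_rc_23_2 lc_e_rc_10_1 lc_e_rc_4_1 lc_e_rc_15_1 lc_e_rc_24_2 lc_e_rc_24_0) (@D3.rec (fun _ => (Cert rels S Gen.e)) lc_e_rc_4_1 lc_e_rc_4_1 lc_e_rc_10_3 lc_e_rc_24_2 lc_e_rc_4_1 lc_e_rc_24_2 lc_e_rc_23_2 lc_e_rc_4_1 lc_e_rc_24_2 lc_e_rc_10_1 lc_e_Cert_tree lc_e_rc_22_0 lc_e_rc_24_2 lc_e_rc_4_1 lc_e_rc_4_1 lc_e_rc_23_2 lc_e_rc_10_1 lc_e_rc_10_1 lc_e_rc_10_1 lc_e_rc_24_0 lc_e_rc_10_1 lc_e_rc_23_2 lc_e_rc_4_1 lc_e_Cert_tree lc_e_rc_22_0 lc_e_rc_4_3 lc_e_rc_24_2 lc_e_rc_24_2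 lc_e_rc_4_1 lc_e_rc_10_1 lc_e_rc_24_0 lc_e_rc_10_1 lc_e_rc_24_2 lc_e_rc_4_1 lc_e_rc_24_2 lc_e_rc_24_2 lc_e_rc_24_2 lc_e_rc_4_1 lc_e_rc_19_3 lc_e_Cert_tree) (@D3.rec (fun _ => (Cert rels S Gen.e)) lc_e_rc_22_0 lc_e_rc_24_2 lc_e_rc_10_1 lc_e_rc_4_1 lc_e_rc_15_1 lc_e_rc_23_2 lc_e_rc_22_0 lc_e_rc_24_2 lc_e_rc_24_2 lc_e_rc_4_3 lc_e_rc_10_1 lc_e_rc_10_1 lc_e_rc_4_1 lc_e_Cert_tree lc_e_rc_4_1 lc_e_rc_10_1 lc_e_rc_4_1 lc_e_rc_15_1 lc_e_rc_24_2 lc_e_rc_4_1 lc_e_rc_15_1 lc_e_rc_23_2 lc_e_rc_24_2 lc_e_rc_10_1 lc_e_Cert_tree lc_e_rc_4_1 lc_e_Cert_tree lc_e_rc_22_0 lc_e_rc_23_2 lc_e_rc_24_2 lc_e_rc_10_1 lc_e_rc_4_1 lc_e_rc_23_2 lc_e_rc_23_2 lc_e_rc_24_2 lc_e_rc_4_1 lc_e_rc_19_3 lc_e_Cert_tree lc_e_rc_22_0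 lc_e_rc_23_2) (@D3.rec (fun _ => (Cert rels S Gen.e)) lc_e_rc_10_1 lc_e_rc_4_1 lc_e_rc_15_1 lc_e_rc_24_2 lc_e_rc_22_0 lc_e_rc_23_2 lc_e_rc_23_2 lc_e_rc_24_2 lc_e_rc_10_1 lc_e_rc_10_1 lc_e_rc_4_1 lc_e_Cert_tree lc_e_rc_24_2 lc_e_rc_10_1 lc_e_rc_4_1 lc_e_rc_15_1 lc_e_rc_23_2 lc_e_rc_4_1 lc_e_rc_15_1 lc_e_rc_23_2 lc_e_rc_24_2 lc_e_rc_10_1 lc_e_Cert_tree lc_e_rc_4_1 lc_e_Cert_tree lc_e_rc_22_0 lc_e_rc_24_2 lc_e_rc_4_1 lc_e_rc_10_1 lc_e_rc_4_1 lc_e_Cert_tree lc_e_rc_23_2 lc_e_rc_24_2 lc_e_rc_22_0 lc_e_Cert_tree lc_e_rc_22_0 lc_e_rc_4_1 lc_e_Cert_tree lc_e_rc_23_2 lc_e_rc_24_2) (@D3.rec (fun _ => (Cert rels S Gen.e)) lc_e_rc_22_0 lc_e_Cert_tree lc_e_rc_22_0 lc_e_rc_19_1 lc_e_rc_10_1 lc_e_Cert_tree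 lc_e_rc_23_2 lc_e_rc_24_2 lc_e_rc_22_0 lc_e_rc_19_1 lc_e_rc_10_1 lc_e_Cert_tree lc_e_rc_23_2 lc_e_rc_22_0 lc_e_rc_10_1 lc_e_rc_10_1 lc_e_rc_4_1 lc_e_rc_15_1 lc_e_rc_23_2 lc_e_rc_24_2 lc_e_Cert_tree lc_e_rc_23_2 lc_e_rc_24_2 lc_e_rc_24_0 lc_e_rc_23_2 lc_e_rc_24_2 lc_e_rc_4_1 lc_e_Cert_tree lc_e_rc_15_1 lc_e_rc_23_2 lc_e_rc_24_2 lc_e_rc_22_0 lc_e_rc_24_2 lc_e_rc_10_1 lc_e_rc_4_1 lc_e_rc_15_1 lc_e_rc_23_2 lc_e_rc_10_1 lc_e_rc_4_1 lc_e_rc_15_3) (@D3.rec (fun _ => (Cert rels S Gen.e)) lc_e_rc_23_2 lc_e_rc_24_2 lc_e_rc_4_3 lc_e_rc_4_3 lc_e_rc_10_1 lc_e_Cert_tree lc_e_rc_24_2 lc_e_Cert_tree lc_e_rc_22_0 lc_e_rc_23_2 lc_e_rc_24_2 lc_e_rc_4_3 lc_e_rc_23_2 lc_e_rc_22_0 lc_e_rc_23_2 lc_e_rc_10_1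 lc_e_rc_4_1 lc_e_rc_15_1 lc_e_rc_24_2 lc_e_rc_10_1 lc_e_rc_4_1 lc_e_rc_10_1 lc_e_rc_24_2 lc_e_rc_4_1 lc_e_rc_24_2 lc_e_rc_4_3 lc_e_rc_10_1 lc_e_Cert_tree lc_e_rc_4_1 lc_e_rc_10_3 lc_e_rc_22_0 lc_e_rc_24_2 lc_e_rc_4_3 lc_e_rc_24_2 lc_e_rc_10_1 lc_e_rc_4_1 lc_e_rc_24_2 lc_e_rc_23_2 lc_e_rc_10_1 lc_e_rc_4_1) (@D3.rec (fun _ => (Cert rels S Gen.e)) lc_e_rc_4_1 lc_e_rc_23_2 lc_e_rc_10_1 lc_e_rc_4_1 lc_e_rc_23_2 lc_e_rc_24_2 lc_e_rc_10_1 lc_e_rc_4_1 lc_e_rc_4_1 lc_e_rc_24_2 lc_e_rc_4_1 lc_e_rc_10_1 lc_e_rc_24_2 lc_e_rc_10_1 lc_e_rc_10_1 lc_e_rc_4_1 lc_e_rc_10_1 lc_e_rc_4_1 lc_e_Cert_tree lc_e_rc_15_1 lc_e_rc_10_1 lc_e_rc_4_1 lc_e_rc_4_1 lc_e_rc_10_1 lc_e_Cert_tree lc_e_rc_4_1 lc_e_Cert_tree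 lc_e_rc_22_0 lc_e_rc_23_2 lc_e_rc_10_1 lc_e_rc_10_1 lc_e_rc_4_1 lc_e_rc_23_2 lc_e_rc_10_1 lc_e_rc_4_1 lc_e_rc_4_1 lc_e_rc_4_1 lc_e_rc_4_1 lc_e_Cert_tree lc_e_rc_15_1) (@D3.rec (fun _ => (Cert rels S Gen.e)) lc_e_rc_24_2 lc_e_rc_4_1 lc_e_rc_4_1 lc_e_rc_10_1 lc_e_Cert_tree lc_e_rc_4_1 lc_e_Cert_tree lc_e_rc_22_0 lc_e_rc_24_2 lc_e_rc_10_1 lc_e_rc_10_1 lc_e_rc_4_3 lc_e_rc_4_1 lc_e_rc_22_0 lc_e_rc_24_2 lc_e_rc_4_1 lc_e_rc_15_1 lc_e_rc_23_2 lc_e_rc_4_1 lc_e_Cert_tree lc_e_rc_23_2 lc_e_rc_19_3 lc_e_rc_24_2 lc_e_rc_10_1 lc_e_rc_4_1 lc_e_rc_10_1 lc_e_rc_4_1 lc_e_rc_15_1 lc_e_rc_24_2 lc_e_rc_4_1 lc_e_rc_15_1 lc_e_rc_23_2 lc_e_rc_24_2 lc_e_rc_10_1 lc_e_Cert_tree lc_e_Cert_tree lc_e_rc_22_0 lc_e_rc_23_2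 lc_e_rc_10_1 lc_e_rc_4_1) (@D3.rec (fun _ => (Cert rels S Gen.e)) lc_e_rc_4_1 lc_e_rc_4_1 lc_e_rc_24_2 lc_e_rc_4_1 lc_e_rc_15_1 lc_e_Cert_tree lc_e_rc_23_2 lc_e_rc_24_2 lc_e_rc_4_1 lc_e_Cert_tree lc_e_rc_23_2 lc_e_rc_24_2 lc_e_Cert_tree lc_e_rc_22_0 lc_e_rc_23_2 lc_e_rc_10_1 lc_e_Cert_tree lc_e_Cert_tree lc_e_rc_22_0 lc_e_rc_23_2 lc_e_rc_24_2 lc_e_rc_10_1 lc_e_rc_24_2 lc_e_rc_15_1 lc_e_rc_23_2 lc_e_rc_10_1 lc_e_rc_24_2 lc_e_rc_22_0 lc_e_rc_23_2 lc_e_rc_4_1 lc_e_rc_15_1 lc_e_rc_24_2 lc_e_Cert_tree lc_e_rc_24_2 lc_e_rc_10_1 lc_e_rc_23_2 lc_e_rc_10_1 lc_e_rc_24_2 lc_e_rc_10_1 lc_e_rc_4_1) (@D3.rec (fun _ => (Cert rels S Gen.e)) lc_e_rc_15_1 lc_e_rc_23_2 lc_e_rc_10_1 lc_e_rc_15_1 lc_e_rc_23_2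 lc_e_rc_4_1 lc_e_rc_10_1 lc_e_Cert_tree lc_e_Cert_tree lc_e_rc_22_0 lc_e_rc_24_2 lc_e_rc_10_1 lc_e_rc_23_2 lc_e_rc_4_1 lc_e_rc_4_1 lc_e_rc_23_2 lc_e_rc_10_3 lc_e_rc_15_1 lc_e_Cert_tree lc_e_rc_23_2 lc_e_rc_24_2 lc_e_rc_4_1 lc_e_Cert_tree lc_e_rc_23_2 lc_e_rc_24_2 lc_e_Cert_tree lc_e_rc_22_0 lc_e_rc_24_2 lc_e_rc_10_1 lc_e_Cert_tree lc_e_Cert_tree lc_e_rc_22_0 lc_e_rc_24_2 lc_e_rc_4_3 lc_e_rc_10_1 lc_e_rc_4_1 lc_e_rc_15_1 lc_e_rc_24_2 lc_e_rc_10_1 lc_e_rc_24_2) (@D3.rec (fun _ => (Cert rels S Gen.e)) lc_e_rc_4_1 lc_e_rc_4_1 lc_e_rc_22_0 lc_e_rc_4_1 lc_e_rc_23_2 lc_e_Cert_tree lc_e_rc_22_0 lc_e_rc_23_2 lc_e_rc_24_2 lc_e_rc_10_1 lc_e_rc_4_1 lc_e_rc_22_0 lc_e_Cert_tree lc_e_rc_22_0 lc_e_rc_23_2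 lc_e_rc_24_2 lc_e_Cert_tree lc_e_rc_22_0 lc_e_rc_24_2 lc_e_rc_10_1 lc_e_rc_22_0 lc_e_rc_24_2 lc_e_rc_23_2 lc_e_rc_24_2 lc_e_rc_24_2 lc_e_rc_15_3 lc_e_Cert_tree lc_e_rc_10_1 lc_e_Cert_tree lc_e_rc_22_0 lc_e_rc_23_2 lc_e_rc_24_2 lc_e_rc_24_2 lc_e_Cert_tree lc_e_rc_22_0 lc_e_rc_23_2 lc_e_rc_10_1 lc_e_rc_22_0 lc_e_rc_23_2 lc_e_rc_23_2) (@D3.rec (fun _ => (Cert rels S Gen.e)) lc_e_rc_24_2 lc_e_rc_23_2 lc_e_rc_10_1 lc_e_Cert_tree lc_e_rc_23_2 lc_e_Cert_tree lc_e_rc_22_0 lc_e_rc_23_2 lc_e_rc_24_2 lc_e_rc_4_1 lc_e_rc_15_1 lc_e_rc_10_1 lc_e_rc_15_1 lc_e_rc_10_1 lc_e_rc_23_2 lc_e_rc_24_2 lc_e_rc_4_3 lc_e_rc_24_2 lc_e_rc_4_1 lc_e_rc_4_3 lc_e_rc_4_1 lc_e_rc_4_1 lc_e_rc_24_0 lc_e_rc_4_1 lc_e_rc_10_1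 lc_e_rc_4_1 lc_e_rc_4_1 lc_e_rc_23_2 lc_e_rc_24_2 lc_e_rc_24_2 lc_e_rc_4_1 lc_e_rc_4_1 lc_e_rc_10_1 lc_e_rc_24_2 lc_e_rc_4_1 lc_e_rc_10_1 lc_e_rc_23_2 lc_e_rc_10_1 lc_e_rc_4_1 lc_e_rc_4_1) (@D3.rec (fun _ => (Cert rels S Gen.e)) lc_e_Cert_tree lc_e_rc_24_2 lc_e_rc_4_1 lc_e_rc_10_1 lc_e_rc_4_1 lc_e_rc_4_1 lc_e_Cert_tree lc_e_rc_23_2 lc_e_rc_24_2 lc_e_rc_10_1 lc_e_rc_4_1 lc_e_rc_10_1 lc_e_rc_4_1 lc_e_rc_15_1 lc_e_rc_24_2 lc_e_rc_4_1 lc_e_rc_10_1 lc_e_rc_23_2 lc_e_rc_23_2 lc_e_rc_4_1 lc_e_rc_10_1 lc_e_rc_15_1 lc_e_rc_23_2 lc_e_rc_24_2 lc_e_rc_10_1 lc_e_rc_19_3 lc_e_Cert_tree lc_e_rc_22_0 lc_e_rc_10_1 lc_e_rc_4_1 lc_e_rc_15_1 lc_e_rc_23_2 lc_e_rc_10_1 lc_e_rc_4_1 lc_e_rc_24_0 lc_e_Cert_tree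 lc_e_rc_23_2 lc_e_rc_24_2 lc_e_rc_15_1 lc_e_rc_23_2) (@D3.rec (fun _ => (Cert rels S Gen.e)) lc_e_rc_24_2 lc_e_rc_10_1 lc_e_rc_19_3 lc_e_Cert_tree lc_e_rc_22_0 lc_e_rc_10_1 lc_e_rc_4_1 lc_e_rc_15_1 lc_e_rc_24_2 lc_e_rc_24_0 lc_e_rc_4_1 lc_e_rc_4_1 lc_e_Cert_tree lc_e_rc_24_2 lc_e_rc_4_1 lc_e_rc_4_1 lc_e_rc_15_1 lc_e_Cert_tree lc_e_rc_23_2 lc_e_rc_24_2 lc_e_rc_24_2 lc_e_rc_4_1 lc_e_rc_4_1 lc_e_Cert_tree lc_e_rc_23_2 lc_e_rc_24_2 lc_e_Cert_tree lc_e_rc_22_0 lc_e_Cert_tree lc_e_rc_10_3 lc_e_rc_22_0 lc_e_rc_24_2 lc_e_rc_24_2 lc_e_rc_10_1 lc_e_rc_4_1 lc_e_rc_15_1 lc_e_rc_23_2 lc_e_rc_4_1 lc_e_rc_4_1 lc_e_rc_15_3) (@D3.rec (fun _ => (Cert rels S Gen.e)) lc_e_rc_23_2 lc_e_rc_4_1 lc_e_rc_10_1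 lc_e_rc_19_3 lc_e_rc_24_0 lc_e_rc_23_0 lc_e_rc_22_0 lc_e_rc_23_2 lc_e_rc_24_2 lc_e_rc_4_1 lc_e_rc_15_1 lc_e_Cert_tree lc_e_rc_23_2 lc_e_rc_24_2 lc_e_rc_24_2 lc_e_rc_4_1 lc_e_rc_4_1 lc_e_Cert_tree lc_e_rc_23_2 lc_e_rc_24_2 lc_e_Cert_tree lc_e_rc_22_0 lc_e_Cert_tree lc_e_rc_15_1 lc_e_rc_22_0 lc_e_rc_23_2 lc_e_rc_23_2 lc_e_rc_10_1 lc_e_rc_4_1 lc_e_rc_15_1 lc_e_rc_24_2 lc_e_rc_24_0 lc_e_rc_4_1 lc_e_rc_10_1 lc_e_rc_24_2 lc_e_rc_24_0 lc_e_rc_10_1 lc_e_rc_4_3 lc_e_rc_4_1 lc_e_rc_10_1) (@D3.rec (fun _ => (Cert rels S Gen.e)) lc_e_rc_22_0 lc_e_rc_24_2 lc_e_rc_4_1 lc_e_rc_24_2 lc_e_rc_24_2 lc_e_rc_4_1 lc_e_rc_24_2 lc_e_rc_10_1 lc_e_rc_4_1 lc_e_rc_15_1 lc_e_rc_23_2 lc_e_Cert_tree lc_e_rc_22_0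 lc_e_rc_24_2 lc_e_rc_24_2 lc_e_rc_10_1 lc_e_rc_15_3 lc_e_rc_23_2 lc_e_rc_10_1 lc_e_rc_4_1 lc_e_rc_15_1 lc_e_rc_24_2 lc_e_rc_23_2 lc_e_rc_24_2 lc_e_rc_4_1 lc_e_rc_23_2 lc_e_rc_10_1 lc_e_rc_4_1 lc_e_rc_15_1 lc_e_rc_24_2 lc_e_Cert_tree lc_e_rc_22_0 lc_e_rc_23_2 lc_e_rc_23_2 lc_e_rc_10_1 lc_e_rc_19_3 lc_e_rc_24_2 lc_e_rc_10_1 lc_e_rc_4_1 lc_e_rc_15_1) (@D3.rec (fun _ => (Cert rels S Gen.e)) lc_e_rc_23_2 lc_e_rc_22_0 lc_e_rc_4_1 lc_e_rc_4_3 lc_e_rc_24_2 lc_e_Cert_tree lc_e_rc_22_0 lc_e_rc_24_2 lc_e_rc_24_2 lc_e_rc_10_1 lc_e_rc_4_1 lc_e_rc_15_1 lc_e_rc_23_2 lc_e_rc_10_1 lc_e_rc_22_0 lc_e_rc_24_2 lc_e_rc_19_3 lc_e_rc_24_2 lc_e_rc_10_1 lc_e_rc_23_2 lc_e_rc_10_1 lc_e_rc_4_1 lc_e_rc_4_1 lc_e_rc_15_1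 lc_e_rc_23_2 lc_e_rc_10_1 lc_e_rc_10_1 lc_e_rc_10_1 lc_e_rc_4_1 lc_e_rc_15_1 lc_e_rc_24_2 lc_e_rc_4_1 lc_e_rc_24_2 lc_e_rc_4_1 lc_e_rc_22_0 lc_e_rc_24_2 lc_e_rc_4_1 lc_e_rc_23_2 lc_e_Cert_tree lc_e_rc_22_0) (@D3.rec (fun _ => (Cert rels S Gen.e)) lc_e_rc_23_2 lc_e_rc_23_2 lc_e_rc_10_1 lc_e_rc_4_1 lc_e_rc_15_1 lc_e_rc_24_2 lc_e_rc_10_1 lc_e_rc_22_0 lc_e_rc_23_2 lc_e_rc_19_3 lc_e_rc_23_2 lc_e_rc_10_1 lc_e_rc_24_2 lc_e_rc_10_1 lc_e_rc_24_2 lc_e_rc_4_1 lc_e_rc_15_1 lc_e_rc_24_2 lc_e_rc_10_1 lc_e_rc_10_1 lc_e_rc_10_1 lc_e_rc_4_1 lc_e_rc_15_1 lc_e_rc_23_2 lc_e_rc_4_1 lc_e_rc_23_2 lc_e_rc_24_2 lc_e_rc_10_3 lc_e_rc_24_2 lc_e_Cert_tree lc_e_rc_22_0 lc_e_rc_23_2 lc_e_rc_24_2 lc_e_rc_10_1 lc_e_rc_10_1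 lc_e_Cert_tree lc_e_rc_22_0 lc_e_rc_19_3 lc_e_rc_24_2 lc_e_rc_23_2) (@D3.rec (fun _ => (Cert rels S Gen.e)) lc_e_rc_24_2 lc_e_rc_24_2 lc_e_rc_24_2 lc_e_rc_10_1 lc_e_rc_4_1 lc_e_rc_4_1 lc_e_rc_10_1 lc_e_rc_10_1 lc_e_rc_4_1 lc_e_rc_24_2 lc_e_rc_4_1 lc_e_rc_15_1 lc_e_rc_23_2 lc_e_rc_10_1 lc_e_rc_4_1 lc_e_rc_4_1 lc_e_Cert_tree lc_e_rc_23_2 lc_e_rc_24_2 lc_e_rc_23_2 lc_e_rc_24_2 lc_e_rc_10_1 lc_e_rc_10_3 lc_e_rc_23_2 lc_e_Cert_tree lc_e_rc_22_0 lc_e_rc_23_2 lc_e_rc_24_2 lc_e_rc_10_1 lc_e_rc_10_1 lc_e_Cert_tree lc_e_rc_22_0 lc_e_rc_23_2 lc_e_rc_15_3 lc_e_rc_23_2 lc_e_rc_24_2 lc_e_rc_24_2 lc_e_rc_24_2 lc_e_rc_4_1 lc_e_rc_24_2) (@D3.rec (fun _ => (Cert rels S Gen.e)) lc_e_rc_10_1 lc_e_rc_10_1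 lc_e_rc_10_1 lc_e_rc_4_1 lc_e_rc_4_1 lc_e_rc_4_1 lc_e_rc_15_1 lc_e_rc_24_2 lc_e_rc_10_1 lc_e_rc_4_1 lc_e_rc_4_1 lc_e_Cert_tree lc_e_rc_24_2 lc_e_rc_23_2 lc_e_rc_23_2 lc_e_rc_24_2 lc_e_rc_10_1 lc_e_rc_19_3 lc_e_rc_24_2 lc_e_Cert_tree lc_e_rc_22_0 lc_e_rc_19_3 lc_e_rc_24_2 lc_e_rc_15_1 lc_e_rc_10_1 lc_e_Cert_tree lc_e_rc_22_0 lc_e_rc_23_2 lc_e_rc_24_2 lc_e_rc_23_2 lc_e_rc_24_2 lc_e_rc_24_2 lc_e_rc_4_3 lc_e_rc_24_0 lc_e_rc_10_1 lc_e_rc_24_0 lc_e_rc_23_2 lc_e_Cert_tree lc_e_rc_22_0 lc_e_rc_23_2) (@D3.rec (fun _ => (Cert rels S Gen.e)) lc_e_rc_19_3 lc_e_rc_10_1 lc_e_rc_23_0 lc_e_Cert_tree lc_e_rc_22_0 lc_e_rc_23_2 lc_e_rc_24_2 lc_e_rc_23_2 lc_e_rc_24_2 lc_e_rc_24_2 lc_e_rc_24_2 lc_e_rc_24_2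 lc_e_rc_10_1 lc_e_Cert_tree lc_e_rc_15_1 lc_e_Cert_tree lc_e_rc_15_1 lc_e_rc_10_1 lc_e_rc_23_2 lc_e_rc_10_1 lc_e_rc_24_2 lc_e_rc_15_1 lc_e_rc_24_2 lc_e_rc_22_0 lc_e_rc_24_2 lc_e_rc_24_2 lc_e_rc_10_1 lc_e_rc_4_3 lc_e_Cert_tree lc_e_rc_4_1 lc_e_rc_15_3 lc_e_rc_22_0 lc_e_rc_24_2 lc_e_rc_24_2 lc_e_rc_24_2 lc_e_rc_10_1 lc_e_rc_4_1 lc_e_rc_10_1 lc_e_rc_4_1 lc_e_rc_24_2) (@D3.rec (fun _ => (Cert rels S Gen.e)) lc_e_rc_23_2 lc_e_rc_24_2 lc_e_rc_4_3 lc_e_rc_10_1 lc_e_rc_10_1 lc_e_rc_15_1 lc_e_rc_10_1 lc_e_rc_10_1 lc_e_rc_10_1 lc_e_rc_4_1 lc_e_rc_23_2 lc_e_rc_24_2 lc_e_rc_15_1 lc_e_rc_10_1 lc_e_rc_24_0 lc_e_rc_23_2 lc_e_rc_15_1 lc_e_rc_10_1 lc_e_rc_15_1 lc_e_rc_23_2 lc_e_rc_22_0 lc_e_rc_23_2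 lc_e_rc_10_1 lc_e_rc_24_2 lc_e_rc_4_3 lc_e_Cert_tree lc_e_rc_4_1 lc_e_rc_32_51 lc_e_rc_22_0 lc_e_rc_23_2 lc_e_rc_23_2 lc_e_rc_23_2 lc_e_rc_10_1 lc_e_rc_4_1 lc_e_rc_10_1 lc_e_rc_4_1 lc_e_rc_4_1 lc_e_rc_24_2 lc_e_rc_4_3 lc_e_rc_24_2) (@D3.rec (fun _ => (Cert rels S Gen.e)) lc_e_rc_10_1 lc_e_rc_10_1 lc_e_rc_15_1 lc_e_rc_10_1 lc_e_rc_4_1 lc_e_rc_23_2 lc_e_rc_24_2 lc_e_rc_10_1 lc_e_rc_10_1 lc_e_rc_24_2 lc_e_rc_24_2 lc_e_rc_15_1 lc_e_rc_10_1 lc_e_rc_10_1 lc_e_rc_23_2 lc_e_rc_10_1 lc_e_rc_4_1 lc_e_rc_15_1 lc_e_rc_23_2 lc_e_rc_10_1 lc_e_rc_4_1 lc_e_rc_4_1 lc_e_rc_15_1 lc_e_rc_15_1 lc_e_rc_10_1 lc_e_rc_10_1 lc_e_rc_4_1 lc_e_rc_23_2 lc_e_rc_4_1 lc_e_rc_10_1 lc_e_rc_10_1 lc_e_rc_4_1 lc_e_rc_24_2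 lc_e_rc_4_1 lc_e_rc_23_2 lc_e_rc_4_1 lc_e_rc_15_1 lc_e_rc_24_2 lc_e_rc_10_1 lc_e_rc_4_1)
def ce_e_10 : D2 → D3 → (Cert rels S Gen.e) := @D2.rec (fun _ => D3 → (Cert rels S Gen.e)) (@D3.rec (fun _ => (Cert rels S Gen.e)) lc_e_rc_4_1 lc_e_rc_4_3 lc_e_rc_24_2 lc_e_rc_4_3 lc_e_rc_10_1 lc_e_rc_23_2 lc_e_rc_10_1 lc_e_rc_10_1 lc_e_rc_24_2 lc_e_rc_10_1 lc_e_rc_4_1 lc_e_rc_15_1 lc_e_rc_24_2 lc_e_rc_10_1 lc_e_rc_4_1 lc_e_rc_15_1 lc_e_rc_15_1 lc_e_rc_10_1 lc_e_rc_10_1 lc_e_rc_15_1 lc_e_rc_23_2 lc_e_rc_24_2 lc_e_rc_4_1 lc_e_rc_10_1 lc_e_rc_10_1 lc_e_rc_4_1 lc_e_rc_23_2 lc_e_rc_4_1 lc_e_rc_24_2 lc_e_rc_4_1 lc_e_rc_15_1 lc_e_rc_23_2 lc_e_rc_10_1 lc_e_rc_4_1 lc_e_rc_24_2 lc_e_rc_15_1 lc_e_rc_23_2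 lc_e_rc_24_2 lc_e_rc_10_1 lc_e_rc_24_2) (@D3.rec (fun _ => (Cert rels S Gen.e)) lc_e_rc_10_1 lc_e_rc_24_2 lc_e_rc_22_0 lc_e_rc_24_2 lc_e_rc_23_2 lc_e_rc_24_2 lc_e_rc_10_1 lc_e_rc_24_2 lc_e_rc_4_1 lc_e_rc_4_1 lc_e_rc_24_2 lc_e_rc_4_3 lc_e_rc_24_2 lc_e_rc_10_1 lc_e_rc_24_0 lc_e_rc_10_1 lc_e_rc_4_1 lc_e_rc_23_2 lc_e_rc_10_1 lc_e_rc_4_1 lc_e_rc_10_1 lc_e_rc_4_1 lc_e_rc_24_2 lc_e_rc_4_1 lc_e_rc_10_1 lc_e_rc_23_2 lc_e_rc_24_2 lc_e_rc_10_1 lc_e_rc_15_1 lc_e_rc_24_2 lc_e_rc_4_1 lc_e_rc_4_3 lc_e_rc_4_1 lc_e_rc_15_1 lc_e_rc_23_2 lc_e_rc_4_1 lc_e_rc_4_1 lc_e_rc_24_2 lc_e_rc_10_1 lc_e_rc_4_1) (@D3.rec (fun _ => (Cert rels S Gen.e)) lc_e_rc_24_2 lc_e_rc_24_2 lc_e_rc_15_1 lc_e_rc_24_2 lc_e_rc_10_1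 lc_e_rc_10_1 lc_e_rc_24_2 lc_e_rc_24_2 lc_e_rc_4_1 lc_e_rc_15_1 lc_e_rc_23_2 lc_e_rc_23_2 lc_e_rc_22_0 lc_e_rc_23_2 lc_e_rc_23_2 lc_e_rc_24_2 lc_e_rc_10_1 lc_e_rc_4_1 lc_e_rc_23_2 lc_e_rc_4_1 lc_e_rc_23_2 lc_e_rc_23_2 lc_e_rc_10_1 lc_e_rc_24_2 lc_e_rc_24_0 lc_e_rc_4_1 lc_e_rc_24_2 lc_e_rc_10_1 lc_e_rc_10_1 lc_e_rc_10_1 lc_e_rc_4_1 lc_e_rc_23_2 lc_e_rc_4_1 lc_e_rc_4_1 lc_e_rc_10_1 lc_e_rc_23_2 lc_e_rc_24_2 lc_e_rc_10_1 lc_e_rc_15_1 lc_e_rc_23_2) (@D3.rec (fun _ => (Cert rels S Gen.e)) lc_e_rc_4_1 lc_e_rc_24_2 lc_e_rc_4_1 lc_e_rc_15_1 lc_e_rc_24_2 lc_e_rc_4_1 lc_e_rc_4_1 lc_e_rc_23_2 lc_e_rc_10_1 lc_e_rc_23_2 lc_e_rc_15_1 lc_e_rc_23_2 lc_e_rc_10_3 lc_e_rc_23_2 lc_e_rc_4_1 lc_e_rc_15_1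 lc_e_rc_24_2 lc_e_rc_4_1 lc_e_rc_23_2 lc_e_rc_19_1 lc_e_rc_10_1 lc_e_rc_23_2 lc_e_rc_19_1 lc_e_rc_24_2 lc_e_rc_24_2 lc_e_rc_19_3 lc_e_rc_24_2 lc_e_rc_24_2 lc_e_rc_15_1 lc_e_rc_23_2 lc_e_rc_24_2 lc_e_rc_24_2 lc_e_rc_10_1 lc_e_rc_10_1 lc_e_rc_15_1 lc_e_rc_24_2 lc_e_rc_10_1 lc_e_rc_4_3 lc_e_rc_4_1 lc_e_rc_15_1) (@D3.rec (fun _ => (Cert rels S Gen.e)) lc_e_rc_23_2 lc_e_rc_10_1 lc_e_rc_23_2 lc_e_rc_4_1 lc_e_Cert_tree lc_e_rc_23_2 lc_e_rc_4_3 lc_e_rc_10_1 lc_e_rc_15_1 lc_e_rc_23_2 lc_e_rc_24_2 lc_e_rc_4_1 lc_e_rc_15_1 lc_e_rc_4_1 lc_e_rc_24_0 lc_e_Cert_tree lc_e_rc_23_2 lc_e_rc_10_1 lc_e_Cert_tree lc_e_rc_4_1 lc_e_Cert_tree lc_e_rc_22_0 lc_e_rc_23_2 lc_e_rc_15_1 lc_e_rc_22_0 lc_e_rc_4_1 lc_e_Cert_tree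 lc_e_rc_23_2 lc_e_rc_4_1 lc_e_rc_22_0 lc_e_Cert_tree lc_e_rc_22_0 lc_e_rc_4_1 lc_e_rc_23_2 lc_e_rc_19_1 lc_e_rc_10_1 lc_e_rc_23_2 lc_e_rc_19_1 lc_e_rc_10_1 lc_e_rc_10_1) (@D3.rec (fun _ => (Cert rels S Gen.e)) lc_e_rc_19_3 lc_e_rc_23_2 lc_e_rc_23_2 lc_e_rc_15_1 lc_e_rc_23_2 lc_e_rc_24_2 lc_e_rc_10_1 lc_e_rc_23_2 lc_e_rc_15_1 lc_e_rc_10_1 lc_e_rc_24_2 lc_e_rc_4_1 lc_e_rc_15_1 lc_e_rc_24_2 lc_e_rc_23_2 lc_e_rc_4_1 lc_e_Cert_tree lc_e_rc_24_2 lc_e_rc_10_1 lc_e_rc_15_1 lc_e_rc_24_2 lc_e_rc_24_2 lc_e_rc_4_1 lc_e_rc_15_1 lc_e_rc_4_1 lc_e_Cert_tree lc_e_rc_24_2 lc_e_rc_10_1 lc_e_Cert_tree lc_e_Cert_tree lc_e_rc_22_0 lc_e_rc_24_2 lc_e_rc_24_2 lc_e_rc_22_0 lc_e_rc_4_1 lc_e_rc_23_2 lc_e_rc_24_2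 lc_e_rc_23_2 lc_e_rc_24_2 lc_e_rc_24_2) (@D3.rec (fun _ => (Cert rels S Gen.e)) lc_e_rc_4_1 lc_e_rc_15_1 lc_e_rc_23_2 lc_e_rc_4_1 lc_e_rc_15_1 lc_e_rc_23_2 lc_e_rc_15_1 lc_e_rc_24_2 lc_e_rc_10_1 lc_e_rc_10_1 lc_e_rc_24_2 lc_e_rc_4_1 lc_e_rc_23_2 lc_e_rc_10_1 lc_e_rc_4_1 lc_e_rc_4_1 lc_e_rc_10_1 lc_e_rc_10_1 lc_e_rc_24_2 lc_e_rc_24_2 lc_e_rc_15_1 lc_e_rc_10_1 lc_e_rc_10_1 lc_e_rc_22_0 lc_e_rc_24_0 lc_e_rc_4_1 lc_e_rc_10_1 lc_e_rc_4_1 lc_e_rc_19_1 lc_e_rc_4_1 lc_e_rc_10_1 lc_e_rc_23_2 lc_e_rc_10_1 lc_e_rc_4_1 lc_e_rc_4_1 lc_e_rc_23_2 lc_e_rc_4_1 lc_e_rc_10_1 lc_e_rc_22_0 lc_e_rc_4_1) (@D3.rec (fun _ => (Cert rels S Gen.e)) lc_e_rc_4_1 lc_e_rc_23_2 lc_e_rc_4_1 lc_e_rc_4_3 lc_e_rc_10_1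 lc_e_rc_4_1 lc_e_Cert_tree lc_e_rc_22_0 lc_e_rc_10_1 lc_e_rc_4_1 lc_e_rc_15_1 lc_e_rc_10_1 lc_e_rc_24_2 lc_e_rc_10_1 lc_e_rc_19_1 lc_e_rc_4_1 lc_e_rc_4_1 lc_e_Cert_tree lc_e_rc_23_2 lc_e_rc_24_2 lc_e_rc_22_0 lc_e_rc_15_1 lc_e_rc_10_3 lc_e_rc_24_2 lc_e_rc_4_1 lc_e_rc_22_0 lc_e_rc_10_1 lc_e_Cert_tree lc_e_rc_4_1 lc_e_rc_4_1 lc_e_rc_22_0 lc_e_rc_24_2 lc_e_rc_15_1 lc_e_rc_15_3 lc_e_Cert_tree lc_e_rc_22_0 lc_e_rc_23_2 lc_e_rc_19_3 lc_e_rc_10_1 lc_e_rc_4_1) (@D3.rec (fun _ => (Cert rels S Gen.e)) lc_e_rc_15_1 lc_e_rc_24_2 lc_e_rc_4_1 lc_e_rc_4_3 lc_e_rc_4_1 lc_e_rc_4_1 lc_e_rc_10_1 lc_e_rc_4_1 lc_e_rc_4_1 lc_e_rc_15_1 lc_e_rc_24_2 lc_e_rc_15_1 lc_e_rc_23_2 lc_e_rc_10_1 lc_e_rc_10_1 lc_e_rc_4_1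 lc_e_rc_24_2 lc_e_rc_19_3 lc_e_rc_10_1 lc_e_rc_4_1 lc_e_rc_10_1 lc_e_rc_4_1 lc_e_rc_15_1 lc_e_rc_10_1 lc_e_rc_10_1 lc_e_rc_22_0 lc_e_rc_23_0 lc_e_rc_4_1 lc_e_rc_10_1 lc_e_rc_4_1 lc_e_rc_19_1 lc_e_rc_19_5 lc_e_rc_23_2 lc_e_rc_23_2 lc_e_rc_10_1 lc_e_rc_24_2 lc_e_rc_10_1 lc_e_rc_4_1 lc_e_rc_4_1 lc_e_rc_24_2) (@D3.rec (fun _ => (Cert rels S Gen.e)) lc_e_rc_4_1 lc_e_rc_10_1 lc_e_rc_22_0 lc_e_rc_4_1 lc_e_rc_4_1 lc_e_rc_24_2 lc_e_rc_10_1 lc_e_rc_24_2 lc_e_rc_10_1 lc_e_rc_4_1 lc_e_Cert_tree lc_e_rc_22_0 lc_e_rc_10_1 lc_e_rc_23_2 lc_e_rc_15_1 lc_e_rc_10_1 lc_e_rc_23_2 lc_e_rc_10_1 lc_e_rc_19_1 lc_e_rc_19_1 lc_e_rc_4_1 lc_e_Cert_tree lc_e_rc_23_2 lc_e_rc_24_2 lc_e_rc_22_0 lc_e_rc_23_2 lc_e_rc_4_1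 lc_e_rc_22_0 lc_e_rc_10_1 lc_e_Cert_tree lc_e_rc_10_3 lc_e_rc_4_1 lc_e_rc_22_0 lc_e_rc_23_2 lc_e_rc_4_1 lc_e_Cert_tree lc_e_rc_22_0 lc_e_rc_24_2 lc_e_rc_24_2 lc_e_rc_10_1) (@D3.rec (fun _ => (Cert rels S Gen.e)) lc_e_rc_4_1 lc_e_rc_15_1 lc_e_rc_23_2 lc_e_rc_24_2 lc_e_rc_24_2 lc_e_rc_4_1 lc_e_rc_24_2 lc_e_rc_23_2 lc_e_rc_24_2 lc_e_rc_10_1 lc_e_rc_4_3 lc_e_rc_24_2 lc_e_rc_4_3 lc_e_rc_23_2 lc_e_rc_10_1 lc_e_rc_4_1 lc_e_rc_24_2 lc_e_rc_10_1 lc_e_rc_10_1 lc_e_rc_4_1 lc_e_rc_4_1 lc_e_rc_15_1 lc_e_rc_23_2 lc_e_rc_4_1 lc_e_rc_15_1 lc_e_rc_23_2 lc_e_rc_4_1 lc_e_rc_23_2 lc_e_rc_24_2 lc_e_rc_23_2 lc_e_rc_10_1 lc_e_rc_4_3 lc_e_rc_23_2 lc_e_rc_24_2 lc_e_rc_15_1 lc_e_rc_10_1 lc_e_rc_4_1 lc_e_rc_23_2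 lc_e_rc_10_1 lc_e_rc_10_1) (@D3.rec (fun _ => (Cert rels S Gen.e)) lc_e_rc_10_1 lc_e_rc_4_1 lc_e_rc_15_1 lc_e_rc_19_5 lc_e_rc_4_1 lc_e_rc_4_1 lc_e_rc_4_1 lc_e_rc_15_1 lc_e_Cert_tree lc_e_rc_15_1 lc_e_rc_15_1 lc_e_Cert_tree lc_e_rc_15_1 lc_e_rc_15_1 lc_e_rc_10_1 lc_e_rc_15_1 lc_e_rc_10_1 lc_e_rc_22_1 lc_e_rc_24_2 lc_e_rc_24_2 lc_e_rc_4_1 lc_e_rc_10_1 lc_e_rc_15_1 lc_e_rc_23_2 lc_e_rc_23_2 lc_e_rc_4_1 lc_e_rc_10_1 lc_e_rc_4_1 lc_e_rc_4_1 lc_e_Cert_tree lc_e_rc_24_2 lc_e_rc_4_3 lc_e_rc_23_2 lc_e_rc_4_3 lc_e_rc_4_1 lc_e_rc_23_0 lc_e_rc_4_1 lc_e_Cert_tree lc_e_rc_4_3 lc_e_rc_24_2) (@D3.rec (fun _ => (Cert rels S Gen.e)) lc_e_rc_24_2 lc_e_rc_4_3 lc_e_rc_4_1 lc_e_rc_10_3 lc_e_rc_24_2 lc_e_rc_4_1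 lc_e_rc_23_2 lc_e_Cert_tree lc_e_rc_4_1 lc_e_rc_4_1 lc_e_rc_24_2 lc_e_rc_24_2 lc_e_rc_24_0 lc_e_rc_24_2 lc_e_Cert_tree lc_e_rc_4_1 lc_e_rc_4_1 lc_e_rc_32_25 lc_e_rc_4_1 lc_e_rc_4_1 lc_e_rc_10_1 lc_e_rc_24_2 lc_e_rc_10_1 lc_e_rc_4_1 lc_e_rc_23_2 lc_e_rc_10_1 lc_e_rc_24_2 lc_e_rc_10_1 lc_e_rc_15_1 lc_e_rc_15_1 lc_e_rc_24_2 lc_e_rc_4_1 lc_e_rc_15_1 lc_e_rc_23_2 lc_e_rc_4_1 lc_e_rc_4_1 lc_e_Cert_tree lc_e_rc_24_2 lc_e_rc_4_1 lc_e_rc_4_1) (@D3.rec (fun _ => (Cert rels S Gen.e)) lc_e_Cert_tree lc_e_rc_23_2 lc_e_rc_4_1 lc_e_rc_19_3 lc_e_Cert_tree lc_e_rc_4_1 lc_e_rc_4_3 lc_e_rc_19_1 lc_e_rc_22_0 lc_e_rc_24_2 lc_e_rc_10_1 lc_e_rc_4_3 lc_e_rc_4_1 lc_e_rc_24_2 lc_e_Cert_tree lc_e_rc_4_1 lc_e_rc_24_2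 lc_e_rc_19_1 lc_e_rc_22_0 lc_e_rc_23_2 lc_e_rc_10_1 lc_e_rc_24_2 lc_e_rc_24_2 lc_e_rc_15_1 lc_e_rc_10_3 lc_e_rc_10_1 lc_e_rc_15_1 lc_e_rc_23_2 lc_e_rc_24_2 lc_e_rc_24_2 lc_e_rc_10_1 lc_e_rc_23_2 lc_e_rc_23_2 lc_e_rc_10_1 lc_e_rc_23_2 lc_e_rc_15_1 lc_e_rc_23_2 lc_e_rc_10_1 lc_e_rc_24_2 lc_e_rc_4_3) (@D3.rec (fun _ => (Cert rels S Gen.e)) lc_e_rc_23_2 lc_e_rc_23_2 lc_e_rc_10_1 lc_e_rc_24_2 lc_e_rc_24_2 lc_e_rc_10_1 lc_e_rc_4_1 lc_e_rc_4_1 lc_e_rc_10_1 lc_e_rc_24_2 lc_e_rc_10_1 lc_e_rc_4_1 lc_e_Cert_tree lc_e_rc_10_1 lc_e_rc_23_2 lc_e_rc_10_1 lc_e_rc_4_1 lc_e_Cert_tree lc_e_rc_23_2 lc_e_rc_24_2 lc_e_rc_24_2 lc_e_rc_4_3 lc_e_rc_24_2 lc_e_rc_24_2 lc_e_rc_15_3 lc_e_rc_10_1 lc_e_rc_15_1 lc_e_rc_4_1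 lc_e_rc_4_1 lc_e_Cert_tree lc_e_rc_23_2 lc_e_rc_15_1 lc_e_rc_4_1 lc_e_rc_10_1 lc_e_Cert_tree lc_e_rc_24_2 lc_e_Cert_tree lc_e_rc_22_0 lc_e_rc_23_2 lc_e_rc_10_1) (@D3.rec (fun _ => (Cert rels S Gen.e)) lc_e_rc_24_2 lc_e_rc_4_1 lc_e_rc_23_2 lc_e_rc_24_2 lc_e_rc_24_2 lc_e_rc_4_3 lc_e_rc_23_2 lc_e_rc_23_2 lc_e_rc_19_1 lc_e_rc_10_1 lc_e_rc_23_2 lc_e_rc_24_2 lc_e_rc_4_1 lc_e_Cert_tree lc_e_rc_24_2 lc_e_rc_24_0 lc_e_rc_4_1 lc_e_rc_10_1 lc_e_Cert_tree lc_e_rc_4_1 lc_e_Cert_tree lc_e_rc_22_0 lc_e_rc_24_2 lc_e_rc_10_1 lc_e_rc_4_3 lc_e_rc_24_2 lc_e_rc_4_1 lc_e_rc_4_1 lc_e_rc_4_1 lc_e_rc_24_2 lc_e_rc_24_2 lc_e_rc_4_1 lc_e_rc_24_2 lc_e_rc_24_2 lc_e_rc_10_1 lc_e_rc_15_1 lc_e_rc_23_2 lc_e_Cert_tree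 lc_e_rc_23_2 lc_e_rc_15_1) (@D3.rec (fun _ => (Cert rels S Gen.e)) lc_e_rc_4_1 lc_e_rc_10_1 lc_e_Cert_tree lc_e_Cert_tree lc_e_rc_22_0 lc_e_rc_23_2 lc_e_rc_10_1 lc_e_rc_4_1 lc_e_Cert_tree lc_e_rc_23_2 lc_e_rc_24_2 lc_e_Cert_tree lc_e_rc_22_0 lc_e_rc_23_2 lc_e_rc_10_1 lc_e_Cert_tree lc_e_rc_22_0 lc_e_rc_23_2 lc_e_rc_23_2 lc_e_rc_10_1 lc_e_rc_24_2 lc_e_rc_24_2 lc_e_rc_10_1 lc_e_rc_4_1 lc_e_rc_4_1 lc_e_rc_4_1 lc_e_rc_4_1 lc_e_rc_4_1 lc_e_rc_24_2 lc_e_rc_4_1 lc_e_rc_23_2 lc_e_rc_4_1 lc_e_rc_10_1 lc_e_rc_15_1 lc_e_rc_24_2 lc_e_Cert_tree lc_e_rc_24_2 lc_e_rc_24_0 lc_e_rc_4_1 lc_e_rc_10_1) (@D3.rec (fun _ => (Cert rels S Gen.e)) lc_e_Cert_tree lc_e_Cert_tree lc_e_rc_22_0 lc_e_rc_24_2 lc_e_rc_10_1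 lc_e_rc_4_1 lc_e_Cert_tree lc_e_rc_23_2 lc_e_rc_24_2 lc_e_Cert_tree lc_e_rc_22_0 lc_e_rc_24_2 lc_e_rc_10_1 lc_e_Cert_tree lc_e_rc_22_0 lc_e_rc_24_2 lc_e_rc_24_2 lc_e_rc_10_1 lc_e_rc_4_3 lc_e_rc_23_2 lc_e_rc_10_1 lc_e_rc_24_0 lc_e_rc_4_1 lc_e_rc_4_1 lc_e_rc_24_2 lc_e_rc_24_0 lc_e_rc_24_2 lc_e_rc_10_3 lc_e_rc_24_2 lc_e_rc_10_1 lc_e_rc_10_1 lc_e_rc_4_1 lc_e_rc_10_1 lc_e_rc_10_1 lc_e_rc_22_1 lc_e_rc_4_1 lc_e_rc_4_1 lc_e_Cert_tree lc_e_rc_23_2 lc_e_rc_19_3) (@D3.rec (fun _ => (Cert rels S Gen.e)) lc_e_rc_22_0 lc_e_rc_24_2 lc_e_rc_24_2 lc_e_rc_10_1 lc_e_rc_10_1 lc_e_rc_15_1 lc_e_rc_23_2 lc_e_rc_10_1 lc_e_Cert_tree lc_e_rc_23_2 lc_e_rc_23_2 lc_e_rc_4_1 lc_e_rc_10_1 lc_e_rc_15_3 lc_e_rc_4_1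 lc_e_rc_15_1 lc_e_rc_23_2 lc_e_rc_24_2 lc_e_rc_10_1 lc_e_Cert_tree lc_e_Cert_tree lc_e_rc_22_0 lc_e_rc_23_2 lc_e_rc_10_1 lc_e_rc_4_1 lc_e_rc_15_1 lc_e_rc_24_2 lc_e_rc_10_3 lc_e_rc_4_1 lc_e_Cert_tree lc_e_rc_24_2 lc_e_rc_4_3 lc_e_rc_23_2 lc_e_rc_4_3 lc_e_rc_4_1 lc_e_Cert_tree lc_e_rc_23_2 lc_e_rc_24_2 lc_e_rc_22_0 lc_e_rc_23_2) (@D3.rec (fun _ => (Cert rels S Gen.e)) lc_e_rc_10_1 lc_e_rc_15_1 lc_e_Cert_tree lc_e_rc_22_0 lc_e_rc_23_2 lc_e_rc_23_2 lc_e_rc_10_1 lc_e_rc_24_2 lc_e_rc_24_2 lc_e_rc_10_1 lc_e_rc_4_1 lc_e_rc_15_1 lc_e_rc_23_2 lc_e_rc_4_1 lc_e_rc_23_2 lc_e_rc_24_2 lc_e_rc_4_1 lc_e_rc_15_1 lc_e_rc_10_1 lc_e_rc_4_1 lc_e_rc_10_1 lc_e_rc_4_1 lc_e_rc_10_1 lc_e_rc_23_2 lc_e_rc_4_1 lc_e_rc_4_1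 lc_e_Cert_tree lc_e_rc_24_2 lc_e_rc_10_3 lc_e_rc_22_0 lc_e_rc_23_2 lc_e_rc_23_2 lc_e_rc_10_1 lc_e_rc_10_1 lc_e_rc_15_1 lc_e_rc_24_2 lc_e_rc_10_1 lc_e_Cert_tree lc_e_rc_24_2 lc_e_rc_24_2) (@D3.rec (fun _ => (Cert rels S Gen.e)) lc_e_rc_4_1 lc_e_rc_10_1 lc_e_rc_23_2 lc_e_rc_4_1 lc_e_rc_15_1 lc_e_rc_23_2 lc_e_rc_24_2 lc_e_rc_10_1 lc_e_Cert_tree lc_e_Cert_tree lc_e_rc_22_0 lc_e_rc_24_2 lc_e_rc_10_1 lc_e_rc_4_1 lc_e_rc_15_1 lc_e_rc_23_2 lc_e_rc_24_0 lc_e_rc_24_0 lc_e_Cert_tree lc_e_rc_23_2 lc_e_rc_24_2 lc_e_rc_24_2 lc_e_rc_24_2 lc_e_rc_4_1 lc_e_Cert_tree lc_e_rc_23_2 lc_e_rc_24_2 lc_e_rc_22_0 lc_e_rc_24_2 lc_e_rc_10_1 lc_e_rc_15_1 lc_e_Cert_tree lc_e_rc_22_0 lc_e_rc_24_2 lc_e_rc_24_2 lc_e_rc_10_1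 lc_e_rc_4_3 lc_e_rc_23_2 lc_e_rc_10_1 lc_e_rc_4_1) (@D3.rec (fun _ => (Cert rels S Gen.e)) lc_e_rc_15_1 lc_e_rc_24_2 lc_e_rc_15_1 lc_e_rc_24_2 lc_e_rc_10_1 lc_e_rc_15_1 lc_e_rc_24_2 lc_e_rc_24_2 lc_e_rc_10_1 lc_e_rc_4_1 lc_e_rc_10_1 lc_e_rc_4_1 lc_e_rc_10_1 lc_e_rc_23_2 lc_e_rc_10_1 lc_e_rc_4_1 lc_e_rc_4_1 lc_e_Cert_tree lc_e_rc_4_1 lc_e_rc_4_1 lc_e_rc_10_1 lc_e_rc_24_2 lc_e_rc_24_2 lc_e_rc_10_1 lc_e_rc_24_2 lc_e_rc_10_1 lc_e_rc_4_1 lc_e_rc_24_2 lc_e_rc_24_0 lc_e_rc_4_1 lc_e_rc_4_1 lc_e_rc_10_1 lc_e_rc_4_1 lc_e_rc_15_1 lc_e_rc_23_2 lc_e_rc_10_1 lc_e_rc_4_1 lc_e_rc_4_1 lc_e_Cert_tree lc_e_rc_23_2) (@D3.rec (fun _ => (Cert rels S Gen.e)) lc_e_rc_24_2 lc_e_rc_15_1 lc_e_rc_10_1 lc_e_Cert_tree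 lc_e_rc_4_1 lc_e_Cert_tree lc_e_rc_22_0 lc_e_rc_23_2 lc_e_rc_10_1 lc_e_rc_23_0 lc_e_rc_10_1 lc_e_rc_10_1 lc_e_rc_23_0 lc_e_rc_22_0 lc_e_rc_10_1 lc_e_rc_24_2 lc_e_rc_24_2 lc_e_rc_23_0 lc_e_rc_23_2 lc_e_rc_24_0 lc_e_rc_24_2 lc_e_rc_10_1 lc_e_rc_24_0 lc_e_rc_4_1 lc_e_rc_23_2 lc_e_rc_10_1 lc_e_rc_10_1 lc_e_rc_23_2 lc_e_rc_4_1 lc_e_rc_15_1 lc_e_rc_10_1 lc_e_rc_4_1 lc_e_rc_15_1 lc_e_rc_23_2 lc_e_rc_24_2 lc_e_rc_4_1 lc_e_rc_15_1 lc_e_rc_4_1 lc_e_rc_4_1 lc_e_rc_24_0) (@D3.rec (fun _ => (Cert rels S Gen.e)) lc_e_rc_24_2 lc_e_rc_23_2 lc_e_rc_4_1 lc_e_rc_15_1 lc_e_Cert_tree lc_e_rc_23_2 lc_e_rc_24_2 lc_e_rc_4_1 lc_e_Cert_tree lc_e_rc_23_2 lc_e_rc_24_2 lc_e_Cert_tree lc_e_rc_22_0 lc_e_Cert_tree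 lc_e_Cert_tree lc_e_rc_22_0 lc_e_rc_23_2 lc_e_rc_23_2 lc_e_rc_10_1 lc_e_rc_4_1 lc_e_rc_15_1 lc_e_rc_24_2 lc_e_rc_4_1 lc_e_rc_19_3 lc_e_rc_24_2 lc_e_Cert_tree lc_e_rc_4_1 lc_e_rc_10_1 lc_e_rc_22_0 lc_e_rc_24_2 lc_e_rc_10_1 lc_e_rc_4_1 lc_e_rc_10_1 lc_e_rc_19_3 lc_e_rc_4_1 lc_e_rc_4_1 lc_e_rc_4_1 lc_e_Cert_tree lc_e_rc_23_2 lc_e_rc_24_2) (@D3.rec (fun _ => (Cert rels S Gen.e)) lc_e_rc_22_0 lc_e_rc_23_2 lc_e_rc_23_2 lc_e_rc_10_1 lc_e_rc_10_1 lc_e_rc_23_2 lc_e_rc_4_1 lc_e_Cert_tree lc_e_rc_4_1 lc_e_rc_4_1 lc_e_Cert_tree lc_e_rc_22_0 lc_e_rc_23_2 lc_e_rc_24_2 lc_e_rc_23_2 lc_e_rc_24_2 lc_e_rc_4_1 lc_e_Cert_tree lc_e_rc_22_0 lc_e_rc_23_2 lc_e_rc_23_2 lc_e_rc_4_1 lc_e_rc_15_1 lc_e_rc_24_2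 lc_e_Cert_tree lc_e_Cert_tree lc_e_Cert_tree lc_e_rc_22_0 lc_e_rc_23_2 lc_e_rc_24_2 lc_e_rc_22_0 lc_e_rc_23_2 lc_e_rc_19_3 lc_e_rc_23_2 lc_e_rc_10_1 lc_e_rc_24_2 lc_e_rc_24_2 lc_e_rc_10_1 lc_e_rc_4_1 lc_e_rc_15_1) (@D3.rec (fun _ => (Cert rels S Gen.e)) lc_e_rc_23_2 lc_e_rc_4_1 lc_e_rc_23_2 lc_e_rc_15_1 lc_e_rc_4_3 lc_e_rc_10_1 lc_e_rc_24_2 lc_e_rc_23_2 lc_e_rc_10_1 lc_e_rc_4_1 lc_e_rc_23_2 lc_e_rc_4_1 lc_e_rc_10_1 lc_e_rc_24_2 lc_e_rc_10_1 lc_e_rc_10_1 lc_e_rc_4_1 lc_e_Cert_tree lc_e_rc_24_2 lc_e_rc_4_1 lc_e_rc_10_1 lc_e_rc_23_2 lc_e_rc_10_1 lc_e_rc_23_2 lc_e_rc_23_2 lc_e_rc_4_1 lc_e_rc_23_2 lc_e_rc_10_1 lc_e_rc_10_1 lc_e_rc_24_2 lc_e_rc_19_1 lc_e_rc_10_1 lc_e_rc_4_1 lc_e_rc_15_1 lc_e_rc_24_2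 lc_e_rc_10_1 lc_e_rc_4_1 lc_e_rc_4_1 lc_e_Cert_tree lc_e_rc_24_2)
def ce_e_11 : D2 → D3 → (Cert rels S Gen.e) := @D2.rec (fun _ => D3 → (Cert rels S Gen.e)) (@D3.rec (fun _ => (Cert rels S Gen.e)) lc_e_rc_23_2 lc_e_rc_15_1 lc_e_rc_10_1 lc_e_Cert_tree lc_e_Cert_tree lc_e_rc_22_0 lc_e_rc_24_2 lc_e_rc_10_1 lc_e_rc_19_1 lc_e_rc_23_2 lc_e_rc_23_0 lc_e_rc_15_3 lc_e_rc_22_0 lc_e_rc_10_1 lc_e_rc_23_0 lc_e_rc_23_2 lc_e_rc_4_1 lc_e_rc_10_1 lc_e_rc_10_1 lc_e_rc_23_2 lc_e_rc_4_3 lc_e_rc_23_0 lc_e_rc_4_1 lc_e_rc_24_2 lc_e_rc_10_1 lc_e_rc_10_1 lc_e_rc_24_2 lc_e_rc_4_1 lc_e_rc_15_1 lc_e_rc_10_1 lc_e_rc_4_1 lc_e_rc_15_1 lc_e_rc_23_2 lc_e_rc_24_2 lc_e_rc_4_1 lc_e_rc_15_1 lc_e_rc_4_1 lc_e_rc_4_1 lc_e_rc_4_1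 lc_e_rc_23_2) (@D3.rec (fun _ => (Cert rels S Gen.e)) lc_e_rc_24_2 lc_e_rc_4_1 lc_e_rc_15_1 lc_e_Cert_tree lc_e_rc_23_2 lc_e_rc_24_2 lc_e_rc_4_1 lc_e_rc_10_3 lc_e_rc_23_2 lc_e_rc_24_2 lc_e_rc_4_3 lc_e_rc_22_0 lc_e_Cert_tree lc_e_Cert_tree lc_e_rc_22_0 lc_e_rc_24_2 lc_e_rc_24_2 lc_e_rc_10_1 lc_e_rc_4_1 lc_e_rc_15_1 lc_e_rc_23_2 lc_e_rc_4_1 lc_e_rc_19_3 lc_e_rc_23_2 lc_e_Cert_tree lc_e_rc_24_0 lc_e_rc_10_1 lc_e_rc_22_0 lc_e_rc_23_2 lc_e_rc_10_1 lc_e_rc_24_2 lc_e_rc_10_1 lc_e_rc_19_3 lc_e_rc_4_1 lc_e_rc_23_2 lc_e_rc_4_1 lc_e_Cert_tree lc_e_rc_23_2 lc_e_rc_24_2 lc_e_rc_22_0) (@D3.rec (fun _ => (Cert rels S Gen.e)) lc_e_rc_23_2 lc_e_rc_23_2 lc_e_rc_10_1 lc_e_rc_10_1 lc_e_rc_24_2 lc_e_rc_4_1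 lc_e_Cert_tree lc_e_rc_4_1 lc_e_rc_4_1 lc_e_Cert_tree lc_e_rc_22_0 lc_e_rc_23_2 lc_e_rc_24_2 lc_e_rc_24_2 lc_e_rc_24_2 lc_e_rc_4_1 lc_e_Cert_tree lc_e_rc_22_0 lc_e_rc_24_2 lc_e_rc_24_2 lc_e_rc_10_1 lc_e_rc_15_1 lc_e_rc_23_2 lc_e_Cert_tree lc_e_Cert_tree lc_e_Cert_tree lc_e_rc_22_0 lc_e_rc_23_2 lc_e_rc_24_2 lc_e_rc_22_0 lc_e_rc_24_2 lc_e_rc_19_3 lc_e_rc_24_2 lc_e_rc_10_1 lc_e_rc_23_2 lc_e_rc_4_1 lc_e_rc_10_1 lc_e_rc_4_1 lc_e_rc_15_1 lc_e_rc_24_2) (@D3.rec (fun _ => (Cert rels S Gen.e)) lc_e_rc_4_1 lc_e_rc_24_2 lc_e_rc_23_2 lc_e_rc_23_2 lc_e_rc_24_2 lc_e_rc_10_1 lc_e_rc_4_1 lc_e_rc_24_2 lc_e_rc_23_2 lc_e_rc_4_1 lc_e_rc_15_1 lc_e_rc_23_2 lc_e_Cert_tree lc_e_rc_23_2 lc_e_rc_24_2 lc_e_rc_22_0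 lc_e_Cert_tree lc_e_rc_4_1 lc_e_rc_4_1 lc_e_Cert_tree lc_e_rc_22_0 lc_e_rc_23_2 lc_e_rc_24_2 lc_e_rc_24_2 lc_e_rc_4_1 lc_e_Cert_tree lc_e_rc_22_0 lc_e_Cert_tree lc_e_rc_23_2 lc_e_rc_24_2 lc_e_Cert_tree lc_e_rc_22_0 lc_e_rc_23_2 lc_e_rc_24_2 lc_e_rc_10_1 lc_e_rc_10_1 lc_e_Cert_tree lc_e_rc_22_0 lc_e_rc_23_2 lc_e_rc_24_2) (@D3.rec (fun _ => (Cert rels S Gen.e)) lc_e_rc_23_2 lc_e_rc_24_2 lc_e_rc_24_2 lc_e_rc_24_2 lc_e_rc_10_1 lc_e_rc_10_1 lc_e_Cert_tree lc_e_rc_22_0 lc_e_rc_23_2 lc_e_rc_24_2 lc_e_rc_23_2 lc_e_rc_24_2 lc_e_rc_24_2 lc_e_rc_24_2 lc_e_rc_23_2 lc_e_rc_24_2 lc_e_rc_23_2 lc_e_rc_10_1 lc_e_rc_4_1 lc_e_rc_23_2 lc_e_rc_24_2 lc_e_rc_4_1 lc_e_rc_15_1 lc_e_rc_24_2 lc_e_Cert_tree lc_e_rc_23_2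 lc_e_rc_24_2 lc_e_rc_22_0 lc_e_Cert_tree lc_e_rc_4_1 lc_e_rc_4_1 lc_e_Cert_tree lc_e_rc_22_0 lc_e_rc_23_2 lc_e_rc_24_2 lc_e_rc_24_2 lc_e_rc_4_1 lc_e_Cert_tree lc_e_rc_22_0 lc_e_Cert_tree) (@D3.rec (fun _ => (Cert rels S Gen.e)) lc_e_rc_23_2 lc_e_rc_24_2 lc_e_Cert_tree lc_e_rc_22_0 lc_e_rc_23_2 lc_e_rc_24_2 lc_e_rc_10_1 lc_e_rc_10_1 lc_e_Cert_tree lc_e_rc_22_0 lc_e_rc_23_2 lc_e_rc_24_2 lc_e_rc_23_2 lc_e_rc_24_2 lc_e_rc_24_2 lc_e_rc_24_2 lc_e_rc_10_1 lc_e_rc_10_1 lc_e_Cert_tree lc_e_rc_22_0 lc_e_rc_23_2 lc_e_rc_24_2 lc_e_rc_23_2 lc_e_rc_24_2 lc_e_rc_24_2 lc_e_rc_24_2 lc_e_rc_10_3 lc_e_rc_15_3 lc_e_rc_19_1 lc_e_Cert_tree lc_e_rc_23_2 lc_e_rc_23_0 lc_e_rc_22_0 lc_e_rc_10_3 lc_e_rc_15_3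 lc_e_rc_19_1 lc_e_Cert_tree lc_e_rc_23_2 lc_e_rc_19_5 lc_e_rc_22_0) (@D3.rec (fun _ => (Cert rels S Gen.e)) lc_e_rc_15_1 lc_e_rc_23_2 lc_e_rc_22_0 lc_e_rc_4_3 lc_e_rc_10_1 lc_e_rc_22_0 lc_e_rc_10_1 lc_e_rc_10_1 lc_e_rc_19_3 lc_e_rc_24_2 lc_e_rc_4_1 lc_e_rc_10_1 lc_e_rc_10_1 lc_e_rc_22_0 lc_e_rc_24_2 lc_e_rc_22_0 lc_e_rc_23_2 lc_e_rc_22_0 lc_e_rc_24_2 lc_e_Cert_tree lc_e_Cert_tree lc_e_rc_22_0 lc_e_rc_23_2 lc_e_rc_22_0 lc_e_rc_23_2 lc_e_Cert_tree lc_e_Cert_tree lc_e_rc_22_0 lc_e_rc_24_2 lc_e_rc_10_3 lc_e_rc_24_2 lc_e_rc_10_1 lc_e_rc_15_1 lc_e_rc_10_1 lc_e_rc_4_1 lc_e_rc_10_3 lc_e_rc_23_2 lc_e_rc_10_1 lc_e_rc_19_1 lc_e_rc_23_2) (@D3.rec (fun _ => (Cert rels S Gen.e)) lc_e_rc_10_1 lc_e_rc_10_1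 lc_e_rc_10_1 lc_e_rc_24_2 lc_e_rc_10_3 lc_e_rc_24_2 lc_e_rc_10_1 lc_e_rc_4_3 lc_e_rc_22_0 lc_e_rc_23_2 lc_e_rc_24_2 lc_e_rc_24_2 lc_e_rc_10_1 lc_e_rc_15_1 lc_e_rc_23_2 lc_e_rc_10_1 lc_e_rc_10_3 lc_e_Cert_tree lc_e_rc_22_0 lc_e_rc_23_2 lc_e_rc_10_1 lc_e_Cert_tree lc_e_rc_23_2 lc_e_rc_24_2 lc_e_rc_4_1 lc_e_rc_22_0 lc_e_rc_23_2 lc_e_rc_23_2 lc_e_rc_10_1 lc_e_rc_4_1 lc_e_rc_10_1 lc_e_Cert_tree lc_e_rc_4_1 lc_e_rc_22_0 lc_e_rc_23_2 lc_e_rc_23_2 lc_e_rc_24_2 lc_e_rc_23_2 lc_e_rc_10_1 lc_e_rc_4_1) (@D3.rec (fun _ => (Cert rels S Gen.e)) lc_e_rc_24_2 lc_e_rc_24_2 lc_e_rc_10_1 lc_e_rc_24_2 lc_e_rc_19_1 lc_e_rc_24_2 lc_e_rc_10_1 lc_e_rc_24_2 lc_e_rc_4_1 lc_e_rc_10_1 lc_e_rc_19_1 lc_e_rc_22_0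 lc_e_rc_23_2 lc_e_rc_24_2 lc_e_rc_19_1 lc_e_rc_10_1 lc_e_rc_15_1 lc_e_rc_24_2 lc_e_rc_10_1 lc_e_rc_10_3 lc_e_Cert_tree lc_e_rc_22_0 lc_e_rc_24_2 lc_e_rc_10_1 lc_e_Cert_tree lc_e_rc_23_2 lc_e_rc_24_2 lc_e_rc_23_2 lc_e_rc_22_0 lc_e_rc_24_2 lc_e_rc_24_2 lc_e_rc_10_1 lc_e_rc_4_1 lc_e_rc_10_1 lc_e_Cert_tree lc_e_rc_4_1 lc_e_rc_22_0 lc_e_rc_24_2 lc_e_rc_24_2 lc_e_rc_24_2) (@D3.rec (fun _ => (Cert rels S Gen.e)) lc_e_rc_24_2 lc_e_rc_10_1 lc_e_rc_4_1 lc_e_rc_23_2 lc_e_rc_23_2 lc_e_rc_10_1 lc_e_rc_4_1 lc_e_rc_19_1 lc_e_rc_23_2 lc_e_rc_10_1 lc_e_rc_23_2 lc_e_rc_4_1 lc_e_rc_10_1 lc_e_Cert_tree lc_e_rc_4_1 lc_e_rc_10_1 lc_e_rc_23_2 lc_e_rc_10_1 lc_e_rc_4_1 lc_e_rc_15_1 lc_e_rc_23_2 lc_e_rc_10_1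 lc_e_rc_4_1 lc_e_rc_10_1 lc_e_rc_23_2 lc_e_rc_10_1 lc_e_rc_4_1 lc_e_rc_24_2 lc_e_Cert_tree lc_e_rc_23_2 lc_e_rc_24_2 lc_e_rc_10_1 lc_e_rc_24_2 lc_e_Cert_tree lc_e_Cert_tree lc_e_rc_22_0 lc_e_rc_23_2 lc_e_rc_10_1 lc_e_Cert_tree lc_e_rc_23_2) (@D3.rec (fun _ => (Cert rels S Gen.e)) lc_e_rc_24_2 lc_e_rc_23_2 lc_e_rc_24_2 lc_e_rc_15_1 lc_e_rc_4_1 lc_e_rc_15_1 lc_e_rc_23_2 lc_e_rc_24_2 lc_e_rc_23_2 lc_e_rc_24_2 lc_e_rc_23_2 lc_e_rc_24_2 lc_e_rc_24_2 lc_e_rc_10_1 lc_e_rc_24_0 lc_e_rc_10_1 lc_e_rc_4_1 lc_e_rc_15_1 lc_e_rc_10_1 lc_e_rc_4_1 lc_e_rc_23_2 lc_e_rc_4_1 lc_e_rc_23_2 lc_e_rc_10_1 lc_e_rc_4_1 lc_e_rc_24_2 lc_e_rc_15_1 lc_e_rc_10_1 lc_e_rc_24_2 lc_e_rc_4_1 lc_e_rc_23_2 lc_e_rc_22_0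 lc_e_Cert_tree lc_e_rc_10_1 lc_e_rc_22_0 lc_e_rc_23_2 lc_e_rc_10_1 lc_e_Cert_tree lc_e_rc_15_1 lc_e_rc_22_0) (@D3.rec (fun _ => (Cert rels S Gen.e)) lc_e_rc_23_2 lc_e_rc_4_1 lc_e_rc_24_2 lc_e_rc_24_2 lc_e_rc_10_1 lc_e_rc_15_1 lc_e_rc_23_2 lc_e_rc_15_1 lc_e_rc_23_2 lc_e_rc_10_1 lc_e_rc_4_1 lc_e_rc_23_2 lc_e_rc_10_3 lc_e_rc_10_1 lc_e_rc_23_2 lc_e_rc_4_1 lc_e_rc_15_1 lc_e_rc_24_2 lc_e_rc_4_1 lc_e_rc_15_1 lc_e_rc_23_2 lc_e_rc_24_2 lc_e_rc_4_1 lc_e_rc_23_2 lc_e_rc_4_1 lc_e_rc_4_1 lc_e_rc_24_2 lc_e_rc_4_1 lc_e_rc_10_3 lc_e_rc_23_2 lc_e_rc_22_0 lc_e_Cert_tree lc_e_rc_22_0 lc_e_rc_4_1 lc_e_rc_10_1 lc_e_rc_24_2 lc_e_rc_4_1 lc_e_rc_10_1 lc_e_rc_4_1 lc_e_rc_23_0) (@D3.rec (fun _ => (Cert rels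 S Gen.e)) lc_e_rc_22_0 lc_e_rc_23_2 lc_e_rc_10_1 lc_e_rc_23_2 lc_e_rc_24_2 lc_e_rc_15_1 lc_e_rc_4_1 lc_e_Cert_tree lc_e_rc_23_2 lc_e_rc_24_2 lc_e_rc_22_0 lc_e_rc_10_1 lc_e_Cert_tree lc_e_rc_4_1 lc_e_Cert_tree lc_e_rc_22_0 lc_e_rc_23_2 lc_e_rc_24_2 lc_e_rc_24_2 lc_e_rc_22_0 lc_e_Cert_tree lc_e_rc_22_0 lc_e_rc_23_2 lc_e_rc_24_2 lc_e_rc_22_0 lc_e_rc_19_3 lc_e_rc_23_2 lc_e_rc_10_1 lc_e_rc_10_1 lc_e_rc_4_1 lc_e_rc_24_2 lc_e_rc_10_1 lc_e_rc_4_1 lc_e_rc_4_1 lc_e_rc_4_1 lc_e_rc_24_2 lc_e_rc_23_2 lc_e_rc_4_1 lc_e_rc_10_1 lc_e_rc_22_0) (@D3.rec (fun _ => (Cert rels S Gen.e)) lc_e_rc_10_1 lc_e_rc_24_2 lc_e_rc_24_2 lc_e_rc_23_2 lc_e_rc_10_1 lc_e_rc_24_2 lc_e_rc_10_1 lc_e_rc_10_1 lc_e_rc_4_1 lc_e_rc_22_0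 lc_e_rc_10_1 lc_e_rc_24_2 lc_e_rc_10_1 lc_e_rc_23_2 lc_e_rc_4_1 lc_e_rc_10_1 lc_e_rc_24_2 lc_e_Cert_tree lc_e_rc_23_2 lc_e_rc_4_1 lc_e_rc_22_0 lc_e_rc_24_2 lc_e_rc_10_1 lc_e_Cert_tree lc_e_rc_22_0 lc_e_rc_24_2 lc_e_rc_23_2 lc_e_rc_24_2 lc_e_rc_24_2 lc_e_rc_4_3 lc_e_rc_4_1 lc_e_rc_24_2 lc_e_Cert_tree lc_e_rc_22_0 lc_e_rc_23_2 lc_e_rc_24_2 lc_e_rc_19_3 lc_e_rc_23_2 lc_e_rc_23_0 lc_e_rc_4_3) (@D3.rec (fun _ => (Cert rels S Gen.e)) lc_e_rc_22_0 lc_e_Cert_tree lc_e_Cert_tree lc_e_rc_22_0 lc_e_rc_23_2 lc_e_rc_24_2 lc_e_Cert_tree lc_e_rc_22_0 lc_e_rc_23_2 lc_e_rc_24_2 lc_e_rc_19_3 lc_e_rc_23_2 lc_e_rc_24_2 lc_e_rc_24_2 lc_e_rc_24_2 lc_e_rc_19_3 lc_e_rc_23_2 lc_e_rc_15_1 lc_e_rc_23_2 lc_e_rc_24_2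 lc_e_rc_10_1 lc_e_rc_10_1 lc_e_rc_4_1 lc_e_rc_15_1 lc_e_rc_4_1 lc_e_rc_4_1 lc_e_rc_10_1 lc_e_rc_23_2 lc_e_rc_24_2 lc_e_rc_10_1 lc_e_Cert_tree lc_e_rc_4_1 lc_e_rc_10_1 lc_e_rc_4_1 lc_e_rc_15_1 lc_e_rc_24_2 lc_e_rc_10_1 lc_e_rc_10_1 lc_e_rc_4_1 lc_e_rc_4_1) (@D3.rec (fun _ => (Cert rels S Gen.e)) lc_e_Cert_tree lc_e_rc_24_2 lc_e_rc_23_2 lc_e_rc_23_2 lc_e_rc_4_1 lc_e_rc_10_1 lc_e_rc_24_2 lc_e_Cert_tree lc_e_Cert_tree lc_e_rc_22_0 lc_e_rc_24_2 lc_e_rc_10_1 lc_e_rc_23_2 lc_e_rc_4_3 lc_e_rc_23_2 lc_e_rc_24_2 lc_e_rc_15_1 lc_e_rc_4_1 lc_e_rc_15_1 lc_e_rc_24_2 lc_e_rc_23_2 lc_e_rc_23_2 lc_e_rc_24_2 lc_e_rc_4_3 lc_e_rc_24_2 lc_e_rc_10_1 lc_e_rc_24_2 lc_e_rc_24_0 lc_e_rc_4_1 lc_e_rc_10_1 lc_e_rc_10_1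 lc_e_rc_4_1 lc_e_rc_24_2 lc_e_rc_15_1 lc_e_rc_4_1 lc_e_rc_24_2 lc_e_rc_10_1 lc_e_rc_4_1 lc_e_rc_23_2 lc_e_rc_15_1) (@D3.rec (fun _ => (Cert rels S Gen.e)) lc_e_rc_10_1 lc_e_rc_4_1 lc_e_rc_22_0 lc_e_Cert_tree lc_e_rc_10_1 lc_e_rc_22_0 lc_e_Cert_tree lc_e_rc_15_1 lc_e_rc_22_0 lc_e_rc_24_2 lc_e_rc_4_1 lc_e_rc_23_2 lc_e_rc_23_2 lc_e_rc_10_1 lc_e_rc_15_1 lc_e_rc_24_2 lc_e_rc_15_1 lc_e_rc_24_2 lc_e_rc_10_1 lc_e_rc_4_1 lc_e_rc_24_2 lc_e_rc_15_1 lc_e_rc_10_1 lc_e_rc_24_2 lc_e_rc_4_1 lc_e_rc_15_1 lc_e_rc_23_2 lc_e_rc_4_1 lc_e_rc_15_1 lc_e_rc_23_2 lc_e_rc_24_2 lc_e_rc_4_1 lc_e_rc_4_1 lc_e_rc_10_1 lc_e_rc_15_1 lc_e_rc_24_2 lc_e_rc_22_0 lc_e_Cert_tree lc_e_rc_22_0 lc_e_rc_4_1) (@D3.rec (fun _ =>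 (Cert rels S Gen.e)) lc_e_rc_24_2 lc_e_rc_4_3 lc_e_rc_4_1 lc_e_rc_10_1 lc_e_rc_4_1 lc_e_rc_4_1 lc_e_rc_22_0 lc_e_rc_4_3 lc_e_rc_10_1 lc_e_rc_24_2 lc_e_rc_10_1 lc_e_rc_4_1 lc_e_Cert_tree lc_e_rc_23_2 lc_e_rc_24_2 lc_e_rc_22_0 lc_e_rc_10_1 lc_e_Cert_tree lc_e_rc_4_1 lc_e_Cert_tree lc_e_rc_22_0 lc_e_rc_23_2 lc_e_rc_24_2 lc_e_rc_23_2 lc_e_Cert_tree lc_e_rc_22_0 lc_e_rc_23_2 lc_e_rc_24_2 lc_e_rc_19_3 lc_e_rc_24_2 lc_e_rc_10_1 lc_e_rc_10_1 lc_e_rc_4_1 lc_e_rc_23_2 lc_e_rc_10_1 lc_e_rc_4_1 lc_e_rc_4_1 lc_e_rc_4_1 lc_e_rc_23_2 lc_e_rc_24_2) (@D3.rec (fun _ => (Cert rels S Gen.e)) lc_e_rc_4_1 lc_e_rc_10_1 lc_e_rc_22_0 lc_e_rc_10_1 lc_e_rc_23_2 lc_e_rc_15_1 lc_e_rc_24_2 lc_e_rc_10_1 lc_e_rc_23_2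 lc_e_rc_10_1 lc_e_rc_4_1 lc_e_rc_22_0 lc_e_rc_10_1 lc_e_rc_10_1 lc_e_rc_4_1 lc_e_Cert_tree lc_e_rc_15_1 lc_e_rc_4_1 lc_e_rc_22_0 lc_e_rc_23_2 lc_e_rc_10_1 lc_e_rc_22_0 lc_e_rc_23_2 lc_e_rc_23_2 lc_e_rc_24_2 lc_e_rc_24_2 lc_e_rc_24_2 lc_e_rc_4_3 lc_e_rc_10_3 lc_e_rc_24_2 lc_e_rc_22_0 lc_e_Cert_tree lc_e_rc_22_0 lc_e_rc_23_2 lc_e_rc_24_2 lc_e_rc_19_3 lc_e_rc_23_2 lc_e_rc_24_2 lc_e_rc_24_2 lc_e_rc_24_2) (@D3.rec (fun _ => (Cert rels S Gen.e)) lc_e_rc_4_1 lc_e_rc_19_3 lc_e_rc_23_2 lc_e_rc_10_1 lc_e_rc_10_1 lc_e_rc_4_1 lc_e_rc_15_1 lc_e_rc_4_1 lc_e_rc_4_1 lc_e_rc_10_1 lc_e_rc_24_2 lc_e_rc_23_2 lc_e_rc_10_1 lc_e_rc_24_2 lc_e_rc_23_2 lc_e_rc_10_1 lc_e_rc_19_3 lc_e_rc_24_2 lc_e_rc_24_2 lc_e_rc_4_1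 lc_e_rc_19_1 lc_e_rc_23_2 lc_e_rc_4_1 lc_e_rc_4_1 lc_e_rc_23_2 lc_e_rc_22_0 lc_e_rc_22_0 lc_e_Cert_tree lc_e_rc_22_0 lc_e_rc_24_2 lc_e_rc_23_2 lc_e_rc_24_2 lc_e_rc_22_0 lc_e_rc_23_2 lc_e_rc_24_2 lc_e_rc_24_0 lc_e_rc_22_0 lc_e_rc_4_1 lc_e_rc_24_2 lc_e_rc_23_2) (@D3.rec (fun _ => (Cert rels S Gen.e)) lc_e_rc_24_2 lc_e_rc_4_3 lc_e_Cert_tree lc_e_Cert_tree lc_e_rc_22_0 lc_e_rc_24_2 lc_e_rc_23_2 lc_e_rc_24_2 lc_e_rc_15_1 lc_e_rc_22_0 lc_e_rc_24_2 lc_e_rc_19_3 lc_e_rc_24_2 lc_e_rc_10_1 lc_e_rc_23_2 lc_e_rc_24_2 lc_e_rc_24_0 lc_e_rc_10_1 lc_e_rc_10_1 lc_e_rc_15_1 lc_e_rc_23_2 lc_e_rc_4_1 lc_e_rc_15_1 lc_e_rc_24_2 lc_e_rc_24_0 lc_e_rc_23_2 lc_e_rc_24_2 lc_e_rc_15_1 lc_e_rc_23_2 lc_e_rc_24_2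 lc_e_rc_24_2 lc_e_rc_24_0 lc_e_rc_23_2 lc_e_rc_23_2 lc_e_rc_19_1 lc_e_rc_19_3 lc_e_rc_23_2 lc_e_rc_15_1 lc_e_rc_4_1 lc_e_rc_10_1) (@D3.rec (fun _ => (Cert rels S Gen.e)) lc_e_rc_24_2 lc_e_rc_4_1 lc_e_rc_24_2 lc_e_rc_24_2 lc_e_rc_22_0 lc_e_rc_22_0 lc_e_Cert_tree lc_e_rc_22_0 lc_e_rc_23_2 lc_e_rc_23_2 lc_e_rc_24_2 lc_e_rc_22_0 lc_e_rc_23_2 lc_e_rc_24_2 lc_e_rc_4_1 lc_e_rc_22_0 lc_e_rc_23_2 lc_e_rc_4_1 lc_e_rc_24_2 lc_e_rc_24_2 lc_e_rc_4_3 lc_e_Cert_tree lc_e_Cert_tree lc_e_rc_22_0 lc_e_rc_23_2 lc_e_rc_23_2 lc_e_rc_24_2 lc_e_rc_15_1 lc_e_rc_22_0 lc_e_rc_23_2 lc_e_rc_19_3 lc_e_rc_23_2 lc_e_rc_10_1 lc_e_rc_24_2 lc_e_rc_24_2 lc_e_rc_24_0 lc_e_rc_10_1 lc_e_rc_10_1 lc_e_rc_4_1 lc_e_rc_15_1)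 (@D3.rec (fun _ => (Cert rels S Gen.e)) lc_e_rc_23_2 lc_e_rc_15_1 lc_e_rc_24_2 lc_e_rc_23_0 lc_e_rc_23_2 lc_e_rc_24_2 lc_e_rc_15_1 lc_e_rc_23_2 lc_e_rc_24_2 lc_e_rc_24_2 lc_e_rc_24_0 lc_e_rc_23_0 lc_e_rc_23_2 lc_e_rc_24_2 lc_e_rc_22_0 lc_e_rc_23_2 lc_e_rc_24_2 lc_e_Cert_tree lc_e_rc_23_2 lc_e_rc_22_0 lc_e_rc_4_1 lc_e_rc_4_1 lc_e_Cert_tree lc_e_rc_22_0 lc_e_rc_24_2 lc_e_rc_24_2 lc_e_rc_4_1 lc_e_rc_10_1 lc_e_rc_24_2 lc_e_rc_4_1 lc_e_rc_15_1 lc_e_rc_23_2 lc_e_rc_24_2 lc_e_rc_10_3 lc_e_rc_15_3 lc_e_rc_24_2 lc_e_rc_23_2 lc_e_Cert_tree lc_e_rc_22_0 lc_e_rc_23_2) (@D3.rec (fun _ => (Cert rels S Gen.e)) lc_e_rc_24_2 lc_e_rc_19_3 lc_e_rc_23_2 lc_e_rc_24_2 lc_e_rc_10_1 lc_e_rc_23_2 lc_e_rc_22_0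 lc_e_rc_24_2 lc_e_rc_19_3 lc_e_rc_23_2 lc_e_rc_24_2 lc_e_rc_10_1 lc_e_rc_15_1 lc_e_rc_23_2 lc_e_rc_24_2 lc_e_rc_15_1 lc_e_rc_23_2 lc_e_rc_10_1 lc_e_rc_4_1 lc_e_rc_10_3 lc_e_rc_22_0 lc_e_rc_24_2 lc_e_rc_23_2 lc_e_Cert_tree lc_e_rc_10_1 lc_e_rc_22_0 lc_e_rc_24_0 lc_e_rc_10_1 lc_e_Cert_tree lc_e_rc_22_0 lc_e_rc_23_2 lc_e_rc_24_2 lc_e_rc_23_2 lc_e_rc_19_3 lc_e_rc_23_2 lc_e_rc_23_2 lc_e_rc_15_1 lc_e_rc_24_2 lc_e_rc_23_2 lc_e_rc_15_3) (@D3.rec (fun _ => (Cert rels S Gen.e)) lc_e_rc_15_1 lc_e_rc_23_2 lc_e_Cert_tree lc_e_rc_22_0 lc_e_rc_23_2 lc_e_rc_10_1 lc_e_rc_24_2 lc_e_rc_22_0 lc_e_rc_19_3 lc_e_rc_23_2 lc_e_rc_24_2 lc_e_rc_10_1 lc_e_rc_15_1 lc_e_rc_23_2 lc_e_rc_10_1 lc_e_rc_4_1 lc_e_Cert_tree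 lc_e_rc_4_1 lc_e_rc_10_3 lc_e_rc_4_3 lc_e_rc_10_1 lc_e_rc_22_0 lc_e_rc_10_1 lc_e_rc_15_1 lc_e_rc_22_0 lc_e_rc_23_2 lc_e_rc_10_1 lc_e_rc_15_1 lc_e_rc_10_1 lc_e_rc_4_1 lc_e_Cert_tree lc_e_rc_10_1 lc_e_rc_4_1 lc_e_rc_4_1 lc_e_rc_23_2 lc_e_rc_24_2 lc_e_rc_32_77 lc_e_rc_15_1 lc_e_rc_10_1 lc_e_rc_32_77) (@D3.rec (fun _ => (Cert rels S Gen.e)) lc_e_rc_10_1 lc_e_Cert_tree lc_e_Cert_tree lc_e_rc_22_0 lc_e_rc_10_3 lc_e_rc_23_2 lc_e_rc_10_1 lc_e_rc_15_3 lc_e_Cert_tree lc_e_rc_24_2 lc_e_rc_15_3 lc_e_Cert_tree lc_e_rc_22_0 lc_e_rc_22_0 lc_e_rc_24_2 lc_e_rc_10_1 lc_e_rc_23_2 lc_e_rc_4_1 lc_e_rc_32_25 lc_e_rc_32_77 lc_e_rc_24_0 lc_e_rc_23_2 lc_e_rc_10_1 lc_e_rc_4_1 lc_e_rc_10_1 lc_e_rc_10_1 lc_e_rc_22_0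 lc_e_rc_10_1 lc_e_rc_15_1 lc_e_rc_22_0 lc_e_rc_24_2 lc_e_rc_15_1 lc_e_rc_10_1 lc_e_rc_4_1 lc_e_rc_32_25 lc_e_rc_23_2 lc_e_rc_10_1 lc_e_Cert_tree lc_e_Cert_tree lc_e_rc_22_0)
def ce_e_12 : D2 → D3 → (Cert rels S Gen.e) := @D2.rec (fun _ => D3 → (Cert rels S Gen.e)) (@D3.rec (fun _ => (Cert rels S Gen.e)) lc_e_rc_4_1 lc_e_rc_10_1 lc_e_rc_24_2 lc_e_rc_15_3 lc_e_Cert_tree lc_e_rc_15_3 lc_e_rc_23_2 lc_e_Cert_tree lc_e_rc_22_0 lc_e_rc_22_0 lc_e_rc_23_2 lc_e_rc_10_1 lc_e_rc_24_2 lc_e_rc_24_2 lc_e_rc_4_1 lc_e_rc_24_2 lc_e_rc_10_1 lc_e_rc_4_1 lc_e_rc_10_1 lc_e_rc_15_1 lc_e_rc_23_2 lc_e_rc_15_1 lc_e_rc_24_2 lc_e_rc_4_1 lc_e_rc_4_1 lc_e_rc_24_2 lc_e_rc_4_1 lc_e_rc_10_1 lc_e_rc_10_1 lc_e_rc_4_1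 lc_e_rc_15_1 lc_e_rc_24_2 lc_e_rc_4_1 lc_e_rc_15_1 lc_e_rc_23_2 lc_e_rc_10_1 lc_e_rc_4_1 lc_e_rc_10_1 lc_e_rc_10_1 lc_e_rc_4_1) (@D3.rec (fun _ => (Cert rels S Gen.e)) lc_e_rc_24_2 lc_e_rc_24_2 lc_e_rc_23_2 lc_e_rc_10_1 lc_e_rc_4_1 lc_e_rc_15_1 lc_e_rc_23_2 lc_e_rc_10_1 lc_e_rc_4_1 lc_e_rc_15_1 lc_e_rc_24_2 lc_e_rc_4_1 lc_e_rc_15_1 lc_e_rc_23_2 lc_e_rc_4_1 lc_e_rc_4_1 lc_e_rc_24_0 lc_e_rc_19_3 lc_e_rc_23_2 lc_e_rc_24_2 lc_e_rc_4_1 lc_e_rc_15_1 lc_e_rc_24_2 lc_e_rc_24_0 lc_e_rc_4_1 lc_e_rc_4_1 lc_e_rc_10_1 lc_e_rc_24_2 lc_e_rc_4_1 lc_e_rc_10_1 lc_e_rc_10_1 lc_e_rc_10_1 lc_e_rc_10_1 lc_e_rc_10_1 lc_e_rc_10_1 lc_e_rc_4_1 lc_e_rc_15_1 lc_e_rc_23_2 lc_e_rc_4_1 lc_e_rc_15_1) (@D3.rec (fun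 _ => (Cert rels S Gen.e)) lc_e_rc_24_2 lc_e_rc_4_1 lc_e_rc_15_1 lc_e_rc_24_2 lc_e_rc_4_1 lc_e_rc_15_1 lc_e_rc_23_2 lc_e_rc_24_2 lc_e_rc_23_2 lc_e_rc_10_3 lc_e_rc_10_1 lc_e_rc_4_1 lc_e_rc_15_1 lc_e_rc_10_1 lc_e_rc_22_0 lc_e_rc_23_2 lc_e_rc_10_1 lc_e_rc_4_1 lc_e_rc_24_2 lc_e_rc_10_1 lc_e_rc_22_0 lc_e_rc_24_2 lc_e_rc_24_2 lc_e_rc_4_1 lc_e_rc_10_1 lc_e_rc_4_1 lc_e_rc_19_1 lc_e_rc_4_3 lc_e_rc_23_2 lc_e_rc_4_3 lc_e_rc_4_3 lc_e_rc_4_1 lc_e_rc_24_2 lc_e_rc_24_2 lc_e_rc_15_1 lc_e_rc_24_2 lc_e_rc_4_1 lc_e_rc_23_2 lc_e_rc_4_1 lc_e_rc_4_1) (@D3.rec (fun _ => (Cert rels S Gen.e)) lc_e_rc_24_2 lc_e_rc_4_1 lc_e_rc_23_2 lc_e_rc_23_0 lc_e_rc_23_2 lc_e_rc_10_1 lc_e_rc_10_3 lc_e_rc_10_1 lc_e_rc_10_1 lc_e_rc_23_2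 lc_e_rc_4_1 lc_e_rc_23_2 lc_e_rc_24_2 lc_e_rc_19_1 lc_e_rc_10_1 lc_e_rc_23_2 lc_e_rc_4_1 lc_e_rc_24_2 lc_e_rc_4_1 lc_e_rc_4_1 lc_e_rc_4_1 lc_e_rc_24_2 lc_e_rc_19_3 lc_e_rc_4_3 lc_e_rc_10_1 lc_e_rc_4_1 lc_e_rc_15_1 lc_e_rc_23_2 lc_e_rc_4_1 lc_e_rc_24_0 lc_e_rc_23_2 lc_e_rc_24_2 lc_e_rc_23_2 lc_e_rc_24_2 lc_e_rc_24_2 lc_e_rc_10_1 lc_e_rc_4_1 lc_e_rc_15_1 lc_e_rc_24_2 lc_e_rc_4_1) (@D3.rec (fun _ => (Cert rels S Gen.e)) lc_e_rc_4_1 lc_e_rc_24_2 lc_e_rc_4_1 lc_e_rc_15_1 lc_e_rc_4_1 lc_e_rc_19_3 lc_e_rc_24_2 lc_e_rc_23_2 lc_e_rc_4_1 lc_e_rc_24_0 lc_e_rc_23_2 lc_e_rc_24_2 lc_e_rc_24_2 lc_e_rc_4_1 lc_e_rc_19_3 lc_e_rc_24_0 lc_e_rc_24_2 lc_e_rc_4_1 lc_e_rc_24_2 lc_e_rc_4_1 lc_e_rc_23_2 lc_e_rc_24_2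 lc_e_rc_19_3 lc_e_rc_24_2 lc_e_rc_22_0 lc_e_rc_24_2 lc_e_rc_10_1 lc_e_rc_15_1 lc_e_rc_23_2 lc_e_rc_24_2 lc_e_rc_10_1 lc_e_rc_24_2 lc_e_rc_4_1 lc_e_rc_4_1 lc_e_rc_4_1 lc_e_Cert_tree lc_e_rc_4_1 lc_e_rc_10_1 lc_e_rc_24_2 lc_e_rc_4_1) (@D3.rec (fun _ => (Cert rels S Gen.e)) lc_e_rc_15_1 lc_e_rc_23_2 lc_e_rc_24_2 lc_e_rc_10_1 lc_e_rc_4_1 lc_e_Cert_tree lc_e_rc_22_0 lc_e_rc_23_2 lc_e_rc_24_2 lc_e_rc_10_1 lc_e_rc_23_2 lc_e_rc_10_3 lc_e_rc_23_2 lc_e_rc_22_0 lc_e_rc_23_2 lc_e_rc_10_1 lc_e_rc_15_1 lc_e_rc_24_2 lc_e_rc_23_2 lc_e_rc_10_1 lc_e_rc_4_3 lc_e_rc_4_1 lc_e_rc_24_2 lc_e_rc_4_1 lc_e_Cert_tree lc_e_rc_24_2 lc_e_rc_10_1 lc_e_rc_23_2 lc_e_rc_4_1 lc_e_rc_15_1 lc_e_rc_23_2 lc_e_rc_24_2 lc_e_rc_4_3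 lc_e_rc_4_1 lc_e_Cert_tree lc_e_rc_22_0 lc_e_rc_24_2 lc_e_rc_4_1 lc_e_rc_10_1 lc_e_rc_10_1) (@D3.rec (fun _ => (Cert rels S Gen.e)) lc_e_rc_4_1 lc_e_rc_15_1 lc_e_rc_10_3 lc_e_rc_10_1 lc_e_rc_4_1 lc_e_rc_24_2 lc_e_rc_10_1 lc_e_rc_19_3 lc_e_rc_15_1 lc_e_rc_10_3 lc_e_rc_10_1 lc_e_rc_4_1 lc_e_rc_4_1 lc_e_rc_4_1 lc_e_rc_15_1 lc_e_rc_23_2 lc_e_rc_4_1 lc_e_rc_4_1 lc_e_rc_23_2 lc_e_rc_24_2 lc_e_rc_4_3 lc_e_rc_24_2 lc_e_rc_4_1 lc_e_rc_15_1 lc_e_rc_24_2 lc_e_rc_4_1 lc_e_rc_24_2 lc_e_rc_24_2 lc_e_rc_4_1 lc_e_rc_4_3 lc_e_rc_4_3 lc_e_rc_10_3 lc_e_rc_24_0 lc_e_rc_10_3 lc_e_rc_15_1 lc_e_rc_10_3 lc_e_rc_22_0 lc_e_rc_10_3 lc_e_rc_15_1 lc_e_rc_23_2) (@D3.rec (fun _ => (Cert rels S Gen.e)) lc_e_rc_24_2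 lc_e_rc_10_1 lc_e_Cert_tree lc_e_rc_10_1 lc_e_rc_4_1 lc_e_rc_10_1 lc_e_rc_32_51 lc_e_rc_22_0 lc_e_rc_10_1 lc_e_rc_23_2 lc_e_rc_19_1 lc_e_rc_19_1 lc_e_rc_22_1 lc_e_rc_19_1 lc_e_rc_4_1 lc_e_rc_23_2 lc_e_rc_23_2 lc_e_rc_24_2 lc_e_rc_22_0 lc_e_rc_23_2 lc_e_rc_23_2 lc_e_rc_10_1 lc_e_rc_15_1 lc_e_rc_10_1 lc_e_rc_24_2 lc_e_rc_23_2 lc_e_rc_10_1 lc_e_Cert_tree lc_e_rc_10_1 lc_e_rc_4_1 lc_e_rc_10_1 lc_e_rc_10_1 lc_e_rc_22_0 lc_e_rc_10_1 lc_e_rc_22_1 lc_e_rc_23_0 lc_e_rc_4_1 lc_e_rc_23_2 lc_e_rc_4_3 lc_e_rc_4_1) (@D3.rec (fun _ => (Cert rels S Gen.e)) lc_e_rc_4_1 lc_e_rc_23_2 lc_e_rc_24_2 lc_e_rc_22_0 lc_e_rc_24_2 lc_e_rc_24_2 lc_e_rc_10_1 lc_e_rc_15_1 lc_e_rc_10_1 lc_e_rc_24_2 lc_e_rc_24_2 lc_e_rc_4_1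 lc_e_rc_10_1 lc_e_rc_23_2 lc_e_rc_23_2 lc_e_rc_4_1 lc_e_rc_10_1 lc_e_rc_10_1 lc_e_rc_19_1 lc_e_rc_10_1 lc_e_rc_19_1 lc_e_rc_24_2 lc_e_rc_23_2 lc_e_rc_15_3 lc_e_rc_32_51 lc_e_rc_19_3 lc_e_rc_10_1 lc_e_rc_10_3 lc_e_rc_10_3 lc_e_rc_23_2 lc_e_rc_10_1 lc_e_rc_24_2 lc_e_rc_10_1 lc_e_rc_24_0 lc_e_rc_15_1 lc_e_rc_23_2 lc_e_rc_15_1 lc_e_rc_10_1 lc_e_rc_4_1 lc_e_rc_15_1) (@D3.rec (fun _ => (Cert rels S Gen.e)) lc_e_rc_24_2 lc_e_rc_10_1 lc_e_rc_4_1 lc_e_rc_4_1 lc_e_Cert_tree lc_e_rc_24_2 lc_e_rc_10_3 lc_e_rc_10_1 lc_e_rc_4_1 lc_e_rc_4_1 lc_e_Cert_tree lc_e_rc_23_2 lc_e_rc_24_2 lc_e_rc_10_1 lc_e_rc_15_1 lc_e_rc_23_2 lc_e_rc_24_2 lc_e_rc_4_1 lc_e_rc_10_1 lc_e_rc_10_1 lc_e_rc_15_1 lc_e_rc_23_2 lc_e_rc_24_2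 lc_e_rc_4_1 lc_e_rc_10_1 lc_e_rc_4_1 lc_e_rc_4_1 lc_e_rc_10_3 lc_e_rc_15_1 lc_e_rc_23_0 lc_e_rc_4_1 lc_e_rc_15_1 lc_e_rc_23_2 lc_e_rc_10_1 lc_e_rc_4_1 lc_e_rc_24_2 lc_e_rc_24_0 lc_e_rc_23_2 lc_e_rc_24_2 lc_e_rc_23_2) (@D3.rec (fun _ => (Cert rels S Gen.e)) lc_e_rc_23_0 lc_e_rc_10_3 lc_e_rc_4_1 lc_e_rc_15_1 lc_e_rc_24_2 lc_e_rc_10_1 lc_e_rc_4_1 lc_e_rc_4_1 lc_e_rc_10_3 lc_e_rc_24_2 lc_e_rc_4_3 lc_e_rc_23_0 lc_e_rc_24_2 lc_e_rc_24_2 lc_e_rc_10_1 lc_e_rc_4_1 lc_e_rc_15_1 lc_e_rc_23_2 lc_e_rc_10_1 lc_e_rc_10_1 lc_e_rc_15_1 lc_e_rc_23_0 lc_e_rc_10_1 lc_e_rc_4_1 lc_e_rc_10_1 lc_e_rc_4_1 lc_e_rc_19_3 lc_e_rc_23_2 lc_e_rc_23_2 lc_e_rc_10_1 lc_e_rc_4_1 lc_e_rc_15_1 lc_e_rc_24_2 lc_e_rc_24_0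 lc_e_rc_4_1 lc_e_rc_15_1 lc_e_rc_23_2 lc_e_rc_10_1 lc_e_rc_4_1 lc_e_rc_10_1) (@D3.rec (fun _ => (Cert rels S Gen.e)) lc_e_rc_24_0 lc_e_rc_24_2 lc_e_rc_24_2 lc_e_rc_4_1 lc_e_rc_15_1 lc_e_rc_4_1 lc_e_rc_4_1 lc_e_rc_10_1 lc_e_rc_10_1 lc_e_rc_4_1 lc_e_rc_15_1 lc_e_rc_24_2 lc_e_rc_4_1 lc_e_rc_23_2 lc_e_rc_24_2 lc_e_rc_10_1 lc_e_rc_10_1 lc_e_rc_23_2 lc_e_rc_4_3 lc_e_rc_19_3 lc_e_rc_15_1 lc_e_rc_10_3 lc_e_rc_19_3 lc_e_rc_10_1 lc_e_rc_10_1 lc_e_rc_4_1 lc_e_rc_15_1 lc_e_rc_23_2 lc_e_rc_4_1 lc_e_rc_23_2 lc_e_rc_24_2 lc_e_rc_10_1 lc_e_rc_10_1 lc_e_Cert_tree lc_e_rc_4_1 lc_e_rc_4_1 lc_e_rc_10_1 lc_e_rc_19_3 lc_e_rc_23_2 lc_e_rc_24_2) (@D3.rec (fun _ => (Cert rels S Gen.e)) lc_e_Cert_tree lc_e_rc_22_0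 lc_e_rc_10_1 lc_e_rc_24_2 lc_e_rc_24_2 lc_e_rc_10_1 lc_e_rc_4_1 lc_e_rc_4_1 lc_e_rc_24_2 lc_e_rc_4_1 lc_e_rc_4_1 lc_e_rc_22_0 lc_e_rc_10_1 lc_e_rc_24_2 lc_e_rc_24_2 lc_e_rc_24_2 lc_e_rc_4_1 lc_e_rc_24_2 lc_e_rc_10_1 lc_e_rc_4_1 lc_e_rc_15_1 lc_e_rc_23_2 lc_e_rc_10_1 lc_e_rc_4_1 lc_e_rc_4_1 lc_e_Cert_tree lc_e_rc_23_2 lc_e_rc_10_1 lc_e_rc_4_1 lc_e_rc_4_1 lc_e_rc_15_1 lc_e_rc_23_2 lc_e_rc_10_1 lc_e_rc_10_1 lc_e_rc_4_1 lc_e_Cert_tree lc_e_rc_4_1 lc_e_rc_10_1 lc_e_rc_4_1 lc_e_rc_15_1) (@D3.rec (fun _ => (Cert rels S Gen.e)) lc_e_rc_24_2 lc_e_rc_4_1 lc_e_rc_15_1 lc_e_rc_23_2 lc_e_rc_24_2 lc_e_rc_10_1 lc_e_rc_4_3 lc_e_rc_22_0 lc_e_rc_24_0 lc_e_rc_23_0 lc_e_rc_4_1 lc_e_rc_15_1 lc_e_rc_24_2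 lc_e_rc_4_1 lc_e_rc_4_1 lc_e_rc_19_3 lc_e_rc_24_2 lc_e_rc_4_1 lc_e_rc_4_1 lc_e_rc_4_1 lc_e_rc_24_2 lc_e_rc_23_2 lc_e_rc_4_1 lc_e_Cert_tree lc_e_rc_24_2 lc_e_rc_22_0 lc_e_rc_19_3 lc_e_rc_4_1 lc_e_rc_23_2 lc_e_Cert_tree lc_e_rc_4_1 lc_e_rc_4_1 lc_e_rc_10_1 lc_e_rc_4_3 lc_e_rc_23_2 lc_e_rc_24_2 lc_e_Cert_tree lc_e_rc_22_0 lc_e_rc_23_2 lc_e_rc_15_3) (@D3.rec (fun _ => (Cert rels S Gen.e)) lc_e_rc_10_1 lc_e_rc_24_2 lc_e_rc_4_1 lc_e_rc_4_1 lc_e_rc_23_2 lc_e_rc_24_2 lc_e_rc_22_0 lc_e_rc_23_2 lc_e_rc_23_0 lc_e_rc_23_2 lc_e_rc_24_2 lc_e_rc_4_1 lc_e_rc_23_2 lc_e_rc_10_1 lc_e_rc_4_1 lc_e_rc_15_1 lc_e_rc_24_2 lc_e_rc_10_1 lc_e_rc_4_1 lc_e_Cert_tree lc_e_rc_24_2 lc_e_rc_10_1 lc_e_rc_24_2 lc_e_rc_4_1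 lc_e_rc_15_1 lc_e_rc_24_2 lc_e_rc_10_1 lc_e_rc_10_1 lc_e_rc_4_1 lc_e_rc_10_1 lc_e_rc_24_2 lc_e_rc_10_1 lc_e_rc_4_1 lc_e_rc_15_1 lc_e_rc_23_2 lc_e_rc_4_1 lc_e_rc_15_1 lc_e_rc_23_2 lc_e_rc_24_2 lc_e_rc_4_3) (@D3.rec (fun _ => (Cert rels S Gen.e)) lc_e_rc_23_0 lc_e_rc_4_1 lc_e_rc_15_1 lc_e_rc_23_2 lc_e_rc_4_1 lc_e_rc_24_0 lc_e_rc_24_0 lc_e_rc_23_2 lc_e_rc_24_2 lc_e_rc_4_1 lc_e_rc_4_1 lc_e_rc_23_2 lc_e_rc_24_2 lc_e_rc_4_1 lc_e_rc_10_1 lc_e_rc_23_2 lc_e_rc_19_3 lc_e_rc_4_1 lc_e_rc_24_2 lc_e_rc_24_2 lc_e_rc_4_1 lc_e_rc_22_0 lc_e_rc_10_1 lc_e_rc_24_2 lc_e_rc_10_1 lc_e_rc_4_1 lc_e_rc_24_2 lc_e_rc_24_2 lc_e_rc_24_2 lc_e_rc_10_1 lc_e_rc_10_1 lc_e_rc_4_1 lc_e_rc_15_1 lc_e_rc_23_2 lc_e_rc_10_1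 lc_e_rc_4_1 lc_e_rc_4_1 lc_e_rc_23_2 lc_e_rc_4_1 lc_e_rc_23_2) (@D3.rec (fun _ => (Cert rels S Gen.e)) lc_e_rc_10_1 lc_e_rc_24_2 lc_e_rc_4_1 lc_e_rc_15_1 lc_e_rc_24_2 lc_e_Cert_tree lc_e_rc_4_1 lc_e_rc_10_1 lc_e_Cert_tree lc_e_rc_22_0 lc_e_rc_23_2 lc_e_rc_10_1 lc_e_rc_24_2 lc_e_rc_4_1 lc_e_rc_24_2 lc_e_rc_10_1 lc_e_rc_4_1 lc_e_rc_4_1 lc_e_rc_4_1 lc_e_Cert_tree lc_e_rc_24_2 lc_e_rc_22_0 lc_e_Cert_tree lc_e_rc_22_0 lc_e_rc_10_1 lc_e_Cert_tree lc_e_rc_4_1 lc_e_rc_4_1 lc_e_Cert_tree lc_e_rc_22_0 lc_e_rc_19_3 lc_e_rc_19_3 lc_e_rc_24_2 lc_e_rc_4_1 lc_e_Cert_tree lc_e_rc_22_0 lc_e_rc_23_2 lc_e_rc_24_2 lc_e_rc_24_2 lc_e_rc_4_1) (@D3.rec (fun _ => (Cert rels S Gen.e)) lc_e_rc_22_0 lc_e_rc_4_3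 lc_e_rc_10_1 lc_e_rc_10_1 lc_e_rc_24_0 lc_e_rc_23_2 lc_e_rc_23_2 lc_e_rc_4_3 lc_e_rc_10_1 lc_e_rc_10_1 lc_e_rc_4_1 lc_e_rc_15_1 lc_e_rc_24_2 lc_e_rc_10_1 lc_e_rc_4_1 lc_e_rc_4_1 lc_e_rc_24_2 lc_e_rc_4_1 lc_e_rc_24_2 lc_e_rc_24_2 lc_e_rc_4_3 lc_e_rc_4_1 lc_e_rc_15_1 lc_e_rc_23_2 lc_e_Cert_tree lc_e_rc_4_1 lc_e_rc_10_1 lc_e_Cert_tree lc_e_rc_22_0 lc_e_rc_24_2 lc_e_rc_10_1 lc_e_rc_4_1 lc_e_rc_4_1 lc_e_rc_4_1 lc_e_rc_10_1 lc_e_rc_4_1 lc_e_rc_24_2 lc_e_rc_4_1 lc_e_Cert_tree lc_e_rc_23_2) (@D3.rec (fun _ => (Cert rels S Gen.e)) lc_e_rc_22_0 lc_e_Cert_tree lc_e_rc_22_0 lc_e_rc_10_1 lc_e_Cert_tree lc_e_rc_4_1 lc_e_rc_4_1 lc_e_Cert_tree lc_e_rc_22_0 lc_e_rc_19_3 lc_e_rc_19_3 lc_e_rc_24_2 lc_e_rc_4_1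 lc_e_Cert_tree lc_e_rc_22_0 lc_e_rc_23_2 lc_e_rc_24_2 lc_e_rc_4_1 lc_e_rc_10_1 lc_e_rc_4_1 lc_e_rc_10_1 lc_e_rc_10_3 lc_e_rc_15_3 lc_e_rc_19_5 lc_e_Cert_tree lc_e_rc_23_2 lc_e_rc_23_0 lc_e_rc_22_0 lc_e_rc_19_5 lc_e_rc_23_2 lc_e_rc_23_0 lc_e_Cert_tree lc_e_rc_23_2 lc_e_Cert_tree lc_e_rc_22_0 lc_e_rc_23_2 lc_e_rc_24_2 lc_e_rc_4_1 lc_e_rc_10_1 lc_e_rc_24_2) (@D3.rec (fun _ => (Cert rels S Gen.e)) lc_e_rc_10_1 lc_e_rc_10_3 lc_e_rc_15_3 lc_e_rc_19_5 lc_e_Cert_tree lc_e_rc_23_2 lc_e_rc_19_5 lc_e_rc_22_0 lc_e_rc_19_5 lc_e_rc_23_2 lc_e_rc_23_0 lc_e_Cert_tree lc_e_Cert_tree lc_e_rc_22_0 lc_e_rc_23_2 lc_e_rc_24_2 lc_e_rc_23_2 lc_e_rc_10_1 lc_e_rc_15_1 lc_e_rc_4_1 lc_e_rc_24_2 lc_e_rc_23_2 lc_e_rc_24_2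 lc_e_rc_15_1 lc_e_rc_15_1 lc_e_rc_15_1 lc_e_rc_23_2 lc_e_rc_23_2 lc_e_rc_10_3 lc_e_rc_10_1 lc_e_rc_10_1 lc_e_rc_15_1 lc_e_rc_4_1 lc_e_rc_4_1 lc_e_rc_24_2 lc_e_rc_4_3 lc_e_rc_24_2 lc_e_rc_15_1 lc_e_rc_15_1 lc_e_rc_23_2) (@D3.rec (fun _ => (Cert rels S Gen.e)) lc_e_rc_10_3 lc_e_rc_24_2 lc_e_rc_10_1 lc_e_rc_22_0 lc_e_rc_24_2 lc_e_rc_10_1 lc_e_rc_10_1 lc_e_rc_23_2 lc_e_rc_10_1 lc_e_rc_4_1 lc_e_rc_24_2 lc_e_rc_10_1 lc_e_rc_23_2 lc_e_rc_10_1 lc_e_rc_4_1 lc_e_rc_24_2 lc_e_rc_4_3 lc_e_rc_10_1 lc_e_rc_10_1 lc_e_rc_4_1 lc_e_rc_15_1 lc_e_rc_23_2 lc_e_rc_10_1 lc_e_rc_4_1 lc_e_rc_23_2 lc_e_rc_24_2 lc_e_rc_4_1 lc_e_rc_22_0 lc_e_rc_10_1 lc_e_rc_4_1 lc_e_rc_15_1 lc_e_rc_10_1 lc_e_rc_4_1 lc_e_rc_4_1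 lc_e_rc_23_2 lc_e_rc_24_2 lc_e_rc_4_3 lc_e_rc_24_2 lc_e_rc_10_1 lc_e_rc_4_1) (@D3.rec (fun _ => (Cert rels S Gen.e)) lc_e_rc_15_1 lc_e_rc_24_2 lc_e_rc_10_1 lc_e_rc_4_1 lc_e_rc_4_1 lc_e_rc_24_2 lc_e_rc_4_3 lc_e_rc_4_1 lc_e_rc_15_1 lc_e_rc_24_2 lc_e_rc_23_2 lc_e_rc_24_2 lc_e_rc_4_1 lc_e_rc_24_2 lc_e_rc_4_1 lc_e_rc_10_1 lc_e_rc_4_1 lc_e_rc_10_1 lc_e_rc_10_1 lc_e_rc_10_1 lc_e_rc_4_1 lc_e_rc_4_1 lc_e_rc_4_3 lc_e_rc_24_2 lc_e_rc_22_0 lc_e_rc_23_2 lc_e_rc_10_1 lc_e_rc_24_2 lc_e_rc_10_1 lc_e_rc_10_1 lc_e_rc_23_2 lc_e_rc_10_1 lc_e_rc_24_2 lc_e_rc_4_1 lc_e_rc_23_2 lc_e_rc_24_2 lc_e_rc_10_1 lc_e_rc_10_1 lc_e_rc_10_1 lc_e_rc_4_1) (@D3.rec (fun _ => (Cert rels S Gen.e)) lc_e_rc_15_1 lc_e_rc_24_2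 lc_e_rc_10_1 lc_e_rc_4_1 lc_e_rc_24_2 lc_e_rc_4_3 lc_e_rc_22_0 lc_e_rc_10_1 lc_e_rc_4_1 lc_e_rc_15_1 lc_e_rc_10_1 lc_e_rc_4_1 lc_e_rc_4_1 lc_e_rc_24_2 lc_e_rc_4_1 lc_e_rc_15_1 lc_e_rc_23_2 lc_e_rc_10_1 lc_e_rc_4_1 lc_e_rc_24_2 lc_e_rc_24_2 lc_e_rc_4_1 lc_e_rc_10_1 lc_e_rc_23_2 lc_e_rc_24_2 lc_e_rc_10_1 lc_e_rc_4_1 lc_e_rc_10_1 lc_e_rc_4_1 lc_e_rc_4_1 lc_e_rc_24_2 lc_e_rc_10_1 lc_e_rc_10_1 lc_e_rc_4_1 lc_e_rc_19_1 lc_e_rc_23_2 lc_e_rc_24_2 lc_e_rc_4_1 lc_e_rc_10_1 lc_e_rc_23_2) (@D3.rec (fun _ => (Cert rels S Gen.e)) lc_e_rc_23_0 lc_e_rc_23_2 lc_e_rc_10_1 lc_e_rc_24_2 lc_e_rc_15_1 lc_e_rc_24_2 lc_e_Cert_tree lc_e_rc_22_0 lc_e_rc_10_1 lc_e_rc_4_1 lc_e_rc_15_1 lc_e_rc_24_2 lc_e_Cert_tree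 lc_e_rc_22_0 lc_e_rc_4_1 lc_e_rc_24_2 lc_e_rc_10_1 lc_e_rc_23_2 lc_e_rc_10_1 lc_e_rc_10_1 lc_e_Cert_tree lc_e_rc_4_1 lc_e_rc_22_0 lc_e_rc_23_2 lc_e_rc_4_3 lc_e_rc_22_0 lc_e_rc_24_2 lc_e_rc_15_1 lc_e_rc_23_2 lc_e_rc_24_2 lc_e_rc_22_0 lc_e_rc_10_1 lc_e_rc_10_1 lc_e_rc_10_1 lc_e_rc_19_5 lc_e_rc_10_3 lc_e_rc_22_0 lc_e_rc_24_2 lc_e_rc_24_2 lc_e_rc_10_1) (@D3.rec (fun _ => (Cert rels S Gen.e)) lc_e_rc_15_1 lc_e_rc_19_1 lc_e_rc_4_1 lc_e_rc_10_1 lc_e_rc_10_1 lc_e_rc_24_2 lc_e_rc_4_1 lc_e_rc_19_1 lc_e_rc_24_2 lc_e_rc_24_0 lc_e_rc_10_1 lc_e_rc_24_2 lc_e_rc_4_1 lc_e_rc_24_2 lc_e_rc_24_2 lc_e_rc_23_2 lc_e_rc_15_1 lc_e_rc_23_2 lc_e_Cert_tree lc_e_rc_22_0 lc_e_rc_10_1 lc_e_rc_4_1 lc_e_rc_15_1 lc_e_rc_23_2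 lc_e_Cert_tree lc_e_rc_22_0 lc_e_rc_4_1 lc_e_rc_23_2 lc_e_rc_10_1 lc_e_rc_24_2 lc_e_rc_10_1 lc_e_rc_10_1 lc_e_Cert_tree lc_e_rc_4_1 lc_e_rc_22_0 lc_e_rc_24_2 lc_e_rc_4_3 lc_e_rc_22_0 lc_e_rc_23_2 lc_e_rc_15_1) (@D3.rec (fun _ => (Cert rels S Gen.e)) lc_e_rc_23_2 lc_e_rc_24_2 lc_e_rc_22_0 lc_e_rc_10_1 lc_e_rc_10_1 lc_e_rc_19_5 lc_e_rc_10_1 lc_e_rc_15_1 lc_e_rc_22_0 lc_e_rc_23_2 lc_e_rc_23_2 lc_e_rc_19_1 lc_e_rc_24_2 lc_e_rc_10_1 lc_e_rc_4_1 lc_e_rc_23_2 lc_e_rc_23_2 lc_e_rc_23_2 lc_e_rc_23_0 lc_e_rc_10_1 lc_e_rc_4_1 lc_e_rc_24_2 lc_e_rc_22_0 lc_e_Cert_tree lc_e_rc_15_3 lc_e_Cert_tree lc_e_rc_22_0 lc_e_rc_24_2 lc_e_rc_15_3 lc_e_rc_4_3 lc_e_rc_23_2 lc_e_Cert_tree lc_e_rc_22_0 lc_e_rc_4_1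 lc_e_rc_22_0 lc_e_rc_23_2 lc_e_rc_24_2 lc_e_rc_10_1 lc_e_rc_24_2 lc_e_rc_23_2)
def ce_e_13 : D2 → D3 → (Cert rels S Gen.e) := @D2.rec (fun _ => D3 → (Cert rels S Gen.e)) (@D3.rec (fun _ => (Cert rels S Gen.e)) lc_e_rc_10_1 lc_e_rc_19_1 lc_e_rc_23_2 lc_e_rc_10_1 lc_e_rc_4_1 lc_e_rc_23_2 lc_e_rc_22_0 lc_e_Cert_tree lc_e_rc_15_3 lc_e_Cert_tree lc_e_rc_22_0 lc_e_rc_23_2 lc_e_rc_10_1 lc_e_rc_4_3 lc_e_rc_10_3 lc_e_Cert_tree lc_e_rc_22_0 lc_e_rc_24_2 lc_e_rc_22_0 lc_e_rc_23_2 lc_e_rc_24_2 lc_e_rc_10_1 lc_e_rc_23_2 lc_e_rc_24_2 lc_e_rc_10_1 lc_e_rc_10_1 lc_e_rc_10_1 lc_e_rc_10_1 lc_e_rc_24_2 lc_e_rc_10_1 lc_e_rc_15_1 lc_e_rc_23_2 lc_e_rc_23_2 lc_e_rc_10_1 lc_e_rc_4_1 lc_e_rc_23_2 lc_e_rc_15_1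 lc_e_rc_4_1 lc_e_rc_22_0 lc_e_rc_23_2) (@D3.rec (fun _ => (Cert rels S Gen.e)) lc_e_rc_4_1 lc_e_rc_10_1 lc_e_rc_10_1 lc_e_rc_4_1 lc_e_rc_4_1 lc_e_rc_24_2 lc_e_rc_10_1 lc_e_rc_19_3 lc_e_rc_4_1 lc_e_rc_4_1 lc_e_rc_10_1 lc_e_rc_10_1 lc_e_rc_24_2 lc_e_rc_4_1 lc_e_rc_19_3 lc_e_rc_24_2 lc_e_rc_10_1 lc_e_rc_10_1 lc_e_rc_4_1 lc_e_rc_24_2 lc_e_rc_10_1 lc_e_rc_10_1 lc_e_rc_24_2 lc_e_rc_24_2 lc_e_rc_22_0 lc_e_rc_24_2 lc_e_rc_10_1 lc_e_rc_10_1 lc_e_rc_4_1 lc_e_rc_10_1 lc_e_rc_10_1 lc_e_rc_4_1 lc_e_rc_10_1 lc_e_rc_19_1 lc_e_rc_4_1 lc_e_rc_19_3 lc_e_rc_23_2 lc_e_rc_4_1 lc_e_rc_15_1 lc_e_rc_23_2) (@D3.rec (fun _ => (Cert rels S Gen.e)) lc_e_rc_4_1 lc_e_rc_15_1 lc_e_rc_24_2 lc_e_rc_23_2 lc_e_rc_23_2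 lc_e_rc_4_1 lc_e_rc_4_1 lc_e_rc_4_1 lc_e_rc_4_1 lc_e_rc_15_3 lc_e_rc_23_2 lc_e_rc_4_1 lc_e_rc_4_1 lc_e_rc_15_3 lc_e_rc_24_2 lc_e_rc_23_2 lc_e_rc_24_2 lc_e_rc_19_3 lc_e_rc_24_2 lc_e_rc_4_1 lc_e_rc_23_2 lc_e_rc_10_1 lc_e_rc_4_1 lc_e_rc_10_1 lc_e_rc_23_2 lc_e_rc_24_0 lc_e_rc_23_2 lc_e_rc_10_1 lc_e_rc_24_2 lc_e_rc_4_1 lc_e_rc_15_1 lc_e_rc_23_2 lc_e_rc_4_1 lc_e_rc_4_1 lc_e_rc_24_0 lc_e_rc_19_3 lc_e_rc_23_2 lc_e_rc_24_2 lc_e_rc_4_1 lc_e_rc_15_1) (@D3.rec (fun _ => (Cert rels S Gen.e)) lc_e_rc_24_2 lc_e_rc_24_0 lc_e_rc_4_1 lc_e_rc_4_1 lc_e_rc_19_3 lc_e_rc_24_2 lc_e_rc_4_1 lc_e_rc_24_2 lc_e_rc_4_1 lc_e_rc_24_2 lc_e_rc_4_1 lc_e_rc_24_2 lc_e_rc_24_2 lc_e_rc_15_1 lc_e_rc_23_2 lc_e_rc_15_1 lc_e_rc_24_2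 lc_e_rc_23_2 lc_e_rc_23_2 lc_e_rc_15_1 lc_e_rc_24_2 lc_e_rc_15_1 lc_e_rc_23_2 lc_e_rc_24_2 lc_e_rc_4_1 lc_e_rc_10_1 lc_e_rc_10_1 lc_e_rc_10_1 lc_e_rc_10_1 lc_e_rc_15_1 lc_e_rc_15_1 lc_e_rc_24_2 lc_e_rc_4_1 lc_e_rc_15_1 lc_e_rc_23_2 lc_e_rc_4_1 lc_e_rc_15_1 lc_e_rc_4_1 lc_e_rc_24_2 lc_e_rc_23_2) (@D3.rec (fun _ => (Cert rels S Gen.e)) lc_e_rc_15_1 lc_e_rc_4_1 lc_e_rc_10_1 lc_e_rc_10_3 lc_e_rc_15_1 lc_e_rc_19_1 lc_e_rc_10_1 lc_e_rc_24_2 lc_e_rc_4_1 lc_e_rc_24_2 lc_e_rc_24_2 lc_e_rc_10_1 lc_e_rc_23_2 lc_e_rc_15_1 lc_e_rc_19_1 lc_e_rc_4_1 lc_e_rc_4_1 lc_e_rc_24_2 lc_e_rc_4_1 lc_e_rc_15_1 lc_e_rc_15_1 lc_e_rc_4_1 lc_e_rc_15_1 lc_e_rc_4_1 lc_e_rc_24_2 lc_e_rc_19_1 lc_e_rc_4_1 lc_e_rc_4_1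 lc_e_rc_23_0 lc_e_rc_24_2 lc_e_rc_24_2 lc_e_rc_23_2 lc_e_rc_23_2 lc_e_rc_24_2 lc_e_rc_4_3 lc_e_rc_23_2 lc_e_rc_24_2 lc_e_rc_23_2 lc_e_rc_24_2 lc_e_rc_4_3) (@D3.rec (fun _ => (Cert rels S Gen.e)) lc_e_rc_4_3 lc_e_rc_10_3 lc_e_rc_24_2 lc_e_Cert_tree lc_e_rc_22_0 lc_e_Cert_tree lc_e_rc_22_0 lc_e_rc_24_2 lc_e_rc_24_2 lc_e_rc_10_1 lc_e_rc_4_1 lc_e_rc_15_1 lc_e_rc_23_2 lc_e_rc_10_1 lc_e_rc_4_1 lc_e_rc_23_0 lc_e_rc_23_2 lc_e_rc_24_0 lc_e_rc_4_3 lc_e_rc_4_1 lc_e_rc_10_1 lc_e_rc_4_1 lc_e_rc_24_0 lc_e_rc_4_3 lc_e_rc_24_2 lc_e_rc_4_1 lc_e_rc_23_0 lc_e_rc_23_2 lc_e_Cert_tree lc_e_rc_22_0 lc_e_Cert_tree lc_e_rc_22_0 lc_e_rc_23_2 lc_e_rc_23_2 lc_e_rc_10_1 lc_e_rc_4_1 lc_e_rc_15_1 lc_e_rc_24_2 lc_e_rc_10_1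 lc_e_rc_4_1) (@D3.rec (fun _ => (Cert rels S Gen.e)) lc_e_rc_19_3 lc_e_rc_24_2 lc_e_rc_4_1 lc_e_rc_24_0 lc_e_rc_4_1 lc_e_rc_10_1 lc_e_rc_19_3 lc_e_rc_4_1 lc_e_rc_19_3 lc_e_rc_4_1 lc_e_rc_24_0 lc_e_rc_24_2 lc_e_rc_22_0 lc_e_rc_4_3 lc_e_rc_10_1 lc_e_rc_10_1 lc_e_rc_10_1 lc_e_rc_4_1 lc_e_rc_24_0 lc_e_rc_4_1 lc_e_rc_22_0 lc_e_rc_4_3 lc_e_rc_24_2 lc_e_rc_24_0 lc_e_rc_4_1 lc_e_rc_4_1 lc_e_rc_24_2 lc_e_rc_10_1 lc_e_rc_4_1 lc_e_rc_4_1 lc_e_rc_22_0 lc_e_rc_24_2 lc_e_rc_24_2 lc_e_rc_19_3 lc_e_rc_4_1 lc_e_rc_15_1 lc_e_rc_23_2 lc_e_rc_4_1 lc_e_Cert_tree lc_e_rc_23_2) (@D3.rec (fun _ => (Cert rels S Gen.e)) lc_e_rc_4_3 lc_e_rc_24_2 lc_e_rc_10_1 lc_e_rc_23_2 lc_e_rc_4_1 lc_e_rc_10_1 lc_e_rc_4_1 lc_e_rc_15_1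 lc_e_rc_24_2 lc_e_rc_15_1 lc_e_rc_24_2 lc_e_rc_10_1 lc_e_Cert_tree lc_e_Cert_tree lc_e_rc_22_0 lc_e_rc_23_2 lc_e_rc_10_1 lc_e_rc_4_1 lc_e_rc_19_3 lc_e_rc_24_2 lc_e_rc_15_1 lc_e_Cert_tree lc_e_rc_23_2 lc_e_rc_24_2 lc_e_rc_23_2 lc_e_rc_24_2 lc_e_Cert_tree lc_e_rc_22_0 lc_e_rc_23_2 lc_e_rc_10_1 lc_e_Cert_tree lc_e_rc_22_0 lc_e_rc_23_2 lc_e_rc_23_2 lc_e_rc_24_2 lc_e_rc_10_1 lc_e_rc_15_1 lc_e_rc_23_2 lc_e_rc_10_1 lc_e_rc_24_2) (@D3.rec (fun _ => (Cert rels S Gen.e)) lc_e_rc_22_0 lc_e_rc_23_2 lc_e_rc_23_2 lc_e_rc_23_2 lc_e_rc_4_1 lc_e_rc_15_1 lc_e_rc_24_2 lc_e_Cert_tree lc_e_rc_24_2 lc_e_rc_4_3 lc_e_rc_23_2 lc_e_rc_10_1 lc_e_rc_24_2 lc_e_rc_24_2 lc_e_rc_10_1 lc_e_rc_4_1 lc_e_rc_15_1 lc_e_rc_23_2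 lc_e_rc_15_1 lc_e_rc_23_2 lc_e_rc_10_1 lc_e_Cert_tree lc_e_Cert_tree lc_e_rc_22_0 lc_e_rc_24_2 lc_e_rc_10_1 lc_e_rc_4_1 lc_e_rc_24_0 lc_e_rc_23_2 lc_e_rc_15_1 lc_e_Cert_tree lc_e_rc_23_2 lc_e_rc_24_2 lc_e_rc_23_2 lc_e_rc_24_2 lc_e_Cert_tree lc_e_rc_22_0 lc_e_rc_24_2 lc_e_rc_10_1 lc_e_Cert_tree) (@D3.rec (fun _ => (Cert rels S Gen.e)) lc_e_rc_22_0 lc_e_rc_24_2 lc_e_rc_24_2 lc_e_rc_4_3 lc_e_rc_10_1 lc_e_rc_15_1 lc_e_rc_24_2 lc_e_rc_10_1 lc_e_Cert_tree lc_e_rc_4_1 lc_e_rc_4_1 lc_e_Cert_tree lc_e_rc_22_0 lc_e_rc_4_3 lc_e_rc_24_2 lc_e_rc_23_2 lc_e_Cert_tree lc_e_rc_22_0 lc_e_rc_23_2 lc_e_rc_24_2 lc_e_rc_10_1 lc_e_rc_23_2 lc_e_rc_4_1 lc_e_rc_4_1 lc_e_Cert_tree lc_e_rc_22_0 lc_e_rc_19_3 lc_e_rc_4_3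 lc_e_rc_24_2 lc_e_Cert_tree lc_e_rc_22_0 lc_e_rc_23_2 lc_e_rc_24_2 lc_e_rc_19_1 lc_e_rc_23_2 lc_e_rc_23_0 lc_e_Cert_tree lc_e_rc_23_2 lc_e_Cert_tree lc_e_rc_22_0) (@D3.rec (fun _ => (Cert rels S Gen.e)) lc_e_rc_23_2 lc_e_rc_24_2 lc_e_rc_19_1 lc_e_rc_23_2 lc_e_rc_23_0 lc_e_Cert_tree lc_e_Cert_tree lc_e_rc_22_0 lc_e_rc_23_2 lc_e_rc_10_1 lc_e_rc_23_2 lc_e_rc_22_0 lc_e_rc_10_1 lc_e_rc_4_3 lc_e_rc_22_0 lc_e_rc_10_1 lc_e_rc_23_2 lc_e_rc_4_1 lc_e_rc_23_2 lc_e_rc_10_1 lc_e_rc_10_1 lc_e_rc_10_1 lc_e_rc_24_2 lc_e_rc_10_1 lc_e_rc_4_1 lc_e_rc_4_3 lc_e_rc_4_1 lc_e_Cert_tree lc_e_rc_23_2 lc_e_rc_23_2 lc_e_rc_22_0 lc_e_rc_24_2 lc_e_rc_10_1 lc_e_rc_10_3 lc_e_rc_22_0 lc_e_rc_4_1 lc_e_rc_23_2 lc_e_rc_4_1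 lc_e_rc_10_1 lc_e_rc_10_1) (@D3.rec (fun _ => (Cert rels S Gen.e)) lc_e_rc_24_2 lc_e_rc_4_1 lc_e_rc_23_2 lc_e_rc_10_1 lc_e_rc_10_1 lc_e_rc_10_1 lc_e_rc_4_3 lc_e_rc_4_1 lc_e_Cert_tree lc_e_rc_24_2 lc_e_rc_4_1 lc_e_rc_22_0 lc_e_rc_4_3 lc_e_rc_10_1 lc_e_rc_19_1 lc_e_rc_24_2 lc_e_rc_24_2 lc_e_rc_23_2 lc_e_rc_10_1 lc_e_rc_4_1 lc_e_rc_10_1 lc_e_rc_4_1 lc_e_rc_10_1 lc_e_rc_4_1 lc_e_rc_10_1 lc_e_rc_4_1 lc_e_rc_10_1 lc_e_rc_10_1 lc_e_rc_15_1 lc_e_rc_10_1 lc_e_Cert_tree lc_e_rc_22_0 lc_e_rc_10_1 lc_e_rc_10_1 lc_e_Cert_tree lc_e_rc_4_1 lc_e_Cert_tree lc_e_rc_10_1 lc_e_rc_24_2 lc_e_rc_22_0) (@D3.rec (fun _ => (Cert rels S Gen.e)) lc_e_rc_23_2 lc_e_rc_10_1 lc_e_rc_22_0 lc_e_rc_23_2 lc_e_rc_23_2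 lc_e_rc_10_1 lc_e_rc_10_1 lc_e_rc_4_1 lc_e_rc_10_1 lc_e_Cert_tree lc_e_rc_22_0 lc_e_rc_10_1 lc_e_rc_10_1 lc_e_Cert_tree lc_e_rc_4_1 lc_e_Cert_tree lc_e_rc_23_2 lc_e_rc_24_2 lc_e_rc_22_0 lc_e_rc_24_2 lc_e_rc_10_1 lc_e_rc_22_0 lc_e_rc_24_2 lc_e_rc_24_2 lc_e_rc_10_1 lc_e_rc_4_1 lc_e_rc_23_2 lc_e_rc_15_3 lc_e_rc_4_1 lc_e_rc_4_1 lc_e_rc_24_2 lc_e_rc_19_1 lc_e_rc_22_0 lc_e_rc_23_2 lc_e_rc_4_3 lc_e_rc_19_3 lc_e_rc_10_1 lc_e_rc_10_1 lc_e_rc_4_1 lc_e_rc_4_1) (@D3.rec (fun _ => (Cert rels S Gen.e)) lc_e_rc_24_2 lc_e_rc_23_2 lc_e_rc_15_1 lc_e_rc_4_1 lc_e_rc_24_2 lc_e_rc_4_1 lc_e_rc_4_3 lc_e_rc_23_2 lc_e_rc_24_2 lc_e_Cert_tree lc_e_rc_22_0 lc_e_Cert_tree lc_e_rc_22_0 lc_e_rc_23_2 lc_e_rc_23_2 lc_e_rc_10_1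 lc_e_Cert_tree lc_e_rc_23_2 lc_e_rc_22_0 lc_e_rc_24_2 lc_e_rc_4_1 lc_e_rc_19_1 lc_e_rc_4_1 lc_e_rc_4_1 lc_e_Cert_tree lc_e_rc_22_0 lc_e_rc_15_3 lc_e_rc_24_2 lc_e_rc_4_3 lc_e_rc_22_0 lc_e_rc_23_2 lc_e_Cert_tree lc_e_Cert_tree lc_e_rc_22_0 lc_e_rc_24_2 lc_e_rc_22_0 lc_e_rc_19_3 lc_e_rc_24_2 lc_e_rc_4_1 lc_e_rc_15_1) (@D3.rec (fun _ => (Cert rels S Gen.e)) lc_e_rc_23_2 lc_e_rc_23_2 lc_e_rc_4_1 lc_e_rc_24_2 lc_e_rc_10_1 lc_e_rc_4_1 lc_e_rc_4_1 lc_e_rc_23_2 lc_e_rc_10_1 lc_e_rc_22_0 lc_e_rc_24_2 lc_e_rc_10_1 lc_e_rc_23_2 lc_e_rc_10_1 lc_e_rc_10_1 lc_e_rc_4_1 lc_e_rc_4_1 lc_e_rc_24_2 lc_e_rc_15_1 lc_e_rc_23_2 lc_e_rc_4_1 lc_e_rc_4_1 lc_e_rc_24_2 lc_e_Cert_tree lc_e_rc_22_0 lc_e_Cert_tree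 lc_e_rc_22_0 lc_e_rc_24_2 lc_e_rc_24_2 lc_e_Cert_tree lc_e_rc_24_2 lc_e_rc_22_0 lc_e_rc_23_2 lc_e_rc_4_1 lc_e_rc_19_1 lc_e_rc_4_1 lc_e_rc_4_1 lc_e_Cert_tree lc_e_rc_22_0 lc_e_rc_23_2) (@D3.rec (fun _ => (Cert rels S Gen.e)) lc_e_rc_22_0 lc_e_rc_24_2 lc_e_Cert_tree lc_e_Cert_tree lc_e_rc_22_0 lc_e_rc_23_2 lc_e_rc_22_0 lc_e_rc_19_3 lc_e_rc_4_1 lc_e_rc_4_1 lc_e_rc_15_1 lc_e_rc_24_2 lc_e_rc_24_2 lc_e_rc_4_3 lc_e_rc_23_2 lc_e_rc_10_1 lc_e_rc_10_1 lc_e_Cert_tree lc_e_rc_22_0 lc_e_rc_23_2 lc_e_rc_23_2 lc_e_rc_23_2 lc_e_rc_24_2 lc_e_rc_23_2 lc_e_rc_24_2 lc_e_rc_10_1 lc_e_Cert_tree lc_e_rc_22_0 lc_e_rc_4_3 lc_e_rc_24_2 lc_e_rc_23_2 lc_e_rc_24_2 lc_e_rc_24_2 lc_e_rc_22_0 lc_e_rc_24_2 lc_e_rc_19_3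 lc_e_rc_24_2 lc_e_rc_10_1 lc_e_rc_24_2 lc_e_rc_4_1) (@D3.rec (fun _ => (Cert rels S Gen.e)) lc_e_rc_10_1 lc_e_Cert_tree lc_e_rc_10_1 lc_e_rc_32_77 lc_e_Cert_tree lc_e_rc_22_0 lc_e_rc_23_2 lc_e_Cert_tree lc_e_rc_22_0 lc_e_rc_24_2 lc_e_rc_23_2 lc_e_rc_24_2 lc_e_rc_24_2 lc_e_rc_10_1 lc_e_rc_22_0 lc_e_rc_23_2 lc_e_rc_19_3 lc_e_rc_23_2 lc_e_rc_10_1 lc_e_rc_23_2 lc_e_rc_15_1 lc_e_rc_10_1 lc_e_Cert_tree lc_e_rc_24_2 lc_e_rc_10_1 lc_e_Cert_tree lc_e_rc_22_0 lc_e_rc_24_2 lc_e_Cert_tree lc_e_rc_22_0 lc_e_rc_23_2 lc_e_rc_23_2 lc_e_rc_24_2 lc_e_rc_23_2 lc_e_rc_10_1 lc_e_Cert_tree lc_e_rc_15_1 lc_e_Cert_tree lc_e_rc_15_1 lc_e_Cert_tree) (@D3.rec (fun _ => (Cert rels S Gen.e)) lc_e_rc_24_2 lc_e_rc_4_3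 lc_e_rc_4_3 lc_e_Cert_tree lc_e_rc_4_1 lc_e_rc_24_0 lc_e_rc_4_3 lc_e_rc_19_3 lc_e_rc_19_3 lc_e_rc_23_2 lc_e_rc_10_1 lc_e_rc_24_2 lc_e_rc_10_1 lc_e_rc_4_1 lc_e_rc_4_1 lc_e_Cert_tree lc_e_rc_24_2 lc_e_rc_4_1 lc_e_rc_4_1 lc_e_Cert_tree lc_e_rc_23_2 lc_e_Cert_tree lc_e_rc_4_1 lc_e_rc_22_0 lc_e_rc_24_2 lc_e_rc_10_1 lc_e_rc_4_1 lc_e_Cert_tree lc_e_rc_4_1 lc_e_rc_22_0 lc_e_rc_23_2 lc_e_rc_10_1 lc_e_rc_24_2 lc_e_rc_10_1 lc_e_Cert_tree lc_e_rc_10_1 lc_e_Cert_tree lc_e_rc_24_2 lc_e_rc_10_1 lc_e_rc_4_1) (@D3.rec (fun _ => (Cert rels S Gen.e)) lc_e_Cert_tree lc_e_rc_23_2 lc_e_rc_10_1 lc_e_rc_4_1 lc_e_Cert_tree lc_e_rc_4_3 lc_e_rc_23_2 lc_e_rc_24_2 lc_e_rc_24_2 lc_e_rc_4_1 lc_e_rc_22_0 lc_e_rc_23_2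 lc_e_rc_4_1 lc_e_rc_4_1 lc_e_Cert_tree lc_e_rc_23_2 lc_e_rc_15_1 lc_e_rc_10_1 lc_e_Cert_tree lc_e_rc_24_0 lc_e_rc_23_0 lc_e_rc_22_0 lc_e_rc_23_2 lc_e_rc_10_1 lc_e_rc_24_2 lc_e_rc_4_3 lc_e_rc_23_2 lc_e_rc_24_2 lc_e_rc_24_2 lc_e_rc_4_1 lc_e_rc_22_0 lc_e_rc_10_1 lc_e_rc_24_2 lc_e_rc_4_1 lc_e_Cert_tree lc_e_rc_24_2 lc_e_rc_24_0 lc_e_rc_10_1 lc_e_Cert_tree lc_e_rc_4_1) (@D3.rec (fun _ => (Cert rels S Gen.e)) lc_e_rc_10_1 lc_e_rc_22_0 lc_e_rc_24_2 lc_e_rc_10_1 lc_e_rc_4_1 lc_e_rc_19_3 lc_e_rc_19_3 lc_e_rc_24_2 lc_e_rc_4_3 lc_e_rc_22_0 lc_e_rc_32_25 lc_e_rc_24_2 lc_e_rc_24_2 lc_e_rc_10_1 lc_e_rc_4_1 lc_e_rc_10_3 lc_e_rc_4_1 lc_e_rc_22_1 lc_e_rc_22_0 lc_e_rc_23_2 lc_e_rc_24_2 lc_e_rc_24_2 lc_e_Cert_tree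 lc_e_rc_22_0 lc_e_rc_19_3 lc_e_rc_23_0 lc_e_rc_22_0 lc_e_rc_24_2 lc_e_rc_10_3 lc_e_rc_19_3 lc_e_rc_24_2 lc_e_rc_10_1 lc_e_rc_10_1 lc_e_rc_4_1 lc_e_rc_15_1 lc_e_rc_19_3 lc_e_rc_10_1 lc_e_rc_4_1 lc_e_rc_24_0 lc_e_rc_23_2) (@D3.rec (fun _ => (Cert rels S Gen.e)) lc_e_rc_24_2 lc_e_rc_4_1 lc_e_rc_10_1 lc_e_rc_10_1 lc_e_rc_10_1 lc_e_rc_19_3 lc_e_rc_10_1 lc_e_rc_10_1 lc_e_Cert_tree lc_e_rc_4_1 lc_e_rc_23_2 lc_e_rc_24_2 lc_e_rc_23_0 lc_e_rc_4_3 lc_e_rc_10_1 lc_e_rc_23_0 lc_e_rc_15_3 lc_e_rc_23_2 lc_e_rc_19_3 lc_e_rc_10_1 lc_e_rc_10_1 lc_e_rc_19_3 lc_e_rc_23_2 lc_e_rc_19_1 lc_e_rc_22_0 lc_e_rc_23_2 lc_e_rc_32_25 lc_e_rc_10_1 lc_e_rc_24_2 lc_e_rc_4_1 lc_e_rc_24_2 lc_e_rc_4_1 lc_e_rc_19_1 lc_e_rc_22_0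 lc_e_rc_23_2 lc_e_rc_32_25 lc_e_rc_23_2 lc_e_Cert_tree lc_e_rc_22_0 lc_e_rc_4_3) (@D3.rec (fun _ => (Cert rels S Gen.e)) lc_e_rc_15_1 lc_e_rc_22_0 lc_e_rc_23_2 lc_e_rc_23_2 lc_e_rc_19_3 lc_e_rc_23_2 lc_e_rc_10_1 lc_e_rc_10_1 lc_e_rc_4_1 lc_e_rc_15_1 lc_e_rc_19_3 lc_e_rc_10_1 lc_e_rc_4_1 lc_e_rc_4_1 lc_e_rc_24_2 lc_e_rc_4_1 lc_e_rc_24_0 lc_e_rc_10_1 lc_e_rc_10_1 lc_e_rc_10_1 lc_e_rc_15_3 lc_e_rc_10_1 lc_e_rc_10_1 lc_e_rc_4_3 lc_e_rc_4_1 lc_e_rc_23_2 lc_e_rc_24_2 lc_e_rc_10_1 lc_e_rc_10_1 lc_e_rc_10_1 lc_e_rc_10_3 lc_e_rc_10_1 lc_e_rc_24_2 lc_e_rc_19_3 lc_e_rc_10_1 lc_e_rc_24_2 lc_e_rc_4_1 lc_e_rc_10_1 lc_e_rc_4_1 lc_e_Cert_tree) (@D3.rec (fun _ => (Cert rels S Gen.e)) lc_e_rc_23_2 lc_e_rc_23_2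 lc_e_rc_22_0 lc_e_rc_23_2 lc_e_rc_24_2 lc_e_rc_19_3 lc_e_rc_24_2 lc_e_rc_10_1 lc_e_rc_10_1 lc_e_rc_15_1 lc_e_rc_23_2 lc_e_rc_15_3 lc_e_rc_23_2 lc_e_rc_4_1 lc_e_rc_10_1 lc_e_rc_24_2 lc_e_rc_4_1 lc_e_rc_23_2 lc_e_rc_4_1 lc_e_rc_10_1 lc_e_rc_4_1 lc_e_Cert_tree lc_e_rc_24_2 lc_e_rc_4_3 lc_e_rc_22_0 lc_e_rc_23_2 lc_e_rc_4_1 lc_e_rc_19_3 lc_e_rc_23_2 lc_e_rc_10_1 lc_e_rc_10_1 lc_e_rc_15_1 lc_e_rc_24_2 lc_e_rc_19_3 lc_e_rc_24_2 lc_e_rc_4_1 lc_e_rc_10_1 lc_e_rc_23_2 lc_e_rc_24_2 lc_e_rc_10_1) (@D3.rec (fun _ => (Cert rels S Gen.e)) lc_e_rc_23_2 lc_e_rc_19_3 lc_e_rc_22_0 lc_e_rc_15_1 lc_e_rc_24_2 lc_e_rc_19_3 lc_e_rc_24_2 lc_e_rc_10_1 lc_e_rc_10_1 lc_e_rc_4_1 lc_e_rc_15_1 lc_e_rc_23_2 lc_e_rc_10_1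 lc_e_rc_4_1 lc_e_rc_15_1 lc_e_rc_19_3 lc_e_rc_24_2 lc_e_rc_10_1 lc_e_rc_10_3 lc_e_rc_24_2 lc_e_rc_10_1 lc_e_rc_23_2 lc_e_rc_4_1 lc_e_rc_15_1 lc_e_rc_23_2 lc_e_rc_4_1 lc_e_rc_15_1 lc_e_rc_10_1 lc_e_rc_10_1 lc_e_rc_4_1 lc_e_Cert_tree lc_e_rc_4_3 lc_e_rc_23_2 lc_e_rc_4_1 lc_e_rc_15_1 lc_e_rc_24_2 lc_e_rc_4_1 lc_e_rc_23_2 lc_e_rc_4_1 lc_e_rc_15_1) (@D3.rec (fun _ => (Cert rels S Gen.e)) lc_e_rc_24_2 lc_e_rc_10_1 lc_e_rc_4_1 lc_e_rc_4_1 lc_e_rc_24_2 lc_e_rc_4_1 lc_e_rc_10_1 lc_e_rc_10_1 lc_e_rc_10_1 lc_e_rc_24_2 lc_e_rc_15_1 lc_e_rc_22_0 lc_e_rc_23_2 lc_e_rc_19_3 lc_e_rc_19_3 lc_e_rc_23_2 lc_e_rc_10_1 lc_e_rc_10_1 lc_e_rc_4_1 lc_e_rc_10_3 lc_e_rc_23_2 lc_e_rc_10_1 lc_e_rc_4_1 lc_e_rc_15_1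 lc_e_rc_19_3 lc_e_rc_23_2 lc_e_rc_10_1 lc_e_rc_15_1 lc_e_rc_23_2 lc_e_rc_10_1 lc_e_rc_24_2 lc_e_rc_4_1 lc_e_rc_15_1 lc_e_rc_24_2 lc_e_rc_4_1 lc_e_rc_15_1 lc_e_rc_10_1 lc_e_rc_10_1 lc_e_rc_4_1 lc_e_Cert_tree) (@D3.rec (fun _ => (Cert rels S Gen.e)) lc_e_rc_4_3 lc_e_rc_24_2 lc_e_rc_4_1 lc_e_rc_4_1 lc_e_rc_23_2 lc_e_rc_4_1 lc_e_rc_24_2 lc_e_rc_4_1 lc_e_rc_15_1 lc_e_rc_23_2 lc_e_rc_10_1 lc_e_rc_4_1 lc_e_rc_24_0 lc_e_rc_23_2 lc_e_rc_24_2 lc_e_rc_10_1 lc_e_rc_10_1 lc_e_rc_24_2 lc_e_rc_24_2 lc_e_rc_19_5 lc_e_Cert_tree lc_e_rc_22_0 lc_e_rc_4_3 lc_e_rc_24_2 lc_e_rc_23_2 lc_e_rc_24_2 lc_e_rc_10_1 lc_e_rc_24_2 lc_e_rc_4_1 lc_e_rc_22_0 lc_e_rc_24_2 lc_e_rc_19_3 lc_e_rc_24_2 lc_e_rc_24_2 lc_e_rc_10_1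 lc_e_rc_23_2 lc_e_rc_24_2 lc_e_rc_24_0 lc_e_rc_10_1 lc_e_rc_10_1)
def ce_e_14 : D2 → D3 → (Cert rels S Gen.e) := @D2.rec (fun _ => D3 → (Cert rels S Gen.e)) (@D3.rec (fun _ => (Cert rels S Gen.e)) lc_e_rc_4_1 lc_e_rc_10_1 lc_e_rc_4_1 lc_e_rc_24_2 lc_e_rc_23_2 lc_e_rc_24_2 lc_e_rc_10_1 lc_e_rc_10_1 lc_e_rc_4_1 lc_e_Cert_tree lc_e_rc_23_2 lc_e_rc_24_2 lc_e_rc_15_1 lc_e_rc_23_2 lc_e_rc_24_2 lc_e_rc_10_1 lc_e_Cert_tree lc_e_rc_4_1 lc_e_Cert_tree lc_e_rc_22_0 lc_e_rc_23_2 lc_e_rc_10_1 lc_e_rc_24_2 lc_e_rc_10_1 lc_e_rc_24_2 lc_e_rc_4_1 lc_e_rc_15_1 lc_e_rc_23_2 lc_e_rc_23_2 lc_e_rc_23_2 lc_e_rc_10_3 lc_e_Cert_tree lc_e_rc_22_0 lc_e_rc_23_2 lc_e_rc_10_3 lc_e_rc_23_2 lc_e_rc_24_2 lc_e_rc_10_1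 lc_e_rc_4_1 lc_e_rc_23_2) (@D3.rec (fun _ => (Cert rels S Gen.e)) lc_e_rc_22_0 lc_e_rc_23_2 lc_e_rc_15_1 lc_e_rc_23_2 lc_e_rc_10_1 lc_e_rc_24_2 lc_e_rc_23_2 lc_e_rc_24_2 lc_e_rc_24_0 lc_e_rc_10_1 lc_e_rc_10_1 lc_e_rc_10_1 lc_e_rc_4_1 lc_e_rc_23_2 lc_e_rc_4_1 lc_e_rc_23_2 lc_e_rc_24_2 lc_e_rc_10_1 lc_e_rc_10_1 lc_e_rc_4_1 lc_e_Cert_tree lc_e_rc_24_2 lc_e_rc_23_2 lc_e_rc_15_1 lc_e_rc_23_2 lc_e_rc_24_2 lc_e_rc_10_1 lc_e_rc_15_1 lc_e_rc_22_0 lc_e_rc_24_2 lc_e_rc_10_1 lc_e_rc_23_2 lc_e_rc_10_1 lc_e_rc_23_2 lc_e_rc_4_1 lc_e_rc_15_1 lc_e_rc_24_2 lc_e_rc_24_2 lc_e_rc_19_3 lc_e_rc_22_0) (@D3.rec (fun _ => (Cert rels S Gen.e)) lc_e_rc_4_3 lc_e_rc_24_2 lc_e_rc_24_2 lc_e_rc_19_3 lc_e_rc_10_1 lc_e_rc_4_1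 lc_e_rc_23_2 lc_e_rc_22_0 lc_e_rc_15_1 lc_e_rc_24_2 lc_e_rc_19_3 lc_e_rc_23_2 lc_e_rc_24_2 lc_e_rc_4_3 lc_e_rc_24_2 lc_e_rc_10_1 lc_e_rc_4_3 lc_e_rc_24_2 lc_e_rc_4_1 lc_e_rc_24_2 lc_e_rc_10_1 lc_e_rc_4_1 lc_e_rc_23_2 lc_e_rc_4_1 lc_e_rc_10_1 lc_e_rc_24_2 lc_e_rc_4_1 lc_e_rc_19_3 lc_e_rc_22_0 lc_e_rc_23_2 lc_e_rc_4_3 lc_e_rc_23_2 lc_e_rc_19_3 lc_e_rc_19_3 lc_e_rc_4_1 lc_e_rc_24_2 lc_e_rc_22_0 lc_e_rc_23_2 lc_e_rc_23_0 lc_e_rc_4_1) (@D3.rec (fun _ => (Cert rels S Gen.e)) lc_e_rc_23_2 lc_e_rc_24_2 lc_e_rc_10_1 lc_e_rc_24_2 lc_e_rc_15_1 lc_e_rc_4_3 lc_e_rc_24_2 lc_e_rc_24_0 lc_e_rc_10_1 lc_e_rc_15_1 lc_e_rc_4_1 lc_e_rc_24_2 lc_e_rc_4_1 lc_e_rc_4_1 lc_e_rc_24_2 lc_e_rc_22_0 lc_e_rc_24_2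 lc_e_rc_22_0 lc_e_rc_23_2 lc_e_rc_23_2 lc_e_rc_24_2 lc_e_rc_24_2 lc_e_rc_10_1 lc_e_rc_24_2 lc_e_rc_10_1 lc_e_rc_22_0 lc_e_rc_24_2 lc_e_rc_24_2 lc_e_rc_24_2 lc_e_rc_4_1 lc_e_rc_10_1 lc_e_rc_24_2 lc_e_rc_23_2 lc_e_rc_15_1 lc_e_rc_10_1 lc_e_rc_4_1 lc_e_rc_23_2 lc_e_rc_24_2 lc_e_rc_15_3 lc_e_rc_23_2) (@D3.rec (fun _ => (Cert rels S Gen.e)) lc_e_rc_23_2 lc_e_rc_10_1 lc_e_rc_23_2 lc_e_rc_10_1 lc_e_rc_22_0 lc_e_rc_4_3 lc_e_rc_24_0 lc_e_rc_23_2 lc_e_rc_4_1 lc_e_rc_10_1 lc_e_rc_15_1 lc_e_rc_24_2 lc_e_rc_15_1 lc_e_rc_10_1 lc_e_rc_4_1 lc_e_rc_24_2 lc_e_rc_23_2 lc_e_rc_15_3 lc_e_rc_24_2 lc_e_rc_15_1 lc_e_rc_4_1 lc_e_rc_15_1 lc_e_rc_23_2 lc_e_rc_4_1 lc_e_rc_4_1 lc_e_rc_15_1 lc_e_rc_10_3 lc_e_rc_15_1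 lc_e_rc_10_1 lc_e_rc_4_1 lc_e_rc_24_2 lc_e_rc_10_1 lc_e_rc_24_0 lc_e_rc_24_2 lc_e_rc_10_1 lc_e_rc_4_1 lc_e_rc_23_0 lc_e_rc_19_3 lc_e_rc_4_3 lc_e_rc_10_1) (@D3.rec (fun _ => (Cert rels S Gen.e)) lc_e_rc_15_1 lc_e_rc_4_1 lc_e_rc_15_1 lc_e_rc_24_2 lc_e_rc_4_1 lc_e_rc_4_1 lc_e_rc_15_1 lc_e_rc_15_1 lc_e_rc_23_2 lc_e_rc_10_1 lc_e_rc_4_1 lc_e_rc_23_2 lc_e_rc_10_1 lc_e_rc_4_1 lc_e_rc_23_2 lc_e_rc_10_1 lc_e_rc_24_2 lc_e_rc_4_1 lc_e_rc_10_1 lc_e_rc_24_2 lc_e_rc_10_1 lc_e_rc_24_2 lc_e_rc_10_1 lc_e_rc_10_1 lc_e_rc_4_1 lc_e_rc_10_1 lc_e_rc_4_1 lc_e_rc_23_2 lc_e_rc_10_1 lc_e_rc_19_1 lc_e_rc_4_1 lc_e_rc_15_1 lc_e_rc_23_2 lc_e_rc_10_1 lc_e_rc_15_1 lc_e_rc_24_2 lc_e_rc_24_2 lc_e_rc_4_3 lc_e_rc_15_1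 lc_e_rc_23_2) (@D3.rec (fun _ => (Cert rels S Gen.e)) lc_e_rc_24_2 lc_e_rc_4_1 lc_e_rc_4_1 lc_e_rc_24_2 lc_e_rc_24_2 lc_e_rc_15_1 lc_e_rc_24_2 lc_e_rc_10_1 lc_e_rc_4_1 lc_e_rc_10_1 lc_e_rc_19_3 lc_e_rc_23_2 lc_e_rc_4_1 lc_e_rc_24_2 lc_e_rc_23_2 lc_e_rc_23_2 lc_e_rc_10_1 lc_e_rc_10_1 lc_e_rc_23_2 lc_e_rc_4_1 lc_e_rc_24_2 lc_e_rc_10_1 lc_e_rc_10_1 lc_e_rc_4_1 lc_e_rc_4_1 lc_e_rc_10_1 lc_e_rc_15_1 lc_e_rc_23_2 lc_e_rc_24_2 lc_e_rc_4_3 lc_e_rc_15_1 lc_e_rc_24_2 lc_e_rc_23_2 lc_e_rc_4_1 lc_e_rc_4_1 lc_e_rc_23_2 lc_e_rc_23_2 lc_e_rc_15_1 lc_e_rc_23_2 lc_e_rc_4_1) (@D3.rec (fun _ => (Cert rels S Gen.e)) lc_e_rc_4_1 lc_e_rc_23_2 lc_e_rc_24_2 lc_e_rc_24_2 lc_e_rc_19_3 lc_e_rc_15_1 lc_e_rc_24_2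 lc_e_rc_10_1 lc_e_rc_10_1 lc_e_rc_15_1 lc_e_rc_4_1 lc_e_rc_23_2 lc_e_rc_10_1 lc_e_Cert_tree lc_e_Cert_tree lc_e_rc_22_0 lc_e_rc_19_1 lc_e_rc_10_1 lc_e_rc_19_1 lc_e_rc_15_1 lc_e_rc_4_3 lc_e_rc_4_1 lc_e_rc_22_0 lc_e_Cert_tree lc_e_rc_22_0 lc_e_rc_19_1 lc_e_Cert_tree lc_e_Cert_tree lc_e_rc_22_0 lc_e_rc_23_2 lc_e_rc_23_2 lc_e_rc_24_2 lc_e_Cert_tree lc_e_rc_22_0 lc_e_rc_24_2 lc_e_rc_22_0 lc_e_rc_23_2 lc_e_rc_23_2 lc_e_rc_10_1 lc_e_rc_15_1) (@D3.rec (fun _ => (Cert rels S Gen.e)) lc_e_rc_10_1 lc_e_rc_15_1 lc_e_rc_4_1 lc_e_rc_24_2 lc_e_rc_10_1 lc_e_Cert_tree lc_e_Cert_tree lc_e_rc_22_0 lc_e_rc_19_1 lc_e_rc_10_1 lc_e_rc_15_1 lc_e_rc_19_3 lc_e_rc_4_1 lc_e_rc_22_0 lc_e_Cert_tree lc_e_rc_22_0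 lc_e_Cert_tree lc_e_rc_22_0 lc_e_rc_24_2 lc_e_rc_24_2 lc_e_rc_23_2 lc_e_rc_24_2 lc_e_rc_10_1 lc_e_rc_10_1 lc_e_rc_10_1 lc_e_rc_24_2 lc_e_rc_24_2 lc_e_rc_10_1 lc_e_rc_15_1 lc_e_rc_15_1 lc_e_rc_10_1 lc_e_Cert_tree lc_e_rc_10_1 lc_e_rc_23_2 lc_e_rc_15_1 lc_e_rc_10_1 lc_e_rc_10_1 lc_e_rc_15_1 lc_e_rc_10_1 lc_e_rc_10_1) (@D3.rec (fun _ => (Cert rels S Gen.e)) lc_e_rc_10_1 lc_e_rc_10_1 lc_e_rc_15_1 lc_e_rc_24_2 lc_e_rc_22_0 lc_e_rc_4_1 lc_e_rc_10_1 lc_e_rc_4_1 lc_e_rc_22_0 lc_e_rc_10_1 lc_e_rc_15_1 lc_e_Cert_tree lc_e_rc_32_25 lc_e_rc_24_2 lc_e_rc_22_0 lc_e_rc_10_3 lc_e_rc_10_1 lc_e_rc_10_1 lc_e_rc_24_2 lc_e_rc_15_1 lc_e_rc_22_0 lc_e_rc_22_0 lc_e_rc_23_2 lc_e_rc_4_1 lc_e_rc_15_1 lc_e_rc_24_2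 lc_e_rc_15_1 lc_e_rc_10_1 lc_e_rc_10_1 lc_e_rc_4_1 lc_e_rc_10_1 lc_e_rc_10_1 lc_e_rc_10_1 lc_e_rc_23_2 lc_e_rc_23_2 lc_e_rc_10_1 lc_e_rc_15_1 lc_e_rc_10_1 lc_e_Cert_tree lc_e_rc_23_2) (@D3.rec (fun _ => (Cert rels S Gen.e)) lc_e_rc_24_2 lc_e_rc_15_1 lc_e_rc_10_1 lc_e_rc_10_1 lc_e_rc_32_25 lc_e_rc_24_2 lc_e_rc_10_1 lc_e_rc_10_1 lc_e_rc_10_1 lc_e_rc_10_1 lc_e_rc_15_1 lc_e_rc_23_2 lc_e_rc_22_0 lc_e_rc_10_1 lc_e_rc_10_1 lc_e_rc_4_1 lc_e_rc_22_0 lc_e_rc_23_2 lc_e_rc_4_1 lc_e_Cert_tree lc_e_rc_10_3 lc_e_rc_24_2 lc_e_rc_22_0 lc_e_rc_4_3 lc_e_rc_15_1 lc_e_rc_23_2 lc_e_rc_23_2 lc_e_rc_15_1 lc_e_rc_22_0 lc_e_rc_10_1 lc_e_rc_24_2 lc_e_rc_4_1 lc_e_rc_15_1 lc_e_rc_23_2 lc_e_rc_15_1 lc_e_rc_10_1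 lc_e_rc_10_1 lc_e_rc_10_1 lc_e_rc_23_2 lc_e_rc_10_1) (@D3.rec (fun _ => (Cert rels S Gen.e)) lc_e_rc_23_2 lc_e_rc_15_1 lc_e_rc_23_2 lc_e_rc_10_1 lc_e_rc_4_3 lc_e_rc_23_2 lc_e_rc_15_1 lc_e_rc_4_1 lc_e_rc_4_1 lc_e_Cert_tree lc_e_rc_23_2 lc_e_rc_10_1 lc_e_rc_24_2 lc_e_rc_10_1 lc_e_rc_15_1 lc_e_rc_24_2 lc_e_rc_19_1 lc_e_rc_10_1 lc_e_rc_15_1 lc_e_rc_23_2 lc_e_rc_24_2 lc_e_Cert_tree lc_e_rc_4_1 lc_e_rc_19_3 lc_e_rc_22_0 lc_e_rc_24_2 lc_e_rc_10_1 lc_e_rc_19_3 lc_e_rc_22_0 lc_e_rc_23_2 lc_e_rc_10_1 lc_e_rc_19_3 lc_e_rc_4_1 lc_e_rc_4_1 lc_e_rc_10_1 lc_e_rc_15_1 lc_e_rc_19_1 lc_e_rc_22_0 lc_e_rc_24_2 lc_e_rc_10_1) (@D3.rec (fun _ => (Cert rels S Gen.e)) lc_e_rc_4_3 lc_e_rc_23_2 lc_e_rc_19_3 lc_e_rc_4_1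 lc_e_rc_4_1 lc_e_rc_4_1 lc_e_rc_10_1 lc_e_rc_19_3 lc_e_rc_24_2 lc_e_rc_22_0 lc_e_rc_23_2 lc_e_rc_10_1 lc_e_rc_24_2 lc_e_rc_24_2 lc_e_rc_23_0 lc_e_rc_4_1 lc_e_rc_4_1 lc_e_rc_24_2 lc_e_Cert_tree lc_e_Cert_tree lc_e_rc_22_0 lc_e_rc_23_2 lc_e_rc_10_1 lc_e_Cert_tree lc_e_Cert_tree lc_e_rc_22_0 lc_e_rc_24_2 lc_e_rc_32_25 lc_e_rc_10_1 lc_e_rc_10_1 lc_e_rc_4_3 lc_e_rc_4_1 lc_e_rc_15_1 lc_e_rc_32_51 lc_e_rc_4_1 lc_e_rc_15_1 lc_e_rc_24_2 lc_e_rc_4_1 lc_e_Cert_tree lc_e_rc_4_1) (@D3.rec (fun _ => (Cert rels S Gen.e)) lc_e_rc_22_0 lc_e_rc_24_2 lc_e_rc_24_2 lc_e_Cert_tree lc_e_rc_4_1 lc_e_rc_22_0 lc_e_rc_23_2 lc_e_rc_23_2 lc_e_rc_22_0 lc_e_rc_24_2 lc_e_rc_10_1 lc_e_rc_24_2 lc_e_rc_24_2 lc_e_rc_10_1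 lc_e_rc_24_2 lc_e_rc_4_1 lc_e_rc_23_2 lc_e_rc_10_1 lc_e_rc_22_0 lc_e_rc_23_2 lc_e_rc_10_1 lc_e_rc_23_2 lc_e_rc_23_2 lc_e_rc_10_1 lc_e_rc_23_2 lc_e_rc_4_1 lc_e_rc_24_2 lc_e_rc_10_1 lc_e_rc_24_2 lc_e_rc_24_2 lc_e_rc_15_1 lc_e_rc_19_1 lc_e_rc_24_2 lc_e_rc_19_1 lc_e_rc_24_2 lc_e_rc_10_1 lc_e_rc_23_2 lc_e_rc_23_2 lc_e_rc_10_1 lc_e_rc_10_1) (@D3.rec (fun _ => (Cert rels S Gen.e)) lc_e_rc_23_2 lc_e_rc_23_2 lc_e_rc_10_1 lc_e_rc_19_1 lc_e_rc_4_3 lc_e_rc_19_1 lc_e_rc_4_1 lc_e_rc_10_1 lc_e_rc_24_2 lc_e_rc_24_2 lc_e_rc_4_3 lc_e_rc_23_2 lc_e_rc_10_1 lc_e_rc_10_1 lc_e_Cert_tree lc_e_rc_4_1 lc_e_rc_15_1 lc_e_rc_10_1 lc_e_Cert_tree lc_e_Cert_tree lc_e_rc_22_0 lc_e_Cert_tree lc_e_rc_4_1 lc_e_rc_15_1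 lc_e_rc_10_1 lc_e_Cert_tree lc_e_Cert_tree lc_e_rc_22_0 lc_e_rc_24_2 lc_e_rc_10_1 lc_e_rc_4_3 lc_e_rc_4_3 lc_e_rc_22_0 lc_e_rc_4_1 lc_e_rc_23_2 lc_e_rc_4_1 lc_e_rc_4_1 lc_e_rc_10_1 lc_e_Cert_tree lc_e_Cert_tree) (@D3.rec (fun _ => (Cert rels S Gen.e)) lc_e_rc_22_0 lc_e_rc_23_2 lc_e_rc_10_1 lc_e_rc_15_1 lc_e_rc_4_1 lc_e_rc_4_1 lc_e_Cert_tree lc_e_rc_23_2 lc_e_rc_24_2 lc_e_rc_22_0 lc_e_rc_23_2 lc_e_rc_10_1 lc_e_Cert_tree lc_e_rc_22_0 lc_e_rc_23_2 lc_e_rc_23_2 lc_e_rc_10_1 lc_e_rc_24_2 lc_e_rc_4_1 lc_e_rc_24_2 lc_e_rc_10_1 lc_e_rc_4_1 lc_e_rc_10_1 lc_e_rc_24_2 lc_e_rc_4_3 lc_e_rc_4_3 lc_e_rc_19_1 lc_e_rc_24_0 lc_e_rc_19_3 lc_e_rc_24_2 lc_e_rc_4_1 lc_e_rc_10_1 lc_e_Cert_tree lc_e_Cert_tree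 lc_e_rc_22_0 lc_e_rc_24_2 lc_e_rc_10_1 lc_e_rc_10_1 lc_e_rc_4_1 lc_e_rc_4_1) (@D3.rec (fun _ => (Cert rels S Gen.e)) lc_e_Cert_tree lc_e_rc_23_2 lc_e_rc_24_2 lc_e_rc_22_0 lc_e_rc_24_2 lc_e_rc_10_1 lc_e_Cert_tree lc_e_rc_22_0 lc_e_rc_24_2 lc_e_rc_24_2 lc_e_rc_10_1 lc_e_rc_4_3 lc_e_rc_4_1 lc_e_rc_23_2 lc_e_rc_10_1 lc_e_rc_24_2 lc_e_rc_10_1 lc_e_rc_24_2 lc_e_rc_24_2 lc_e_rc_15_1 lc_e_rc_23_2 lc_e_Cert_tree lc_e_rc_4_1 lc_e_Cert_tree lc_e_rc_22_0 lc_e_rc_23_2 lc_e_rc_10_1 lc_e_rc_19_3 lc_e_Cert_tree lc_e_rc_23_2 lc_e_rc_24_2 lc_e_Cert_tree lc_e_rc_22_0 lc_e_rc_10_3 lc_e_Cert_tree lc_e_rc_22_0 lc_e_rc_23_2 lc_e_rc_23_2 lc_e_rc_10_1 lc_e_rc_4_1) (@D3.rec (fun _ => (Cert rels S Gen.e)) lc_e_rc_10_1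 lc_e_rc_24_0 lc_e_rc_4_1 lc_e_rc_15_3 lc_e_rc_22_0 lc_e_rc_23_2 lc_e_rc_23_2 lc_e_rc_23_2 lc_e_rc_10_3 lc_e_rc_22_0 lc_e_rc_23_2 lc_e_rc_23_2 lc_e_rc_10_1 lc_e_rc_4_1 lc_e_rc_24_2 lc_e_rc_22_0 lc_e_rc_23_2 lc_e_rc_4_3 lc_e_rc_23_2 lc_e_rc_10_1 lc_e_rc_24_2 lc_e_rc_10_1 lc_e_rc_24_2 lc_e_rc_15_1 lc_e_rc_24_2 lc_e_rc_10_1 lc_e_rc_24_2 lc_e_rc_4_1 lc_e_rc_10_1 lc_e_rc_10_1 lc_e_rc_4_3 lc_e_rc_4_1 lc_e_rc_15_1 lc_e_rc_24_2 lc_e_Cert_tree lc_e_rc_15_1 lc_e_Cert_tree lc_e_rc_22_0 lc_e_rc_24_2 lc_e_rc_10_1) (@D3.rec (fun _ => (Cert rels S Gen.e)) lc_e_rc_19_3 lc_e_Cert_tree lc_e_rc_23_2 lc_e_rc_24_2 lc_e_Cert_tree lc_e_rc_22_0 lc_e_rc_22_1 lc_e_Cert_tree lc_e_rc_22_0 lc_e_rc_24_2 lc_e_rc_24_2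 lc_e_rc_10_1 lc_e_rc_4_1 lc_e_rc_10_1 lc_e_rc_4_3 lc_e_rc_4_1 lc_e_rc_15_3 lc_e_rc_22_0 lc_e_rc_23_2 lc_e_rc_24_2 lc_e_rc_24_2 lc_e_rc_10_3 lc_e_rc_22_0 lc_e_rc_24_2 lc_e_rc_24_2 lc_e_rc_10_1 lc_e_rc_4_1 lc_e_rc_23_2 lc_e_rc_22_0 lc_e_rc_24_2 lc_e_rc_4_3 lc_e_rc_24_2 lc_e_rc_10_1 lc_e_rc_23_2 lc_e_rc_10_1 lc_e_rc_4_1 lc_e_rc_15_1 lc_e_rc_23_2 lc_e_rc_10_1 lc_e_rc_23_2) (@D3.rec (fun _ => (Cert rels S Gen.e)) lc_e_rc_4_1 lc_e_rc_10_1 lc_e_rc_4_1 lc_e_rc_4_1 lc_e_Cert_tree lc_e_rc_24_0 lc_e_rc_4_1 lc_e_rc_10_1 lc_e_rc_10_3 lc_e_rc_4_1 lc_e_rc_15_1 lc_e_rc_4_1 lc_e_rc_4_1 lc_e_Cert_tree lc_e_rc_10_3 lc_e_Cert_tree lc_e_rc_15_1 lc_e_Cert_tree lc_e_rc_22_0 lc_e_rc_23_2 lc_e_rc_10_1 lc_e_rc_23_2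 lc_e_rc_24_2 lc_e_rc_19_3 lc_e_rc_23_2 lc_e_rc_10_1 lc_e_rc_10_1 lc_e_rc_15_1 lc_e_rc_23_2 lc_e_rc_15_1 lc_e_rc_23_2 lc_e_Cert_tree lc_e_rc_23_2 lc_e_rc_10_3 lc_e_Cert_tree lc_e_rc_22_0 lc_e_rc_23_2 lc_e_rc_23_2 lc_e_rc_23_2 lc_e_rc_4_1) (@D3.rec (fun _ => (Cert rels S Gen.e)) lc_e_rc_23_2 lc_e_Cert_tree lc_e_rc_10_3 lc_e_rc_4_1 lc_e_rc_10_1 lc_e_Cert_tree lc_e_rc_23_2 lc_e_rc_24_2 lc_e_rc_4_1 lc_e_Cert_tree lc_e_rc_23_2 lc_e_rc_24_2 lc_e_rc_22_0 lc_e_Cert_tree lc_e_rc_22_0 lc_e_rc_23_2 lc_e_rc_23_2 lc_e_rc_10_1 lc_e_rc_4_1 lc_e_rc_10_1 lc_e_rc_4_1 lc_e_rc_23_2 lc_e_rc_24_2 lc_e_rc_19_1 lc_e_rc_10_3 lc_e_rc_4_1 lc_e_rc_15_3 lc_e_rc_22_0 lc_e_rc_24_2 lc_e_rc_10_1 lc_e_rc_4_3 lc_e_rc_23_2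 lc_e_rc_10_1 lc_e_Cert_tree lc_e_rc_4_1 lc_e_rc_4_1 lc_e_Cert_tree lc_e_rc_22_0 lc_e_rc_23_2 lc_e_rc_24_2) (@D3.rec (fun _ => (Cert rels S Gen.e)) lc_e_rc_23_2 lc_e_rc_24_2 lc_e_rc_4_3 lc_e_rc_23_2 lc_e_rc_10_1 lc_e_rc_4_1 lc_e_rc_10_1 lc_e_rc_24_2 lc_e_Cert_tree lc_e_Cert_tree lc_e_rc_22_0 lc_e_rc_23_2 lc_e_rc_24_2 lc_e_rc_19_3 lc_e_rc_23_2 lc_e_rc_10_1 lc_e_rc_24_2 lc_e_rc_10_1 lc_e_rc_24_2 lc_e_rc_15_1 lc_e_rc_24_2 lc_e_rc_10_1 lc_e_rc_24_2 lc_e_rc_4_1 lc_e_rc_10_1 lc_e_rc_4_1 lc_e_Cert_tree lc_e_rc_23_2 lc_e_rc_4_1 lc_e_Cert_tree lc_e_rc_24_2 lc_e_rc_4_1 lc_e_rc_10_3 lc_e_rc_10_1 lc_e_rc_4_1 lc_e_rc_10_3 lc_e_rc_4_1 lc_e_rc_23_2 lc_e_Cert_tree lc_e_rc_23_2) (@D3.rec (fun _ => (Cert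 rels S Gen.e)) lc_e_Cert_tree lc_e_Cert_tree lc_e_rc_22_0 lc_e_rc_24_2 lc_e_rc_10_1 lc_e_rc_24_2 lc_e_rc_23_2 lc_e_rc_4_1 lc_e_rc_24_2 lc_e_rc_10_1 lc_e_rc_4_1 lc_e_rc_15_1 lc_e_rc_24_2 lc_e_rc_15_1 lc_e_rc_24_2 lc_e_Cert_tree lc_e_rc_24_2 lc_e_rc_10_3 lc_e_Cert_tree lc_e_rc_22_0 lc_e_rc_24_2 lc_e_rc_24_2 lc_e_rc_24_2 lc_e_rc_4_1 lc_e_rc_23_2 lc_e_Cert_tree lc_e_rc_23_2 lc_e_rc_4_1 lc_e_rc_10_1 lc_e_Cert_tree lc_e_rc_23_2 lc_e_rc_24_2 lc_e_rc_4_1 lc_e_Cert_tree lc_e_rc_23_2 lc_e_rc_24_2 lc_e_rc_22_0 lc_e_rc_19_3 lc_e_rc_22_0 lc_e_rc_24_2) (@D3.rec (fun _ => (Cert rels S Gen.e)) lc_e_rc_24_2 lc_e_rc_10_1 lc_e_rc_4_1 lc_e_rc_10_1 lc_e_rc_4_1 lc_e_rc_32_77 lc_e_rc_23_2 lc_e_rc_23_0 lc_e_rc_24_0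 lc_e_rc_24_0 lc_e_rc_24_0 lc_e_rc_22_0 lc_e_rc_23_2 lc_e_rc_10_1 lc_e_rc_24_2 lc_e_rc_24_2 lc_e_rc_10_1 lc_e_Cert_tree lc_e_rc_4_1 lc_e_rc_4_1 lc_e_Cert_tree lc_e_rc_22_0 lc_e_rc_23_2 lc_e_rc_24_2 lc_e_rc_24_2 lc_e_rc_24_2 lc_e_rc_4_1 lc_e_rc_24_2 lc_e_rc_10_1 lc_e_rc_4_1 lc_e_rc_10_1 lc_e_rc_23_2 lc_e_Cert_tree lc_e_Cert_tree lc_e_rc_22_0 lc_e_rc_23_2 lc_e_rc_19_3 lc_e_rc_24_2 lc_e_rc_10_1 lc_e_rc_23_2) (@D3.rec (fun _ => (Cert rels S Gen.e)) lc_e_rc_10_1 lc_e_rc_4_1 lc_e_rc_15_1 lc_e_rc_23_2 lc_e_rc_10_1 lc_e_rc_23_2 lc_e_rc_4_1 lc_e_rc_10_1 lc_e_rc_4_1 lc_e_Cert_tree lc_e_rc_24_2 lc_e_rc_19_3 lc_e_rc_10_1 lc_e_rc_24_2 lc_e_rc_4_1 lc_e_rc_10_1 lc_e_rc_23_2 lc_e_rc_10_1 lc_e_rc_24_2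 lc_e_rc_4_1 lc_e_rc_4_3 lc_e_rc_23_2 lc_e_rc_10_1 lc_e_rc_4_1 lc_e_rc_10_1 lc_e_rc_23_2 lc_e_rc_10_1 lc_e_rc_4_1 lc_e_rc_24_0 lc_e_Cert_tree lc_e_rc_23_2 lc_e_rc_24_2 lc_e_rc_10_1 lc_e_rc_24_2 lc_e_rc_19_3 lc_e_Cert_tree lc_e_Cert_tree lc_e_rc_22_0 lc_e_rc_23_2 lc_e_rc_10_1) (@D3.rec (fun _ => (Cert rels S Gen.e)) lc_e_Cert_tree lc_e_rc_4_1 lc_e_rc_15_1 lc_e_rc_23_2 lc_e_rc_10_1 lc_e_rc_24_2 lc_e_rc_4_1 lc_e_rc_24_2 lc_e_rc_15_1 lc_e_rc_10_1 lc_e_rc_4_1 lc_e_Cert_tree lc_e_rc_4_1 lc_e_rc_23_2 lc_e_rc_23_2 lc_e_rc_23_2 lc_e_rc_10_1 lc_e_rc_19_1 lc_e_rc_4_1 lc_e_rc_10_3 lc_e_rc_15_1 lc_e_rc_10_1 lc_e_Cert_tree lc_e_rc_4_1 lc_e_Cert_tree lc_e_rc_22_0 lc_e_rc_4_3 lc_e_Cert_tree lc_e_rc_19_3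 lc_e_Cert_tree lc_e_rc_22_0 lc_e_rc_23_2 lc_e_rc_10_1 lc_e_Cert_tree lc_e_Cert_tree lc_e_rc_22_0 lc_e_rc_23_2 lc_e_rc_23_2 lc_e_rc_4_3 lc_e_rc_4_1)
def ce_e_15 : D2 → D3 → (Cert rels S Gen.e) := @D2.rec (fun _ => D3 → (Cert rels S Gen.e)) (@D3.rec (fun _ => (Cert rels S Gen.e)) lc_e_rc_24_2 lc_e_rc_10_3 lc_e_rc_10_3 lc_e_rc_15_1 lc_e_rc_24_2 lc_e_rc_24_2 lc_e_rc_23_0 lc_e_rc_10_1 lc_e_rc_4_1 lc_e_rc_10_1 lc_e_rc_15_1 lc_e_rc_10_3 lc_e_rc_10_1 lc_e_rc_23_2 lc_e_rc_4_1 lc_e_rc_15_1 lc_e_rc_4_1 lc_e_rc_15_1 lc_e_rc_23_2 lc_e_rc_23_0 lc_e_rc_4_1 lc_e_rc_10_1 lc_e_rc_4_1 lc_e_rc_4_1 lc_e_rc_19_1 lc_e_rc_15_1 lc_e_rc_10_3 lc_e_rc_4_1 lc_e_rc_10_1 lc_e_rc_24_2 lc_e_rc_4_1 lc_e_rc_10_1 lc_e_rc_4_1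 lc_e_rc_19_1 lc_e_rc_23_2 lc_e_rc_10_1 lc_e_rc_23_2 lc_e_rc_24_2 lc_e_Cert_tree lc_e_rc_4_1) (@D3.rec (fun _ => (Cert rels S Gen.e)) lc_e_Cert_tree lc_e_rc_23_2 lc_e_rc_24_2 lc_e_rc_15_3 lc_e_rc_22_0 lc_e_rc_19_3 lc_e_rc_19_3 lc_e_rc_10_1 lc_e_Cert_tree lc_e_rc_4_1 lc_e_rc_15_3 lc_e_rc_22_0 lc_e_rc_23_2 lc_e_rc_24_2 lc_e_rc_24_2 lc_e_rc_10_3 lc_e_rc_22_0 lc_e_Cert_tree lc_e_Cert_tree lc_e_rc_22_0 lc_e_rc_23_2 lc_e_rc_24_2 lc_e_rc_22_0 lc_e_rc_19_3 lc_e_rc_23_2 lc_e_rc_10_1 lc_e_rc_10_1 lc_e_rc_4_1 lc_e_rc_15_1 lc_e_rc_24_2 lc_e_rc_10_1 lc_e_rc_4_1 lc_e_rc_4_1 lc_e_rc_19_3 lc_e_rc_24_2 lc_e_rc_23_2 lc_e_rc_10_1 lc_e_rc_19_3 lc_e_rc_10_1 lc_e_rc_15_3) (@D3.rec (fun _ => (Cert rels S Gen.e))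 lc_e_rc_22_0 lc_e_rc_23_2 lc_e_rc_10_1 lc_e_rc_10_3 lc_e_rc_15_3 lc_e_rc_24_2 lc_e_rc_10_1 lc_e_rc_4_1 lc_e_rc_23_2 lc_e_rc_10_1 lc_e_rc_19_3 lc_e_rc_23_2 lc_e_rc_24_2 lc_e_rc_23_2 lc_e_rc_23_2 lc_e_rc_10_1 lc_e_rc_10_1 lc_e_rc_19_3 lc_e_rc_4_1 lc_e_rc_22_0 lc_e_rc_19_3 lc_e_rc_19_3 lc_e_rc_10_1 lc_e_rc_24_2 lc_e_rc_10_1 lc_e_rc_23_2 lc_e_rc_10_1 lc_e_rc_23_0 lc_e_rc_4_1 lc_e_rc_10_1 lc_e_rc_24_2 lc_e_Cert_tree lc_e_Cert_tree lc_e_rc_4_1 lc_e_rc_22_0 lc_e_rc_23_2 lc_e_rc_24_2 lc_e_rc_10_1 lc_e_Cert_tree lc_e_rc_22_0) (@D3.rec (fun _ => (Cert rels S Gen.e)) lc_e_rc_23_2 lc_e_rc_24_2 lc_e_rc_23_2 lc_e_rc_24_2 lc_e_rc_10_1 lc_e_rc_24_2 lc_e_rc_24_2 lc_e_rc_24_2 lc_e_Cert_tree lc_e_rc_22_0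 lc_e_rc_23_2 lc_e_rc_24_2 lc_e_rc_19_3 lc_e_rc_23_2 lc_e_rc_10_1 lc_e_rc_4_1 lc_e_rc_10_3 lc_e_rc_23_0 lc_e_rc_4_1 lc_e_Cert_tree lc_e_rc_22_0 lc_e_Cert_tree lc_e_Cert_tree lc_e_rc_22_0 lc_e_rc_4_3 lc_e_rc_24_2 lc_e_Cert_tree lc_e_rc_22_0 lc_e_rc_23_2 lc_e_rc_24_2 lc_e_rc_19_3 lc_e_rc_23_2 lc_e_rc_24_2 lc_e_rc_10_1 lc_e_rc_24_2 lc_e_rc_4_3 lc_e_rc_19_3 lc_e_rc_23_2 lc_e_rc_10_1 lc_e_rc_15_1) (@D3.rec (fun _ => (Cert rels S Gen.e)) lc_e_rc_23_2 lc_e_rc_10_1 lc_e_rc_24_2 lc_e_rc_4_3 lc_e_rc_23_2 lc_e_rc_10_1 lc_e_rc_4_1 lc_e_rc_15_1 lc_e_rc_23_2 lc_e_rc_4_1 lc_e_rc_4_1 lc_e_rc_23_2 lc_e_rc_24_2 lc_e_rc_10_1 lc_e_rc_4_1 lc_e_rc_4_3 lc_e_rc_10_1 lc_e_rc_4_1 lc_e_rc_4_1 lc_e_rc_10_1 lc_e_rc_4_1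 lc_e_rc_4_3 lc_e_rc_24_2 lc_e_rc_10_1 lc_e_rc_23_2 lc_e_rc_10_1 lc_e_rc_4_1 lc_e_rc_4_1 lc_e_Cert_tree lc_e_rc_24_2 lc_e_rc_23_2 lc_e_rc_23_2 lc_e_rc_4_1 lc_e_rc_10_1 lc_e_rc_24_2 lc_e_Cert_tree lc_e_Cert_tree lc_e_rc_22_0 lc_e_rc_24_2 lc_e_rc_10_1) (@D3.rec (fun _ => (Cert rels S Gen.e)) lc_e_rc_24_2 lc_e_rc_4_1 lc_e_rc_15_1 lc_e_rc_24_2 lc_e_rc_10_1 lc_e_rc_4_1 lc_e_rc_23_2 lc_e_rc_23_2 lc_e_rc_10_1 lc_e_rc_4_1 lc_e_Cert_tree lc_e_rc_15_1 lc_e_rc_4_1 lc_e_rc_24_2 lc_e_rc_23_0 lc_e_rc_23_0 lc_e_rc_10_1 lc_e_rc_19_1 lc_e_rc_4_1 lc_e_rc_15_1 lc_e_rc_15_1 lc_e_rc_10_1 lc_e_Cert_tree lc_e_rc_4_1 lc_e_Cert_tree lc_e_rc_22_0 lc_e_rc_4_3 lc_e_Cert_tree lc_e_rc_19_3 lc_e_Cert_tree lc_e_rc_22_0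 lc_e_Cert_tree lc_e_Cert_tree lc_e_rc_22_0 lc_e_rc_24_2 lc_e_rc_24_2 lc_e_rc_4_3 lc_e_rc_4_1 lc_e_rc_23_2 lc_e_rc_23_2) (@D3.rec (fun _ => (Cert rels S Gen.e)) lc_e_rc_23_0 lc_e_rc_15_1 lc_e_rc_23_0 lc_e_rc_4_1 lc_e_rc_4_3 lc_e_rc_4_1 lc_e_rc_10_1 lc_e_rc_24_2 lc_e_rc_4_1 lc_e_rc_15_1 lc_e_rc_4_1 lc_e_rc_15_1 lc_e_rc_24_0 lc_e_rc_24_2 lc_e_rc_4_1 lc_e_rc_10_1 lc_e_rc_4_1 lc_e_rc_24_0 lc_e_rc_10_1 lc_e_rc_23_2 lc_e_rc_4_3 lc_e_rc_4_1 lc_e_rc_10_1 lc_e_rc_10_1 lc_e_rc_4_1 lc_e_rc_10_1 lc_e_rc_4_1 lc_e_rc_19_1 lc_e_rc_24_2 lc_e_rc_10_1 lc_e_rc_24_2 lc_e_rc_10_1 lc_e_rc_23_2 lc_e_rc_4_1 lc_e_Cert_tree lc_e_rc_23_2 lc_e_rc_24_2 lc_e_rc_10_3 lc_e_rc_22_0 lc_e_rc_19_3) (@D3.rec (fun _ => (Cert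 rels S Gen.e)) lc_e_rc_19_3 lc_e_rc_10_1 lc_e_rc_15_1 lc_e_rc_4_1 lc_e_rc_10_3 lc_e_rc_4_3 lc_e_rc_23_2 lc_e_Cert_tree lc_e_Cert_tree lc_e_rc_22_0 lc_e_rc_23_2 lc_e_rc_10_1 lc_e_rc_22_0 lc_e_rc_19_3 lc_e_rc_24_2 lc_e_rc_24_2 lc_e_rc_10_1 lc_e_rc_4_1 lc_e_rc_15_1 lc_e_rc_23_2 lc_e_rc_10_1 lc_e_rc_4_1 lc_e_rc_4_1 lc_e_rc_19_3 lc_e_rc_23_2 lc_e_rc_24_2 lc_e_rc_19_3 lc_e_rc_19_3 lc_e_rc_10_1 lc_e_rc_24_0 lc_e_rc_22_0 lc_e_rc_24_2 lc_e_rc_10_1 lc_e_rc_10_3 lc_e_rc_22_1 lc_e_rc_23_2 lc_e_rc_19_3 lc_e_rc_4_1 lc_e_rc_24_2 lc_e_rc_10_1) (@D3.rec (fun _ => (Cert rels S Gen.e)) lc_e_rc_19_3 lc_e_rc_23_2 lc_e_rc_24_2 lc_e_rc_23_2 lc_e_rc_10_1 lc_e_rc_23_0 lc_e_rc_19_3 lc_e_rc_4_1 lc_e_rc_22_0 lc_e_rc_19_3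 lc_e_rc_19_3 lc_e_rc_10_1 lc_e_rc_10_1 lc_e_rc_15_1 lc_e_rc_23_0 lc_e_rc_24_0 lc_e_rc_4_1 lc_e_Cert_tree lc_e_rc_19_3 lc_e_rc_4_1 lc_e_rc_22_0 lc_e_rc_23_2 lc_e_rc_24_2 lc_e_rc_10_1 lc_e_Cert_tree lc_e_rc_22_0 lc_e_rc_23_2 lc_e_rc_24_2 lc_e_rc_23_2 lc_e_rc_24_2 lc_e_rc_24_2 lc_e_rc_4_1 lc_e_rc_24_2 lc_e_rc_4_1 lc_e_Cert_tree lc_e_rc_22_0 lc_e_rc_23_2 lc_e_rc_19_3 lc_e_rc_24_2 lc_e_rc_10_1) (@D3.rec (fun _ => (Cert rels S Gen.e)) lc_e_rc_4_1 lc_e_rc_23_2 lc_e_rc_10_3 lc_e_rc_24_2 lc_e_Cert_tree lc_e_rc_22_0 lc_e_Cert_tree lc_e_Cert_tree lc_e_rc_22_0 lc_e_rc_23_2 lc_e_rc_4_3 lc_e_Cert_tree lc_e_rc_22_0 lc_e_rc_23_2 lc_e_rc_24_2 lc_e_rc_19_3 lc_e_rc_23_2 lc_e_rc_24_2 lc_e_rc_24_2 lc_e_rc_10_1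 lc_e_rc_24_2 lc_e_rc_19_3 lc_e_rc_24_2 lc_e_rc_10_1 lc_e_rc_15_1 lc_e_rc_24_2 lc_e_rc_10_1 lc_e_rc_23_2 lc_e_rc_10_1 lc_e_rc_24_2 lc_e_rc_10_1 lc_e_rc_4_1 lc_e_rc_15_1 lc_e_rc_24_2 lc_e_rc_4_1 lc_e_rc_4_1 lc_e_rc_24_2 lc_e_rc_23_2 lc_e_rc_10_1 lc_e_rc_10_1) (@D3.rec (fun _ => (Cert rels S Gen.e)) lc_e_rc_10_1 lc_e_rc_10_1 lc_e_rc_10_1 lc_e_rc_23_2 lc_e_rc_4_1 lc_e_rc_23_2 lc_e_Cert_tree lc_e_rc_22_0 lc_e_rc_4_3 lc_e_rc_19_3 lc_e_rc_23_2 lc_e_Cert_tree lc_e_rc_22_0 lc_e_rc_23_2 lc_e_rc_24_2 lc_e_Cert_tree lc_e_rc_23_2 lc_e_rc_22_0 lc_e_rc_23_2 lc_e_rc_24_2 lc_e_rc_23_2 lc_e_rc_24_2 lc_e_rc_4_3 lc_e_rc_24_2 lc_e_Cert_tree lc_e_rc_22_0 lc_e_rc_23_2 lc_e_rc_24_2 lc_e_Cert_tree lc_e_rc_22_0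 lc_e_rc_4_1 lc_e_rc_24_2 lc_e_rc_23_2 lc_e_rc_24_2 lc_e_rc_4_1 lc_e_Cert_tree lc_e_Cert_tree lc_e_rc_22_0 lc_e_rc_23_2 lc_e_rc_24_2) (@D3.rec (fun _ => (Cert rels S Gen.e)) lc_e_rc_23_2 lc_e_rc_24_2 lc_e_rc_4_1 lc_e_rc_10_1 lc_e_rc_15_1 lc_e_Cert_tree lc_e_rc_22_0 lc_e_rc_23_2 lc_e_rc_24_2 lc_e_rc_19_3 lc_e_rc_23_2 lc_e_rc_24_2 lc_e_rc_10_1 lc_e_rc_24_2 lc_e_rc_10_1 lc_e_rc_4_3 lc_e_rc_24_2 lc_e_rc_24_0 lc_e_rc_10_1 lc_e_rc_10_1 lc_e_rc_15_1 lc_e_rc_23_2 lc_e_rc_4_1 lc_e_rc_15_1 lc_e_rc_24_2 lc_e_rc_22_0 lc_e_rc_23_2 lc_e_rc_24_2 lc_e_rc_23_2 lc_e_rc_24_2 lc_e_rc_4_1 lc_e_rc_10_1 lc_e_rc_24_2 lc_e_rc_24_0 lc_e_rc_10_1 lc_e_rc_10_1 lc_e_rc_10_1 lc_e_rc_10_1 lc_e_rc_10_1 lc_e_rc_24_2)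 (@D3.rec (fun _ => (Cert rels S Gen.e)) lc_e_rc_4_1 lc_e_rc_24_2 lc_e_Cert_tree lc_e_rc_22_0 lc_e_rc_19_3 lc_e_rc_4_3 lc_e_rc_24_2 lc_e_Cert_tree lc_e_rc_22_0 lc_e_rc_4_3 lc_e_rc_24_2 lc_e_Cert_tree lc_e_rc_23_0 lc_e_rc_22_0 lc_e_rc_23_2 lc_e_rc_24_2 lc_e_rc_23_2 lc_e_rc_24_2 lc_e_rc_24_2 lc_e_rc_4_3 lc_e_Cert_tree lc_e_rc_22_0 lc_e_rc_23_2 lc_e_rc_24_2 lc_e_Cert_tree lc_e_rc_22_0 lc_e_rc_23_2 lc_e_rc_19_3 lc_e_rc_24_2 lc_e_rc_24_2 lc_e_rc_4_1 lc_e_Cert_tree lc_e_Cert_tree lc_e_rc_22_0 lc_e_rc_23_2 lc_e_rc_24_2 lc_e_rc_23_2 lc_e_rc_24_2 lc_e_rc_10_1 lc_e_rc_4_1) (@D3.rec (fun _ => (Cert rels S Gen.e)) lc_e_rc_15_1 lc_e_Cert_tree lc_e_rc_22_0 lc_e_rc_23_2 lc_e_rc_24_2 lc_e_rc_19_3 lc_e_rc_23_2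 lc_e_rc_24_2 lc_e_rc_10_1 lc_e_rc_24_2 lc_e_rc_24_2 lc_e_rc_4_3 lc_e_rc_24_2 lc_e_rc_24_0 lc_e_rc_10_1 lc_e_rc_10_1 lc_e_rc_4_1 lc_e_rc_15_1 lc_e_rc_23_2 lc_e_rc_15_1 lc_e_rc_24_2 lc_e_rc_22_0 lc_e_rc_23_2 lc_e_rc_24_2 lc_e_rc_23_2 lc_e_rc_24_2 lc_e_rc_10_1 lc_e_rc_19_1 lc_e_rc_24_2 lc_e_rc_24_0 lc_e_rc_10_1 lc_e_rc_10_1 lc_e_rc_4_1 lc_e_rc_10_1 lc_e_rc_15_1 lc_e_rc_15_3 lc_e_rc_15_3 lc_e_rc_19_1 lc_e_rc_4_3 lc_e_rc_23_2) (@D3.rec (fun _ => (Cert rels S Gen.e)) lc_e_rc_23_2 lc_e_Cert_tree lc_e_rc_22_0 lc_e_rc_23_2 lc_e_rc_24_2 lc_e_rc_19_5 lc_e_rc_15_3 lc_e_rc_24_0 lc_e_rc_10_1 lc_e_rc_15_1 lc_e_rc_15_3 lc_e_rc_15_3 lc_e_rc_19_1 lc_e_rc_4_3 lc_e_rc_23_2 lc_e_rc_19_1 lc_e_Cert_tree lc_e_rc_22_0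 lc_e_rc_23_2 lc_e_rc_24_2 lc_e_rc_10_1 lc_e_rc_19_5 lc_e_rc_10_1 lc_e_rc_10_1 lc_e_rc_10_1 lc_e_rc_10_1 lc_e_rc_24_2 lc_e_rc_23_2 lc_e_rc_22_0 lc_e_rc_22_0 lc_e_rc_23_2 lc_e_rc_22_0 lc_e_rc_22_0 lc_e_rc_24_2 lc_e_rc_10_1 lc_e_rc_23_2 lc_e_rc_10_1 lc_e_rc_10_1 lc_e_rc_23_2 lc_e_rc_10_1) (@D3.rec (fun _ => (Cert rels S Gen.e)) lc_e_rc_24_2 lc_e_rc_10_1 lc_e_rc_19_1 lc_e_rc_23_2 lc_e_rc_10_1 lc_e_rc_15_1 lc_e_rc_10_1 lc_e_rc_15_1 lc_e_rc_22_0 lc_e_rc_23_2 lc_e_rc_23_2 lc_e_rc_10_1 lc_e_rc_22_0 lc_e_rc_23_2 lc_e_rc_10_1 lc_e_rc_4_1 lc_e_rc_15_1 lc_e_rc_10_3 lc_e_rc_22_0 lc_e_rc_23_2 lc_e_rc_10_1 lc_e_rc_10_1 lc_e_rc_4_1 lc_e_rc_15_1 lc_e_rc_24_2 lc_e_rc_4_1 lc_e_rc_24_2 lc_e_rc_10_1 lc_e_rc_15_1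 lc_e_rc_19_1 lc_e_rc_24_2 lc_e_rc_4_1 lc_e_rc_15_1 lc_e_rc_10_1 lc_e_rc_4_1 lc_e_rc_19_1 lc_e_rc_10_1 lc_e_rc_4_1 lc_e_rc_22_0 lc_e_rc_23_0) (@D3.rec (fun _ => (Cert rels S Gen.e)) lc_e_rc_24_2 lc_e_rc_10_1 lc_e_rc_22_0 lc_e_rc_24_2 lc_e_rc_10_1 lc_e_rc_4_1 lc_e_rc_15_1 lc_e_rc_10_3 lc_e_rc_22_0 lc_e_rc_24_2 lc_e_rc_10_1 lc_e_rc_10_1 lc_e_rc_4_1 lc_e_rc_15_1 lc_e_rc_23_2 lc_e_rc_4_1 lc_e_rc_23_2 lc_e_rc_10_1 lc_e_rc_19_1 lc_e_rc_23_2 lc_e_rc_4_1 lc_e_rc_15_1 lc_e_rc_10_1 lc_e_rc_4_1 lc_e_rc_22_0 lc_e_rc_4_1 lc_e_rc_4_3 lc_e_rc_4_1 lc_e_rc_15_1 lc_e_rc_23_2 lc_e_rc_10_1 lc_e_rc_19_1 lc_e_rc_4_1 lc_e_rc_15_1 lc_e_rc_23_2 lc_e_rc_24_2 lc_e_rc_15_1 lc_e_rc_19_3 lc_e_rc_22_0 lc_e_rc_23_2)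 (@D3.rec (fun _ => (Cert rels S Gen.e)) lc_e_rc_22_0 lc_e_rc_22_0 lc_e_rc_23_2 lc_e_rc_10_1 lc_e_rc_4_1 lc_e_rc_22_0 lc_e_rc_15_1 lc_e_rc_15_1 lc_e_rc_4_1 lc_e_rc_23_2 lc_e_rc_10_1 lc_e_rc_4_1 lc_e_rc_10_1 lc_e_rc_10_1 lc_e_rc_4_1 lc_e_rc_24_2 lc_e_rc_23_2 lc_e_rc_15_1 lc_e_Cert_tree lc_e_rc_4_3 lc_e_rc_10_1 lc_e_rc_4_3 lc_e_rc_22_0 lc_e_rc_23_2 lc_e_Cert_tree lc_e_rc_22_0 lc_e_rc_23_2 lc_e_rc_24_0 lc_e_rc_15_1 lc_e_rc_23_2 lc_e_rc_23_2 lc_e_rc_10_1 lc_e_rc_4_1 lc_e_rc_15_1 lc_e_rc_23_2 lc_e_rc_24_2 lc_e_rc_4_1 lc_e_rc_23_2 lc_e_rc_4_1 lc_e_rc_4_1) (@D3.rec (fun _ => (Cert rels S Gen.e)) lc_e_rc_24_2 lc_e_rc_15_1 lc_e_rc_4_1 lc_e_rc_23_2 lc_e_Cert_tree lc_e_rc_22_0 lc_e_rc_4_3 lc_e_rc_22_0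 lc_e_rc_24_2 lc_e_rc_10_1 lc_e_Cert_tree lc_e_rc_22_0 lc_e_rc_22_0 lc_e_rc_24_2 lc_e_rc_23_2 lc_e_rc_24_2 lc_e_rc_4_1 lc_e_rc_19_3 lc_e_rc_22_0 lc_e_rc_24_2 lc_e_rc_10_3 lc_e_rc_23_2 lc_e_rc_24_2 lc_e_rc_10_1 lc_e_rc_23_2 lc_e_rc_19_3 lc_e_rc_4_1 lc_e_rc_19_3 lc_e_rc_10_1 lc_e_rc_24_2 lc_e_rc_4_1 lc_e_rc_24_2 lc_e_rc_4_1 lc_e_rc_23_2 lc_e_rc_23_2 lc_e_rc_23_2 lc_e_rc_23_2 lc_e_rc_4_1 lc_e_rc_23_2 lc_e_rc_24_2) (@D3.rec (fun _ => (Cert rels S Gen.e)) lc_e_rc_4_1 lc_e_rc_22_0 lc_e_rc_24_2 lc_e_rc_24_2 lc_e_Cert_tree lc_e_rc_22_0 lc_e_rc_23_2 lc_e_rc_4_1 lc_e_rc_24_2 lc_e_rc_24_2 lc_e_rc_4_1 lc_e_rc_15_1 lc_e_rc_4_1 lc_e_Cert_tree lc_e_rc_22_0 lc_e_rc_23_2 lc_e_rc_24_2 lc_e_rc_19_3 lc_e_rc_23_2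 lc_e_rc_24_2 lc_e_rc_24_2 lc_e_rc_24_2 lc_e_rc_4_3 lc_e_rc_19_3 lc_e_rc_4_3 lc_e_Cert_tree lc_e_rc_22_0 lc_e_rc_23_2 lc_e_rc_24_2 lc_e_Cert_tree lc_e_rc_22_0 lc_e_rc_23_2 lc_e_rc_24_2 lc_e_rc_19_3 lc_e_rc_23_2 lc_e_rc_24_2 lc_e_rc_22_0 lc_e_rc_24_2 lc_e_rc_19_3 lc_e_rc_23_2) (@D3.rec (fun _ => (Cert rels S Gen.e)) lc_e_rc_24_2 lc_e_rc_24_2 lc_e_rc_24_2 lc_e_rc_23_2 lc_e_rc_24_2 lc_e_rc_24_2 lc_e_rc_24_0 lc_e_rc_10_1 lc_e_rc_15_1 lc_e_rc_23_2 lc_e_rc_4_3 lc_e_rc_19_3 lc_e_rc_10_1 lc_e_rc_4_1 lc_e_rc_15_1 lc_e_rc_4_1 lc_e_rc_23_0 lc_e_rc_4_1 lc_e_rc_10_1 lc_e_rc_10_1 lc_e_rc_24_2 lc_e_rc_22_0 lc_e_rc_4_1 lc_e_rc_15_1 lc_e_rc_24_2 lc_e_rc_10_1 lc_e_rc_15_1 lc_e_rc_4_1 lc_e_rc_15_1 lc_e_rc_24_2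 lc_e_rc_23_2 lc_e_rc_15_1 lc_e_rc_19_3 lc_e_rc_22_0 lc_e_rc_24_2 lc_e_rc_22_0 lc_e_rc_22_0 lc_e_rc_24_2 lc_e_rc_10_1 lc_e_rc_4_1) (@D3.rec (fun _ => (Cert rels S Gen.e)) lc_e_rc_4_1 lc_e_rc_15_1 lc_e_rc_4_1 lc_e_rc_24_2 lc_e_rc_4_1 lc_e_rc_10_1 lc_e_rc_10_1 lc_e_rc_4_1 lc_e_rc_23_2 lc_e_rc_23_2 lc_e_rc_15_1 lc_e_Cert_tree lc_e_rc_22_0 lc_e_Cert_tree lc_e_rc_22_0 lc_e_rc_24_2 lc_e_rc_24_0 lc_e_rc_15_1 lc_e_rc_24_2 lc_e_rc_24_2 lc_e_rc_15_1 lc_e_rc_4_1 lc_e_rc_15_1 lc_e_rc_23_2 lc_e_rc_24_2 lc_e_rc_4_1 lc_e_rc_10_3 lc_e_rc_23_2 lc_e_Cert_tree lc_e_rc_22_0 lc_e_rc_22_0 lc_e_rc_10_1 lc_e_Cert_tree lc_e_rc_22_0 lc_e_rc_22_0 lc_e_rc_23_2 lc_e_rc_23_2 lc_e_rc_24_2 lc_e_rc_4_1 lc_e_rc_22_0)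 (@D3.rec (fun _ => (Cert rels S Gen.e)) lc_e_rc_23_2 lc_e_rc_10_1 lc_e_rc_23_2 lc_e_rc_24_2 lc_e_rc_24_2 lc_e_rc_10_1 lc_e_rc_4_1 lc_e_rc_19_3 lc_e_rc_10_1 lc_e_rc_23_2 lc_e_rc_4_1 lc_e_rc_23_2 lc_e_rc_4_1 lc_e_rc_24_2 lc_e_rc_24_2 lc_e_rc_24_2 lc_e_rc_24_2 lc_e_rc_4_1 lc_e_rc_22_0 lc_e_rc_15_1 lc_e_rc_23_2 lc_e_rc_4_1 lc_e_rc_23_2 lc_e_rc_24_2 lc_e_rc_24_0 lc_e_rc_4_3 lc_e_rc_22_0 lc_e_rc_23_2 lc_e_rc_24_2 lc_e_rc_4_1 lc_e_rc_23_2 lc_e_rc_24_2 lc_e_rc_23_2 lc_e_rc_24_2 lc_e_rc_24_2 lc_e_rc_24_0 lc_e_rc_10_1 lc_e_rc_4_3 lc_e_rc_19_3 lc_e_rc_10_1) (@D3.rec (fun _ => (Cert rels S Gen.e)) lc_e_rc_4_1 lc_e_rc_15_1 lc_e_rc_4_1 lc_e_rc_10_1 lc_e_rc_4_1 lc_e_rc_10_1 lc_e_rc_10_1 lc_e_rc_23_2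 lc_e_rc_4_1 lc_e_rc_24_2 lc_e_rc_22_0 lc_e_rc_24_2 lc_e_rc_19_3 lc_e_rc_24_2 lc_e_rc_23_2 lc_e_rc_24_2 lc_e_rc_4_1 lc_e_rc_23_0 lc_e_rc_24_2 lc_e_rc_4_1 lc_e_rc_15_1 lc_e_Cert_tree lc_e_rc_22_0 lc_e_rc_24_2 lc_e_rc_22_0 lc_e_rc_24_2 lc_e_rc_19_3 lc_e_rc_24_2 lc_e_rc_19_3 lc_e_rc_24_2 lc_e_rc_10_1 lc_e_rc_15_1 lc_e_rc_24_2 lc_e_rc_10_1 lc_e_rc_23_2 lc_e_rc_10_1 lc_e_rc_10_1 lc_e_rc_4_1 lc_e_rc_24_2 lc_e_rc_4_1) (@D3.rec (fun _ => (Cert rels S Gen.e)) lc_e_rc_19_1 lc_e_rc_15_1 lc_e_rc_10_1 lc_e_rc_4_1 lc_e_rc_15_1 lc_e_rc_22_0 lc_e_rc_23_2 lc_e_rc_19_3 lc_e_rc_23_2 lc_e_rc_23_2 lc_e_rc_24_2 lc_e_rc_10_1 lc_e_rc_10_1 lc_e_rc_23_2 lc_e_rc_15_1 lc_e_rc_4_3 lc_e_Cert_tree lc_e_rc_22_0 lc_e_rc_23_2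 lc_e_rc_22_0 lc_e_rc_23_2 lc_e_rc_19_3 lc_e_rc_23_2 lc_e_rc_19_3 lc_e_rc_23_2 lc_e_rc_10_1 lc_e_rc_15_1 lc_e_rc_23_2 lc_e_rc_10_1 lc_e_rc_24_2 lc_e_rc_10_1 lc_e_rc_10_1 lc_e_rc_4_1 lc_e_rc_23_2 lc_e_rc_4_1 lc_e_rc_10_1 lc_e_rc_15_1 lc_e_rc_10_1 lc_e_rc_15_1 lc_e_rc_22_0) (@D3.rec (fun _ => (Cert rels S Gen.e)) lc_e_rc_10_1 lc_e_rc_22_0 lc_e_rc_24_2 lc_e_rc_15_3 lc_e_rc_22_0 lc_e_rc_19_3 lc_e_rc_23_2 lc_e_rc_24_2 lc_e_rc_10_1 lc_e_rc_10_1 lc_e_rc_10_1 lc_e_rc_19_3 lc_e_rc_24_2 lc_e_rc_10_1 lc_e_rc_15_1 lc_e_rc_19_3 lc_e_rc_24_2 lc_e_rc_10_1 lc_e_rc_10_3 lc_e_rc_15_1 lc_e_rc_10_1 lc_e_rc_15_1 lc_e_rc_22_0 lc_e_rc_10_1 lc_e_rc_22_0 lc_e_rc_23_2 lc_e_rc_10_3 lc_e_rc_22_0 lc_e_rc_23_0 lc_e_rc_10_1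 lc_e_rc_19_3 lc_e_rc_15_1 lc_e_rc_19_3 lc_e_rc_19_3 lc_e_rc_10_1 lc_e_rc_23_2 lc_e_rc_10_1 lc_e_rc_10_1 lc_e_rc_22_0 lc_e_rc_10_1)
def ce_e_16 : D2 → D3 → (Cert rels S Gen.e) := @D2.rec (fun _ => D3 → (Cert rels S Gen.e)) (@D3.rec (fun _ => (Cert rels S Gen.e)) lc_e_rc_32_25 lc_e_rc_23_2 lc_e_rc_10_1 lc_e_rc_22_0 lc_e_rc_4_1 lc_e_rc_15_1 lc_e_rc_10_1 lc_e_Cert_tree lc_e_rc_4_3 lc_e_rc_22_0 lc_e_rc_22_0 lc_e_rc_15_1 lc_e_rc_22_0 lc_e_rc_23_2 lc_e_rc_4_1 lc_e_Cert_tree lc_e_rc_22_0 lc_e_rc_19_3 lc_e_rc_10_1 lc_e_rc_23_2 lc_e_rc_23_2 lc_e_rc_10_1 lc_e_rc_24_2 lc_e_rc_15_1 lc_e_rc_22_0 lc_e_Cert_tree lc_e_rc_24_2 lc_e_rc_22_0 lc_e_rc_22_0 lc_e_rc_15_1 lc_e_rc_22_0 lc_e_rc_24_2 lc_e_rc_24_2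 lc_e_Cert_tree lc_e_rc_22_0 lc_e_rc_19_3 lc_e_rc_10_1 lc_e_rc_24_2 lc_e_rc_24_2 lc_e_rc_10_1) (@D3.rec (fun _ => (Cert rels S Gen.e)) lc_e_rc_10_1 lc_e_rc_10_1 lc_e_rc_10_1 lc_e_rc_4_1 lc_e_rc_4_1 lc_e_Cert_tree lc_e_rc_24_2 lc_e_rc_10_3 lc_e_rc_10_1 lc_e_rc_4_1 lc_e_rc_4_1 lc_e_Cert_tree lc_e_rc_23_2 lc_e_rc_24_2 lc_e_rc_24_2 lc_e_rc_23_2 lc_e_rc_4_1 lc_e_rc_15_1 lc_e_rc_23_2 lc_e_rc_10_1 lc_e_rc_4_1 lc_e_rc_24_0 lc_e_rc_24_0 lc_e_rc_23_2 lc_e_rc_24_2 lc_e_rc_4_1 lc_e_rc_15_1 lc_e_rc_24_2 lc_e_rc_10_1 lc_e_rc_4_1 lc_e_rc_4_1 lc_e_rc_10_3 lc_e_rc_24_2 lc_e_rc_4_1 lc_e_rc_10_1 lc_e_rc_4_1 lc_e_rc_15_1 lc_e_rc_10_1 lc_e_rc_23_2 lc_e_rc_23_2) (@D3.rec (fun _ => (Cert rels S Gen.e)) lc_e_rc_10_1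 lc_e_rc_4_1 lc_e_rc_24_0 lc_e_rc_10_1 lc_e_rc_24_2 lc_e_rc_4_1 lc_e_rc_15_1 lc_e_rc_4_1 lc_e_rc_15_1 lc_e_rc_24_2 lc_e_rc_15_1 lc_e_rc_4_1 lc_e_rc_15_1 lc_e_rc_23_2 lc_e_rc_4_1 lc_e_rc_19_3 lc_e_rc_4_1 lc_e_rc_4_1 lc_e_rc_19_3 lc_e_rc_24_2 lc_e_rc_4_1 lc_e_rc_23_2 lc_e_rc_4_1 lc_e_rc_24_2 lc_e_rc_10_1 lc_e_rc_10_1 lc_e_rc_24_2 lc_e_rc_23_2 lc_e_rc_15_1 lc_e_rc_23_2 lc_e_rc_24_2 lc_e_rc_15_1 lc_e_rc_10_1 lc_e_rc_4_1 lc_e_rc_15_1 lc_e_rc_23_2 lc_e_rc_4_1 lc_e_rc_23_2 lc_e_rc_24_0 lc_e_rc_24_2) (@D3.rec (fun _ => (Cert rels S Gen.e)) lc_e_rc_10_1 lc_e_rc_4_1 lc_e_rc_15_1 lc_e_rc_24_2 lc_e_rc_4_1 lc_e_rc_24_2 lc_e_rc_4_1 lc_e_rc_4_1 lc_e_rc_23_2 lc_e_rc_4_1 lc_e_rc_19_3 lc_e_rc_23_2 lc_e_rc_4_1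 lc_e_rc_4_1 lc_e_rc_4_1 lc_e_rc_19_3 lc_e_rc_4_1 lc_e_rc_23_2 lc_e_rc_24_2 lc_e_rc_23_2 lc_e_rc_24_2 lc_e_rc_10_1 lc_e_Cert_tree lc_e_rc_10_1 lc_e_rc_23_2 lc_e_rc_15_1 lc_e_rc_23_2 lc_e_rc_10_1 lc_e_rc_22_0 lc_e_Cert_tree lc_e_rc_22_0 lc_e_rc_23_2 lc_e_rc_10_1 lc_e_rc_4_1 lc_e_rc_10_1 lc_e_rc_23_2 lc_e_rc_24_2 lc_e_rc_23_2 lc_e_rc_22_0 lc_e_rc_23_2) (@D3.rec (fun _ => (Cert rels S Gen.e)) lc_e_rc_23_2 lc_e_rc_23_2 lc_e_rc_10_1 lc_e_rc_15_1 lc_e_rc_19_3 lc_e_rc_24_2 lc_e_rc_23_2 lc_e_rc_10_1 lc_e_Cert_tree lc_e_rc_10_1 lc_e_rc_23_2 lc_e_rc_15_1 lc_e_rc_24_2 lc_e_rc_10_1 lc_e_rc_4_3 lc_e_Cert_tree lc_e_rc_22_0 lc_e_rc_23_2 lc_e_rc_10_1 lc_e_rc_4_1 lc_e_rc_10_1 lc_e_rc_23_2 lc_e_rc_24_2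 lc_e_rc_10_1 lc_e_rc_22_0 lc_e_rc_24_2 lc_e_rc_24_2 lc_e_rc_23_2 lc_e_rc_10_1 lc_e_rc_15_1 lc_e_rc_15_1 lc_e_rc_4_1 lc_e_rc_10_1 lc_e_rc_4_1 lc_e_rc_10_3 lc_e_rc_19_3 lc_e_rc_10_1 lc_e_rc_15_1 lc_e_rc_4_1 lc_e_rc_24_2) (@D3.rec (fun _ => (Cert rels S Gen.e)) lc_e_rc_4_1 lc_e_rc_15_1 lc_e_rc_23_2 lc_e_rc_10_1 lc_e_rc_4_1 lc_e_rc_10_1 lc_e_rc_4_1 lc_e_rc_10_1 lc_e_rc_19_1 lc_e_rc_15_1 lc_e_rc_19_1 lc_e_rc_15_1 lc_e_rc_10_1 lc_e_rc_22_0 lc_e_rc_4_1 lc_e_rc_10_3 lc_e_rc_10_3 lc_e_rc_19_1 lc_e_rc_19_1 lc_e_rc_10_1 lc_e_rc_23_2 lc_e_rc_10_1 lc_e_rc_22_0 lc_e_rc_4_1 lc_e_rc_19_5 lc_e_rc_4_1 lc_e_rc_10_1 lc_e_rc_24_2 lc_e_rc_23_0 lc_e_rc_24_2 lc_e_rc_24_2 lc_e_rc_23_2 lc_e_rc_10_3 lc_e_rc_32_51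 lc_e_rc_4_3 lc_e_rc_19_3 lc_e_rc_23_2 lc_e_rc_15_1 lc_e_rc_4_1 lc_e_rc_10_3) (@D3.rec (fun _ => (Cert rels S Gen.e)) lc_e_rc_19_3 lc_e_rc_23_2 lc_e_rc_23_2 lc_e_rc_24_2 lc_e_rc_15_1 lc_e_rc_4_1 lc_e_rc_19_3 lc_e_rc_19_3 lc_e_rc_10_3 lc_e_rc_23_2 lc_e_rc_4_1 lc_e_rc_10_1 lc_e_rc_32_51 lc_e_rc_22_0 lc_e_rc_24_2 lc_e_rc_10_1 lc_e_rc_15_1 lc_e_rc_19_3 lc_e_rc_10_3 lc_e_rc_19_3 lc_e_rc_24_2 lc_e_rc_4_1 lc_e_rc_10_1 lc_e_rc_4_1 lc_e_rc_22_0 lc_e_rc_23_2 lc_e_rc_10_1 lc_e_rc_24_2 lc_e_rc_19_3 lc_e_rc_24_2 lc_e_rc_19_3 lc_e_rc_23_2 lc_e_rc_15_1 lc_e_rc_23_2 lc_e_rc_10_3 lc_e_rc_10_1 lc_e_rc_23_2 lc_e_rc_15_1 lc_e_rc_19_3 lc_e_rc_10_1) (@D3.rec (fun _ => (Cert rels S Gen.e)) lc_e_rc_24_2 lc_e_rc_23_2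 lc_e_rc_24_2 lc_e_rc_4_1 lc_e_rc_23_0 lc_e_rc_15_1 lc_e_rc_23_2 lc_e_rc_24_2 lc_e_rc_24_2 lc_e_rc_15_1 lc_e_rc_19_3 lc_e_rc_10_1 lc_e_rc_4_1 lc_e_rc_24_2 lc_e_rc_4_3 lc_e_rc_24_2 lc_e_rc_10_1 lc_e_rc_4_1 lc_e_rc_15_1 lc_e_rc_23_2 lc_e_rc_4_1 lc_e_rc_24_0 lc_e_rc_23_2 lc_e_rc_24_2 lc_e_rc_15_1 lc_e_rc_15_1 lc_e_rc_15_1 lc_e_rc_19_1 lc_e_rc_23_0 lc_e_rc_23_2 lc_e_rc_10_1 lc_e_rc_10_1 lc_e_rc_4_1 lc_e_rc_15_1 lc_e_rc_24_2 lc_e_rc_4_1 lc_e_rc_4_1 lc_e_rc_24_2 lc_e_rc_4_1 lc_e_rc_24_0) (@D3.rec (fun _ => (Cert rels S Gen.e)) lc_e_rc_15_1 lc_e_rc_15_1 lc_e_rc_19_1 lc_e_rc_23_2 lc_e_rc_24_2 lc_e_rc_10_1 lc_e_rc_4_1 lc_e_rc_19_3 lc_e_rc_24_2 lc_e_rc_24_2 lc_e_rc_4_1 lc_e_Cert_tree lc_e_rc_4_1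 lc_e_rc_4_1 lc_e_rc_15_1 lc_e_rc_23_2 lc_e_rc_4_1 lc_e_rc_4_1 lc_e_rc_10_1 lc_e_rc_24_2 lc_e_rc_4_1 lc_e_rc_4_1 lc_e_Cert_tree lc_e_rc_24_2 lc_e_rc_4_3 lc_e_rc_4_1 lc_e_rc_4_1 lc_e_rc_4_3 lc_e_rc_15_1 lc_e_rc_4_1 lc_e_rc_23_2 lc_e_rc_4_1 lc_e_rc_19_3 lc_e_rc_4_3 lc_e_rc_23_2 lc_e_rc_4_1 lc_e_Cert_tree lc_e_rc_15_1 lc_e_rc_4_1 lc_e_rc_15_1) (@D3.rec (fun _ => (Cert rels S Gen.e)) lc_e_rc_4_1 lc_e_rc_24_2 lc_e_rc_4_1 lc_e_rc_10_1 lc_e_rc_23_2 lc_e_rc_4_1 lc_e_rc_24_0 lc_e_Cert_tree lc_e_rc_23_2 lc_e_rc_24_2 lc_e_rc_4_1 lc_e_rc_4_1 lc_e_rc_24_2 lc_e_rc_15_1 lc_e_rc_4_1 lc_e_rc_24_2 lc_e_rc_22_0 lc_e_rc_10_1 lc_e_rc_19_3 lc_e_rc_10_1 lc_e_rc_24_2 lc_e_rc_22_0 lc_e_rc_24_2 lc_e_rc_15_3 lc_e_rc_19_3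 lc_e_rc_15_1 lc_e_rc_10_1 lc_e_rc_23_2 lc_e_rc_10_1 lc_e_rc_10_3 lc_e_rc_4_1 lc_e_rc_24_2 lc_e_rc_24_2 lc_e_rc_10_1 lc_e_rc_23_2 lc_e_rc_10_1 lc_e_rc_4_1 lc_e_rc_24_2 lc_e_rc_4_1 lc_e_rc_10_1) (@D3.rec (fun _ => (Cert rels S Gen.e)) lc_e_rc_10_1 lc_e_rc_4_1 lc_e_rc_24_0 lc_e_rc_23_2 lc_e_rc_10_1 lc_e_rc_4_1 lc_e_rc_4_1 lc_e_rc_23_2 lc_e_rc_24_2 lc_e_rc_24_2 lc_e_rc_4_1 lc_e_Cert_tree lc_e_rc_22_0 lc_e_rc_24_0 lc_e_rc_10_1 lc_e_rc_4_1 lc_e_rc_15_1 lc_e_rc_23_2 lc_e_rc_10_1 lc_e_rc_10_1 lc_e_rc_4_1 lc_e_rc_4_1 lc_e_rc_23_2 lc_e_rc_23_2 lc_e_rc_4_1 lc_e_rc_15_1 lc_e_rc_19_3 lc_e_rc_4_1 lc_e_rc_23_2 lc_e_Cert_tree lc_e_Cert_tree lc_e_rc_22_0 lc_e_rc_23_2 lc_e_rc_10_1 lc_e_rc_4_1 lc_e_rc_15_1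 lc_e_rc_24_2 lc_e_rc_10_1 lc_e_rc_4_1 lc_e_rc_4_1) (@D3.rec (fun _ => (Cert rels S Gen.e)) lc_e_rc_19_3 lc_e_rc_24_2 lc_e_rc_4_1 lc_e_rc_4_1 lc_e_rc_15_1 lc_e_Cert_tree lc_e_rc_23_2 lc_e_rc_24_2 lc_e_rc_4_1 lc_e_rc_10_1 lc_e_rc_24_2 lc_e_rc_10_1 lc_e_rc_4_1 lc_e_rc_10_1 lc_e_rc_4_1 lc_e_rc_23_2 lc_e_rc_10_1 lc_e_rc_19_3 lc_e_rc_15_1 lc_e_rc_24_2 lc_e_rc_10_1 lc_e_rc_10_1 lc_e_rc_4_1 lc_e_Cert_tree lc_e_Cert_tree lc_e_rc_22_0 lc_e_rc_24_2 lc_e_rc_22_0 lc_e_rc_4_3 lc_e_rc_15_1 lc_e_rc_19_3 lc_e_rc_23_2 lc_e_rc_22_0 lc_e_rc_23_2 lc_e_rc_10_1 lc_e_rc_15_1 lc_e_rc_15_3 lc_e_rc_10_1 lc_e_rc_24_2 lc_e_rc_10_1) (@D3.rec (fun _ => (Cert rels S Gen.e)) lc_e_rc_23_2 lc_e_rc_23_2 lc_e_rc_10_1 lc_e_rc_24_2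 lc_e_rc_19_3 lc_e_rc_4_1 lc_e_rc_23_2 lc_e_rc_24_2 lc_e_rc_10_1 lc_e_rc_10_1 lc_e_rc_10_1 lc_e_rc_4_1 lc_e_rc_4_3 lc_e_rc_10_3 lc_e_rc_10_1 lc_e_rc_4_1 lc_e_rc_19_3 lc_e_rc_24_2 lc_e_rc_4_1 lc_e_rc_19_3 lc_e_Cert_tree lc_e_rc_22_0 lc_e_rc_24_2 lc_e_rc_10_1 lc_e_rc_4_1 lc_e_rc_15_1 lc_e_rc_24_2 lc_e_rc_10_1 lc_e_rc_10_1 lc_e_rc_15_1 lc_e_rc_4_1 lc_e_rc_24_2 lc_e_rc_24_2 lc_e_rc_10_1 lc_e_rc_4_1 lc_e_rc_24_2 lc_e_rc_10_3 lc_e_rc_10_3 lc_e_rc_10_1 lc_e_rc_24_2) (@D3.rec (fun _ => (Cert rels S Gen.e)) lc_e_rc_4_1 lc_e_rc_15_1 lc_e_rc_23_2 lc_e_rc_10_1 lc_e_rc_4_1 lc_e_rc_24_0 lc_e_rc_23_0 lc_e_rc_24_2 lc_e_rc_4_1 lc_e_rc_4_1 lc_e_Cert_tree lc_e_rc_23_2 lc_e_rc_24_2 lc_e_rc_24_0 lc_e_rc_24_0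 lc_e_rc_4_1 lc_e_rc_4_1 lc_e_rc_23_2 lc_e_rc_19_3 lc_e_rc_15_1 lc_e_rc_4_1 lc_e_rc_10_1 lc_e_rc_4_1 lc_e_rc_10_3 lc_e_rc_10_3 lc_e_rc_10_1 lc_e_rc_10_1 lc_e_rc_24_0 lc_e_rc_10_1 lc_e_rc_10_1 lc_e_rc_24_0 lc_e_rc_4_1 lc_e_rc_23_2 lc_e_rc_4_1 lc_e_rc_19_3 lc_e_rc_23_2 lc_e_rc_10_1 lc_e_rc_24_2 lc_e_rc_15_1 lc_e_rc_15_1) (@D3.rec (fun _ => (Cert rels S Gen.e)) lc_e_rc_4_1 lc_e_rc_23_2 lc_e_rc_4_1 lc_e_rc_10_1 lc_e_rc_10_1 lc_e_rc_4_1 lc_e_rc_15_1 lc_e_rc_24_2 lc_e_rc_4_1 lc_e_rc_4_1 lc_e_rc_4_1 lc_e_rc_10_1 lc_e_rc_15_1 lc_e_rc_4_3 lc_e_rc_22_0 lc_e_rc_23_2 lc_e_rc_10_1 lc_e_rc_4_1 lc_e_rc_15_1 lc_e_rc_24_2 lc_e_rc_22_0 lc_e_rc_23_2 lc_e_rc_23_2 lc_e_rc_15_1 lc_e_rc_4_3 lc_e_rc_4_1 lc_e_rc_24_2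 lc_e_rc_10_1 lc_e_rc_23_2 lc_e_rc_10_1 lc_e_rc_10_1 lc_e_rc_4_1 lc_e_rc_22_0 lc_e_rc_19_3 lc_e_rc_23_2 lc_e_rc_22_0 lc_e_rc_23_2 lc_e_rc_24_2 lc_e_rc_19_3 lc_e_rc_23_2) (@D3.rec (fun _ => (Cert rels S Gen.e)) lc_e_rc_24_2 lc_e_Cert_tree lc_e_rc_22_0 lc_e_rc_19_3 lc_e_rc_19_3 lc_e_rc_10_1 lc_e_rc_10_1 lc_e_Cert_tree lc_e_rc_22_0 lc_e_rc_4_3 lc_e_rc_10_3 lc_e_rc_19_3 lc_e_rc_19_3 lc_e_rc_10_1 lc_e_Cert_tree lc_e_rc_22_0 lc_e_rc_23_2 lc_e_rc_15_1 lc_e_rc_23_2 lc_e_rc_24_2 lc_e_rc_15_1 lc_e_rc_10_3 lc_e_rc_10_1 lc_e_rc_10_1 lc_e_rc_10_1 lc_e_rc_23_0 lc_e_rc_10_1 lc_e_rc_4_1 lc_e_rc_24_2 lc_e_rc_4_1 lc_e_rc_19_3 lc_e_rc_24_2 lc_e_rc_24_2 lc_e_rc_4_1 lc_e_rc_15_1 lc_e_rc_4_1 lc_e_rc_24_2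 lc_e_rc_24_2 lc_e_rc_4_1 lc_e_rc_10_1) (@D3.rec (fun _ => (Cert rels S Gen.e)) lc_e_rc_10_1 lc_e_rc_4_1 lc_e_rc_24_2 lc_e_rc_23_2 lc_e_rc_10_1 lc_e_rc_4_1 lc_e_rc_4_1 lc_e_rc_10_1 lc_e_rc_23_2 lc_e_rc_24_2 lc_e_rc_22_0 lc_e_rc_24_2 lc_e_rc_10_1 lc_e_rc_4_1 lc_e_rc_15_1 lc_e_rc_23_2 lc_e_rc_22_0 lc_e_rc_24_2 lc_e_rc_24_2 lc_e_rc_23_0 lc_e_rc_10_1 lc_e_rc_4_1 lc_e_rc_23_2 lc_e_rc_4_1 lc_e_rc_24_2 lc_e_rc_10_1 lc_e_rc_10_1 lc_e_rc_4_1 lc_e_rc_22_0 lc_e_rc_19_3 lc_e_rc_24_2 lc_e_rc_22_0 lc_e_rc_23_2 lc_e_rc_24_2 lc_e_rc_19_3 lc_e_rc_23_2 lc_e_rc_24_2 lc_e_Cert_tree lc_e_rc_22_0 lc_e_rc_19_3) (@D3.rec (fun _ => (Cert rels S Gen.e)) lc_e_rc_10_3 lc_e_rc_10_1 lc_e_rc_10_1 lc_e_Cert_tree lc_e_rc_22_0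 lc_e_rc_24_0 lc_e_rc_4_3 lc_e_rc_19_3 lc_e_rc_19_3 lc_e_rc_10_1 lc_e_Cert_tree lc_e_rc_22_0 lc_e_rc_15_1 lc_e_rc_24_2 lc_e_rc_23_2 lc_e_rc_24_2 lc_e_rc_15_1 lc_e_rc_10_3 lc_e_rc_10_1 lc_e_rc_15_1 lc_e_rc_10_1 lc_e_rc_15_1 lc_e_rc_15_3 lc_e_rc_15_1 lc_e_rc_19_5 lc_e_rc_23_2 lc_e_rc_23_0 lc_e_rc_22_0 lc_e_rc_23_2 lc_e_rc_24_2 lc_e_rc_19_5 lc_e_rc_19_1 lc_e_rc_23_2 lc_e_rc_19_5 lc_e_rc_15_1 lc_e_rc_19_5 lc_e_Cert_tree lc_e_rc_22_0 lc_e_rc_23_2 lc_e_rc_23_2) (@D3.rec (fun _ => (Cert rels S Gen.e)) lc_e_rc_19_5 lc_e_rc_22_0 lc_e_rc_23_2 lc_e_rc_24_2 lc_e_rc_23_2 lc_e_rc_24_2 lc_e_rc_10_1 lc_e_rc_15_1 lc_e_rc_10_1 lc_e_rc_15_1 lc_e_rc_15_1 lc_e_rc_15_3 lc_e_rc_19_5 lc_e_rc_23_2 lc_e_rc_19_5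 lc_e_rc_22_0 lc_e_rc_23_2 lc_e_rc_24_2 lc_e_rc_19_5 lc_e_rc_19_1 lc_e_rc_23_2 lc_e_rc_23_2 lc_e_rc_19_5 lc_e_rc_10_3 lc_e_Cert_tree lc_e_rc_22_0 lc_e_rc_19_5 lc_e_rc_22_0 lc_e_rc_23_2 lc_e_rc_23_2 lc_e_rc_15_1 lc_e_rc_19_1 lc_e_rc_10_1 lc_e_rc_23_2 lc_e_rc_15_1 lc_e_rc_19_1 lc_e_rc_10_1 lc_e_rc_24_2 lc_e_rc_10_1 lc_e_rc_23_2) (@D3.rec (fun _ => (Cert rels S Gen.e)) lc_e_rc_22_1 lc_e_rc_4_1 lc_e_rc_15_1 lc_e_rc_23_2 lc_e_rc_4_1 lc_e_rc_4_1 lc_e_rc_24_2 lc_e_rc_15_1 lc_e_rc_4_1 lc_e_rc_4_3 lc_e_rc_4_3 lc_e_rc_10_1 lc_e_rc_4_1 lc_e_rc_24_2 lc_e_rc_10_1 lc_e_rc_23_2 lc_e_rc_10_1 lc_e_rc_24_2 lc_e_rc_19_5 lc_e_rc_4_1 lc_e_rc_15_1 lc_e_rc_24_2 lc_e_rc_4_1 lc_e_rc_4_1 lc_e_rc_23_2 lc_e_rc_15_1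 lc_e_rc_10_1 lc_e_rc_10_1 lc_e_rc_4_1 lc_e_rc_4_1 lc_e_rc_10_1 lc_e_rc_19_1 lc_e_rc_23_2 lc_e_rc_4_1 lc_e_rc_4_3 lc_e_rc_24_2 lc_e_rc_4_1 lc_e_rc_24_2 lc_e_rc_24_2 lc_e_rc_22_0) (@D3.rec (fun _ => (Cert rels S Gen.e)) lc_e_rc_4_1 lc_e_rc_22_0 lc_e_rc_10_3 lc_e_rc_22_0 lc_e_rc_24_2 lc_e_rc_23_2 lc_e_rc_10_1 lc_e_rc_23_2 lc_e_rc_4_1 lc_e_rc_15_1 lc_e_rc_23_2 lc_e_rc_15_1 lc_e_rc_24_2 lc_e_rc_24_2 lc_e_rc_10_1 lc_e_rc_19_1 lc_e_rc_22_1 lc_e_rc_4_3 lc_e_rc_23_2 lc_e_rc_19_1 lc_e_rc_24_2 lc_e_rc_24_2 lc_e_rc_23_2 lc_e_rc_23_2 lc_e_rc_22_0 lc_e_rc_4_1 lc_e_rc_22_0 lc_e_rc_15_1 lc_e_rc_22_0 lc_e_rc_23_2 lc_e_rc_24_2 lc_e_rc_15_1 lc_e_rc_24_2 lc_e_rc_4_1 lc_e_rc_15_1 lc_e_rc_24_2 lc_e_rc_10_3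 lc_e_rc_23_2 lc_e_rc_23_2 lc_e_rc_10_1) (@D3.rec (fun _ => (Cert rels S Gen.e)) lc_e_Cert_tree lc_e_rc_22_0 lc_e_rc_22_0 lc_e_rc_24_2 lc_e_Cert_tree lc_e_rc_22_0 lc_e_rc_10_1 lc_e_rc_10_1 lc_e_rc_24_2 lc_e_Cert_tree lc_e_rc_22_0 lc_e_rc_22_0 lc_e_rc_23_2 lc_e_Cert_tree lc_e_rc_22_0 lc_e_rc_10_1 lc_e_rc_10_1 lc_e_rc_4_1 lc_e_rc_15_1 lc_e_rc_10_1 lc_e_rc_4_1 lc_e_rc_24_2 lc_e_rc_10_1 lc_e_rc_24_2 lc_e_rc_10_1 lc_e_rc_4_1 lc_e_rc_23_2 lc_e_rc_10_1 lc_e_rc_4_1 lc_e_rc_4_1 lc_e_rc_19_3 lc_e_rc_23_2 lc_e_rc_4_1 lc_e_rc_4_1 lc_e_rc_19_3 lc_e_rc_24_2 lc_e_rc_4_1 lc_e_rc_23_2 lc_e_rc_4_1 lc_e_rc_24_2) (@D3.rec (fun _ => (Cert rels S Gen.e)) lc_e_rc_10_3 lc_e_rc_23_0 lc_e_rc_19_1 lc_e_rc_24_2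 lc_e_rc_15_1 lc_e_rc_19_3 lc_e_rc_23_2 lc_e_rc_4_1 lc_e_rc_19_3 lc_e_rc_23_2 lc_e_rc_4_1 lc_e_rc_4_1 lc_e_rc_19_3 lc_e_rc_24_2 lc_e_rc_4_1 lc_e_rc_4_1 lc_e_rc_19_3 lc_e_rc_24_2 lc_e_rc_23_0 lc_e_rc_4_1 lc_e_rc_19_3 lc_e_rc_15_1 lc_e_rc_24_2 lc_e_rc_23_2 lc_e_rc_24_2 lc_e_rc_19_3 lc_e_rc_23_2 lc_e_rc_24_2 lc_e_rc_4_1 lc_e_rc_23_2 lc_e_rc_19_3 lc_e_rc_24_2 lc_e_rc_23_2 lc_e_rc_24_2 lc_e_rc_15_1 lc_e_rc_15_1 lc_e_rc_10_1 lc_e_rc_15_3 lc_e_rc_10_1 lc_e_rc_10_1) (@D3.rec (fun _ => (Cert rels S Gen.e)) lc_e_rc_23_2 lc_e_rc_24_2 lc_e_rc_15_1 lc_e_rc_24_2 lc_e_Cert_tree lc_e_rc_22_0 lc_e_rc_22_0 lc_e_rc_24_2 lc_e_rc_19_3 lc_e_rc_24_2 lc_e_rc_10_1 lc_e_rc_10_1 lc_e_rc_24_2 lc_e_rc_15_1 lc_e_rc_23_2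 lc_e_rc_4_1 lc_e_rc_4_1 lc_e_rc_19_3 lc_e_rc_10_1 lc_e_rc_24_0 lc_e_rc_10_1 lc_e_Cert_tree lc_e_rc_4_1 lc_e_rc_4_1 lc_e_rc_10_1 lc_e_rc_23_2 lc_e_rc_24_0 lc_e_rc_10_1 lc_e_rc_4_1 lc_e_rc_10_1 lc_e_rc_19_1 lc_e_rc_19_3 lc_e_Cert_tree lc_e_rc_22_0 lc_e_rc_22_0 lc_e_rc_23_2 lc_e_rc_19_3 lc_e_rc_23_2 lc_e_rc_10_1 lc_e_rc_10_1) (@D3.rec (fun _ => (Cert rels S Gen.e)) lc_e_rc_10_1 lc_e_rc_15_1 lc_e_rc_24_2 lc_e_rc_4_1 lc_e_rc_10_1 lc_e_rc_10_1 lc_e_rc_10_1 lc_e_rc_4_1 lc_e_rc_10_1 lc_e_rc_10_3 lc_e_rc_4_1 lc_e_rc_4_1 lc_e_rc_19_3 lc_e_rc_24_2 lc_e_rc_19_3 lc_e_rc_10_1 lc_e_rc_23_2 lc_e_rc_10_1 lc_e_rc_19_3 lc_e_rc_15_1 lc_e_Cert_tree lc_e_rc_10_1 lc_e_rc_19_3 lc_e_rc_4_1 lc_e_Cert_tree lc_e_rc_10_1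 lc_e_rc_4_1 lc_e_rc_23_2 lc_e_rc_19_3 lc_e_rc_24_2 lc_e_rc_10_1 lc_e_rc_4_1 lc_e_rc_15_1 lc_e_rc_23_2 lc_e_rc_4_1 lc_e_rc_4_1 lc_e_rc_19_3 lc_e_rc_24_2 lc_e_rc_22_0 lc_e_rc_10_3) (@D3.rec (fun _ => (Cert rels S Gen.e)) lc_e_rc_15_1 lc_e_rc_19_3 lc_e_rc_10_1 lc_e_rc_23_2 lc_e_rc_4_1 lc_e_rc_23_2 lc_e_rc_10_1 lc_e_rc_10_1 lc_e_rc_4_1 lc_e_rc_10_3 lc_e_rc_24_2 lc_e_rc_4_1 lc_e_rc_4_1 lc_e_rc_19_3 lc_e_rc_24_2 lc_e_rc_23_2 lc_e_rc_15_1 lc_e_rc_4_1 lc_e_rc_24_2 lc_e_rc_4_1 lc_e_rc_10_3 lc_e_rc_23_2 lc_e_rc_24_2 lc_e_Cert_tree lc_e_rc_22_0 lc_e_Cert_tree lc_e_rc_22_0 lc_e_rc_23_2 lc_e_rc_24_2 lc_e_rc_10_1 lc_e_rc_19_3 lc_e_rc_15_1 lc_e_rc_24_2 lc_e_rc_23_2 lc_e_rc_22_0 lc_e_rc_10_3 lc_e_rc_24_2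 lc_e_rc_24_2 lc_e_rc_4_1 lc_e_rc_22_0)
def ce_e_17 : D2 → D3 → (Cert rels S Gen.e) := @D2.rec (fun _ => D3 → (Cert rels S Gen.e)) (@D3.rec (fun _ => (Cert rels S Gen.e)) lc_e_rc_23_2 lc_e_rc_23_2 lc_e_rc_19_3 lc_e_rc_24_2 lc_e_rc_22_0 lc_e_rc_23_2 lc_e_rc_15_3 lc_e_rc_24_0 lc_e_rc_23_2 lc_e_rc_10_1 lc_e_rc_24_2 lc_e_rc_24_2 lc_e_rc_10_1 lc_e_rc_4_1 lc_e_rc_15_1 lc_e_rc_23_2 lc_e_rc_19_3 lc_e_rc_23_2 lc_e_rc_4_1 lc_e_rc_24_2 lc_e_rc_19_3 lc_e_rc_23_2 lc_e_rc_10_1 lc_e_rc_10_3 lc_e_rc_23_2 lc_e_rc_10_3 lc_e_rc_4_1 lc_e_rc_4_1 lc_e_rc_24_0 lc_e_rc_23_2 lc_e_rc_22_0 lc_e_rc_10_3 lc_e_rc_15_1 lc_e_rc_19_3 lc_e_rc_10_1 lc_e_rc_24_2 lc_e_rc_4_1 lc_e_rc_24_2 lc_e_rc_10_1 lc_e_rc_10_1) (@D3.rec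 (fun _ => (Cert rels S Gen.e)) lc_e_rc_23_2 lc_e_rc_4_1 lc_e_rc_4_1 lc_e_rc_23_0 lc_e_rc_24_2 lc_e_rc_15_1 lc_e_rc_4_1 lc_e_rc_23_2 lc_e_rc_4_1 lc_e_rc_10_3 lc_e_rc_15_1 lc_e_rc_24_2 lc_e_Cert_tree lc_e_rc_22_0 lc_e_Cert_tree lc_e_rc_22_0 lc_e_rc_24_2 lc_e_rc_23_2 lc_e_rc_19_3 lc_e_rc_15_1 lc_e_rc_4_3 lc_e_rc_24_2 lc_e_rc_22_0 lc_e_rc_23_2 lc_e_rc_4_1 lc_e_rc_10_1 lc_e_rc_23_2 lc_e_rc_22_0 lc_e_rc_24_2 lc_e_rc_24_2 lc_e_rc_19_3 lc_e_rc_10_1 lc_e_rc_22_0 lc_e_rc_4_3 lc_e_rc_24_2 lc_e_rc_19_3 lc_e_rc_24_2 lc_e_rc_10_1 lc_e_rc_23_2 lc_e_rc_4_1) (@D3.rec (fun _ => (Cert rels S Gen.e)) lc_e_rc_10_1 lc_e_rc_4_1 lc_e_rc_15_1 lc_e_rc_24_2 lc_e_rc_4_1 lc_e_rc_24_2 lc_e_rc_23_2 lc_e_rc_10_1 lc_e_rc_22_0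 lc_e_rc_24_2 lc_e_rc_19_1 lc_e_rc_10_1 lc_e_Cert_tree lc_e_rc_22_0 lc_e_rc_15_1 lc_e_rc_24_2 lc_e_rc_24_2 lc_e_rc_23_2 lc_e_rc_10_1 lc_e_rc_22_0 lc_e_rc_23_2 lc_e_rc_24_2 lc_e_rc_23_2 lc_e_rc_24_2 lc_e_rc_23_2 lc_e_rc_23_2 lc_e_rc_24_2 lc_e_rc_10_1 lc_e_rc_24_2 lc_e_rc_10_1 lc_e_Cert_tree lc_e_rc_22_0 lc_e_rc_4_1 lc_e_rc_15_1 lc_e_rc_4_3 lc_e_rc_22_0 lc_e_rc_23_2 lc_e_rc_24_2 lc_e_rc_23_2 lc_e_rc_24_2) (@D3.rec (fun _ => (Cert rels S Gen.e)) lc_e_rc_15_1 lc_e_rc_10_3 lc_e_rc_19_1 lc_e_rc_23_2 lc_e_rc_19_1 lc_e_rc_15_1 lc_e_rc_19_1 lc_e_rc_10_1 lc_e_rc_22_0 lc_e_rc_23_2 lc_e_rc_23_0 lc_e_Cert_tree lc_e_rc_22_0 lc_e_rc_23_2 lc_e_rc_32_25 lc_e_rc_23_2 lc_e_rc_24_2 lc_e_rc_19_1 lc_e_rc_23_2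 lc_e_rc_23_0 lc_e_rc_19_1 lc_e_rc_19_1 lc_e_rc_10_1 lc_e_rc_22_0 lc_e_Cert_tree lc_e_rc_22_0 lc_e_rc_24_2 lc_e_rc_23_2 lc_e_rc_23_2 lc_e_rc_10_1 lc_e_rc_23_2 lc_e_rc_23_2 lc_e_rc_10_1 lc_e_rc_22_0 lc_e_rc_23_2 lc_e_rc_24_2 lc_e_rc_4_1 lc_e_rc_24_2 lc_e_rc_10_1 lc_e_rc_4_1) (@D3.rec (fun _ => (Cert rels S Gen.e)) lc_e_rc_24_2 lc_e_rc_24_2 lc_e_rc_10_1 lc_e_rc_22_0 lc_e_rc_24_2 lc_e_rc_23_2 lc_e_rc_4_1 lc_e_rc_23_2 lc_e_rc_24_2 lc_e_rc_4_1 lc_e_rc_4_1 lc_e_rc_24_2 lc_e_rc_4_1 lc_e_rc_23_2 lc_e_rc_22_0 lc_e_rc_23_2 lc_e_rc_22_0 lc_e_Cert_tree lc_e_rc_10_1 lc_e_rc_22_0 lc_e_rc_24_2 lc_e_rc_15_1 lc_e_rc_23_2 lc_e_rc_19_3 lc_e_rc_23_2 lc_e_rc_10_1 lc_e_rc_22_0 lc_e_rc_4_1 lc_e_rc_22_0 lc_e_Cert_tree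 lc_e_rc_10_1 lc_e_rc_22_0 lc_e_rc_23_2 lc_e_rc_24_2 lc_e_rc_24_2 lc_e_rc_19_3 lc_e_rc_24_2 lc_e_rc_10_1 lc_e_rc_10_1 lc_e_rc_23_2) (@D3.rec (fun _ => (Cert rels S Gen.e)) lc_e_rc_15_1 lc_e_rc_4_1 lc_e_rc_19_3 lc_e_rc_4_1 lc_e_rc_10_1 lc_e_rc_22_0 lc_e_rc_22_0 lc_e_rc_19_3 lc_e_rc_23_2 lc_e_rc_4_1 lc_e_rc_22_0 lc_e_rc_24_2 lc_e_rc_19_1 lc_e_rc_22_0 lc_e_rc_19_3 lc_e_rc_22_0 lc_e_rc_22_0 lc_e_rc_19_3 lc_e_rc_24_2 lc_e_rc_19_3 lc_e_rc_15_1 lc_e_rc_23_2 lc_e_rc_10_1 lc_e_rc_24_2 lc_e_rc_15_1 lc_e_rc_23_2 lc_e_rc_23_2 lc_e_rc_10_1 lc_e_rc_22_0 lc_e_rc_22_0 lc_e_rc_19_3 lc_e_rc_24_2 lc_e_rc_22_0 lc_e_rc_23_2 lc_e_rc_19_1 lc_e_rc_22_0 lc_e_rc_19_3 lc_e_rc_22_0 lc_e_rc_22_0 lc_e_rc_19_3) (@D3.rec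 (fun _ => (Cert rels S Gen.e)) lc_e_rc_23_2 lc_e_rc_19_3 lc_e_rc_15_1 lc_e_rc_24_2 lc_e_rc_24_2 lc_e_rc_24_2 lc_e_Cert_tree lc_e_rc_22_0 lc_e_rc_23_2 lc_e_Cert_tree lc_e_rc_22_0 lc_e_rc_24_2 lc_e_rc_24_2 lc_e_rc_10_1 lc_e_rc_24_2 lc_e_rc_22_0 lc_e_rc_22_0 lc_e_rc_23_2 lc_e_rc_22_0 lc_e_rc_24_2 lc_e_rc_24_2 lc_e_rc_23_2 lc_e_rc_23_2 lc_e_rc_10_1 lc_e_rc_10_3 lc_e_rc_22_0 lc_e_rc_22_0 lc_e_rc_24_2 lc_e_rc_22_0 lc_e_rc_23_2 lc_e_rc_23_2 lc_e_rc_24_2 lc_e_rc_22_0 lc_e_rc_24_2 lc_e_rc_22_0 lc_e_rc_23_2 lc_e_rc_22_0 lc_e_rc_24_2 lc_e_rc_10_1 lc_e_rc_4_3) (@D3.rec (fun _ => (Cert rels S Gen.e)) lc_e_rc_15_1 lc_e_rc_22_0 lc_e_rc_23_2 lc_e_rc_10_1 lc_e_rc_24_0 lc_e_rc_23_0 lc_e_Cert_tree lc_e_rc_4_1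 lc_e_rc_15_1 lc_e_Cert_tree lc_e_rc_4_1 lc_e_rc_15_1 lc_e_rc_32_51 lc_e_rc_4_1 lc_e_rc_24_2 lc_e_rc_22_0 lc_e_rc_19_3 lc_e_rc_24_2 lc_e_rc_32_51 lc_e_rc_4_1 lc_e_rc_23_2 lc_e_rc_22_0 lc_e_rc_24_2 lc_e_rc_23_2 lc_e_rc_22_0 lc_e_rc_24_2 lc_e_rc_24_2 lc_e_rc_15_1 lc_e_rc_4_3 lc_e_rc_4_1 lc_e_rc_23_2 lc_e_rc_10_1 lc_e_rc_22_0 lc_e_rc_23_2 lc_e_rc_23_2 lc_e_rc_15_1 lc_e_rc_24_2 lc_e_rc_4_1 lc_e_rc_24_2 lc_e_rc_10_1) (@D3.rec (fun _ => (Cert rels S Gen.e)) lc_e_rc_32_51 lc_e_rc_23_2 lc_e_rc_24_2 lc_e_rc_22_0 lc_e_rc_10_3 lc_e_rc_23_2 lc_e_rc_24_2 lc_e_rc_22_0 lc_e_rc_4_1 lc_e_rc_15_1 lc_e_rc_10_1 lc_e_Cert_tree lc_e_rc_24_2 lc_e_rc_22_0 lc_e_rc_4_1 lc_e_rc_15_1 lc_e_rc_10_1 lc_e_Cert_tree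 lc_e_rc_10_1 lc_e_rc_22_0 lc_e_rc_15_1 lc_e_rc_19_3 lc_e_rc_19_3 lc_e_rc_24_2 lc_e_rc_10_1 lc_e_rc_4_1 lc_e_rc_4_1 lc_e_rc_10_1 lc_e_Cert_tree lc_e_rc_10_1 lc_e_rc_22_0 lc_e_rc_23_2 lc_e_rc_10_1 lc_e_rc_15_1 lc_e_rc_19_3 lc_e_rc_4_1 lc_e_rc_15_1 lc_e_rc_23_2 lc_e_rc_24_2 lc_e_rc_22_0) (@D3.rec (fun _ => (Cert rels S Gen.e)) lc_e_rc_24_2 lc_e_rc_10_1 lc_e_rc_19_1 lc_e_rc_23_2 lc_e_rc_15_1 lc_e_rc_24_2 lc_e_rc_4_1 lc_e_rc_24_2 lc_e_rc_10_1 lc_e_rc_15_1 lc_e_rc_19_3 lc_e_rc_19_3 lc_e_rc_10_1 lc_e_rc_24_2 lc_e_rc_4_1 lc_e_rc_24_2 lc_e_rc_10_1 lc_e_Cert_tree lc_e_rc_10_1 lc_e_rc_22_0 lc_e_rc_24_2 lc_e_rc_10_1 lc_e_rc_10_1 lc_e_rc_24_2 lc_e_rc_4_1 lc_e_rc_24_2 lc_e_rc_23_2 lc_e_rc_24_2 lc_e_rc_22_0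 lc_e_rc_15_1 lc_e_rc_10_1 lc_e_rc_19_1 lc_e_rc_24_2 lc_e_rc_15_1 lc_e_rc_4_3 lc_e_rc_4_1 lc_e_rc_23_2 lc_e_rc_10_1 lc_e_rc_19_1 lc_e_rc_24_2) (@D3.rec (fun _ => (Cert rels S Gen.e)) lc_e_rc_10_1 lc_e_rc_32_25 lc_e_rc_15_1 lc_e_rc_4_3 lc_e_rc_24_2 lc_e_rc_4_1 lc_e_rc_10_1 lc_e_rc_24_2 lc_e_rc_24_2 lc_e_rc_4_1 lc_e_rc_24_2 lc_e_rc_24_2 lc_e_rc_24_2 lc_e_rc_22_0 lc_e_rc_19_3 lc_e_rc_24_2 lc_e_rc_24_2 lc_e_rc_10_1 lc_e_rc_23_2 lc_e_rc_10_1 lc_e_rc_24_2 lc_e_rc_10_1 lc_e_rc_4_1 lc_e_rc_15_1 lc_e_rc_23_2 lc_e_rc_4_1 lc_e_rc_15_1 lc_e_rc_19_3 lc_e_rc_4_1 lc_e_rc_19_3 lc_e_rc_23_2 lc_e_rc_10_3 lc_e_rc_10_1 lc_e_rc_24_2 lc_e_rc_4_1 lc_e_rc_23_2 lc_e_rc_15_1 lc_e_rc_10_3 lc_e_rc_10_1 lc_e_rc_4_1)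 (@D3.rec (fun _ => (Cert rels S Gen.e)) lc_e_rc_4_1 lc_e_Cert_tree lc_e_rc_22_0 lc_e_rc_10_1 lc_e_rc_4_1 lc_e_rc_23_2 lc_e_rc_15_1 lc_e_rc_24_2 lc_e_rc_19_1 lc_e_rc_23_0 lc_e_rc_15_3 lc_e_rc_23_2 lc_e_rc_10_1 lc_e_rc_23_2 lc_e_rc_10_1 lc_e_rc_32_25 lc_e_rc_15_1 lc_e_rc_23_2 lc_e_rc_23_2 lc_e_rc_10_1 lc_e_rc_23_2 lc_e_rc_24_2 lc_e_rc_4_3 lc_e_rc_19_1 lc_e_rc_23_2 lc_e_rc_23_2 lc_e_rc_4_1 lc_e_rc_22_0 lc_e_rc_24_2 lc_e_rc_15_1 lc_e_rc_23_2 lc_e_rc_10_1 lc_e_rc_24_2 lc_e_rc_4_3 lc_e_rc_23_2 lc_e_rc_10_1 lc_e_rc_4_1 lc_e_rc_15_1 lc_e_rc_24_2 lc_e_rc_4_1) (@D3.rec (fun _ => (Cert rels S Gen.e)) lc_e_rc_15_1 lc_e_rc_23_2 lc_e_rc_4_1 lc_e_rc_19_3 lc_e_rc_24_2 lc_e_rc_19_3 lc_e_rc_10_1 lc_e_rc_15_1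 lc_e_rc_4_1 lc_e_rc_24_2 lc_e_rc_4_1 lc_e_rc_10_3 lc_e_rc_10_1 lc_e_rc_19_3 lc_e_rc_15_1 lc_e_rc_10_1 lc_e_rc_4_1 lc_e_rc_24_2 lc_e_rc_10_1 lc_e_rc_23_2 lc_e_rc_10_1 lc_e_rc_23_2 lc_e_rc_19_3 lc_e_rc_24_2 lc_e_rc_4_1 lc_e_Cert_tree lc_e_rc_22_0 lc_e_rc_10_1 lc_e_rc_24_2 lc_e_rc_19_3 lc_e_rc_24_2 lc_e_rc_24_2 lc_e_rc_10_1 lc_e_rc_19_3 lc_e_rc_10_1 lc_e_rc_4_1 lc_e_rc_15_1 lc_e_rc_23_2 lc_e_rc_15_1 lc_e_rc_23_2) (@D3.rec (fun _ => (Cert rels S Gen.e)) lc_e_rc_4_3 lc_e_rc_24_2 lc_e_rc_4_1 lc_e_rc_4_1 lc_e_rc_22_1 lc_e_rc_23_2 lc_e_rc_4_1 lc_e_rc_10_1 lc_e_rc_4_1 lc_e_rc_4_1 lc_e_Cert_tree lc_e_rc_22_0 lc_e_rc_10_1 lc_e_rc_23_2 lc_e_rc_19_3 lc_e_rc_23_2 lc_e_rc_10_1 lc_e_rc_23_2 lc_e_rc_19_3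 lc_e_rc_10_1 lc_e_rc_4_1 lc_e_rc_15_1 lc_e_rc_24_2 lc_e_rc_15_1 lc_e_rc_24_2 lc_e_rc_24_2 lc_e_rc_19_1 lc_e_rc_10_1 lc_e_rc_10_1 lc_e_rc_24_0 lc_e_rc_24_2 lc_e_rc_4_1 lc_e_rc_10_1 lc_e_rc_24_2 lc_e_rc_15_1 lc_e_rc_24_2 lc_e_rc_19_3 lc_e_rc_24_2 lc_e_rc_24_2 lc_e_rc_19_5) (@D3.rec (fun _ => (Cert rels S Gen.e)) lc_e_rc_19_3 lc_e_rc_19_3 lc_e_rc_10_1 lc_e_rc_4_1 lc_e_rc_4_1 lc_e_rc_23_2 lc_e_rc_4_1 lc_e_rc_23_2 lc_e_rc_23_0 lc_e_rc_23_0 lc_e_rc_4_1 lc_e_rc_23_2 lc_e_rc_23_2 lc_e_rc_24_2 lc_e_rc_10_1 lc_e_rc_4_1 lc_e_rc_23_2 lc_e_rc_15_1 lc_e_rc_10_1 lc_e_rc_19_3 lc_e_rc_4_1 lc_e_rc_15_1 lc_e_rc_23_2 lc_e_rc_10_1 lc_e_rc_4_1 lc_e_rc_4_1 lc_e_rc_24_2 lc_e_rc_23_2 lc_e_rc_24_2 lc_e_rc_10_1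 lc_e_rc_4_1 lc_e_Cert_tree lc_e_rc_24_2 lc_e_rc_23_0 lc_e_rc_15_1 lc_e_rc_10_3 lc_e_rc_10_1 lc_e_rc_23_2 lc_e_Cert_tree lc_e_rc_22_0) (@D3.rec (fun _ => (Cert rels S Gen.e)) lc_e_rc_24_2 lc_e_rc_10_1 lc_e_rc_4_1 lc_e_rc_4_1 lc_e_rc_10_1 lc_e_rc_10_1 lc_e_rc_4_1 lc_e_rc_15_1 lc_e_rc_4_1 lc_e_rc_24_2 lc_e_rc_4_1 lc_e_rc_4_1 lc_e_rc_10_1 lc_e_rc_23_0 lc_e_rc_23_2 lc_e_rc_19_3 lc_e_rc_23_2 lc_e_rc_4_1 lc_e_rc_23_2 lc_e_rc_23_2 lc_e_rc_19_3 lc_e_rc_10_1 lc_e_rc_15_1 lc_e_rc_4_1 lc_e_rc_24_2 lc_e_rc_4_1 lc_e_rc_10_1 lc_e_rc_15_1 lc_e_rc_10_3 lc_e_rc_24_2 lc_e_rc_23_2 lc_e_rc_10_1 lc_e_rc_4_1 lc_e_rc_23_2 lc_e_rc_15_1 lc_e_rc_10_1 lc_e_rc_19_3 lc_e_rc_4_1 lc_e_rc_15_1 lc_e_rc_24_2) (@D3.rec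 (fun _ => (Cert rels S Gen.e)) lc_e_rc_10_1 lc_e_rc_4_1 lc_e_rc_4_1 lc_e_rc_4_3 lc_e_rc_24_2 lc_e_rc_23_2 lc_e_rc_10_1 lc_e_rc_4_1 lc_e_Cert_tree lc_e_rc_23_2 lc_e_rc_24_0 lc_e_rc_15_1 lc_e_rc_23_0 lc_e_rc_10_1 lc_e_rc_10_1 lc_e_Cert_tree lc_e_rc_22_0 lc_e_rc_24_2 lc_e_rc_10_1 lc_e_rc_15_1 lc_e_rc_4_1 lc_e_rc_10_1 lc_e_rc_15_1 lc_e_rc_4_1 lc_e_rc_4_1 lc_e_rc_24_2 lc_e_rc_23_2 lc_e_rc_24_0 lc_e_rc_24_2 lc_e_rc_10_1 lc_e_rc_24_2 lc_e_rc_24_2 lc_e_rc_22_0 lc_e_rc_24_2 lc_e_rc_4_1 lc_e_rc_24_2 lc_e_rc_10_1 lc_e_rc_10_1 lc_e_rc_19_3 lc_e_rc_15_1) (@D3.rec (fun _ => (Cert rels S Gen.e)) lc_e_rc_10_1 lc_e_rc_24_2 lc_e_rc_10_1 lc_e_rc_24_2 lc_e_rc_24_2 lc_e_rc_10_1 lc_e_rc_23_2 lc_e_rc_24_2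 lc_e_rc_4_1 lc_e_rc_23_2 lc_e_rc_10_1 lc_e_rc_10_1 lc_e_rc_10_1 lc_e_rc_4_1 lc_e_rc_32_25 lc_e_rc_4_1 lc_e_rc_15_1 lc_e_rc_19_3 lc_e_rc_23_2 lc_e_rc_24_2 lc_e_rc_4_1 lc_e_rc_15_1 lc_e_rc_23_2 lc_e_rc_15_1 lc_e_rc_24_2 lc_e_rc_10_1 lc_e_rc_23_2 lc_e_Cert_tree lc_e_rc_22_0 lc_e_rc_23_2 lc_e_rc_10_1 lc_e_rc_24_2 lc_e_rc_10_1 lc_e_rc_15_1 lc_e_rc_23_2 lc_e_rc_24_2 lc_e_rc_10_3 lc_e_rc_4_1 lc_e_rc_10_3 lc_e_rc_23_2) (@D3.rec (fun _ => (Cert rels S Gen.e)) lc_e_rc_24_2 lc_e_rc_22_0 lc_e_rc_10_3 lc_e_rc_22_0 lc_e_rc_23_2 lc_e_rc_24_2 lc_e_rc_10_1 lc_e_rc_19_3 lc_e_rc_15_1 lc_e_rc_4_3 lc_e_rc_4_1 lc_e_rc_23_2 lc_e_rc_23_2 lc_e_rc_23_2 lc_e_rc_22_0 lc_e_rc_23_2 lc_e_rc_10_1 lc_e_rc_23_2 lc_e_rc_10_1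 lc_e_rc_10_1 lc_e_rc_4_1 lc_e_rc_15_1 lc_e_rc_10_1 lc_e_rc_23_2 lc_e_rc_10_1 lc_e_rc_23_2 lc_e_rc_23_2 lc_e_rc_10_1 lc_e_rc_24_2 lc_e_rc_4_1 lc_e_rc_24_2 lc_e_rc_10_1 lc_e_rc_10_1 lc_e_rc_10_1 lc_e_rc_10_1 lc_e_rc_4_1 lc_e_rc_15_1 lc_e_rc_10_1 lc_e_rc_10_1 lc_e_rc_23_0) (@D3.rec (fun _ => (Cert rels S Gen.e)) lc_e_rc_22_0 lc_e_rc_24_2 lc_e_rc_4_1 lc_e_rc_15_1 lc_e_rc_24_2 lc_e_rc_15_1 lc_e_rc_23_2 lc_e_rc_10_1 lc_e_rc_24_2 lc_e_Cert_tree lc_e_rc_22_0 lc_e_rc_24_2 lc_e_rc_10_1 lc_e_rc_23_2 lc_e_rc_10_1 lc_e_rc_15_1 lc_e_rc_23_2 lc_e_rc_24_2 lc_e_rc_4_3 lc_e_rc_22_1 lc_e_rc_23_2 lc_e_rc_10_1 lc_e_rc_24_2 lc_e_rc_23_2 lc_e_rc_10_1 lc_e_rc_10_1 lc_e_rc_15_1 lc_e_rc_10_1 lc_e_rc_4_1 lc_e_rc_24_2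 lc_e_rc_24_2 lc_e_rc_24_2 lc_e_rc_10_1 lc_e_rc_23_0 lc_e_rc_10_3 lc_e_rc_15_1 lc_e_rc_23_2 lc_e_rc_4_1 lc_e_rc_24_2 lc_e_rc_4_1) (@D3.rec (fun _ => (Cert rels S Gen.e)) lc_e_rc_10_1 lc_e_rc_23_2 lc_e_rc_4_1 lc_e_rc_19_3 lc_e_rc_24_2 lc_e_rc_10_1 lc_e_rc_4_1 lc_e_rc_19_3 lc_e_rc_4_1 lc_e_rc_23_2 lc_e_rc_10_1 lc_e_rc_10_1 lc_e_rc_10_1 lc_e_rc_24_0 lc_e_rc_4_1 lc_e_rc_4_1 lc_e_rc_10_1 lc_e_rc_19_1 lc_e_rc_23_2 lc_e_rc_23_2 lc_e_rc_10_1 lc_e_rc_19_3 lc_e_rc_24_0 lc_e_rc_23_2 lc_e_rc_24_0 lc_e_rc_4_1 lc_e_rc_23_2 lc_e_rc_10_1 lc_e_rc_15_1 lc_e_rc_10_1 lc_e_rc_15_1 lc_e_rc_24_0 lc_e_rc_10_1 lc_e_rc_24_2 lc_e_rc_4_1 lc_e_rc_4_1 lc_e_rc_24_2 lc_e_rc_10_1 lc_e_rc_15_1 lc_e_rc_10_1) (@D3.rec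 (fun _ => (Cert rels S Gen.e)) lc_e_rc_15_1 lc_e_rc_4_1 lc_e_rc_10_1 lc_e_rc_10_1 lc_e_rc_15_1 lc_e_rc_19_1 lc_e_rc_24_2 lc_e_rc_23_2 lc_e_rc_10_1 lc_e_rc_24_2 lc_e_rc_10_1 lc_e_rc_23_2 lc_e_rc_4_1 lc_e_rc_4_1 lc_e_rc_10_1 lc_e_rc_15_1 lc_e_rc_4_1 lc_e_rc_4_1 lc_e_rc_10_1 lc_e_rc_15_1 lc_e_rc_4_1 lc_e_rc_15_1 lc_e_rc_15_1 lc_e_rc_24_2 lc_e_rc_22_1 lc_e_rc_23_2 lc_e_rc_10_1 lc_e_rc_4_3 lc_e_rc_24_2 lc_e_rc_4_1 lc_e_rc_15_1 lc_e_rc_23_2 lc_e_rc_10_3 lc_e_rc_10_1 lc_e_rc_4_3 lc_e_rc_23_2 lc_e_rc_15_1 lc_e_rc_10_1 lc_e_Cert_tree lc_e_rc_22_0) (@D3.rec (fun _ => (Cert rels S Gen.e)) lc_e_rc_22_0 lc_e_rc_19_3 lc_e_rc_4_3 lc_e_rc_22_0 lc_e_rc_22_0 lc_e_rc_22_0 lc_e_rc_19_3 lc_e_rc_23_2 lc_e_rc_24_2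 lc_e_rc_22_0 lc_e_rc_15_1 lc_e_rc_10_1 lc_e_Cert_tree lc_e_rc_22_0 lc_e_rc_22_0 lc_e_rc_23_0 lc_e_rc_15_1 lc_e_rc_22_0 lc_e_rc_22_0 lc_e_rc_19_3 lc_e_rc_24_2 lc_e_rc_23_2 lc_e_rc_23_2 lc_e_rc_22_0 lc_e_rc_23_2 lc_e_rc_15_1 lc_e_rc_23_2 lc_e_rc_10_1 lc_e_rc_22_0 lc_e_rc_24_2 lc_e_rc_24_2 lc_e_rc_24_2 lc_e_rc_23_2 lc_e_rc_23_2 lc_e_rc_22_0 lc_e_rc_24_2 lc_e_rc_24_2 lc_e_rc_22_0 lc_e_rc_23_2 lc_e_rc_23_2) (@D3.rec (fun _ => (Cert rels S Gen.e)) lc_e_rc_23_2 lc_e_rc_15_3 lc_e_rc_15_1 lc_e_rc_24_2 lc_e_Cert_tree lc_e_rc_23_2 lc_e_Cert_tree lc_e_rc_22_0 lc_e_rc_15_1 lc_e_Cert_tree lc_e_Cert_tree lc_e_rc_22_0 lc_e_rc_24_2 lc_e_rc_10_1 lc_e_rc_23_2 lc_e_rc_19_1 lc_e_rc_4_1 lc_e_rc_32_51 lc_e_rc_24_2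 lc_e_rc_4_1 lc_e_rc_24_2 lc_e_rc_24_2 lc_e_rc_10_1 lc_e_rc_4_1 lc_e_rc_15_1 lc_e_rc_23_2 lc_e_rc_24_2 lc_e_rc_10_1 lc_e_rc_19_3 lc_e_rc_23_2 lc_e_rc_4_1 lc_e_rc_24_2 lc_e_rc_19_3 lc_e_rc_23_2 lc_e_rc_32_51 lc_e_rc_4_1 lc_e_rc_23_2 lc_e_rc_10_1 lc_e_rc_4_1 lc_e_rc_15_1) (@D3.rec (fun _ => (Cert rels S Gen.e)) lc_e_rc_23_0 lc_e_rc_19_1 lc_e_rc_10_1 lc_e_rc_4_1 lc_e_rc_24_2 lc_e_rc_4_1 lc_e_rc_4_3 lc_e_rc_22_0 lc_e_Cert_tree lc_e_rc_22_0 lc_e_rc_23_2 lc_e_rc_23_2 lc_e_rc_10_1 lc_e_rc_22_0 lc_e_Cert_tree lc_e_rc_22_0 lc_e_rc_24_2 lc_e_rc_24_2 lc_e_rc_4_1 lc_e_rc_15_1 lc_e_rc_4_1 lc_e_rc_15_1 lc_e_rc_24_2 lc_e_rc_24_0 lc_e_rc_23_2 lc_e_rc_4_1 lc_e_rc_22_0 lc_e_rc_10_1 lc_e_rc_24_2 lc_e_rc_10_1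 lc_e_rc_4_1 lc_e_rc_22_0 lc_e_rc_10_1 lc_e_rc_23_2 lc_e_rc_15_3 lc_e_rc_4_1 lc_e_rc_24_2 lc_e_rc_10_1 lc_e_rc_4_1 lc_e_rc_23_2) (@D3.rec (fun _ => (Cert rels S Gen.e)) lc_e_rc_10_1 lc_e_rc_10_1 lc_e_rc_4_1 lc_e_rc_4_3 lc_e_rc_23_2 lc_e_rc_10_1 lc_e_rc_24_2 lc_e_rc_23_2 lc_e_rc_10_1 lc_e_rc_4_1 lc_e_rc_23_0 lc_e_rc_10_1 lc_e_rc_10_1 lc_e_rc_4_1 lc_e_rc_4_3 lc_e_rc_24_2 lc_e_rc_10_1 lc_e_rc_23_2 lc_e_rc_10_1 lc_e_rc_24_2 lc_e_rc_19_1 lc_e_rc_10_1 lc_e_rc_4_1 lc_e_rc_4_1 lc_e_Cert_tree lc_e_rc_32_25 lc_e_rc_23_2 lc_e_rc_19_1 lc_e_rc_10_1 lc_e_rc_4_1 lc_e_rc_4_1 lc_e_Cert_tree lc_e_rc_4_1 lc_e_rc_15_1 lc_e_rc_4_1 lc_e_rc_15_1 lc_e_rc_22_0 lc_e_rc_4_1 lc_e_rc_15_1 lc_e_rc_10_1)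
def ce_e_18 : D2 → D3 → (Cert rels S Gen.e) := @D2.rec (fun _ => D3 → (Cert rels S Gen.e)) (@D3.rec (fun _ => (Cert rels S Gen.e)) lc_e_rc_10_1 lc_e_Cert_tree lc_e_rc_23_2 lc_e_rc_4_1 lc_e_rc_22_0 lc_e_Cert_tree lc_e_rc_22_0 lc_e_rc_22_0 lc_e_rc_4_1 lc_e_rc_15_1 lc_e_rc_24_0 lc_e_rc_10_1 lc_e_Cert_tree lc_e_rc_4_1 lc_e_rc_24_2 lc_e_rc_22_0 lc_e_Cert_tree lc_e_rc_22_0 lc_e_rc_10_1 lc_e_rc_4_1 lc_e_rc_23_2 lc_e_rc_10_1 lc_e_rc_10_3 lc_e_rc_4_3 lc_e_rc_4_1 lc_e_rc_4_1 lc_e_rc_4_3 lc_e_rc_10_3 lc_e_rc_23_0 lc_e_rc_22_0 lc_e_rc_4_1 lc_e_rc_22_0 lc_e_rc_23_2 lc_e_rc_23_2 lc_e_rc_19_3 lc_e_rc_4_1 lc_e_rc_24_2 lc_e_rc_19_1 lc_e_rc_4_1 lc_e_rc_24_2) (@D3.rec (fun _ => (Cert rels S Gen.e)) lc_e_rc_10_1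 lc_e_rc_4_1 lc_e_rc_22_0 lc_e_rc_19_3 lc_e_rc_24_2 lc_e_rc_23_2 lc_e_rc_15_1 lc_e_rc_24_2 lc_e_rc_23_2 lc_e_rc_10_1 lc_e_rc_10_1 lc_e_rc_24_2 lc_e_rc_22_0 lc_e_rc_23_2 lc_e_rc_24_2 lc_e_rc_23_2 lc_e_rc_10_1 lc_e_rc_24_2 lc_e_rc_10_1 lc_e_rc_24_2 lc_e_rc_4_1 lc_e_rc_15_1 lc_e_rc_24_2 lc_e_rc_10_1 lc_e_rc_10_1 lc_e_rc_10_1 lc_e_rc_4_1 lc_e_rc_10_1 lc_e_rc_23_2 lc_e_rc_4_1 lc_e_rc_24_2 lc_e_rc_22_1 lc_e_rc_10_1 lc_e_rc_23_2 lc_e_rc_4_3 lc_e_rc_4_1 lc_e_rc_4_1 lc_e_rc_4_3 lc_e_rc_10_1 lc_e_rc_4_3) (@D3.rec (fun _ => (Cert rels S Gen.e)) lc_e_rc_22_0 lc_e_rc_15_1 lc_e_rc_22_0 lc_e_rc_24_2 lc_e_rc_24_2 lc_e_rc_24_2 lc_e_rc_4_1 lc_e_rc_23_2 lc_e_rc_24_2 lc_e_rc_23_2 lc_e_rc_19_1 lc_e_rc_10_1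 lc_e_rc_4_1 lc_e_rc_22_0 lc_e_rc_23_2 lc_e_rc_4_3 lc_e_rc_23_2 lc_e_rc_24_2 lc_e_rc_15_1 lc_e_rc_24_2 lc_e_rc_10_1 lc_e_rc_24_0 lc_e_rc_23_2 lc_e_rc_22_0 lc_e_rc_23_2 lc_e_rc_24_2 lc_e_rc_24_2 lc_e_rc_10_1 lc_e_rc_23_2 lc_e_rc_10_1 lc_e_rc_4_1 lc_e_rc_4_1 lc_e_rc_15_1 lc_e_rc_23_2 lc_e_rc_10_1 lc_e_rc_10_1 lc_e_rc_10_1 lc_e_rc_4_1 lc_e_rc_10_1 lc_e_rc_24_2) (@D3.rec (fun _ => (Cert rels S Gen.e)) lc_e_rc_24_2 lc_e_rc_19_3 lc_e_Cert_tree lc_e_rc_22_0 lc_e_rc_23_2 lc_e_rc_4_1 lc_e_rc_19_5 lc_e_rc_22_0 lc_e_rc_23_2 lc_e_rc_23_2 lc_e_rc_10_1 lc_e_Cert_tree lc_e_rc_22_0 lc_e_rc_23_2 lc_e_rc_23_2 lc_e_Cert_tree lc_e_rc_22_0 lc_e_Cert_tree lc_e_rc_22_0 lc_e_rc_4_3 lc_e_rc_23_2 lc_e_rc_10_1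 lc_e_rc_10_1 lc_e_rc_4_1 lc_e_rc_15_1 lc_e_rc_23_2 lc_e_rc_15_1 lc_e_rc_15_3 lc_e_rc_15_1 lc_e_rc_23_2 lc_e_rc_10_1 lc_e_rc_10_3 lc_e_rc_24_2 lc_e_rc_23_2 lc_e_rc_10_1 lc_e_rc_10_1 lc_e_rc_4_1 lc_e_rc_15_1 lc_e_rc_24_2 lc_e_rc_4_1) (@D3.rec (fun _ => (Cert rels S Gen.e)) lc_e_rc_23_2 lc_e_rc_10_1 lc_e_rc_4_3 lc_e_rc_10_1 lc_e_rc_24_2 lc_e_rc_4_1 lc_e_rc_15_1 lc_e_rc_24_2 lc_e_rc_10_1 lc_e_rc_15_1 lc_e_rc_24_2 lc_e_rc_10_1 lc_e_Cert_tree lc_e_rc_4_1 lc_e_rc_10_1 lc_e_rc_4_1 lc_e_rc_4_3 lc_e_rc_19_3 lc_e_rc_22_0 lc_e_rc_24_2 lc_e_rc_23_2 lc_e_rc_4_3 lc_e_rc_22_0 lc_e_rc_24_2 lc_e_rc_24_2 lc_e_rc_10_1 lc_e_Cert_tree lc_e_rc_22_0 lc_e_rc_4_3 lc_e_rc_24_2 lc_e_Cert_tree lc_e_rc_22_0 lc_e_Cert_tree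 lc_e_rc_22_0 lc_e_rc_4_3 lc_e_rc_24_2 lc_e_rc_10_1 lc_e_rc_10_1 lc_e_rc_4_1 lc_e_rc_15_1) (@D3.rec (fun _ => (Cert rels S Gen.e)) lc_e_rc_24_2 lc_e_rc_15_1 lc_e_rc_15_1 lc_e_rc_15_3 lc_e_rc_24_2 lc_e_rc_10_1 lc_e_rc_23_2 lc_e_rc_24_2 lc_e_rc_24_2 lc_e_rc_10_1 lc_e_rc_10_1 lc_e_rc_4_1 lc_e_rc_15_1 lc_e_rc_23_2 lc_e_rc_4_1 lc_e_rc_24_2 lc_e_rc_10_1 lc_e_rc_4_3 lc_e_rc_10_1 lc_e_rc_23_2 lc_e_rc_4_1 lc_e_rc_15_1 lc_e_rc_23_2 lc_e_rc_10_1 lc_e_rc_15_1 lc_e_rc_23_2 lc_e_rc_10_1 lc_e_rc_4_1 lc_e_rc_10_1 lc_e_rc_4_1 lc_e_rc_19_3 lc_e_rc_10_1 lc_e_rc_4_3 lc_e_rc_19_1 lc_e_rc_22_0 lc_e_rc_4_1 lc_e_rc_10_1 lc_e_rc_23_2 lc_e_rc_4_1 lc_e_rc_15_1) (@D3.rec (fun _ => (Cert rels S Gen.e)) lc_e_rc_15_1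 lc_e_rc_4_1 lc_e_Cert_tree lc_e_rc_10_1 lc_e_Cert_tree lc_e_rc_23_2 lc_e_rc_15_3 lc_e_rc_22_0 lc_e_rc_23_2 lc_e_rc_24_2 lc_e_rc_22_0 lc_e_rc_22_1 lc_e_Cert_tree lc_e_rc_22_0 lc_e_rc_4_1 lc_e_rc_23_2 lc_e_rc_10_1 lc_e_rc_10_1 lc_e_rc_24_2 lc_e_rc_23_0 lc_e_rc_15_1 lc_e_rc_15_1 lc_e_rc_4_1 lc_e_rc_23_2 lc_e_rc_23_0 lc_e_rc_23_2 lc_e_rc_22_0 lc_e_rc_19_3 lc_e_Cert_tree lc_e_rc_10_3 lc_e_rc_22_0 lc_e_rc_23_2 lc_e_rc_23_2 lc_e_rc_10_1 lc_e_rc_23_2 lc_e_rc_15_1 lc_e_rc_4_1 lc_e_rc_15_3 lc_e_rc_22_0 lc_e_rc_24_2) (@D3.rec (fun _ => (Cert rels S Gen.e)) lc_e_rc_23_2 lc_e_rc_4_1 lc_e_Cert_tree lc_e_rc_23_2 lc_e_rc_24_2 lc_e_rc_23_2 lc_e_rc_22_0 lc_e_rc_15_1 lc_e_rc_4_1 lc_e_rc_10_1 lc_e_Cert_tree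 lc_e_rc_4_1 lc_e_Cert_tree lc_e_rc_22_0 lc_e_rc_23_2 lc_e_rc_24_2 lc_e_rc_22_0 lc_e_rc_24_2 lc_e_rc_19_3 lc_e_rc_23_2 lc_e_rc_10_1 lc_e_rc_10_1 lc_e_rc_4_1 lc_e_rc_15_1 lc_e_rc_10_1 lc_e_rc_4_1 lc_e_rc_23_0 lc_e_rc_10_1 lc_e_rc_19_3 lc_e_rc_4_1 lc_e_rc_10_1 lc_e_rc_15_3 lc_e_rc_23_2 lc_e_rc_10_1 lc_e_rc_10_1 lc_e_rc_15_3 lc_e_rc_24_2 lc_e_rc_4_1 lc_e_rc_24_2 lc_e_Cert_tree) (@D3.rec (fun _ => (Cert rels S Gen.e)) lc_e_Cert_tree lc_e_rc_22_0 lc_e_rc_23_2 lc_e_rc_24_2 lc_e_rc_4_1 lc_e_rc_22_0 lc_e_rc_23_2 lc_e_rc_24_2 lc_e_rc_23_2 lc_e_rc_24_2 lc_e_rc_10_1 lc_e_rc_24_2 lc_e_rc_24_2 lc_e_rc_23_2 lc_e_rc_10_1 lc_e_rc_10_1 lc_e_rc_10_1 lc_e_rc_4_1 lc_e_rc_15_1 lc_e_rc_24_2 lc_e_rc_4_1 lc_e_rc_4_1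 lc_e_Cert_tree lc_e_rc_24_2 lc_e_rc_15_3 lc_e_rc_22_0 lc_e_Cert_tree lc_e_rc_22_0 lc_e_rc_23_2 lc_e_rc_19_3 lc_e_rc_23_2 lc_e_rc_24_2 lc_e_rc_10_1 lc_e_rc_4_1 lc_e_rc_19_3 lc_e_rc_10_1 lc_e_rc_24_2 lc_e_rc_23_0 lc_e_rc_19_3 lc_e_rc_24_2) (@D3.rec (fun _ => (Cert rels S Gen.e)) lc_e_rc_10_1 lc_e_rc_15_1 lc_e_rc_24_2 lc_e_rc_10_1 lc_e_rc_4_1 lc_e_rc_24_2 lc_e_rc_10_1 lc_e_rc_4_1 lc_e_Cert_tree lc_e_rc_22_0 lc_e_rc_10_1 lc_e_rc_10_1 lc_e_rc_19_3 lc_e_rc_19_1 lc_e_rc_22_0 lc_e_rc_19_3 lc_e_rc_10_1 lc_e_rc_19_3 lc_e_rc_23_2 lc_e_rc_4_1 lc_e_rc_10_1 lc_e_rc_4_1 lc_e_Cert_tree lc_e_rc_10_1 lc_e_Cert_tree lc_e_rc_23_2 lc_e_rc_23_0 lc_e_rc_22_0 lc_e_rc_24_2 lc_e_rc_23_2 lc_e_rc_22_0 lc_e_Cert_tree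 lc_e_rc_22_0 lc_e_rc_10_1 lc_e_rc_24_2 lc_e_rc_10_1 lc_e_rc_4_1 lc_e_rc_23_2 lc_e_rc_4_1 lc_e_rc_15_1) (@D3.rec (fun _ => (Cert rels S Gen.e)) lc_e_rc_4_1 lc_e_rc_4_1 lc_e_rc_24_2 lc_e_rc_24_0 lc_e_rc_24_2 lc_e_rc_22_0 lc_e_rc_23_2 lc_e_rc_19_5 lc_e_rc_24_2 lc_e_rc_22_0 lc_e_rc_24_2 lc_e_rc_24_2 lc_e_rc_10_1 lc_e_rc_24_2 lc_e_rc_15_1 lc_e_rc_23_2 lc_e_rc_19_1 lc_e_rc_22_0 lc_e_rc_23_2 lc_e_rc_24_2 lc_e_rc_4_1 lc_e_Cert_tree lc_e_rc_23_2 lc_e_rc_24_2 lc_e_rc_15_3 lc_e_rc_22_0 lc_e_rc_24_2 lc_e_rc_4_3 lc_e_rc_10_1 lc_e_Cert_tree lc_e_rc_4_1 lc_e_Cert_tree lc_e_rc_22_0 lc_e_rc_23_2 lc_e_rc_24_2 lc_e_rc_23_2 lc_e_rc_24_2 lc_e_rc_24_2 lc_e_rc_10_1 lc_e_rc_4_1) (@D3.rec (fun _ => (Cert rels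 S Gen.e)) lc_e_rc_15_1 lc_e_rc_10_1 lc_e_rc_4_1 lc_e_rc_24_0 lc_e_rc_23_0 lc_e_rc_23_2 lc_e_rc_24_2 lc_e_rc_10_1 lc_e_rc_23_2 lc_e_rc_24_2 lc_e_rc_4_3 lc_e_rc_10_1 lc_e_rc_24_0 lc_e_rc_23_2 lc_e_rc_4_1 lc_e_rc_4_1 lc_e_Cert_tree lc_e_Cert_tree lc_e_rc_22_0 lc_e_rc_23_2 lc_e_rc_24_2 lc_e_rc_4_1 lc_e_rc_22_0 lc_e_rc_23_2 lc_e_rc_24_2 lc_e_rc_23_2 lc_e_rc_24_2 lc_e_rc_24_2 lc_e_rc_10_1 lc_e_rc_24_2 lc_e_rc_10_1 lc_e_rc_24_2 lc_e_rc_10_1 lc_e_rc_10_1 lc_e_rc_4_1 lc_e_rc_15_1 lc_e_rc_23_2 lc_e_rc_4_1 lc_e_rc_4_1 lc_e_Cert_tree) (@D3.rec (fun _ => (Cert rels S Gen.e)) lc_e_rc_23_2 lc_e_rc_15_3 lc_e_rc_22_0 lc_e_Cert_tree lc_e_rc_22_0 lc_e_rc_19_3 lc_e_rc_23_2 lc_e_rc_4_1 lc_e_rc_19_3 lc_e_rc_10_1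 lc_e_rc_23_2 lc_e_rc_4_1 lc_e_rc_4_1 lc_e_rc_23_2 lc_e_rc_10_1 lc_e_rc_15_1 lc_e_rc_23_2 lc_e_rc_10_1 lc_e_rc_4_1 lc_e_rc_23_2 lc_e_rc_10_1 lc_e_rc_4_1 lc_e_Cert_tree lc_e_rc_22_0 lc_e_rc_10_1 lc_e_rc_4_1 lc_e_rc_10_3 lc_e_rc_23_2 lc_e_rc_4_1 lc_e_Cert_tree lc_e_rc_4_1 lc_e_rc_23_2 lc_e_rc_4_1 lc_e_rc_15_1 lc_e_rc_4_1 lc_e_rc_15_3 lc_e_rc_24_2 lc_e_rc_24_2 lc_e_rc_19_3 lc_e_rc_10_1) (@D3.rec (fun _ => (Cert rels S Gen.e)) lc_e_rc_19_3 lc_e_rc_23_2 lc_e_rc_22_0 lc_e_rc_23_2 lc_e_rc_4_3 lc_e_rc_23_2 lc_e_Cert_tree lc_e_rc_22_0 lc_e_Cert_tree lc_e_rc_10_1 lc_e_rc_22_0 lc_e_rc_23_2 lc_e_rc_23_2 lc_e_rc_10_1 lc_e_rc_4_1 lc_e_Cert_tree lc_e_rc_22_0 lc_e_rc_4_1 lc_e_rc_10_1 lc_e_rc_23_2 lc_e_rc_4_1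 lc_e_rc_23_0 lc_e_rc_23_2 lc_e_rc_24_2 lc_e_rc_24_2 lc_e_rc_19_1 lc_e_rc_15_3 lc_e_rc_22_0 lc_e_rc_4_1 lc_e_rc_15_1 lc_e_rc_23_2 lc_e_rc_15_1 lc_e_Cert_tree lc_e_Cert_tree lc_e_Cert_tree lc_e_rc_22_0 lc_e_rc_24_2 lc_e_rc_10_1 lc_e_rc_24_0 lc_e_rc_15_3) (@D3.rec (fun _ => (Cert rels S Gen.e)) lc_e_rc_22_0 lc_e_rc_15_1 lc_e_rc_22_0 lc_e_Cert_tree lc_e_rc_22_0 lc_e_rc_23_2 lc_e_rc_23_2 lc_e_rc_23_2 lc_e_Cert_tree lc_e_rc_10_3 lc_e_rc_22_0 lc_e_rc_23_2 lc_e_rc_10_3 lc_e_rc_22_0 lc_e_rc_15_1 lc_e_rc_4_3 lc_e_rc_23_2 lc_e_rc_19_3 lc_e_rc_24_2 lc_e_rc_15_1 lc_e_rc_4_1 lc_e_rc_10_1 lc_e_rc_4_1 lc_e_rc_23_2 lc_e_rc_4_1 lc_e_rc_22_0 lc_e_rc_23_2 lc_e_rc_15_1 lc_e_rc_4_1 lc_e_rc_4_1 lc_e_rc_10_1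 lc_e_rc_19_1 lc_e_rc_23_0 lc_e_rc_19_1 lc_e_rc_15_1 lc_e_rc_23_2 lc_e_rc_24_2 lc_e_rc_15_1 lc_e_rc_23_2 lc_e_rc_4_1) (@D3.rec (fun _ => (Cert rels S Gen.e)) lc_e_rc_10_1 lc_e_rc_22_0 lc_e_Cert_tree lc_e_rc_15_3 lc_e_rc_22_0 lc_e_rc_23_2 lc_e_rc_24_2 lc_e_rc_24_2 lc_e_rc_10_1 lc_e_rc_19_1 lc_e_rc_23_0 lc_e_rc_15_1 lc_e_rc_19_3 lc_e_rc_15_3 lc_e_rc_22_0 lc_e_rc_10_1 lc_e_rc_10_1 lc_e_rc_10_1 lc_e_rc_23_2 lc_e_rc_24_2 lc_e_rc_4_1 lc_e_Cert_tree lc_e_rc_22_0 lc_e_rc_23_2 lc_e_rc_24_2 lc_e_Cert_tree lc_e_rc_22_0 lc_e_rc_24_2 lc_e_rc_19_3 lc_e_rc_23_2 lc_e_rc_24_2 lc_e_rc_22_0 lc_e_rc_24_2 lc_e_rc_4_1 lc_e_rc_19_3 lc_e_rc_15_1 lc_e_rc_19_3 lc_e_rc_10_1 lc_e_rc_32_77 lc_e_rc_10_3) (@D3.rec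 (fun _ => (Cert rels S Gen.e)) lc_e_rc_24_2 lc_e_rc_4_1 lc_e_rc_15_1 lc_e_rc_24_2 lc_e_rc_4_1 lc_e_rc_4_1 lc_e_rc_4_1 lc_e_Cert_tree lc_e_rc_15_1 lc_e_rc_4_3 lc_e_rc_23_2 lc_e_rc_15_1 lc_e_rc_10_1 lc_e_rc_23_2 lc_e_rc_15_3 lc_e_rc_19_1 lc_e_rc_10_1 lc_e_rc_23_2 lc_e_rc_4_1 lc_e_rc_4_3 lc_e_rc_24_2 lc_e_rc_4_1 lc_e_rc_24_0 lc_e_rc_10_1 lc_e_rc_23_2 lc_e_rc_19_3 lc_e_rc_19_3 lc_e_rc_23_0 lc_e_rc_19_3 lc_e_rc_10_1 lc_e_rc_24_2 lc_e_rc_4_1 lc_e_rc_24_2 lc_e_Cert_tree lc_e_rc_22_0 lc_e_rc_22_0 lc_e_rc_24_2 lc_e_rc_23_2 lc_e_rc_24_2 lc_e_rc_4_1) (@D3.rec (fun _ => (Cert rels S Gen.e)) lc_e_rc_4_3 lc_e_rc_22_0 lc_e_rc_23_2 lc_e_rc_24_2 lc_e_rc_10_1 lc_e_rc_23_2 lc_e_rc_24_2 lc_e_rc_10_1 lc_e_rc_15_1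 lc_e_rc_23_2 lc_e_rc_24_2 lc_e_rc_24_0 lc_e_rc_4_1 lc_e_rc_23_2 lc_e_rc_4_1 lc_e_rc_22_0 lc_e_rc_23_2 lc_e_rc_19_3 lc_e_rc_23_2 lc_e_rc_23_2 lc_e_rc_19_3 lc_e_rc_24_2 lc_e_rc_4_1 lc_e_rc_23_2 lc_e_rc_24_0 lc_e_rc_22_0 lc_e_rc_4_3 lc_e_rc_24_2 lc_e_rc_22_0 lc_e_rc_24_2 lc_e_rc_22_0 lc_e_rc_19_3 lc_e_rc_24_2 lc_e_rc_24_2 lc_e_rc_10_1 lc_e_rc_22_0 lc_e_rc_23_2 lc_e_rc_24_2 lc_e_rc_19_3 lc_e_rc_23_2) (@D3.rec (fun _ => (Cert rels S Gen.e)) lc_e_rc_24_2 lc_e_rc_19_5 lc_e_rc_23_2 lc_e_rc_24_2 lc_e_rc_10_1 lc_e_rc_24_2 lc_e_rc_4_1 lc_e_rc_22_1 lc_e_rc_15_1 lc_e_rc_23_2 lc_e_rc_10_1 lc_e_rc_10_1 lc_e_rc_15_1 lc_e_rc_10_1 lc_e_rc_23_2 lc_e_rc_4_1 lc_e_rc_15_1 lc_e_rc_23_2 lc_e_rc_24_2 lc_e_rc_4_1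 lc_e_rc_24_0 lc_e_rc_10_1 lc_e_rc_23_2 lc_e_rc_4_1 lc_e_rc_24_2 lc_e_rc_4_1 lc_e_rc_10_3 lc_e_rc_4_1 lc_e_rc_24_2 lc_e_rc_15_3 lc_e_rc_4_3 lc_e_rc_23_2 lc_e_rc_10_3 lc_e_rc_10_1 lc_e_rc_4_1 lc_e_rc_23_2 lc_e_rc_24_2 lc_e_rc_24_2 lc_e_rc_22_0 lc_e_rc_24_2) (@D3.rec (fun _ => (Cert rels S Gen.e)) lc_e_rc_24_0 lc_e_Cert_tree lc_e_rc_22_0 lc_e_rc_23_2 lc_e_rc_22_0 lc_e_rc_24_2 lc_e_rc_24_2 lc_e_rc_24_2 lc_e_rc_4_1 lc_e_rc_24_2 lc_e_rc_4_1 lc_e_rc_10_1 lc_e_rc_24_2 lc_e_rc_4_1 lc_e_rc_24_0 lc_e_rc_24_2 lc_e_rc_23_2 lc_e_rc_19_1 lc_e_rc_15_3 lc_e_rc_22_0 lc_e_rc_23_2 lc_e_rc_4_1 lc_e_rc_15_1 lc_e_rc_24_2 lc_e_rc_15_1 lc_e_Cert_tree lc_e_Cert_tree lc_e_Cert_tree lc_e_rc_22_0 lc_e_rc_23_2 lc_e_rc_19_1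 lc_e_rc_10_1 lc_e_rc_22_0 lc_e_rc_15_1 lc_e_rc_22_0 lc_e_Cert_tree lc_e_rc_22_0 lc_e_Cert_tree lc_e_rc_10_3 lc_e_rc_22_0) (@D3.rec (fun _ => (Cert rels S Gen.e)) lc_e_rc_24_2 lc_e_rc_22_0 lc_e_rc_10_1 lc_e_rc_24_2 lc_e_rc_24_2 lc_e_rc_10_1 lc_e_rc_24_0 lc_e_rc_15_1 lc_e_rc_24_2 lc_e_rc_4_1 lc_e_rc_4_1 lc_e_rc_24_2 lc_e_rc_4_1 lc_e_rc_15_1 lc_e_rc_15_1 lc_e_rc_24_2 lc_e_rc_4_1 lc_e_rc_4_1 lc_e_rc_19_3 lc_e_rc_4_1 lc_e_rc_15_1 lc_e_rc_24_2 lc_e_rc_24_2 lc_e_rc_10_3 lc_e_rc_10_1 lc_e_rc_24_2 lc_e_rc_4_1 lc_e_rc_15_1 lc_e_rc_24_2 lc_e_rc_10_1 lc_e_rc_22_0 lc_e_rc_24_2 lc_e_rc_4_1 lc_e_rc_10_1 lc_e_rc_4_1 lc_e_rc_4_1 lc_e_rc_15_3 lc_e_rc_15_1 lc_e_rc_19_3 lc_e_rc_19_3) (@D3.rec (fun _ =>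 (Cert rels S Gen.e)) lc_e_rc_4_1 lc_e_Cert_tree lc_e_rc_22_0 lc_e_rc_24_2 lc_e_Cert_tree lc_e_rc_22_0 lc_e_rc_23_2 lc_e_rc_19_3 lc_e_rc_23_2 lc_e_rc_4_1 lc_e_rc_19_3 lc_e_rc_15_1 lc_e_rc_19_3 lc_e_rc_4_1 lc_e_rc_24_0 lc_e_rc_24_2 lc_e_rc_4_1 lc_e_rc_15_1 lc_e_rc_23_2 lc_e_rc_23_2 lc_e_rc_19_1 lc_e_rc_4_1 lc_e_Cert_tree lc_e_rc_19_5 lc_e_rc_23_2 lc_e_rc_24_2 lc_e_rc_24_0 lc_e_rc_24_2 lc_e_rc_24_2 lc_e_rc_19_3 lc_e_rc_4_1 lc_e_rc_10_1 lc_e_rc_24_2 lc_e_rc_4_1 lc_e_rc_4_3 lc_e_rc_23_2 lc_e_rc_24_2 lc_e_rc_10_1 lc_e_rc_19_3 lc_e_rc_19_3) (@D3.rec (fun _ => (Cert rels S Gen.e)) lc_e_rc_19_3 lc_e_rc_22_0 lc_e_rc_19_3 lc_e_rc_23_2 lc_e_rc_24_2 lc_e_rc_4_1 lc_e_rc_4_3 lc_e_rc_22_0 lc_e_rc_23_2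 lc_e_rc_10_1 lc_e_rc_23_2 lc_e_rc_24_2 lc_e_rc_10_1 lc_e_rc_24_2 lc_e_rc_10_1 lc_e_rc_24_2 lc_e_rc_24_0 lc_e_rc_4_1 lc_e_rc_23_2 lc_e_rc_10_3 lc_e_rc_22_0 lc_e_rc_19_3 lc_e_rc_19_3 lc_e_rc_32_25 lc_e_rc_4_1 lc_e_rc_23_2 lc_e_rc_22_0 lc_e_rc_4_3 lc_e_rc_23_2 lc_e_rc_22_0 lc_e_rc_24_2 lc_e_rc_22_0 lc_e_rc_23_2 lc_e_rc_19_3 lc_e_rc_23_2 lc_e_rc_10_1 lc_e_rc_22_0 lc_e_rc_23_2 lc_e_rc_24_2 lc_e_rc_19_3) (@D3.rec (fun _ => (Cert rels S Gen.e)) lc_e_rc_23_2 lc_e_rc_24_2 lc_e_rc_24_2 lc_e_rc_23_2 lc_e_rc_23_2 lc_e_rc_24_2 lc_e_rc_10_1 lc_e_rc_24_0 lc_e_rc_15_1 lc_e_rc_24_2 lc_e_rc_10_1 lc_e_rc_10_1 lc_e_rc_15_1 lc_e_rc_10_1 lc_e_rc_24_2 lc_e_rc_4_1 lc_e_rc_15_1 lc_e_rc_24_2 lc_e_rc_23_2 lc_e_rc_4_1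 lc_e_rc_23_0 lc_e_rc_15_1 lc_e_rc_24_2 lc_e_rc_4_1 lc_e_rc_23_2 lc_e_rc_23_2 lc_e_rc_23_2 lc_e_rc_22_0 lc_e_rc_10_3 lc_e_rc_4_1 lc_e_Cert_tree lc_e_rc_22_0 lc_e_rc_15_1 lc_e_rc_15_1 lc_e_rc_15_3 lc_e_rc_23_2 lc_e_rc_22_0 lc_e_rc_23_2 lc_e_rc_24_2 lc_e_rc_23_2) (@D3.rec (fun _ => (Cert rels S Gen.e)) lc_e_rc_23_2 lc_e_rc_24_2 lc_e_rc_15_1 lc_e_rc_15_1 lc_e_rc_22_0 lc_e_rc_19_3 lc_e_rc_24_2 lc_e_rc_23_2 lc_e_rc_24_2 lc_e_rc_24_2 lc_e_rc_4_3 lc_e_rc_4_1 lc_e_rc_22_0 lc_e_rc_4_1 lc_e_rc_19_3 lc_e_rc_24_2 lc_e_rc_4_1 lc_e_rc_4_1 lc_e_rc_19_3 lc_e_rc_15_1 lc_e_rc_4_3 lc_e_rc_22_0 lc_e_rc_23_2 lc_e_rc_24_2 lc_e_rc_22_0 lc_e_rc_15_1 lc_e_rc_24_2 lc_e_rc_19_3 lc_e_rc_23_2 lc_e_rc_24_2 lc_e_rc_24_0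 lc_e_rc_19_1 lc_e_rc_10_1 lc_e_rc_4_1 lc_e_rc_15_1 lc_e_rc_24_2 lc_e_Cert_tree lc_e_rc_22_0 lc_e_rc_4_1 lc_e_rc_4_3) (@D3.rec (fun _ => (Cert rels S Gen.e)) lc_e_rc_19_3 lc_e_rc_23_2 lc_e_rc_24_2 lc_e_rc_4_1 lc_e_rc_10_1 lc_e_rc_24_0 lc_e_rc_23_2 lc_e_rc_24_2 lc_e_rc_10_1 lc_e_rc_4_1 lc_e_rc_10_1 lc_e_rc_23_2 lc_e_rc_10_1 lc_e_rc_10_1 lc_e_rc_10_1 lc_e_rc_10_1 lc_e_rc_4_1 lc_e_rc_15_1 lc_e_rc_10_1 lc_e_rc_4_1 lc_e_rc_19_3 lc_e_rc_24_2 lc_e_rc_23_2 lc_e_rc_24_2 lc_e_rc_24_2 lc_e_rc_23_2 lc_e_rc_24_2 lc_e_rc_10_1 lc_e_rc_4_1 lc_e_rc_23_0 lc_e_rc_23_2 lc_e_rc_19_1 lc_e_rc_10_1 lc_e_rc_10_1 lc_e_rc_10_1 lc_e_rc_10_1 lc_e_rc_10_3 lc_e_rc_15_1 lc_e_rc_24_2 lc_e_rc_24_2)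
def ce_e_19 : D2 → D3 → (Cert rels S Gen.e) := @D2.rec (fun _ => D3 → (Cert rels S Gen.e)) (@D3.rec (fun _ => (Cert rels S Gen.e)) lc_e_rc_24_2 lc_e_rc_22_0 lc_e_rc_15_1 lc_e_rc_4_1 lc_e_Cert_tree lc_e_rc_22_0 lc_e_rc_15_1 lc_e_rc_4_3 lc_e_rc_15_3 lc_e_rc_23_0 lc_e_rc_22_0 lc_e_rc_24_2 lc_e_rc_10_3 lc_e_rc_23_0 lc_e_rc_23_2 lc_e_rc_24_2 lc_e_rc_15_1 lc_e_rc_15_1 lc_e_rc_22_0 lc_e_rc_23_2 lc_e_rc_4_3 lc_e_rc_23_2 lc_e_rc_24_2 lc_e_rc_24_2 lc_e_rc_24_2 lc_e_rc_4_1 lc_e_rc_22_0 lc_e_rc_10_1 lc_e_rc_4_1 lc_e_rc_23_2 lc_e_rc_10_1 lc_e_rc_4_1 lc_e_rc_19_3 lc_e_rc_15_1 lc_e_rc_4_3 lc_e_rc_22_0 lc_e_rc_23_2 lc_e_rc_24_2 lc_e_rc_22_0 lc_e_rc_23_2) (@D3.rec (fun _ => (Cert rels S Gen.e)) lc_e_rc_15_1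 lc_e_rc_19_3 lc_e_rc_23_2 lc_e_rc_24_2 lc_e_rc_10_1 lc_e_rc_10_1 lc_e_rc_10_1 lc_e_rc_15_1 lc_e_rc_4_1 lc_e_rc_24_0 lc_e_Cert_tree lc_e_rc_22_0 lc_e_rc_24_2 lc_e_rc_4_1 lc_e_rc_19_3 lc_e_rc_23_2 lc_e_rc_24_2 lc_e_rc_4_1 lc_e_rc_23_0 lc_e_rc_24_2 lc_e_rc_24_2 lc_e_rc_10_1 lc_e_rc_24_2 lc_e_rc_4_1 lc_e_rc_23_2 lc_e_rc_4_1 lc_e_rc_10_1 lc_e_rc_10_1 lc_e_rc_10_1 lc_e_rc_19_3 lc_e_rc_15_1 lc_e_rc_23_2 lc_e_rc_10_1 lc_e_rc_4_1 lc_e_rc_23_0 lc_e_rc_23_2 lc_e_rc_23_2 lc_e_rc_24_2 lc_e_rc_24_0 lc_e_rc_19_3) (@D3.rec (fun _ => (Cert rels S Gen.e)) lc_e_rc_23_2 lc_e_rc_10_1 lc_e_rc_10_1 lc_e_rc_4_1 lc_e_rc_4_1 lc_e_rc_23_2 lc_e_rc_10_1 lc_e_rc_10_1 lc_e_rc_23_0 lc_e_rc_15_1 lc_e_rc_10_1 lc_e_rc_10_1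 lc_e_rc_10_1 lc_e_rc_24_2 lc_e_rc_15_1 lc_e_rc_15_1 lc_e_rc_15_1 lc_e_rc_15_1 lc_e_rc_23_2 lc_e_rc_24_2 lc_e_rc_23_2 lc_e_rc_23_2 lc_e_rc_4_1 lc_e_rc_10_1 lc_e_rc_22_0 lc_e_rc_23_2 lc_e_rc_24_2 lc_e_rc_23_2 lc_e_rc_24_2 lc_e_rc_24_2 lc_e_rc_32_51 lc_e_rc_15_1 lc_e_rc_23_2 lc_e_rc_15_1 lc_e_rc_15_1 lc_e_rc_15_1 lc_e_rc_15_1 lc_e_rc_23_2 lc_e_rc_23_2 lc_e_rc_15_3) (@D3.rec (fun _ => (Cert rels S Gen.e)) lc_e_rc_10_1 lc_e_rc_23_0 lc_e_rc_22_0 lc_e_rc_23_2 lc_e_rc_24_2 lc_e_rc_23_2 lc_e_rc_24_2 lc_e_rc_10_1 lc_e_rc_23_2 lc_e_rc_19_5 lc_e_rc_23_2 lc_e_rc_23_2 lc_e_rc_23_2 lc_e_rc_23_2 lc_e_rc_15_1 lc_e_rc_10_1 lc_e_rc_23_2 lc_e_rc_4_1 lc_e_rc_15_1 lc_e_rc_10_1 lc_e_rc_4_1 lc_e_rc_15_1 lc_e_rc_24_2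 lc_e_rc_4_1 lc_e_rc_24_2 lc_e_rc_4_1 lc_e_rc_15_1 lc_e_rc_15_1 lc_e_rc_10_1 lc_e_rc_24_2 lc_e_rc_4_1 lc_e_rc_15_1 lc_e_rc_10_1 lc_e_rc_4_1 lc_e_rc_15_1 lc_e_rc_23_2 lc_e_rc_4_1 lc_e_rc_23_2 lc_e_rc_4_1 lc_e_rc_15_1) (@D3.rec (fun _ => (Cert rels S Gen.e)) lc_e_rc_10_1 lc_e_rc_4_1 lc_e_rc_23_2 lc_e_rc_24_2 lc_e_rc_19_3 lc_e_rc_10_1 lc_e_rc_10_1 lc_e_rc_10_1 lc_e_rc_22_0 lc_e_rc_22_0 lc_e_rc_4_1 lc_e_rc_23_2 lc_e_rc_24_2 lc_e_rc_22_0 lc_e_rc_22_0 lc_e_rc_23_2 lc_e_rc_24_2 lc_e_rc_4_1 lc_e_rc_24_2 lc_e_rc_15_1 lc_e_rc_23_2 lc_e_rc_24_2 lc_e_rc_10_1 lc_e_rc_23_2 lc_e_rc_15_1 lc_e_rc_19_3 lc_e_rc_24_2 lc_e_rc_4_1 lc_e_rc_23_2 lc_e_rc_22_0 lc_e_rc_10_1 lc_e_rc_23_2 lc_e_rc_15_1 lc_e_rc_22_0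 lc_e_rc_4_1 lc_e_rc_23_2 lc_e_rc_24_2 lc_e_rc_23_2 lc_e_rc_24_2 lc_e_rc_24_2) (@D3.rec (fun _ => (Cert rels S Gen.e)) lc_e_rc_24_0 lc_e_rc_22_0 lc_e_rc_4_3 lc_e_rc_22_0 lc_e_rc_19_3 lc_e_rc_23_2 lc_e_rc_24_2 lc_e_rc_23_2 lc_e_rc_24_2 lc_e_rc_10_1 lc_e_rc_24_2 lc_e_rc_23_2 lc_e_rc_24_2 lc_e_rc_24_2 lc_e_rc_24_0 lc_e_rc_24_2 lc_e_rc_15_1 lc_e_rc_10_1 lc_e_rc_19_3 lc_e_rc_4_1 lc_e_rc_4_1 lc_e_rc_10_1 lc_e_rc_4_1 lc_e_rc_24_2 lc_e_rc_23_2 lc_e_rc_23_2 lc_e_rc_10_1 lc_e_rc_10_1 lc_e_rc_22_0 lc_e_rc_22_0 lc_e_rc_4_1 lc_e_rc_24_2 lc_e_rc_22_0 lc_e_rc_22_0 lc_e_rc_10_1 lc_e_rc_23_2 lc_e_rc_4_1 lc_e_rc_23_2 lc_e_rc_15_1 lc_e_rc_23_2) (@D3.rec (fun _ => (Cert rels S Gen.e)) lc_e_rc_24_2 lc_e_rc_24_2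 lc_e_rc_10_1 lc_e_rc_15_1 lc_e_rc_19_3 lc_e_rc_23_2 lc_e_rc_4_1 lc_e_rc_24_2 lc_e_rc_4_1 lc_e_rc_4_3 lc_e_rc_4_1 lc_e_rc_4_1 lc_e_rc_15_1 lc_e_rc_19_3 lc_e_rc_10_1 lc_e_rc_19_3 lc_e_rc_4_1 lc_e_rc_4_1 lc_e_rc_19_3 lc_e_rc_24_2 lc_e_rc_23_2 lc_e_rc_24_2 lc_e_Cert_tree lc_e_rc_22_0 lc_e_rc_19_3 lc_e_rc_19_3 lc_e_rc_24_2 lc_e_rc_15_1 lc_e_rc_24_2 lc_e_rc_15_1 lc_e_rc_24_2 lc_e_rc_10_1 lc_e_rc_10_1 lc_e_rc_23_2 lc_e_rc_15_1 lc_e_rc_10_1 lc_e_rc_10_1 lc_e_rc_23_0 lc_e_rc_19_3 lc_e_rc_23_2) (@D3.rec (fun _ => (Cert rels S Gen.e)) lc_e_rc_4_3 lc_e_rc_23_2 lc_e_Cert_tree lc_e_rc_22_0 lc_e_rc_19_3 lc_e_rc_19_3 lc_e_rc_23_2 lc_e_rc_15_1 lc_e_rc_23_2 lc_e_rc_15_1 lc_e_rc_23_2 lc_e_rc_10_1 lc_e_rc_10_1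 lc_e_rc_24_2 lc_e_rc_15_1 lc_e_rc_10_1 lc_e_rc_10_1 lc_e_rc_15_1 lc_e_rc_19_3 lc_e_rc_4_3 lc_e_rc_15_1 lc_e_rc_19_3 lc_e_rc_19_3 lc_e_rc_10_1 lc_e_rc_10_1 lc_e_rc_15_1 lc_e_rc_24_2 lc_e_rc_10_1 lc_e_rc_10_1 lc_e_rc_4_3 lc_e_rc_15_1 lc_e_rc_10_1 lc_e_rc_22_0 lc_e_rc_19_3 lc_e_rc_10_1 lc_e_rc_19_3 lc_e_rc_23_0 lc_e_rc_24_0 lc_e_rc_15_1 lc_e_rc_10_1) (@D3.rec (fun _ => (Cert rels S Gen.e)) lc_e_rc_24_2 lc_e_rc_4_3 lc_e_rc_19_3 lc_e_rc_24_0 lc_e_rc_22_0 lc_e_rc_23_2 lc_e_rc_19_3 lc_e_rc_23_2 lc_e_rc_23_2 lc_e_rc_22_0 lc_e_rc_19_3 lc_e_rc_24_2 lc_e_rc_22_0 lc_e_rc_24_2 lc_e_rc_10_1 lc_e_rc_24_2 lc_e_rc_24_2 lc_e_rc_22_0 lc_e_rc_19_3 lc_e_rc_23_2 lc_e_rc_15_1 lc_e_rc_15_1 lc_e_rc_10_1 lc_e_rc_23_2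 lc_e_rc_4_1 lc_e_rc_32_51 lc_e_rc_22_0 lc_e_rc_15_1 lc_e_rc_10_1 lc_e_rc_15_1 lc_e_rc_10_1 lc_e_rc_24_2 lc_e_rc_4_1 lc_e_rc_24_2 lc_e_rc_22_0 lc_e_rc_19_3 lc_e_rc_10_1 lc_e_rc_24_2 lc_e_rc_10_1 lc_e_rc_23_2) (@D3.rec (fun _ => (Cert rels S Gen.e)) lc_e_rc_23_2 lc_e_rc_15_1 lc_e_rc_10_1 lc_e_rc_24_0 lc_e_rc_24_2 lc_e_rc_24_2 lc_e_rc_19_3 lc_e_rc_24_2 lc_e_rc_15_1 lc_e_rc_10_1 lc_e_rc_4_1 lc_e_rc_4_1 lc_e_rc_24_2 lc_e_rc_4_1 lc_e_rc_23_2 lc_e_rc_23_2 lc_e_rc_4_1 lc_e_rc_24_2 lc_e_rc_10_3 lc_e_rc_4_1 lc_e_rc_24_2 lc_e_rc_4_1 lc_e_rc_24_2 lc_e_rc_4_1 lc_e_rc_23_2 lc_e_rc_24_2 lc_e_rc_10_1 lc_e_rc_10_3 lc_e_rc_4_3 lc_e_rc_10_1 lc_e_rc_10_3 lc_e_rc_4_3 lc_e_rc_10_1 lc_e_rc_10_1 lc_e_rc_23_2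 lc_e_rc_4_1 lc_e_rc_10_1 lc_e_rc_4_1 lc_e_rc_10_1 lc_e_rc_24_2) (@D3.rec (fun _ => (Cert rels S Gen.e)) lc_e_rc_4_1 lc_e_rc_10_1 lc_e_rc_23_2 lc_e_rc_24_2 lc_e_rc_4_1 lc_e_rc_10_1 lc_e_rc_15_1 lc_e_Cert_tree lc_e_rc_22_0 lc_e_rc_15_1 lc_e_rc_24_2 lc_e_Cert_tree lc_e_rc_22_0 lc_e_rc_23_2 lc_e_rc_10_1 lc_e_rc_23_2 lc_e_rc_24_2 lc_e_rc_23_2 lc_e_rc_10_1 lc_e_rc_24_2 lc_e_rc_23_2 lc_e_rc_24_2 lc_e_rc_10_1 lc_e_rc_15_1 lc_e_Cert_tree lc_e_rc_22_0 lc_e_rc_15_1 lc_e_rc_23_2 lc_e_Cert_tree lc_e_rc_22_0 lc_e_rc_24_2 lc_e_rc_24_0 lc_e_rc_23_2 lc_e_rc_24_2 lc_e_rc_24_2 lc_e_rc_10_1 lc_e_rc_4_3 lc_e_rc_4_1 lc_e_rc_19_3 lc_e_rc_15_1) (@D3.rec (fun _ => (Cert rels S Gen.e)) lc_e_rc_4_3 lc_e_rc_24_2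 lc_e_rc_19_3 lc_e_rc_4_1 lc_e_rc_4_3 lc_e_rc_23_2 lc_e_rc_24_2 lc_e_rc_10_1 lc_e_rc_23_2 lc_e_rc_24_2 lc_e_rc_19_1 lc_e_rc_15_1 lc_e_rc_10_1 lc_e_rc_10_1 lc_e_rc_4_1 lc_e_rc_10_3 lc_e_rc_4_1 lc_e_rc_23_2 lc_e_rc_23_2 lc_e_rc_4_1 lc_e_rc_24_2 lc_e_rc_10_1 lc_e_rc_24_2 lc_e_rc_15_3 lc_e_rc_4_1 lc_e_rc_4_1 lc_e_rc_15_3 lc_e_rc_24_2 lc_e_rc_10_1 lc_e_rc_23_2 lc_e_rc_15_3 lc_e_rc_24_2 lc_e_rc_24_2 lc_e_rc_10_1 lc_e_rc_24_2 lc_e_rc_23_2 lc_e_rc_10_1 lc_e_rc_4_1 lc_e_rc_4_1 lc_e_rc_4_1) (@D3.rec (fun _ => (Cert rels S Gen.e)) lc_e_rc_23_2 lc_e_rc_24_2 lc_e_rc_22_1 lc_e_rc_24_2 lc_e_rc_10_1 lc_e_rc_24_0 lc_e_rc_10_1 lc_e_rc_4_1 lc_e_rc_15_3 lc_e_rc_23_0 lc_e_rc_4_1 lc_e_rc_22_1 lc_e_rc_22_0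 lc_e_rc_23_2 lc_e_rc_19_3 lc_e_rc_19_3 lc_e_rc_10_1 lc_e_rc_4_1 lc_e_rc_4_1 lc_e_rc_4_1 lc_e_rc_15_1 lc_e_rc_23_2 lc_e_rc_4_1 lc_e_rc_23_2 lc_e_rc_23_0 lc_e_rc_19_3 lc_e_rc_10_1 lc_e_rc_19_1 lc_e_rc_19_1 lc_e_rc_24_0 lc_e_rc_19_1 lc_e_rc_15_1 lc_e_rc_24_2 lc_e_rc_22_1 lc_e_rc_24_2 lc_e_rc_4_3 lc_e_rc_19_3 lc_e_rc_10_1 lc_e_rc_19_1 lc_e_rc_19_1) (@D3.rec (fun _ => (Cert rels S Gen.e)) lc_e_rc_15_1 lc_e_rc_19_1 lc_e_rc_23_2 lc_e_rc_15_1 lc_e_rc_24_2 lc_e_Cert_tree lc_e_rc_23_0 lc_e_rc_22_0 lc_e_rc_10_1 lc_e_rc_23_0 lc_e_rc_4_1 lc_e_Cert_tree lc_e_rc_4_1 lc_e_rc_22_0 lc_e_rc_4_1 lc_e_rc_10_1 lc_e_Cert_tree lc_e_rc_4_1 lc_e_rc_22_0 lc_e_rc_24_2 lc_e_rc_24_2 lc_e_rc_15_1 lc_e_rc_24_2 lc_e_rc_15_1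 lc_e_rc_23_2 lc_e_Cert_tree lc_e_rc_23_2 lc_e_rc_22_0 lc_e_rc_10_1 lc_e_rc_24_0 lc_e_rc_4_1 lc_e_Cert_tree lc_e_rc_4_1 lc_e_rc_4_1 lc_e_rc_4_1 lc_e_rc_10_1 lc_e_Cert_tree lc_e_rc_4_1 lc_e_rc_22_0 lc_e_rc_23_2) (@D3.rec (fun _ => (Cert rels S Gen.e)) lc_e_rc_23_2 lc_e_rc_15_1 lc_e_rc_23_2 lc_e_rc_19_3 lc_e_rc_4_1 lc_e_rc_15_1 lc_e_rc_24_2 lc_e_rc_10_1 lc_e_rc_23_2 lc_e_rc_24_2 lc_e_rc_4_1 lc_e_rc_23_2 lc_e_rc_23_2 lc_e_rc_24_0 lc_e_rc_23_2 lc_e_rc_19_3 lc_e_rc_24_2 lc_e_rc_23_2 lc_e_rc_4_1 lc_e_rc_10_3 lc_e_rc_23_2 lc_e_rc_10_1 lc_e_rc_22_0 lc_e_rc_24_0 lc_e_rc_4_1 lc_e_rc_4_1 lc_e_rc_23_2 lc_e_rc_23_2 lc_e_rc_4_1 lc_e_rc_15_1 lc_e_rc_4_1 lc_e_rc_15_1 lc_e_rc_24_2 lc_e_rc_23_2 lc_e_rc_10_1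 lc_e_rc_4_1 lc_e_rc_4_1 lc_e_rc_15_1 lc_e_rc_23_2 lc_e_rc_22_0) (@D3.rec (fun _ => (Cert rels S Gen.e)) lc_e_rc_22_0 lc_e_rc_23_2 lc_e_rc_10_1 lc_e_rc_4_1 lc_e_rc_19_3 lc_e_rc_24_2 lc_e_rc_15_1 lc_e_rc_19_3 lc_e_rc_4_1 lc_e_rc_19_3 lc_e_rc_4_1 lc_e_rc_19_3 lc_e_rc_10_3 lc_e_rc_15_3 lc_e_rc_22_0 lc_e_rc_23_2 lc_e_rc_19_3 lc_e_rc_10_1 lc_e_rc_10_1 lc_e_rc_10_1 lc_e_rc_10_3 lc_e_rc_10_3 lc_e_rc_10_1 lc_e_rc_23_0 lc_e_rc_4_1 lc_e_rc_19_3 lc_e_rc_24_2 lc_e_rc_4_1 lc_e_rc_22_0 lc_e_rc_22_0 lc_e_rc_24_2 lc_e_rc_24_2 lc_e_rc_24_2 lc_e_rc_10_1 lc_e_rc_10_1 lc_e_rc_4_3 lc_e_rc_10_1 lc_e_rc_24_2 lc_e_rc_19_3 lc_e_rc_23_2) (@D3.rec (fun _ => (Cert rels S Gen.e)) lc_e_rc_10_1 lc_e_rc_10_1 lc_e_rc_23_2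 lc_e_rc_24_2 lc_e_rc_22_0 lc_e_rc_4_3 lc_e_rc_4_1 lc_e_rc_24_2 lc_e_rc_24_2 lc_e_rc_24_2 lc_e_rc_23_2 lc_e_rc_10_1 lc_e_rc_24_2 lc_e_rc_4_1 lc_e_rc_23_0 lc_e_rc_23_2 lc_e_rc_15_1 lc_e_rc_23_0 lc_e_rc_19_3 lc_e_rc_4_1 lc_e_rc_15_3 lc_e_rc_22_0 lc_e_rc_4_1 lc_e_rc_24_2 lc_e_rc_10_1 lc_e_rc_4_1 lc_e_rc_4_1 lc_e_rc_15_1 lc_e_rc_24_0 lc_e_rc_10_3 lc_e_rc_23_2 lc_e_rc_4_1 lc_e_rc_10_1 lc_e_rc_23_2 lc_e_rc_24_0 lc_e_rc_10_1 lc_e_rc_15_1 lc_e_rc_24_2 lc_e_rc_10_1 lc_e_rc_23_2) (@D3.rec (fun _ => (Cert rels S Gen.e)) lc_e_rc_10_3 lc_e_rc_15_1 lc_e_rc_4_1 lc_e_rc_10_1 lc_e_rc_24_2 lc_e_rc_4_1 lc_e_rc_15_1 lc_e_rc_10_1 lc_e_rc_24_2 lc_e_rc_4_3 lc_e_rc_23_2 lc_e_rc_23_0 lc_e_rc_23_2 lc_e_rc_23_2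 lc_e_rc_24_2 lc_e_rc_10_1 lc_e_rc_4_3 lc_e_rc_23_2 lc_e_rc_24_2 lc_e_rc_24_2 lc_e_rc_15_1 lc_e_rc_15_1 lc_e_rc_23_2 lc_e_rc_24_2 lc_e_rc_22_0 lc_e_rc_15_1 lc_e_rc_10_3 lc_e_rc_4_1 lc_e_rc_24_2 lc_e_rc_22_0 lc_e_rc_23_2 lc_e_rc_24_2 lc_e_rc_4_1 lc_e_rc_10_1 lc_e_rc_4_3 lc_e_rc_22_1 lc_e_rc_24_2 lc_e_rc_4_1 lc_e_rc_15_1 lc_e_rc_23_2) (@D3.rec (fun _ => (Cert rels S Gen.e)) lc_e_rc_22_0 lc_e_rc_23_2 lc_e_rc_24_2 lc_e_rc_23_2 lc_e_rc_24_2 lc_e_rc_4_3 lc_e_rc_15_1 lc_e_rc_4_1 lc_e_rc_24_2 lc_e_rc_23_0 lc_e_rc_4_1 lc_e_rc_10_1 lc_e_rc_24_2 lc_e_rc_10_1 lc_e_rc_24_2 lc_e_rc_23_2 lc_e_rc_4_1 lc_e_rc_24_2 lc_e_rc_4_1 lc_e_rc_10_1 lc_e_rc_4_1 lc_e_rc_24_2 lc_e_rc_23_2 lc_e_rc_4_1 lc_e_rc_4_1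 lc_e_rc_23_2 lc_e_rc_23_2 lc_e_rc_24_2 lc_e_rc_24_2 lc_e_rc_10_1 lc_e_rc_10_1 lc_e_rc_24_2 lc_e_rc_15_1 lc_e_rc_4_1 lc_e_rc_4_3 lc_e_rc_23_2 lc_e_rc_24_2 lc_e_rc_4_3 lc_e_rc_23_2 lc_e_rc_15_1) (@D3.rec (fun _ => (Cert rels S Gen.e)) lc_e_rc_23_2 lc_e_rc_24_2 lc_e_rc_22_0 lc_e_rc_4_1 lc_e_rc_15_1 lc_e_rc_4_3 lc_e_rc_4_1 lc_e_rc_22_0 lc_e_rc_23_2 lc_e_rc_24_2 lc_e_rc_4_1 lc_e_rc_10_1 lc_e_rc_23_2 lc_e_rc_10_1 lc_e_rc_4_3 lc_e_rc_4_1 lc_e_rc_15_1 lc_e_rc_24_2 lc_e_rc_22_0 lc_e_rc_23_2 lc_e_rc_24_2 lc_e_rc_24_2 lc_e_rc_15_3 lc_e_rc_32_77 lc_e_rc_4_1 lc_e_rc_15_1 lc_e_rc_19_1 lc_e_rc_23_2 lc_e_rc_24_2 lc_e_rc_4_3 lc_e_rc_32_77 lc_e_rc_23_2 lc_e_rc_24_2 lc_e_rc_15_1 lc_e_rc_23_2 lc_e_rc_24_2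 lc_e_rc_24_2 lc_e_rc_32_25 lc_e_rc_22_0 lc_e_rc_23_2) (@D3.rec (fun _ => (Cert rels S Gen.e)) lc_e_rc_23_2 lc_e_rc_10_1 lc_e_rc_23_2 lc_e_rc_23_2 lc_e_rc_23_2 lc_e_rc_4_1 lc_e_rc_23_2 lc_e_rc_24_2 lc_e_rc_10_1 lc_e_rc_24_0 lc_e_rc_4_1 lc_e_rc_15_1 lc_e_rc_19_1 lc_e_rc_23_2 lc_e_rc_32_77 lc_e_rc_23_2 lc_e_rc_23_2 lc_e_rc_24_2 lc_e_rc_19_5 lc_e_rc_23_2 lc_e_rc_24_2 lc_e_rc_24_2 lc_e_rc_4_1 lc_e_rc_22_0 lc_e_rc_4_1 lc_e_rc_23_2 lc_e_rc_23_0 lc_e_rc_24_2 lc_e_rc_23_2 lc_e_rc_10_1 lc_e_rc_23_2 lc_e_rc_23_2 lc_e_rc_24_2 lc_e_rc_10_1 lc_e_rc_24_2 lc_e_rc_22_0 lc_e_rc_22_0 lc_e_rc_22_0 lc_e_rc_22_0 lc_e_rc_4_1) (@D3.rec (fun _ => (Cert rels S Gen.e)) lc_e_rc_23_2 lc_e_rc_4_1 lc_e_rc_24_2 lc_e_rc_24_2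 lc_e_rc_23_2 lc_e_rc_10_1 lc_e_rc_10_1 lc_e_rc_4_1 lc_e_rc_10_1 lc_e_rc_15_1 lc_e_rc_15_1 lc_e_rc_10_1 lc_e_rc_23_2 lc_e_rc_19_3 lc_e_rc_4_3 lc_e_rc_19_3 lc_e_rc_19_3 lc_e_rc_4_3 lc_e_rc_19_3 lc_e_rc_10_1 lc_e_rc_10_1 lc_e_rc_32_25 lc_e_rc_24_2 lc_e_rc_22_0 lc_e_rc_24_2 lc_e_rc_10_1 lc_e_rc_19_3 lc_e_rc_10_1 lc_e_rc_4_1 lc_e_rc_15_1 lc_e_rc_23_2 lc_e_rc_15_1 lc_e_rc_23_2 lc_e_rc_15_1 lc_e_rc_23_2 lc_e_rc_10_3 lc_e_rc_4_1 lc_e_rc_23_2 lc_e_rc_24_0 lc_e_rc_22_0) (@D3.rec (fun _ => (Cert rels S Gen.e)) lc_e_rc_10_1 lc_e_rc_10_1 lc_e_rc_23_2 lc_e_rc_24_2 lc_e_rc_4_1 lc_e_rc_24_2 lc_e_rc_10_1 lc_e_rc_4_1 lc_e_rc_32_25 lc_e_rc_23_2 lc_e_rc_22_0 lc_e_rc_23_2 lc_e_rc_10_1 lc_e_rc_19_3 lc_e_rc_10_1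 lc_e_rc_4_1 lc_e_rc_15_1 lc_e_rc_24_2 lc_e_rc_15_1 lc_e_rc_24_2 lc_e_rc_15_1 lc_e_rc_24_2 lc_e_rc_4_1 lc_e_rc_24_2 lc_e_rc_15_1 lc_e_rc_10_1 lc_e_rc_10_1 lc_e_rc_24_2 lc_e_rc_23_2 lc_e_rc_4_1 lc_e_rc_23_2 lc_e_rc_23_0 lc_e_rc_4_1 lc_e_rc_22_0 lc_e_rc_22_0 lc_e_rc_19_3 lc_e_rc_10_1 lc_e_rc_23_2 lc_e_rc_4_1 lc_e_rc_24_2) (@D3.rec (fun _ => (Cert rels S Gen.e)) lc_e_rc_19_3 lc_e_rc_10_1 lc_e_rc_4_1 lc_e_rc_23_2 lc_e_rc_10_1 lc_e_rc_15_1 lc_e_rc_24_2 lc_e_rc_23_2 lc_e_rc_19_3 lc_e_rc_4_1 lc_e_rc_19_3 lc_e_rc_4_1 lc_e_rc_22_0 lc_e_rc_22_0 lc_e_rc_23_2 lc_e_rc_4_1 lc_e_rc_4_1 lc_e_rc_19_3 lc_e_rc_24_2 lc_e_rc_4_1 lc_e_rc_23_2 lc_e_rc_4_3 lc_e_rc_23_2 lc_e_rc_10_1 lc_e_rc_23_0 lc_e_rc_4_1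 lc_e_rc_10_1 lc_e_rc_24_2 lc_e_rc_10_1 lc_e_rc_19_3 lc_e_rc_10_1 lc_e_rc_23_2 lc_e_rc_19_3 lc_e_rc_10_1 lc_e_rc_24_2 lc_e_rc_4_1 lc_e_rc_23_2 lc_e_rc_19_3 lc_e_rc_10_1 lc_e_rc_4_1) (@D3.rec (fun _ => (Cert rels S Gen.e)) lc_e_rc_24_2 lc_e_rc_10_1 lc_e_rc_15_1 lc_e_rc_23_2 lc_e_rc_23_2 lc_e_rc_23_0 lc_e_rc_24_0 lc_e_rc_22_0 lc_e_rc_22_0 lc_e_rc_24_2 lc_e_rc_15_1 lc_e_rc_23_2 lc_e_rc_19_3 lc_e_rc_24_2 lc_e_rc_24_2 lc_e_rc_24_2 lc_e_rc_10_1 lc_e_rc_24_0 lc_e_rc_19_3 lc_e_rc_10_1 lc_e_rc_23_2 lc_e_rc_10_1 lc_e_rc_15_3 lc_e_rc_4_3 lc_e_rc_24_2 lc_e_rc_15_1 lc_e_rc_4_3 lc_e_rc_4_1 lc_e_rc_22_0 lc_e_rc_23_2 lc_e_rc_24_2 lc_e_rc_19_3 lc_e_rc_24_2 lc_e_rc_10_1 lc_e_rc_24_2 lc_e_rc_23_2 lc_e_rc_24_2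 lc_e_rc_10_1 lc_e_rc_15_1 lc_e_rc_4_1) (@D3.rec (fun _ => (Cert rels S Gen.e)) lc_e_rc_22_0 lc_e_rc_23_2 lc_e_rc_24_2 lc_e_rc_19_3 lc_e_rc_10_1 lc_e_rc_24_0 lc_e_rc_23_2 lc_e_rc_24_2 lc_e_rc_15_1 lc_e_rc_23_2 lc_e_rc_24_2 lc_e_rc_24_2 lc_e_rc_4_3 lc_e_rc_10_1 lc_e_rc_23_2 lc_e_rc_23_2 lc_e_rc_10_1 lc_e_rc_23_0 lc_e_rc_23_0 lc_e_rc_22_0 lc_e_rc_23_2 lc_e_rc_24_2 lc_e_rc_23_2 lc_e_rc_23_2 lc_e_rc_23_2 lc_e_rc_24_2 lc_e_rc_24_2 lc_e_rc_4_3 lc_e_rc_10_1 lc_e_rc_22_0 lc_e_rc_23_2 lc_e_rc_22_0 lc_e_rc_24_2 lc_e_rc_4_1 lc_e_rc_19_3 lc_e_rc_22_0 lc_e_rc_23_2 lc_e_rc_4_1 lc_e_rc_4_1 lc_e_rc_24_2)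
def ce_e_20 : D2 → D3 → (Cert rels S Gen.e) := @D2.rec (fun _ => D3 → (Cert rels S Gen.e)) (@D3.rec (fun _ => (Cert rels S Gen.e)) lc_e_rc_10_3 lc_e_rc_24_2 lc_e_rc_19_3 lc_e_rc_4_1 lc_e_rc_4_3 lc_e_rc_19_3 lc_e_rc_24_0 lc_e_rc_22_0 lc_e_rc_15_1 lc_e_rc_23_2 lc_e_rc_23_2 lc_e_rc_23_2 lc_e_rc_19_3 lc_e_rc_4_1 lc_e_rc_4_3 lc_e_rc_19_3 lc_e_rc_4_1 lc_e_rc_15_1 lc_e_rc_15_1 lc_e_rc_22_0 lc_e_rc_22_0 lc_e_rc_10_1 lc_e_rc_10_1 lc_e_rc_24_2 lc_e_rc_23_2 lc_e_rc_24_2 lc_e_rc_23_2 lc_e_rc_32_51 lc_e_rc_22_0 lc_e_rc_10_1 lc_e_rc_22_0 lc_e_rc_19_3 lc_e_rc_10_1 lc_e_rc_4_1 lc_e_rc_19_3 lc_e_rc_10_1 lc_e_rc_4_1 lc_e_rc_24_2 lc_e_rc_4_1 lc_e_rc_15_1) (@D3.rec (fun _ => (Cert rels S Gen.e)) lc_e_rc_10_1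 lc_e_rc_23_2 lc_e_rc_24_2 lc_e_rc_15_1 lc_e_rc_10_1 lc_e_rc_24_2 lc_e_rc_23_2 lc_e_rc_4_1 lc_e_rc_15_1 lc_e_rc_19_3 lc_e_Cert_tree lc_e_rc_23_2 lc_e_rc_24_2 lc_e_rc_22_0 lc_e_rc_4_1 lc_e_rc_15_1 lc_e_rc_24_0 lc_e_Cert_tree lc_e_rc_24_2 lc_e_rc_23_2 lc_e_rc_22_0 lc_e_rc_23_2 lc_e_rc_24_2 lc_e_rc_19_3 lc_e_rc_19_3 lc_e_rc_10_1 lc_e_rc_4_1 lc_e_rc_23_2 lc_e_rc_4_1 lc_e_rc_22_0 lc_e_rc_23_2 lc_e_rc_23_2 lc_e_rc_4_1 lc_e_rc_24_2 lc_e_rc_24_2 lc_e_rc_15_1 lc_e_rc_4_1 lc_e_rc_23_2 lc_e_rc_23_2 lc_e_rc_24_2) (@D3.rec (fun _ => (Cert rels S Gen.e)) lc_e_rc_15_1 lc_e_rc_15_3 lc_e_rc_24_2 lc_e_rc_10_1 lc_e_rc_23_2 lc_e_rc_23_2 lc_e_rc_24_2 lc_e_rc_19_3 lc_e_rc_19_3 lc_e_rc_4_1 lc_e_rc_24_2 lc_e_rc_10_1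 lc_e_rc_4_1 lc_e_rc_22_0 lc_e_rc_23_2 lc_e_rc_24_2 lc_e_rc_4_1 lc_e_rc_23_2 lc_e_rc_23_2 lc_e_rc_4_1 lc_e_rc_4_1 lc_e_rc_24_2 lc_e_rc_15_1 lc_e_rc_23_2 lc_e_rc_4_1 lc_e_rc_10_1 lc_e_rc_4_1 lc_e_rc_10_1 lc_e_rc_24_2 lc_e_rc_24_2 lc_e_rc_10_1 lc_e_rc_24_2 lc_e_rc_10_1 lc_e_rc_10_1 lc_e_rc_19_3 lc_e_rc_10_1 lc_e_rc_23_2 lc_e_rc_15_1 lc_e_rc_23_2 lc_e_rc_4_1) (@D3.rec (fun _ => (Cert rels S Gen.e)) lc_e_rc_23_2 lc_e_rc_10_1 lc_e_rc_4_1 lc_e_rc_15_1 lc_e_rc_23_2 lc_e_rc_10_1 lc_e_rc_4_1 lc_e_rc_24_2 lc_e_rc_23_2 lc_e_rc_24_2 lc_e_rc_4_1 lc_e_rc_32_77 lc_e_rc_19_3 lc_e_rc_15_1 lc_e_rc_15_1 lc_e_rc_32_51 lc_e_rc_22_0 lc_e_rc_24_2 lc_e_rc_23_2 lc_e_rc_23_2 lc_e_rc_24_2 lc_e_rc_10_1 lc_e_rc_4_1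 lc_e_rc_10_1 lc_e_rc_10_1 lc_e_rc_24_2 lc_e_rc_15_1 lc_e_rc_24_2 lc_e_rc_4_1 lc_e_rc_4_3 lc_e_rc_10_1 lc_e_rc_4_1 lc_e_rc_15_1 lc_e_rc_24_2 lc_e_rc_10_1 lc_e_rc_10_1 lc_e_rc_4_1 lc_e_rc_32_51 lc_e_rc_4_3 lc_e_rc_4_1) (@D3.rec (fun _ => (Cert rels S Gen.e)) lc_e_rc_32_77 lc_e_rc_19_3 lc_e_rc_32_77 lc_e_rc_19_3 lc_e_rc_23_2 lc_e_rc_10_1 lc_e_Cert_tree lc_e_rc_10_1 lc_e_rc_22_0 lc_e_rc_24_2 lc_e_rc_24_2 lc_e_rc_10_1 lc_e_rc_22_1 lc_e_rc_15_1 lc_e_rc_23_2 lc_e_rc_19_3 lc_e_rc_4_1 lc_e_rc_15_1 lc_e_rc_23_2 lc_e_rc_10_1 lc_e_rc_4_1 lc_e_rc_24_2 lc_e_rc_15_1 lc_e_rc_15_3 lc_e_rc_4_1 lc_e_rc_4_1 lc_e_rc_10_3 lc_e_rc_23_0 lc_e_rc_4_1 lc_e_rc_24_0 lc_e_rc_24_0 lc_e_rc_10_1 lc_e_Cert_tree lc_e_rc_15_3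 lc_e_rc_22_0 lc_e_rc_23_2 lc_e_rc_10_1 lc_e_rc_10_1 lc_e_rc_10_3 lc_e_rc_4_1) (@D3.rec (fun _ => (Cert rels S Gen.e)) lc_e_rc_24_2 lc_e_rc_19_3 lc_e_rc_4_1 lc_e_rc_15_1 lc_e_rc_24_2 lc_e_rc_10_1 lc_e_rc_10_3 lc_e_rc_4_1 lc_e_rc_10_1 lc_e_rc_4_3 lc_e_rc_15_1 lc_e_rc_15_1 lc_e_rc_15_1 lc_e_rc_10_1 lc_e_rc_4_1 lc_e_rc_4_1 lc_e_rc_24_2 lc_e_rc_19_3 lc_e_rc_19_3 lc_e_rc_19_5 lc_e_rc_19_3 lc_e_rc_23_2 lc_e_rc_10_1 lc_e_rc_23_2 lc_e_rc_23_2 lc_e_rc_19_5 lc_e_rc_4_1 lc_e_rc_24_2 lc_e_rc_10_1 lc_e_rc_10_1 lc_e_rc_4_1 lc_e_rc_24_2 lc_e_rc_4_1 lc_e_rc_4_1 lc_e_rc_23_2 lc_e_rc_10_1 lc_e_rc_4_1 lc_e_rc_4_1 lc_e_rc_4_1 lc_e_rc_23_2) (@D3.rec (fun _ => (Cert rels S Gen.e)) lc_e_rc_24_2 lc_e_rc_4_1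 lc_e_rc_10_1 lc_e_rc_19_3 lc_e_rc_15_1 lc_e_rc_10_1 lc_e_rc_19_3 lc_e_rc_19_3 lc_e_rc_22_0 lc_e_rc_23_0 lc_e_rc_10_1 lc_e_rc_19_3 lc_e_rc_15_1 lc_e_rc_22_1 lc_e_rc_22_0 lc_e_rc_23_2 lc_e_rc_19_3 lc_e_rc_23_2 lc_e_rc_15_1 lc_e_rc_19_3 lc_e_rc_24_2 lc_e_rc_10_1 lc_e_rc_15_1 lc_e_rc_4_1 lc_e_rc_15_1 lc_e_rc_15_1 lc_e_rc_10_1 lc_e_rc_4_1 lc_e_rc_10_1 lc_e_rc_4_1 lc_e_rc_4_1 lc_e_rc_24_2 lc_e_rc_10_1 lc_e_rc_4_1 lc_e_rc_4_1 lc_e_rc_24_0 lc_e_rc_24_2 lc_e_rc_23_2 lc_e_rc_4_1 lc_e_rc_10_1) (@D3.rec (fun _ => (Cert rels S Gen.e)) lc_e_rc_19_3 lc_e_rc_15_1 lc_e_rc_10_1 lc_e_rc_22_0 lc_e_rc_4_1 lc_e_rc_10_1 lc_e_rc_19_3 lc_e_rc_4_1 lc_e_rc_23_2 lc_e_rc_22_0 lc_e_rc_24_2 lc_e_rc_24_2 lc_e_rc_24_2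 lc_e_rc_10_1 lc_e_rc_10_1 lc_e_rc_4_1 lc_e_rc_15_1 lc_e_rc_23_2 lc_e_rc_15_1 lc_e_rc_4_1 lc_e_rc_4_1 lc_e_rc_19_1 lc_e_rc_10_1 lc_e_rc_24_2 lc_e_rc_15_1 lc_e_rc_10_1 lc_e_rc_24_0 lc_e_rc_4_1 lc_e_rc_23_2 lc_e_rc_10_1 lc_e_rc_4_1 lc_e_rc_24_0 lc_e_rc_23_2 lc_e_rc_32_77 lc_e_rc_10_1 lc_e_rc_24_2 lc_e_rc_4_1 lc_e_rc_10_3 lc_e_rc_24_2 lc_e_rc_4_1) (@D3.rec (fun _ => (Cert rels S Gen.e)) lc_e_rc_15_1 lc_e_rc_24_2 lc_e_rc_10_1 lc_e_rc_15_1 lc_e_rc_24_2 lc_e_rc_10_3 lc_e_rc_22_0 lc_e_rc_23_2 lc_e_rc_10_1 lc_e_rc_15_1 lc_e_rc_4_1 lc_e_rc_22_1 lc_e_rc_10_1 lc_e_rc_19_1 lc_e_rc_22_1 lc_e_rc_10_1 lc_e_rc_24_2 lc_e_rc_23_2 lc_e_rc_19_1 lc_e_rc_10_1 lc_e_rc_24_2 lc_e_rc_15_1 lc_e_rc_24_2 lc_e_rc_4_1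 lc_e_rc_4_1 lc_e_rc_15_1 lc_e_rc_23_2 lc_e_rc_23_2 lc_e_rc_10_1 lc_e_rc_10_1 lc_e_rc_24_2 lc_e_rc_15_1 lc_e_rc_4_1 lc_e_rc_4_1 lc_e_rc_19_1 lc_e_rc_10_1 lc_e_rc_10_1 lc_e_rc_15_1 lc_e_rc_10_1 lc_e_rc_10_1) (@D3.rec (fun _ => (Cert rels S Gen.e)) lc_e_rc_4_1 lc_e_rc_24_2 lc_e_rc_10_1 lc_e_rc_10_1 lc_e_rc_24_2 lc_e_rc_23_2 lc_e_rc_4_1 lc_e_rc_15_1 lc_e_rc_10_1 lc_e_rc_23_2 lc_e_rc_23_0 lc_e_rc_19_3 lc_e_rc_4_1 lc_e_rc_15_1 lc_e_rc_15_1 lc_e_rc_4_1 lc_e_rc_15_1 lc_e_rc_23_2 lc_e_rc_10_3 lc_e_rc_22_0 lc_e_rc_24_2 lc_e_rc_10_1 lc_e_rc_15_1 lc_e_rc_4_1 lc_e_rc_23_2 lc_e_rc_10_1 lc_e_rc_4_1 lc_e_rc_23_2 lc_e_rc_24_2 lc_e_rc_23_2 lc_e_rc_15_1 lc_e_rc_24_2 lc_e_rc_15_1 lc_e_rc_4_1 lc_e_rc_15_1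 lc_e_rc_10_1 lc_e_rc_10_1 lc_e_rc_15_1 lc_e_rc_15_1 lc_e_rc_10_3) (@D3.rec (fun _ => (Cert rels S Gen.e)) lc_e_rc_10_1 lc_e_rc_23_2 lc_e_rc_4_3 lc_e_rc_10_1 lc_e_rc_19_3 lc_e_rc_4_1 lc_e_rc_23_2 lc_e_rc_10_1 lc_e_rc_10_1 lc_e_rc_23_2 lc_e_rc_4_1 lc_e_rc_15_1 lc_e_rc_24_2 lc_e_rc_15_1 lc_e_rc_15_1 lc_e_rc_10_1 lc_e_rc_10_1 lc_e_rc_23_0 lc_e_rc_15_1 lc_e_rc_10_3 lc_e_rc_10_1 lc_e_rc_24_2 lc_e_rc_4_3 lc_e_rc_15_1 lc_e_rc_10_1 lc_e_rc_4_1 lc_e_rc_24_2 lc_e_rc_10_1 lc_e_rc_15_1 lc_e_rc_4_1 lc_e_rc_10_1 lc_e_rc_23_2 lc_e_rc_10_1 lc_e_rc_15_1 lc_e_rc_23_2 lc_e_rc_10_1 lc_e_rc_10_1 lc_e_rc_10_3 lc_e_rc_10_3 lc_e_rc_4_1) (@D3.rec (fun _ => (Cert rels S Gen.e)) lc_e_rc_22_0 lc_e_rc_19_3 lc_e_rc_15_1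 lc_e_rc_19_3 lc_e_rc_4_3 lc_e_rc_10_3 lc_e_rc_19_3 lc_e_rc_15_1 lc_e_rc_19_3 lc_e_rc_19_3 lc_e_rc_4_1 lc_e_rc_22_0 lc_e_rc_19_3 lc_e_rc_23_2 lc_e_rc_23_2 lc_e_rc_19_3 lc_e_rc_19_3 lc_e_rc_10_1 lc_e_rc_19_3 lc_e_rc_24_2 lc_e_rc_23_2 lc_e_rc_22_0 lc_e_rc_22_0 lc_e_rc_22_0 lc_e_rc_22_0 lc_e_rc_10_1 lc_e_rc_15_3 lc_e_rc_10_1 lc_e_rc_23_2 lc_e_rc_10_1 lc_e_rc_24_2 lc_e_rc_4_1 lc_e_rc_23_2 lc_e_rc_10_1 lc_e_rc_10_1 lc_e_rc_4_1 lc_e_rc_15_1 lc_e_rc_23_0 lc_e_rc_19_3 lc_e_rc_10_1) (@D3.rec (fun _ => (Cert rels S Gen.e)) lc_e_rc_24_2 lc_e_rc_24_2 lc_e_rc_10_1 lc_e_rc_22_0 lc_e_rc_23_2 lc_e_rc_4_1 lc_e_rc_23_2 lc_e_rc_10_1 lc_e_rc_22_0 lc_e_rc_24_2 lc_e_rc_19_3 lc_e_rc_24_2 lc_e_rc_15_1 lc_e_rc_4_1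 lc_e_Cert_tree lc_e_rc_4_1 lc_e_Cert_tree lc_e_rc_24_0 lc_e_rc_10_1 lc_e_rc_23_2 lc_e_rc_24_2 lc_e_rc_10_1 lc_e_rc_10_1 lc_e_rc_15_1 lc_e_rc_23_2 lc_e_rc_4_1 lc_e_rc_23_2 lc_e_rc_10_1 lc_e_rc_24_2 lc_e_rc_15_1 lc_e_rc_22_1 lc_e_rc_4_1 lc_e_rc_10_1 lc_e_rc_10_1 lc_e_rc_15_1 lc_e_rc_24_2 lc_e_rc_4_1 lc_e_rc_24_2 lc_e_rc_15_1 lc_e_rc_4_1) (@D3.rec (fun _ => (Cert rels S Gen.e)) lc_e_rc_4_1 lc_e_rc_10_1 lc_e_rc_4_1 lc_e_rc_4_3 lc_e_rc_4_1 lc_e_rc_4_1 lc_e_rc_15_1 lc_e_rc_22_0 lc_e_rc_24_2 lc_e_rc_4_1 lc_e_rc_4_1 lc_e_rc_10_3 lc_e_rc_22_0 lc_e_rc_4_1 lc_e_Cert_tree lc_e_rc_4_1 lc_e_Cert_tree lc_e_rc_10_1 lc_e_rc_4_1 lc_e_rc_22_0 lc_e_rc_10_1 lc_e_rc_4_1 lc_e_rc_22_0 lc_e_rc_19_1 lc_e_rc_19_3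 lc_e_rc_19_3 lc_e_rc_4_1 lc_e_rc_22_0 lc_e_rc_23_2 lc_e_rc_24_2 lc_e_rc_22_0 lc_e_rc_19_1 lc_e_rc_19_3 lc_e_rc_4_1 lc_e_rc_23_2 lc_e_rc_15_1 lc_e_rc_19_3 lc_e_rc_23_2 lc_e_rc_10_1 lc_e_rc_15_1) (@D3.rec (fun _ => (Cert rels S Gen.e)) lc_e_rc_24_2 lc_e_rc_23_2 lc_e_rc_10_1 lc_e_rc_4_1 lc_e_rc_4_1 lc_e_rc_4_1 lc_e_rc_24_2 lc_e_rc_24_2 lc_e_rc_24_2 lc_e_rc_19_3 lc_e_rc_24_2 lc_e_rc_4_1 lc_e_rc_10_1 lc_e_rc_15_1 lc_e_rc_23_2 lc_e_rc_23_2 lc_e_rc_24_2 lc_e_rc_24_2 lc_e_rc_4_3 lc_e_rc_10_1 lc_e_rc_24_2 lc_e_rc_10_1 lc_e_rc_4_1 lc_e_rc_15_1 lc_e_rc_24_2 lc_e_rc_10_1 lc_e_rc_4_1 lc_e_rc_4_1 lc_e_rc_19_3 lc_e_rc_10_1 lc_e_rc_15_1 lc_e_rc_23_2 lc_e_rc_15_1 lc_e_rc_23_2 lc_e_rc_24_2 lc_e_rc_23_2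 lc_e_rc_4_1 lc_e_rc_4_1 lc_e_rc_23_2 lc_e_rc_4_1) (@D3.rec (fun _ => (Cert rels S Gen.e)) lc_e_rc_24_2 lc_e_rc_15_1 lc_e_rc_4_3 lc_e_rc_10_1 lc_e_rc_23_2 lc_e_rc_24_2 lc_e_rc_24_2 lc_e_rc_10_1 lc_e_rc_4_1 lc_e_rc_4_1 lc_e_rc_10_1 lc_e_rc_4_1 lc_e_rc_23_2 lc_e_rc_23_2 lc_e_rc_10_1 lc_e_rc_15_3 lc_e_rc_10_1 lc_e_rc_15_1 lc_e_rc_24_2 lc_e_rc_23_2 lc_e_rc_24_2 lc_e_rc_32_77 lc_e_rc_24_2 lc_e_rc_10_1 lc_e_rc_23_2 lc_e_rc_10_1 lc_e_rc_4_1 lc_e_rc_15_1 lc_e_rc_23_2 lc_e_rc_10_1 lc_e_rc_19_3 lc_e_rc_24_0 lc_e_rc_10_1 lc_e_rc_23_2 lc_e_rc_15_1 lc_e_rc_24_2 lc_e_rc_4_1 lc_e_rc_10_1 lc_e_rc_24_2 lc_e_rc_24_2) (@D3.rec (fun _ => (Cert rels S Gen.e)) lc_e_rc_4_1 lc_e_rc_24_2 lc_e_rc_24_2 lc_e_rc_4_1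 lc_e_Cert_tree lc_e_rc_22_0 lc_e_rc_23_2 lc_e_rc_23_2 lc_e_rc_10_1 lc_e_rc_4_1 lc_e_rc_32_25 lc_e_rc_15_1 lc_e_rc_22_0 lc_e_rc_23_2 lc_e_rc_22_1 lc_e_rc_22_0 lc_e_rc_4_3 lc_e_rc_22_0 lc_e_rc_10_1 lc_e_rc_4_1 lc_e_rc_15_1 lc_e_rc_19_5 lc_e_rc_23_2 lc_e_rc_15_1 lc_e_rc_10_1 lc_e_rc_24_2 lc_e_rc_10_1 lc_e_rc_4_1 lc_e_rc_15_1 lc_e_rc_24_2 lc_e_rc_4_1 lc_e_rc_10_1 lc_e_rc_4_1 lc_e_rc_15_1 lc_e_rc_24_2 lc_e_rc_10_1 lc_e_rc_4_1 lc_e_rc_15_1 lc_e_rc_24_2 lc_e_rc_10_1) (@D3.rec (fun _ => (Cert rels S Gen.e)) lc_e_rc_24_2 lc_e_Cert_tree lc_e_rc_4_1 lc_e_rc_19_3 lc_e_rc_4_1 lc_e_rc_22_0 lc_e_rc_19_3 lc_e_rc_4_1 lc_e_rc_24_2 lc_e_rc_24_2 lc_e_rc_10_1 lc_e_rc_15_1 lc_e_rc_23_2 lc_e_rc_15_1 lc_e_rc_22_0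 lc_e_rc_24_2 lc_e_rc_19_3 lc_e_rc_22_0 lc_e_rc_10_1 lc_e_rc_22_0 lc_e_rc_10_1 lc_e_rc_4_1 lc_e_rc_15_1 lc_e_rc_19_5 lc_e_rc_4_3 lc_e_rc_19_1 lc_e_rc_10_1 lc_e_rc_24_2 lc_e_rc_10_1 lc_e_rc_4_1 lc_e_rc_15_1 lc_e_rc_23_2 lc_e_rc_4_1 lc_e_rc_10_1 lc_e_rc_4_1 lc_e_rc_15_1 lc_e_rc_23_2 lc_e_rc_10_1 lc_e_rc_4_1 lc_e_rc_15_1) (@D3.rec (fun _ => (Cert rels S Gen.e)) lc_e_rc_23_2 lc_e_rc_10_1 lc_e_rc_10_1 lc_e_rc_4_1 lc_e_rc_23_2 lc_e_rc_4_1 lc_e_rc_19_3 lc_e_rc_10_1 lc_e_rc_23_2 lc_e_rc_23_2 lc_e_rc_4_1 lc_e_rc_24_2 lc_e_rc_19_1 lc_e_rc_15_3 lc_e_rc_22_0 lc_e_rc_10_1 lc_e_Cert_tree lc_e_rc_23_2 lc_e_rc_19_1 lc_e_rc_22_0 lc_e_rc_19_3 lc_e_rc_10_1 lc_e_rc_15_3 lc_e_rc_19_1 lc_e_rc_10_3 lc_e_rc_23_2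 lc_e_rc_4_1 lc_e_rc_4_3 lc_e_rc_22_0 lc_e_rc_24_2 lc_e_rc_10_1 lc_e_rc_4_1 lc_e_rc_24_2 lc_e_rc_22_0 lc_e_rc_22_0 lc_e_rc_19_1 lc_e_rc_22_0 lc_e_rc_24_2 lc_e_rc_19_3 lc_e_rc_23_2) (@D3.rec (fun _ => (Cert rels S Gen.e)) lc_e_rc_10_1 lc_e_rc_15_1 lc_e_rc_15_1 lc_e_rc_15_3 lc_e_rc_24_2 lc_e_rc_10_1 lc_e_Cert_tree lc_e_rc_4_1 lc_e_rc_10_3 lc_e_rc_22_0 lc_e_rc_23_2 lc_e_rc_23_2 lc_e_rc_23_2 lc_e_rc_4_1 lc_e_Cert_tree lc_e_rc_22_0 lc_e_rc_23_2 lc_e_rc_4_1 lc_e_rc_22_0 lc_e_rc_23_2 lc_e_rc_24_2 lc_e_rc_24_2 lc_e_rc_19_1 lc_e_rc_23_2 lc_e_rc_10_1 lc_e_rc_4_1 lc_e_rc_15_1 lc_e_rc_10_1 lc_e_rc_4_1 lc_e_rc_4_1 lc_e_rc_15_1 lc_e_rc_4_1 lc_e_rc_10_1 lc_e_rc_19_3 lc_e_rc_23_2 lc_e_rc_4_1 lc_e_rc_4_1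 lc_e_rc_23_2 lc_e_Cert_tree lc_e_rc_22_0) (@D3.rec (fun _ => (Cert rels S Gen.e)) lc_e_rc_19_3 lc_e_rc_22_0 lc_e_rc_23_2 lc_e_rc_24_2 lc_e_rc_19_3 lc_e_rc_23_2 lc_e_rc_24_2 lc_e_rc_10_1 lc_e_rc_23_2 lc_e_rc_10_1 lc_e_rc_24_2 lc_e_rc_24_0 lc_e_rc_10_1 lc_e_rc_10_1 lc_e_Cert_tree lc_e_rc_4_1 lc_e_rc_10_1 lc_e_rc_4_1 lc_e_rc_4_1 lc_e_rc_15_1 lc_e_rc_24_2 lc_e_rc_4_1 lc_e_rc_10_1 lc_e_Cert_tree lc_e_rc_4_1 lc_e_rc_23_2 lc_e_rc_22_0 lc_e_rc_19_3 lc_e_rc_15_3 lc_e_rc_19_3 lc_e_rc_22_0 lc_e_rc_19_3 lc_e_rc_23_2 lc_e_rc_23_0 lc_e_rc_23_2 lc_e_rc_24_2 lc_e_rc_10_1 lc_e_rc_15_1 lc_e_rc_4_1 lc_e_rc_19_1) (@D3.rec (fun _ => (Cert rels S Gen.e)) lc_e_rc_23_2 lc_e_rc_10_1 lc_e_rc_19_3 lc_e_rc_24_2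 lc_e_rc_10_1 lc_e_rc_4_1 lc_e_rc_4_1 lc_e_rc_10_1 lc_e_Cert_tree lc_e_rc_10_1 lc_e_rc_15_1 lc_e_rc_4_1 lc_e_rc_10_1 lc_e_rc_4_3 lc_e_Cert_tree lc_e_rc_22_0 lc_e_rc_4_1 lc_e_rc_24_2 lc_e_rc_19_3 lc_e_rc_24_2 lc_e_rc_24_2 lc_e_rc_4_1 lc_e_rc_4_3 lc_e_rc_19_1 lc_e_rc_15_3 lc_e_rc_22_0 lc_e_Cert_tree lc_e_rc_24_2 lc_e_rc_24_2 lc_e_rc_22_0 lc_e_rc_4_3 lc_e_rc_10_1 lc_e_rc_15_3 lc_e_rc_23_0 lc_e_rc_15_3 lc_e_rc_24_2 lc_e_rc_4_3 lc_e_rc_22_0 lc_e_rc_23_2 lc_e_rc_10_1) (@D3.rec (fun _ => (Cert rels S Gen.e)) lc_e_rc_4_1 lc_e_rc_19_3 lc_e_rc_19_1 lc_e_rc_23_2 lc_e_rc_19_3 lc_e_rc_24_2 lc_e_rc_10_1 lc_e_rc_15_1 lc_e_rc_15_1 lc_e_rc_15_3 lc_e_rc_23_2 lc_e_rc_10_1 lc_e_Cert_tree lc_e_rc_4_1 lc_e_rc_23_0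 lc_e_rc_22_0 lc_e_rc_19_3 lc_e_rc_10_1 lc_e_rc_24_2 lc_e_rc_19_3 lc_e_rc_22_0 lc_e_rc_24_2 lc_e_rc_22_0 lc_e_rc_23_2 lc_e_rc_24_2 lc_e_rc_4_1 lc_e_rc_15_1 lc_e_rc_10_1 lc_e_rc_4_1 lc_e_rc_15_1 lc_e_rc_10_1 lc_e_rc_10_1 lc_e_rc_23_0 lc_e_rc_4_1 lc_e_rc_19_1 lc_e_Cert_tree lc_e_rc_22_0 lc_e_rc_19_3 lc_e_rc_22_0 lc_e_rc_23_2) (@D3.rec (fun _ => (Cert rels S Gen.e)) lc_e_rc_24_2 lc_e_rc_19_3 lc_e_rc_23_2 lc_e_rc_24_2 lc_e_rc_24_2 lc_e_rc_24_2 lc_e_rc_10_1 lc_e_rc_24_0 lc_e_rc_10_1 lc_e_rc_10_1 lc_e_Cert_tree lc_e_rc_10_1 lc_e_rc_4_1 lc_e_rc_15_1 lc_e_rc_23_2 lc_e_rc_4_1 lc_e_Cert_tree lc_e_rc_4_1 lc_e_rc_22_0 lc_e_rc_23_2 lc_e_rc_4_1 lc_e_rc_19_3 lc_e_rc_22_0 lc_e_rc_4_1 lc_e_rc_4_1 lc_e_rc_23_2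 lc_e_rc_24_2 lc_e_rc_10_1 lc_e_rc_19_3 lc_e_rc_23_2 lc_e_rc_10_1 lc_e_rc_4_1 lc_e_rc_4_1 lc_e_rc_10_1 lc_e_rc_19_3 lc_e_rc_15_1 lc_e_rc_10_1 lc_e_rc_10_1 lc_e_rc_10_3 lc_e_rc_22_0) (@D3.rec (fun _ => (Cert rels S Gen.e)) lc_e_rc_22_0 lc_e_rc_24_2 lc_e_rc_15_1 lc_e_rc_4_1 lc_e_rc_23_0 lc_e_rc_15_1 lc_e_rc_23_0 lc_e_rc_22_0 lc_e_rc_22_0 lc_e_rc_4_1 lc_e_rc_23_2 lc_e_rc_10_1 lc_e_Cert_tree lc_e_rc_22_0 lc_e_rc_19_3 lc_e_rc_24_0 lc_e_rc_15_1 lc_e_rc_15_1 lc_e_rc_22_0 lc_e_rc_22_0 lc_e_rc_24_2 lc_e_rc_22_0 lc_e_rc_15_1 lc_e_rc_10_1 lc_e_rc_19_1 lc_e_rc_22_0 lc_e_rc_24_2 lc_e_rc_23_2 lc_e_rc_10_1 lc_e_rc_15_1 lc_e_rc_22_0 lc_e_rc_15_1 lc_e_rc_15_1 lc_e_rc_15_3 lc_e_rc_15_1 lc_e_rc_19_1 lc_e_rc_15_1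 lc_e_rc_19_1 lc_e_rc_4_1 lc_e_rc_4_1) (@D3.rec (fun _ => (Cert rels S Gen.e)) lc_e_rc_22_0 lc_e_rc_15_1 lc_e_rc_24_2 lc_e_rc_23_2 lc_e_rc_32_51 lc_e_rc_4_1 lc_e_Cert_tree lc_e_rc_22_0 lc_e_rc_24_2 lc_e_rc_23_2 lc_e_rc_22_0 lc_e_rc_24_2 lc_e_rc_19_3 lc_e_rc_24_2 lc_e_rc_23_2 lc_e_rc_10_1 lc_e_rc_15_1 lc_e_rc_15_1 lc_e_rc_19_3 lc_e_rc_19_3 lc_e_rc_4_1 lc_e_rc_15_1 lc_e_rc_15_1 lc_e_rc_22_0 lc_e_rc_15_1 lc_e_rc_15_1 lc_e_rc_24_2 lc_e_rc_10_1 lc_e_rc_10_1 lc_e_rc_24_2 lc_e_rc_22_0 lc_e_rc_24_2 lc_e_rc_23_2 lc_e_rc_23_2 lc_e_rc_10_1 lc_e_rc_23_2 lc_e_rc_23_0 lc_e_rc_10_1 lc_e_rc_23_2 lc_e_rc_10_1)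
def ce_e_21 : D2 → D3 → (Cert rels S Gen.e) := @D2.rec (fun _ => D3 → (Cert rels S Gen.e)) (@D3.rec (fun _ => (Cert rels S Gen.e)) lc_e_rc_4_1 lc_e_rc_10_1 lc_e_rc_23_2 lc_e_rc_23_2 lc_e_rc_23_2 lc_e_rc_10_1 lc_e_rc_24_2 lc_e_rc_24_0 lc_e_rc_24_2 lc_e_rc_24_2 lc_e_rc_19_3 lc_e_rc_19_3 lc_e_rc_23_2 lc_e_rc_24_2 lc_e_rc_24_2 lc_e_rc_23_2 lc_e_rc_10_1 lc_e_rc_10_1 lc_e_rc_15_1 lc_e_rc_10_1 lc_e_rc_4_1 lc_e_rc_24_2 lc_e_rc_4_1 lc_e_rc_24_0 lc_e_rc_15_1 lc_e_rc_23_2 lc_e_rc_4_1 lc_e_rc_24_2 lc_e_rc_10_3 lc_e_rc_22_0 lc_e_rc_4_1 lc_e_rc_24_2 lc_e_rc_24_0 lc_e_rc_15_3 lc_e_rc_10_1 lc_e_rc_15_1 lc_e_rc_22_0 lc_e_rc_22_0 lc_e_rc_10_3 lc_e_rc_22_0) (@D3.rec (fun _ => (Cert rels S Gen.e)) lc_e_rc_15_1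 lc_e_rc_22_1 lc_e_rc_22_0 lc_e_rc_23_2 lc_e_rc_22_0 lc_e_rc_15_1 lc_e_rc_15_1 lc_e_rc_10_1 lc_e_rc_15_1 lc_e_rc_4_1 lc_e_rc_24_2 lc_e_rc_15_1 lc_e_rc_4_1 lc_e_rc_15_1 lc_e_rc_23_2 lc_e_rc_24_2 lc_e_rc_15_1 lc_e_rc_22_0 lc_e_rc_24_2 lc_e_rc_22_0 lc_e_rc_19_3 lc_e_rc_23_2 lc_e_rc_24_2 lc_e_rc_15_1 lc_e_rc_32_25 lc_e_rc_4_1 lc_e_rc_15_1 lc_e_rc_19_1 lc_e_rc_22_0 lc_e_rc_19_3 lc_e_rc_15_1 lc_e_rc_23_2 lc_e_rc_10_1 lc_e_rc_23_2 lc_e_rc_15_1 lc_e_rc_24_2 lc_e_rc_10_1 lc_e_rc_32_51 lc_e_rc_15_1 lc_e_rc_10_1) (@D3.rec (fun _ => (Cert rels S Gen.e)) lc_e_rc_4_1 lc_e_rc_32_25 lc_e_rc_23_2 lc_e_rc_10_1 lc_e_rc_23_2 lc_e_rc_19_3 lc_e_rc_19_3 lc_e_rc_23_2 lc_e_rc_24_2 lc_e_rc_23_2 lc_e_rc_24_2 lc_e_rc_10_1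 lc_e_rc_15_1 lc_e_rc_10_1 lc_e_rc_4_1 lc_e_rc_10_1 lc_e_rc_4_1 lc_e_rc_24_2 lc_e_rc_24_2 lc_e_rc_22_0 lc_e_rc_19_1 lc_e_rc_19_3 lc_e_rc_15_1 lc_e_rc_4_3 lc_e_rc_19_3 lc_e_rc_23_2 lc_e_rc_4_1 lc_e_rc_24_2 lc_e_rc_23_2 lc_e_rc_24_2 lc_e_rc_10_1 lc_e_rc_24_2 lc_e_rc_4_1 lc_e_rc_15_1 lc_e_rc_4_1 lc_e_rc_4_1 lc_e_rc_23_2 lc_e_rc_10_1 lc_e_rc_24_2 lc_e_rc_23_2) (@D3.rec (fun _ => (Cert rels S Gen.e)) lc_e_rc_24_2 lc_e_rc_24_2 lc_e_rc_19_3 lc_e_rc_24_2 lc_e_rc_10_1 lc_e_rc_23_2 lc_e_rc_15_1 lc_e_rc_4_3 lc_e_rc_22_0 lc_e_rc_19_3 lc_e_rc_10_1 lc_e_rc_23_2 lc_e_rc_19_3 lc_e_rc_19_3 lc_e_rc_24_2 lc_e_rc_15_1 lc_e_rc_24_2 lc_e_rc_22_0 lc_e_rc_19_1 lc_e_rc_19_3 lc_e_rc_4_3 lc_e_rc_10_1 lc_e_rc_4_3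 lc_e_rc_24_2 lc_e_rc_24_2 lc_e_rc_19_3 lc_e_rc_23_2 lc_e_rc_23_2 lc_e_rc_10_1 lc_e_rc_24_2 lc_e_rc_24_0 lc_e_rc_10_1 lc_e_rc_19_3 lc_e_rc_4_1 lc_e_rc_10_1 lc_e_rc_15_1 lc_e_rc_4_1 lc_e_rc_23_2 lc_e_rc_24_2 lc_e_rc_4_1) (@D3.rec (fun _ => (Cert rels S Gen.e)) lc_e_rc_19_3 lc_e_rc_23_2 lc_e_rc_4_1 lc_e_rc_19_1 lc_e_rc_15_1 lc_e_rc_24_0 lc_e_rc_22_0 lc_e_rc_19_3 lc_e_rc_4_1 lc_e_rc_19_1 lc_e_rc_23_2 lc_e_rc_19_3 lc_e_rc_23_2 lc_e_rc_15_1 lc_e_rc_23_2 lc_e_rc_19_1 lc_e_rc_4_1 lc_e_rc_19_5 lc_e_rc_4_1 lc_e_rc_10_1 lc_e_rc_23_2 lc_e_rc_24_2 lc_e_rc_4_1 lc_e_rc_10_1 lc_e_rc_23_2 lc_e_rc_23_2 lc_e_rc_24_2 lc_e_rc_24_2 lc_e_rc_24_2 lc_e_rc_15_1 lc_e_rc_15_1 lc_e_rc_23_0 lc_e_rc_19_5 lc_e_rc_24_0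 lc_e_rc_24_0 lc_e_rc_23_2 lc_e_rc_4_1 lc_e_rc_4_1 lc_e_rc_4_3 lc_e_rc_23_2) (@D3.rec (fun _ => (Cert rels S Gen.e)) lc_e_rc_24_2 lc_e_rc_23_2 lc_e_rc_15_1 lc_e_rc_4_1 lc_e_rc_10_3 lc_e_rc_4_1 lc_e_rc_10_3 lc_e_rc_4_1 lc_e_rc_10_1 lc_e_rc_4_1 lc_e_rc_23_2 lc_e_rc_23_2 lc_e_rc_23_2 lc_e_rc_24_2 lc_e_rc_19_3 lc_e_rc_15_1 lc_e_rc_4_1 lc_e_rc_4_1 lc_e_rc_19_3 lc_e_rc_19_3 lc_e_rc_23_2 lc_e_rc_24_2 lc_e_rc_15_1 lc_e_rc_24_2 lc_e_rc_10_1 lc_e_rc_4_1 lc_e_rc_15_1 lc_e_rc_24_2 lc_e_rc_24_2 lc_e_rc_23_2 lc_e_rc_24_2 lc_e_rc_22_0 lc_e_rc_19_3 lc_e_rc_15_1 lc_e_rc_24_2 lc_e_rc_10_1 lc_e_rc_19_3 lc_e_rc_15_1 lc_e_rc_10_1 lc_e_rc_4_1) (@D3.rec (fun _ => (Cert rels S Gen.e)) lc_e_rc_23_2 lc_e_rc_10_1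 lc_e_rc_15_1 lc_e_rc_23_2 lc_e_rc_22_0 lc_e_rc_19_3 lc_e_rc_15_1 lc_e_rc_23_2 lc_e_rc_10_1 lc_e_rc_15_3 lc_e_rc_15_1 lc_e_rc_10_1 lc_e_rc_4_1 lc_e_rc_32_51 lc_e_rc_10_1 lc_e_rc_15_1 lc_e_rc_22_0 lc_e_rc_10_1 lc_e_rc_23_2 lc_e_rc_24_2 lc_e_rc_19_3 lc_e_rc_19_3 lc_e_rc_10_1 lc_e_rc_15_1 lc_e_rc_10_1 lc_e_rc_4_1 lc_e_rc_23_2 lc_e_rc_24_2 lc_e_rc_10_1 lc_e_rc_4_1 lc_e_rc_10_1 lc_e_rc_23_2 lc_e_rc_19_3 lc_e_rc_23_0 lc_e_rc_10_1 lc_e_rc_10_1 lc_e_rc_4_1 lc_e_rc_23_2 lc_e_rc_24_2 lc_e_rc_10_1) (@D3.rec (fun _ => (Cert rels S Gen.e)) lc_e_rc_15_1 lc_e_rc_32_51 lc_e_rc_23_2 lc_e_rc_32_51 lc_e_rc_19_3 lc_e_rc_4_1 lc_e_rc_24_2 lc_e_rc_15_1 lc_e_rc_19_3 lc_e_rc_32_77 lc_e_rc_24_2 lc_e_rc_15_3 lc_e_rc_24_2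 lc_e_rc_10_1 lc_e_rc_10_1 lc_e_rc_10_1 lc_e_rc_4_1 lc_e_rc_23_2 lc_e_rc_32_51 lc_e_rc_10_1 lc_e_rc_24_0 lc_e_rc_10_1 lc_e_rc_22_0 lc_e_rc_10_1 lc_e_rc_4_1 lc_e_rc_15_1 lc_e_rc_10_1 lc_e_rc_4_1 lc_e_rc_23_2 lc_e_rc_24_2 lc_e_rc_15_1 lc_e_Cert_tree lc_e_rc_22_0 lc_e_rc_22_0 lc_e_rc_10_1 lc_e_rc_15_1 lc_e_rc_24_2 lc_e_rc_10_1 lc_e_rc_15_1 lc_e_rc_15_1) (@D3.rec (fun _ => (Cert rels S Gen.e)) lc_e_Cert_tree lc_e_rc_22_0 lc_e_rc_22_0 lc_e_rc_10_1 lc_e_rc_15_1 lc_e_rc_23_2 lc_e_rc_10_1 lc_e_rc_15_1 lc_e_rc_10_1 lc_e_rc_4_1 lc_e_rc_15_1 lc_e_rc_24_2 lc_e_rc_19_3 lc_e_rc_4_1 lc_e_rc_4_1 lc_e_rc_10_1 lc_e_rc_4_1 lc_e_rc_19_1 lc_e_rc_23_2 lc_e_rc_19_3 lc_e_rc_4_1 lc_e_rc_10_1 lc_e_rc_10_1 lc_e_rc_4_1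 lc_e_rc_23_2 lc_e_rc_23_0 lc_e_rc_10_1 lc_e_rc_4_1 lc_e_rc_15_1 lc_e_rc_24_2 lc_e_rc_10_1 lc_e_rc_15_1 lc_e_rc_23_2 lc_e_rc_10_1 lc_e_rc_4_1 lc_e_rc_10_1 lc_e_rc_23_2 lc_e_rc_24_2 lc_e_rc_23_2 lc_e_rc_4_1) (@D3.rec (fun _ => (Cert rels S Gen.e)) lc_e_rc_23_0 lc_e_rc_24_2 lc_e_rc_15_1 lc_e_rc_19_3 lc_e_rc_10_3 lc_e_rc_24_0 lc_e_rc_10_1 lc_e_rc_23_2 lc_e_rc_10_1 lc_e_rc_22_0 lc_e_rc_24_2 lc_e_rc_4_3 lc_e_rc_10_3 lc_e_rc_22_0 lc_e_rc_10_1 lc_e_rc_23_2 lc_e_Cert_tree lc_e_rc_23_2 lc_e_rc_22_0 lc_e_rc_24_2 lc_e_rc_10_1 lc_e_rc_10_1 lc_e_rc_23_2 lc_e_rc_10_1 lc_e_rc_22_0 lc_e_rc_32_51 lc_e_rc_15_1 lc_e_rc_4_1 lc_e_rc_22_0 lc_e_rc_10_3 lc_e_rc_4_1 lc_e_Cert_tree lc_e_rc_24_2 lc_e_rc_22_0 lc_e_rc_23_2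 lc_e_rc_10_1 lc_e_rc_24_2 lc_e_rc_15_1 lc_e_rc_4_1 lc_e_rc_24_2) (@D3.rec (fun _ => (Cert rels S Gen.e)) lc_e_rc_24_2 lc_e_rc_23_2 lc_e_rc_19_3 lc_e_rc_15_1 lc_e_rc_19_3 lc_e_rc_19_3 lc_e_rc_19_3 lc_e_rc_19_3 lc_e_rc_15_1 lc_e_rc_23_2 lc_e_rc_10_1 lc_e_rc_19_3 lc_e_rc_19_3 lc_e_rc_19_3 lc_e_rc_24_2 lc_e_rc_15_1 lc_e_rc_15_1 lc_e_rc_22_0 lc_e_rc_10_1 lc_e_rc_19_3 lc_e_rc_23_0 lc_e_rc_19_3 lc_e_rc_15_1 lc_e_rc_24_2 lc_e_rc_15_1 lc_e_rc_24_2 lc_e_rc_15_1 lc_e_rc_24_2 lc_e_rc_24_2 lc_e_rc_24_2 lc_e_rc_4_3 lc_e_rc_23_2 lc_e_rc_24_2 lc_e_rc_10_1 lc_e_rc_4_3 lc_e_rc_19_1 lc_e_rc_10_1 lc_e_rc_24_2 lc_e_rc_10_1 lc_e_rc_23_2) (@D3.rec (fun _ => (Cert rels S Gen.e)) lc_e_rc_23_2 lc_e_rc_24_2 lc_e_rc_4_3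 lc_e_rc_4_1 lc_e_rc_10_1 lc_e_rc_23_2 lc_e_rc_4_1 lc_e_rc_24_2 lc_e_rc_23_2 lc_e_rc_23_2 lc_e_rc_10_1 lc_e_rc_23_2 lc_e_rc_24_2 lc_e_rc_19_1 lc_e_rc_4_1 lc_e_rc_10_1 lc_e_rc_24_0 lc_e_rc_10_1 lc_e_rc_24_2 lc_e_rc_23_2 lc_e_rc_24_2 lc_e_rc_32_51 lc_e_rc_4_1 lc_e_rc_23_2 lc_e_rc_4_1 lc_e_rc_10_1 lc_e_rc_32_25 lc_e_rc_23_2 lc_e_rc_10_1 lc_e_rc_10_1 lc_e_rc_4_1 lc_e_rc_15_1 lc_e_rc_10_1 lc_e_Cert_tree lc_e_rc_10_1 lc_e_rc_23_2 lc_e_rc_10_1 lc_e_rc_10_1 lc_e_rc_32_51 lc_e_rc_32_25) (@D3.rec (fun _ => (Cert rels S Gen.e)) lc_e_rc_10_1 lc_e_rc_24_2 lc_e_rc_24_0 lc_e_rc_10_1 lc_e_rc_4_3 lc_e_rc_10_1 lc_e_rc_23_2 lc_e_rc_24_2 lc_e_rc_4_1 lc_e_rc_15_1 lc_e_rc_23_2 lc_e_rc_10_1 lc_e_rc_15_3 lc_e_rc_32_51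 lc_e_rc_23_2 lc_e_rc_15_1 lc_e_rc_15_1 lc_e_rc_24_0 lc_e_rc_15_1 lc_e_rc_10_1 lc_e_rc_24_2 lc_e_rc_23_2 lc_e_rc_4_1 lc_e_rc_15_1 lc_e_rc_24_2 lc_e_rc_10_1 lc_e_rc_19_3 lc_e_rc_24_2 lc_e_rc_24_2 lc_e_rc_15_1 lc_e_rc_15_1 lc_e_rc_23_2 lc_e_rc_32_51 lc_e_rc_19_3 lc_e_rc_23_2 lc_e_rc_4_1 lc_e_rc_19_3 lc_e_rc_10_1 lc_e_rc_23_0 lc_e_rc_24_2) (@D3.rec (fun _ => (Cert rels S Gen.e)) lc_e_rc_19_3 lc_e_rc_24_2 lc_e_rc_15_3 lc_e_rc_19_3 lc_e_rc_19_1 lc_e_rc_19_3 lc_e_rc_23_2 lc_e_rc_24_2 lc_e_rc_10_1 lc_e_rc_23_2 lc_e_rc_19_3 lc_e_rc_23_2 lc_e_rc_24_2 lc_e_rc_10_1 lc_e_rc_23_2 lc_e_rc_10_1 lc_e_rc_4_1 lc_e_rc_10_1 lc_e_rc_10_1 lc_e_Cert_tree lc_e_rc_23_2 lc_e_rc_24_2 lc_e_rc_10_1 lc_e_rc_23_2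 lc_e_rc_23_2 lc_e_rc_24_2 lc_e_rc_24_0 lc_e_rc_22_0 lc_e_rc_10_1 lc_e_rc_15_3 lc_e_rc_22_0 lc_e_rc_10_1 lc_e_rc_24_2 lc_e_rc_24_2 lc_e_rc_4_1 lc_e_rc_4_1 lc_e_rc_4_1 lc_e_rc_23_2 lc_e_rc_10_1 lc_e_rc_24_2) (@D3.rec (fun _ => (Cert rels S Gen.e)) lc_e_rc_4_1 lc_e_rc_4_1 lc_e_rc_4_1 lc_e_rc_24_2 lc_e_rc_10_1 lc_e_rc_10_1 lc_e_rc_15_1 lc_e_rc_23_2 lc_e_rc_15_1 lc_e_rc_23_2 lc_e_rc_23_2 lc_e_rc_19_3 lc_e_rc_24_2 lc_e_rc_10_1 lc_e_rc_4_1 lc_e_rc_24_0 lc_e_rc_23_2 lc_e_rc_24_2 lc_e_rc_10_1 lc_e_rc_10_1 lc_e_rc_24_2 lc_e_rc_24_2 lc_e_rc_4_3 lc_e_rc_23_0 lc_e_rc_10_1 lc_e_rc_15_1 lc_e_rc_24_2 lc_e_rc_15_1 lc_e_rc_24_2 lc_e_rc_24_2 lc_e_rc_19_3 lc_e_rc_23_2 lc_e_rc_4_1 lc_e_rc_4_1 lc_e_rc_24_2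 lc_e_rc_4_3 lc_e_Cert_tree lc_e_rc_23_2 lc_e_rc_19_1 lc_e_rc_22_0) (@D3.rec (fun _ => (Cert rels S Gen.e)) lc_e_rc_10_1 lc_e_rc_23_2 lc_e_rc_4_3 lc_e_rc_10_3 lc_e_rc_10_1 lc_e_rc_24_0 lc_e_rc_10_1 lc_e_rc_10_1 lc_e_rc_10_1 lc_e_Cert_tree lc_e_rc_24_2 lc_e_rc_15_3 lc_e_rc_22_0 lc_e_rc_15_1 lc_e_rc_24_2 lc_e_rc_4_3 lc_e_rc_4_1 lc_e_rc_10_1 lc_e_rc_4_1 lc_e_rc_24_2 lc_e_rc_23_2 lc_e_rc_15_1 lc_e_rc_23_2 lc_e_rc_23_2 lc_e_rc_32_51 lc_e_rc_23_2 lc_e_rc_4_1 lc_e_rc_10_1 lc_e_rc_23_2 lc_e_rc_4_1 lc_e_rc_24_0 lc_e_rc_10_1 lc_e_rc_19_1 lc_e_rc_19_3 lc_e_rc_19_3 lc_e_rc_23_2 lc_e_rc_15_1 lc_e_rc_10_1 lc_e_rc_4_1 lc_e_rc_10_1) (@D3.rec (fun _ => (Cert rels S Gen.e)) lc_e_rc_10_1 lc_e_rc_15_1 lc_e_rc_4_1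 lc_e_rc_10_1 lc_e_rc_19_1 lc_e_rc_19_3 lc_e_rc_4_3 lc_e_rc_24_0 lc_e_rc_24_2 lc_e_rc_4_1 lc_e_rc_15_1 lc_e_rc_23_2 lc_e_rc_24_0 lc_e_rc_15_1 lc_e_rc_4_1 lc_e_rc_23_2 lc_e_rc_10_1 lc_e_rc_24_2 lc_e_rc_4_1 lc_e_rc_10_1 lc_e_rc_24_0 lc_e_rc_23_2 lc_e_rc_4_1 lc_e_rc_4_1 lc_e_rc_24_2 lc_e_rc_10_1 lc_e_rc_15_1 lc_e_rc_10_1 lc_e_rc_23_2 lc_e_rc_23_2 lc_e_rc_24_0 lc_e_rc_10_1 lc_e_rc_24_2 lc_e_rc_32_51 lc_e_rc_32_25 lc_e_rc_24_2 lc_e_rc_23_2 lc_e_rc_24_2 lc_e_rc_15_1 lc_e_rc_23_0) (@D3.rec (fun _ => (Cert rels S Gen.e)) lc_e_rc_19_3 lc_e_rc_24_2 lc_e_rc_23_2 lc_e_rc_4_1 lc_e_rc_15_1 lc_e_rc_4_1 lc_e_rc_19_1 lc_e_rc_10_3 lc_e_rc_10_1 lc_e_rc_15_1 lc_e_rc_10_1 lc_e_rc_24_2 lc_e_rc_24_2 lc_e_rc_10_1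 lc_e_rc_4_1 lc_e_rc_4_1 lc_e_rc_4_1 lc_e_rc_23_2 lc_e_rc_23_2 lc_e_rc_4_1 lc_e_rc_15_1 lc_e_rc_19_1 lc_e_rc_10_1 lc_e_rc_10_1 lc_e_rc_23_0 lc_e_rc_15_1 lc_e_rc_15_1 lc_e_rc_19_3 lc_e_rc_24_2 lc_e_rc_4_1 lc_e_rc_15_1 lc_e_rc_10_1 lc_e_rc_15_1 lc_e_rc_23_2 lc_e_rc_15_1 lc_e_rc_32_25 lc_e_rc_10_1 lc_e_rc_15_1 lc_e_rc_10_1 lc_e_rc_15_1) (@D3.rec (fun _ => (Cert rels S Gen.e)) lc_e_rc_10_1 lc_e_rc_15_1 lc_e_rc_24_2 lc_e_rc_10_1 lc_e_rc_15_1 lc_e_rc_19_3 lc_e_rc_24_2 lc_e_rc_22_0 lc_e_rc_4_3 lc_e_rc_22_0 lc_e_rc_10_1 lc_e_rc_15_1 lc_e_rc_10_1 lc_e_Cert_tree lc_e_rc_22_0 lc_e_rc_10_1 lc_e_Cert_tree lc_e_rc_22_0 lc_e_rc_10_1 lc_e_rc_10_1 lc_e_rc_15_1 lc_e_rc_10_1 lc_e_rc_23_2 lc_e_rc_15_1 lc_e_rc_23_2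 lc_e_rc_10_1 lc_e_rc_15_1 lc_e_rc_23_2 lc_e_rc_22_0 lc_e_rc_10_1 lc_e_rc_4_1 lc_e_rc_4_1 lc_e_rc_10_1 lc_e_rc_15_1 lc_e_rc_10_1 lc_e_rc_24_2 lc_e_rc_15_1 lc_e_rc_24_2 lc_e_rc_4_1 lc_e_rc_10_1) (@D3.rec (fun _ => (Cert rels S Gen.e)) lc_e_rc_19_3 lc_e_rc_23_0 lc_e_rc_10_1 lc_e_rc_4_1 lc_e_rc_10_1 lc_e_rc_23_2 lc_e_rc_22_0 lc_e_rc_23_2 lc_e_rc_23_2 lc_e_rc_19_3 lc_e_rc_10_1 lc_e_rc_4_1 lc_e_rc_4_1 lc_e_rc_15_1 lc_e_rc_24_2 lc_e_rc_4_1 lc_e_rc_24_2 lc_e_rc_24_2 lc_e_rc_19_3 lc_e_rc_4_1 lc_e_rc_10_1 lc_e_rc_22_0 lc_e_rc_24_2 lc_e_rc_32_51 lc_e_rc_19_3 lc_e_rc_4_1 lc_e_rc_4_1 lc_e_rc_15_1 lc_e_rc_23_2 lc_e_rc_4_1 lc_e_rc_32_51 lc_e_rc_23_2 lc_e_rc_4_3 lc_e_rc_4_1 lc_e_rc_23_2 lc_e_rc_23_0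 lc_e_rc_23_2 lc_e_rc_23_2 lc_e_rc_22_0 lc_e_rc_19_1) (@D3.rec (fun _ => (Cert rels S Gen.e)) lc_e_rc_24_2 lc_e_rc_4_1 lc_e_rc_19_3 lc_e_rc_15_1 lc_e_rc_23_2 lc_e_rc_23_2 lc_e_rc_22_0 lc_e_rc_24_2 lc_e_rc_4_1 lc_e_rc_22_0 lc_e_rc_23_2 lc_e_rc_10_1 lc_e_rc_23_2 lc_e_rc_10_1 lc_e_rc_4_1 lc_e_rc_24_0 lc_e_rc_4_1 lc_e_rc_24_2 lc_e_rc_4_1 lc_e_rc_22_0 lc_e_rc_22_0 lc_e_rc_10_1 lc_e_rc_23_2 lc_e_rc_10_1 lc_e_rc_10_1 lc_e_rc_4_1 lc_e_rc_4_1 lc_e_rc_22_0 lc_e_rc_4_1 lc_e_rc_10_1 lc_e_rc_4_1 lc_e_rc_10_1 lc_e_rc_24_0 lc_e_rc_24_2 lc_e_rc_22_0 lc_e_rc_4_1 lc_e_rc_4_1 lc_e_rc_15_1 lc_e_rc_23_2 lc_e_rc_15_3) (@D3.rec (fun _ => (Cert rels S Gen.e)) lc_e_rc_15_1 lc_e_rc_19_3 lc_e_rc_4_1 lc_e_rc_10_1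 lc_e_rc_4_1 lc_e_rc_23_2 lc_e_rc_22_0 lc_e_Cert_tree lc_e_rc_10_1 lc_e_rc_22_0 lc_e_rc_24_2 lc_e_rc_24_2 lc_e_rc_22_0 lc_e_rc_24_0 lc_e_rc_19_3 lc_e_rc_15_1 lc_e_rc_23_2 lc_e_rc_24_2 lc_e_rc_22_0 lc_e_rc_4_1 lc_e_rc_19_3 lc_e_rc_24_2 lc_e_rc_10_1 lc_e_rc_4_1 lc_e_rc_24_2 lc_e_rc_22_0 lc_e_rc_24_2 lc_e_rc_10_1 lc_e_rc_10_1 lc_e_rc_22_0 lc_e_rc_10_1 lc_e_rc_4_1 lc_e_rc_22_0 lc_e_rc_24_0 lc_e_rc_24_2 lc_e_rc_4_1 lc_e_rc_10_1 lc_e_Cert_tree lc_e_rc_10_1 lc_e_rc_23_2) (@D3.rec (fun _ => (Cert rels S Gen.e)) lc_e_rc_24_2 lc_e_rc_22_0 lc_e_rc_23_0 lc_e_rc_15_1 lc_e_rc_24_2 lc_e_rc_10_1 lc_e_rc_23_0 lc_e_rc_19_3 lc_e_rc_32_25 lc_e_rc_22_0 lc_e_rc_23_2 lc_e_rc_15_1 lc_e_rc_10_1 lc_e_rc_23_0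 lc_e_rc_10_1 lc_e_rc_10_1 lc_e_rc_24_0 lc_e_rc_4_1 lc_e_rc_23_2 lc_e_rc_23_0 lc_e_rc_19_3 lc_e_rc_32_25 lc_e_rc_24_2 lc_e_rc_32_25 lc_e_rc_10_1 lc_e_rc_10_1 lc_e_rc_10_3 lc_e_rc_23_2 lc_e_rc_10_1 lc_e_rc_4_3 lc_e_rc_23_2 lc_e_rc_24_2 lc_e_rc_10_1 lc_e_rc_4_1 lc_e_rc_15_1 lc_e_rc_19_3 lc_e_rc_10_1 lc_e_rc_4_1 lc_e_rc_15_1 lc_e_rc_10_1) (@D3.rec (fun _ => (Cert rels S Gen.e)) lc_e_rc_10_3 lc_e_rc_24_2 lc_e_rc_10_1 lc_e_rc_4_1 lc_e_rc_23_2 lc_e_rc_24_2 lc_e_rc_10_1 lc_e_rc_24_2 lc_e_rc_23_2 lc_e_rc_10_1 lc_e_rc_24_2 lc_e_rc_10_1 lc_e_rc_4_1 lc_e_rc_23_2 lc_e_rc_4_1 lc_e_rc_23_2 lc_e_rc_24_2 lc_e_rc_15_1 lc_e_rc_23_2 lc_e_rc_4_1 lc_e_rc_24_2 lc_e_rc_10_1 lc_e_rc_24_2 lc_e_rc_10_1 lc_e_rc_23_2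 lc_e_rc_32_51 lc_e_rc_22_0 lc_e_rc_4_1 lc_e_rc_15_1 lc_e_rc_22_0 lc_e_rc_10_1 lc_e_rc_15_1 lc_e_rc_24_2 lc_e_rc_23_2 lc_e_rc_10_1 lc_e_rc_10_1 lc_e_rc_22_0 lc_e_rc_22_0 lc_e_rc_10_1 lc_e_rc_10_1) (@D3.rec (fun _ => (Cert rels S Gen.e)) lc_e_rc_10_1 lc_e_rc_10_1 lc_e_rc_10_1 lc_e_rc_10_1 lc_e_rc_15_1 lc_e_rc_4_1 lc_e_rc_15_1 lc_e_rc_10_1 lc_e_rc_4_1 lc_e_rc_4_1 lc_e_rc_22_0 lc_e_rc_10_1 lc_e_rc_23_2 lc_e_rc_23_2 lc_e_rc_23_2 lc_e_rc_15_1 lc_e_rc_15_3 lc_e_rc_23_2 lc_e_rc_23_2 lc_e_rc_10_1 lc_e_rc_23_2 lc_e_rc_24_2 lc_e_rc_10_1 lc_e_rc_10_1 lc_e_rc_4_1 lc_e_rc_19_1 lc_e_rc_10_1 lc_e_rc_10_1 lc_e_rc_4_3 lc_e_rc_22_0 lc_e_rc_10_1 lc_e_rc_10_1 lc_e_rc_4_1 lc_e_rc_24_2 lc_e_rc_10_1 lc_e_rc_23_2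 lc_e_rc_15_1 lc_e_rc_24_0 lc_e_rc_24_2 lc_e_rc_24_2) (@D3.rec (fun _ => (Cert rels S Gen.e)) lc_e_rc_4_1 lc_e_rc_4_1 lc_e_rc_24_2 lc_e_rc_4_1 lc_e_rc_24_2 lc_e_rc_32_51 lc_e_rc_22_0 lc_e_rc_15_3 lc_e_rc_22_0 lc_e_rc_4_1 lc_e_rc_4_1 lc_e_rc_32_25 lc_e_rc_15_1 lc_e_rc_32_25 lc_e_rc_15_1 lc_e_rc_24_2 lc_e_rc_23_2 lc_e_rc_22_0 lc_e_rc_22_0 lc_e_rc_23_2 lc_e_rc_22_0 lc_e_rc_4_1 lc_e_rc_4_1 lc_e_rc_10_1 lc_e_rc_4_1 lc_e_rc_24_2 lc_e_rc_4_1 lc_e_rc_4_1 lc_e_rc_10_1 lc_e_rc_15_1 lc_e_rc_4_1 lc_e_rc_23_2 lc_e_rc_22_0 lc_e_rc_22_0 lc_e_rc_24_2 lc_e_rc_23_2 lc_e_rc_10_1 lc_e_rc_15_1 lc_e_rc_4_1 lc_e_rc_4_1)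
def ce_e : Pt → (Cert rels S Gen.e) := @Pt.rec (fun _ => (Cert rels S Gen.e)) (@D1.rec (fun _ => D2 → D3 → (Cert rels S Gen.e)) ce_e_0 ce_e_1 ce_e_2 ce_e_3 ce_e_4 ce_e_5 ce_e_6 ce_e_7 ce_e_8 ce_e_9 ce_e_10 ce_e_11 ce_e_12 ce_e_13 ce_e_14 ce_e_15 ce_e_16 ce_e_17 ce_e_18 ce_e_19 ce_e_20 ce_e_21)
def isSeed_e (p : Pt) : Bool := false

end

end Cfsg.Agent.Helper28.S1681
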