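import Cfsg.Agent.Lib.Helper28.S1681.Tree

set_option autoImplicit false
set_option maxRecDepth 100000
set_option linter.all false

namespace Cfsg.Agent.Helper28.S1681

open Cfsg.Agent.Helper28
open Cfsg.Spor.Suz (Gen)

noncomputable section

def lv_f_0 : D2 → D3 → Nat := @D2.rec (fun _ => D3 → Nat) (@D3.rec (fun _ => Nat) 1 2 3 4 0 5 0 0 1 0 6 0 0 1 2 0 0 1 0 3 1 0 0 1 0 0 0 1 5 2 0 0 0 1 0 1 0 5 1 0) (@D3.rec (fun _ => Nat) 6 0 1 2 0 0 1 0 2 3 0 1 0 0 0 1 5 1 6 3 0 8 9 10 9 0 1 0 1 0 0 1 0 6 5 0 1 6 1 0) (@D3.rec (fun _ => Nat) 7 0 0 1 8 7 7 0 0 1 5 7 10 0 0 0 1 0 1 0 3 5 0 1 7 9 1 8 0 0 0 1 0 0 1 6 0 1 6 2) (@D3.rec (fun _ => Nat) 0 4 0 10 4 0 10 0 1 10 9 10 10 73 1 0 1 0 7 6 67 1 0 1 0 7 6 0 1 57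 56 1 2 0 8 0 0 1 9 8) (@D3.rec (fun _ => Nat) 8 0 1 1 9 7 8 62 0 0 1 5 1 6 7 11 0 0 0 1 0 0 1 0 0 1 0 2 5 0 1 4 6 0 1 4 8 10 0 1) (@D3.rec (fun _ => Nat) 9 55 0 0 1 2 0 1 0 0 1 0 2 3 50 1 0 1 7 3 0 0 1 7 3 0 57 3 52 0 0 1 10 5 0 11 0 1 11 12) (@D3.rec (fun _ => Nat) 5 0 1 11 12 0 1 72 13 11 73 73 0 1 0 8 7 70 1 8 53 67 66 0 1 0 8 7 0 1 55 53 1 2 53 53 53 2 52 3) (@D3.rec (fun _ => Nat) 0 0 1 10 9 9 0 1 1 10 8 9 1 8 63 59 0 1 6 0 1 6 8 12 0 0 1 2 0 1 0 0 1 0 2 3 0 1 0 1) (@D3.rec (fun _ => Nat) 0 3 6 0 1 0 1 0 3 6 0 1 3 3 0 41 56 0 1 2 5 9 11 0 1 10 5 10 10 0 1 9 58 56 0 1 5 0 1 5) (@D3.rec (fun _ => Nat) 0 1 0 3 5 53 1 0 1 0 3 5 51 1 3 54 51 53 0 1 8 4 0 58 60 55 0 63 1 0 1 8 4 0 54 4 53 0 0 1) (@D3.rec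 (fun _ => Nat) 54 57 4 55 0 1 0 1 12 14 6 0 1 12 13 0 1 74 12 6 0 0 1 12 0 1 4 74 65 11 13 0 75 75 0 0 1 0 9 8) (@D3.rec (fun _ => Nat) 0 1 9 56 71 68 56 51 0 1 0 2 8 0 1 9 55 54 0 1 2 54 54 54 2 49 3 56 61 56 55 3 51 49 4 0 1 0 1 11) (@D3.rec (fun _ => Nat) 9 10 10 1 56 9 0 13 13 64 64 60 0 1 7 0 1 7 0 1 5 0 1 5 65 57 0 1 0 3 5 0 1 0 1 0 3 5 0 1) (@D3.rec (fun _ => Nat) 3 3 63 54 4 0 1 64 0 1 0 4 7 0 1 68 71 74 42 55 0 1 2 0 1 0 4 7 0 1 4 4 0 42 55 0 1 2 66 4) (@D3.rec (fun _ => Nat) 4 0 44 1 43 40 55 53 0 1 2 3 3 3 6 11 11 0 1 10 6 10 0 12 0 1 4 11 59 57 55 0 1 6 0 1 5 0 1 0) (@D3.rec (fun _ => Nat) 4 6 52 1 55 52 0 0 1 0 4 5 50 1 4 55 48 50 4 55 55 50 52 52 0 0 1 9 5 0 57 62 54 0 62 1 54 1 0 1) (@D3.rec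 (fun _ => Nat) 0 2 0 55 5 52 0 0 1 55 54 5 54 0 1 0 1 57 57 54 5 54 54 100 100 1 0 1 4 14 7 7 0 0 1 13 0 0 1 5) (@D3.rec (fun _ => Nat) 74 12 0 109 1 57 1 109 14 1 5 74 5 57 101 66 62 67 13 15 101 0 1 75 75 0 0 1 0 1 0 2 9 0 1 10 56 55 0 1) (@D3.rec (fun _ => Nat) 63 55 54 60 54 0 1 2 2 3 0 1 4 3 0 0 0 0 1 2 10 56 53 53 53 0 1 2 52 3 55 61 55 56 3 52 50 4 55 62) (@D3.rec (fun _ => Nat) 63 110 110 55 4 54 54 0 52 5 0 1 0 1 55 12 10 11 11 0 109 57 56 48 55 1 65 65 61 61 0 1 8 0 1 8 0 1 6 67) (@D3.rec (fun _ => Nat) 56 0 1 5 62 56 0 1 0 4 6 0 1 65 56 1 64 0 0 1 0 4 5 0 1 4 4 60 55 5 0 1 61 4 4 59 55 5 102 1) (@D3.rec (fun _ => Nat) 57 0 0 1 0 5 8 0 1 66 67 74 43 57 0 1 2 67 69 45 44 43 57 1 2 3 3 0 1 0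 2 8 0 1 5 5 0 43 56 0) (@D3.rec (fun _ => Nat) 1 2 63 5 5 0 45 1 44 41 56 54 0 1 2 4 3 3 5 5 0 111 1 42 107 41 41 55 0 1 4 4 3 3 113 110 7 7 11 0) (@D3.rec (fun _ => Nat) 13 0 0 1 5 12 12 108 111 1 12 1 5 5 56 11 60 58 58 56 0 1 6 0 0 1 6 0 0 1 0 5 6 53 1 56 55 56 56 55) (@D3.rec (fun _ => Nat) 55 0 0 1 0 0 0 1 0 2 6 0 1 5 54 54 53 5 56 56 51 53 53 5 53 0 0 1 0 1 10 2 0 63 6 55 0 0 1 57) (@D3.rec (fun _ => Nat) 58 1 69 0 1 2 2 3 0 1 4 3 0 0 0 1 54 55 6 57 0 1 0 1 56 57 55 6 6 55 55 104 0 1 0 0 1 5 57 56)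
def lv_f_1 : D2 → D3 → Nat := @D2.rec (fun _ => D3 → Nat) (@D3.rec (fun _ => Nat) 108 56 100 1 5 5 16 14 0 8 0 0 0 1 54 1 109 15 15 0 0 1 1 6 76 6 54 99 111 1 111 112 57 6 76 54 67 63 64 13) (@D3.rec (fun _ => Nat) 15 103 0 1 77 75 0 0 1 2 0 1 0 2 3 0 1 3 10 0 1 4 3 0 0 0 0 1 2 11 57 56 56 69 1 51 66 58 53 59) (@D3.rec (fun _ => Nat) 60 53 53 0 0 1 0 2 0 3 3 5 0 4 0 1 2 0 5 3 4 0 0 1 0 0 1 0 0 1 0 1 2 3 4 3 0 11 57 0) (@D3.rec (fun _ => Nat) 58 59 58 55 0 1 4 3 51 53 4 56 60 61 110 56 56 56 4 51 51 0 49 5 5 57 62 111 106 109 45 108 5 107 45 113 48 1 51 0) (@D3.rec (fun _ => Nat) 1 107 0 1 56 54 53 13 11 49 0 12 0 52 1 111 101 62 0 62 0 0 1 9 0 1 0 2 0 0 1 6 67 58 0 1 6 64 57 0) (@D3.rec (fun _ => Nat)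 0 1 0 5 6 0 1 65 56 1 66 0 0 1 0 0 1 0 2 6 0 1 5 5 62 57 6 0 1 61 5 5 58 54 6 0 1 58 67 5) (@D3.rec (fun _ => Nat) 5 54 105 5 100 110 0 0 1 0 1 0 2 9 0 1 68 6 0 44 58 0 1 2 68 67 75 46 45 44 57 78 1 2 3 3 43 44 45 3) (@D3.rec (fun _ => Nat) 3 4 0 1 2 2 3 0 1 4 3 0 0 0 0 1 2 64 6 6 0 46 1 45 44 58 58 0 1 2 5 3 3 6 6 6 0 0 1 43) (@D3.rec (fun _ => Nat) 107 42 42 56 0 0 1 5 5 3 3 114 4 6 110 112 1 58 42 55 1 5 5 5 110 0 8 14 13 0 111 1 14 13 0 0 1 1 6 6) (@D3.rec (fun _ => Nat) 53 15 12 103 104 59 0 57 0 0 1 7 0 0 1 0 0 1 7 2 0 0 1 0 0 1 0 2 7 0 1 6 55 52 52 57 57 54 54 57) (@D3.rec (fun _ => Nat) 54 0 1 2 1 0 2 3 0 1 0 1 8 1 0 3 7 0 1 4 3 0 0 0 0 1 2 6 55 55 54 52 52 6 6 57 50 50 52 0) (@D3.rec (fun _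 => Nat) 0 1 2 0 1 0 2 3 0 1 3 0 4 3 0 0 0 1 66 56 7 54 0 1 0 1 66 74 0 0 1 0 2 0 3 3 5 0 4 0) (@D3.rec (fun _ => Nat) 1 2 0 5 3 4 0 1 0 0 1 0 1 3 0 56 54 8 7 54 0 0 0 1 0 0 1 4 58 60 58 57 0 7 7 57 57 57 55 102) (@D3.rec (fun _ => Nat) 0 98 1 0 0 0 1 1 6 6 108 6 0 18 0 0 1 0 9 0 0 1 109 1 54 0 1 107 58 0 17 0 0 1 0 0 1 2 75 7) (@D3.rec (fun _ => Nat) 76 7 7 57 99 57 111 110 64 64 64 15 0 103 0 1 76 0 0 0 0 1 0 0 1 5 2 0 0 1 0 3 5 0 1 3 3 5 0 4) (@D3.rec (fun _ => Nat) 0 1 2 5 4 0 0 0 0 1 2 0 5 3 4 0 0 1 0 0 1 0 0 1 0 1 2 3 4 3 0 12 12 0 58 55 58 76 77 4) (@D3.rec (fun _ => Nat) 54 54 75 59 60 56 56 61 56 0 1 2 0 1 0 2 3 0 1 4 3 0 0 0 1 0 4 4 6 0 0 0 1 0 5 0 1 2 4 3) (@D3.rec (fun _ => Nat) 0 0 0 1 0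 0 6 4 0 5 5 0 0 1 4 0 1 2 0 0 1 0 1 3 0 0 1 0 0 0 1 2 0 0 1 4 4 3 3 5) (@D3.rec (fun _ => Nat) 0 0 5 3 4 0 1 58 93 0 0 1 55 60 61 0 55 55 55 1 5 6 6 0 4 54 54 0 55 51 5 59 58 62 111 63 109 108 44 58) (@D3.rec (fun _ => Nat) 108 0 57 58 5 5 102 46 54 47 0 1 52 52 0 54 6 108 113 0 1 107 0 1 106 2 56 58 55 109 107 12 47 0 1 110 0 55 0 1) (@D3.rec (fun _ => Nat) 101 0 0 0 1 0 0 0 1 0 1 10 2 0 0 1 2 2 3 0 1 4 0 0 1 0 1 7 64 59 0 1 0 2 0 65 59 0 0 1) (@D3.rec (fun _ => Nat) 0 1 0 2 7 0 1 6 62 57 0 1 63 0 0 1 2 0 0 1 0 2 3 0 1 1 0 3 7 0 1 4 3 0 0 0 0 1 2 6) (@D3.rec (fun _ => Nat) 6 62 60 8 0 1 63 64 6 6 6 59 55 0 7 0 110 1 60 63 6 56 105 104 110 0 0 1 2 0 1 0 2 3 0 1 3 10 0 1) (@D3.rec (fun _ => Nat) 4 3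 0 0 0 0 1 2 65 70 7 0 47 1 46 45 58 60 0 1 2 77 3 3 70 44 45 46 45 78 3 3 4 4 46 4 0 1 0 2) (@D3.rec (fun _ => Nat) 0 3 3 5 0 4 0 1 2 0 5 3 4 0 0 1 0 0 1 0 0 1 0 1 2 3 4 3 0 65 0 7 8 7 0 0 1 44 45 46) (@D3.rec (fun _ => Nat) 45 58 0 58 0 0 1 4 6 3 3 4 4 7 7 0 7 7 0 0 109 1 56 1 111 105 43 43 43 58 56 0 0 0 1 1 6 6 6 103)
def lv_f_2 : D2 → D3 → Nat := @D2.rec (fun _ => D3 → Nat) (@D3.rec (fun _ => Nat) 103 4 113 5 108 0 0 1 0 9 16 0 103 109 0 1 0 16 0 0 1 0 0 1 2 7 7 7 56 0 17 0 0 0 1 0 0 0 1 0) (@D3.rec (fun _ => Nat) 0 1 8 2 0 0 0 1 2 0 0 1 0 2 3 0 1 1 8 3 0 4 0 0 1 1 2 2 3 0 1 1 0 79 8 0 1 4 3 0) (@D3.rec (fun _ => Nat) 0 0 0 1 2 7 56 56 55 55 55 58 58 57 57 1 5 80 0 3 5 0 1 3 3 5 0 4 0 1 2 1 80 2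 0 81 8 0 1 5) (@D3.rec (fun _ => Nat) 4 0 0 0 0 1 2 0 5 3 4 0 0 1 0 0 1 0 0 1 0 1 2 3 4 3 0 8 7 56 56 55 56 55 55 0 7 7 58 0) (@D3.rec (fun _ => Nat) 53 53 55 0 0 1 0 0 1 5 2 0 1 0 3 5 0 1 3 3 5 0 4 0 1 2 5 4 0 0 0 1 0 5 3 4 0 1 0 0) (@D3.rec (fun _ => Nat) 1 0 1 3 0 61 57 8 57 0 0 71 1 0 1 4 0 60 0 67 1 2 1 0 2 3 0 1 55 60 61 0 0 1 0 4 4 6 0 0) (@D3.rec (fun _ => Nat) 0 1 0 5 0 1 2 4 3 0 0 1 0 0 6 4 0 5 5 0 0 1 10 0 1 0 0 0 1 2 0 0 1 4 4 0 0 0 1 0) (@D3.rec (fun _ => Nat) 56 56 0 0 9 56 56 0 0 1 0 0 1 0 0 1 2 0 0 1 1 5 6 0 59 92 60 57 0 0 0 1 0 8 56 8 57 0 106 55) (@D3.rec (fun _ => Nat) 57 102 0 98 1 0 0 0 1 0 0 1 0 1 2 7 7 7 95 96 1 94 19 0 93 1 2 92 1 92 3 0 1 19 15 0 1 0 0 1) (@D3.rec (fun _ =>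 Nat) 2 109 109 57 56 0 1 109 0 0 1 0 17 0 0 1 2 0 1 0 2 3 1 0 1 3 76 4 3 0 0 103 8 54 8 8 57 97 65 0) (@D3.rec (fun _ => Nat) 65 65 90 0 1 0 101 0 0 1 0 0 1 0 0 1 2 0 1 0 1 0 2 3 0 1 0 0 1 5 3 0 4 3 0 0 0 1 1 0) (@D3.rec (fun _ => Nat) 9 5 0 1 4 4 6 0 5 0 1 2 0 4 4 6 0 0 0 1 0 5 0 1 2 4 3 0 0 6 4 5 0 0 1 0 0 1 0 0) (@D3.rec (fun _ => Nat) 1 0 1 2 4 4 3 0 0 0 1 0 0 6 4 0 5 5 0 0 1 4 0 1 2 0 0 1 0 1 3 0 0 1 0 0 0 1 2 0) (@D3.rec (fun _ => Nat) 0 1 4 4 3 3 5 0 0 5 3 4 0 1 0 13 0 1 57 58 0 62 62 58 70 70 6 0 53 53 0 53 69 68 59 60 55 55 64 62) (@D3.rec (fun _ => Nat) 0 1 5 11 0 0 0 1 0 11 5 0 1 3 3 5 0 4 0 1 2 0 5 3 4 0 1 0 0 1 0 1 3 59 61 1 0 0 5 5) (@D3.rec (fun _ => Nat) 5 7 0 4 0 1 10 0 1 0 1 3 0 0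 1 0 0 6 0 0 1 11 3 3 5 0 5 3 4 0 1 1 2 96 96 1 0 3 0 1) (@D3.rec (fun _ => Nat) 0 0 1 0 6 7 5 0 0 0 1 6 6 0 0 0 1 6 0 1 2 0 5 0 1 2 4 3 0 0 0 1 0 0 0 1 2 0 0 1) (@D3.rec (fun _ => Nat) 4 0 1 2 0 0 1 0 2 3 1 0 0 1 0 0 0 1 2 3 3 11 0 0 1 1 5 5 5 6 7 0 0 4 4 6 0 0 0 1) (@D3.rec (fun _ => Nat) 0 0 1 8 0 6 4 8 5 5 0 1 10 91 91 92 56 0 1 0 1 5 57 60 0 61 0 0 1 0 57 0 57 6 6 6 0 8 5 7) (@D3.rec (fun _ => Nat) 0 1 5 53 0 53 0 0 1 0 55 0 54 0 59 62 104 63 106 107 110 46 0 108 0 0 0 1 101 57 58 0 6 102 45 53 112 48 0 1) (@D3.rec (fun _ => Nat) 0 51 0 0 100 1 103 53 68 110 1 2 107 0 1 2 2 3 3 3 0 109 56 59 55 0 49 107 1 108 108 0 1 111 57 0 1 0 1 0) (@D3.rec (fun _ => Nat) 92 0 1 2 0 1 0 3 1 0 0 1 2 0 1 0 2 3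 0 1 3 0 4 0 0 1 0 95 1 0 98 0 3 5 0 4 1 2 84 3) (@D3.rec (fun _ => Nat) 1 0 1 3 1 80 2 0 65 59 94 1 2 2 3 0 1 4 3 0 0 0 1 66 59 0 93 1 2 1 0 2 3 0 1 3 81 0 1 4) (@D3.rec (fun _ => Nat) 3 0 0 0 0 1 2 7 64 62 0 1 63 93 1 0 101 91 1 5 90 98 0 0 1 0 1 100 3 5 0 1 3 3 5 0 4 0 1 2) (@D3.rec (fun _ => Nat) 4 81 0 1 5 4 0 0 0 0 1 2 96 5 3 99 0 0 1 0 0 1 0 0 1 0 1 2 3 4 3 0 97 7 8 7 64 0 59 0) (@D3.rec (fun _ => Nat) 8 0 0 1 4 63 63 65 7 7 91 7 7 61 59 57 101 1 9 7 0 0 112 1 60 108 0 0 1 0 1 5 2 0 1 76 3 5 0 1)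
def lv_f_3 : D2 → D3 → Nat := @D2.rec (fun _ => D3 → Nat) (@D3.rec (fun _ => Nat) 3 3 5 0 4 0 1 2 5 4 0 0 0 0 1 2 0 5 3 4 0 0 1 0 0 1 0 0 1 0 1 2 3 4 3 0 66 0 69 8) (@D3.rec (fun _ => Nat) 0 0 1 45 46 47 46 60 0 63 0 1 4 79 3 3 4 4 97 67 47 48 47 46 0 80 4 4 5 5 75 74 1 2 2 3 0 1 4 3) (@D3.rec (fun _ => Nat) 0 0 0 1 0 4 4 6 0 0 0 1 0 5 0 1 2 4 3 0 0 0 1 0 0 100 4 0 5 0 0 1 4 0 1 2 0 0 1 114) (@D3.rec (fun _ => Nat) 1 3 0 0 1 0 0 0 1 2 0 1 4 4 3 3 5 0 0 115 3 116 115 1 0 66 0 95 1 0 8 0 9 8 0 0 1 0 0 1) (@D3.rec (fun _ => Nat) 2 47 48 0 47 45 46 0 60 0 0 1 0 60 0 0 1 1 5 7 6 6 0 0 4 4 0 5 5 5 101 100 0 97 93 1 0 8 8 104) (@D3.rec (fun _ => Nat) 0 0 1 110 1 57 102 107 44 0 44 44 0 59 0 0 104 1 0 0 1 0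 1 104 8 7 7 7 7 5 113 0 6 113 89 0 1 2 94 1) (@D3.rec (fun _ => Nat) 99 3 0 1 18 0 0 0 1 110 104 0 1 0 0 1 0 18 0 0 1 2 0 1 0 2 3 1 1 102 4 100 0 8 8 8 58 0 0 1) (@D3.rec (fun _ => Nat) 0 17 0 1 0 0 1 2 0 1 0 3 1 0 1 2 1 0 2 3 0 1 1 9 3 0 4 0 0 1 0 1 89 0 1 5 2 0 0 0) (@D3.rec (fun _ => Nat) 1 0 1 0 3 5 0 1 3 5 0 4 1 2 4 0 92 88 0 0 0 1 0 3 1 0 1 3 80 0 3 3 5 0 4 0 1 2 81 9) (@D3.rec (fun _ => Nat) 0 1 81 81 0 0 0 0 1 2 0 5 3 4 0 0 1 0 0 1 0 0 1 0 1 2 3 4 3 0 8 57 57 56 54 54 59 59 56 56) (@D3.rec (fun _ => Nat) 82 0 60 56 62 0 87 1 4 4 6 0 5 0 1 2 108 4 4 6 0 0 0 1 0 5 0 1 2 4 3 0 2 0 85 86 87 0 0 1) (@D3.rec (fun _ => Nat) 91 96 94 0 0 0 1 2 94 99 4 95 0 0 1 0 0 1 98 0 1 0 1 2 4 4 3 0 0 98 1 0 98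 6 4 0 99 5 0 1) (@D3.rec (fun _ => Nat) 4 0 1 2 0 0 1 0 1 3 96 0 1 0 106 0 1 2 0 0 1 4 3 3 5 0 0 5 3 4 0 1 94 9 0 57 57 57 100 54) (@D3.rec (fun _ => Nat) 0 54 54 54 97 0 101 1 95 8 8 0 58 0 0 97 1 0 52 52 0 57 1 2 1 0 2 3 0 1 0 1 5 3 0 58 56 61 0 0) (@D3.rec (fun _ => Nat) 1 9 5 0 1 4 4 6 0 5 0 1 2 0 4 4 6 0 0 0 1 0 5 0 1 2 4 3 0 0 6 4 5 0 1 0 0 1 0 1) (@D3.rec (fun _ => Nat) 4 0 1 0 0 6 4 0 5 5 0 0 1 11 0 1 0 0 0 1 2 0 0 1 4 4 0 0 0 1 0 61 0 59 0 0 1 0 0 1) (@D3.rec (fun _ => Nat) 0 70 2 1 5 6 0 0 0 1 0 62 0 0 1 0 76 11 0 82 89 0 1 3 13 1 2 13 3 60 0 1 1 17 0 1 0 0 5 5) (@D3.rec (fun _ => Nat) 5 7 0 4 0 1 10 0 1 0 1 3 14 0 1 0 0 6 0 0 1 7 3 3 5 11 5 3 4 0 1 1 2 3 14 1 98 1 78 7) (@D3.rec (fun _ =>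 Nat) 5 0 0 0 1 93 6 0 0 103 1 6 1 2 17 11 0 1 2 2 3 1 0 1 86 0 1 2 12 3 11 0 0 1 1 5 5 5 7 0) (@D3.rec (fun _ => Nat) 12 0 1 96 0 1 2 97 0 1 0 3 0 1 56 105 0 1 93 92 1 99 10 56 0 0 98 103 1 0 1 5 0 0 1 2 0 0 1 0) (@D3.rec (fun _ => Nat) 2 3 1 1 3 4 0 100 96 1 0 1 2 6 6 102 106 0 5 1 92 60 91 0 0 97 91 1 2 0 1 95 0 1 0 3 0 1 9 58) (@D3.rec (fun _ => Nat) 0 89 59 0 0 0 1 108 55 57 0 100 1 2 0 0 0 1 2 0 1 0 0 1 104 2 3 1 0 1 3 68 1 3 3 3 0 8 8 8) (@D3.rec (fun _ => Nat) 89 2 95 3 94 92 93 1 0 3 0 91 93 4 0 0 4 0 1 2 14 0 0 0 1 2 0 0 1 116 1 2 3 4 3 0 111 111 58 0) (@D3.rec (fun _ => Nat) 56 56 0 1 4 109 0 1 1 1 0 0 0 1 0 1 2 108 1 3 1 3 3 5 107 9 1 4 4 4 110 0 0 4 3 4 116 0 1 0) (@D3.rec (fun _ => Nat)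 95 1 105 9 57 0 56 54 9 57 0 99 88 66 89 0 1 0 66 66 102 95 0 87 1 2 3 1 0 99 0 0 1 0 0 1 95 0 1 0) (@D3.rec (fun _ => Nat) 1 2 3 1 92 1 5 12 0 94 1 0 13 5 0 1 3 75 0 1 3 3 5 0 4 0 1 2 0 0 1 0 1 6 2 0 5 4 0 0)
def lv_f_4 : D2 → D3 → Nat := @D2.rec (fun _ => D3 → Nat) (@D3.rec (fun _ => Nat) 0 1 0 5 3 4 0 1 0 0 1 0 1 3 10 6 108 1 10 74 90 0 1 2 0 5 5 7 0 0 0 1 0 6 0 1 2 4 3 0) (@D3.rec (fun _ => Nat) 1 0 0 5 5 5 7 0 4 0 1 11 0 1 0 1 3 1 0 0 6 0 0 1 12 3 3 5 0 5 3 4 0 1 1 0 0 91 5 0) (@D3.rec (fun _ => Nat) 6 6 0 0 1 4 0 1 2 0 0 1 0 1 3 1 0 0 0 1 2 0 0 1 10 5 3 3 5 0 0 5 3 4 0 1 1 2 96 0) (@D3.rec (fun _ => Nat) 1 0 3 0 1 0 0 1 0 6 7 5 0 0 0 1 0 6 85 0 0 0 1 6 1 2 0 5 0 1 2 4 3 0 0 0 1 0 0 0) (@D3.rec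 (fun _ => Nat) 1 2 0 0 1 4 0 1 2 0 0 1 0 2 3 1 0 0 1 0 0 0 1 2 3 3 12 0 0 0 1 1 77 5 5 7 0 0 4 4) (@D3.rec (fun _ => Nat) 6 0 0 0 1 0 0 1 8 0 6 4 8 5 5 0 1 11 0 0 1 58 1 5 59 0 60 0 0 1 0 63 0 64 72 78 0 0 5 1) (@D3.rec (fun _ => Nat) 56 0 56 0 0 1 0 57 0 72 66 61 62 61 58 58 0 90 1 6 89 0 14 12 14 11 0 1 66 0 0 1 0 1 0 12 6 0 1 12) (@D3.rec (fun _ => Nat) 62 75 0 1 2 15 4 4 6 7 8 0 1 12 5 0 1 2 11 3 0 15 64 1 12 57 6 4 7 5 0 0 1 14 0 1 16 0 0 1) (@D3.rec (fun _ => Nat) 6 0 1 12 4 2 96 61 3 1 0 0 1 0 7 6 60 6 6 6 8 0 0 1 6 5 0 1 15 12 12 0 0 1 0 0 1 12 4 3) (@D3.rec (fun _ => Nat) 1 0 1 88 1 0 0 1 0 8 7 105 10 98 1 1 12 13 94 0 4 4 6 12 90 1 0 6 4 5 5 0 0 1 11 15 15 0 98 0) (@D3.rec (fun _ => Nat) 79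 0 1 13 12 0 1 8 0 1 2 0 0 1 0 3 56 1 91 7 8 6 0 0 0 1 8 0 1 0 1 7 10 97 0 0 1 0 1 94) (@D3.rec (fun _ => Nat) 95 1 2 0 7 91 1 2 4 3 0 12 0 1 12 0 6 0 0 1 4 3 3 5 5 3 4 0 1 0 1 7 0 0 1 108 2 1 0 0) (@D3.rec (fun _ => Nat) 1 0 0 0 1 2 3 0 0 0 1 1 5 0 12 0 1 11 9 1 0 1 2 87 1 3 3 7 12 0 1 2 0 0 1 0 2 3 1 96) (@D3.rec (fun _ => Nat) 0 1 1 3 4 3 0 13 4 4 11 0 1 0 1 45 7 6 6 6 6 96 0 0 7 7 9 89 0 0 1 8 0 1 5 0 5 5 5 7) (@D3.rec (fun _ => Nat) 0 4 0 1 0 1 0 1 3 0 1 2 0 109 1 8 3 6 0 0 1 0 7 5 0 8 0 6 0 0 1 55 16 11 2 89 92 58 90 58) (@D3.rec (fun _ => Nat) 58 0 96 89 1 90 0 1 6 0 0 62 0 0 1 0 63 63 0 0 1 2 98 0 1 0 3 1 0 0 1 0 57 7 7 0 95 0 0 1) (@D3.rec (fun _ => Nat) 0 8 7 8 8 0 1 47 0 56 0 0 1 0 56 56 0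 0 1 2 0 0 1 0 3 1 0 0 1 0 53 92 1 99 64 104 0 62 106 109) (@D3.rec (fun _ => Nat) 0 112 46 0 0 1 0 110 95 0 100 1 2 0 0 1 102 0 1 3 59 99 1 109 47 0 55 114 48 0 0 1 0 0 1 0 54 0 0 1) (@D3.rec (fun _ => Nat) 0 0 1 104 103 55 0 2 3 3 0 109 0 1 2 0 3 3 102 0 4 4 0 1 109 0 59 57 0 101 0 1 47 109 109 109 5 110 108 108) (@D3.rec (fun _ => Nat) 0 1 3 111 0 0 1 4 1 2 3 1 1 5 1 0 5 1 0 48 0 93 0 1 0 1 5 100 0 1 74 3 5 0 1 3 5 0 4 1) (@D3.rec (fun _ => Nat) 2 5 4 0 0 0 1 3 1 1 3 1 2 3 1 100 0 0 1 89 0 0 0 1 0 2 4 3 0 86 0 0 10 0 1 2 0 2 0 4) (@D3.rec (fun _ => Nat) 3 0 0 0 1 66 61 94 0 3 3 5 4 0 1 96 5 3 4 0 1 0 0 1 0 1 3 67 61 1 0 3 96 0 1 3 3 5 0 4) (@D3.rec (fun _ => Nat) 0 1 2 5 4 0 0 0 0 1 2 95 5 3 4 0 0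 1 0 0 1 0 0 1 0 1 2 3 4 3 0 8 64 0 64 0 1 4 65 99) (@D3.rec (fun _ => Nat) 1 93 0 1 12 0 1 92 88 94 95 1 4 0 4 4 6 96 5 0 1 2 98 4 6 0 0 0 1 0 5 1 2 4 3 0 93 93 93 0) (@D3.rec (fun _ => Nat) 0 99 1 2 4 94 94 1 96 0 1 1 1 2 4 3 3 0 94 100 97 4 0 99 97 0 1 4 0 1 2 0 0 1 0 1 3 1 0 0) (@D3.rec (fun _ => Nat) 1 2 0 1 4 4 3 3 5 0 0 5 3 4 0 1 100 99 8 105 9 8 64 107 0 1 59 101 1 9 0 0 1 1 5 6 0 65 64 101)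
def lv_f_5 : D2 → D3 → Nat := @D2.rec (fun _ => D3 → Nat) (@D3.rec (fun _ => Nat) 92 8 8 0 0 60 103 101 1 0 1 2 100 110 0 1 2 1 0 2 3 0 1 3 0 4 3 0 0 0 1 70 0 4 4 6 0 5 81 1) (@D3.rec (fun _ => Nat) 2 0 4 4 6 0 0 0 1 0 5 0 1 2 4 3 0 84 4 73 0 1 0 0 1 0 1 1 2 4 4 3 0 0 0 1 0 0 6 4) (@D3.rec (fun _ => Nat) 0 5 0 0 1 4 0 1 2 0 0 1 0 1 3 0 0 1 0 0 0 1 2 0 1 4 4 3 3 5 0 0 4 3 4 110 1 0 68 0) (@D3.rec (fun _ => Nat) 0 1 0 68 0 0 1 0 0 1 2 48 49 0 48 47 47 0 60 0 0 1 0 65 1 5 79 6 6 0 0 4 4 0 5 5 5 99 97 0) (@D3.rec (fun _ => Nat) 69 75 46 47 48 0 49 0 0 1 80 76 5 5 6 0 6 88 0 3 3 5 0 4 0 1 2 0 96 3 96 1 0 0 1 1 3 64 65 1) (@D3.rec (fun _ => Nat) 66 5 5 0 4 111 1 10 0 1 111 1 3 0 0 1 0 0 1 7 3 3 5 0 117 3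 120 109 1 0 1 2 0 95 1 0 3 0 1 97) (@D3.rec (fun _ => Nat) 1 0 99 5 0 0 0 1 0 103 1 6 0 1 2 0 116 116 1 2 4 3 0 0 106 1 0 102 112 1 100 113 0 0 1 2 0 0 1 0) (@D3.rec (fun _ => Nat) 2 3 1 0 1 0 0 1 2 3 3 11 1 5 107 5 6 7 0 0 0 0 0 1 0 0 1 15 0 112 16 114 10 0 0 1 0 67 97 1) (@D3.rec (fun _ => Nat) 2 97 99 3 1 104 1 0 105 10 100 0 1 103 102 1 2 99 0 1 105 1 2 5 4 0 46 46 45 47 0 104 1 0 48 113 46 0 0 1) (@D3.rec (fun _ => Nat) 0 60 103 1 2 0 1 3 1 0 1 0 0 1 2 6 8 6 6 0 98 104 8 5 109 0 0 1 0 1 0 5 5 5 0 112 1 0 6 0) (@D3.rec (fun _ => Nat) 6 94 92 0 107 91 93 97 1 2 97 0 97 3 96 1 105 9 100 109 106 1 104 103 1 106 104 59 104 0 46 0 0 104 0 1 0 45 0 0) (@D3.rec (fun _ => Nat) 1 61 95 0 97 1 96 0 1 1 0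 1 100 1 102 98 100 96 101 8 8 8 0 6 119 0 0 0 1 119 7 92 88 0 1 3 0 86 4 101) (@D3.rec (fun _ => Nat) 0 4 101 1 0 101 101 1 98 103 1 0 1 3 115 0 114 12 0 1 4 0 0 1 2 108 1 0 3 1 0 0 1 1 97 2 1 1 3 9) (@D3.rec (fun _ => Nat) 109 103 102 107 102 102 106 102 1 101 0 9 58 0 0 0 1 2 0 1 0 3 1 1 2 3 1 1 5 89 90 0 1 0 5 1 0 57 1 82) (@D3.rec (fun _ => Nat) 2 0 3 83 0 1 3 5 0 4 1 2 83 0 5 81 0 0 0 1 0 3 1 0 1 3 1 84 2 101 85 0 1 5 3 100 0 1 0 0) (@D3.rec (fun _ => Nat) 1 0 1 0 5 1 4 85 0 1 4 0 1 2 0 0 0 1 2 4 3 0 90 86 0 0 0 1 92 90 4 0 1 102 0 1 1 95 1 0) (@D3.rec (fun _ => Nat) 0 8 1 0 2 0 80 82 82 81 83 1 105 4 4 6 0 0 0 1 0 5 0 1 2 4 3 0 81 86 1 2 98 81 83 83 0 1 0 83) (@D3.rec (fun _ => Nat) 1 0 1 0 1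 2 81 3 3 79 0 100 1 0 101 6 4 0 5 5 0 1 4 0 1 2 0 0 1 0 1 3 98 0 1 0 108 0 1 2) (@D3.rec (fun _ => Nat) 0 0 1 4 3 3 5 0 0 5 3 4 0 1 0 58 58 58 0 57 57 57 60 0 59 59 0 56 82 1 82 1 5 0 0 0 1 1 2 4) (@D3.rec (fun _ => Nat) 3 0 102 96 5 5 7 0 4 0 1 8 0 1 0 1 3 1 0 6 0 1 7 3 3 5 0 5 3 4 0 1 3 1 3 86 1 1 83 93) (@D3.rec (fun _ => Nat) 0 0 0 1 1 1 2 3 3 86 5 0 95 97 0 1 4 0 1 2 104 0 1 0 1 3 1 105 0 1 111 98 3 3 5 104 100 4 3 4) (@D3.rec (fun _ => Nat) 112 1 1 98 99 0 1 101 7 5 0 0 0 1 99 98 0 1 61 0 5 0 1 2 4 57 0 98 0 1 100 0 0 1 57 108 0 1 4 0) (@D3.rec (fun _ => Nat) 2 1 2 3 1 111 0 1 108 53 56 9 0 1 1 5 0 0 4 4 6 89 0 0 1 99 0 1 89 0 6 4 89 5 5 0 1 8 94 10) (@D3.rec (fun _ => Nat) 0 110 1 0 58 0 58 98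 54 109 107 1 110 57 0 57 95 2 101 0 1 94 3 9 0 0 1 102 59 0 1 0 0 1 0 1 55 105 0 1) (@D3.rec (fun _ => Nat) 0 56 12 0 3 76 0 1 3 14 1 2 0 1 0 2 0 60 4 0 0 0 1 80 3 59 62 0 1 85 1 10 75 95 98 1 2 0 5 5) (@D3.rec (fun _ => Nat) 7 0 0 0 1 0 6 0 1 2 4 3 0 18 0 1 0 0 5 5 5 7 0 4 0 1 11 0 1 0 1 3 15 0 1 0 0 6 0 0)
def lv_f_6 : D2 → D3 → Nat := @D2.rec (fun _ => D3 → Nat) (@D3.rec (fun _ => Nat) 1 8 3 3 5 12 5 3 4 0 1 1 0 92 7 5 0 6 6 0 0 1 12 1 0 94 0 1 2 0 0 1 10 5 0 1 2 3 86 1) (@D3.rec (fun _ => Nat) 0 1 78 6 7 5 0 82 86 1 6 6 0 0 0 1 6 1 2 18 12 0 1 2 2 3 1 0 1 86 0 0 1 2 13 86 12 0 0 1) (@D3.rec (fun _ => Nat) 1 5 5 5 7 0 13 0 1 98 0 1 2 0 0 1 0 3 0 1 0 1 0 0 0 1 0 1 5 0 0 1 2 0 0 1 0 2 3 1) (@D3.rec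 (fun _ => Nat) 4 0 6 7 6 0 0 5 1 98 0 1 2 0 0 1 0 3 1 0 0 1 2 0 0 1 0 3 1 12 13 0 1 63 65 0 84 1 87 11) (@D3.rec (fun _ => Nat) 14 2 109 14 1 17 11 95 1 0 11 1 10 101 1 12 6 6 13 8 110 0 0 1 10 5 0 1 12 0 0 1 0 0 1 4 14 0 0 1) (@D3.rec (fun _ => Nat) 0 11 1 0 0 1 0 7 0 1 1 8 9 9 0 11 4 4 6 13 0 6 4 112 116 0 1 13 87 13 98 98 0 6 0 0 88 1 11 86) (@D3.rec (fun _ => Nat) 1 88 1 93 91 99 93 0 1 103 1 6 103 0 2 4 3 0 17 12 109 1 11 3 117 1 2 1 3 53 53 57 14 57 87 11 98 95 1 0) (@D3.rec (fun _ => Nat) 1 13 6 6 6 0 99 0 0 0 1 13 111 1 11 98 99 0 1 5 96 109 96 0 1 0 5 0 1 111 4 1 113 105 99 0 1 3 94 0) (@D3.rec (fun _ => Nat) 58 0 0 101 1 100 103 1 100 104 6 1 0 0 1 0 0 1 5 2 0 0 1 1 0 3 5 1 3 5 0 56 4 4 0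 3 1 0 2 1) (@D3.rec (fun _ => Nat) 97 4 102 0 7 102 106 0 1 0 54 92 101 61 0 0 1 95 99 1 101 94 3 92 3 0 1 93 4 97 89 1 0 4 0 1 105 4 0 1) (@D3.rec (fun _ => Nat) 99 58 0 99 1 97 0 0 1 0 1 0 1 3 108 0 55 58 56 0 1 99 2 4 0 0 110 1 0 0 1 0 1 0 1 0 3 1 0 1) (@D3.rec (fun _ => Nat) 105 3 107 3 3 98 1 4 104 0 4 4 4 108 4 4 0 1 9 0 9 94 89 96 0 0 2 94 94 95 3 0 1 98 100 1 93 107 105 98) (@D3.rec (fun _ => Nat) 106 1 104 107 1 101 119 118 1 2 3 109 0 0 0 1 98 0 1 110 1 2 4 0 96 105 1 97 111 114 1 2 110 4 3 3 5 97 106 3) (@D3.rec (fun _ => Nat) 1 0 113 111 0 60 0 111 1 0 58 0 59 1 108 104 0 98 0 1 2 78 1 0 1 1 2 98 1 3 3 107 110 4 4 4 4 0 4 4) (@D3.rec (fun _ => Nat) 4 0 109 109 10 0 102 5 112 108 111 112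 4 107 112 106 0 1 0 0 1 0 105 108 4 0 5 0 4 0 1 109 97 1 3 0 105 10 0 59) (@D3.rec (fun _ => Nat) 0 0 1 103 55 113 56 57 0 0 1 87 90 0 67 101 2 103 98 1 0 3 1 67 87 96 1 89 88 0 0 100 0 0 1 100 0 1 0 0) (@D3.rec (fun _ => Nat) 1 0 93 1 1 0 1 99 94 1 2 104 78 15 13 15 12 0 1 14 97 0 1 14 63 101 0 1 2 4 4 6 0 5 0 1 2 16 4 4) (@D3.rec (fun _ => Nat) 6 7 8 0 1 14 5 0 1 2 12 3 0 79 0 1 2 1 0 2 3 89 1 3 0 97 3 91 0 0 1 0 6 4 5 0 1 0 0 1) (@D3.rec (fun _ => Nat) 0 1 4 1 13 57 6 4 7 95 97 0 0 1 1 17 0 0 1 6 0 0 1 14 4 11 92 107 106 11 74 98 92 92 102 1 2 86 3 0) (@D3.rec (fun _ => Nat) 1 0 6 6 6 0 4 0 1 12 0 1 0 1 3 0 1 0 0 0 1 102 3 3 5 0 5 3 4 0 1 82 1 0 0 1 0 7 6 6) (@D3.rec (fun _ => Nat) 6 8 0 0 1 6 5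 0 1 13 0 0 1 0 0 1 13 4 3 84 1 0 0 1 0 8 7 0 1 1 13 15 89 0 4 4 6 1 0 6) (@D3.rec (fun _ => Nat) 4 5 5 0 0 1 12 75 0 1 92 1 86 6 0 0 0 1 86 85 7 87 0 1 0 1 2 0 5 0 1 2 4 3 0 1 0 0 0 1) (@D3.rec (fun _ => Nat) 2 0 0 1 11 4 0 2 83 1 103 1 0 1 2 3 3 13 0 0 1 1 11 93 11 87 0 0 4 4 6 0 0 0 1 1 8 0 6 4) (@D3.rec (fun _ => Nat) 8 5 5 0 0 1 12 16 16 98 0 98 1 0 77 0 1 14 13 0 1 8 1 2 97 1 0 3 58 1 0 85 8 6 0 0 0 1 8 0) (@D3.rec (fun _ => Nat) 1 0 1 0 0 88 1 0 85 7 88 88 1 0 1 65 1 2 0 2 4 3 0 13 0 1 13 0 6 0 0 1 67 3 3 5 5 3 4 0) (@D3.rec (fun _ => Nat) 1 0 1 7 0 0 1 110 2 1 0 0 1 0 0 0 1 2 3 0 0 0 1 1 5 0 13 0 1 82 9 0 1 0 1 0 2 85 1 3)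
def lv_f_7 : D2 → D3 → Nat := @D2.rec (fun _ => D3 → Nat) (@D3.rec (fun _ => Nat) 3 7 13 1 2 0 1 0 2 3 1 0 98 1 1 3 4 3 0 14 4 4 12 0 0 0 1 0 0 1 1 2 7 71 6 71 73 0 0 91) (@D3.rec (fun _ => Nat) 0 0 1 8 0 1 5 0 5 5 5 7 0 4 0 1 0 1 0 1 3 0 1 2 0 0 1 8 3 6 0 0 1 0 6 7 5 0 8 0) (@D3.rec (fun _ => Nat) 6 6 0 0 1 58 17 12 2 86 0 1 1 66 87 82 0 0 0 59 0 0 1 0 60 60 0 0 1 2 0 0 1 0 3 1 0 0 1 0) (@D3.rec (fun _ => Nat) 0 80 78 0 1 0 0 1 48 0 55 0 0 1 0 55 55 0 0 1 2 0 0 1 0 3 1 0 0 1 0 62 61 0 61 67 57 0 58 90) (@D3.rec (fun _ => Nat) 1 6 94 74 0 1 16 13 14 12 0 1 67 67 1 82 91 1 0 6 1 13 94 106 1 63 96 1 96 13 61 96 98 75 0 1 2 91 102 17) (@D3.rec (fun _ => Nat) 5 5 7 7 10 0 1 12 12 6 0 1 3 11 104 47 1 57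 59 57 57 59 7 5 57 9 0 0 1 1 59 67 1 99 0 1 0 1 96 8) (@D3.rec (fun _ => Nat) 1 13 5 95 90 92 98 63 64 100 1 2 104 0 1 102 3 1 8 61 7 0 0 1 0 1 6 6 0 6 0 0 1 4 56 57 0 1 56 0) (@D3.rec (fun _ => Nat) 0 1 2 1 1 13 5 95 84 3 100 1 93 100 0 1 2 100 0 1 0 3 1 7 102 12 13 13 96 14 96 94 1 0 5 5 5 7 88 88) (@D3.rec (fun _ => Nat) 0 112 1 92 6 7 5 0 0 0 0 1 1 2 12 15 85 0 1 100 0 1 0 0 0 1 81 15 12 0 1 8 0 0 1 5 0 91 98 0) (@D3.rec (fun _ => Nat) 1 0 1 0 5 58 1 61 4 58 97 0 0 1 62 0 1 115 1 3 10 109 0 1 111 0 1 113 96 12 0 95 0 1 102 0 1 103 94 93) (@D3.rec (fun _ => Nat) 1 2 0 2 3 3 103 62 90 1 58 0 7 90 91 4 3 3 5 58 4 0 1 15 0 110 1 110 84 0 1 80 8 7 0 11 0 1 1 91) (@D3.rec (fun _ => Nat) 6 8 0 4 4 6 5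 4 106 114 108 0 1 115 1 7 86 109 1 109 113 1 2 66 3 80 106 1 2 110 0 1 0 2 3 1 0 0 1 1) (@D3.rec (fun _ => Nat) 3 0 4 0 0 0 1 0 0 1 0 1 7 6 107 0 0 1 107 113 1 84 9 2 104 1 100 106 4 91 0 0 97 4 4 9 12 0 0 1) (@D3.rec (fun _ => Nat) 5 46 96 0 0 1 0 1 0 3 5 1 3 3 6 1 4 5 0 53 4 95 4 110 1 15 87 5 5 5 13 0 0 1 46 1 46 8 46 46) (@D3.rec (fun _ => Nat) 102 101 7 7 96 0 0 91 0 103 1 52 101 1 0 99 8 8 8 0 5 89 0 1 0 1 3 55 0 110 1 7 0 0 1 0 6 0 6 14) (@D3.rec (fun _ => Nat) 8 0 0 0 1 5 110 1 113 1 112 0 1 5 4 0 1 0 108 1 109 109 2 59 8 0 0 1 2 0 0 1 0 3 0 1 6 81 1 11) (@D3.rec (fun _ => Nat) 0 0 1 0 7 0 1 1 105 57 59 0 12 12 4 88 90 90 0 58 84 86 1 98 91 90 1 7 0 60 0 1 111 1 107 62 109 1 2 113) (@D3.rec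 (fun _ => Nat) 0 1 113 3 1 0 63 0 1 0 105 0 1 5 2 82 103 106 0 1 0 5 1 0 57 0 1 2 0 1 0 3 1 0 97 0 1 1 97 1) (@D3.rec (fun _ => Nat) 98 1 9 9 0 1 55 48 48 10 109 1 112 55 116 1 2 0 0 1 112 3 1 0 55 0 1 0 0 0 1 5 48 90 0 0 1 1 0 5) (@D3.rec (fun _ => Nat) 1 0 56 0 1 2 0 1 0 3 1 0 113 106 0 1 104 64 0 109 0 112 1 0 110 49 103 108 1 2 0 1 110 3 1 119 111 95 0 0) (@D3.rec (fun _ => Nat) 1 3 104 0 111 0 1 104 0 1 98 4 0 1 0 0 103 48 117 1 113 58 113 48 0 0 1 0 114 1 101 0 1 2 102 1 0 3 1 0) (@D3.rec (fun _ => Nat) 1 111 0 1 2 110 0 1 111 100 1 104 103 0 1 3 3 0 4 4 0 1 109 0 1 2 109 3 0 0 1 0 4 4 102 108 0 1 0 5) (@D3.rec (fun _ => Nat) 5 5 0 0 1 14 0 0 1 111 57 111 1 103 112 1 109 49 109 109 109 109 0 4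 110 110 110 114 0 110 111 0 1 4 4 116 113 118 1 118) (@D3.rec (fun _ => Nat) 1 5 116 0 49 13 1 123 1 51 101 0 1 2 1 0 3 1 100 0 102 0 0 1 70 0 4 4 6 0 5 85 1 2 0 0 0 1 2 4) (@D3.rec (fun _ => Nat) 3 0 4 77 1 1 1 4 0 11 93 0 19 102 18 99 1 0 1 110 16 0 4 103 1 10 105 1 107 1 3 14 1 3 3 5 11 4 3 120) (@D3.rec (fun _ => Nat) 117 1 89 14 1 0 111 1 11 113 0 1 2 97 12 3 11 12 116 1 3 3 5 4 0 1 96 86 3 85 83 1 0 0 1 96 1 3 67 98)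
def lv_f_8 : D2 → D3 → Nat := @D2.rec (fun _ => D3 → Nat) (@D3.rec (fun _ => Nat) 93 97 95 0 0 1 4 4 6 5 0 1 97 0 87 4 91 86 1 8 1 0 0 1 99 1 4 101 99 1 4 4 6 97 5 82 1 2 95 4) (@D3.rec (fun _ => Nat) 4 6 0 0 0 1 0 5 0 1 2 4 3 0 93 4 74 0 1 0 1 0 1 1 2 4 4 0 94 102 6 4 0 100 0 0 1 4 0 1) (@D3.rec (fun _ => Nat) 2 0 0 1 0 1 3 1 0 0 1 2 0 1 4 4 3 3 5 0 0 5 3 4 0 1 66 0 0 1 64 1 5 6 0 65 91 1 80 1) (@D3.rec (fun _ => Nat) 102 88 92 5 1 87 105 96 1 2 104 95 100 0 4 0 1 0 1 0 1 3 108 1 7 3 3 5 5 3 4 0 1 5 96 1 1 2 101 98) (@D3.rec (fun _ => Nat) 4 96 100 109 0 1 3 10 3 3 102 98 4 0 1 80 0 97 97 86 83 1 99 108 6 1 2 5 105 1 2 3 3 108 0 0 1 103 1 0) (@D3.rec (fun _ => Nat) 0 1 4 0 2 1 0 1 56 56 98 1 5 5 7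 102 4 4 6 110 0 0 1 96 0 1 96 4 101 5 103 1 8 100 106 108 9 105 102 100) (@D3.rec (fun _ => Nat) 1 5 0 0 1 1 6 6 102 5 1 99 11 97 103 1 100 102 1 60 2 1 96 99 99 103 114 98 101 1 5 90 0 3 5 0 1 3 3 5) (@D3.rec (fun _ => Nat) 0 4 0 1 2 5 4 0 0 0 1 0 94 3 96 1 0 0 1 1 3 77 78 80 0 84 1 89 0 0 0 1 0 2 4 3 0 66 65 1) (@D3.rec (fun _ => Nat) 66 5 5 7 0 4 112 1 11 0 1 1 3 90 0 1 87 6 0 1 8 3 3 5 0 111 3 113 1 86 86 0 77 4 86 1 2 0 1 1) (@D3.rec (fun _ => Nat) 3 0 1 2 71 3 3 5 0 0 3 86 1 0 1 2 0 0 1 0 3 0 1 0 1 0 102 5 0 0 0 1 0 0 1 6 0 1 2 0) (@D3.rec (fun _ => Nat) 113 0 1 2 4 3 0 0 106 1 0 98 0 1 98 113 1 0 0 1 2 0 0 1 0 2 3 1 0 1 0 0 1 2 3 3 12 1 5 5) (@D3.rec (fun _ => Nat) 5 6 7 0 0 4 4 4 0 0 0 1 0 0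 1 17 0 117 4 17 111 114 11 1 0 0 1 2 99 97 1 0 3 1 0 1 0 0 1 2) (@D3.rec (fun _ => Nat) 97 0 1 0 1 2 5 4 0 47 47 48 48 0 0 1 0 49 0 48 1 0 0 1 2 0 0 1 0 3 1 6 81 7 6 0 0 104 8 5) (@D3.rec (fun _ => Nat) 7 0 0 1 0 1 0 5 5 5 0 0 1 0 6 0 6 99 99 0 1 77 49 0 50 0 0 0 1 115 50 0 1 1 101 76 6 0 6 0) (@D3.rec (fun _ => Nat) 114 0 1 7 23 21 19 1 15 4 103 15 80 1 17 1 2 14 96 53 19 93 1 20 4 16 115 23 0 1 17 1 20 100 2 65 3 6 107 0) (@D3.rec (fun _ => Nat) 0 1 6 15 113 12 0 1 100 3 1 1 1 1 105 9 9 0 85 12 0 1 0 117 117 11 95 1 5 22 18 1 66 102 95 5 0 1 13 12) (@D3.rec (fun _ => Nat) 105 1 8 97 0 67 0 1 6 0 0 0 1 8 0 1 101 1 104 1 6 104 103 0 7 0 1 2 4 3 0 18 0 1 99 113 4 3 3 5) (@D3.rec (fun _ => Nat) 4 3 114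 1 1 17 106 1 97 99 107 12 1 103 1 5 11 9 1 62 0 1 102 5 1 3 3 7 89 0 1 2 63 1 1 3 4 3 0 18) (@D3.rec (fun _ => Nat) 57 107 11 6 107 6 6 107 104 7 9 0 0 96 1 57 0 1 5 4 111 1 102 1 1 3 1 2 1 3 105 1 11 2 1 2 101 1 0 3) (@D3.rec (fun _ => Nat) 1 99 100 101 0 66 105 0 99 97 1 101 102 104 103 1 2 2 6 97 109 1 99 108 104 48 6 3 5 0 3 1 48 109 0 49 116 46 0 112) (@D3.rec (fun _ => Nat) 1 2 104 3 1 112 115 112 1 2 0 1 0 3 1 103 104 1 99 105 0 1 2 100 1 1 3 7 7 0 111 0 1 100 114 7 0 117 113 0) (@D3.rec (fun _ => Nat) 1 4 1 2 1 3 0 109 1 6 0 6 0 112 1 2 114 3 1 0 0 1 93 103 95 1 89 93 97 97 93 0 0 1 0 96 107 102 99 97) (@D3.rec (fun _ => Nat) 99 98 113 59 111 0 113 1 102 47 110 1 0 114 0 1 106 104 104 1 0 1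 99 1 1 100 93 0 1 96 101 1 98 1 100 100 0 101 106 14) (@D3.rec (fun _ => Nat) 9 113 0 1 120 7 117 119 112 117 0 1 2 0 1 1 121 3 91 89 93 112 1 0 99 111 1 101 98 103 11 0 1 97 103 103 108 0 1 111) (@D3.rec (fun _ => Nat) 111 99 113 0 1 4 109 115 0 118 1 0 116 110 15 1 5 115 110 1 0 108 1 5 114 107 108 110 5 1 16 96 1 1 2 97 3 3 3 111) (@D3.rec (fun _ => Nat) 108 112 10 106 107 110 104 106 108 107 102 102 105 17 101 0 1 60 109 1 103 1 96 97 1 5 2 104 0 1 5 1 92 94 0 58 1 0 81 1)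
def lv_f_9 : D2 → D3 → Nat := @D2.rec (fun _ => D3 → Nat) (@D3.rec (fun _ => Nat) 99 58 0 0 1 59 59 58 2 101 3 106 0 1 4 6 0 5 1 2 0 0 0 1 2 4 3 0 83 1 81 4 81 81 1 0 1 87 1 4) (@D3.rec (fun _ => Nat) 1 85 0 9 1 0 2 0 3 101 86 1 6 62 1 1 7 1 0 6 1 82 1 98 92 5 99 1 2 0 0 0 1 2 4 3 0 4 118 1) (@D3.rec (fun _ => Nat) 8 0 1 0 1 3 3 3 5 87 89 3 116 0 1 83 88 5 0 1 107 0 1 1 94 89 120 92 1 106 1 98 8 94 96 86 12 1 0 0) (@D3.rec (fun _ => Nat) 1 9 0 2 66 1 10 3 9 0 1 82 85 100 98 5 5 5 7 0 4 0 1 9 0 1 0 1 3 1 0 6 0 0 1 8 3 3 5 0) (@D3.rec (fun _ => Nat) 5 3 4 0 1 87 2 94 98 83 85 83 83 83 85 1 83 81 1 87 103 1 2 0 87 1 3 3 3 97 0 3 4 1 98 101 0 1 100 6) (@D3.rec (fun _ => Nat) 7 5 0 0 0 1 6 0 0 1 58 91 5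 0 1 2 104 57 84 100 0 1 103 0 0 1 0 0 1 4 0 2 1 2 3 1 108 0 0 1) (@D3.rec (fun _ => Nat) 108 52 57 10 0 1 1 5 0 0 4 4 6 82 83 0 1 101 0 1 82 0 6 4 5 5 0 1 9 0 0 1 0 59 0 59 0 0 1 112) (@D3.rec (fun _ => Nat) 56 0 56 0 0 0 1 121 60 0 115 0 1 59 90 97 4 101 1 1 109 1 3 3 3 5 3 105 103 1 58 6 8 0 9 114 1 6 5 0) (@D3.rec (fun _ => Nat) 1 13 10 10 0 0 1 0 0 1 4 3 1 7 1 8 8 9 10 0 4 4 6 10 0 1 116 6 4 116 120 0 1 62 97 87 89 1 83 0) (@D3.rec (fun _ => Nat) 1 1 99 3 3 3 114 4 3 88 97 1 95 117 113 1 90 106 108 1 2 101 104 0 0 1 0 0 1 116 55 10 1 102 105 104 104 4 4 4) (@D3.rec (fun _ => Nat) 84 106 106 0 5 4 110 5 112 110 0 1 8 101 6 0 85 1 1 0 1 101 100 100 1 58 63 58 0 89 0 1 97 0 6 0 0 1 99 3) (@D3.rec (fun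 _ => Nat) 57 55 57 1 0 103 1 81 0 106 1 0 110 0 1 56 110 108 110 1 5 0 10 0 1 106 7 109 1 110 107 0 57 57 0 1 103 6 104 0) (@D3.rec (fun _ => Nat) 100 1 8 0 1 5 115 5 5 5 7 108 4 91 1 1 3 61 0 1 94 0 112 1 0 6 7 5 93 0 6 6 0 1 58 91 9 2 0 111) (@D3.rec (fun _ => Nat) 1 108 113 109 1 0 0 1 0 61 110 109 0 0 1 116 93 97 3 105 101 96 1 101 4 0 0 1 112 0 1 104 105 106 0 1 102 0 1 1) (@D3.rec (fun _ => Nat) 0 1 0 105 100 0 0 1 0 1 13 14 0 1 4 4 15 0 1 2 12 15 2 110 80 1 2 2 3 92 1 97 3 94 0 0 1 82 63 4) (@D3.rec (fun _ => Nat) 5 0 1 78 0 1 0 1 84 14 63 1 90 11 96 95 95 92 2 91 3 0 1 0 91 6 6 6 8 4 0 1 12 0 1 0 1 3 0 1) (@D3.rec (fun _ => Nat) 0 101 7 0 103 1 3 3 5 13 5 3 4 0 1 67 12 0 1 0 12 1 11 0 1 13 7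 6 61 6 6 6 8 0 0 0 1 11 5 0) (@D3.rec (fun _ => Nat) 1 13 0 0 1 0 0 1 4 15 0 0 1 0 12 1 0 0 1 0 8 7 0 0 0 1 1 9 10 10 0 12 4 4 6 14 0 6 4 5) (@D3.rec (fun _ => Nat) 118 0 1 76 87 1 6 94 86 0 1 0 7 7 95 0 1 1 2 19 13 0 2 84 1 1 94 14 3 13 0 0 1 1 11 6 87 98 14 0) (@D3.rec (fun _ => Nat) 1 98 1 78 0 0 7 8 6 0 0 89 1 12 91 7 7 0 0 1 103 1 7 0 1 2 0 2 4 3 0 18 111 1 117 1 86 2 0 0) (@D3.rec (fun _ => Nat) 1 1 3 55 54 58 15 0 1 0 1 71 7 6 6 6 6 8 0 99 0 0 0 1 14 1 12 100 100 0 0 1 5 104 109 93 95 1 0 1) (@D3.rec (fun _ => Nat) 0 5 1 111 4 1 113 0 1 3 98 0 1 0 0 1 0 1 6 1 86 0 0 1 0 0 1 5 2 0 0 0 1 0 1 0 5 1 3 5) (@D3.rec (fun _ => Nat) 0 68 0 3 1 7 7 0 0 8 6 7 0 1 1 0 57 97 98 0 94 1 5 66 0 0 0 1 0 1 0 5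 1 0 67 0 1 0 0 1) (@D3.rec (fun _ => Nat) 5 101 89 0 0 1 0 1 0 5 1 0 76 13 15 0 1 0 1 110 87 11 11 94 91 13 111 1 12 2 96 94 12 3 14 112 115 106 111 1) (@D3.rec (fun _ => Nat) 1 8 12 0 6 1 88 117 12 113 1 117 1 2 1 1 5 0 0 1 0 1 2 13 1 0 1 0 0 1 1 1 9 106 91 10 8 0 1 81) (@D3.rec (fun _ => Nat) 83 5 7 58 0 1 114 5 0 112 112 1 64 100 1 0 0 110 1 93 1 88 12 88 95 103 98 1 7 98 100 105 106 98 1 3 3 5 80 82)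
def lv_f_10 : D2 → D3 → Nat := @D2.rec (fun _ => D3 → Nat) (@D3.rec (fun _ => Nat) 3 4 0 1 90 105 111 3 3 102 57 4 58 106 3 54 14 87 103 0 1 14 7 0 110 105 1 63 108 4 0 1 58 0 1 0 1 3 59 106) (@D3.rec (fun _ => Nat) 5 111 94 99 1 6 107 96 109 94 95 1 6 0 1 109 107 1 111 113 100 107 0 101 105 1 0 0 95 94 4 1 0 102 1 111 1 3 98 104) (@D3.rec (fun _ => Nat) 105 7 100 0 107 104 80 1 57 0 1 2 0 1 1 6 100 111 1 0 1 107 4 6 1 4 101 100 56 87 76 1 56 5 0 1 0 54 0 1) (@D3.rec (fun _ => Nat) 3 5 99 98 0 104 3 1 0 104 107 1 93 1 56 59 58 92 91 4 1 1 3 2 3 93 4 5 89 1 93 5 95 109 89 5 95 1 101 0) (@D3.rec (fun _ => Nat) 1 99 105 5 0 1 99 95 99 1 97 97 99 109 1 108 1 109 0 1 0 0 1 4 110 107 119 1 117 55 0 58 97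 1 3 5 3 1 1 1) (@D3.rec (fun _ => Nat) 0 1 1 0 1 107 4 1 1 4 110 4 4 100 106 4 4 100 5 102 100 1 103 5 5 106 110 107 5 5 5 0 1 10 115 1 118 89 91 103) (@D3.rec (fun _ => Nat) 102 105 1 99 112 1 96 95 101 95 107 4 1 99 3 99 99 104 10 95 106 91 0 112 3 97 0 107 115 104 0 1 101 114 1 1 1 101 110 3) (@D3.rec (fun _ => Nat) 97 1 2 108 2 3 113 112 111 108 107 100 5 100 102 103 0 115 1 120 111 111 109 1 114 60 0 109 1 2 116 111 3 1 111 0 1 103 114 112) (@D3.rec (fun _ => Nat) 118 114 5 1 0 1 2 111 79 79 105 0 1 102 3 3 109 108 0 5 117 114 116 1 107 5 109 1 110 109 109 121 1 114 105 108 113 111 113 111) (@D3.rec (fun _ => Nat) 107 112 108 4 1 3 1 1 0 1 107 113 121 99 117 1 1 115 1 107 103 111 1 115 107 102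 1 59 0 0 1 2 0 1 3 113 113 111 114 0) (@D3.rec (fun _ => Nat) 0 118 1 1 112 90 0 1 3 99 101 0 4 1 0 89 88 103 102 98 112 0 1 105 108 1 1 1 94 1 94 1 1 100 1 79 92 1 102 110) (@D3.rec (fun _ => Nat) 2 112 3 112 79 79 109 17 14 15 13 0 1 15 64 91 1 15 62 97 99 99 90 1 2 93 103 84 5 5 7 7 8 0 1 13 6 0 1 2) (@D3.rec (fun _ => Nat) 13 3 0 5 7 7 10 0 1 13 6 1 3 12 4 49 1 80 1 5 3 5 87 1 3 95 91 87 80 78 89 0 107 1 97 91 4 96 0 1) (@D3.rec (fun _ => Nat) 0 1 1 87 7 5 7 6 6 0 0 1 1 74 0 1 85 0 0 1 4 5 59 95 5 57 9 100 0 0 0 1 1 59 1 0 1 89 8 0) (@D3.rec (fun _ => Nat) 1 1 15 5 88 92 90 90 12 96 100 97 94 101 3 90 89 4 1 0 84 1 8 95 96 92 1 6 5 0 1 14 14 0 0 1 0 0 1 100) (@D3.rec (fun _ => Nat) 4 4 1 0 84 1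 1 1 104 101 100 0 4 4 6 0 1 0 6 4 5 5 0 0 1 13 1 2 1 80 3 1 7 83 0 0 1 0 1 6) (@D3.rec (fun _ => Nat) 6 0 6 0 0 1 4 58 0 1 58 0 0 1 2 0 0 1 1 14 5 87 84 3 1 2 1 89 3 1 1 95 14 14 89 16 89 86 1 0) (@D3.rec (fun _ => Nat) 5 5 5 7 90 0 0 1 92 6 7 5 0 6 6 0 0 0 1 1 2 13 88 14 0 1 9 90 96 88 98 0 0 1 82 0 1 0 1 90) (@D3.rec (fun _ => Nat) 87 0 85 0 0 0 1 95 0 1 2 96 3 96 14 0 1 14 0 6 0 0 1 4 3 3 5 5 3 4 0 1 2 1 0 0 1 0 0 1) (@D3.rec (fun _ => Nat) 2 3 0 0 1 1 12 5 88 95 14 0 1 3 3 8 14 94 2 1 103 97 3 100 80 4 4 13 0 0 1 1 2 12 12 88 95 12 87 98) (@D3.rec (fun _ => Nat) 0 0 1 8 0 1 5 0 5 5 5 7 95 4 0 1 0 1 0 1 3 87 6 0 0 1 0 7 5 0 8 0 6 0 0 0 1 1 2 18) (@D3.rec (fun _ => Nat) 13 3 16 0 0 1 100 79 0 1 0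 0 0 1 83 16 13 0 1 8 0 96 74 61 1 62 4 58 1 90 91 0 0 0 1 63 0 1 0 1) (@D3.rec (fun _ => Nat) 3 10 111 0 1 0 0 1 114 0 1 2 0 88 1 0 90 3 88 1 87 88 85 68 1 2 0 2 4 3 0 63 92 1 59 3 3 5 60 4) (@D3.rec (fun _ => Nat) 0 1 16 0 0 1 109 80 0 1 82 8 7 0 7 0 1 1 63 69 67 0 4 4 6 6 4 117 110 0 0 1 0 0 1 7 87 0 1 111) (@D3.rec (fun _ => Nat) 0 1 110 2 67 3 78 0 1 2 0 0 1 0 2 3 1 0 0 1 1 3 81 0 4 0 0 0 1 0 0 1 0 1 2 7 6 0 0 0) (@D3.rec (fun _ => Nat) 1 108 1 9 1 2 106 1 3 87 1 4 89 0 0 106 4 4 9 13 47 1 3 82 1 3 3 6 1 91 94 4 5 4 0 52 4 90 4 112)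
def lv_f_11 : D2 → D3 → Nat := @D2.rec (fun _ => D3 → Nat) (@D3.rec (fun _ => Nat) 1 16 88 5 5 5 14 0 0 1 2 0 99 1 0 1 2 3 1 1 98 90 79 81 98 0 93 0 0 1 51 101 1 0 5 91 0 1 0 1) (@D3.rec (fun _ => Nat) 3 56 0 0 1 7 0 0 1 0 7 6 0 6 6 6 8 0 0 0 1 5 0 1 0 1 0 0 1 5 4 0 0 1 112 0 0 1 0 111) (@D3.rec (fun _ => Nat) 1 10 2 59 8 0 0 1 2 0 0 1 0 3 0 1 0 118 8 6 0 79 1 10 0 0 0 1 0 7 7 7 0 0 1 1 58 60 63 0) (@D3.rec (fun _ => Nat) 13 4 85 1 65 0 58 88 1 61 0 1 0 1 0 61 0 1 2 0 0 1 0 3 1 0 62 0 1 0 0 0 1 5 2 80 0 0 1 0) (@D3.rec (fun _ => Nat) 1 0 5 1 0 60 0 0 1 2 1 0 3 1 1 72 1 14 1 1 94 49 49 11 0 1 117 58 0 1 2 0 0 1 0 3 1 0 58 0) (@D3.rec (fun _ => Nat) 1 0 0 0 1 5 48 88 0 0 1 0 1 0 5 1 0 55 0 0 1 2 1 0 3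 1 68 0 0 0 1 0 61 63 0 0 0 1 0 57) (@D3.rec (fun _ => Nat) 76 1 14 16 79 110 1 70 68 94 1 0 96 14 62 0 1 6 8 12 108 0 1 7 1 109 106 104 108 59 6 57 57 0 1 0 1 59 1 1) (@D3.rec (fun _ => Nat) 96 96 14 6 14 95 90 3 99 1 82 4 61 62 1 0 1 0 0 1 4 0 1 97 8 7 1 1 5 98 89 114 58 0 1 2 1 1 3 85) (@D3.rec (fun _ => Nat) 85 7 14 6 14 97 86 86 86 84 1 102 1 95 1 7 104 96 14 96 15 15 96 112 116 1 89 7 6 6 8 90 114 88 112 1 110 103 91 8) (@D3.rec (fun _ => Nat) 6 0 0 1 1 0 1 0 1 2 2 89 117 94 4 58 1 0 0 0 1 85 96 98 1 85 60 1 114 1 3 85 83 113 112 0 1 4 10 1) (@D3.rec (fun _ => Nat) 5 1 6 0 63 0 1 103 1 90 5 1 6 58 1 63 5 63 63 108 114 0 1 63 1 4 63 66 116 1 107 118 10 118 0 1 111 0 90 117) (@D3.rec (fun _ => Nat)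 1 98 113 100 0 112 1 0 1 103 100 1 100 0 2 3 3 103 62 102 1 64 3 3 60 62 61 0 0 1 8 92 92 5 7 7 4 4 60 103) (@D3.rec (fun _ => Nat) 106 112 112 1 59 110 84 110 1 116 110 67 83 2 108 0 1 84 3 9 102 0 1 0 13 0 1 2 93 93 0 89 89 5 112 0 1 5 57 108) (@D3.rec (fun _ => Nat) 0 108 114 1 2 112 116 0 2 111 2 3 68 110 93 88 90 4 96 6 106 3 110 0 108 110 1 0 4 1 3 96 0 0 1 0 0 1 4 1) (@D3.rec (fun _ => Nat) 5 0 0 0 1 2 113 0 1 0 0 1 0 3 1 0 1 103 1 8 110 107 106 107 0 1 0 1 60 106 11 3 100 102 106 0 0 61 91 89) (@D3.rec (fun _ => Nat) 91 92 1 1 92 99 89 5 5 5 9 92 1 5 1 6 47 47 47 53 1 1 89 5 1 4 6 1 4 7 52 4 4 107 6 0 55 97 1 54) (@D3.rec (fun _ => Nat) 60 97 113 15 109 6 112 89 6 112 114 1 1 47 47 101 47 102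 105 47 102 101 0 91 0 103 1 103 101 1 99 1 99 1 103 57 9 56 9 6) (@D3.rec (fun _ => Nat) 89 1 4 104 1 114 109 1 5 4 11 61 116 1 113 110 2 108 1 0 0 1 0 1 0 0 1 104 7 15 0 0 0 1 102 107 1 106 1 5) (@D3.rec (fun _ => Nat) 112 81 111 63 1 119 90 59 1 85 1 110 2 59 59 101 0 1 0 1 108 0 1 1 0 107 1 1 81 106 13 0 0 1 2 0 1 0 3 1) (@D3.rec (fun _ => Nat) 8 0 1 104 105 101 115 61 55 60 0 1 88 87 58 1 92 8 0 111 115 1 110 112 1 111 109 115 114 111 1 111 0 1 114 101 101 1 99 2) (@D3.rec (fun _ => Nat) 7 1 105 98 105 106 1 6 62 113 115 99 0 100 1 6 1 110 59 82 1 62 62 64 106 1 5 0 1 121 5 1 1 1 100 94 1 57 57 117) (@D3.rec (fun _ => Nat) 115 49 49 113 109 110 0 0 1 1 112 0 1 118 0 0 1 0 69 88 1 0 0 0 1 1 6 101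 0 1 0 1 8 108 6 1 106 108 58 0) (@D3.rec (fun _ => Nat) 1 55 55 101 1 5 99 1 0 5 1 0 1 112 106 1 113 111 1 111 1 2 110 112 112 3 1 103 3 113 120 1 4 117 95 95 99 108 0 1) (@D3.rec (fun _ => Nat) 111 102 1 4 108 1 110 109 0 1 101 102 0 1 5 1 1 120 1 114 113 117 110 112 120 48 1 2 111 0 1 3 1 101 1 102 102 102 1 0) (@D3.rec (fun _ => Nat) 1 2 109 114 1 111 100 112 0 1 112 8 99 1 0 4 4 118 117 1 117 5 1 14 0 1 115 3 116 118 113 110 0 1 1 110 114 114 1 115) (@D3.rec (fun _ => Nat) 0 5 5 5 97 99 1 114 0 1 0 114 6 6 0 122 1 1 15 115 114 1 0 1 113 114 112 118 114 111 111 117 111 111 124 1 111 5 116 112)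
def lv_f_12 : D2 → D3 → Nat := @D2.rec (fun _ => D3 → Nat) (@D3.rec (fun _ => Nat) 110 110 116 114 110 1 111 114 110 111 1 5 5 117 105 108 120 118 6 123 1 51 103 1 5 5 1 19 101 106 106 0 0 0 1 20 99 1 0 1) (@D3.rec (fun _ => Nat) 110 71 1 0 0 0 1 2 4 3 0 4 105 1 11 105 1 0 1 3 3 3 5 12 4 3 119 117 1 93 86 12 96 71 0 95 103 1 12 114) (@D3.rec (fun _ => Nat) 0 14 89 12 13 118 1 20 1 1 15 105 12 0 107 16 83 4 85 86 120 18 13 13 18 103 1 1 11 3 90 14 11 4 1 96 4 1 1 95) (@D3.rec (fun _ => Nat) 97 1 1 5 1 1 97 5 85 67 9 1 97 1 2 96 117 100 98 2 96 98 5 7 0 4 0 1 0 1 1 3 1 6 1 8 3 3 5 5) (@D3.rec (fun _ => Nat) 3 0 1 94 86 0 4 1 2 103 1 3 1 2 13 3 5 0 83 3 1 79 102 0 98 5 85 84 1 98 0 1 6 1 5 0 1 2 108 88)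 (@D3.rec (fun _ => Nat) 0 1 87 0 1 0 0 1 4 101 2 0 1 0 1 58 56 84 1 5 5 5 7 4 4 6 110 1 94 0 1 96 6 4 5 5 0 1 100 100) (@D3.rec (fun _ => Nat) 0 0 1 100 1 5 6 7 6 0 102 5 1 9 86 1 5 113 1 1 1 4 8 9 10 4 4 6 4 105 1 96 109 1 119 4 100 0 1 1) (@D3.rec (fun _ => Nat) 99 99 84 108 105 117 2 105 107 3 3 4 107 110 92 1 1 104 0 1 1 109 112 1 107 1 97 54 6 6 103 0 5 117 106 112 0 1 1 96) (@D3.rec (fun _ => Nat) 96 1 98 102 101 103 65 9 103 102 106 102 106 1 1 7 0 99 101 98 99 21 1 4 4 6 0 5 0 1 2 4 105 16 81 1 1 2 15 96) (@D3.rec (fun _ => Nat) 57 0 6 4 5 0 1 0 0 1 0 1 4 19 95 1 21 4 16 84 0 1 19 1 18 71 1 66 89 0 4 0 1 94 0 1 109 1 3 92) (@D3.rec (fun _ => Nat) 0 1 3 3 5 0 109 3 108 0 1 67 69 6 0 0 0 1 6 92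 113 13 0 1 101 3 92 1 1 9 10 10 0 85 85 0 1 113 111 111) (@D3.rec (fun _ => Nat) 12 86 0 95 0 1 75 0 2 4 3 0 0 1 0 100 0 1 2 3 3 13 87 0 0 0 0 1 0 1 20 18 12 0 1 5 18 0 1 69) (@D3.rec (fun _ => Nat) 92 95 1 0 5 0 1 13 104 1 8 99 1 0 68 0 1 6 0 0 0 1 91 0 1 0 1 0 1 7 0 1 2 0 7 0 1 2 4 3) (@D3.rec (fun _ => Nat) 0 20 0 1 101 115 111 115 1 4 3 3 5 4 3 4 115 1 1 19 106 1 105 100 107 113 1 13 1 0 1 5 90 0 1 67 102 0 1 0) (@D3.rec (fun _ => Nat) 102 5 1 3 3 7 0 1 0 2 66 1 1 3 4 3 0 22 57 4 12 6 109 6 6 8 0 104 7 7 9 0 0 94 1 55 0 1 5 0) (@D3.rec (fun _ => Nat) 111 4 111 1 104 1 0 1 3 1 2 1 3 107 0 1 112 12 2 81 1 99 1 5 102 99 101 5 1 0 66 104 0 1 2 99 0 1 0 1) (@D3.rec (fun _ => Nat) 2 6 4 3 0 0 1 101 0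 0 1 49 6 3 5 0 3 1 49 50 0 50 0 51 0 0 1 2 0 104 1 0 3 1 0 0 1 0 92 1) (@D3.rec (fun _ => Nat) 101 1 5 103 1 1 5 1 99 99 7 7 0 107 104 8 6 7 0 0 1 0 0 1 9 7 0 8 113 0 0 1 4 1 118 1 3 0 0 1) (@D3.rec (fun _ => Nat) 6 0 6 0 0 1 2 0 114 1 0 3 1 0 0 1 0 99 101 1 71 77 0 0 0 1 119 49 0 1 0 0 1 0 0 1 113 1 111 101) (@D3.rec (fun _ => Nat) 109 78 0 0 0 1 0 7 0 1 0 114 0 0 1 95 1 107 106 87 1 1 8 6 109 110 13 1 113 119 107 107 10 8 62 1 109 14 0 1) (@D3.rec (fun _ => Nat) 1 119 114 103 100 100 99 1 106 111 0 99 1 87 4 87 1 103 0 99 103 1 108 1 1 3 1 103 113 7 105 103 102 106 1 108 107 1 4 3) (@D3.rec (fun _ => Nat) 3 5 104 5 3 0 1 101 112 0 1 101 110 118 115 104 4 95 104 106 0 106 119 99 104 1 102 104 101 91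 1 3 102 3 3 5 115 105 4 103) (@D3.rec (fun _ => Nat) 103 108 110 3 59 1 109 112 7 7 109 109 102 106 4 0 1 107 98 1 3 102 103 1 7 109 112 106 100 83 1 0 66 109 94 1 109 105 97 1) (@D3.rec (fun _ => Nat) 101 105 2 7 99 97 106 107 103 102 101 102 106 106 47 49 0 1 99 99 107 49 107 1 114 120 114 0 1 114 104 103 0 0 68 118 112 112 114 91) (@D3.rec (fun _ => Nat) 1 94 1 0 57 114 101 101 103 1 3 102 105 107 0 1 100 1 109 116 105 111 105 1 114 116 67 1 2 104 105 109 107 1 111 67 112 0 1 113) (@D3.rec (fun _ => Nat) 1 101 110 103 101 106 61 0 0 1 1 100 99 106 106 1 1 1 98 99 102 105 61 120 1 110 111 107 114 103 111 119 106 1 112 1 108 111 106 1)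
def lv_f_13 : D2 → D3 → Nat := @D2.rec (fun _ => D3 → Nat) (@D3.rec (fun _ => Nat) 107 100 1 97 102 1 13 117 115 120 0 1 122 119 112 118 120 121 117 1 3 112 1 4 120 106 94 4 100 100 108 1 100 3 107 1 1 104 111 1) (@D3.rec (fun _ => Nat) 5 1 116 1 116 114 108 109 1 110 108 105 113 100 110 111 95 3 3 3 99 117 106 112 105 108 111 1 102 100 2 115 105 117 93 0 1 0 0 1) (@D3.rec (fun _ => Nat) 60 60 59 7 1 106 59 0 1 0 1 61 58 60 60 3 104 4 64 0 1 0 82 0 1 2 91 85 92 4 0 1 9 0 1 0 1 3 3 3) (@D3.rec (fun _ => Nat) 5 89 89 3 118 0 1 85 83 1 2 89 11 0 1 10 0 2 1 3 10 0 1 97 1 99 95 97 93 99 97 97 87 114 2 90 110 4 116 1) (@D3.rec (fun _ => Nat) 9 116 1 119 1 3 3 3 5 89 116 3 113 117 1 1 1 59 117 112 1 87 1 1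 92 102 106 100 95 114 11 1 1 114 1 3 9 1 9 84) (@D3.rec (fun _ => Nat) 90 98 61 7 6 66 6 6 8 0 10 114 1 86 5 0 1 84 11 83 0 0 1 1 4 3 0 1 8 7 0 0 1 1 9 9 10 11 82 4) (@D3.rec (fun _ => Nat) 4 6 11 0 1 112 6 4 0 1 82 83 85 85 86 89 103 83 88 2 90 1 4 87 84 1 5 0 1 8 7 8 6 0 0 90 1 1 0 1) (@D3.rec (fun _ => Nat) 7 0 0 1 1 61 60 61 0 97 94 0 6 87 0 1 97 59 59 58 0 0 1 81 1 0 0 0 1 57 0 0 1 1 5 0 0 1 106 7) (@D3.rec (fun _ => Nat) 0 1 1 110 110 107 0 56 56 0 1 67 7 6 0 0 100 1 0 1 0 5 5 5 7 110 93 0 1 60 0 1 86 1 0 6 7 5 89 0) (@D3.rec (fun _ => Nat) 6 0 0 1 61 10 2 0 0 1 108 0 113 1 0 1 0 0 1 0 59 112 1 2 0 109 1 109 3 0 0 1 0 0 1 0 0 1 0 0) (@D3.rec (fun _ => Nat) 1 118 0 1 0 123 0 0 1 88 109 107 113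 107 107 0 1 9 6 6 1 85 86 0 116 85 106 119 1 118 117 1 2 110 117 1 1 5 88 9) (@D3.rec (fun _ => Nat) 115 10 1 5 60 117 1 117 114 0 109 118 115 0 112 116 117 1 64 89 116 1 115 4 0 90 110 119 116 106 106 93 113 94 106 111 108 1 0 0) (@D3.rec (fun _ => Nat) 1 110 0 1 1 116 104 115 117 5 5 119 0 106 114 0 1 121 6 114 117 110 112 114 118 92 1 105 98 1 101 113 0 1 99 100 100 60 63 58) (@D3.rec (fun _ => Nat) 95 1 115 1 94 115 116 1 111 110 7 110 0 1 1 101 105 1 101 103 83 117 1 2 107 106 110 3 1 110 1 112 110 112 112 108 110 6 118 0) (@D3.rec (fun _ => Nat) 1 1 107 112 109 86 106 1 59 58 58 0 1 100 106 89 1 56 56 1 114 54 114 7 6 6 6 114 8 62 89 0 1 91 112 1 109 114 114 1) (@D3.rec (fun _ => Nat) 7 6 114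 112 0 1 7 7 1 59 60 111 91 0 1 63 115 115 0 1 114 1 108 1 93 87 107 120 1 2 1 118 3 96 4 103 95 92 5 0) (@D3.rec (fun _ => Nat) 105 114 1 118 108 0 1 112 114 114 1 114 107 0 108 1 0 1 54 1 120 115 107 1 104 103 107 102 104 0 1 1 0 1 59 14 16 0 1 5) (@D3.rec (fun _ => Nat) 5 13 15 0 1 2 3 17 112 3 96 92 92 95 96 4 93 0 1 0 1 63 5 6 0 0 1 0 1 0 1 4 87 0 61 0 88 96 99 94) (@D3.rec (fun _ => Nat) 97 3 93 88 101 0 1 0 13 1 7 7 12 5 0 1 14 0 0 1 0 0 1 94 4 0 1 0 13 1 102 1 13 4 4 6 15 0 6 4) (@D3.rec (fun _ => Nat) 5 5 0 0 1 67 12 12 107 103 1 0 14 111 1 13 2 101 96 1 13 3 96 8 78 88 67 0 7 7 7 0 112 0 0 1 106 113 1 1) (@D3.rec (fun _ => Nat) 9 13 0 6 0 1 90 117 13 120 1 118 0 1 2 0 1 1 5 0 17 0 1 0 0 1 0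 2 88 1 0 1 0 0 1 0 1 102 9 0) (@D3.rec (fun _ => Nat) 0 0 1 1 0 1 2 10 11 10 0 93 11 9 0 1 79 81 5 5 7 60 113 14 0 1 81 6 5 0 6 0 123 1 63 88 97 94 87 88) (@D3.rec (fun _ => Nat) 1 97 98 1 99 96 95 0 0 0 1 2 2 87 3 0 1 3 95 100 16 89 13 0 0 1 0 0 1 2 12 12 88 92 99 99 98 1 13 0) (@D3.rec (fun _ => Nat) 1 99 103 1 0 94 9 0 0 0 0 1 96 1 13 91 93 91 94 0 0 1 0 0 1 9 106 99 0 8 0 1 2 4 3 0 100 1 3 3) (@D3.rec (fun _ => Nat) 5 78 80 3 0 1 90 113 3 3 0 0 1 0 0 1 2 102 58 122 57 108 3 15 0 1 90 0 1 68 8 73 66 0 7 7 0 101 7 7) (@D3.rec (fun _ => Nat) 9 0 0 0 1 61 108 4 0 1 81 0 1 1 3 61 108 102 111 92 92 97 1 5 1 6 111 98 111 93 0 96 0 5 0 1 6 1 113 65)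
def lv_f_14 : D2 → D3 → Nat := @D2.rec (fun _ => D3 → Nat) (@D3.rec (fun _ => Nat) 113 100 107 0 1 0 0 100 100 0 1 7 0 1 88 0 60 1 62 0 1 67 7 0 82 60 0 1 1 2 0 0 0 1 5 1 6 3 111 1) (@D3.rec (fun _ => Nat) 0 1 0 1 6 5 1 6 1 0 77 85 76 1 77 1 0 57 0 8 8 0 1 0 1 0 0 7 8 0 105 1 59 1 59 63 61 99 92 95) (@D3.rec (fun _ => Nat) 1 5 4 68 0 0 1 90 1 0 96 1 0 79 5 0 1 5 1 0 63 113 1 68 68 70 1 0 0 1 5 1 103 89 70 73 0 1 0 0) (@D3.rec (fun _ => Nat) 1 0 6 5 101 1 95 1 0 69 70 89 1 69 115 14 94 0 1 1 95 13 13 97 109 98 101 98 99 115 113 9 1 113 87 110 2 87 114 1) (@D3.rec (fun _ => Nat) 1 2 1 112 106 1 1 1 108 77 1 83 115 0 1 83 1 117 64 115 0 110 1 110 1 96 95 102 105 107 106 82 4 4 111 4 112 84 1 12) (@D3.rec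 (fun _ => Nat) 4 58 110 59 58 108 103 0 1 112 107 1 58 119 1 106 1 1 5 58 54 96 109 109 103 111 107 1 113 117 107 111 1 105 111 102 84 1 113 1) (@D3.rec (fun _ => Nat) 98 112 1 102 95 102 0 107 106 103 104 1 62 107 1 1 98 111 1 5 103 100 117 115 113 0 113 1 89 1 57 112 1 99 98 99 1 107 1 109) (@D3.rec (fun _ => Nat) 60 60 62 6 91 91 5 95 108 97 99 1 120 6 99 106 1 108 101 97 99 99 108 102 108 1 108 104 0 1 1 5 113 115 113 110 1 1 102 1) (@D3.rec (fun _ => Nat) 5 5 5 111 122 5 5 5 100 107 6 106 104 107 107 6 109 6 107 0 1 91 0 102 101 98 105 98 111 99 103 103 0 1 101 106 1 1 0 103) (@D3.rec (fun _ => Nat) 4 109 107 99 113 109 116 1 113 114 120 119 1 120 111 114 122 115 119 117 117 115 1 120 120 113 116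 119 113 1 47 115 115 1 1 112 118 44 119 43) (@D3.rec (fun _ => Nat) 116 113 112 113 118 111 113 113 118 114 114 1 107 107 114 115 113 104 120 0 1 122 115 1 2 118 1 0 115 113 113 118 118 1 1 109 114 107 1 103) (@D3.rec (fun _ => Nat) 101 100 1 101 0 1 104 116 105 108 1 91 89 93 96 103 80 80 110 3 99 121 111 17 15 17 79 14 0 1 70 99 105 86 85 6 6 6 8 0) (@D3.rec (fun _ => Nat) 7 10 0 1 14 14 0 7 0 0 1 75 3 13 4 0 1 9 10 0 0 1 4 14 125 102 49 81 96 91 4 96 94 91 91 91 93 1 97 93) (@D3.rec (fun _ => Nat) 103 93 93 103 1 0 1 4 102 6 0 97 102 0 1 97 1 89 0 1 86 1 1 5 6 5 94 0 99 62 59 9 7 105 1 103 1 108 1 61) (@D3.rec (fun _ => Nat) 1 91 91 8 1 116 109 16 98 16 90 92 101 88 98 100 101 0 101 102 94 4 88 88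 0 92 102 5 86 0 1 85 98 94 94 6 6 0 6 0) (@D3.rec (fun _ => Nat) 0 1 92 0 14 90 0 1 0 0 1 2 0 0 1 1 94 5 94 96 0 4 91 88 1 91 102 93 103 0 1 0 5 5 5 7 0 0 1 0) (@D3.rec (fun _ => Nat) 0 1 0 7 5 0 0 6 0 0 0 1 95 1 2 110 62 98 86 107 1 0 1 0 0 1 4 8 0 1 97 8 7 114 7 0 1 1 5 96) (@D3.rec (fun _ => Nat) 89 60 58 0 0 1 58 2 0 0 1 1 3 85 83 0 1 0 1 96 7 15 6 15 90 84 84 84 82 7 95 94 15 102 15 104 17 17 88 114) (@D3.rec (fun _ => Nat) 90 0 1 87 7 6 120 6 6 6 8 88 116 90 0 1 0 112 1 94 89 0 7 8 6 0 0 1 7 8 7 0 0 1 0 1 115 1 123 2) (@D3.rec (fun _ => Nat) 91 119 91 14 0 1 9 97 88 92 98 0 1 0 1 0 1 0 0 1 4 89 90 83 1 87 93 0 1 0 1 106 1 90 0 0 1 4 3 89) (@D3.rec (fun _ => Nat) 98 4 93 16 0 0 1 14 0 0 1 91 7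 119 0 1 1 5 90 9 4 4 6 0 5 4 118 117 99 100 1 3 89 0 1 2 0 0 1 0) (@D3.rec (fun _ => Nat) 2 3 1 1 3 96 3 96 4 0 0 1 118 0 1 2 9 13 6 13 88 99 97 97 95 15 115 1 4 4 10 14 3 93 100 103 97 100 4 100) (@D3.rec (fun _ => Nat) 5 5 5 15 0 1 1 2 100 94 92 3 97 13 89 13 89 97 13 13 89 95 96 0 1 0 1 8 0 0 1 7 96 0 1 94 6 0 6 10) (@D3.rec (fun _ => Nat) 8 95 95 93 5 0 1 91 0 1 0 0 1 91 4 8 90 0 1 2 0 0 1 0 3 91 1 6 0 0 0 1 10 120 0 1 120 0 0 1) (@D3.rec (fun _ => Nat) 0 1 107 1 109 2 89 3 110 108 5 18 0 1 4 60 1 0 0 0 0 1 81 98 110 1 83 60 1 96 1 3 82 79 16 15 0 0 1 4) (@D3.rec (fun _ => Nat) 10 64 0 1 86 64 5 63 64 63 110 60 87 1 105 113 1 0 1 4 64 66 0 1 0 116 1 10 111 0 0 1 111 0 0 0 1 1 114 98)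
def lv_f_15 : D2 → D3 → Nat := @D2.rec (fun _ => D3 → Nat) (@D3.rec (fun _ => Nat) 113 1 5 1 70 98 5 96 1 95 93 109 0 2 3 92 63 0 1 82 3 3 4 60 4 0 1 63 94 61 4 4 60 5 109 112 1 60 16 84) (@D3.rec (fun _ => Nat) 0 1 111 0 112 1 111 68 82 2 0 0 1 80 3 117 9 0 104 0 1 0 9 0 1 2 63 65 64 0 84 84 68 69 0 1 5 7 59 119) (@D3.rec (fun _ => Nat) 119 5 0 119 117 116 121 1 1 2 115 1 80 1 9 2 0 89 2 111 1 111 2 3 69 1 3 69 93 90 92 4 80 6 0 1 5 110 0 0) (@D3.rec (fun _ => Nat) 1 0 1 0 3 5 1 98 0 0 1 116 0 1 2 4 0 71 1 5 5 0 0 109 1 2 0 0 1 0 107 1 0 2 3 1 0 1 102 0) (@D3.rec (fun _ => Nat) 1 3 8 93 119 0 0 0 1 0 1 1 57 107 86 11 3 104 3 100 5 4 0 0 112 60 93 87 93 94 1 1 92 101 87 5 5 5 9 93) (@D3.rec (fun _ =>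 Nat) 15 48 48 54 4 4 4 99 54 4 4 107 5 94 83 5 90 5 92 1 55 60 5 90 5 5 108 16 88 6 6 93 6 6 17 14 0 114 1 1) (@D3.rec (fun _ => Nat) 94 1 77 1 98 97 95 100 102 95 53 0 1 0 5 100 102 1 100 1 3 101 101 1 4 112 1 104 1 5 4 12 58 62 0 1 0 112 110 1) (@D3.rec (fun _ => Nat) 7 2 0 1 1 0 1 0 0 0 1 115 7 7 7 0 0 0 0 1 104 109 1 107 1 77 6 1 79 0 113 1 62 0 1 1 118 5 86 62) (@D3.rec (fun _ => Nat) 0 1 114 1 84 84 0 1 110 1 111 2 61 1 3 61 61 8 0 1 0 1 5 110 0 0 1 113 1 0 5 0 1 1 125 115 1 112 9 0) (@D3.rec (fun _ => Nat) 0 1 81 104 11 11 101 0 0 1 2 0 0 1 0 0 1 0 3 118 1 8 9 108 8 120 111 1 1 107 57 60 60 0 65 58 0 1 90 82) (@D3.rec (fun _ => Nat) 0 66 0 1 112 1 93 107 1 107 1 0 111 1 5 0 97 0 1 0 1 111 5 1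 0 0 1 0 0 103 1 0 2 7 1 0 0 0 1 5) (@D3.rec (fun _ => Nat) 1 6 3 82 62 0 0 1 0 105 1 0 63 7 0 1 6 1 0 60 80 1 59 59 61 0 1 0 1 5 89 0 5 1 0 64 15 15 15 70) (@D3.rec (fun _ => Nat) 50 113 0 109 1 111 87 0 116 1 5 101 0 0 1 0 1 114 5 1 0 0 1 0 0 0 1 0 69 88 1 0 0 0 1 5 1 6 50 90) (@D3.rec (fun _ => Nat) 102 0 0 1 0 0 1 0 70 7 107 1 6 1 0 73 58 0 1 58 53 0 1 0 1 5 2 0 5 1 0 73 0 64 0 1 97 0 0 1) (@D3.rec (fun _ => Nat) 2 0 0 1 0 3 1 97 69 0 1 0 0 0 1 2 0 0 1 0 3 1 0 1 98 97 63 1 12 108 1 107 107 107 59 1 61 0 1 98) (@D3.rec (fun _ => Nat) 97 92 15 97 62 0 1 104 104 1 1 5 0 1 6 106 116 89 115 1 3 4 88 118 85 87 97 86 15 97 87 88 113 88 113 8 98 16 16 98) (@D3.rec (fun _ => Nat) 98 112 116 91 90 115 115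 90 110 103 90 0 0 114 1 1 1 2 1 2 91 118 94 92 94 60 113 0 0 1 103 0 1 113 1 100 84 81 114 4) (@D3.rec (fun _ => Nat) 111 114 1 113 65 10 64 1 64 1 63 6 102 103 1 5 102 66 118 116 86 108 12 1 113 0 1 94 115 1 1 103 64 105 1 84 3 3 60 105) (@D3.rec (fun _ => Nat) 103 101 1 1 92 92 112 112 88 67 86 100 111 102 1 96 105 9 100 113 0 1 0 2 1 16 0 1 3 103 95 0 94 1 1 1 2 90 1 92) (@D3.rec (fun _ => Nat) 92 5 7 4 111 0 1 108 109 5 1 4 102 117 0 1 2 0 1 0 3 1 109 1 111 110 99 1 102 111 0 1 5 0 1 5 111 110 0 1) (@D3.rec (fun _ => Nat) 0 5 1 1 0 5 1 100 102 1 102 10 112 106 107 105 107 1 107 1 57 11 102 117 0 62 117 106 115 112 1 110 1 115 92 6 6 11 117 63) (@D3.rec (fun _ => Nat) 48 54 48 54 5 101 104 97 1 102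 85 116 95 117 113 113 88 48 102 104 107 106 100 1 102 1 105 59 99 55 116 2 108 102 0 1 1 113 1 0) (@D3.rec (fun _ => Nat) 1 0 1 104 106 108 8 14 0 1 0 1 1 97 60 65 95 65 101 1 1 109 1 109 1 114 114 1 115 0 1 5 1 0 5 1 111 109 1 104) (@D3.rec (fun _ => Nat) 103 115 103 61 60 118 0 1 96 1 115 113 114 115 1 117 103 101 101 8 106 116 105 107 112 100 106 106 101 116 110 101 0 102 1 112 59 59 59 116) (@D3.rec (fun _ => Nat) 122 1 100 100 105 0 1 0 1 1 118 104 1 1 1 111 115 109 1 0 1 0 1 0 1 112 0 1 9 110 106 110 87 1 103 109 120 1 1 111) (@D3.rec (fun _ => Nat) 117 112 115 97 108 0 1 111 105 113 95 113 112 107 0 1 100 102 0 1 104 119 114 113 113 1 1 112 113 111 112 0 1 111 9 102 1 115 5 119)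
def lv_f_16 : D2 → D3 → Nat := @D2.rec (fun _ => D3 → Nat) (@D3.rec (fun _ => Nat) 15 1 119 115 1 110 108 0 1 6 6 0 0 1 1 116 116 7 112 1 1 124 111 113 119 118 109 6 118 116 118 111 116 118 116 113 6 6 117 112) (@D3.rec (fun _ => Nat) 21 108 20 104 101 106 0 1 0 0 1 0 1 108 19 1 4 0 1 12 0 1 103 1 3 3 3 5 13 109 3 4 0 1 16 107 13 0 109 1) (@D3.rec (fun _ => Nat) 82 4 84 87 119 119 93 13 88 0 96 14 0 1 103 105 1 14 95 12 60 1 87 87 98 91 88 67 67 2 102 110 0 10 85 1 5 1 1 4) (@D3.rec (fun _ => Nat) 9 9 10 11 4 6 4 1 88 88 1 2 106 2 96 84 96 1 0 1 98 85 83 108 7 97 1 119 6 0 103 1 107 90 0 1 92 1 0 1) (@D3.rec (fun _ => Nat) 1 5 111 109 1 107 1 58 58 6 6 6 8 105 5 5 5 7 117 96 0 1 97 5 6 0 99 1 68 104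 102 0 1 97 1 6 104 7 99 6) (@D3.rec (fun _ => Nat) 97 0 1 0 88 0 10 117 122 109 1 116 99 86 107 102 4 112 111 0 1 105 58 7 1 106 121 1 104 103 102 1 5 5 7 103 17 0 1 6) (@D3.rec (fun _ => Nat) 0 1 2 16 3 57 21 1 21 91 5 21 104 107 93 0 1 86 1 25 0 1 20 108 0 1 76 5 98 94 0 1 91 91 1 6 1 94 86 112) (@D3.rec (fun _ => Nat) 1 76 115 4 89 1 93 84 4 0 1 0 4 100 1 13 0 0 0 1 88 1 1 9 6 113 110 115 15 1 121 106 11 10 0 11 9 62 1 110) (@D3.rec (fun _ => Nat) 87 105 0 1 115 114 25 14 0 1 93 0 1 20 0 1 101 3 3 5 5 3 103 0 1 1 21 1 103 14 1 91 3 3 86 4 4 13 59 0) (@D3.rec (fun _ => Nat) 1 5 4 94 1 0 1 0 1 3 1 2 3 99 13 3 94 1 6 1 69 94 99 6 0 1 104 1 110 104 111 0 70 0 1 89 4 86 1 106) (@D3.rec (fun _ => Nat)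 101 103 123 1 111 1 0 1 3 0 1 0 103 1 112 8 0 1 2 108 8 96 1 2 4 3 0 108 1 8 94 0 1 4 3 3 5 106 5 3) (@D3.rec (fun _ => Nat) 4 0 1 103 114 0 1 101 114 115 115 5 109 107 4 4 95 107 100 96 104 106 106 106 100 100 107 106 1 6 1 67 102 1 104 6 1 104 104 99) (@D3.rec (fun _ => Nat) 4 1 3 68 1 3 3 5 114 105 4 120 120 118 112 3 4 117 1 59 5 109 14 112 7 7 108 109 106 7 7 9 0 1 97 106 8 8 10 114) (@D3.rec (fun _ => Nat) 4 0 1 101 96 1 96 3 105 47 0 1 7 46 1 114 111 111 104 97 1 109 115 111 0 1 81 102 0 0 68 105 1 104 117 1 2 7 3 99) (@D3.rec (fun _ => Nat) 1 99 1 99 7 3 3 5 0 5 3 4 0 1 0 1 103 102 99 106 0 1 1 48 7 48 50 117 1 110 71 50 101 0 1 0 1 0 0 1) (@D3.rec (fun _ => Nat) 114 0 104 1 5 103 111 0 109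 1 0 5 1 0 0 0 1 2 1 111 3 1 90 103 105 99 101 101 103 114 114 117 0 1 106 107 7 0 96 100) (@D3.rec (fun _ => Nat) 1 4 0 1 118 0 1 0 1 3 116 8 108 111 107 1 117 94 112 0 1 69 1 2 122 107 111 1 111 1 67 0 1 0 0 1 99 0 114 1) (@D3.rec (fun _ => Nat) 5 92 101 0 110 1 0 5 1 62 0 121 1 2 1 111 3 1 101 101 122 116 1 94 0 1 2 0 1 116 3 0 1 2 3 1 0 0 1 95) (@D3.rec (fun _ => Nat) 0 0 1 115 1 113 111 98 118 103 1 0 0 1 115 0 1 89 1 0 1 2 3 1 114 112 120 0 1 1 106 109 113 67 107 95 100 1 100 1) (@D3.rec (fun _ => Nat) 100 99 103 1 102 4 6 107 4 1 1 114 97 99 107 1 4 103 60 103 105 106 107 96 1 109 102 108 109 98 85 94 1 68 68 83 105 97 99 106) (@D3.rec (fun _ => Nat) 101 105 1 105 111 1 109 1 114 0 1 123 111 114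 0 102 100 106 1 58 96 109 1 102 113 106 114 111 109 1 115 94 103 62 62 109 117 1 1 121) (@D3.rec (fun _ => Nat) 119 118 114 104 105 111 112 119 122 119 117 120 1 118 118 108 112 115 17 123 118 111 118 120 117 112 1 17 0 1 0 1 62 59 61 61 1 1 60 113) (@D3.rec (fun _ => Nat) 4 104 102 62 0 1 1 118 97 1 81 96 111 95 1 1 1 59 4 4 0 1 84 2 11 0 1 114 1 3 4 10 1 84 98 92 100 97 59 120) (@D3.rec (fun _ => Nat) 88 0 104 63 85 8 62 62 7 7 0 0 11 0 1 10 6 1 90 85 0 11 84 112 121 1 1 2 5 86 0 1 115 9 0 1 0 1 2 10) (@D3.rec (fun _ => Nat) 10 10 12 11 5 7 61 13 88 0 1 119 114 0 5 0 1 60 87 87 87 101 92 5 87 108 95 1 107 9 0 0 116 1 98 1 85 101 114 1) (@D3.rec (fun _ => Nat) 103 0 0 1 63 1 112 63 61 61 0 60 61 60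 98 1 115 112 93 113 119 1 113 6 7 0 89 1 99 99 59 59 59 1 101 1 84 96 1 0)
def lv_f_17 : D2 → D3 → Nat := @D2.rec (fun _ => D3 → Nat) (@D3.rec (fun _ => Nat) 1 1 57 0 0 1 105 0 1 2 7 6 115 120 0 1 115 1 109 112 0 1 93 115 117 120 86 106 81 1 59 59 0 1 72 8 72 74 0 114) (@D3.rec (fun _ => Nat) 1 88 1 100 58 55 0 1 55 116 1 117 7 6 99 6 8 110 96 96 1 88 0 1 90 96 1 7 89 6 87 93 109 1 0 89 0 0 1 1) (@D3.rec (fun _ => Nat) 62 62 63 118 120 87 1 0 114 1 108 62 0 113 1 114 111 1 62 0 1 2 1 103 3 1 93 114 109 87 0 109 1 114 0 0 1 2 1 116) (@D3.rec (fun _ => Nat) 3 1 0 1 2 3 1 0 0 1 119 0 0 1 120 1 123 0 1 2 3 1 122 126 0 120 1 1 109 109 1 1 89 121 2 116 108 113 117 88) (@D3.rec (fun _ => Nat) 115 116 96 118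 109 1 58 1 112 60 93 95 112 1 108 96 106 120 110 121 122 1 1 0 1 118 6 1 108 116 119 0 1 121 87 112 112 114 105 1) (@D3.rec (fun _ => Nat) 105 105 102 63 116 110 114 0 1 101 106 103 115 105 110 112 110 112 112 110 112 1 109 59 0 1 107 115 8 7 7 114 63 1 116 114 9 114 118 0) (@D3.rec (fun _ => Nat) 1 8 111 119 1 112 116 115 1 112 113 118 92 95 1 114 108 1 112 114 107 1 1 57 112 113 108 116 104 1 1 114 15 16 0 1 6 6 98 15) (@D3.rec (fun _ => Nat) 18 0 1 77 3 104 4 97 95 89 94 94 97 96 5 5 96 96 0 1 114 119 1 4 62 6 0 92 1 98 1 89 0 1 1 117 91 5 97 101) (@D3.rec (fun _ => Nat) 114 1 86 63 0 1 113 92 100 100 0 97 120 110 93 93 98 93 103 103 0 1 112 15 0 1 14 110 6 0 0 1 92 125 14 88 127 1 90 116) (@D3.rec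 (fun _ => Nat) 1 2 1 1 117 5 97 97 0 0 1 0 91 15 1 15 113 5 5 5 7 0 0 15 0 109 1 107 6 5 0 0 0 97 1 96 1 96 69 14) (@D3.rec (fun _ => Nat) 14 104 104 0 96 14 113 1 3 107 103 101 4 106 67 99 0 0 1 0 10 0 0 0 1 117 120 64 0 1 1 10 115 10 13 1 8 7 1 117) (@D3.rec (fun _ => Nat) 117 18 15 87 85 2 1 87 1 7 113 1 17 1 2 107 0 1 1 97 90 1 1 102 1 1 1 102 1 1 1 2 100 98 1 3 104 3 0 106) (@D3.rec (fun _ => Nat) 11 93 12 10 0 1 75 1 81 119 7 6 6 60 17 0 1 83 8 1 8 1 63 63 99 94 88 92 2 98 98 3 0 93 0 0 0 1 108 1) (@D3.rec (fun _ => Nat) 106 1 2 103 3 3 89 0 1 97 98 89 0 1 105 1 2 1 1 3 4 3 0 13 89 13 89 98 104 94 99 99 101 14 1 2 103 102 3 0) (@D3.rec (fun _ => Nat) 1 8 0 0 0 1 0 1 96 0 1 1 14 93 91 93 93 98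 0 1 0 0 1 95 0 1 101 1 67 103 8 109 102 99 0 1 105 9 61 107) (@D3.rec (fun _ => Nat) 1 100 3 3 5 80 3 114 1 4 4 1 13 4 1 0 1 2 104 1 1 119 116 111 0 57 109 115 4 17 1 92 92 92 1 73 101 70 71 0) (@D3.rec (fun _ => Nat) 100 98 68 71 104 1 112 8 8 1 63 100 110 0 59 60 8 60 104 4 117 1 74 1 1 3 1 1 56 57 111 92 92 95 96 97 0 109 111 111) (@D3.rec (fun _ => Nat) 109 95 97 1 98 0 1 0 0 1 2 111 65 115 113 65 65 0 1 82 1 113 1 100 88 102 100 107 0 1 107 8 103 115 1 93 85 0 104 1) (@D3.rec (fun _ => Nat) 0 61 0 102 1 8 0 62 0 1 59 1 3 1 110 1 106 1 2 100 116 4 113 1 7 109 1 7 105 8 0 0 104 100 120 74 0 1 70 118) (@D3.rec (fun _ => Nat) 107 87 1 56 112 0 1 106 108 104 9 108 107 1 59 0 1 95 1 103 1 0 0 1 105 59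 59 61 64 66 92 6 0 68 0 122 1 1 90 68) (@D3.rec (fun _ => Nat) 0 1 94 94 6 0 1 101 8 1 2 64 113 1 64 64 66 68 1 1 2 82 119 82 91 102 1 7 79 1 99 1 7 98 1 7 9 0 99 95) (@D3.rec (fun _ => Nat) 79 0 1 78 115 107 96 1 111 89 108 1 110 1 121 100 120 110 118 1 110 112 109 105 100 1 108 107 58 117 114 1 111 107 105 61 95 105 114 6) (@D3.rec (fun _ => Nat) 112 98 103 116 108 103 0 1 6 113 6 100 113 6 6 7 104 111 107 7 113 1 1 108 1 4 1 116 113 112 116 119 121 106 120 116 114 0 1 2) (@D3.rec (fun _ => Nat) 1 117 116 100 118 1 104 110 94 98 110 121 17 79 1 70 86 89 124 99 8 7 0 100 98 1 9 0 10 1 14 117 111 1 112 1 1 77 77 77) (@D3.rec (fun _ => Nat) 0 4 108 111 111 1 12 12 0 0 1 1 109 109 119 104 52 51 97 97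 89 89 95 95 89 89 99 0 95 95 101 103 94 1 5 5 7 0 0 1) (@D3.rec (fun _ => Nat) 0 0 97 0 1 0 88 1 94 88 89 111 116 104 109 94 101 1 111 62 59 101 109 97 110 107 98 91 116 118 97 17 100 101 92 92 98 101 106 106)
def lv_f_18 : D2 → D3 → Nat := @D2.rec (fun _ => D3 → Nat) (@D3.rec (fun _ => Nat) 102 108 1 0 104 0 102 5 92 0 92 94 0 1 97 107 98 104 0 93 1 85 105 0 8 84 90 1 112 7 0 0 1 1 92 92 94 90 1 92) (@D3.rec (fun _ => Nat) 80 2 114 1 0 2 3 1 1 97 3 0 0 1 0 1 2 9 110 6 102 101 98 0 0 0 0 0 1 91 99 109 82 104 95 1 113 117 1 111) (@D3.rec (fun _ => Nat) 6 0 6 11 8 103 105 1 0 1 105 2 1 0 1 0 100 104 1 6 106 97 1 0 1 118 0 116 1 0 1 95 0 1 2 0 2 98 114 99) (@D3.rec (fun _ => Nat) 98 88 115 0 1 88 117 0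 1 1 5 103 0 1 97 100 9 114 9 112 1 116 6 98 6 60 0 1 60 1 3 1 0 1 104 4 96 104 85 85) (@D3.rec (fun _ => Nat) 1 93 1 120 8 96 96 122 102 16 89 86 16 86 87 115 95 97 16 106 106 18 18 105 91 114 118 105 1 89 0 8 114 7 7 7 111 90 118 122) (@D3.rec (fun _ => Nat) 1 121 1 95 105 89 1 123 9 114 0 0 124 1 1 10 0 112 0 1 118 110 1 121 113 1 123 90 99 92 91 0 16 112 90 1 74 11 93 99) (@D3.rec (fun _ => Nat) 112 94 100 0 0 1 0 0 1 4 108 1 124 110 1 1 5 79 96 85 87 95 104 1 114 1 109 104 111 117 0 1 1 5 8 4 98 119 115 95) (@D3.rec (fun _ => Nat) 19 0 0 1 91 104 104 1 97 2 0 1 106 0 1 91 110 113 0 1 116 6 92 6 92 92 9 109 5 5 0 103 1 5 106 119 110 93 4 90) (@D3.rec (fun _ => Nat) 106 0 1 5 104 0 1 0 1 0 3 5 1 3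 99 91 4 93 102 93 96 98 4 94 119 117 93 0 1 0 1 125 2 0 1 3 10 3 3 123) (@D3.rec (fun _ => Nat) 104 14 90 101 94 95 0 95 95 115 93 78 5 5 5 10 77 16 4 93 93 99 105 100 116 100 118 118 113 99 88 0 116 109 91 114 103 1 3 94) (@D3.rec (fun _ => Nat) 90 4 99 14 105 14 101 0 14 14 103 89 97 95 98 1 0 0 1 121 94 0 1 94 115 121 1 111 118 96 96 117 0 1 96 1 11 108 97 97) (@D3.rec (fun _ => Nat) 114 98 95 95 106 105 1 93 93 91 1 96 1 1 93 8 93 105 0 1 5 109 0 1 106 1 0 5 90 1 99 93 90 0 0 107 1 0 1 0) (@D3.rec (fun _ => Nat) 1 106 106 112 119 117 1 109 0 0 1 127 109 1 114 109 1 108 92 3 92 89 4 110 113 5 97 1 62 60 118 1 98 0 1 1 1 4 83 81) (@D3.rec (fun _ => Nat) 106 62 101 4 85 18 18 118 110 112 0 1 1 98 65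 10 10 65 98 1 110 65 112 63 64 110 60 116 115 117 1 66 66 101 0 110 1 85 120 115) (@D3.rec (fun _ => Nat) 112 1 115 114 0 1 1 113 116 114 118 1 110 110 1 113 1 118 98 116 115 104 84 1 3 120 1 114 64 4 4 5 5 0 1 69 65 114 5 6) (@D3.rec (fun _ => Nat) 112 112 83 0 112 1 116 86 68 0 104 1 68 84 100 3 1 114 1 101 4 104 0 1 2 103 104 0 116 1 118 2 3 1 11 0 1 117 3 115) (@D3.rec (fun _ => Nat) 118 112 115 110 95 113 64 65 113 1 1 119 112 1 120 119 119 2 88 96 111 2 117 0 1 3 3 4 71 111 90 90 88 5 5 99 7 1 6 106) (@D3.rec (fun _ => Nat) 0 0 1 118 0 1 0 2 116 1 6 1 4 98 92 0 1 0 1 2 1 121 0 1 93 6 106 0 107 1 104 1 5 3 110 0 1 111 106 1) (@D3.rec (fun _ => Nat) 0 5 1 105 3 4 1 118 0 1 102 106 1 106 114 0 116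 1 0 1 0 1 60 1 60 4 4 102 0 89 95 1 120 1 92 105 89 96 91 98) (@D3.rec (fun _ => Nat) 101 6 6 6 6 11 11 101 63 109 49 49 53 5 52 5 5 5 5 5 109 113 113 93 98 98 97 6 106 92 111 109 116 111 18 0 7 114 113 119) (@D3.rec (fun _ => Nat) 114 123 111 7 17 113 117 0 1 94 101 101 104 117 1 112 1 4 102 102 100 4 71 88 101 109 102 110 63 116 115 1 115 2 1 92 117 115 3 1) (@D3.rec (fun _ => Nat) 1 0 115 1 118 0 1 119 1 118 8 8 10 116 117 1 0 114 1 81 0 1 107 1 70 61 1 64 64 1 117 61 95 61 93 1 114 85 1 3) (@D3.rec (fun _ => Nat) 61 103 1 1 6 109 120 118 1 0 1 115 120 94 115 6 1 0 1 118 106 120 8 1 1 104 109 104 104 104 110 0 1 5 1 115 0 1 111 0) (@D3.rec (fun _ => Nat) 1 108 5 1 1 105 116 1 9 111 108 116 112 111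 116 103 60 105 62 60 60 0 1 64 1 1 1 110 114 63 0 111 1 5 0 95 0 1 0 97) (@D3.rec (fun _ => Nat) 1 118 8 1 121 1 2 1 0 3 1 0 101 1 93 101 3 8 1 0 100 0 1 105 99 1 6 103 1 6 99 0 110 4 110 62 102 101 1 99) (@D3.rec (fun _ => Nat) 107 1 99 8 99 1 107 6 107 1 0 1 117 110 62 1 62 62 120 62 62 62 1 105 95 100 1 102 89 65 103 1 102 66 66 1 66 66 63 101)
def lv_f_19 : D2 → D3 → Nat := @D2.rec (fun _ => D3 → Nat) (@D3.rec (fun _ => Nat) 122 114 1 97 115 116 1 5 104 101 103 104 1 0 1 115 8 1 0 1 2 1 0 3 1 96 105 1 95 1 71 88 1 0 0 0 1 104 0 1) (@D3.rec (fun _ => Nat) 6 120 1 6 2 110 50 53 90 103 115 105 1 6 124 1 106 67 8 1 1 67 6 1 67 103 117 108 72 62 121 1 56 88 0 1 1 0 2 95) (@D3.rec (fun _ => Nat) 1 118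 83 80 108 1 100 74 75 0 1 91 114 1 115 1 2 3 1 119 1 5 2 0 0 1 89 1 117 5 1 114 97 0 1 99 1 1 1 5) (@D3.rec (fun _ => Nat) 2 117 0 1 91 1 0 5 1 63 1 97 1 97 1 6 1 105 110 4 88 113 87 87 89 88 118 103 119 91 115 117 92 0 114 1 1 2 91 117) (@D3.rec (fun _ => Nat) 106 1 1 104 1 78 113 101 117 116 117 1 105 94 102 113 106 102 112 0 1 0 3 1 1 4 101 93 1 111 114 1 111 116 0 1 5 1 0 5) (@D3.rec (fun _ => Nat) 1 112 99 110 0 1 6 1 5 111 112 1 112 6 1 5 1 100 112 105 62 63 100 112 1 108 119 119 117 119 113 116 99 102 114 1 0 1 116 1) (@D3.rec (fun _ => Nat) 109 106 108 106 0 1 1 99 111 114 1 5 5 1 111 104 103 1 117 116 117 113 110 115 105 107 112 101 108 101 116 108 0 101 101 102 1 95 0 1) (@D3.rec (fun _ =>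 Nat) 115 1 118 113 109 0 1 127 1 0 1 114 111 112 1 10 108 113 112 105 0 1 111 105 113 113 115 115 0 1 103 104 0 1 99 113 113 114 115 0) (@D3.rec (fun _ => Nat) 1 112 10 101 0 1 7 1 1 116 116 8 121 111 115 121 113 118 116 119 21 108 24 104 107 101 106 104 98 1 1 0 1 109 117 1 76 110 17 107) (@D3.rec (fun _ => Nat) 1 14 111 1 116 84 4 4 15 116 4 1 13 62 1 86 86 86 101 90 89 1 108 16 1 13 95 105 110 91 16 98 11 0 1 87 112 10 10 12) (@D3.rec (fun _ => Nat) 11 96 93 99 1 100 87 100 85 99 119 105 105 1 107 1 89 1 107 113 111 106 111 59 58 58 7 101 77 6 111 114 1 98 99 0 1 68 114 1) (@D3.rec (fun _ => Nat) 98 105 117 99 1 1 120 1 93 122 118 118 1 103 6 105 1 1 3 59 6 93 110 0 77 1 2 1 100 1 76 76 106 97 95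 1 102 6 75 114) (@D3.rec (fun _ => Nat) 107 84 115 116 87 105 97 87 84 86 109 107 0 1 116 1 85 100 80 15 0 1 1 1 10 8 115 111 110 109 15 106 113 10 0 1 108 87 87 105) (@D3.rec (fun _ => Nat) 0 1 14 0 1 95 105 103 1 76 22 0 1 104 4 0 105 102 105 105 102 1 4 4 88 5 117 119 107 114 62 0 1 7 4 95 94 1 0 1) (@D3.rec (fun _ => Nat) 83 4 1 108 102 104 113 106 1 87 117 119 1 104 88 103 117 115 1 0 1 110 109 1 115 117 1 2 118 119 103 115 99 3 3 5 3 116 1 111) (@D3.rec (fun _ => Nat) 96 1 5 4 4 6 109 6 4 0 1 104 114 113 0 1 103 117 114 116 113 111 6 106 95 95 97 100 107 102 121 108 104 101 109 5 4 105 104 4) (@D3.rec (fun _ => Nat) 112 118 60 6 114 14 114 108 111 116 96 1 120 96 0 1 103 98 105 111 0 102 1 7 116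 113 105 1 104 97 1 109 102 1 69 101 3 99 100 101) (@D3.rec (fun _ => Nat) 104 78 4 4 6 1 4 116 0 1 1 105 103 1 94 113 1 1 105 95 1 101 1 105 109 1 5 107 117 0 1 0 109 7 5 103 1 112 0 1) (@D3.rec (fun _ => Nat) 0 1 115 1 2 122 103 110 110 101 101 112 118 120 0 1 106 0 1 120 5 121 1 118 1 107 1 4 104 118 111 103 1 2 92 1 0 96 1 108) (@D3.rec (fun _ => Nat) 1 110 110 1 5 93 101 0 1 0 115 8 5 119 1 63 63 113 0 1 95 113 116 118 118 92 0 1 118 2 116 1 113 112 1 117 2 123 0 1) (@D3.rec (fun _ => Nat) 1 94 97 97 1 0 1 113 7 115 98 1 127 1 117 119 1 91 117 1 93 116 118 116 116 1 8 102 1 120 1 102 117 121 121 119 105 120 118 1) (@D3.rec (fun _ => Nat) 1 61 116 64 1 115 116 62 60 61 121 122 1 116 0 1 4 5 12 85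 1 105 65 102 93 0 10 0 0 0 1 0 1 12 1 86 118 1 13 120) (@D3.rec (fun _ => Nat) 85 87 2 117 114 113 119 88 110 1 117 1 2 1 3 110 123 110 11 117 11 13 117 115 0 1 94 109 1 59 1 63 63 104 89 8 0 1 1 105) (@D3.rec (fun _ => Nat) 0 1 69 1 121 89 118 1 63 60 100 98 7 0 1 99 101 101 105 90 1 1 1 2 102 1 108 8 111 116 119 1 1 95 118 110 1 69 108 69) (@D3.rec (fun _ => Nat) 71 114 115 1 60 90 1 8 101 103 112 1 107 90 116 116 109 1 89 110 1 1 63 63 118 1 110 63 0 1 116 115 112 7 114 1 105 111 115 87) (@D3.rec (fun _ => Nat) 0 1 114 111 120 1 1 120 63 1 120 109 124 0 1 1 116 115 121 0 1 120 1 7 1 102 119 117 123 0 1 122 116 93 1 122 1 112 115 105)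
def lv_f_20 : D2 → D3 → Nat := @D2.rec (fun _ => D3 → Nat) (@D3.rec (fun _ => Nat) 105 112 113 1 114 112 114 114 111 1 109 8 8 116 116 119 117 1 121 116 114 95 96 97 1 7 1 5 5 94 94 98 0 97 1 106 5 7 1 94) (@D3.rec (fun _ => Nat) 104 1 89 111 101 115 1 100 111 108 0 1 120 103 113 97 109 100 99 90 90 1 116 15 117 85 96 1 108 7 1 1 92 95 106 113 116 2 118 0) (@D3.rec (fun _ => Nat) 117 9 6 99 1 1 0 93 1 93 102 95 111 6 11 121 102 1 1 111 1 99 103 1 119 1 1 102 97 8 106 1 111 115 0 0 1 0 1 98) (@D3.rec (fun _ => Nat) 1 0 0 0 1 98 0 1 1 98 122 1 64 11 119 122 18 87 1 108 90 106 110 107 3 98 3 3 103 105 104 107 4 0 105 107 3 0 1 108) (@D3.rec (fun _ => Nat) 11 74 1 116 1 0 106 96 96 94 119 0 4 0 1 113 0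 102 1 95 0 1 1 3 3 106 108 102 95 1 108 99 97 102 117 1 93 3 3 3) (@D3.rec (fun _ => Nat) 5 112 108 110 110 104 110 3 0 1 101 105 102 103 96 100 106 121 103 1 0 1 0 1 1 115 1 104 1 93 93 100 112 113 1 95 0 1 111 1) (@D3.rec (fun _ => Nat) 63 1 95 99 105 110 105 104 110 101 107 0 1 107 107 65 97 1 3 114 112 99 3 113 1 114 94 92 92 122 112 111 100 100 73 111 104 1 71 117) (@D3.rec (fun _ => Nat) 102 115 108 9 63 105 113 115 1 63 54 114 0 98 0 121 116 1 111 106 116 114 95 99 94 95 0 118 1 2 0 120 1 1 2 7 3 120 105 108) (@D3.rec (fun _ => Nat) 67 113 1 102 93 107 111 1 110 103 119 0 0 109 1 0 109 1 106 1 101 0 1 62 112 1 4 2 96 106 101 100 111 119 115 8 101 8 111 8) (@D3.rec (fun _ => Nat) 8 0 107 7 119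 1 114 112 1 100 108 0 117 102 1 72 106 1 113 117 112 104 58 105 1 2 2 3 1 1 115 107 61 61 63 120 120 120 1 1) (@D3.rec (fun _ => Nat) 101 103 1 98 0 9 1 2 103 2 100 3 98 65 65 2 105 103 103 104 8 8 105 94 8 8 117 96 98 98 0 1 101 0 1 121 120 115 109 97) (@D3.rec (fun _ => Nat) 119 101 100 103 102 106 103 108 1 110 7 113 7 103 106 109 111 114 116 116 1 119 106 121 112 98 100 0 1 100 77 86 1 109 115 77 77 0 119 1) (@D3.rec (fun _ => Nat) 96 94 78 121 1 118 1 110 104 119 116 54 109 98 98 93 93 96 117 1 113 121 1 1 1 99 1 99 1 97 102 1 94 114 89 114 114 96 103 111) (@D3.rec (fun _ => Nat) 103 102 105 64 61 116 121 110 100 92 115 99 18 102 103 90 90 104 100 102 102 1 114 1 105 95 1 109 1 109 114 125 107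 94 1 100 107 1 81 1) (@D3.rec (fun _ => Nat) 118 1 102 111 121 94 122 120 117 88 1 3 99 100 1 1 115 2 1 109 10 118 114 112 98 0 100 104 101 0 0 1 105 1 100 1 97 1 1 110) (@D3.rec (fun _ => Nat) 100 104 99 106 1 115 12 116 115 114 114 1 2 1 92 1 105 105 96 1 123 94 116 116 1 109 97 115 1 116 101 1 2 99 3 101 0 1 101 3) (@D3.rec (fun _ => Nat) 97 3 120 88 110 117 1 1 6 6 101 101 103 1 105 122 123 114 118 108 122 118 108 1 4 1 106 105 107 85 85 95 95 95 122 112 114 120 122 104) (@D3.rec (fun _ => Nat) 118 98 116 17 86 17 89 96 106 105 117 116 117 112 116 89 108 120 1 115 111 119 120 124 117 122 89 94 114 0 122 1 1 0 115 0 1 0 122 112) (@D3.rec (fun _ => Nat) 1 121 125 124 106 93 99 112 1 114 93 115 100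 114 120 0 113 1 115 108 1 106 112 118 1 1 5 112 110 114 107 113 114 85 89 108 110 110 0 1) (@D3.rec (fun _ => Nat) 6 6 10 97 97 0 0 1 116 106 1 93 2 116 106 0 1 100 106 1 93 121 0 1 121 92 7 92 120 92 92 97 101 92 108 108 1 107 94 94) (@D3.rec (fun _ => Nat) 107 107 1 6 106 1 0 105 1 4 6 1 100 93 4 100 100 93 94 102 95 98 98 99 96 98 5 96 104 94 94 0 1 0 1 123 3 3 3 112) (@D3.rec (fun _ => Nat) 1 4 10 123 105 107 96 0 98 101 0 1 120 108 106 110 85 95 115 114 0 95 106 108 118 116 99 101 120 119 114 108 116 117 113 122 120 114 1 118) (@D3.rec (fun _ => Nat) 4 94 99 1 15 103 97 104 95 1 1 98 96 96 115 119 1 94 92 120 98 98 117 1 96 97 115 102 117 102 115 95 108 86 109 91 91 108 108 1) (@D3.rec (fun _ =>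 Nat) 6 106 1 105 115 6 93 1 101 93 90 93 0 110 1 1 111 1 106 1 111 107 112 123 122 108 0 123 1 1 115 122 94 91 4 91 98 94 112 121) (@D3.rec (fun _ => Nat) 115 106 101 1 112 117 105 118 103 94 1 98 120 12 65 66 113 117 119 116 119 112 1 86 117 112 116 1 126 118 116 116 100 114 117 5 5 1 65 6) (@D3.rec (fun _ => Nat) 114 1 88 70 1 124 106 107 103 1 105 97 118 0 1 3 14 1 116 118 93 118 65 116 119 116 115 0 1 94 6 101 1 1 2 1 116 105 1 103)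
def lv_f_21 : D2 → D3 → Nat := @D2.rec (fun _ => D3 → Nat) (@D3.rec (fun _ => Nat) 124 113 100 1 1 119 1 115 1 113 116 114 1 116 107 1 119 107 1 104 1 121 1 1 62 1 91 89 103 7 7 11 0 50 6 107 100 108 101 113) (@D3.rec (fun _ => Nat) 93 120 116 1 120 113 112 0 1 100 111 90 104 117 3 110 113 121 1 117 119 1 119 9 119 1 109 1 109 114 111 117 87 1 120 93 119 118 90 117) (@D3.rec (fun _ => Nat) 1 117 104 118 1 115 117 1 109 1 107 112 111 113 110 109 60 122 1 116 1 114 109 106 1 1 1 113 98 3 0 4 1 0 1 4 1 107 99 1) (@D3.rec (fun _ => Nat) 114 107 99 99 109 1 110 64 118 101 99 1 61 61 95 66 117 117 118 118 114 107 101 104 5 1 101 1 96 117 1 64 99 90 1 100 1 1 117 2) (@D3.rec (fun _ => Nat) 122 1 114 122 53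 108 106 107 115 118 88 1 1 102 1 99 121 123 2 111 95 117 120 125 1 1 115 109 117 120 1 121 63 2 116 117 76 77 122 1) (@D3.rec (fun _ => Nat) 117 1 64 120 109 87 115 1 77 113 1 4 1 100 113 121 1 122 1 112 1 7 111 7 119 1 113 104 106 1 119 114 107 103 101 115 103 110 112 110) (@D3.rec (fun _ => Nat) 1 103 104 1 120 111 127 1 111 0 1 114 109 112 111 11 112 108 1 114 109 115 0 113 114 0 1 116 0 111 109 1 102 114 0 0 118 1 114 117) (@D3.rec (fun _ => Nat) 11 0 1 8 118 120 111 115 120 121 104 106 1 110 87 110 15 86 103 97 108 94 108 110 109 16 125 97 1 124 100 114 85 117 107 107 116 119 113 107) (@D3.rec (fun _ => Nat) 89 61 79 116 116 1 113 69 102 93 79 0 1 2 96 101 101 78 78 106 116 117 8 107 107 86 89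 113 107 86 107 89 1 109 113 107 1 113 112 109) (@D3.rec (fun _ => Nat) 17 110 1 111 89 1 111 107 1 105 117 110 111 113 1 108 103 1 115 118 102 85 5 88 109 120 62 105 119 1 7 96 98 96 1 97 112 104 106 116) (@D3.rec (fun _ => Nat) 117 1 115 6 5 7 5 1 103 1 115 97 99 102 121 101 117 6 120 116 96 1 1 100 78 100 106 1 94 119 116 1 127 8 100 105 1 118 122 1) (@D3.rec (fun _ => Nat) 1 110 2 123 112 1 1 100 1 95 97 1 117 120 110 116 1 112 116 1 116 117 119 1 2 119 2 1 94 94 94 94 118 97 8 1 111 117 123 88) (@D3.rec (fun _ => Nat) 0 1 5 120 12 0 1 118 117 127 1 116 1 1 1 0 88 90 84 3 3 97 112 123 120 112 3 113 120 116 1 1 1 63 1 101 101 107 120 118) (@D3.rec (fun _ => Nat) 111 105 116 121 64 117 1 114 8 119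 109 1 118 116 1 104 113 111 122 121 1 122 8 1 1 112 118 121 1 100 107 100 10 116 97 110 94 1 106 1) (@D3.rec (fun _ => Nat) 112 111 102 96 108 109 118 1 0 1 1 119 1 114 0 1 1 98 113 114 1 101 0 108 105 105 105 4 4 4 119 111 4 1 4 1 108 1 98 108) (@D3.rec (fun _ => Nat) 97 1 98 1 95 1 1 123 106 99 100 117 119 105 4 104 4 103 4 4 1 106 1 1 104 104 1 97 105 101 105 129 111 1 114 99 116 122 107 115) (@D3.rec (fun _ => Nat) 123 119 118 115 115 115 1 119 95 121 116 1 116 98 118 1 2 8 3 112 1 101 3 113 113 125 119 107 1 1 1 107 108 1 127 114 98 104 105 9) (@D3.rec (fun _ => Nat) 117 113 1 112 114 113 108 1 115 104 2 114 118 104 107 125 114 1 2 100 3 100 100 116 120 110 109 9 116 121 105 119 119 1 1 5 105 108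 0 113) (@D3.rec (fun _ => Nat) 114 1 77 119 111 1 99 99 91 91 101 101 102 102 103 103 94 94 104 112 100 116 118 120 1 112 0 1 112 1 104 102 113 115 111 109 115 128 3 101) (@D3.rec (fun _ => Nat) 109 118 114 1 108 90 110 105 112 100 120 87 95 95 122 95 122 116 122 124 98 98 99 115 119 1 117 115 1 120 1 1 106 124 116 112 1 112 108 120) (@D3.rec (fun _ => Nat) 110 121 1 7 120 1 113 1 116 106 1 100 1 94 118 118 94 99 94 107 92 105 1 100 93 99 93 5 101 101 98 98 101 99 99 103 1 1 4 115) (@D3.rec (fun _ => Nat) 13 119 107 0 99 1 100 118 1 113 1 113 124 16 103 104 100 99 117 96 122 98 100 119 116 95 111 101 95 106 92 1 112 1 116 116 94 94 122 115) (@D3.rec (fun _ => Nat) 118 122 121 86 116 128 102 117 127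 105 1 1 120 114 118 120 119 1 114 118 1 117 110 117 125 124 1 1 111 95 117 107 107 103 115 1 113 120 119 109) (@D3.rec (fun _ => Nat) 109 125 117 118 1 118 0 1 1 110 121 115 120 1 119 1 124 117 1 124 124 110 124 122 113 125 109 87 107 88 63 118 1 111 90 109 102 96 124 115) (@D3.rec (fun _ => Nat) 119 120 119 115 96 96 96 124 96 99 99 110 108 1 119 2 124 120 1 120 1 117 112 120 125 122 9 126 125 123 9 107 115 113 111 1 120 1 101 120) (@D3.rec (fun _ => Nat) 116 1 115 118 126 117 108 118 112 3 120 120 112 5 117 111 1 104 120 1 119 97 128 102 94 99 101 95 100 121 103 1 125 108 119 1 121 124 96 2)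
def lv_f : Pt → Nat := @Pt.rec (fun _ => Nat) (@D1.rec (fun _ => D2 → D3 → Nat) lv_f_0 lv_f_1 lv_f_2 lv_f_3 lv_f_4 lv_f_5 lv_f_6 lv_f_7 lv_f_8 lv_f_9 lv_f_10 lv_f_11 lv_f_12 lv_f_13 lv_f_14 lv_f_15 lv_f_16 lv_f_17 lv_f_18 lv_f_19 lv_f_20 lv_f_21)
abbrev lc_f_Cert_tree : Cert rels S Gen.f := Cert.tree
abbrev lc_f_rc_11_1 : Cert rels S Gen.f := rc_11_1
abbrev lc_f_rc_11_3 : Cert rels S Gen.f := rc_11_3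
abbrev lc_f_rc_11_5 : Cert rels S Gen.f := rc_11_5
abbrev lc_f_rc_16_1 : Cert rels S Gen.f := rc_16_1
abbrev lc_f_rc_16_3 : Cert rels S Gen.f := rc_16_3
abbrev lc_f_rc_20_1 : Cert rels S Gen.f := rc_20_1
abbrev lc_f_rc_20_3 : Cert rels S Gen.f := rc_20_3
abbrev lc_f_rc_23_1 : Cert rels S Gen.f := rc_23_1
abbrev lc_f_rc_23_3 : Cert rels S Gen.f := rc_23_3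
abbrev lc_f_rc_25_0 : Cert rels S Gen.f := rc_25_0
abbrev lc_f_rc_25_1 : Cert rels S Gen.f := rc_25_1
abbrev lc_f_rc_26_0 : Cert rels S Gen.f := rc_26_0
abbrev lc_f_rc_26_2 : Cert rels S Gen.f := rc_26_2
abbrev lc_f_rc_26_4 : Cert rels S Gen.f := rc_26_4
abbrev lc_f_rc_26_6 : Cert rels S Gen.f := rc_26_6
abbrev lc_f_rc_29_2 : Cert rels S Gen.f := rc_29_2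
abbrev lc_f_rc_29_4 : Cert rels S Gen.f := rc_29_4
abbrev lc_f_rc_30_11 : Cert rels S Gen.f := rc_30_11
abbrev lc_f_rc_30_15 : Cert rels S Gen.f := rc_30_15
abbrev lc_f_rc_30_19 : Cert rels S Gen.f := rc_30_19
abbrev lc_f_rc_30_3 : Cert rels S Gen.f := rc_30_3
abbrev lc_f_rc_30_7 : Cert rels S Gen.f := rc_30_7
abbrev lc_f_rc_31_1 : Cert rels S Gen.f := rc_31_1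
abbrev lc_f_rc_31_10 : Cert rels S Gen.f := rc_31_10
abbrev lc_f_rc_31_13 : Cert rels S Gen.f := rc_31_13
abbrev lc_f_rc_31_4 : Cert rels S Gen.f := rc_31_4
abbrev lc_f_rc_31_7 : Cert rels S Gen.f := rc_31_7
abbrev lc_f_rc_5_1 : Cert rels S Gen.f := rc_5_1
abbrev lc_f_rc_5_3 : Cert rels S Gen.f := rc_5_3
abbrev lc_f_sc_4_0 : Cert rels S Gen.f := sc_4_0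
def ce_f_0 : D2 → D3 → (Cert rels S Gen.f) := @D2.rec (fun _ => D3 → (Cert rels S Gen.f)) (@D3.rec (fun _ => (Cert rels S Gen.f)) lc_f_sc_4_0 lc_f_rc_23_1 lc_f_rc_20_1 lc_f_rc_16_1 lc_f_Cert_tree lc_f_rc_20_1 lc_f_Cert_tree lc_f_Cert_tree lc_f_rc_25_0 lc_f_Cert_tree lc_f_rc_23_1 lc_f_Cert_tree lc_f_Cert_tree lc_f_rc_25_0 lc_f_rc_29_2 lc_f_Cert_tree lc_f_Cert_tree lc_f_rc_25_0 lc_f_Cert_tree lc_f_rc_25_0 lc_f_rc_25_0 lc_f_Cert_tree lc_f_Cert_tree lc_f_rc_25_0 lc_f_Cert_tree lc_f_Cert_tree lc_f_Cert_tree lc_f_rc_25_0 lc_f_rc_26_2 lc_f_rc_11_3 lc_f_Cert_tree lc_f_Cert_tree lc_f_Cert_tree lc_f_rc_25_0 lc_f_Cert_tree lc_f_rc_25_0 lc_f_Cert_tree lc_f_rc_26_6 lc_f_rc_25_0 lc_f_Cert_tree) (@D3.rec (fun _ =>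 (Cert rels S Gen.f)) lc_f_rc_11_3 lc_f_Cert_tree lc_f_rc_25_0 lc_f_rc_29_2 lc_f_Cert_tree lc_f_Cert_tree lc_f_rc_25_0 lc_f_Cert_tree lc_f_rc_11_3 lc_f_rc_25_0 lc_f_Cert_tree lc_f_rc_25_0 lc_f_Cert_tree lc_f_Cert_tree lc_f_Cert_tree lc_f_rc_25_0 lc_f_rc_5_3 lc_f_rc_25_0 lc_f_rc_26_2 lc_f_rc_11_3 lc_f_Cert_tree lc_f_rc_30_11 lc_f_rc_25_0 lc_f_rc_29_2 lc_f_rc_5_3 lc_f_Cert_tree lc_f_rc_25_0 lc_f_Cert_tree lc_f_rc_25_0 lc_f_Cert_tree lc_f_Cert_tree lc_f_rc_25_0 lc_f_Cert_tree lc_f_rc_11_3 lc_f_rc_5_1 lc_f_Cert_tree lc_f_rc_25_0 lc_f_rc_26_6 lc_f_rc_25_0 lc_f_Cert_tree) (@D3.rec (fun _ => (Cert rels S Gen.f)) lc_f_rc_11_3 lc_f_Cert_tree lc_f_Cert_tree lc_f_rc_25_0 lc_f_rc_29_2 lc_f_rc_16_1 lc_f_rc_29_4 lc_f_Cert_tree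 lc_f_Cert_tree lc_f_rc_25_0 lc_f_rc_26_2 lc_f_rc_11_3 lc_f_rc_11_3 lc_f_Cert_tree lc_f_Cert_tree lc_f_Cert_tree lc_f_rc_25_0 lc_f_Cert_tree lc_f_rc_25_0 lc_f_Cert_tree lc_f_rc_11_3 lc_f_rc_26_6 lc_f_Cert_tree lc_f_rc_25_0 lc_f_rc_11_3 lc_f_rc_29_4 lc_f_rc_25_0 lc_f_rc_11_3 lc_f_Cert_tree lc_f_Cert_tree lc_f_Cert_tree lc_f_rc_25_0 lc_f_Cert_tree lc_f_Cert_tree lc_f_rc_25_0 lc_f_rc_5_3 lc_f_Cert_tree lc_f_rc_25_0 lc_f_rc_5_3 lc_f_rc_11_3) (@D3.rec (fun _ => (Cert rels S Gen.f)) lc_f_Cert_tree lc_f_rc_11_3 lc_f_Cert_tree lc_f_rc_25_1 lc_f_rc_16_1 lc_f_Cert_tree lc_f_rc_5_3 lc_f_Cert_tree lc_f_rc_25_0 lc_f_rc_11_1 lc_f_rc_20_1 lc_f_rc_29_2 lc_f_rc_11_1 lc_f_rc_5_3 lc_f_rc_25_0 lc_f_Cert_tree lc_f_rc_25_0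 lc_f_Cert_tree lc_f_rc_11_3 lc_f_rc_5_1 lc_f_rc_30_3 lc_f_rc_25_0 lc_f_Cert_tree lc_f_rc_25_0 lc_f_Cert_tree lc_f_rc_11_3 lc_f_rc_5_1 lc_f_Cert_tree lc_f_rc_25_0 lc_f_rc_31_10 lc_f_rc_20_3 lc_f_rc_25_0 lc_f_rc_11_3 lc_f_Cert_tree lc_f_rc_11_3 lc_f_Cert_tree lc_f_Cert_tree lc_f_rc_25_0 lc_f_rc_29_2 lc_f_rc_16_1) (@D3.rec (fun _ => (Cert rels S Gen.f)) lc_f_rc_29_4 lc_f_Cert_tree lc_f_rc_25_0 lc_f_rc_25_0 lc_f_rc_29_2 lc_f_rc_29_2 lc_f_rc_29_4 lc_f_rc_11_1 lc_f_Cert_tree lc_f_Cert_tree lc_f_rc_25_0 lc_f_rc_5_3 lc_f_rc_25_0 lc_f_rc_26_2 lc_f_rc_11_3 lc_f_rc_11_3 lc_f_Cert_tree lc_f_Cert_tree lc_f_Cert_tree lc_f_rc_25_0 lc_f_Cert_tree lc_f_Cert_tree lc_f_rc_25_0 lc_f_Cert_tree lc_f_Cert_tree lc_f_rc_25_0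 lc_f_Cert_tree lc_f_rc_11_3 lc_f_rc_5_1 lc_f_Cert_tree lc_f_rc_25_0 lc_f_rc_11_3 lc_f_rc_26_6 lc_f_Cert_tree lc_f_rc_25_0 lc_f_rc_16_1 lc_f_rc_11_3 lc_f_rc_29_4 lc_f_Cert_tree lc_f_rc_25_0) (@D3.rec (fun _ => (Cert rels S Gen.f)) lc_f_rc_11_3 lc_f_rc_11_1 lc_f_Cert_tree lc_f_Cert_tree lc_f_rc_25_0 lc_f_rc_29_2 lc_f_Cert_tree lc_f_rc_25_0 lc_f_Cert_tree lc_f_Cert_tree lc_f_rc_25_0 lc_f_Cert_tree lc_f_rc_11_3 lc_f_rc_25_0 lc_f_rc_16_3 lc_f_rc_25_0 lc_f_Cert_tree lc_f_rc_25_0 lc_f_rc_5_3 lc_f_rc_11_3 lc_f_Cert_tree lc_f_Cert_tree lc_f_rc_25_0 lc_f_rc_5_3 lc_f_rc_11_3 lc_f_Cert_tree lc_f_rc_29_2 lc_f_rc_16_1 lc_f_rc_31_4 lc_f_Cert_tree lc_f_Cert_tree lc_f_rc_25_0 lc_f_rc_23_1 lc_f_rc_16_1 lc_f_Cert_tree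 lc_f_rc_5_3 lc_f_Cert_tree lc_f_rc_25_0 lc_f_rc_11_1 lc_f_rc_5_1) (@D3.rec (fun _ => (Cert rels S Gen.f)) lc_f_rc_20_1 lc_f_Cert_tree lc_f_rc_25_0 lc_f_rc_11_1 lc_f_rc_5_3 lc_f_Cert_tree lc_f_rc_25_0 lc_f_rc_5_1 lc_f_rc_5_1 lc_f_rc_25_0 lc_f_rc_16_1 lc_f_rc_5_3 lc_f_Cert_tree lc_f_rc_25_0 lc_f_Cert_tree lc_f_rc_11_3 lc_f_rc_5_1 lc_f_rc_31_10 lc_f_rc_25_0 lc_f_rc_16_1 lc_f_rc_20_1 lc_f_rc_30_19 lc_f_rc_16_1 lc_f_Cert_tree lc_f_rc_25_0 lc_f_Cert_tree lc_f_rc_20_1 lc_f_rc_5_1 lc_f_Cert_tree lc_f_rc_25_0 lc_f_rc_31_10 lc_f_rc_20_3 lc_f_rc_25_0 lc_f_rc_11_3 lc_f_rc_29_4 lc_f_rc_5_1 lc_f_rc_16_1 lc_f_rc_11_3 lc_f_rc_16_3 lc_f_rc_16_1) (@D3.rec (fun _ => (Cert rels S Gen.f)) lc_f_Cert_tree lc_f_Cert_tree lc_f_rc_25_0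 lc_f_rc_29_2 lc_f_rc_16_1 lc_f_rc_29_4 lc_f_Cert_tree lc_f_rc_25_0 lc_f_rc_25_0 lc_f_rc_29_2 lc_f_rc_29_2 lc_f_rc_29_4 lc_f_rc_25_0 lc_f_rc_29_2 lc_f_rc_11_1 lc_f_rc_11_1 lc_f_Cert_tree lc_f_rc_25_0 lc_f_rc_5_3 lc_f_Cert_tree lc_f_rc_25_0 lc_f_rc_5_3 lc_f_rc_11_3 lc_f_rc_11_3 lc_f_Cert_tree lc_f_Cert_tree lc_f_rc_25_0 lc_f_rc_29_2 lc_f_Cert_tree lc_f_rc_25_0 lc_f_Cert_tree lc_f_Cert_tree lc_f_rc_25_0 lc_f_Cert_tree lc_f_rc_11_3 lc_f_rc_25_0 lc_f_Cert_tree lc_f_rc_25_0 lc_f_Cert_tree lc_f_rc_25_0) (@D3.rec (fun _ => (Cert rels S Gen.f)) lc_f_Cert_tree lc_f_rc_11_3 lc_f_rc_5_1 lc_f_Cert_tree lc_f_rc_25_0 lc_f_Cert_tree lc_f_rc_25_0 lc_f_Cert_tree lc_f_rc_11_3 lc_f_rc_5_1 lc_f_Cert_tree lc_f_rc_25_0 lc_f_rc_5_1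 lc_f_rc_16_1 lc_f_Cert_tree lc_f_rc_16_3 lc_f_rc_23_3 lc_f_Cert_tree lc_f_rc_25_0 lc_f_rc_11_3 lc_f_rc_16_1 lc_f_rc_11_3 lc_f_rc_29_4 lc_f_Cert_tree lc_f_rc_25_0 lc_f_rc_11_3 lc_f_rc_20_1 lc_f_rc_16_1 lc_f_rc_29_4 lc_f_Cert_tree lc_f_rc_25_0 lc_f_rc_16_1 lc_f_rc_11_1 lc_f_rc_11_1 lc_f_Cert_tree lc_f_rc_25_0 lc_f_rc_26_2 lc_f_Cert_tree lc_f_rc_25_0 lc_f_rc_26_2) (@D3.rec (fun _ => (Cert rels S Gen.f)) lc_f_Cert_tree lc_f_rc_25_0 lc_f_Cert_tree lc_f_rc_11_3 lc_f_rc_26_6 lc_f_rc_20_1 lc_f_rc_25_0 lc_f_Cert_tree lc_f_rc_25_0 lc_f_Cert_tree lc_f_rc_11_3 lc_f_rc_26_6 lc_f_rc_16_3 lc_f_rc_25_0 lc_f_rc_16_1 lc_f_rc_11_3 lc_f_rc_11_5 lc_f_rc_11_3 lc_f_Cert_tree lc_f_rc_25_0 lc_f_rc_5_3 lc_f_rc_11_3 lc_f_Cert_tree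 lc_f_rc_30_15 lc_f_rc_11_3 lc_f_rc_31_4 lc_f_Cert_tree lc_f_rc_16_3 lc_f_rc_25_0 lc_f_Cert_tree lc_f_rc_25_0 lc_f_rc_16_1 lc_f_rc_11_3 lc_f_Cert_tree lc_f_rc_29_2 lc_f_rc_16_1 lc_f_rc_31_4 lc_f_Cert_tree lc_f_Cert_tree lc_f_rc_25_0) (@D3.rec (fun _ => (Cert rels S Gen.f)) lc_f_rc_29_2 lc_f_rc_20_3 lc_f_rc_20_1 lc_f_rc_23_3 lc_f_Cert_tree lc_f_rc_25_0 lc_f_Cert_tree lc_f_rc_25_0 lc_f_rc_11_1 lc_f_rc_5_1 lc_f_rc_20_1 lc_f_Cert_tree lc_f_rc_25_0 lc_f_rc_11_1 lc_f_rc_5_3 lc_f_Cert_tree lc_f_rc_25_0 lc_f_rc_5_1 lc_f_rc_5_1 lc_f_rc_23_1 lc_f_Cert_tree lc_f_Cert_tree lc_f_rc_25_0 lc_f_rc_5_3 lc_f_Cert_tree lc_f_rc_25_0 lc_f_rc_11_3 lc_f_rc_16_1 lc_f_rc_11_3 lc_f_rc_5_1 lc_f_rc_5_1 lc_f_Cert_tree lc_f_rc_20_1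 lc_f_rc_16_1 lc_f_Cert_tree lc_f_Cert_tree lc_f_rc_25_0 lc_f_Cert_tree lc_f_rc_20_1 lc_f_rc_5_1) (@D3.rec (fun _ => (Cert rels S Gen.f)) lc_f_Cert_tree lc_f_rc_25_0 lc_f_rc_16_1 lc_f_rc_20_3 lc_f_rc_30_19 lc_f_rc_16_1 lc_f_rc_5_1 lc_f_rc_20_1 lc_f_Cert_tree lc_f_rc_25_0 lc_f_Cert_tree lc_f_rc_11_3 lc_f_rc_16_1 lc_f_Cert_tree lc_f_rc_25_0 lc_f_rc_16_1 lc_f_rc_31_10 lc_f_rc_20_1 lc_f_Cert_tree lc_f_rc_25_0 lc_f_rc_11_3 lc_f_rc_29_4 lc_f_rc_5_1 lc_f_rc_16_1 lc_f_rc_11_3 lc_f_rc_16_3 lc_f_rc_16_1 lc_f_rc_29_4 lc_f_rc_11_3 lc_f_rc_23_3 lc_f_rc_25_1 lc_f_rc_16_1 lc_f_rc_11_3 lc_f_rc_11_5 lc_f_rc_20_1 lc_f_Cert_tree lc_f_rc_25_0 lc_f_Cert_tree lc_f_rc_25_0 lc_f_rc_29_2) (@D3.rec (fun _ => (Cert rels S Gen.f))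 lc_f_rc_29_2 lc_f_rc_20_1 lc_f_rc_29_4 lc_f_rc_25_0 lc_f_rc_11_3 lc_f_rc_29_2 lc_f_Cert_tree lc_f_rc_11_3 lc_f_rc_11_3 lc_f_rc_16_1 lc_f_rc_11_1 lc_f_rc_11_1 lc_f_Cert_tree lc_f_rc_25_0 lc_f_rc_5_3 lc_f_Cert_tree lc_f_rc_25_0 lc_f_rc_5_3 lc_f_Cert_tree lc_f_rc_25_0 lc_f_rc_26_2 lc_f_Cert_tree lc_f_rc_25_0 lc_f_rc_26_2 lc_f_rc_11_3 lc_f_rc_11_3 lc_f_Cert_tree lc_f_rc_25_0 lc_f_Cert_tree lc_f_rc_11_3 lc_f_rc_26_6 lc_f_Cert_tree lc_f_rc_25_0 lc_f_Cert_tree lc_f_rc_25_0 lc_f_Cert_tree lc_f_rc_11_3 lc_f_rc_26_6 lc_f_Cert_tree lc_f_rc_25_0) (@D3.rec (fun _ => (Cert rels S Gen.f)) lc_f_rc_5_1 lc_f_rc_16_1 lc_f_rc_11_3 lc_f_rc_16_3 lc_f_rc_5_3 lc_f_Cert_tree lc_f_rc_25_0 lc_f_rc_11_3 lc_f_Cert_tree lc_f_rc_25_0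 lc_f_Cert_tree lc_f_rc_11_3 lc_f_rc_5_1 lc_f_Cert_tree lc_f_rc_25_0 lc_f_rc_29_4 lc_f_rc_30_7 lc_f_rc_11_5 lc_f_rc_20_1 lc_f_rc_20_1 lc_f_Cert_tree lc_f_rc_25_0 lc_f_rc_11_3 lc_f_Cert_tree lc_f_rc_25_0 lc_f_Cert_tree lc_f_rc_11_3 lc_f_rc_5_1 lc_f_Cert_tree lc_f_rc_25_0 lc_f_rc_5_1 lc_f_rc_16_1 lc_f_Cert_tree lc_f_rc_16_3 lc_f_rc_23_1 lc_f_Cert_tree lc_f_rc_25_0 lc_f_rc_11_3 lc_f_rc_11_1 lc_f_rc_5_1) (@D3.rec (fun _ => (Cert rels S Gen.f)) lc_f_rc_20_1 lc_f_Cert_tree lc_f_rc_29_2 lc_f_rc_25_0 lc_f_rc_29_2 lc_f_rc_11_3 lc_f_rc_11_1 lc_f_rc_30_15 lc_f_Cert_tree lc_f_rc_25_0 lc_f_rc_11_3 lc_f_rc_29_4 lc_f_rc_5_1 lc_f_rc_16_1 lc_f_rc_20_1 lc_f_rc_16_1 lc_f_rc_29_4 lc_f_Cert_tree lc_f_rc_25_0 lc_f_rc_16_1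 lc_f_rc_23_1 lc_f_rc_20_1 lc_f_Cert_tree lc_f_rc_29_4 lc_f_Cert_tree lc_f_rc_25_0 lc_f_rc_11_3 lc_f_rc_20_1 lc_f_rc_16_1 lc_f_rc_11_1 lc_f_rc_11_1 lc_f_Cert_tree lc_f_rc_25_0 lc_f_rc_26_2 lc_f_Cert_tree lc_f_rc_25_0 lc_f_rc_5_3 lc_f_Cert_tree lc_f_rc_25_0 lc_f_Cert_tree) (@D3.rec (fun _ => (Cert rels S Gen.f)) lc_f_rc_11_3 lc_f_rc_26_6 lc_f_rc_23_1 lc_f_rc_25_0 lc_f_rc_11_3 lc_f_rc_11_3 lc_f_Cert_tree lc_f_Cert_tree lc_f_rc_25_0 lc_f_Cert_tree lc_f_rc_11_3 lc_f_rc_5_1 lc_f_rc_20_1 lc_f_rc_25_0 lc_f_rc_16_1 lc_f_rc_11_3 lc_f_rc_11_5 lc_f_rc_11_3 lc_f_rc_20_1 lc_f_rc_5_1 lc_f_rc_16_1 lc_f_rc_20_1 lc_f_rc_5_1 lc_f_rc_16_1 lc_f_Cert_tree lc_f_Cert_tree lc_f_rc_25_0 lc_f_rc_16_1 lc_f_rc_11_3 lc_f_Cert_tree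 lc_f_rc_30_15 lc_f_rc_11_3 lc_f_rc_31_4 lc_f_Cert_tree lc_f_rc_16_3 lc_f_rc_25_0 lc_f_rc_20_1 lc_f_rc_25_0 lc_f_Cert_tree lc_f_rc_25_0) (@D3.rec (fun _ => (Cert rels S Gen.f)) lc_f_Cert_tree lc_f_rc_11_3 lc_f_Cert_tree lc_f_rc_29_2 lc_f_rc_16_1 lc_f_rc_31_4 lc_f_Cert_tree lc_f_Cert_tree lc_f_rc_25_0 lc_f_rc_29_2 lc_f_rc_20_3 lc_f_rc_20_1 lc_f_rc_23_1 lc_f_Cert_tree lc_f_rc_25_0 lc_f_Cert_tree lc_f_rc_25_0 lc_f_rc_11_1 lc_f_rc_5_1 lc_f_rc_16_1 lc_f_rc_23_1 lc_f_rc_20_1 lc_f_rc_11_3 lc_f_rc_20_1 lc_f_rc_11_1 lc_f_rc_25_0 lc_f_Cert_tree lc_f_rc_25_0 lc_f_rc_11_3 lc_f_rc_20_1 lc_f_rc_16_1 lc_f_rc_23_1 lc_f_Cert_tree lc_f_Cert_tree lc_f_rc_25_0 lc_f_rc_5_3 lc_f_Cert_tree lc_f_Cert_tree lc_f_rc_25_0 lc_f_rc_11_3)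 (@D3.rec (fun _ => (Cert rels S Gen.f)) lc_f_rc_16_1 lc_f_rc_5_1 lc_f_Cert_tree lc_f_rc_20_3 lc_f_rc_25_0 lc_f_rc_5_3 lc_f_rc_25_0 lc_f_rc_11_3 lc_f_rc_5_3 lc_f_rc_25_0 lc_f_rc_11_3 lc_f_rc_20_1 lc_f_rc_5_1 lc_f_rc_29_2 lc_f_rc_11_3 lc_f_rc_11_3 lc_f_rc_11_3 lc_f_rc_29_2 lc_f_rc_5_1 lc_f_rc_20_1 lc_f_rc_20_3 lc_f_Cert_tree lc_f_rc_25_0 lc_f_rc_23_1 lc_f_rc_20_1 lc_f_Cert_tree lc_f_Cert_tree lc_f_rc_25_0 lc_f_Cert_tree lc_f_rc_25_0 lc_f_Cert_tree lc_f_rc_11_3 lc_f_rc_16_1 lc_f_Cert_tree lc_f_rc_25_0 lc_f_rc_16_1 lc_f_rc_23_1 lc_f_rc_20_1 lc_f_Cert_tree lc_f_rc_25_0) (@D3.rec (fun _ => (Cert rels S Gen.f)) lc_f_rc_20_1 lc_f_rc_5_1 lc_f_rc_23_1 lc_f_rc_11_3 lc_f_rc_11_3 lc_f_Cert_tree lc_f_rc_25_0 lc_f_rc_29_2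 lc_f_rc_11_3 lc_f_rc_25_0 lc_f_Cert_tree lc_f_rc_25_0 lc_f_rc_29_2 lc_f_rc_16_1 lc_f_Cert_tree lc_f_Cert_tree lc_f_Cert_tree lc_f_Cert_tree lc_f_rc_25_0 lc_f_rc_11_3 lc_f_rc_20_1 lc_f_rc_16_1 lc_f_rc_29_4 lc_f_rc_5_1 lc_f_rc_16_1 lc_f_Cert_tree lc_f_rc_25_0 lc_f_rc_11_3 lc_f_rc_20_1 lc_f_rc_16_1 lc_f_rc_29_4 lc_f_rc_11_3 lc_f_rc_23_1 lc_f_rc_25_1 lc_f_rc_16_1 lc_f_rc_11_3 lc_f_rc_11_5 lc_f_rc_20_1 lc_f_rc_29_4 lc_f_rc_11_1) (@D3.rec (fun _ => (Cert rels S Gen.f)) lc_f_rc_16_1 lc_f_rc_20_1 lc_f_rc_11_3 lc_f_rc_23_1 lc_f_rc_20_1 lc_f_rc_5_1 lc_f_rc_16_1 lc_f_Cert_tree lc_f_rc_20_1 lc_f_rc_23_1 lc_f_Cert_tree lc_f_rc_25_0 lc_f_Cert_tree lc_f_rc_25_0 lc_f_rc_11_3 lc_f_rc_29_2 lc_f_rc_29_2 lc_f_rc_16_1 lc_f_rc_29_4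 lc_f_Cert_tree lc_f_rc_11_3 lc_f_rc_16_3 lc_f_rc_5_1 lc_f_rc_5_1 lc_f_rc_5_3 lc_f_rc_25_0 lc_f_rc_20_1 lc_f_rc_16_1 lc_f_rc_11_1 lc_f_rc_16_1 lc_f_Cert_tree lc_f_rc_25_0 lc_f_rc_5_3 lc_f_Cert_tree lc_f_rc_25_0 lc_f_rc_16_1 lc_f_Cert_tree lc_f_rc_25_0 lc_f_rc_26_2 lc_f_rc_11_3) (@D3.rec (fun _ => (Cert rels S Gen.f)) lc_f_rc_11_3 lc_f_Cert_tree lc_f_rc_25_0 lc_f_rc_5_3 lc_f_rc_11_3 lc_f_rc_11_3 lc_f_Cert_tree lc_f_rc_25_0 lc_f_Cert_tree lc_f_rc_11_3 lc_f_rc_26_6 lc_f_Cert_tree lc_f_rc_25_0 lc_f_rc_11_3 lc_f_rc_25_0 lc_f_rc_25_0 lc_f_rc_11_3 lc_f_Cert_tree lc_f_Cert_tree lc_f_rc_25_0 lc_f_Cert_tree lc_f_rc_11_3 lc_f_rc_5_1 lc_f_Cert_tree lc_f_rc_25_0 lc_f_rc_5_1 lc_f_rc_16_1 lc_f_rc_11_3 lc_f_rc_16_3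 lc_f_rc_5_3 lc_f_Cert_tree lc_f_rc_25_0 lc_f_rc_11_3 lc_f_rc_5_1 lc_f_rc_20_1 lc_f_rc_11_1 lc_f_rc_23_3 lc_f_rc_5_3 lc_f_rc_11_3 lc_f_rc_25_0) (@D3.rec (fun _ => (Cert rels S Gen.f)) lc_f_rc_11_3 lc_f_Cert_tree lc_f_Cert_tree lc_f_rc_25_0 lc_f_Cert_tree lc_f_rc_11_3 lc_f_rc_5_1 lc_f_Cert_tree lc_f_rc_25_0 lc_f_rc_5_1 lc_f_rc_5_1 lc_f_rc_11_5 lc_f_rc_23_1 lc_f_rc_25_1 lc_f_Cert_tree lc_f_rc_25_0 lc_f_rc_11_3 lc_f_rc_20_1 lc_f_rc_29_4 lc_f_rc_29_2 lc_f_rc_29_2 lc_f_rc_16_1 lc_f_rc_11_1 lc_f_rc_25_0 lc_f_rc_11_3 lc_f_rc_5_1 lc_f_rc_16_1 lc_f_Cert_tree lc_f_rc_25_0 lc_f_Cert_tree lc_f_rc_11_3 lc_f_rc_16_1 lc_f_Cert_tree lc_f_rc_25_0 lc_f_rc_5_1 lc_f_rc_16_1 lc_f_Cert_tree lc_f_rc_20_1 lc_f_rc_20_1 lc_f_Cert_tree)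 (@D3.rec (fun _ => (Cert rels S Gen.f)) lc_f_rc_25_0 lc_f_rc_11_3 lc_f_rc_11_1 lc_f_rc_5_1 lc_f_rc_20_1 lc_f_Cert_tree lc_f_rc_29_2 lc_f_rc_25_0 lc_f_rc_29_2 lc_f_rc_11_3 lc_f_rc_11_1 lc_f_rc_30_15 lc_f_Cert_tree lc_f_rc_25_0 lc_f_rc_11_3 lc_f_rc_29_4 lc_f_rc_5_1 lc_f_rc_16_1 lc_f_rc_5_1 lc_f_rc_23_1 lc_f_Cert_tree lc_f_rc_31_10 lc_f_rc_25_0 lc_f_rc_29_2 lc_f_rc_11_5 lc_f_rc_5_1 lc_f_rc_11_3 lc_f_rc_25_1 lc_f_Cert_tree lc_f_rc_25_0 lc_f_rc_11_3 lc_f_rc_29_4 lc_f_rc_5_1 lc_f_rc_16_1 lc_f_rc_11_5 lc_f_rc_31_10 lc_f_rc_16_1 lc_f_rc_23_1 lc_f_rc_20_1 lc_f_Cert_tree) (@D3.rec (fun _ => (Cert rels S Gen.f)) lc_f_rc_29_4 lc_f_Cert_tree lc_f_Cert_tree lc_f_rc_25_0 lc_f_rc_11_3 lc_f_rc_20_1 lc_f_rc_23_1 lc_f_rc_11_3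 lc_f_rc_11_1 lc_f_rc_25_0 lc_f_rc_29_4 lc_f_rc_25_0 lc_f_rc_11_3 lc_f_rc_5_1 lc_f_rc_31_10 lc_f_rc_23_1 lc_f_rc_20_1 lc_f_rc_16_1 lc_f_rc_11_1 lc_f_rc_16_1 lc_f_Cert_tree lc_f_rc_25_0 lc_f_rc_5_3 lc_f_Cert_tree lc_f_Cert_tree lc_f_rc_25_0 lc_f_rc_16_1 lc_f_Cert_tree lc_f_Cert_tree lc_f_rc_25_0 lc_f_Cert_tree lc_f_rc_11_3 lc_f_rc_5_1 lc_f_rc_23_1 lc_f_rc_25_0 lc_f_rc_11_3 lc_f_rc_11_3 lc_f_rc_5_1 lc_f_rc_16_1 lc_f_rc_5_1) (@D3.rec (fun _ => (Cert rels S Gen.f)) lc_f_rc_16_1 lc_f_Cert_tree lc_f_Cert_tree lc_f_rc_25_0 lc_f_Cert_tree lc_f_Cert_tree lc_f_Cert_tree lc_f_rc_25_0 lc_f_Cert_tree lc_f_rc_11_3 lc_f_rc_16_1 lc_f_Cert_tree lc_f_rc_25_0 lc_f_rc_16_1 lc_f_rc_11_3 lc_f_rc_5_1 lc_f_rc_11_3 lc_f_rc_20_1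 lc_f_rc_5_1 lc_f_rc_16_1 lc_f_rc_11_5 lc_f_rc_5_1 lc_f_rc_16_1 lc_f_rc_23_1 lc_f_rc_23_1 lc_f_Cert_tree lc_f_Cert_tree lc_f_rc_25_0 lc_f_Cert_tree lc_f_rc_25_0 lc_f_rc_20_1 lc_f_rc_11_3 lc_f_Cert_tree lc_f_rc_20_1 lc_f_rc_16_1 lc_f_rc_31_4 lc_f_Cert_tree lc_f_Cert_tree lc_f_rc_25_0 lc_f_rc_20_3) (@D3.rec (fun _ => (Cert rels S Gen.f)) lc_f_rc_20_1 lc_f_rc_25_0 lc_f_rc_20_1 lc_f_Cert_tree lc_f_rc_25_0 lc_f_rc_29_2 lc_f_rc_11_3 lc_f_rc_25_0 lc_f_Cert_tree lc_f_rc_25_0 lc_f_rc_29_2 lc_f_rc_16_1 lc_f_Cert_tree lc_f_Cert_tree lc_f_Cert_tree lc_f_rc_25_0 lc_f_rc_29_2 lc_f_rc_20_1 lc_f_rc_20_1 lc_f_rc_23_3 lc_f_Cert_tree lc_f_rc_25_0 lc_f_Cert_tree lc_f_rc_25_0 lc_f_rc_11_1 lc_f_rc_29_2 lc_f_rc_16_1 lc_f_rc_16_1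 lc_f_rc_23_1 lc_f_rc_20_1 lc_f_rc_11_3 lc_f_rc_20_3 lc_f_Cert_tree lc_f_rc_25_0 lc_f_Cert_tree lc_f_Cert_tree lc_f_rc_25_0 lc_f_rc_11_3 lc_f_rc_5_1 lc_f_rc_25_0)
def ce_f_1 : D2 → D3 → (Cert rels S Gen.f) := @D2.rec (fun _ => D3 → (Cert rels S Gen.f)) (@D3.rec (fun _ => (Cert rels S Gen.f)) lc_f_rc_11_3 lc_f_rc_16_1 lc_f_rc_11_1 lc_f_rc_25_0 lc_f_rc_11_3 lc_f_rc_5_1 lc_f_rc_29_2 lc_f_rc_20_1 lc_f_Cert_tree lc_f_rc_16_1 lc_f_Cert_tree lc_f_Cert_tree lc_f_Cert_tree lc_f_rc_25_0 lc_f_rc_5_3 lc_f_rc_25_0 lc_f_rc_11_3 lc_f_rc_5_3 lc_f_rc_5_3 lc_f_Cert_tree lc_f_Cert_tree lc_f_rc_25_0 lc_f_rc_25_0 lc_f_rc_11_3 lc_f_rc_20_1 lc_f_rc_5_1 lc_f_rc_29_2 lc_f_rc_11_3 lc_f_rc_23_1 lc_f_rc_25_0 lc_f_rc_5_1 lc_f_rc_29_2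 lc_f_rc_29_4 lc_f_rc_11_3 lc_f_rc_23_1 lc_f_rc_23_3 lc_f_rc_11_3 lc_f_rc_11_3 lc_f_rc_29_2 lc_f_rc_20_1) (@D3.rec (fun _ => (Cert rels S Gen.f)) lc_f_rc_5_1 lc_f_rc_20_3 lc_f_Cert_tree lc_f_rc_25_0 lc_f_rc_23_1 lc_f_rc_5_3 lc_f_Cert_tree lc_f_Cert_tree lc_f_rc_25_0 lc_f_rc_29_2 lc_f_Cert_tree lc_f_rc_25_0 lc_f_Cert_tree lc_f_rc_11_3 lc_f_rc_25_0 lc_f_Cert_tree lc_f_rc_25_0 lc_f_rc_11_3 lc_f_rc_20_1 lc_f_Cert_tree lc_f_rc_25_0 lc_f_rc_29_2 lc_f_rc_16_1 lc_f_Cert_tree lc_f_Cert_tree lc_f_Cert_tree lc_f_Cert_tree lc_f_rc_25_0 lc_f_rc_11_3 lc_f_rc_20_1 lc_f_rc_23_1 lc_f_rc_5_1 lc_f_rc_16_1 lc_f_rc_20_3 lc_f_rc_25_0 lc_f_rc_23_1 lc_f_rc_5_3 lc_f_rc_11_3 lc_f_rc_11_3 lc_f_rc_11_1) (@D3.rec (fun _ => (Cert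 rels S Gen.f)) lc_f_rc_16_1 lc_f_rc_5_1 lc_f_rc_16_1 lc_f_Cert_tree lc_f_Cert_tree lc_f_rc_25_0 lc_f_Cert_tree lc_f_rc_11_3 lc_f_Cert_tree lc_f_rc_5_1 lc_f_rc_16_1 lc_f_rc_29_2 lc_f_Cert_tree lc_f_rc_5_3 lc_f_Cert_tree lc_f_rc_25_0 lc_f_rc_11_3 lc_f_Cert_tree lc_f_rc_29_2 lc_f_rc_29_2 lc_f_rc_20_1 lc_f_Cert_tree lc_f_Cert_tree lc_f_rc_25_0 lc_f_Cert_tree lc_f_Cert_tree lc_f_rc_25_0 lc_f_Cert_tree lc_f_Cert_tree lc_f_rc_25_0 lc_f_Cert_tree lc_f_rc_25_0 lc_f_rc_11_3 lc_f_rc_29_4 lc_f_rc_29_2 lc_f_rc_16_1 lc_f_Cert_tree lc_f_rc_23_1 lc_f_rc_20_1 lc_f_Cert_tree) (@D3.rec (fun _ => (Cert rels S Gen.f)) lc_f_rc_29_4 lc_f_rc_11_3 lc_f_rc_23_3 lc_f_rc_25_1 lc_f_Cert_tree lc_f_rc_25_0 lc_f_rc_11_3 lc_f_rc_16_1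 lc_f_rc_11_3 lc_f_rc_5_1 lc_f_rc_20_1 lc_f_rc_29_4 lc_f_rc_11_1 lc_f_rc_16_1 lc_f_rc_23_1 lc_f_rc_20_1 lc_f_rc_16_1 lc_f_rc_23_1 lc_f_rc_20_1 lc_f_rc_5_1 lc_f_rc_16_1 lc_f_Cert_tree lc_f_rc_11_5 lc_f_rc_16_1 lc_f_rc_23_1 lc_f_rc_29_4 lc_f_rc_16_1 lc_f_rc_29_2 lc_f_rc_11_3 lc_f_rc_29_4 lc_f_rc_30_11 lc_f_rc_11_3 lc_f_rc_23_1 lc_f_rc_31_7 lc_f_rc_23_3 lc_f_rc_11_3 lc_f_rc_5_3 lc_f_rc_25_0 lc_f_rc_23_1 lc_f_Cert_tree) (@D3.rec (fun _ => (Cert rels S Gen.f)) lc_f_rc_25_0 lc_f_rc_11_3 lc_f_Cert_tree lc_f_rc_25_0 lc_f_rc_11_3 lc_f_rc_16_3 lc_f_rc_5_1 lc_f_rc_16_1 lc_f_rc_29_2 lc_f_rc_5_1 lc_f_Cert_tree lc_f_rc_16_1 lc_f_Cert_tree lc_f_rc_5_3 lc_f_rc_25_0 lc_f_rc_26_6 lc_f_rc_11_1 lc_f_rc_16_1 lc_f_Cert_tree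 lc_f_rc_20_1 lc_f_Cert_tree lc_f_Cert_tree lc_f_rc_25_0 lc_f_rc_16_1 lc_f_Cert_tree lc_f_rc_25_0 lc_f_Cert_tree lc_f_rc_11_3 lc_f_Cert_tree lc_f_Cert_tree lc_f_rc_25_0 lc_f_rc_5_3 lc_f_rc_11_3 lc_f_rc_11_3 lc_f_Cert_tree lc_f_rc_25_0 lc_f_rc_16_1 lc_f_rc_11_3 lc_f_rc_11_3 lc_f_Cert_tree) (@D3.rec (fun _ => (Cert rels S Gen.f)) lc_f_Cert_tree lc_f_rc_25_0 lc_f_Cert_tree lc_f_rc_11_3 lc_f_rc_5_1 lc_f_Cert_tree lc_f_rc_25_0 lc_f_rc_11_3 lc_f_rc_23_1 lc_f_rc_25_0 lc_f_rc_11_3 lc_f_Cert_tree lc_f_Cert_tree lc_f_rc_25_0 lc_f_Cert_tree lc_f_Cert_tree lc_f_rc_25_0 lc_f_Cert_tree lc_f_rc_11_3 lc_f_rc_16_1 lc_f_Cert_tree lc_f_rc_25_0 lc_f_rc_5_1 lc_f_rc_16_1 lc_f_rc_11_3 lc_f_rc_25_0 lc_f_rc_5_3 lc_f_Cert_tree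 lc_f_rc_25_0 lc_f_rc_11_3 lc_f_rc_5_1 lc_f_rc_20_1 lc_f_rc_11_1 lc_f_rc_23_1 lc_f_rc_5_3 lc_f_Cert_tree lc_f_rc_25_0 lc_f_rc_11_3 lc_f_rc_30_11 lc_f_rc_5_1) (@D3.rec (fun _ => (Cert rels S Gen.f)) lc_f_rc_23_1 lc_f_rc_20_1 lc_f_rc_11_3 lc_f_rc_20_1 lc_f_rc_11_3 lc_f_rc_26_2 lc_f_Cert_tree lc_f_Cert_tree lc_f_rc_25_0 lc_f_Cert_tree lc_f_rc_25_0 lc_f_Cert_tree lc_f_rc_11_3 lc_f_rc_16_1 lc_f_Cert_tree lc_f_rc_25_0 lc_f_rc_20_1 lc_f_rc_16_1 lc_f_Cert_tree lc_f_rc_23_1 lc_f_rc_25_1 lc_f_Cert_tree lc_f_rc_25_0 lc_f_rc_11_3 lc_f_rc_23_1 lc_f_rc_20_1 lc_f_rc_11_5 lc_f_rc_29_2 lc_f_rc_29_2 lc_f_rc_16_1 lc_f_rc_11_1 lc_f_rc_5_3 lc_f_rc_25_0 lc_f_rc_11_3 lc_f_rc_5_1 lc_f_rc_16_1 lc_f_rc_29_2 lc_f_rc_16_1 lc_f_rc_16_1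 lc_f_rc_5_1) (@D3.rec (fun _ => (Cert rels S Gen.f)) lc_f_rc_16_1 lc_f_rc_5_1 lc_f_Cert_tree lc_f_rc_25_0 lc_f_rc_29_2 lc_f_rc_11_3 lc_f_rc_25_0 lc_f_Cert_tree lc_f_rc_25_0 lc_f_rc_29_2 lc_f_rc_16_1 lc_f_Cert_tree lc_f_Cert_tree lc_f_Cert_tree lc_f_Cert_tree lc_f_rc_25_0 lc_f_rc_11_3 lc_f_rc_11_1 lc_f_rc_5_1 lc_f_rc_20_1 lc_f_Cert_tree lc_f_rc_29_2 lc_f_rc_25_0 lc_f_rc_29_2 lc_f_rc_16_1 lc_f_rc_11_1 lc_f_rc_30_3 lc_f_Cert_tree lc_f_rc_25_0 lc_f_rc_11_3 lc_f_rc_29_4 lc_f_rc_5_1 lc_f_rc_16_1 lc_f_rc_5_1 lc_f_rc_16_1 lc_f_rc_23_1 lc_f_Cert_tree lc_f_Cert_tree lc_f_rc_25_0 lc_f_rc_29_2) (@D3.rec (fun _ => (Cert rels S Gen.f)) lc_f_rc_11_5 lc_f_rc_5_1 lc_f_rc_20_1 lc_f_rc_25_1 lc_f_Cert_tree lc_f_Cert_tree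 lc_f_rc_25_0 lc_f_rc_11_3 lc_f_rc_29_4 lc_f_rc_5_1 lc_f_rc_16_1 lc_f_rc_11_5 lc_f_rc_20_1 lc_f_rc_5_1 lc_f_rc_29_4 lc_f_rc_11_1 lc_f_rc_25_0 lc_f_rc_29_2 lc_f_rc_11_3 lc_f_rc_23_1 lc_f_rc_25_0 lc_f_rc_11_3 lc_f_rc_29_4 lc_f_rc_5_1 lc_f_rc_31_10 lc_f_Cert_tree lc_f_rc_16_1 lc_f_rc_5_1 lc_f_rc_23_1 lc_f_Cert_tree lc_f_rc_11_1 lc_f_rc_25_0 lc_f_rc_5_1 lc_f_rc_29_4 lc_f_Cert_tree lc_f_Cert_tree lc_f_rc_25_0 lc_f_rc_25_0 lc_f_rc_11_3 lc_f_rc_5_1) (@D3.rec (fun _ => (Cert rels S Gen.f)) lc_f_rc_31_10 lc_f_rc_5_3 lc_f_rc_23_1 lc_f_rc_11_3 lc_f_rc_5_3 lc_f_rc_16_1 lc_f_Cert_tree lc_f_rc_20_1 lc_f_Cert_tree lc_f_Cert_tree lc_f_rc_25_0 lc_f_rc_16_1 lc_f_Cert_tree lc_f_Cert_tree lc_f_rc_25_0 lc_f_Cert_tree lc_f_Cert_tree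 lc_f_rc_25_0 lc_f_rc_20_1 lc_f_rc_11_3 lc_f_Cert_tree lc_f_Cert_tree lc_f_rc_25_0 lc_f_Cert_tree lc_f_Cert_tree lc_f_rc_25_0 lc_f_Cert_tree lc_f_rc_11_3 lc_f_rc_16_1 lc_f_Cert_tree lc_f_rc_25_0 lc_f_rc_16_1 lc_f_rc_11_3 lc_f_rc_16_1 lc_f_rc_11_3 lc_f_rc_5_1 lc_f_rc_16_1 lc_f_rc_5_1 lc_f_rc_16_1 lc_f_rc_5_1) (@D3.rec (fun _ => (Cert rels S Gen.f)) lc_f_rc_5_1 lc_f_Cert_tree lc_f_rc_25_0 lc_f_rc_29_2 lc_f_rc_25_0 lc_f_Cert_tree lc_f_rc_11_3 lc_f_rc_25_0 lc_f_Cert_tree lc_f_rc_25_0 lc_f_Cert_tree lc_f_rc_25_0 lc_f_rc_29_2 lc_f_rc_25_0 lc_f_Cert_tree lc_f_rc_11_3 lc_f_rc_20_1 lc_f_Cert_tree lc_f_rc_25_0 lc_f_rc_29_2 lc_f_rc_16_1 lc_f_Cert_tree lc_f_Cert_tree lc_f_Cert_tree lc_f_Cert_tree lc_f_rc_25_0 lc_f_rc_11_3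 lc_f_rc_20_1 lc_f_rc_5_1 lc_f_rc_16_1 lc_f_rc_5_1 lc_f_rc_5_1 lc_f_rc_16_1 lc_f_rc_16_1 lc_f_rc_23_1 lc_f_rc_20_1 lc_f_rc_16_1 lc_f_rc_23_1 lc_f_rc_20_1 lc_f_Cert_tree) (@D3.rec (fun _ => (Cert rels S Gen.f)) lc_f_Cert_tree lc_f_rc_25_0 lc_f_rc_29_2 lc_f_Cert_tree lc_f_rc_25_0 lc_f_Cert_tree lc_f_rc_11_3 lc_f_rc_25_0 lc_f_Cert_tree lc_f_rc_25_0 lc_f_rc_11_3 lc_f_Cert_tree lc_f_rc_29_2 lc_f_rc_16_1 lc_f_Cert_tree lc_f_Cert_tree lc_f_Cert_tree lc_f_rc_25_0 lc_f_rc_29_2 lc_f_rc_20_1 lc_f_rc_20_1 lc_f_rc_23_1 lc_f_Cert_tree lc_f_rc_25_0 lc_f_Cert_tree lc_f_rc_25_0 lc_f_rc_5_1 lc_f_rc_5_3 lc_f_Cert_tree lc_f_Cert_tree lc_f_rc_25_0 lc_f_Cert_tree lc_f_rc_11_3 lc_f_Cert_tree lc_f_rc_5_1 lc_f_rc_16_1 lc_f_rc_29_2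 lc_f_Cert_tree lc_f_rc_5_3 lc_f_Cert_tree) (@D3.rec (fun _ => (Cert rels S Gen.f)) lc_f_rc_25_0 lc_f_rc_11_3 lc_f_Cert_tree lc_f_rc_29_2 lc_f_rc_29_2 lc_f_rc_20_1 lc_f_Cert_tree lc_f_rc_25_0 lc_f_Cert_tree lc_f_Cert_tree lc_f_rc_25_0 lc_f_Cert_tree lc_f_rc_25_0 lc_f_rc_29_4 lc_f_Cert_tree lc_f_rc_29_2 lc_f_rc_16_1 lc_f_rc_5_3 lc_f_rc_23_1 lc_f_rc_20_1 lc_f_Cert_tree lc_f_Cert_tree lc_f_Cert_tree lc_f_rc_25_0 lc_f_Cert_tree lc_f_Cert_tree lc_f_rc_25_0 lc_f_rc_11_3 lc_f_rc_11_1 lc_f_rc_5_1 lc_f_rc_5_1 lc_f_rc_25_0 lc_f_Cert_tree lc_f_rc_20_1 lc_f_rc_16_1 lc_f_rc_16_1 lc_f_rc_25_0 lc_f_rc_11_3 lc_f_rc_16_1 lc_f_rc_16_3) (@D3.rec (fun _ => (Cert rels S Gen.f)) lc_f_Cert_tree lc_f_rc_11_1 lc_f_rc_25_0 lc_f_Cert_tree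 lc_f_Cert_tree lc_f_Cert_tree lc_f_rc_25_0 lc_f_rc_25_0 lc_f_rc_11_3 lc_f_rc_5_1 lc_f_rc_11_3 lc_f_rc_11_3 lc_f_Cert_tree lc_f_rc_29_2 lc_f_Cert_tree lc_f_Cert_tree lc_f_rc_25_0 lc_f_Cert_tree lc_f_rc_20_1 lc_f_Cert_tree lc_f_Cert_tree lc_f_rc_25_0 lc_f_rc_23_3 lc_f_rc_25_0 lc_f_rc_5_3 lc_f_Cert_tree lc_f_rc_25_0 lc_f_rc_11_3 lc_f_rc_29_4 lc_f_Cert_tree lc_f_rc_5_3 lc_f_Cert_tree lc_f_Cert_tree lc_f_rc_25_0 lc_f_Cert_tree lc_f_Cert_tree lc_f_rc_25_0 lc_f_rc_11_3 lc_f_rc_29_4 lc_f_rc_11_3) (@D3.rec (fun _ => (Cert rels S Gen.f)) lc_f_rc_23_1 lc_f_rc_5_1 lc_f_rc_16_1 lc_f_rc_29_2 lc_f_rc_11_3 lc_f_rc_20_3 lc_f_rc_5_1 lc_f_rc_29_2 lc_f_rc_11_3 lc_f_rc_16_1 lc_f_rc_29_2 lc_f_rc_5_1 lc_f_Cert_tree lc_f_rc_16_3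 lc_f_Cert_tree lc_f_rc_25_0 lc_f_rc_5_3 lc_f_Cert_tree lc_f_Cert_tree lc_f_Cert_tree lc_f_Cert_tree lc_f_rc_25_0 lc_f_Cert_tree lc_f_Cert_tree lc_f_rc_25_0 lc_f_rc_26_2 lc_f_rc_11_3 lc_f_Cert_tree lc_f_Cert_tree lc_f_rc_25_0 lc_f_Cert_tree lc_f_rc_11_3 lc_f_rc_26_6 lc_f_Cert_tree lc_f_rc_25_0 lc_f_rc_5_1 lc_f_rc_16_1 lc_f_rc_29_2 lc_f_Cert_tree lc_f_rc_5_3) (@D3.rec (fun _ => (Cert rels S Gen.f)) lc_f_Cert_tree lc_f_rc_25_0 lc_f_rc_11_3 lc_f_rc_29_2 lc_f_rc_16_1 lc_f_Cert_tree lc_f_Cert_tree lc_f_Cert_tree lc_f_Cert_tree lc_f_rc_25_0 lc_f_rc_11_3 lc_f_Cert_tree lc_f_rc_29_2 lc_f_rc_29_2 lc_f_rc_20_1 lc_f_Cert_tree lc_f_Cert_tree lc_f_rc_25_0 lc_f_Cert_tree lc_f_Cert_tree lc_f_rc_25_0 lc_f_Cert_tree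 lc_f_Cert_tree lc_f_rc_25_0 lc_f_Cert_tree lc_f_rc_25_0 lc_f_rc_11_3 lc_f_rc_29_4 lc_f_rc_29_2 lc_f_rc_16_1 lc_f_Cert_tree lc_f_rc_16_1 lc_f_rc_23_1 lc_f_Cert_tree lc_f_rc_11_3 lc_f_rc_23_1 lc_f_rc_25_1 lc_f_rc_20_1 lc_f_rc_20_3 lc_f_rc_11_3) (@D3.rec (fun _ => (Cert rels S Gen.f)) lc_f_rc_11_3 lc_f_rc_16_1 lc_f_rc_5_3 lc_f_rc_11_1 lc_f_rc_16_1 lc_f_rc_5_1 lc_f_rc_16_1 lc_f_rc_16_1 lc_f_rc_5_1 lc_f_Cert_tree lc_f_rc_25_0 lc_f_rc_29_2 lc_f_Cert_tree lc_f_rc_25_0 lc_f_Cert_tree lc_f_rc_11_3 lc_f_rc_25_0 lc_f_Cert_tree lc_f_rc_25_0 lc_f_rc_29_2 lc_f_rc_16_1 lc_f_Cert_tree lc_f_Cert_tree lc_f_Cert_tree lc_f_rc_25_0 lc_f_Cert_tree lc_f_rc_5_1 lc_f_rc_20_1 lc_f_rc_29_2 lc_f_Cert_tree lc_f_Cert_tree lc_f_Cert_tree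 lc_f_rc_25_0 lc_f_Cert_tree lc_f_rc_5_3 lc_f_Cert_tree lc_f_rc_25_0 lc_f_rc_11_3 lc_f_rc_29_2 lc_f_rc_16_1) (@D3.rec (fun _ => (Cert rels S Gen.f)) lc_f_Cert_tree lc_f_Cert_tree lc_f_Cert_tree lc_f_rc_25_0 lc_f_Cert_tree lc_f_Cert_tree lc_f_rc_29_2 lc_f_rc_29_2 lc_f_Cert_tree lc_f_rc_16_1 lc_f_rc_23_1 lc_f_Cert_tree lc_f_Cert_tree lc_f_rc_25_0 lc_f_rc_5_3 lc_f_Cert_tree lc_f_rc_25_0 lc_f_rc_11_3 lc_f_Cert_tree lc_f_Cert_tree lc_f_rc_25_0 lc_f_Cert_tree lc_f_rc_25_0 lc_f_rc_29_4 lc_f_Cert_tree lc_f_Cert_tree lc_f_rc_25_0 lc_f_Cert_tree lc_f_Cert_tree lc_f_Cert_tree lc_f_rc_25_0 lc_f_rc_11_3 lc_f_Cert_tree lc_f_Cert_tree lc_f_rc_25_0 lc_f_rc_11_3 lc_f_rc_29_4 lc_f_rc_5_1 lc_f_rc_16_1 lc_f_rc_29_2) (@D3.rec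 (fun _ => (Cert rels S Gen.f)) lc_f_Cert_tree lc_f_Cert_tree lc_f_rc_29_2 lc_f_rc_29_2 lc_f_rc_20_1 lc_f_Cert_tree lc_f_rc_25_0 lc_f_rc_23_1 lc_f_rc_20_3 lc_f_Cert_tree lc_f_Cert_tree lc_f_rc_25_0 lc_f_rc_29_4 lc_f_rc_11_1 lc_f_rc_16_1 lc_f_Cert_tree lc_f_rc_20_1 lc_f_rc_16_1 lc_f_rc_23_1 lc_f_rc_25_0 lc_f_rc_11_3 lc_f_rc_29_2 lc_f_rc_11_3 lc_f_Cert_tree lc_f_rc_20_1 lc_f_rc_5_1 lc_f_rc_16_1 lc_f_Cert_tree lc_f_rc_5_1 lc_f_rc_20_1 lc_f_rc_23_1 lc_f_rc_5_1 lc_f_rc_29_4 lc_f_rc_16_1 lc_f_rc_29_2 lc_f_rc_20_1 lc_f_rc_29_4 lc_f_rc_23_1 lc_f_rc_30_11 lc_f_rc_16_1) (@D3.rec (fun _ => (Cert rels S Gen.f)) lc_f_rc_11_3 lc_f_Cert_tree lc_f_rc_16_3 lc_f_rc_16_1 lc_f_rc_16_1 lc_f_rc_23_1 lc_f_rc_31_7 lc_f_rc_23_1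 lc_f_rc_20_1 lc_f_rc_5_3 lc_f_Cert_tree lc_f_rc_25_0 lc_f_rc_16_1 lc_f_rc_23_1 lc_f_Cert_tree lc_f_rc_5_3 lc_f_rc_16_1 lc_f_rc_11_3 lc_f_rc_11_3 lc_f_Cert_tree lc_f_rc_25_0 lc_f_rc_11_3 lc_f_Cert_tree lc_f_rc_25_0 lc_f_rc_5_3 lc_f_rc_11_3 lc_f_rc_20_1 lc_f_rc_16_1 lc_f_rc_5_1 lc_f_rc_29_2 lc_f_rc_5_3 lc_f_rc_16_1 lc_f_rc_5_1 lc_f_Cert_tree lc_f_rc_25_0 lc_f_rc_29_2 lc_f_Cert_tree lc_f_rc_5_3 lc_f_Cert_tree lc_f_rc_25_0) (@D3.rec (fun _ => (Cert rels S Gen.f)) lc_f_rc_11_1 lc_f_Cert_tree lc_f_Cert_tree lc_f_Cert_tree lc_f_rc_25_0 lc_f_Cert_tree lc_f_Cert_tree lc_f_Cert_tree lc_f_rc_25_0 lc_f_Cert_tree lc_f_rc_25_0 lc_f_rc_20_1 lc_f_rc_11_3 lc_f_Cert_tree lc_f_Cert_tree lc_f_rc_25_0 lc_f_rc_29_2 lc_f_rc_11_3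 lc_f_rc_25_0 lc_f_Cert_tree lc_f_rc_25_0 lc_f_rc_29_2 lc_f_Cert_tree lc_f_Cert_tree lc_f_rc_25_0 lc_f_Cert_tree lc_f_rc_25_0 lc_f_rc_16_1 lc_f_rc_11_3 lc_f_rc_11_3 lc_f_Cert_tree lc_f_rc_25_0 lc_f_Cert_tree lc_f_rc_11_3 lc_f_Cert_tree lc_f_rc_16_1 lc_f_rc_16_1 lc_f_Cert_tree lc_f_Cert_tree lc_f_rc_25_0) (@D3.rec (fun _ => (Cert rels S Gen.f)) lc_f_Cert_tree lc_f_rc_25_0 lc_f_Cert_tree lc_f_rc_11_3 lc_f_rc_16_1 lc_f_Cert_tree lc_f_rc_25_0 lc_f_rc_16_1 lc_f_rc_11_3 lc_f_rc_23_1 lc_f_Cert_tree lc_f_rc_25_0 lc_f_rc_11_3 lc_f_Cert_tree lc_f_Cert_tree lc_f_rc_25_0 lc_f_rc_29_2 lc_f_Cert_tree lc_f_Cert_tree lc_f_rc_25_0 lc_f_Cert_tree lc_f_rc_11_3 lc_f_rc_25_0 lc_f_Cert_tree lc_f_rc_25_0 lc_f_rc_25_0 lc_f_Cert_tree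 lc_f_rc_11_3 lc_f_rc_29_2 lc_f_Cert_tree lc_f_rc_25_0 lc_f_rc_29_2 lc_f_rc_16_1 lc_f_Cert_tree lc_f_Cert_tree lc_f_Cert_tree lc_f_Cert_tree lc_f_rc_25_0 lc_f_rc_11_3 lc_f_rc_5_1) (@D3.rec (fun _ => (Cert rels S Gen.f)) lc_f_rc_20_1 lc_f_rc_16_1 lc_f_rc_5_1 lc_f_rc_5_3 lc_f_Cert_tree lc_f_rc_25_0 lc_f_rc_16_1 lc_f_rc_30_11 lc_f_rc_5_1 lc_f_rc_16_1 lc_f_rc_23_1 lc_f_rc_11_1 lc_f_rc_20_1 lc_f_Cert_tree lc_f_rc_5_3 lc_f_Cert_tree lc_f_rc_5_3 lc_f_rc_25_0 lc_f_rc_11_3 lc_f_rc_11_3 lc_f_rc_5_1 lc_f_rc_25_0 lc_f_rc_11_1 lc_f_rc_16_1 lc_f_rc_29_2 lc_f_Cert_tree lc_f_Cert_tree lc_f_rc_25_0 lc_f_rc_29_2 lc_f_Cert_tree lc_f_rc_25_0 lc_f_Cert_tree lc_f_rc_11_3 lc_f_rc_25_0 lc_f_Cert_tree lc_f_rc_25_0 lc_f_rc_11_3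 lc_f_rc_20_1 lc_f_Cert_tree lc_f_rc_25_0) (@D3.rec (fun _ => (Cert rels S Gen.f)) lc_f_rc_29_2 lc_f_rc_16_1 lc_f_Cert_tree lc_f_Cert_tree lc_f_Cert_tree lc_f_Cert_tree lc_f_rc_25_0 lc_f_rc_11_3 lc_f_rc_23_1 lc_f_rc_29_2 lc_f_rc_20_1 lc_f_Cert_tree lc_f_rc_29_2 lc_f_rc_25_0 lc_f_rc_29_2 lc_f_rc_16_1 lc_f_rc_11_1 lc_f_rc_30_3 lc_f_Cert_tree lc_f_rc_25_0 lc_f_rc_11_3 lc_f_rc_5_1 lc_f_rc_5_1 lc_f_rc_16_1 lc_f_rc_5_1 lc_f_rc_29_2 lc_f_rc_16_1 lc_f_rc_16_1 lc_f_rc_20_1 lc_f_rc_16_1 lc_f_rc_5_1 lc_f_rc_16_1 lc_f_rc_5_1 lc_f_rc_20_1 lc_f_rc_16_1 lc_f_rc_5_1 lc_f_Cert_tree lc_f_rc_25_0 lc_f_Cert_tree lc_f_rc_11_3) (@D3.rec (fun _ => (Cert rels S Gen.f)) lc_f_Cert_tree lc_f_rc_5_1 lc_f_rc_16_1 lc_f_rc_29_2 lc_f_Cert_tree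 lc_f_rc_5_3 lc_f_Cert_tree lc_f_rc_25_0 lc_f_rc_11_3 lc_f_Cert_tree lc_f_rc_29_2 lc_f_rc_29_2 lc_f_rc_20_1 lc_f_Cert_tree lc_f_Cert_tree lc_f_rc_25_0 lc_f_Cert_tree lc_f_Cert_tree lc_f_rc_25_0 lc_f_Cert_tree lc_f_Cert_tree lc_f_rc_25_0 lc_f_Cert_tree lc_f_rc_25_0 lc_f_rc_11_3 lc_f_rc_29_4 lc_f_rc_29_2 lc_f_rc_16_1 lc_f_Cert_tree lc_f_rc_16_1 lc_f_Cert_tree lc_f_rc_5_1 lc_f_rc_5_3 lc_f_rc_23_1 lc_f_Cert_tree lc_f_Cert_tree lc_f_rc_25_0 lc_f_rc_29_2 lc_f_rc_16_1 lc_f_rc_16_1) (@D3.rec (fun _ => (Cert rels S Gen.f)) lc_f_rc_20_1 lc_f_rc_16_1 lc_f_Cert_tree lc_f_rc_5_3 lc_f_Cert_tree lc_f_Cert_tree lc_f_rc_25_0 lc_f_rc_11_3 lc_f_rc_29_4 lc_f_rc_5_1 lc_f_rc_16_1 lc_f_rc_5_1 lc_f_rc_20_1 lc_f_rc_16_1 lc_f_rc_5_1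 lc_f_Cert_tree lc_f_rc_20_1 lc_f_rc_16_1 lc_f_Cert_tree lc_f_Cert_tree lc_f_rc_31_10 lc_f_rc_25_0 lc_f_rc_29_2 lc_f_rc_25_0 lc_f_rc_30_11 lc_f_rc_11_5 lc_f_rc_5_1 lc_f_rc_16_1 lc_f_rc_20_1 lc_f_rc_5_3 lc_f_rc_23_1 lc_f_Cert_tree lc_f_Cert_tree lc_f_Cert_tree lc_f_rc_25_0 lc_f_rc_25_0 lc_f_rc_11_3 lc_f_rc_29_4 lc_f_rc_5_1 lc_f_rc_5_1)
def ce_f_2 : D2 → D3 → (Cert rels S Gen.f) := @D2.rec (fun _ => D3 → (Cert rels S Gen.f)) (@D3.rec (fun _ => (Cert rels S Gen.f)) lc_f_rc_16_1 lc_f_rc_20_1 lc_f_rc_11_5 lc_f_rc_16_1 lc_f_rc_31_10 lc_f_Cert_tree lc_f_Cert_tree lc_f_rc_25_0 lc_f_Cert_tree lc_f_rc_20_1 lc_f_rc_5_1 lc_f_Cert_tree lc_f_rc_11_3 lc_f_rc_11_1 lc_f_Cert_tree lc_f_rc_25_0 lc_f_Cert_tree lc_f_rc_5_1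 lc_f_Cert_tree lc_f_Cert_tree lc_f_rc_25_0 lc_f_Cert_tree lc_f_Cert_tree lc_f_rc_25_0 lc_f_rc_11_3 lc_f_rc_11_3 lc_f_rc_5_1 lc_f_rc_16_1 lc_f_rc_31_10 lc_f_Cert_tree lc_f_rc_5_3 lc_f_Cert_tree lc_f_Cert_tree lc_f_Cert_tree lc_f_rc_25_0 lc_f_Cert_tree lc_f_Cert_tree lc_f_Cert_tree lc_f_rc_25_0 lc_f_Cert_tree) (@D3.rec (fun _ => (Cert rels S Gen.f)) lc_f_Cert_tree lc_f_rc_25_0 lc_f_rc_20_1 lc_f_rc_11_3 lc_f_Cert_tree lc_f_Cert_tree lc_f_Cert_tree lc_f_rc_25_0 lc_f_rc_29_2 lc_f_Cert_tree lc_f_Cert_tree lc_f_rc_25_0 lc_f_Cert_tree lc_f_rc_11_3 lc_f_rc_25_0 lc_f_Cert_tree lc_f_rc_25_0 lc_f_rc_25_0 lc_f_rc_23_1 lc_f_rc_11_3 lc_f_Cert_tree lc_f_rc_29_2 lc_f_Cert_tree lc_f_Cert_tree lc_f_rc_25_0 lc_f_rc_25_0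 lc_f_rc_29_2 lc_f_rc_11_3 lc_f_rc_25_0 lc_f_Cert_tree lc_f_rc_25_0 lc_f_rc_25_0 lc_f_Cert_tree lc_f_rc_11_3 lc_f_rc_20_1 lc_f_Cert_tree lc_f_rc_25_0 lc_f_rc_29_2 lc_f_rc_16_1 lc_f_Cert_tree) (@D3.rec (fun _ => (Cert rels S Gen.f)) lc_f_Cert_tree lc_f_Cert_tree lc_f_Cert_tree lc_f_rc_25_0 lc_f_rc_11_3 lc_f_rc_20_1 lc_f_rc_5_1 lc_f_rc_16_1 lc_f_rc_20_1 lc_f_rc_5_1 lc_f_rc_16_1 lc_f_rc_5_1 lc_f_rc_20_1 lc_f_rc_5_1 lc_f_rc_20_1 lc_f_rc_25_0 lc_f_rc_26_2 lc_f_rc_11_3 lc_f_Cert_tree lc_f_rc_11_3 lc_f_rc_26_6 lc_f_Cert_tree lc_f_rc_25_0 lc_f_rc_5_1 lc_f_rc_16_1 lc_f_rc_29_2 lc_f_Cert_tree lc_f_rc_5_3 lc_f_Cert_tree lc_f_rc_25_0 lc_f_rc_11_3 lc_f_rc_25_0 lc_f_rc_26_2 lc_f_rc_11_3 lc_f_Cert_tree lc_f_rc_20_1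 lc_f_rc_23_1 lc_f_Cert_tree lc_f_rc_25_0 lc_f_rc_29_2) (@D3.rec (fun _ => (Cert rels S Gen.f)) lc_f_rc_16_1 lc_f_Cert_tree lc_f_Cert_tree lc_f_Cert_tree lc_f_Cert_tree lc_f_rc_25_0 lc_f_rc_11_3 lc_f_Cert_tree lc_f_rc_29_2 lc_f_rc_29_2 lc_f_rc_20_1 lc_f_Cert_tree lc_f_Cert_tree lc_f_rc_25_0 lc_f_Cert_tree lc_f_Cert_tree lc_f_rc_25_0 lc_f_Cert_tree lc_f_Cert_tree lc_f_rc_25_0 lc_f_Cert_tree lc_f_rc_25_0 lc_f_rc_11_3 lc_f_rc_29_4 lc_f_rc_29_2 lc_f_rc_16_1 lc_f_Cert_tree lc_f_rc_5_1 lc_f_rc_23_1 lc_f_rc_5_1 lc_f_rc_20_1 lc_f_rc_29_4 lc_f_rc_5_1 lc_f_rc_5_1 lc_f_rc_20_1 lc_f_Cert_tree lc_f_rc_20_1 lc_f_rc_16_1 lc_f_rc_16_1 lc_f_Cert_tree) (@D3.rec (fun _ => (Cert rels S Gen.f)) lc_f_rc_20_1 lc_f_rc_23_1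 lc_f_rc_16_1 lc_f_Cert_tree lc_f_Cert_tree lc_f_rc_25_0 lc_f_Cert_tree lc_f_Cert_tree lc_f_rc_25_0 lc_f_rc_26_2 lc_f_rc_11_3 lc_f_Cert_tree lc_f_rc_25_0 lc_f_Cert_tree lc_f_rc_11_3 lc_f_rc_26_6 lc_f_Cert_tree lc_f_rc_25_0 lc_f_rc_5_1 lc_f_rc_16_1 lc_f_rc_29_2 lc_f_Cert_tree lc_f_rc_5_3 lc_f_Cert_tree lc_f_rc_25_0 lc_f_rc_11_3 lc_f_rc_29_2 lc_f_rc_16_1 lc_f_Cert_tree lc_f_Cert_tree lc_f_Cert_tree lc_f_rc_25_0 lc_f_Cert_tree lc_f_rc_29_2 lc_f_rc_29_2 lc_f_rc_20_1 lc_f_Cert_tree lc_f_rc_25_0 lc_f_Cert_tree lc_f_Cert_tree) (@D3.rec (fun _ => (Cert rels S Gen.f)) lc_f_rc_25_0 lc_f_Cert_tree lc_f_rc_25_0 lc_f_rc_29_4 lc_f_Cert_tree lc_f_rc_5_1 lc_f_rc_16_1 lc_f_rc_23_1 lc_f_rc_20_1 lc_f_Cert_tree lc_f_Cert_tree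 lc_f_rc_5_3 lc_f_rc_25_0 lc_f_Cert_tree lc_f_rc_25_0 lc_f_rc_11_3 lc_f_Cert_tree lc_f_rc_5_1 lc_f_Cert_tree lc_f_rc_5_3 lc_f_rc_25_0 lc_f_rc_29_2 lc_f_rc_25_0 lc_f_Cert_tree lc_f_rc_11_3 lc_f_rc_25_0 lc_f_Cert_tree lc_f_rc_25_0 lc_f_rc_30_11 lc_f_rc_11_5 lc_f_rc_25_1 lc_f_Cert_tree lc_f_Cert_tree lc_f_rc_25_0 lc_f_Cert_tree lc_f_rc_5_1 lc_f_rc_20_1 lc_f_rc_29_2 lc_f_Cert_tree lc_f_Cert_tree) (@D3.rec (fun _ => (Cert rels S Gen.f)) lc_f_Cert_tree lc_f_rc_25_0 lc_f_Cert_tree lc_f_rc_5_3 lc_f_Cert_tree lc_f_rc_25_0 lc_f_rc_11_3 lc_f_rc_29_2 lc_f_rc_16_1 lc_f_Cert_tree lc_f_Cert_tree lc_f_rc_25_0 lc_f_Cert_tree lc_f_Cert_tree lc_f_rc_29_2 lc_f_rc_29_2 lc_f_Cert_tree lc_f_rc_16_1 lc_f_rc_23_1 lc_f_Cert_tree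 lc_f_Cert_tree lc_f_rc_25_0 lc_f_rc_11_3 lc_f_Cert_tree lc_f_rc_25_0 lc_f_Cert_tree lc_f_Cert_tree lc_f_Cert_tree lc_f_rc_25_0 lc_f_rc_11_3 lc_f_Cert_tree lc_f_Cert_tree lc_f_rc_25_0 lc_f_rc_11_3 lc_f_rc_29_4 lc_f_Cert_tree lc_f_Cert_tree lc_f_Cert_tree lc_f_rc_25_0 lc_f_Cert_tree) (@D3.rec (fun _ => (Cert rels S Gen.f)) lc_f_rc_29_2 lc_f_rc_25_0 lc_f_Cert_tree lc_f_Cert_tree lc_f_rc_5_3 lc_f_rc_16_1 lc_f_rc_25_0 lc_f_Cert_tree lc_f_Cert_tree lc_f_rc_25_0 lc_f_Cert_tree lc_f_Cert_tree lc_f_rc_25_0 lc_f_Cert_tree lc_f_Cert_tree lc_f_rc_25_0 lc_f_rc_11_3 lc_f_Cert_tree lc_f_Cert_tree lc_f_rc_25_0 lc_f_rc_25_0 lc_f_rc_11_3 lc_f_rc_29_2 lc_f_Cert_tree lc_f_rc_16_1 lc_f_rc_5_1 lc_f_rc_5_1 lc_f_rc_16_1 lc_f_Cert_tree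 lc_f_Cert_tree lc_f_Cert_tree lc_f_rc_25_0 lc_f_Cert_tree lc_f_rc_23_1 lc_f_rc_16_1 lc_f_rc_20_1 lc_f_rc_16_1 lc_f_Cert_tree lc_f_rc_11_3 lc_f_rc_20_1) (@D3.rec (fun _ => (Cert rels S Gen.f)) lc_f_rc_16_1 lc_f_rc_5_3 lc_f_Cert_tree lc_f_rc_11_5 lc_f_rc_25_0 lc_f_Cert_tree lc_f_Cert_tree lc_f_Cert_tree lc_f_rc_25_0 lc_f_Cert_tree lc_f_Cert_tree lc_f_rc_25_0 lc_f_Cert_tree lc_f_rc_25_0 lc_f_rc_11_3 lc_f_rc_11_3 lc_f_rc_5_1 lc_f_rc_16_1 lc_f_rc_20_3 lc_f_rc_20_1 lc_f_rc_25_0 lc_f_rc_20_3 lc_f_rc_29_4 lc_f_Cert_tree lc_f_rc_5_3 lc_f_rc_25_0 lc_f_rc_29_2 lc_f_rc_29_2 lc_f_rc_25_0 lc_f_rc_5_3 lc_f_rc_25_0 lc_f_Cert_tree lc_f_rc_25_0 lc_f_rc_29_2 lc_f_rc_29_4 lc_f_Cert_tree lc_f_rc_25_0 lc_f_Cert_tree lc_f_Cert_tree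 lc_f_rc_25_0) (@D3.rec (fun _ => (Cert rels S Gen.f)) lc_f_rc_11_3 lc_f_rc_5_1 lc_f_rc_23_3 lc_f_rc_29_4 lc_f_rc_16_1 lc_f_Cert_tree lc_f_rc_25_0 lc_f_rc_16_1 lc_f_Cert_tree lc_f_Cert_tree lc_f_rc_25_0 lc_f_Cert_tree lc_f_rc_5_3 lc_f_Cert_tree lc_f_Cert_tree lc_f_rc_25_0 lc_f_rc_29_2 lc_f_Cert_tree lc_f_rc_25_0 lc_f_Cert_tree lc_f_rc_11_3 lc_f_rc_25_0 lc_f_rc_25_0 lc_f_Cert_tree lc_f_rc_25_0 lc_f_rc_11_3 lc_f_rc_29_4 lc_f_rc_29_2 lc_f_rc_16_1 lc_f_Cert_tree lc_f_Cert_tree lc_f_rc_5_1 lc_f_rc_16_1 lc_f_rc_20_1 lc_f_rc_5_1 lc_f_rc_20_1 lc_f_rc_29_2 lc_f_rc_11_5 lc_f_rc_16_1 lc_f_Cert_tree) (@D3.rec (fun _ => (Cert rels S Gen.f)) lc_f_rc_20_1 lc_f_rc_29_2 lc_f_rc_16_3 lc_f_Cert_tree lc_f_rc_25_0 lc_f_Cert_tree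 lc_f_rc_31_4 lc_f_Cert_tree lc_f_Cert_tree lc_f_rc_25_0 lc_f_Cert_tree lc_f_Cert_tree lc_f_rc_25_0 lc_f_Cert_tree lc_f_Cert_tree lc_f_rc_25_0 lc_f_rc_29_2 lc_f_Cert_tree lc_f_rc_25_0 lc_f_Cert_tree lc_f_rc_25_0 lc_f_Cert_tree lc_f_rc_11_3 lc_f_rc_25_0 lc_f_Cert_tree lc_f_rc_25_0 lc_f_Cert_tree lc_f_Cert_tree lc_f_rc_25_0 lc_f_rc_5_3 lc_f_rc_11_3 lc_f_Cert_tree lc_f_rc_29_2 lc_f_rc_16_1 lc_f_Cert_tree lc_f_Cert_tree lc_f_Cert_tree lc_f_rc_25_0 lc_f_rc_25_0 lc_f_Cert_tree) (@D3.rec (fun _ => (Cert rels S Gen.f)) lc_f_rc_11_3 lc_f_rc_5_1 lc_f_Cert_tree lc_f_rc_25_0 lc_f_rc_5_1 lc_f_rc_16_1 lc_f_rc_29_2 lc_f_Cert_tree lc_f_rc_5_3 lc_f_Cert_tree lc_f_rc_25_0 lc_f_rc_11_3 lc_f_Cert_tree lc_f_rc_5_1 lc_f_rc_20_1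 lc_f_rc_29_2 lc_f_Cert_tree lc_f_Cert_tree lc_f_Cert_tree lc_f_rc_25_0 lc_f_Cert_tree lc_f_rc_5_3 lc_f_Cert_tree lc_f_rc_25_0 lc_f_rc_11_3 lc_f_rc_29_2 lc_f_rc_16_1 lc_f_Cert_tree lc_f_Cert_tree lc_f_rc_29_2 lc_f_rc_29_2 lc_f_rc_20_1 lc_f_Cert_tree lc_f_Cert_tree lc_f_rc_25_0 lc_f_Cert_tree lc_f_Cert_tree lc_f_rc_25_0 lc_f_Cert_tree lc_f_Cert_tree) (@D3.rec (fun _ => (Cert rels S Gen.f)) lc_f_rc_25_0 lc_f_Cert_tree lc_f_rc_25_0 lc_f_rc_11_3 lc_f_rc_29_4 lc_f_rc_29_2 lc_f_rc_16_1 lc_f_Cert_tree lc_f_Cert_tree lc_f_Cert_tree lc_f_rc_25_0 lc_f_Cert_tree lc_f_Cert_tree lc_f_rc_29_2 lc_f_rc_29_2 lc_f_Cert_tree lc_f_rc_16_1 lc_f_rc_23_1 lc_f_Cert_tree lc_f_Cert_tree lc_f_rc_25_0 lc_f_rc_5_3 lc_f_Cert_tree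 lc_f_rc_25_0 lc_f_rc_11_3 lc_f_Cert_tree lc_f_Cert_tree lc_f_rc_25_0 lc_f_Cert_tree lc_f_rc_25_0 lc_f_rc_29_4 lc_f_Cert_tree lc_f_Cert_tree lc_f_rc_25_0 lc_f_Cert_tree lc_f_Cert_tree lc_f_Cert_tree lc_f_rc_25_0 lc_f_rc_11_3 lc_f_Cert_tree) (@D3.rec (fun _ => (Cert rels S Gen.f)) lc_f_Cert_tree lc_f_rc_25_0 lc_f_rc_11_3 lc_f_rc_29_4 lc_f_rc_5_1 lc_f_rc_16_1 lc_f_rc_29_2 lc_f_Cert_tree lc_f_Cert_tree lc_f_rc_29_2 lc_f_rc_29_2 lc_f_rc_20_1 lc_f_Cert_tree lc_f_rc_25_0 lc_f_Cert_tree lc_f_rc_16_1 lc_f_Cert_tree lc_f_rc_25_0 lc_f_rc_11_1 lc_f_rc_16_1 lc_f_Cert_tree lc_f_rc_29_4 lc_f_rc_5_1 lc_f_rc_23_1 lc_f_rc_20_1 lc_f_rc_20_1 lc_f_rc_29_2 lc_f_Cert_tree lc_f_rc_5_1 lc_f_rc_16_1 lc_f_Cert_tree lc_f_rc_20_1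 lc_f_rc_5_1 lc_f_rc_5_3 lc_f_rc_16_1 lc_f_rc_20_1 lc_f_rc_5_1 lc_f_rc_20_1 lc_f_rc_11_3 lc_f_rc_11_3) (@D3.rec (fun _ => (Cert rels S Gen.f)) lc_f_Cert_tree lc_f_rc_25_0 lc_f_rc_26_2 lc_f_rc_11_3 lc_f_Cert_tree lc_f_Cert_tree lc_f_Cert_tree lc_f_rc_25_0 lc_f_Cert_tree lc_f_rc_11_3 lc_f_rc_26_6 lc_f_Cert_tree lc_f_rc_25_0 lc_f_rc_5_1 lc_f_rc_16_1 lc_f_rc_29_2 lc_f_Cert_tree lc_f_rc_5_3 lc_f_Cert_tree lc_f_rc_25_0 lc_f_rc_11_3 lc_f_Cert_tree lc_f_rc_29_2 lc_f_rc_29_2 lc_f_rc_20_1 lc_f_Cert_tree lc_f_rc_25_0 lc_f_Cert_tree lc_f_Cert_tree lc_f_rc_25_0 lc_f_Cert_tree lc_f_rc_25_0 lc_f_rc_29_4 lc_f_rc_30_7 lc_f_rc_25_1 lc_f_rc_25_0 lc_f_Cert_tree lc_f_Cert_tree lc_f_rc_5_1 lc_f_rc_16_1) (@D3.rec (fun _ =>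 (Cert rels S Gen.f)) lc_f_rc_23_1 lc_f_rc_29_2 lc_f_Cert_tree lc_f_rc_5_3 lc_f_Cert_tree lc_f_rc_25_0 lc_f_rc_11_5 lc_f_Cert_tree lc_f_rc_25_0 lc_f_Cert_tree lc_f_rc_25_0 lc_f_rc_29_4 lc_f_Cert_tree lc_f_Cert_tree lc_f_rc_25_0 lc_f_Cert_tree lc_f_Cert_tree lc_f_rc_5_3 lc_f_Cert_tree lc_f_Cert_tree lc_f_rc_25_0 lc_f_rc_11_3 lc_f_rc_5_1 lc_f_rc_16_1 lc_f_rc_29_2 lc_f_Cert_tree lc_f_rc_29_2 lc_f_rc_29_2 lc_f_rc_20_1 lc_f_Cert_tree lc_f_rc_25_0 lc_f_rc_25_0 lc_f_rc_29_2 lc_f_rc_11_1 lc_f_rc_20_3 lc_f_rc_25_0 lc_f_Cert_tree lc_f_rc_25_0 lc_f_Cert_tree lc_f_rc_25_0) (@D3.rec (fun _ => (Cert rels S Gen.f)) lc_f_Cert_tree lc_f_Cert_tree lc_f_rc_25_0 lc_f_Cert_tree lc_f_rc_16_1 lc_f_rc_29_2 lc_f_rc_29_2 lc_f_Cert_tree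 lc_f_Cert_tree lc_f_Cert_tree lc_f_rc_25_0 lc_f_rc_20_1 lc_f_rc_16_1 lc_f_Cert_tree lc_f_Cert_tree lc_f_Cert_tree lc_f_rc_25_0 lc_f_rc_5_3 lc_f_Cert_tree lc_f_rc_25_0 lc_f_rc_11_3 lc_f_Cert_tree lc_f_rc_5_3 lc_f_Cert_tree lc_f_rc_25_0 lc_f_rc_11_3 lc_f_rc_29_2 lc_f_rc_16_1 lc_f_Cert_tree lc_f_Cert_tree lc_f_Cert_tree lc_f_rc_25_0 lc_f_Cert_tree lc_f_Cert_tree lc_f_Cert_tree lc_f_rc_25_0 lc_f_rc_11_3 lc_f_Cert_tree lc_f_Cert_tree lc_f_rc_25_0) (@D3.rec (fun _ => (Cert rels S Gen.f)) lc_f_rc_29_4 lc_f_Cert_tree lc_f_rc_25_0 lc_f_rc_29_2 lc_f_Cert_tree lc_f_Cert_tree lc_f_rc_25_0 lc_f_Cert_tree lc_f_rc_11_3 lc_f_rc_25_0 lc_f_rc_25_0 lc_f_Cert_tree lc_f_Cert_tree lc_f_rc_25_0 lc_f_Cert_tree lc_f_Cert_tree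 lc_f_Cert_tree lc_f_rc_25_0 lc_f_rc_11_3 lc_f_rc_5_1 lc_f_rc_16_1 lc_f_rc_11_1 lc_f_Cert_tree lc_f_Cert_tree lc_f_rc_25_0 lc_f_rc_25_0 lc_f_rc_11_3 lc_f_rc_29_4 lc_f_rc_5_1 lc_f_rc_11_3 lc_f_rc_29_2 lc_f_Cert_tree lc_f_Cert_tree lc_f_rc_5_1 lc_f_rc_20_1 lc_f_rc_29_2 lc_f_Cert_tree lc_f_Cert_tree lc_f_Cert_tree lc_f_rc_25_0) (@D3.rec (fun _ => (Cert rels S Gen.f)) lc_f_Cert_tree lc_f_Cert_tree lc_f_rc_25_0 lc_f_rc_25_1 lc_f_Cert_tree lc_f_rc_29_2 lc_f_rc_29_2 lc_f_rc_29_4 lc_f_rc_16_1 lc_f_rc_23_1 lc_f_Cert_tree lc_f_rc_25_0 lc_f_rc_11_3 lc_f_rc_20_3 lc_f_rc_11_5 lc_f_rc_20_1 lc_f_rc_11_1 lc_f_Cert_tree lc_f_rc_25_0 lc_f_Cert_tree lc_f_rc_25_0 lc_f_rc_29_4 lc_f_rc_29_4 lc_f_rc_16_1 lc_f_Cert_tree lc_f_rc_20_1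 lc_f_Cert_tree lc_f_Cert_tree lc_f_rc_25_0 lc_f_Cert_tree lc_f_rc_25_1 lc_f_Cert_tree lc_f_rc_16_1 lc_f_rc_11_3 lc_f_rc_5_1 lc_f_rc_16_1 lc_f_Cert_tree lc_f_rc_29_2 lc_f_rc_29_2 lc_f_rc_11_3) (@D3.rec (fun _ => (Cert rels S Gen.f)) lc_f_Cert_tree lc_f_rc_25_0 lc_f_rc_23_1 lc_f_rc_5_1 lc_f_Cert_tree lc_f_rc_20_1 lc_f_Cert_tree lc_f_Cert_tree lc_f_rc_25_0 lc_f_Cert_tree lc_f_rc_5_1 lc_f_Cert_tree lc_f_rc_23_1 lc_f_Cert_tree lc_f_rc_5_1 lc_f_rc_20_1 lc_f_rc_5_1 lc_f_rc_16_1 lc_f_rc_11_3 lc_f_rc_29_4 lc_f_rc_23_1 lc_f_rc_25_1 lc_f_Cert_tree lc_f_rc_16_1 lc_f_Cert_tree lc_f_Cert_tree lc_f_Cert_tree lc_f_rc_25_0 lc_f_rc_11_1 lc_f_rc_16_3 lc_f_rc_20_1 lc_f_Cert_tree lc_f_rc_16_1 lc_f_rc_31_7 lc_f_rc_20_1 lc_f_rc_16_1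 lc_f_rc_11_3 lc_f_rc_5_3 lc_f_Cert_tree lc_f_rc_25_0) (@D3.rec (fun _ => (Cert rels S Gen.f)) lc_f_Cert_tree lc_f_rc_23_1 lc_f_Cert_tree lc_f_Cert_tree lc_f_rc_11_3 lc_f_rc_25_0 lc_f_rc_29_2 lc_f_rc_5_3 lc_f_rc_29_4 lc_f_rc_5_3 lc_f_rc_25_0 lc_f_rc_11_3 lc_f_rc_16_1 lc_f_Cert_tree lc_f_rc_25_0 lc_f_rc_29_2 lc_f_rc_11_3 lc_f_rc_25_0 lc_f_rc_5_1 lc_f_rc_16_1 lc_f_Cert_tree lc_f_rc_26_6 lc_f_rc_20_3 lc_f_rc_16_3 lc_f_rc_16_1 lc_f_Cert_tree lc_f_rc_5_1 lc_f_rc_5_1 lc_f_rc_25_0 lc_f_rc_26_6 lc_f_rc_5_3 lc_f_Cert_tree lc_f_rc_25_0 lc_f_rc_11_1 lc_f_rc_5_3 lc_f_Cert_tree lc_f_rc_25_0 lc_f_Cert_tree lc_f_rc_25_0 lc_f_Cert_tree) (@D3.rec (fun _ => (Cert rels S Gen.f)) lc_f_rc_23_3 lc_f_Cert_tree lc_f_rc_25_0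 lc_f_rc_29_2 lc_f_Cert_tree lc_f_rc_25_0 lc_f_Cert_tree lc_f_rc_25_0 lc_f_rc_25_0 lc_f_Cert_tree lc_f_Cert_tree lc_f_rc_25_0 lc_f_rc_29_2 lc_f_Cert_tree lc_f_rc_25_0 lc_f_Cert_tree lc_f_rc_11_3 lc_f_rc_25_0 lc_f_Cert_tree lc_f_rc_25_0 lc_f_rc_11_3 lc_f_Cert_tree lc_f_rc_29_2 lc_f_Cert_tree lc_f_Cert_tree lc_f_rc_25_0 lc_f_Cert_tree lc_f_rc_23_3 lc_f_rc_25_0 lc_f_Cert_tree lc_f_rc_11_3 lc_f_Cert_tree lc_f_rc_5_1 lc_f_rc_29_2 lc_f_Cert_tree lc_f_rc_5_3 lc_f_rc_25_0 lc_f_rc_11_3 lc_f_rc_16_1 lc_f_rc_29_2) (@D3.rec (fun _ => (Cert rels S Gen.f)) lc_f_rc_25_0 lc_f_Cert_tree lc_f_rc_25_0 lc_f_rc_29_4 lc_f_rc_25_0 lc_f_rc_26_2 lc_f_rc_11_3 lc_f_Cert_tree lc_f_rc_16_1 lc_f_rc_16_1 lc_f_rc_16_3 lc_f_rc_25_0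 lc_f_rc_29_2 lc_f_rc_11_3 lc_f_rc_25_0 lc_f_Cert_tree lc_f_rc_25_0 lc_f_rc_29_2 lc_f_rc_16_1 lc_f_Cert_tree lc_f_Cert_tree lc_f_Cert_tree lc_f_rc_25_0 lc_f_rc_20_1 lc_f_rc_20_1 lc_f_Cert_tree lc_f_rc_5_3 lc_f_rc_25_0 lc_f_rc_29_2 lc_f_rc_25_0 lc_f_Cert_tree lc_f_rc_11_3 lc_f_rc_25_0 lc_f_Cert_tree lc_f_rc_25_0 lc_f_rc_11_3 lc_f_rc_26_6 lc_f_Cert_tree lc_f_rc_25_0 lc_f_rc_29_2) (@D3.rec (fun _ => (Cert rels S Gen.f)) lc_f_rc_16_1 lc_f_Cert_tree lc_f_Cert_tree lc_f_Cert_tree lc_f_Cert_tree lc_f_rc_25_0 lc_f_rc_11_3 lc_f_rc_20_1 lc_f_rc_16_1 lc_f_rc_5_1 lc_f_Cert_tree lc_f_rc_25_0 lc_f_rc_16_1 lc_f_rc_16_3 lc_f_rc_25_0 lc_f_Cert_tree lc_f_rc_26_4 lc_f_rc_5_3 lc_f_rc_25_0 lc_f_rc_26_2 lc_f_rc_11_3 lc_f_rc_11_3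 lc_f_Cert_tree lc_f_Cert_tree lc_f_rc_25_0 lc_f_Cert_tree lc_f_rc_25_0 lc_f_rc_5_3 lc_f_rc_11_3 lc_f_rc_26_6 lc_f_Cert_tree lc_f_rc_25_0 lc_f_rc_5_1 lc_f_rc_16_1 lc_f_rc_29_2 lc_f_Cert_tree lc_f_rc_5_3 lc_f_Cert_tree lc_f_rc_25_0 lc_f_rc_11_3) (@D3.rec (fun _ => (Cert rels S Gen.f)) lc_f_rc_11_3 lc_f_rc_26_6 lc_f_Cert_tree lc_f_rc_25_0 lc_f_rc_29_2 lc_f_rc_16_1 lc_f_Cert_tree lc_f_Cert_tree lc_f_Cert_tree lc_f_Cert_tree lc_f_rc_25_0 lc_f_rc_11_3 lc_f_rc_5_1 lc_f_rc_29_2 lc_f_rc_29_2 lc_f_rc_29_2 lc_f_Cert_tree lc_f_Cert_tree lc_f_rc_25_0 lc_f_Cert_tree lc_f_Cert_tree lc_f_rc_25_0 lc_f_Cert_tree lc_f_Cert_tree lc_f_rc_25_0 lc_f_Cert_tree lc_f_rc_25_0 lc_f_rc_11_3 lc_f_rc_29_4 lc_f_rc_29_2 lc_f_rc_16_1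 lc_f_Cert_tree lc_f_rc_20_1 lc_f_rc_5_1 lc_f_rc_5_1 lc_f_rc_23_1 lc_f_rc_20_1 lc_f_Cert_tree lc_f_rc_5_1 lc_f_Cert_tree) (@D3.rec (fun _ => (Cert rels S Gen.f)) lc_f_rc_5_3 lc_f_Cert_tree lc_f_Cert_tree lc_f_rc_25_0 lc_f_rc_11_3 lc_f_rc_20_1 lc_f_rc_11_3 lc_f_rc_29_2 lc_f_rc_16_1 lc_f_rc_5_1 lc_f_rc_5_1 lc_f_rc_20_1 lc_f_rc_16_1 lc_f_rc_16_1 lc_f_rc_5_1 lc_f_rc_25_0 lc_f_rc_30_3 lc_f_rc_25_0 lc_f_rc_5_3 lc_f_rc_23_1 lc_f_Cert_tree lc_f_Cert_tree lc_f_rc_16_1 lc_f_rc_25_0 lc_f_rc_16_1 lc_f_rc_26_2 lc_f_Cert_tree lc_f_Cert_tree lc_f_rc_25_0 lc_f_Cert_tree lc_f_rc_25_0 lc_f_rc_26_2 lc_f_rc_11_3 lc_f_Cert_tree lc_f_rc_25_0 lc_f_rc_29_2 lc_f_rc_11_3 lc_f_rc_26_6 lc_f_Cert_tree lc_f_rc_25_0)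
def ce_f_3 : D2 → D3 → (Cert rels S Gen.f) := @D2.rec (fun _ => D3 → (Cert rels S Gen.f)) (@D3.rec (fun _ => (Cert rels S Gen.f)) lc_f_rc_5_1 lc_f_rc_16_1 lc_f_rc_29_2 lc_f_Cert_tree lc_f_rc_5_3 lc_f_Cert_tree lc_f_rc_25_0 lc_f_rc_11_3 lc_f_rc_29_2 lc_f_rc_16_1 lc_f_Cert_tree lc_f_Cert_tree lc_f_Cert_tree lc_f_Cert_tree lc_f_rc_25_0 lc_f_rc_11_3 lc_f_Cert_tree lc_f_rc_29_2 lc_f_rc_29_2 lc_f_rc_20_1 lc_f_Cert_tree lc_f_Cert_tree lc_f_rc_25_0 lc_f_Cert_tree lc_f_Cert_tree lc_f_rc_25_0 lc_f_Cert_tree lc_f_Cert_tree lc_f_rc_25_0 lc_f_Cert_tree lc_f_rc_25_0 lc_f_rc_11_3 lc_f_rc_29_4 lc_f_rc_29_2 lc_f_rc_16_1 lc_f_Cert_tree lc_f_rc_23_1 lc_f_Cert_tree lc_f_rc_29_2 lc_f_rc_23_1) (@D3.rec (fun _ => (Cert rels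 S Gen.f)) lc_f_Cert_tree lc_f_Cert_tree lc_f_rc_25_0 lc_f_rc_29_2 lc_f_rc_16_1 lc_f_rc_16_1 lc_f_rc_20_1 lc_f_rc_16_1 lc_f_Cert_tree lc_f_rc_5_3 lc_f_Cert_tree lc_f_rc_25_0 lc_f_rc_11_3 lc_f_rc_16_1 lc_f_rc_5_1 lc_f_rc_16_1 lc_f_rc_5_1 lc_f_rc_20_1 lc_f_rc_23_1 lc_f_rc_5_1 lc_f_rc_16_1 lc_f_rc_20_1 lc_f_rc_20_1 lc_f_rc_16_1 lc_f_Cert_tree lc_f_rc_20_1 lc_f_rc_5_1 lc_f_rc_20_1 lc_f_rc_5_1 lc_f_rc_16_1 lc_f_rc_11_3 lc_f_rc_11_3 lc_f_rc_25_0 lc_f_rc_29_2 lc_f_rc_11_3 lc_f_rc_25_0 lc_f_Cert_tree lc_f_rc_25_0 lc_f_rc_29_2 lc_f_rc_16_1) (@D3.rec (fun _ => (Cert rels S Gen.f)) lc_f_Cert_tree lc_f_Cert_tree lc_f_Cert_tree lc_f_rc_25_0 lc_f_Cert_tree lc_f_rc_5_1 lc_f_rc_20_1 lc_f_rc_29_2 lc_f_Cert_tree lc_f_Cert_tree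 lc_f_Cert_tree lc_f_rc_25_0 lc_f_Cert_tree lc_f_rc_5_3 lc_f_Cert_tree lc_f_rc_25_0 lc_f_rc_11_3 lc_f_rc_29_2 lc_f_rc_16_1 lc_f_Cert_tree lc_f_Cert_tree lc_f_Cert_tree lc_f_rc_25_0 lc_f_Cert_tree lc_f_Cert_tree lc_f_rc_20_1 lc_f_rc_29_2 lc_f_Cert_tree lc_f_rc_23_1 lc_f_Cert_tree lc_f_Cert_tree lc_f_rc_25_0 lc_f_rc_5_3 lc_f_Cert_tree lc_f_rc_25_0 lc_f_rc_11_3 lc_f_Cert_tree lc_f_Cert_tree lc_f_rc_25_0 lc_f_rc_29_2) (@D3.rec (fun _ => (Cert rels S Gen.f)) lc_f_rc_25_0 lc_f_rc_29_4 lc_f_Cert_tree lc_f_Cert_tree lc_f_rc_25_0 lc_f_Cert_tree lc_f_Cert_tree lc_f_Cert_tree lc_f_rc_25_0 lc_f_rc_11_3 lc_f_Cert_tree lc_f_rc_25_0 lc_f_rc_11_3 lc_f_rc_29_4 lc_f_rc_5_1 lc_f_rc_16_1 lc_f_rc_29_2 lc_f_Cert_tree lc_f_Cert_tree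 lc_f_rc_29_2 lc_f_rc_29_2 lc_f_rc_5_1 lc_f_rc_29_4 lc_f_rc_25_0 lc_f_Cert_tree lc_f_rc_20_1 lc_f_Cert_tree lc_f_rc_11_1 lc_f_rc_25_0 lc_f_Cert_tree lc_f_rc_5_1 lc_f_Cert_tree lc_f_rc_5_3 lc_f_rc_29_2 lc_f_Cert_tree lc_f_Cert_tree lc_f_rc_25_0 lc_f_Cert_tree lc_f_Cert_tree lc_f_rc_25_0) (@D3.rec (fun _ => (Cert rels S Gen.f)) lc_f_rc_11_3 lc_f_rc_16_1 lc_f_rc_20_1 lc_f_Cert_tree lc_f_rc_20_1 lc_f_rc_20_3 lc_f_rc_23_1 lc_f_Cert_tree lc_f_rc_20_1 lc_f_Cert_tree lc_f_Cert_tree lc_f_rc_25_0 lc_f_Cert_tree lc_f_rc_5_3 lc_f_Cert_tree lc_f_Cert_tree lc_f_rc_25_0 lc_f_rc_25_0 lc_f_rc_11_3 lc_f_rc_29_4 lc_f_rc_29_2 lc_f_rc_11_3 lc_f_Cert_tree lc_f_Cert_tree lc_f_rc_5_1 lc_f_rc_20_1 lc_f_Cert_tree lc_f_rc_5_1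 lc_f_rc_16_1 lc_f_rc_23_1 lc_f_rc_29_4 lc_f_rc_5_1 lc_f_Cert_tree lc_f_rc_11_1 lc_f_rc_11_1 lc_f_rc_25_0 lc_f_Cert_tree lc_f_rc_23_1 lc_f_rc_29_4 lc_f_rc_11_1) (@D3.rec (fun _ => (Cert rels S Gen.f)) lc_f_Cert_tree lc_f_Cert_tree lc_f_rc_25_0 lc_f_rc_11_1 lc_f_rc_25_0 lc_f_rc_29_2 lc_f_rc_11_5 lc_f_rc_16_1 lc_f_rc_16_1 lc_f_Cert_tree lc_f_rc_20_1 lc_f_rc_16_1 lc_f_Cert_tree lc_f_rc_5_3 lc_f_Cert_tree lc_f_Cert_tree lc_f_rc_29_2 lc_f_rc_25_0 lc_f_Cert_tree lc_f_Cert_tree lc_f_rc_25_0 lc_f_Cert_tree lc_f_rc_25_0 lc_f_rc_29_2 lc_f_rc_5_1 lc_f_rc_11_3 lc_f_rc_29_4 lc_f_rc_5_1 lc_f_rc_16_1 lc_f_rc_16_1 lc_f_rc_16_1 lc_f_Cert_tree lc_f_rc_20_1 lc_f_rc_5_1 lc_f_rc_20_3 lc_f_Cert_tree lc_f_rc_25_0 lc_f_rc_29_2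 lc_f_rc_11_3 lc_f_rc_25_0) (@D3.rec (fun _ => (Cert rels S Gen.f)) lc_f_rc_26_6 lc_f_rc_25_0 lc_f_Cert_tree lc_f_rc_25_0 lc_f_rc_20_1 lc_f_Cert_tree lc_f_Cert_tree lc_f_Cert_tree lc_f_rc_25_0 lc_f_rc_16_1 lc_f_rc_16_1 lc_f_Cert_tree lc_f_rc_25_0 lc_f_Cert_tree lc_f_Cert_tree lc_f_rc_25_0 lc_f_Cert_tree lc_f_rc_5_1 lc_f_Cert_tree lc_f_Cert_tree lc_f_rc_25_0 lc_f_rc_29_2 lc_f_Cert_tree lc_f_rc_25_0 lc_f_Cert_tree lc_f_rc_11_3 lc_f_rc_25_0 lc_f_rc_25_0 lc_f_rc_25_0 lc_f_rc_23_1 lc_f_rc_29_2 lc_f_rc_11_3 lc_f_Cert_tree lc_f_rc_16_1 lc_f_rc_5_1 lc_f_rc_20_1 lc_f_rc_25_1 lc_f_Cert_tree lc_f_Cert_tree lc_f_rc_25_0) (@D3.rec (fun _ => (Cert rels S Gen.f)) lc_f_Cert_tree lc_f_rc_20_1 lc_f_Cert_tree lc_f_rc_25_0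 lc_f_Cert_tree lc_f_Cert_tree lc_f_rc_25_0 lc_f_rc_29_2 lc_f_Cert_tree lc_f_rc_25_0 lc_f_Cert_tree lc_f_rc_25_0 lc_f_rc_25_0 lc_f_Cert_tree lc_f_rc_25_0 lc_f_rc_29_2 lc_f_rc_25_0 lc_f_Cert_tree lc_f_rc_11_3 lc_f_rc_25_0 lc_f_Cert_tree lc_f_rc_25_0 lc_f_rc_25_0 lc_f_rc_23_1 lc_f_rc_11_3 lc_f_Cert_tree lc_f_rc_29_2 lc_f_Cert_tree lc_f_Cert_tree lc_f_rc_25_0 lc_f_Cert_tree lc_f_rc_25_0 lc_f_rc_26_2 lc_f_Cert_tree lc_f_rc_25_0 lc_f_rc_26_2 lc_f_rc_11_3 lc_f_Cert_tree lc_f_Cert_tree lc_f_Cert_tree) (@D3.rec (fun _ => (Cert rels S Gen.f)) lc_f_rc_25_0 lc_f_Cert_tree lc_f_rc_25_0 lc_f_Cert_tree lc_f_rc_11_3 lc_f_rc_26_6 lc_f_Cert_tree lc_f_rc_25_0 lc_f_rc_5_1 lc_f_rc_29_2 lc_f_Cert_tree lc_f_rc_5_3 lc_f_rc_25_0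 lc_f_rc_11_3 lc_f_rc_11_3 lc_f_Cert_tree lc_f_rc_20_1 lc_f_rc_16_1 lc_f_Cert_tree lc_f_Cert_tree lc_f_Cert_tree lc_f_rc_25_0 lc_f_Cert_tree lc_f_rc_29_2 lc_f_rc_25_0 lc_f_Cert_tree lc_f_rc_25_0 lc_f_rc_29_4 lc_f_rc_11_3 lc_f_Cert_tree lc_f_rc_5_1 lc_f_rc_16_1 lc_f_rc_29_2 lc_f_Cert_tree lc_f_rc_5_3 lc_f_Cert_tree lc_f_rc_25_0 lc_f_rc_11_3 lc_f_rc_11_3 lc_f_rc_23_1) (@D3.rec (fun _ => (Cert rels S Gen.f)) lc_f_Cert_tree lc_f_rc_25_0 lc_f_rc_29_2 lc_f_rc_16_1 lc_f_Cert_tree lc_f_Cert_tree lc_f_Cert_tree lc_f_Cert_tree lc_f_rc_25_0 lc_f_rc_11_3 lc_f_Cert_tree lc_f_rc_29_2 lc_f_rc_29_2 lc_f_rc_20_1 lc_f_Cert_tree lc_f_Cert_tree lc_f_rc_25_0 lc_f_Cert_tree lc_f_Cert_tree lc_f_rc_25_0 lc_f_Cert_tree lc_f_Cert_tree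 lc_f_rc_25_0 lc_f_Cert_tree lc_f_rc_25_0 lc_f_rc_11_3 lc_f_rc_29_4 lc_f_rc_29_2 lc_f_rc_16_1 lc_f_Cert_tree lc_f_rc_23_1 lc_f_rc_5_1 lc_f_rc_20_1 lc_f_rc_20_1 lc_f_rc_5_1 lc_f_rc_20_1 lc_f_rc_5_1 lc_f_rc_16_1 lc_f_rc_5_1 lc_f_rc_16_1) (@D3.rec (fun _ => (Cert rels S Gen.f)) lc_f_rc_20_1 lc_f_Cert_tree lc_f_rc_30_11 lc_f_rc_11_3 lc_f_rc_29_2 lc_f_Cert_tree lc_f_rc_11_5 lc_f_rc_25_0 lc_f_rc_5_1 lc_f_rc_16_1 lc_f_rc_29_2 lc_f_Cert_tree lc_f_rc_5_3 lc_f_Cert_tree lc_f_rc_25_0 lc_f_rc_11_3 lc_f_rc_11_3 lc_f_rc_5_1 lc_f_rc_20_1 lc_f_rc_29_2 lc_f_Cert_tree lc_f_Cert_tree lc_f_Cert_tree lc_f_rc_25_0 lc_f_Cert_tree lc_f_rc_5_3 lc_f_Cert_tree lc_f_rc_25_0 lc_f_rc_11_3 lc_f_rc_29_2 lc_f_rc_16_1 lc_f_Cert_tree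 lc_f_rc_11_3 lc_f_Cert_tree lc_f_rc_30_15 lc_f_rc_25_0 lc_f_rc_26_6 lc_f_Cert_tree lc_f_Cert_tree lc_f_rc_25_0) (@D3.rec (fun _ => (Cert rels S Gen.f)) lc_f_rc_29_4 lc_f_rc_5_1 lc_f_rc_29_4 lc_f_Cert_tree lc_f_Cert_tree lc_f_Cert_tree lc_f_rc_25_0 lc_f_rc_11_3 lc_f_rc_11_1 lc_f_rc_11_1 lc_f_rc_29_2 lc_f_rc_16_1 lc_f_Cert_tree lc_f_Cert_tree lc_f_rc_25_0 lc_f_Cert_tree lc_f_Cert_tree lc_f_rc_25_0 lc_f_rc_29_4 lc_f_Cert_tree lc_f_rc_25_0 lc_f_Cert_tree lc_f_rc_25_0 lc_f_rc_11_3 lc_f_rc_29_4 lc_f_rc_29_2 lc_f_rc_16_1 lc_f_Cert_tree lc_f_Cert_tree lc_f_rc_29_2 lc_f_rc_25_0 lc_f_Cert_tree lc_f_rc_11_3 lc_f_rc_29_2 lc_f_rc_29_2 lc_f_Cert_tree lc_f_rc_11_3 lc_f_rc_23_1 lc_f_Cert_tree lc_f_rc_25_0) (@D3.rec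 (fun _ => (Cert rels S Gen.f)) lc_f_rc_5_3 lc_f_Cert_tree lc_f_rc_25_0 lc_f_rc_11_3 lc_f_Cert_tree lc_f_Cert_tree lc_f_rc_25_0 lc_f_Cert_tree lc_f_rc_25_0 lc_f_rc_29_4 lc_f_rc_31_1 lc_f_Cert_tree lc_f_rc_25_0 lc_f_Cert_tree lc_f_rc_5_3 lc_f_Cert_tree lc_f_rc_25_0 lc_f_rc_11_3 lc_f_Cert_tree lc_f_Cert_tree lc_f_rc_25_0 lc_f_rc_29_4 lc_f_rc_5_1 lc_f_rc_16_1 lc_f_rc_29_2 lc_f_Cert_tree lc_f_Cert_tree lc_f_rc_29_2 lc_f_rc_29_2 lc_f_rc_20_1 lc_f_Cert_tree lc_f_rc_25_0 lc_f_rc_23_3 lc_f_rc_5_1 lc_f_Cert_tree lc_f_rc_5_1 lc_f_rc_16_1 lc_f_rc_23_1 lc_f_rc_26_2 lc_f_rc_29_4) (@D3.rec (fun _ => (Cert rels S Gen.f)) lc_f_Cert_tree lc_f_rc_5_1 lc_f_rc_16_1 lc_f_rc_23_1 lc_f_rc_5_3 lc_f_Cert_tree lc_f_rc_5_1 lc_f_rc_25_0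 lc_f_rc_16_1 lc_f_rc_23_1 lc_f_rc_20_1 lc_f_Cert_tree lc_f_rc_16_1 lc_f_Cert_tree lc_f_Cert_tree lc_f_rc_16_1 lc_f_rc_25_0 lc_f_Cert_tree lc_f_rc_23_1 lc_f_rc_20_1 lc_f_Cert_tree lc_f_rc_16_3 lc_f_rc_25_0 lc_f_rc_29_2 lc_f_rc_25_0 lc_f_Cert_tree lc_f_rc_11_3 lc_f_rc_25_0 lc_f_Cert_tree lc_f_rc_25_0 lc_f_Cert_tree lc_f_rc_25_0 lc_f_rc_5_3 lc_f_rc_11_3 lc_f_Cert_tree lc_f_rc_30_11 lc_f_rc_23_1 lc_f_rc_23_3 lc_f_Cert_tree lc_f_Cert_tree) (@D3.rec (fun _ => (Cert rels S Gen.f)) lc_f_rc_25_0 lc_f_rc_11_3 lc_f_rc_5_1 lc_f_Cert_tree lc_f_rc_25_0 lc_f_rc_5_1 lc_f_rc_16_1 lc_f_rc_29_2 lc_f_Cert_tree lc_f_rc_5_3 lc_f_Cert_tree lc_f_rc_25_0 lc_f_rc_11_3 lc_f_Cert_tree lc_f_rc_5_1 lc_f_rc_20_1 lc_f_rc_29_2 lc_f_Cert_tree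 lc_f_Cert_tree lc_f_Cert_tree lc_f_rc_25_0 lc_f_Cert_tree lc_f_rc_5_3 lc_f_Cert_tree lc_f_rc_25_0 lc_f_rc_11_3 lc_f_rc_29_2 lc_f_rc_16_1 lc_f_Cert_tree lc_f_Cert_tree lc_f_rc_29_2 lc_f_rc_29_2 lc_f_rc_20_1 lc_f_Cert_tree lc_f_rc_25_0 lc_f_Cert_tree lc_f_Cert_tree lc_f_rc_25_0 lc_f_Cert_tree lc_f_rc_25_0) (@D3.rec (fun _ => (Cert rels S Gen.f)) lc_f_rc_29_4 lc_f_Cert_tree lc_f_rc_25_0 lc_f_Cert_tree lc_f_Cert_tree lc_f_rc_29_2 lc_f_rc_29_2 lc_f_Cert_tree lc_f_rc_16_1 lc_f_rc_23_1 lc_f_Cert_tree lc_f_Cert_tree lc_f_rc_25_0 lc_f_rc_11_3 lc_f_Cert_tree lc_f_rc_25_0 lc_f_Cert_tree lc_f_Cert_tree lc_f_Cert_tree lc_f_rc_25_0 lc_f_rc_11_3 lc_f_Cert_tree lc_f_Cert_tree lc_f_rc_25_0 lc_f_rc_11_3 lc_f_rc_29_4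 lc_f_Cert_tree lc_f_Cert_tree lc_f_Cert_tree lc_f_rc_25_0 lc_f_Cert_tree lc_f_rc_5_1 lc_f_Cert_tree lc_f_rc_25_0 lc_f_Cert_tree lc_f_Cert_tree lc_f_rc_25_0 lc_f_Cert_tree lc_f_Cert_tree lc_f_rc_25_0) (@D3.rec (fun _ => (Cert rels S Gen.f)) lc_f_Cert_tree lc_f_rc_5_3 lc_f_rc_11_3 lc_f_rc_25_0 lc_f_rc_11_3 lc_f_rc_29_2 lc_f_Cert_tree lc_f_Cert_tree lc_f_Cert_tree lc_f_rc_25_0 lc_f_Cert_tree lc_f_rc_5_1 lc_f_Cert_tree lc_f_Cert_tree lc_f_rc_25_0 lc_f_Cert_tree lc_f_rc_5_3 lc_f_rc_11_3 lc_f_Cert_tree lc_f_rc_20_1 lc_f_rc_26_6 lc_f_Cert_tree lc_f_rc_25_0 lc_f_rc_29_4 lc_f_rc_26_4 lc_f_rc_25_0 lc_f_rc_11_3 lc_f_rc_29_4 lc_f_rc_29_2 lc_f_rc_31_4 lc_f_Cert_tree lc_f_rc_25_0 lc_f_rc_25_0 lc_f_rc_5_3 lc_f_Cert_tree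 lc_f_rc_25_0 lc_f_Cert_tree lc_f_Cert_tree lc_f_rc_5_1 lc_f_rc_16_1) (@D3.rec (fun _ => (Cert rels S Gen.f)) lc_f_rc_23_1 lc_f_rc_29_2 lc_f_Cert_tree lc_f_rc_5_3 lc_f_Cert_tree lc_f_rc_25_0 lc_f_rc_11_1 lc_f_Cert_tree lc_f_rc_25_0 lc_f_Cert_tree lc_f_rc_25_0 lc_f_rc_29_4 lc_f_rc_5_3 lc_f_Cert_tree lc_f_rc_25_0 lc_f_Cert_tree lc_f_Cert_tree lc_f_rc_5_3 lc_f_Cert_tree lc_f_Cert_tree lc_f_rc_25_0 lc_f_rc_11_3 lc_f_rc_5_1 lc_f_rc_16_1 lc_f_rc_29_2 lc_f_rc_26_4 lc_f_rc_29_2 lc_f_rc_29_2 lc_f_rc_20_1 lc_f_Cert_tree lc_f_rc_25_0 lc_f_rc_25_0 lc_f_rc_29_2 lc_f_rc_25_0 lc_f_rc_29_2 lc_f_rc_25_0 lc_f_rc_29_2 lc_f_rc_25_0 lc_f_rc_26_2 lc_f_rc_29_2) (@D3.rec (fun _ => (Cert rels S Gen.f)) lc_f_rc_29_2 lc_f_Cert_tree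 lc_f_Cert_tree lc_f_Cert_tree lc_f_rc_25_0 lc_f_rc_23_3 lc_f_rc_16_1 lc_f_Cert_tree lc_f_Cert_tree lc_f_rc_16_1 lc_f_rc_25_0 lc_f_rc_5_3 lc_f_rc_25_0 lc_f_rc_11_3 lc_f_rc_26_4 lc_f_rc_16_1 lc_f_Cert_tree lc_f_rc_25_0 lc_f_rc_29_2 lc_f_rc_11_3 lc_f_rc_25_0 lc_f_rc_25_0 lc_f_Cert_tree lc_f_rc_25_0 lc_f_rc_26_2 lc_f_Cert_tree lc_f_rc_25_0 lc_f_rc_11_3 lc_f_rc_5_1 lc_f_rc_16_1 lc_f_rc_11_1 lc_f_Cert_tree lc_f_Cert_tree lc_f_rc_25_0 lc_f_rc_25_0 lc_f_rc_11_3 lc_f_rc_29_4 lc_f_rc_5_1 lc_f_rc_29_2 lc_f_Cert_tree) (@D3.rec (fun _ => (Cert rels S Gen.f)) lc_f_rc_5_3 lc_f_Cert_tree lc_f_rc_25_0 lc_f_rc_11_5 lc_f_Cert_tree lc_f_rc_25_0 lc_f_rc_29_2 lc_f_rc_11_1 lc_f_Cert_tree lc_f_rc_25_0 lc_f_Cert_tree lc_f_rc_25_0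 lc_f_Cert_tree lc_f_rc_25_0 lc_f_rc_23_1 lc_f_rc_11_3 lc_f_Cert_tree lc_f_rc_25_0 lc_f_rc_30_15 lc_f_rc_30_3 lc_f_rc_25_0 lc_f_rc_5_1 lc_f_rc_20_1 lc_f_rc_16_1 lc_f_Cert_tree lc_f_Cert_tree lc_f_rc_5_3 lc_f_rc_29_4 lc_f_rc_25_0 lc_f_Cert_tree lc_f_rc_25_0 lc_f_rc_29_4 lc_f_Cert_tree lc_f_Cert_tree lc_f_rc_25_0 lc_f_rc_29_2 lc_f_Cert_tree lc_f_Cert_tree lc_f_rc_25_0 lc_f_Cert_tree) (@D3.rec (fun _ => (Cert rels S Gen.f)) lc_f_rc_11_3 lc_f_rc_25_0 lc_f_rc_25_0 lc_f_rc_25_0 lc_f_rc_11_3 lc_f_rc_29_2 lc_f_Cert_tree lc_f_rc_5_3 lc_f_rc_5_3 lc_f_rc_25_0 lc_f_Cert_tree lc_f_rc_25_0 lc_f_rc_11_3 lc_f_rc_11_3 lc_f_rc_5_1 lc_f_rc_16_1 lc_f_rc_29_2 lc_f_Cert_tree lc_f_rc_29_2 lc_f_rc_25_0 lc_f_rc_5_1 lc_f_rc_20_1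 lc_f_rc_29_2 lc_f_Cert_tree lc_f_Cert_tree lc_f_rc_5_3 lc_f_rc_29_4 lc_f_rc_25_0 lc_f_rc_29_2 lc_f_Cert_tree lc_f_rc_25_0 lc_f_rc_5_3 lc_f_Cert_tree lc_f_rc_25_0 lc_f_Cert_tree lc_f_rc_25_0 lc_f_Cert_tree lc_f_rc_25_0 lc_f_rc_23_1 lc_f_rc_16_1) (@D3.rec (fun _ => (Cert rels S Gen.f)) lc_f_Cert_tree lc_f_rc_11_3 lc_f_rc_20_1 lc_f_Cert_tree lc_f_Cert_tree lc_f_Cert_tree lc_f_rc_25_0 lc_f_rc_16_1 lc_f_rc_20_3 lc_f_rc_16_3 lc_f_Cert_tree lc_f_rc_5_3 lc_f_rc_25_0 lc_f_rc_11_3 lc_f_Cert_tree lc_f_Cert_tree lc_f_Cert_tree lc_f_rc_25_0 lc_f_rc_29_2 lc_f_Cert_tree lc_f_rc_25_0 lc_f_Cert_tree lc_f_Cert_tree lc_f_rc_25_0 lc_f_rc_11_1 lc_f_rc_11_3 lc_f_rc_25_0 lc_f_rc_25_0 lc_f_Cert_tree lc_f_rc_25_0 lc_f_rc_11_3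 lc_f_rc_5_3 lc_f_rc_25_0 lc_f_rc_11_3 lc_f_rc_5_1 lc_f_rc_16_1 lc_f_Cert_tree lc_f_rc_16_1 lc_f_rc_5_1 lc_f_rc_20_1) (@D3.rec (fun _ => (Cert rels S Gen.f)) lc_f_rc_16_3 lc_f_rc_29_2 lc_f_rc_20_1 lc_f_rc_25_0 lc_f_rc_16_1 lc_f_rc_5_1 lc_f_rc_11_1 lc_f_rc_25_0 lc_f_Cert_tree lc_f_rc_29_2 lc_f_Cert_tree lc_f_rc_5_1 lc_f_rc_5_1 lc_f_rc_29_4 lc_f_Cert_tree lc_f_Cert_tree lc_f_rc_5_3 lc_f_Cert_tree lc_f_rc_25_0 lc_f_rc_11_3 lc_f_rc_29_2 lc_f_Cert_tree lc_f_Cert_tree lc_f_Cert_tree lc_f_rc_25_0 lc_f_rc_11_3 lc_f_Cert_tree lc_f_Cert_tree lc_f_rc_25_0 lc_f_rc_29_2 lc_f_rc_25_0 lc_f_rc_11_3 lc_f_rc_29_4 lc_f_rc_29_2 lc_f_rc_16_1 lc_f_Cert_tree lc_f_rc_5_1 lc_f_rc_23_3 lc_f_rc_29_4 lc_f_Cert_tree) (@D3.rec (fun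 _ => (Cert rels S Gen.f)) lc_f_rc_20_1 lc_f_rc_29_2 lc_f_Cert_tree lc_f_rc_25_0 lc_f_rc_11_3 lc_f_rc_20_1 lc_f_Cert_tree lc_f_rc_25_0 lc_f_rc_25_0 lc_f_rc_25_0 lc_f_Cert_tree lc_f_Cert_tree lc_f_Cert_tree lc_f_rc_25_0 lc_f_Cert_tree lc_f_rc_25_0 lc_f_rc_11_3 lc_f_rc_23_1 lc_f_rc_25_0 lc_f_rc_11_3 lc_f_rc_25_0 lc_f_rc_5_1 lc_f_rc_16_1 lc_f_rc_29_2 lc_f_rc_11_3 lc_f_rc_11_3 lc_f_rc_25_0 lc_f_rc_11_3 lc_f_rc_5_1 lc_f_rc_16_1 lc_f_rc_20_3 lc_f_Cert_tree lc_f_Cert_tree lc_f_rc_5_1 lc_f_rc_29_2 lc_f_rc_20_1 lc_f_rc_5_3 lc_f_Cert_tree lc_f_rc_25_0 lc_f_Cert_tree) (@D3.rec (fun _ => (Cert rels S Gen.f)) lc_f_rc_16_3 lc_f_rc_25_0 lc_f_rc_5_1 lc_f_rc_20_1 lc_f_rc_16_1 lc_f_Cert_tree lc_f_rc_5_1 lc_f_rc_16_1 lc_f_rc_23_1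 lc_f_rc_29_4 lc_f_Cert_tree lc_f_rc_11_1 lc_f_rc_30_3 lc_f_rc_20_1 lc_f_rc_11_3 lc_f_Cert_tree lc_f_rc_25_0 lc_f_Cert_tree lc_f_rc_23_1 lc_f_rc_29_2 lc_f_rc_26_4 lc_f_rc_16_3 lc_f_Cert_tree lc_f_rc_16_1 lc_f_rc_25_0 lc_f_rc_29_2 lc_f_rc_25_0 lc_f_rc_25_0 lc_f_Cert_tree lc_f_rc_31_4 lc_f_Cert_tree lc_f_Cert_tree lc_f_rc_25_0 lc_f_Cert_tree lc_f_Cert_tree lc_f_rc_25_0 lc_f_rc_11_3 lc_f_Cert_tree lc_f_rc_25_0 lc_f_Cert_tree) (@D3.rec (fun _ => (Cert rels S Gen.f)) lc_f_rc_25_0 lc_f_rc_29_2 lc_f_rc_25_0 lc_f_rc_25_0 lc_f_rc_20_3 lc_f_rc_25_0 lc_f_rc_26_2 lc_f_rc_11_3 lc_f_Cert_tree lc_f_rc_5_1 lc_f_rc_25_0 lc_f_Cert_tree lc_f_rc_11_3 lc_f_rc_26_6 lc_f_Cert_tree lc_f_rc_25_0 lc_f_rc_11_3 lc_f_rc_29_2 lc_f_Cert_tree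 lc_f_rc_25_0 lc_f_rc_5_1 lc_f_rc_16_1 lc_f_rc_29_2 lc_f_Cert_tree lc_f_rc_5_3 lc_f_Cert_tree lc_f_rc_25_0 lc_f_rc_11_3 lc_f_Cert_tree lc_f_Cert_tree lc_f_rc_25_0 lc_f_Cert_tree lc_f_rc_25_0 lc_f_rc_5_3 lc_f_rc_11_3 lc_f_Cert_tree lc_f_rc_29_2 lc_f_rc_16_1 lc_f_Cert_tree lc_f_Cert_tree)
def ce_f_4 : D2 → D3 → (Cert rels S Gen.f) := @D2.rec (fun _ => D3 → (Cert rels S Gen.f)) (@D3.rec (fun _ => (Cert rels S Gen.f)) lc_f_Cert_tree lc_f_rc_25_0 lc_f_Cert_tree lc_f_rc_29_2 lc_f_rc_29_2 lc_f_rc_20_1 lc_f_Cert_tree lc_f_rc_25_0 lc_f_Cert_tree lc_f_Cert_tree lc_f_rc_25_0 lc_f_Cert_tree lc_f_rc_25_0 lc_f_rc_29_4 lc_f_rc_11_3 lc_f_rc_5_1 lc_f_rc_11_5 lc_f_rc_25_0 lc_f_rc_11_3 lc_f_rc_29_2 lc_f_rc_20_3 lc_f_Cert_tree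 lc_f_rc_25_0 lc_f_rc_11_3 lc_f_Cert_tree lc_f_rc_5_1 lc_f_rc_20_1 lc_f_rc_29_2 lc_f_Cert_tree lc_f_Cert_tree lc_f_Cert_tree lc_f_rc_25_0 lc_f_Cert_tree lc_f_rc_5_3 lc_f_Cert_tree lc_f_rc_25_0 lc_f_rc_11_3 lc_f_rc_29_2 lc_f_rc_16_1 lc_f_Cert_tree) (@D3.rec (fun _ => (Cert rels S Gen.f)) lc_f_rc_25_0 lc_f_Cert_tree lc_f_Cert_tree lc_f_rc_5_1 lc_f_rc_16_1 lc_f_rc_23_1 lc_f_rc_29_2 lc_f_Cert_tree lc_f_rc_5_3 lc_f_Cert_tree lc_f_rc_25_0 lc_f_rc_11_5 lc_f_Cert_tree lc_f_rc_25_0 lc_f_Cert_tree lc_f_rc_25_0 lc_f_rc_29_4 lc_f_rc_25_0 lc_f_Cert_tree lc_f_Cert_tree lc_f_rc_5_3 lc_f_Cert_tree lc_f_Cert_tree lc_f_rc_25_0 lc_f_rc_11_3 lc_f_rc_5_1 lc_f_rc_16_1 lc_f_rc_29_2 lc_f_Cert_tree lc_f_rc_29_2 lc_f_rc_29_2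 lc_f_rc_20_1 lc_f_Cert_tree lc_f_rc_25_0 lc_f_rc_25_0 lc_f_Cert_tree lc_f_Cert_tree lc_f_rc_16_3 lc_f_rc_29_2 lc_f_Cert_tree) (@D3.rec (fun _ => (Cert rels S Gen.f)) lc_f_rc_16_1 lc_f_rc_23_1 lc_f_Cert_tree lc_f_Cert_tree lc_f_rc_25_0 lc_f_rc_5_3 lc_f_Cert_tree lc_f_rc_25_0 lc_f_rc_11_3 lc_f_Cert_tree lc_f_Cert_tree lc_f_rc_25_0 lc_f_Cert_tree lc_f_rc_25_0 lc_f_rc_29_4 lc_f_rc_25_0 lc_f_Cert_tree lc_f_Cert_tree lc_f_Cert_tree lc_f_rc_25_0 lc_f_rc_11_3 lc_f_Cert_tree lc_f_Cert_tree lc_f_rc_25_0 lc_f_rc_11_3 lc_f_rc_29_4 lc_f_rc_5_1 lc_f_rc_16_1 lc_f_rc_29_2 lc_f_Cert_tree lc_f_Cert_tree lc_f_rc_29_2 lc_f_rc_29_2 lc_f_rc_20_1 lc_f_Cert_tree lc_f_rc_25_0 lc_f_rc_25_0 lc_f_rc_29_2 lc_f_rc_11_1 lc_f_Cert_tree)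 (@D3.rec (fun _ => (Cert rels S Gen.f)) lc_f_rc_25_0 lc_f_Cert_tree lc_f_rc_25_0 lc_f_Cert_tree lc_f_rc_25_0 lc_f_Cert_tree lc_f_Cert_tree lc_f_rc_25_0 lc_f_Cert_tree lc_f_rc_16_1 lc_f_rc_29_2 lc_f_rc_29_2 lc_f_Cert_tree lc_f_Cert_tree lc_f_Cert_tree lc_f_rc_25_0 lc_f_Cert_tree lc_f_rc_20_1 lc_f_rc_16_1 lc_f_Cert_tree lc_f_Cert_tree lc_f_Cert_tree lc_f_rc_25_0 lc_f_rc_5_3 lc_f_rc_25_0 lc_f_rc_11_3 lc_f_Cert_tree lc_f_rc_5_3 lc_f_Cert_tree lc_f_rc_25_0 lc_f_rc_11_3 lc_f_rc_29_2 lc_f_rc_16_1 lc_f_Cert_tree lc_f_Cert_tree lc_f_Cert_tree lc_f_rc_25_0 lc_f_Cert_tree lc_f_Cert_tree lc_f_Cert_tree) (@D3.rec (fun _ => (Cert rels S Gen.f)) lc_f_rc_25_0 lc_f_rc_11_3 lc_f_Cert_tree lc_f_Cert_tree lc_f_rc_25_0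 lc_f_rc_29_4 lc_f_Cert_tree lc_f_rc_25_0 lc_f_rc_29_2 lc_f_Cert_tree lc_f_Cert_tree lc_f_rc_25_0 lc_f_Cert_tree lc_f_rc_11_3 lc_f_rc_25_0 lc_f_rc_25_0 lc_f_Cert_tree lc_f_Cert_tree lc_f_rc_25_0 lc_f_Cert_tree lc_f_Cert_tree lc_f_Cert_tree lc_f_rc_25_0 lc_f_rc_11_3 lc_f_rc_5_1 lc_f_rc_16_1 lc_f_rc_11_1 lc_f_Cert_tree lc_f_Cert_tree lc_f_Cert_tree lc_f_rc_25_0 lc_f_rc_25_0 lc_f_rc_20_1 lc_f_rc_29_4 lc_f_rc_5_1 lc_f_rc_29_2 lc_f_Cert_tree lc_f_Cert_tree lc_f_rc_5_1 lc_f_rc_20_1) (@D3.rec (fun _ => (Cert rels S Gen.f)) lc_f_rc_29_2 lc_f_Cert_tree lc_f_Cert_tree lc_f_Cert_tree lc_f_rc_25_0 lc_f_Cert_tree lc_f_Cert_tree lc_f_rc_25_0 lc_f_rc_25_1 lc_f_Cert_tree lc_f_rc_29_2 lc_f_rc_29_2 lc_f_rc_29_4 lc_f_rc_16_1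 lc_f_rc_23_1 lc_f_Cert_tree lc_f_rc_25_0 lc_f_rc_11_3 lc_f_Cert_tree lc_f_Cert_tree lc_f_rc_25_0 lc_f_rc_11_1 lc_f_rc_25_0 lc_f_rc_29_4 lc_f_rc_16_1 lc_f_Cert_tree lc_f_rc_20_1 lc_f_Cert_tree lc_f_Cert_tree lc_f_rc_25_0 lc_f_Cert_tree lc_f_rc_5_1 lc_f_Cert_tree lc_f_rc_5_1 lc_f_rc_29_2 lc_f_rc_20_3 lc_f_Cert_tree lc_f_Cert_tree lc_f_rc_29_2 lc_f_rc_25_0) (@D3.rec (fun _ => (Cert rels S Gen.f)) lc_f_rc_5_1 lc_f_Cert_tree lc_f_rc_20_1 lc_f_Cert_tree lc_f_Cert_tree lc_f_rc_25_0 lc_f_Cert_tree lc_f_rc_20_1 lc_f_Cert_tree lc_f_rc_5_1 lc_f_rc_11_3 lc_f_rc_20_1 lc_f_rc_16_1 lc_f_rc_11_3 lc_f_rc_5_1 lc_f_rc_16_1 lc_f_Cert_tree lc_f_rc_23_3 lc_f_rc_25_0 lc_f_rc_26_2 lc_f_rc_11_3 lc_f_Cert_tree lc_f_rc_26_4 lc_f_rc_16_1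 lc_f_rc_11_1 lc_f_rc_5_3 lc_f_Cert_tree lc_f_rc_25_0 lc_f_rc_11_1 lc_f_Cert_tree lc_f_Cert_tree lc_f_rc_25_0 lc_f_Cert_tree lc_f_rc_25_0 lc_f_Cert_tree lc_f_rc_11_3 lc_f_rc_26_6 lc_f_Cert_tree lc_f_rc_25_0 lc_f_rc_11_3) (@D3.rec (fun _ => (Cert rels S Gen.f)) lc_f_rc_16_3 lc_f_rc_25_1 lc_f_Cert_tree lc_f_rc_25_0 lc_f_rc_11_3 lc_f_rc_29_4 lc_f_rc_5_1 lc_f_rc_20_1 lc_f_rc_29_2 lc_f_rc_25_1 lc_f_rc_5_3 lc_f_Cert_tree lc_f_rc_25_0 lc_f_rc_25_1 lc_f_rc_5_3 lc_f_Cert_tree lc_f_rc_25_0 lc_f_rc_11_3 lc_f_rc_31_10 lc_f_rc_16_1 lc_f_Cert_tree lc_f_rc_29_2 lc_f_rc_25_1 lc_f_rc_25_0 lc_f_rc_11_3 lc_f_rc_11_1 lc_f_rc_29_2 lc_f_rc_29_2 lc_f_rc_11_3 lc_f_rc_23_1 lc_f_Cert_tree lc_f_Cert_tree lc_f_rc_25_0 lc_f_rc_5_3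 lc_f_Cert_tree lc_f_rc_25_0 lc_f_rc_5_3 lc_f_Cert_tree lc_f_Cert_tree lc_f_rc_25_0) (@D3.rec (fun _ => (Cert rels S Gen.f)) lc_f_rc_26_6 lc_f_Cert_tree lc_f_rc_25_0 lc_f_rc_11_3 lc_f_rc_29_4 lc_f_rc_29_2 lc_f_rc_11_1 lc_f_rc_29_4 lc_f_rc_25_0 lc_f_rc_25_0 lc_f_Cert_tree lc_f_Cert_tree lc_f_rc_25_0 lc_f_Cert_tree lc_f_rc_16_1 lc_f_rc_5_1 lc_f_rc_11_3 lc_f_rc_20_1 lc_f_rc_16_1 lc_f_rc_16_1 lc_f_rc_29_2 lc_f_Cert_tree lc_f_Cert_tree lc_f_rc_25_0 lc_f_rc_11_3 lc_f_rc_5_3 lc_f_Cert_tree lc_f_rc_25_0 lc_f_rc_11_3 lc_f_rc_16_1 lc_f_rc_29_4 lc_f_Cert_tree lc_f_Cert_tree lc_f_rc_25_0 lc_f_Cert_tree lc_f_Cert_tree lc_f_rc_25_0 lc_f_rc_11_3 lc_f_rc_29_4 lc_f_rc_25_1) (@D3.rec (fun _ => (Cert rels S Gen.f)) lc_f_rc_25_0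 lc_f_Cert_tree lc_f_rc_25_0 lc_f_rc_11_1 lc_f_rc_25_0 lc_f_Cert_tree lc_f_Cert_tree lc_f_rc_25_0 lc_f_Cert_tree lc_f_rc_5_3 lc_f_rc_5_3 lc_f_rc_31_7 lc_f_rc_29_2 lc_f_rc_26_6 lc_f_rc_25_0 lc_f_rc_25_0 lc_f_rc_11_3 lc_f_rc_11_3 lc_f_rc_29_2 lc_f_Cert_tree lc_f_rc_5_1 lc_f_rc_20_1 lc_f_rc_29_2 lc_f_rc_5_3 lc_f_rc_29_2 lc_f_rc_25_0 lc_f_Cert_tree lc_f_rc_29_2 lc_f_rc_29_2 lc_f_rc_16_1 lc_f_rc_23_1 lc_f_Cert_tree lc_f_Cert_tree lc_f_rc_25_0 lc_f_rc_29_4 lc_f_rc_26_4 lc_f_rc_5_1 lc_f_Cert_tree lc_f_rc_23_1 lc_f_Cert_tree) (@D3.rec (fun _ => (Cert rels S Gen.f)) lc_f_rc_26_6 lc_f_Cert_tree lc_f_rc_25_0 lc_f_rc_5_1 lc_f_rc_26_2 lc_f_Cert_tree lc_f_rc_25_0 lc_f_rc_11_3 lc_f_Cert_tree lc_f_rc_25_0 lc_f_rc_29_2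 lc_f_Cert_tree lc_f_Cert_tree lc_f_rc_25_0 lc_f_Cert_tree lc_f_rc_25_0 lc_f_rc_31_10 lc_f_rc_25_0 lc_f_rc_23_1 lc_f_rc_16_1 lc_f_rc_16_1 lc_f_rc_29_2 lc_f_Cert_tree lc_f_Cert_tree lc_f_Cert_tree lc_f_rc_25_0 lc_f_rc_11_1 lc_f_Cert_tree lc_f_rc_25_0 lc_f_Cert_tree lc_f_rc_25_0 lc_f_rc_23_1 lc_f_rc_29_2 lc_f_rc_29_2 lc_f_Cert_tree lc_f_Cert_tree lc_f_rc_25_0 lc_f_Cert_tree lc_f_rc_25_0 lc_f_rc_5_3) (@D3.rec (fun _ => (Cert rels S Gen.f)) lc_f_rc_5_1 lc_f_rc_25_0 lc_f_rc_11_3 lc_f_Cert_tree lc_f_rc_5_3 lc_f_rc_26_6 lc_f_rc_25_0 lc_f_rc_11_3 lc_f_rc_29_2 lc_f_rc_16_1 lc_f_Cert_tree lc_f_rc_26_0 lc_f_Cert_tree lc_f_rc_25_0 lc_f_rc_11_1 lc_f_Cert_tree lc_f_rc_5_3 lc_f_Cert_tree lc_f_Cert_tree lc_f_rc_25_0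 lc_f_rc_11_3 lc_f_rc_5_1 lc_f_rc_16_1 lc_f_rc_29_2 lc_f_rc_29_2 lc_f_rc_29_2 lc_f_rc_20_1 lc_f_Cert_tree lc_f_rc_25_0 lc_f_Cert_tree lc_f_rc_25_0 lc_f_rc_29_2 lc_f_Cert_tree lc_f_Cert_tree lc_f_rc_25_0 lc_f_rc_5_3 lc_f_rc_11_3 lc_f_rc_25_0 lc_f_Cert_tree lc_f_Cert_tree) (@D3.rec (fun _ => (Cert rels S Gen.f)) lc_f_rc_25_0 lc_f_Cert_tree lc_f_Cert_tree lc_f_Cert_tree lc_f_rc_25_0 lc_f_rc_11_3 lc_f_rc_16_1 lc_f_Cert_tree lc_f_Cert_tree lc_f_Cert_tree lc_f_rc_25_0 lc_f_rc_25_0 lc_f_rc_29_4 lc_f_Cert_tree lc_f_rc_5_3 lc_f_Cert_tree lc_f_rc_25_0 lc_f_rc_11_3 lc_f_rc_11_1 lc_f_rc_25_0 lc_f_Cert_tree lc_f_rc_25_0 lc_f_rc_11_3 lc_f_rc_26_6 lc_f_rc_25_0 lc_f_rc_5_1 lc_f_rc_16_1 lc_f_rc_11_3 lc_f_rc_11_3 lc_f_Cert_tree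 lc_f_rc_25_0 lc_f_rc_29_2 lc_f_Cert_tree lc_f_Cert_tree lc_f_rc_25_0 lc_f_Cert_tree lc_f_rc_11_3 lc_f_rc_25_0 lc_f_rc_25_0 lc_f_rc_23_1) (@D3.rec (fun _ => (Cert rels S Gen.f)) lc_f_Cert_tree lc_f_rc_25_0 lc_f_rc_25_0 lc_f_rc_11_3 lc_f_rc_29_2 lc_f_rc_16_1 lc_f_Cert_tree lc_f_rc_11_1 lc_f_rc_5_1 lc_f_rc_20_1 lc_f_rc_16_1 lc_f_Cert_tree lc_f_rc_25_0 lc_f_Cert_tree lc_f_rc_25_0 lc_f_rc_11_3 lc_f_rc_5_1 lc_f_rc_11_3 lc_f_rc_29_4 lc_f_rc_5_1 lc_f_rc_16_1 lc_f_rc_5_1 lc_f_Cert_tree lc_f_Cert_tree lc_f_rc_5_1 lc_f_rc_11_3 lc_f_rc_29_2 lc_f_rc_11_3 lc_f_Cert_tree lc_f_Cert_tree lc_f_rc_25_0 lc_f_rc_5_3 lc_f_Cert_tree lc_f_rc_25_0 lc_f_rc_11_1 lc_f_Cert_tree lc_f_rc_5_1 lc_f_rc_16_1 lc_f_rc_23_1 lc_f_rc_29_2)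 (@D3.rec (fun _ => (Cert rels S Gen.f)) lc_f_Cert_tree lc_f_rc_5_3 lc_f_Cert_tree lc_f_rc_25_0 lc_f_Cert_tree lc_f_rc_25_0 lc_f_Cert_tree lc_f_rc_25_0 lc_f_rc_29_4 lc_f_Cert_tree lc_f_rc_25_0 lc_f_rc_29_2 lc_f_Cert_tree lc_f_rc_5_3 lc_f_rc_25_0 lc_f_rc_16_1 lc_f_rc_25_0 lc_f_rc_31_4 lc_f_Cert_tree lc_f_Cert_tree lc_f_rc_25_0 lc_f_Cert_tree lc_f_rc_29_2 lc_f_rc_29_2 lc_f_Cert_tree lc_f_rc_29_4 lc_f_Cert_tree lc_f_rc_16_1 lc_f_Cert_tree lc_f_Cert_tree lc_f_rc_25_0 lc_f_rc_11_3 lc_f_rc_26_4 lc_f_rc_16_1 lc_f_rc_31_7 lc_f_rc_11_5 lc_f_rc_20_1 lc_f_rc_20_1 lc_f_rc_11_3 lc_f_rc_29_2) (@D3.rec (fun _ => (Cert rels S Gen.f)) lc_f_rc_16_1 lc_f_Cert_tree lc_f_rc_11_5 lc_f_rc_20_3 lc_f_rc_25_0 lc_f_rc_5_1 lc_f_Cert_tree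 lc_f_rc_25_0 lc_f_rc_29_4 lc_f_Cert_tree lc_f_Cert_tree lc_f_rc_20_1 lc_f_Cert_tree lc_f_Cert_tree lc_f_rc_25_0 lc_f_Cert_tree lc_f_rc_16_1 lc_f_rc_23_1 lc_f_Cert_tree lc_f_Cert_tree lc_f_rc_25_0 lc_f_rc_29_2 lc_f_rc_5_3 lc_f_Cert_tree lc_f_rc_25_0 lc_f_Cert_tree lc_f_rc_25_0 lc_f_rc_25_0 lc_f_Cert_tree lc_f_Cert_tree lc_f_rc_25_0 lc_f_Cert_tree lc_f_rc_20_1 lc_f_rc_5_1 lc_f_rc_16_1 lc_f_Cert_tree lc_f_rc_5_1 lc_f_Cert_tree lc_f_Cert_tree lc_f_rc_25_0) (@D3.rec (fun _ => (Cert rels S Gen.f)) lc_f_Cert_tree lc_f_rc_5_1 lc_f_rc_29_2 lc_f_rc_16_1 lc_f_rc_11_3 lc_f_Cert_tree lc_f_rc_25_0 lc_f_rc_11_3 lc_f_Cert_tree lc_f_rc_5_1 lc_f_Cert_tree lc_f_Cert_tree lc_f_rc_25_0 lc_f_Cert_tree lc_f_rc_16_1 lc_f_rc_23_1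 lc_f_Cert_tree lc_f_Cert_tree lc_f_rc_25_0 lc_f_rc_29_2 lc_f_Cert_tree lc_f_Cert_tree lc_f_rc_25_0 lc_f_Cert_tree lc_f_rc_25_0 lc_f_rc_25_0 lc_f_Cert_tree lc_f_Cert_tree lc_f_rc_25_0 lc_f_Cert_tree lc_f_rc_20_1 lc_f_rc_30_11 lc_f_rc_25_0 lc_f_rc_29_2 lc_f_rc_16_1 lc_f_rc_5_1 lc_f_Cert_tree lc_f_rc_16_1 lc_f_rc_16_1 lc_f_rc_29_4) (@D3.rec (fun _ => (Cert rels S Gen.f)) lc_f_Cert_tree lc_f_rc_23_3 lc_f_rc_16_1 lc_f_Cert_tree lc_f_Cert_tree lc_f_rc_25_0 lc_f_Cert_tree lc_f_rc_20_1 lc_f_rc_26_4 lc_f_Cert_tree lc_f_rc_5_3 lc_f_rc_25_0 lc_f_rc_29_2 lc_f_Cert_tree lc_f_Cert_tree lc_f_rc_25_0 lc_f_rc_11_1 lc_f_Cert_tree lc_f_rc_25_0 lc_f_rc_25_0 lc_f_rc_20_1 lc_f_rc_5_3 lc_f_rc_25_0 lc_f_rc_16_1 lc_f_rc_16_1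 lc_f_Cert_tree lc_f_rc_16_1 lc_f_rc_16_1 lc_f_rc_5_3 lc_f_Cert_tree lc_f_Cert_tree lc_f_rc_25_0 lc_f_Cert_tree lc_f_Cert_tree lc_f_rc_25_0 lc_f_Cert_tree lc_f_rc_20_1 lc_f_Cert_tree lc_f_Cert_tree lc_f_rc_25_0) (@D3.rec (fun _ => (Cert rels S Gen.f)) lc_f_Cert_tree lc_f_Cert_tree lc_f_rc_25_0 lc_f_rc_29_2 lc_f_rc_11_3 lc_f_rc_20_1 lc_f_Cert_tree lc_f_rc_11_3 lc_f_rc_5_1 lc_f_rc_16_1 lc_f_Cert_tree lc_f_rc_20_1 lc_f_Cert_tree lc_f_rc_25_0 lc_f_rc_11_3 lc_f_Cert_tree lc_f_rc_5_1 lc_f_rc_16_1 lc_f_rc_5_1 lc_f_Cert_tree lc_f_rc_5_1 lc_f_rc_20_1 lc_f_Cert_tree lc_f_rc_25_0 lc_f_rc_26_6 lc_f_Cert_tree lc_f_rc_16_3 lc_f_rc_20_1 lc_f_Cert_tree lc_f_rc_5_3 lc_f_Cert_tree lc_f_rc_25_0 lc_f_rc_5_1 lc_f_rc_5_1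 lc_f_rc_26_6 lc_f_rc_11_3 lc_f_rc_16_3 lc_f_rc_26_6 lc_f_rc_11_3 lc_f_rc_5_3) (@D3.rec (fun _ => (Cert rels S Gen.f)) lc_f_Cert_tree lc_f_rc_25_0 lc_f_rc_29_4 lc_f_rc_5_3 lc_f_Cert_tree lc_f_Cert_tree lc_f_rc_25_0 lc_f_rc_11_3 lc_f_rc_25_0 lc_f_rc_29_2 lc_f_rc_25_0 lc_f_rc_25_0 lc_f_rc_25_0 lc_f_rc_26_2 lc_f_rc_25_0 lc_f_Cert_tree lc_f_rc_26_6 lc_f_rc_25_0 lc_f_Cert_tree lc_f_rc_11_3 lc_f_Cert_tree lc_f_rc_11_1 lc_f_Cert_tree lc_f_rc_25_0 lc_f_Cert_tree lc_f_rc_25_0 lc_f_rc_26_2 lc_f_rc_11_3 lc_f_Cert_tree lc_f_rc_25_0 lc_f_rc_31_13 lc_f_rc_11_3 lc_f_rc_26_6 lc_f_Cert_tree lc_f_rc_25_0 lc_f_rc_5_1 lc_f_rc_29_2 lc_f_Cert_tree lc_f_rc_5_3 lc_f_rc_25_0) (@D3.rec (fun _ => (Cert rels S Gen.f)) lc_f_rc_11_3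 lc_f_rc_29_2 lc_f_rc_16_1 lc_f_Cert_tree lc_f_Cert_tree lc_f_Cert_tree lc_f_rc_25_0 lc_f_rc_29_2 lc_f_rc_25_0 lc_f_rc_25_0 lc_f_rc_29_4 lc_f_rc_25_0 lc_f_rc_29_2 lc_f_rc_25_0 lc_f_rc_25_0 lc_f_rc_11_5 lc_f_Cert_tree lc_f_Cert_tree lc_f_rc_25_0 lc_f_rc_16_1 lc_f_Cert_tree lc_f_Cert_tree lc_f_Cert_tree lc_f_rc_25_0 lc_f_Cert_tree lc_f_rc_11_3 lc_f_rc_29_2 lc_f_rc_16_1 lc_f_Cert_tree lc_f_rc_16_1 lc_f_Cert_tree lc_f_Cert_tree lc_f_rc_11_3 lc_f_Cert_tree lc_f_rc_25_0 lc_f_rc_11_3 lc_f_Cert_tree lc_f_rc_11_3 lc_f_Cert_tree lc_f_rc_29_2) (@D3.rec (fun _ => (Cert rels S Gen.f)) lc_f_rc_16_1 lc_f_Cert_tree lc_f_Cert_tree lc_f_Cert_tree lc_f_rc_25_0 lc_f_rc_20_1 lc_f_rc_20_1 lc_f_rc_11_3 lc_f_Cert_tree lc_f_rc_5_1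 lc_f_rc_16_1 lc_f_rc_29_2 lc_f_rc_5_3 lc_f_Cert_tree lc_f_rc_25_0 lc_f_rc_5_1 lc_f_rc_29_2 lc_f_rc_29_2 lc_f_rc_20_1 lc_f_Cert_tree lc_f_rc_25_0 lc_f_Cert_tree lc_f_Cert_tree lc_f_rc_25_0 lc_f_Cert_tree lc_f_rc_25_0 lc_f_rc_29_4 lc_f_rc_23_1 lc_f_rc_23_1 lc_f_rc_25_0 lc_f_Cert_tree lc_f_rc_11_3 lc_f_rc_29_4 lc_f_Cert_tree lc_f_rc_25_0 lc_f_rc_5_1 lc_f_rc_16_1 lc_f_rc_29_2 lc_f_Cert_tree lc_f_rc_5_3) (@D3.rec (fun _ => (Cert rels S Gen.f)) lc_f_Cert_tree lc_f_rc_25_0 lc_f_rc_11_3 lc_f_rc_29_2 lc_f_rc_16_1 lc_f_Cert_tree lc_f_Cert_tree lc_f_Cert_tree lc_f_Cert_tree lc_f_rc_25_0 lc_f_rc_11_3 lc_f_rc_5_1 lc_f_rc_29_2 lc_f_rc_29_2 lc_f_rc_20_1 lc_f_Cert_tree lc_f_Cert_tree lc_f_rc_25_0 lc_f_Cert_tree lc_f_Cert_tree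 lc_f_rc_25_0 lc_f_Cert_tree lc_f_Cert_tree lc_f_rc_25_0 lc_f_Cert_tree lc_f_rc_25_0 lc_f_rc_11_3 lc_f_rc_29_4 lc_f_rc_29_2 lc_f_rc_16_1 lc_f_Cert_tree lc_f_rc_23_1 lc_f_rc_20_1 lc_f_Cert_tree lc_f_rc_5_1 lc_f_Cert_tree lc_f_rc_25_0 lc_f_rc_11_3 lc_f_rc_20_1 lc_f_rc_26_6) (@D3.rec (fun _ => (Cert rels S Gen.f)) lc_f_rc_25_0 lc_f_rc_5_3 lc_f_Cert_tree lc_f_rc_25_0 lc_f_rc_29_2 lc_f_Cert_tree lc_f_rc_25_0 lc_f_rc_16_1 lc_f_rc_11_3 lc_f_rc_11_3 lc_f_rc_26_2 lc_f_rc_25_0 lc_f_rc_11_3 lc_f_Cert_tree lc_f_rc_5_1 lc_f_rc_16_1 lc_f_rc_29_2 lc_f_rc_16_1 lc_f_rc_5_3 lc_f_Cert_tree lc_f_rc_25_0 lc_f_rc_11_3 lc_f_rc_11_3 lc_f_rc_5_1 lc_f_rc_29_2 lc_f_Cert_tree lc_f_Cert_tree lc_f_Cert_tree lc_f_rc_25_0 lc_f_Cert_tree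 lc_f_rc_5_3 lc_f_rc_25_0 lc_f_rc_11_3 lc_f_rc_29_2 lc_f_rc_16_1 lc_f_Cert_tree lc_f_rc_5_1 lc_f_rc_16_1 lc_f_rc_26_6 lc_f_Cert_tree) (@D3.rec (fun _ => (Cert rels S Gen.f)) lc_f_Cert_tree lc_f_rc_26_2 lc_f_rc_25_0 lc_f_rc_11_3 lc_f_rc_29_2 lc_f_rc_26_6 lc_f_rc_31_10 lc_f_rc_25_0 lc_f_rc_26_0 lc_f_Cert_tree lc_f_rc_25_0 lc_f_rc_25_0 lc_f_rc_25_0 lc_f_rc_11_3 lc_f_rc_29_4 lc_f_rc_5_1 lc_f_rc_16_1 lc_f_Cert_tree lc_f_rc_16_3 lc_f_rc_11_1 lc_f_rc_11_1 lc_f_rc_29_2 lc_f_Cert_tree lc_f_rc_29_2 lc_f_rc_29_2 lc_f_Cert_tree lc_f_rc_25_0 lc_f_rc_5_3 lc_f_Cert_tree lc_f_rc_25_0 lc_f_rc_11_3 lc_f_Cert_tree lc_f_Cert_tree lc_f_rc_25_0 lc_f_Cert_tree lc_f_rc_25_0 lc_f_rc_29_4 lc_f_rc_25_0 lc_f_Cert_tree lc_f_Cert_tree)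 (@D3.rec (fun _ => (Cert rels S Gen.f)) lc_f_rc_25_0 lc_f_rc_11_3 lc_f_Cert_tree lc_f_rc_25_0 lc_f_rc_11_3 lc_f_rc_29_4 lc_f_rc_5_1 lc_f_rc_16_1 lc_f_rc_29_2 lc_f_Cert_tree lc_f_Cert_tree lc_f_rc_29_2 lc_f_rc_29_2 lc_f_rc_20_1 lc_f_Cert_tree lc_f_rc_25_0 lc_f_rc_30_11 lc_f_rc_29_2 lc_f_rc_5_1 lc_f_rc_11_3 lc_f_rc_5_1 lc_f_rc_29_2 lc_f_rc_23_1 lc_f_rc_11_3 lc_f_Cert_tree lc_f_rc_25_0 lc_f_rc_5_1 lc_f_rc_5_3 lc_f_rc_25_0 lc_f_rc_5_3 lc_f_Cert_tree lc_f_Cert_tree lc_f_rc_25_0 lc_f_rc_25_0 lc_f_rc_11_3 lc_f_rc_29_2 lc_f_Cert_tree lc_f_rc_23_1 lc_f_rc_16_1 lc_f_rc_5_1)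
def ce_f_5 : D2 → D3 → (Cert rels S Gen.f) := @D2.rec (fun _ => D3 → (Cert rels S Gen.f)) (@D3.rec (fun _ => (Cert rels S Gen.f)) lc_f_rc_29_4 lc_f_rc_23_1 lc_f_rc_29_4 lc_f_Cert_tree lc_f_Cert_tree lc_f_rc_5_1 lc_f_rc_31_4 lc_f_rc_11_3 lc_f_rc_25_0 lc_f_Cert_tree lc_f_rc_25_0 lc_f_rc_11_3 lc_f_rc_11_3 lc_f_rc_26_2 lc_f_Cert_tree lc_f_rc_25_0 lc_f_rc_29_2 lc_f_rc_25_0 lc_f_Cert_tree lc_f_rc_11_3 lc_f_rc_25_0 lc_f_Cert_tree lc_f_rc_25_0 lc_f_rc_11_3 lc_f_Cert_tree lc_f_rc_29_2 lc_f_rc_16_1 lc_f_Cert_tree lc_f_Cert_tree lc_f_Cert_tree lc_f_rc_25_0 lc_f_rc_11_3 lc_f_Cert_tree lc_f_rc_5_1 lc_f_rc_16_1 lc_f_rc_29_2 lc_f_Cert_tree lc_f_rc_5_3 lc_f_rc_29_4 lc_f_rc_25_0) (@D3.rec (fun _ => (Cert rels S Gen.f))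 lc_f_rc_11_3 lc_f_Cert_tree lc_f_rc_5_1 lc_f_rc_20_1 lc_f_rc_29_2 lc_f_Cert_tree lc_f_Cert_tree lc_f_Cert_tree lc_f_rc_25_0 lc_f_Cert_tree lc_f_rc_5_3 lc_f_Cert_tree lc_f_rc_25_0 lc_f_rc_11_3 lc_f_rc_29_2 lc_f_rc_16_1 lc_f_Cert_tree lc_f_rc_23_1 lc_f_rc_29_2 lc_f_rc_29_4 lc_f_Cert_tree lc_f_rc_25_0 lc_f_Cert_tree lc_f_Cert_tree lc_f_rc_25_0 lc_f_Cert_tree lc_f_rc_25_0 lc_f_rc_25_0 lc_f_rc_11_3 lc_f_rc_29_4 lc_f_rc_29_2 lc_f_rc_16_1 lc_f_Cert_tree lc_f_Cert_tree lc_f_Cert_tree lc_f_rc_25_0 lc_f_Cert_tree lc_f_Cert_tree lc_f_rc_29_2 lc_f_rc_29_2) (@D3.rec (fun _ => (Cert rels S Gen.f)) lc_f_Cert_tree lc_f_rc_23_1 lc_f_Cert_tree lc_f_Cert_tree lc_f_rc_25_0 lc_f_rc_5_3 lc_f_Cert_tree lc_f_rc_25_0 lc_f_rc_11_3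 lc_f_Cert_tree lc_f_Cert_tree lc_f_rc_25_0 lc_f_Cert_tree lc_f_rc_25_0 lc_f_rc_29_4 lc_f_Cert_tree lc_f_Cert_tree lc_f_rc_25_0 lc_f_Cert_tree lc_f_Cert_tree lc_f_Cert_tree lc_f_rc_25_0 lc_f_rc_11_3 lc_f_Cert_tree lc_f_rc_25_0 lc_f_rc_11_3 lc_f_rc_29_4 lc_f_rc_5_1 lc_f_rc_16_1 lc_f_rc_29_2 lc_f_Cert_tree lc_f_Cert_tree lc_f_rc_5_1 lc_f_rc_29_2 lc_f_rc_20_1 lc_f_rc_31_13 lc_f_rc_25_0 lc_f_Cert_tree lc_f_rc_29_4 lc_f_Cert_tree) (@D3.rec (fun _ => (Cert rels S Gen.f)) lc_f_Cert_tree lc_f_rc_25_0 lc_f_Cert_tree lc_f_rc_5_1 lc_f_Cert_tree lc_f_Cert_tree lc_f_rc_25_0 lc_f_Cert_tree lc_f_Cert_tree lc_f_rc_25_0 lc_f_rc_11_3 lc_f_rc_16_1 lc_f_rc_20_1 lc_f_Cert_tree lc_f_rc_20_1 lc_f_rc_16_1 lc_f_rc_23_1 lc_f_Cert_tree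 lc_f_rc_20_1 lc_f_Cert_tree lc_f_Cert_tree lc_f_rc_25_0 lc_f_Cert_tree lc_f_rc_5_3 lc_f_rc_25_0 lc_f_rc_11_3 lc_f_rc_20_1 lc_f_rc_29_2 lc_f_rc_11_3 lc_f_Cert_tree lc_f_Cert_tree lc_f_rc_5_1 lc_f_rc_20_1 lc_f_Cert_tree lc_f_rc_5_1 lc_f_rc_16_1 lc_f_rc_23_1 lc_f_rc_29_2 lc_f_rc_23_1 lc_f_Cert_tree) (@D3.rec (fun _ => (Cert rels S Gen.f)) lc_f_rc_5_1 lc_f_rc_11_3 lc_f_rc_20_1 lc_f_rc_16_1 lc_f_rc_16_1 lc_f_Cert_tree lc_f_rc_16_1 lc_f_Cert_tree lc_f_Cert_tree lc_f_rc_25_0 lc_f_rc_20_3 lc_f_rc_11_3 lc_f_rc_5_1 lc_f_rc_16_1 lc_f_rc_16_1 lc_f_Cert_tree lc_f_rc_20_1 lc_f_rc_5_3 lc_f_Cert_tree lc_f_rc_5_1 lc_f_rc_16_1 lc_f_rc_29_2 lc_f_Cert_tree lc_f_rc_5_3 lc_f_Cert_tree lc_f_rc_25_0 lc_f_rc_11_3 lc_f_Cert_tree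 lc_f_rc_16_1 lc_f_rc_29_2 lc_f_rc_26_6 lc_f_rc_25_0 lc_f_Cert_tree lc_f_Cert_tree lc_f_rc_25_0 lc_f_rc_25_0 lc_f_rc_29_4 lc_f_rc_30_11 lc_f_rc_25_0 lc_f_rc_25_0) (@D3.rec (fun _ => (Cert rels S Gen.f)) lc_f_rc_26_6 lc_f_rc_23_1 lc_f_rc_29_4 lc_f_Cert_tree lc_f_rc_5_3 lc_f_rc_30_19 lc_f_rc_25_0 lc_f_rc_11_5 lc_f_Cert_tree lc_f_rc_25_0 lc_f_rc_11_5 lc_f_rc_25_0 lc_f_rc_29_4 lc_f_Cert_tree lc_f_Cert_tree lc_f_rc_25_0 lc_f_Cert_tree lc_f_Cert_tree lc_f_rc_25_0 lc_f_rc_11_3 lc_f_rc_5_1 lc_f_rc_16_1 lc_f_rc_29_2 lc_f_Cert_tree lc_f_rc_29_2 lc_f_rc_29_2 lc_f_rc_5_1 lc_f_rc_11_1 lc_f_rc_25_0 lc_f_Cert_tree lc_f_rc_25_0 lc_f_rc_29_2 lc_f_Cert_tree lc_f_rc_20_3 lc_f_rc_25_0 lc_f_Cert_tree lc_f_rc_25_0 lc_f_Cert_tree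 lc_f_rc_25_0 lc_f_rc_5_3) (@D3.rec (fun _ => (Cert rels S Gen.f)) lc_f_rc_25_0 lc_f_Cert_tree lc_f_rc_11_1 lc_f_rc_29_2 lc_f_Cert_tree lc_f_Cert_tree lc_f_Cert_tree lc_f_rc_25_0 lc_f_Cert_tree lc_f_rc_26_6 lc_f_rc_25_0 lc_f_rc_5_3 lc_f_Cert_tree lc_f_rc_25_0 lc_f_rc_11_3 lc_f_Cert_tree lc_f_rc_29_4 lc_f_rc_29_4 lc_f_rc_25_0 lc_f_rc_11_3 lc_f_rc_29_2 lc_f_rc_16_1 lc_f_Cert_tree lc_f_Cert_tree lc_f_rc_11_1 lc_f_rc_25_0 lc_f_Cert_tree lc_f_rc_11_1 lc_f_rc_11_5 lc_f_rc_25_0 lc_f_rc_29_2 lc_f_rc_5_3 lc_f_Cert_tree lc_f_Cert_tree lc_f_rc_25_0 lc_f_rc_29_2 lc_f_Cert_tree lc_f_Cert_tree lc_f_rc_25_0 lc_f_Cert_tree) (@D3.rec (fun _ => (Cert rels S Gen.f)) lc_f_rc_11_3 lc_f_rc_25_0 lc_f_rc_25_0 lc_f_Cert_tree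 lc_f_rc_25_0 lc_f_Cert_tree lc_f_Cert_tree lc_f_rc_25_0 lc_f_rc_11_3 lc_f_rc_5_1 lc_f_rc_16_1 lc_f_rc_11_1 lc_f_rc_25_0 lc_f_rc_11_3 lc_f_rc_16_1 lc_f_rc_5_1 lc_f_rc_11_3 lc_f_rc_29_2 lc_f_Cert_tree lc_f_Cert_tree lc_f_Cert_tree lc_f_Cert_tree lc_f_Cert_tree lc_f_rc_25_0 lc_f_Cert_tree lc_f_Cert_tree lc_f_rc_25_0 lc_f_rc_31_13 lc_f_Cert_tree lc_f_rc_11_5 lc_f_rc_11_3 lc_f_rc_5_1 lc_f_rc_11_3 lc_f_Cert_tree lc_f_Cert_tree lc_f_rc_25_0 lc_f_Cert_tree lc_f_rc_23_1 lc_f_rc_11_1 lc_f_rc_25_0) (@D3.rec (fun _ => (Cert rels S Gen.f)) lc_f_rc_29_2 lc_f_rc_11_1 lc_f_rc_26_6 lc_f_rc_25_0 lc_f_rc_25_0 lc_f_rc_16_3 lc_f_rc_25_0 lc_f_Cert_tree lc_f_rc_11_1 lc_f_rc_16_3 lc_f_rc_11_3 lc_f_Cert_tree lc_f_rc_25_0 lc_f_rc_16_1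 lc_f_rc_16_3 lc_f_rc_25_0 lc_f_rc_11_3 lc_f_rc_5_1 lc_f_Cert_tree lc_f_rc_25_0 lc_f_rc_20_3 lc_f_rc_25_0 lc_f_rc_11_3 lc_f_rc_29_4 lc_f_rc_29_2 lc_f_Cert_tree lc_f_rc_11_3 lc_f_rc_20_1 lc_f_rc_29_2 lc_f_rc_23_1 lc_f_Cert_tree lc_f_rc_5_3 lc_f_rc_25_0 lc_f_Cert_tree lc_f_rc_23_1 lc_f_rc_5_3 lc_f_rc_23_1 lc_f_Cert_tree lc_f_Cert_tree lc_f_rc_25_0) (@D3.rec (fun _ => (Cert rels S Gen.f)) lc_f_Cert_tree lc_f_rc_23_1 lc_f_rc_29_2 lc_f_rc_25_0 lc_f_rc_29_2 lc_f_Cert_tree lc_f_rc_25_0 lc_f_rc_25_0 lc_f_rc_25_0 lc_f_Cert_tree lc_f_rc_25_0 lc_f_Cert_tree lc_f_Cert_tree lc_f_rc_25_0 lc_f_rc_11_3 lc_f_rc_11_3 lc_f_rc_29_4 lc_f_rc_5_1 lc_f_rc_16_1 lc_f_Cert_tree lc_f_rc_11_3 lc_f_rc_29_2 lc_f_rc_29_2 lc_f_rc_29_2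 lc_f_rc_30_11 lc_f_Cert_tree lc_f_Cert_tree lc_f_rc_25_0 lc_f_Cert_tree lc_f_rc_25_0 lc_f_Cert_tree lc_f_rc_5_1 lc_f_rc_16_1 lc_f_rc_23_1 lc_f_Cert_tree lc_f_rc_16_1 lc_f_rc_25_0 lc_f_Cert_tree lc_f_rc_5_1 lc_f_Cert_tree) (@D3.rec (fun _ => (Cert rels S Gen.f)) lc_f_rc_16_1 lc_f_rc_11_3 lc_f_rc_30_7 lc_f_Cert_tree lc_f_rc_11_1 lc_f_rc_20_1 lc_f_rc_11_3 lc_f_rc_25_1 lc_f_rc_25_0 lc_f_rc_29_2 lc_f_rc_11_1 lc_f_Cert_tree lc_f_rc_29_2 lc_f_rc_25_0 lc_f_rc_29_4 lc_f_rc_25_0 lc_f_rc_11_1 lc_f_rc_23_1 lc_f_rc_11_1 lc_f_rc_26_6 lc_f_rc_23_3 lc_f_rc_25_0 lc_f_rc_5_3 lc_f_rc_16_3 lc_f_rc_25_0 lc_f_rc_11_3 lc_f_rc_11_3 lc_f_rc_29_2 lc_f_rc_29_4 lc_f_Cert_tree lc_f_rc_29_2 lc_f_Cert_tree lc_f_Cert_tree lc_f_rc_16_1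 lc_f_Cert_tree lc_f_rc_25_0 lc_f_Cert_tree lc_f_rc_23_1 lc_f_Cert_tree lc_f_Cert_tree) (@D3.rec (fun _ => (Cert rels S Gen.f)) lc_f_rc_25_0 lc_f_rc_5_3 lc_f_rc_16_3 lc_f_Cert_tree lc_f_rc_29_4 lc_f_rc_25_0 lc_f_rc_31_1 lc_f_Cert_tree lc_f_rc_25_0 lc_f_rc_25_0 lc_f_Cert_tree lc_f_rc_25_0 lc_f_rc_29_2 lc_f_rc_25_0 lc_f_rc_11_1 lc_f_rc_5_1 lc_f_rc_29_2 lc_f_rc_31_10 lc_f_rc_29_2 lc_f_rc_16_1 lc_f_rc_5_1 lc_f_rc_20_1 lc_f_Cert_tree lc_f_rc_20_1 lc_f_rc_11_3 lc_f_Cert_tree lc_f_Cert_tree lc_f_Cert_tree lc_f_rc_25_0 lc_f_rc_5_3 lc_f_rc_23_1 lc_f_rc_29_2 lc_f_rc_20_1 lc_f_Cert_tree lc_f_rc_25_0 lc_f_rc_29_2 lc_f_Cert_tree lc_f_rc_29_2 lc_f_rc_29_2 lc_f_rc_11_1) (@D3.rec (fun _ => (Cert rels S Gen.f)) lc_f_Cert_tree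 lc_f_rc_5_3 lc_f_rc_23_1 lc_f_rc_25_0 lc_f_Cert_tree lc_f_rc_29_2 lc_f_rc_26_6 lc_f_rc_25_0 lc_f_rc_26_4 lc_f_rc_29_2 lc_f_rc_25_0 lc_f_Cert_tree lc_f_rc_25_0 lc_f_rc_29_4 lc_f_rc_16_1 lc_f_Cert_tree lc_f_rc_16_1 lc_f_rc_5_1 lc_f_Cert_tree lc_f_rc_25_0 lc_f_rc_11_3 lc_f_Cert_tree lc_f_Cert_tree lc_f_rc_25_0 lc_f_rc_29_2 lc_f_rc_11_3 lc_f_rc_25_0 lc_f_Cert_tree lc_f_rc_25_0 lc_f_rc_25_0 lc_f_Cert_tree lc_f_Cert_tree lc_f_rc_25_0 lc_f_rc_25_0 lc_f_rc_16_1 lc_f_rc_11_3 lc_f_rc_25_0 lc_f_rc_25_0 lc_f_rc_5_1 lc_f_rc_11_3) (@D3.rec (fun _ => (Cert rels S Gen.f)) lc_f_rc_23_3 lc_f_rc_30_15 lc_f_rc_29_4 lc_f_rc_11_3 lc_f_rc_5_1 lc_f_rc_26_2 lc_f_rc_11_3 lc_f_rc_29_4 lc_f_rc_25_0 lc_f_rc_20_1 lc_f_Cert_tree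 lc_f_rc_23_1 lc_f_rc_20_1 lc_f_Cert_tree lc_f_Cert_tree lc_f_Cert_tree lc_f_rc_25_0 lc_f_rc_29_2 lc_f_Cert_tree lc_f_rc_25_0 lc_f_Cert_tree lc_f_rc_25_0 lc_f_rc_25_0 lc_f_rc_25_0 lc_f_rc_29_2 lc_f_rc_25_0 lc_f_rc_25_0 lc_f_rc_25_0 lc_f_rc_26_2 lc_f_rc_11_3 lc_f_rc_29_4 lc_f_Cert_tree lc_f_rc_25_0 lc_f_Cert_tree lc_f_rc_26_6 lc_f_rc_25_0 lc_f_Cert_tree lc_f_rc_11_3 lc_f_rc_25_0 lc_f_rc_26_2) (@D3.rec (fun _ => (Cert rels S Gen.f)) lc_f_rc_11_3 lc_f_Cert_tree lc_f_rc_11_3 lc_f_rc_26_6 lc_f_Cert_tree lc_f_rc_25_0 lc_f_rc_5_1 lc_f_rc_29_2 lc_f_Cert_tree lc_f_rc_5_3 lc_f_rc_25_0 lc_f_rc_11_3 lc_f_rc_16_1 lc_f_Cert_tree lc_f_rc_29_2 lc_f_rc_5_3 lc_f_Cert_tree lc_f_Cert_tree lc_f_Cert_tree lc_f_rc_25_0 lc_f_Cert_tree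 lc_f_rc_29_2 lc_f_rc_25_0 lc_f_Cert_tree lc_f_rc_25_0 lc_f_rc_29_4 lc_f_rc_25_0 lc_f_rc_26_2 lc_f_rc_11_3 lc_f_rc_11_3 lc_f_rc_11_1 lc_f_Cert_tree lc_f_rc_25_0 lc_f_rc_5_3 lc_f_rc_16_1 lc_f_rc_26_2 lc_f_Cert_tree lc_f_rc_25_0 lc_f_Cert_tree lc_f_Cert_tree) (@D3.rec (fun _ => (Cert rels S Gen.f)) lc_f_rc_25_0 lc_f_Cert_tree lc_f_rc_25_0 lc_f_Cert_tree lc_f_rc_5_1 lc_f_rc_25_0 lc_f_rc_11_3 lc_f_rc_26_6 lc_f_Cert_tree lc_f_rc_25_0 lc_f_rc_29_4 lc_f_Cert_tree lc_f_rc_25_0 lc_f_rc_11_3 lc_f_Cert_tree lc_f_Cert_tree lc_f_Cert_tree lc_f_rc_25_0 lc_f_rc_11_3 lc_f_rc_29_2 lc_f_rc_16_1 lc_f_Cert_tree lc_f_rc_20_3 lc_f_rc_16_1 lc_f_Cert_tree lc_f_Cert_tree lc_f_Cert_tree lc_f_rc_25_0 lc_f_rc_11_3 lc_f_rc_25_1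 lc_f_rc_29_2 lc_f_Cert_tree lc_f_rc_25_0 lc_f_rc_29_4 lc_f_Cert_tree lc_f_rc_25_0 lc_f_rc_25_0 lc_f_rc_16_3 lc_f_rc_25_0 lc_f_Cert_tree) (@D3.rec (fun _ => (Cert rels S Gen.f)) lc_f_Cert_tree lc_f_rc_11_3 lc_f_rc_25_0 lc_f_Cert_tree lc_f_rc_11_3 lc_f_Cert_tree lc_f_rc_5_1 lc_f_rc_11_3 lc_f_rc_29_2 lc_f_rc_5_3 lc_f_rc_11_5 lc_f_rc_25_0 lc_f_rc_11_3 lc_f_rc_5_1 lc_f_rc_20_1 lc_f_rc_29_2 lc_f_Cert_tree lc_f_Cert_tree lc_f_Cert_tree lc_f_rc_25_0 lc_f_Cert_tree lc_f_rc_5_3 lc_f_Cert_tree lc_f_rc_25_0 lc_f_rc_11_3 lc_f_rc_29_2 lc_f_rc_16_1 lc_f_Cert_tree lc_f_rc_26_2 lc_f_rc_29_2 lc_f_rc_25_0 lc_f_rc_11_3 lc_f_rc_11_1 lc_f_rc_29_2 lc_f_rc_11_5 lc_f_rc_26_2 lc_f_Cert_tree lc_f_rc_25_0 lc_f_Cert_tree lc_f_rc_26_0)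 (@D3.rec (fun _ => (Cert rels S Gen.f)) lc_f_rc_25_0 lc_f_Cert_tree lc_f_rc_25_0 lc_f_Cert_tree lc_f_rc_25_0 lc_f_rc_11_3 lc_f_rc_29_4 lc_f_rc_5_1 lc_f_rc_16_1 lc_f_rc_31_10 lc_f_Cert_tree lc_f_rc_29_2 lc_f_rc_25_0 lc_f_Cert_tree lc_f_rc_23_1 lc_f_rc_29_2 lc_f_rc_29_2 lc_f_Cert_tree lc_f_rc_16_1 lc_f_rc_23_1 lc_f_Cert_tree lc_f_rc_25_0 lc_f_rc_5_3 lc_f_Cert_tree lc_f_rc_25_0 lc_f_rc_11_3 lc_f_Cert_tree lc_f_Cert_tree lc_f_rc_25_0 lc_f_Cert_tree lc_f_rc_25_0 lc_f_rc_29_4 lc_f_rc_31_1 lc_f_Cert_tree lc_f_rc_25_0 lc_f_Cert_tree lc_f_rc_16_3 lc_f_Cert_tree lc_f_rc_25_0 lc_f_rc_11_3) (@D3.rec (fun _ => (Cert rels S Gen.f)) lc_f_Cert_tree lc_f_Cert_tree lc_f_rc_25_0 lc_f_rc_29_4 lc_f_rc_5_1 lc_f_rc_16_1 lc_f_rc_29_2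 lc_f_Cert_tree lc_f_Cert_tree lc_f_rc_29_2 lc_f_rc_29_2 lc_f_rc_20_1 lc_f_Cert_tree lc_f_rc_25_0 lc_f_Cert_tree lc_f_rc_5_1 lc_f_rc_16_1 lc_f_rc_23_1 lc_f_Cert_tree lc_f_rc_5_1 lc_f_rc_16_1 lc_f_rc_23_1 lc_f_rc_16_1 lc_f_Cert_tree lc_f_rc_16_1 lc_f_rc_16_1 lc_f_Cert_tree lc_f_rc_16_3 lc_f_rc_29_4 lc_f_rc_25_0 lc_f_rc_26_2 lc_f_rc_25_0 lc_f_rc_29_4 lc_f_Cert_tree lc_f_Cert_tree lc_f_Cert_tree lc_f_rc_25_0 lc_f_rc_25_0 lc_f_rc_11_3 lc_f_rc_29_2) (@D3.rec (fun _ => (Cert rels S Gen.f)) lc_f_rc_16_1 lc_f_Cert_tree lc_f_rc_23_3 lc_f_rc_20_1 lc_f_rc_5_1 lc_f_rc_23_1 lc_f_rc_29_2 lc_f_Cert_tree lc_f_rc_5_3 lc_f_Cert_tree lc_f_rc_25_0 lc_f_rc_11_5 lc_f_Cert_tree lc_f_rc_25_0 lc_f_Cert_tree lc_f_rc_25_0 lc_f_rc_29_4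 lc_f_rc_25_0 lc_f_Cert_tree lc_f_rc_5_3 lc_f_Cert_tree lc_f_rc_25_0 lc_f_rc_11_3 lc_f_rc_5_1 lc_f_rc_16_1 lc_f_rc_29_2 lc_f_Cert_tree lc_f_rc_29_2 lc_f_rc_29_2 lc_f_rc_20_1 lc_f_Cert_tree lc_f_rc_25_0 lc_f_rc_29_4 lc_f_rc_25_0 lc_f_rc_29_2 lc_f_rc_26_2 lc_f_rc_25_0 lc_f_rc_25_0 lc_f_rc_29_2 lc_f_rc_16_1) (@D3.rec (fun _ => (Cert rels S Gen.f)) lc_f_Cert_tree lc_f_Cert_tree lc_f_Cert_tree lc_f_rc_25_0 lc_f_rc_25_0 lc_f_rc_25_0 lc_f_rc_11_3 lc_f_rc_5_1 lc_f_rc_16_1 lc_f_rc_11_5 lc_f_rc_29_2 lc_f_Cert_tree lc_f_rc_16_1 lc_f_rc_26_6 lc_f_Cert_tree lc_f_rc_25_0 lc_f_rc_5_3 lc_f_Cert_tree lc_f_rc_25_0 lc_f_rc_11_3 lc_f_rc_26_2 lc_f_Cert_tree lc_f_rc_25_0 lc_f_Cert_tree lc_f_rc_25_0 lc_f_rc_29_4 lc_f_rc_25_0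 lc_f_rc_11_3 lc_f_Cert_tree lc_f_rc_25_0 lc_f_rc_5_1 lc_f_rc_16_1 lc_f_rc_5_1 lc_f_rc_16_1 lc_f_rc_29_2 lc_f_rc_30_7 lc_f_rc_20_3 lc_f_rc_5_1 lc_f_rc_29_2 lc_f_rc_20_1) (@D3.rec (fun _ => (Cert rels S Gen.f)) lc_f_rc_16_3 lc_f_rc_25_0 lc_f_rc_25_0 lc_f_rc_29_2 lc_f_rc_26_6 lc_f_Cert_tree lc_f_rc_25_0 lc_f_rc_11_3 lc_f_rc_29_2 lc_f_rc_29_2 lc_f_Cert_tree lc_f_Cert_tree lc_f_Cert_tree lc_f_rc_25_0 lc_f_rc_11_3 lc_f_rc_5_1 lc_f_Cert_tree lc_f_rc_25_0 lc_f_rc_11_3 lc_f_Cert_tree lc_f_rc_5_3 lc_f_Cert_tree lc_f_rc_25_0 lc_f_rc_11_3 lc_f_rc_29_2 lc_f_rc_16_1 lc_f_Cert_tree lc_f_rc_11_1 lc_f_Cert_tree lc_f_rc_25_0 lc_f_rc_5_3 lc_f_Cert_tree lc_f_Cert_tree lc_f_rc_25_0 lc_f_rc_29_4 lc_f_rc_20_3 lc_f_Cert_tree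 lc_f_rc_25_0 lc_f_rc_29_4 lc_f_Cert_tree) (@D3.rec (fun _ => (Cert rels S Gen.f)) lc_f_rc_29_2 lc_f_rc_25_0 lc_f_rc_11_3 lc_f_rc_25_0 lc_f_rc_25_0 lc_f_rc_11_1 lc_f_Cert_tree lc_f_rc_25_0 lc_f_rc_25_1 lc_f_rc_30_7 lc_f_rc_5_1 lc_f_rc_11_1 lc_f_Cert_tree lc_f_rc_25_0 lc_f_rc_25_0 lc_f_rc_29_4 lc_f_Cert_tree lc_f_Cert_tree lc_f_rc_5_1 lc_f_rc_20_1 lc_f_rc_29_2 lc_f_rc_31_10 lc_f_Cert_tree lc_f_Cert_tree lc_f_rc_25_0 lc_f_rc_5_3 lc_f_Cert_tree lc_f_rc_25_0 lc_f_rc_11_1 lc_f_Cert_tree lc_f_rc_29_2 lc_f_rc_29_2 lc_f_rc_29_2 lc_f_rc_16_1 lc_f_rc_23_1 lc_f_Cert_tree lc_f_rc_25_0 lc_f_rc_11_3 lc_f_rc_11_3 lc_f_rc_20_1) (@D3.rec (fun _ => (Cert rels S Gen.f)) lc_f_Cert_tree lc_f_rc_29_2 lc_f_rc_25_0 lc_f_Cert_tree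 lc_f_rc_5_1 lc_f_Cert_tree lc_f_rc_16_1 lc_f_rc_26_2 lc_f_rc_20_1 lc_f_rc_30_11 lc_f_rc_20_3 lc_f_rc_25_0 lc_f_rc_29_4 lc_f_rc_5_1 lc_f_Cert_tree lc_f_rc_16_1 lc_f_rc_5_3 lc_f_rc_29_2 lc_f_rc_11_1 lc_f_Cert_tree lc_f_rc_25_0 lc_f_rc_20_1 lc_f_rc_25_0 lc_f_rc_23_1 lc_f_Cert_tree lc_f_Cert_tree lc_f_rc_25_0 lc_f_rc_29_2 lc_f_rc_16_1 lc_f_Cert_tree lc_f_rc_25_0 lc_f_Cert_tree lc_f_Cert_tree lc_f_rc_25_0 lc_f_Cert_tree lc_f_rc_25_0 lc_f_rc_20_1 lc_f_rc_26_4 lc_f_Cert_tree lc_f_rc_25_0) (@D3.rec (fun _ => (Cert rels S Gen.f)) lc_f_Cert_tree lc_f_rc_16_3 lc_f_rc_11_3 lc_f_Cert_tree lc_f_rc_11_3 lc_f_rc_5_1 lc_f_Cert_tree lc_f_rc_25_0 lc_f_rc_29_4 lc_f_rc_26_4 lc_f_rc_25_0 lc_f_rc_11_3 lc_f_Cert_tree lc_f_rc_25_0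 lc_f_Cert_tree lc_f_rc_11_3 lc_f_Cert_tree lc_f_rc_25_1 lc_f_rc_16_1 lc_f_Cert_tree lc_f_Cert_tree lc_f_Cert_tree lc_f_rc_25_0 lc_f_rc_16_1 lc_f_rc_29_2 lc_f_rc_20_1 lc_f_rc_25_0 lc_f_Cert_tree lc_f_rc_25_0 lc_f_rc_20_3 lc_f_rc_25_0 lc_f_rc_11_3 lc_f_rc_29_2 lc_f_rc_20_3 lc_f_rc_5_3 lc_f_rc_25_0 lc_f_rc_11_3 lc_f_Cert_tree lc_f_rc_5_1 lc_f_rc_20_1) (@D3.rec (fun _ => (Cert rels S Gen.f)) lc_f_rc_29_2 lc_f_Cert_tree lc_f_Cert_tree lc_f_Cert_tree lc_f_rc_25_0 lc_f_Cert_tree lc_f_rc_5_3 lc_f_Cert_tree lc_f_rc_25_0 lc_f_rc_11_3 lc_f_rc_29_2 lc_f_rc_16_1 lc_f_Cert_tree lc_f_rc_5_3 lc_f_Cert_tree lc_f_rc_25_0 lc_f_Cert_tree lc_f_Cert_tree lc_f_rc_5_1 lc_f_rc_16_1 lc_f_rc_23_1 lc_f_rc_29_2 lc_f_Cert_tree lc_f_rc_5_3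 lc_f_Cert_tree lc_f_rc_25_0 lc_f_rc_11_1 lc_f_Cert_tree lc_f_rc_25_0 lc_f_Cert_tree lc_f_rc_25_0 lc_f_rc_29_4 lc_f_rc_5_3 lc_f_Cert_tree lc_f_rc_25_0 lc_f_Cert_tree lc_f_Cert_tree lc_f_rc_5_3 lc_f_Cert_tree lc_f_Cert_tree)
def ce_f_6 : D2 → D3 → (Cert rels S Gen.f) := @D2.rec (fun _ => D3 → (Cert rels S Gen.f)) (@D3.rec (fun _ => (Cert rels S Gen.f)) lc_f_rc_25_0 lc_f_rc_11_3 lc_f_rc_5_1 lc_f_rc_16_1 lc_f_rc_29_2 lc_f_rc_26_4 lc_f_rc_29_2 lc_f_rc_29_2 lc_f_rc_20_1 lc_f_Cert_tree lc_f_rc_25_0 lc_f_rc_25_0 lc_f_Cert_tree lc_f_rc_16_1 lc_f_rc_29_2 lc_f_rc_29_2 lc_f_Cert_tree lc_f_rc_16_1 lc_f_rc_23_1 lc_f_Cert_tree lc_f_Cert_tree lc_f_rc_25_0 lc_f_rc_11_3 lc_f_rc_25_0 lc_f_Cert_tree lc_f_rc_16_3 lc_f_Cert_tree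 lc_f_rc_25_0 lc_f_rc_11_3 lc_f_Cert_tree lc_f_Cert_tree lc_f_rc_25_0 lc_f_rc_11_3 lc_f_rc_29_4 lc_f_Cert_tree lc_f_rc_25_0 lc_f_rc_29_2 lc_f_rc_25_0 lc_f_rc_26_6 lc_f_rc_25_0) (@D3.rec (fun _ => (Cert rels S Gen.f)) lc_f_Cert_tree lc_f_rc_25_0 lc_f_rc_26_2 lc_f_rc_16_1 lc_f_rc_29_2 lc_f_rc_29_2 lc_f_Cert_tree lc_f_rc_30_15 lc_f_rc_16_3 lc_f_rc_25_0 lc_f_rc_20_1 lc_f_rc_16_1 lc_f_Cert_tree lc_f_Cert_tree lc_f_Cert_tree lc_f_rc_25_0 lc_f_rc_5_3 lc_f_rc_25_0 lc_f_rc_11_3 lc_f_rc_26_4 lc_f_rc_16_1 lc_f_Cert_tree lc_f_rc_25_0 lc_f_rc_29_2 lc_f_rc_11_3 lc_f_rc_25_0 lc_f_rc_25_0 lc_f_Cert_tree lc_f_rc_25_0 lc_f_rc_26_2 lc_f_Cert_tree lc_f_Cert_tree lc_f_rc_25_0 lc_f_rc_11_3 lc_f_rc_5_1 lc_f_rc_11_1 lc_f_rc_11_1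 lc_f_Cert_tree lc_f_Cert_tree lc_f_rc_25_0) (@D3.rec (fun _ => (Cert rels S Gen.f)) lc_f_rc_25_0 lc_f_rc_11_3 lc_f_rc_29_4 lc_f_rc_5_1 lc_f_rc_29_2 lc_f_Cert_tree lc_f_rc_5_3 lc_f_Cert_tree lc_f_rc_25_0 lc_f_rc_16_3 lc_f_Cert_tree lc_f_rc_25_0 lc_f_rc_29_2 lc_f_Cert_tree lc_f_Cert_tree lc_f_rc_25_0 lc_f_Cert_tree lc_f_rc_25_0 lc_f_Cert_tree lc_f_rc_25_0 lc_f_Cert_tree lc_f_rc_25_0 lc_f_Cert_tree lc_f_Cert_tree lc_f_Cert_tree lc_f_rc_25_0 lc_f_Cert_tree lc_f_rc_25_0 lc_f_rc_29_4 lc_f_Cert_tree lc_f_Cert_tree lc_f_rc_25_0 lc_f_rc_29_2 lc_f_Cert_tree lc_f_Cert_tree lc_f_rc_25_0 lc_f_Cert_tree lc_f_rc_11_3 lc_f_rc_25_0 lc_f_rc_25_0) (@D3.rec (fun _ => (Cert rels S Gen.f)) lc_f_rc_29_2 lc_f_Cert_tree lc_f_rc_11_3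 lc_f_rc_29_2 lc_f_rc_16_1 lc_f_Cert_tree lc_f_Cert_tree lc_f_rc_29_2 lc_f_rc_25_0 lc_f_rc_11_5 lc_f_Cert_tree lc_f_rc_25_0 lc_f_rc_29_2 lc_f_Cert_tree lc_f_Cert_tree lc_f_rc_25_0 lc_f_Cert_tree lc_f_rc_25_0 lc_f_rc_25_0 lc_f_Cert_tree lc_f_Cert_tree lc_f_rc_25_0 lc_f_rc_29_2 lc_f_Cert_tree lc_f_Cert_tree lc_f_rc_25_0 lc_f_Cert_tree lc_f_rc_25_0 lc_f_rc_25_0 lc_f_rc_16_1 lc_f_rc_11_1 lc_f_Cert_tree lc_f_rc_25_0 lc_f_rc_30_15 lc_f_rc_29_2 lc_f_Cert_tree lc_f_rc_30_3 lc_f_rc_25_0 lc_f_rc_5_1 lc_f_rc_11_1) (@D3.rec (fun _ => (Cert rels S Gen.f)) lc_f_rc_5_1 lc_f_rc_11_3 lc_f_rc_29_4 lc_f_rc_5_3 lc_f_rc_25_0 lc_f_rc_5_3 lc_f_rc_25_1 lc_f_rc_11_5 lc_f_rc_25_0 lc_f_Cert_tree lc_f_rc_11_3 lc_f_rc_25_0 lc_f_rc_30_11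 lc_f_rc_5_3 lc_f_rc_25_0 lc_f_rc_26_6 lc_f_rc_5_1 lc_f_rc_16_1 lc_f_rc_29_2 lc_f_rc_29_2 lc_f_rc_11_3 lc_f_Cert_tree lc_f_Cert_tree lc_f_rc_25_0 lc_f_rc_11_3 lc_f_rc_5_3 lc_f_Cert_tree lc_f_rc_25_0 lc_f_rc_16_1 lc_f_Cert_tree lc_f_Cert_tree lc_f_rc_25_0 lc_f_Cert_tree lc_f_Cert_tree lc_f_rc_25_0 lc_f_rc_29_4 lc_f_rc_5_3 lc_f_Cert_tree lc_f_Cert_tree lc_f_rc_25_0) (@D3.rec (fun _ => (Cert rels S Gen.f)) lc_f_Cert_tree lc_f_rc_31_7 lc_f_rc_25_0 lc_f_Cert_tree lc_f_Cert_tree lc_f_rc_25_0 lc_f_Cert_tree lc_f_rc_5_3 lc_f_Cert_tree lc_f_rc_25_0 lc_f_rc_25_0 lc_f_rc_11_3 lc_f_rc_29_2 lc_f_rc_11_3 lc_f_Cert_tree lc_f_rc_26_2 lc_f_rc_5_1 lc_f_rc_20_1 lc_f_rc_29_2 lc_f_rc_26_4 lc_f_Cert_tree lc_f_rc_29_2 lc_f_rc_29_2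 lc_f_rc_23_1 lc_f_rc_16_1 lc_f_Cert_tree lc_f_rc_25_0 lc_f_rc_5_1 lc_f_rc_29_4 lc_f_rc_5_1 lc_f_rc_5_1 lc_f_rc_29_2 lc_f_Cert_tree lc_f_rc_29_2 lc_f_Cert_tree lc_f_Cert_tree lc_f_rc_11_1 lc_f_rc_25_0 lc_f_rc_5_1 lc_f_rc_5_3) (@D3.rec (fun _ => (Cert rels S Gen.f)) lc_f_rc_25_0 lc_f_rc_20_3 lc_f_rc_25_0 lc_f_rc_5_1 lc_f_rc_20_1 lc_f_rc_29_4 lc_f_rc_11_3 lc_f_Cert_tree lc_f_rc_25_0 lc_f_rc_16_1 lc_f_rc_25_0 lc_f_rc_20_1 lc_f_rc_16_1 lc_f_Cert_tree lc_f_rc_11_3 lc_f_rc_29_2 lc_f_rc_16_1 lc_f_Cert_tree lc_f_rc_29_4 lc_f_rc_20_1 lc_f_rc_26_6 lc_f_rc_25_0 lc_f_rc_11_3 lc_f_rc_16_1 lc_f_rc_5_3 lc_f_rc_25_0 lc_f_rc_11_3 lc_f_rc_25_0 lc_f_rc_11_3 lc_f_rc_30_11 lc_f_rc_23_3 lc_f_rc_5_3 lc_f_rc_11_3 lc_f_rc_5_1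 lc_f_rc_11_1 lc_f_rc_16_1 lc_f_rc_5_3 lc_f_rc_20_1 lc_f_rc_25_0 lc_f_Cert_tree) (@D3.rec (fun _ => (Cert rels S Gen.f)) lc_f_rc_25_0 lc_f_rc_29_4 lc_f_rc_11_3 lc_f_rc_29_4 lc_f_rc_5_1 lc_f_Cert_tree lc_f_rc_31_1 lc_f_Cert_tree lc_f_Cert_tree lc_f_Cert_tree lc_f_rc_25_0 lc_f_rc_5_3 lc_f_rc_11_5 lc_f_rc_25_0 lc_f_rc_29_4 lc_f_rc_26_2 lc_f_rc_29_2 lc_f_Cert_tree lc_f_rc_25_0 lc_f_rc_26_2 lc_f_rc_29_2 lc_f_rc_20_3 lc_f_rc_11_1 lc_f_Cert_tree lc_f_rc_25_0 lc_f_Cert_tree lc_f_rc_26_6 lc_f_Cert_tree lc_f_rc_25_0 lc_f_rc_25_1 lc_f_rc_5_3 lc_f_rc_25_0 lc_f_rc_11_3 lc_f_rc_11_3 lc_f_rc_20_3 lc_f_Cert_tree lc_f_rc_25_0 lc_f_rc_29_4 lc_f_rc_20_1 lc_f_Cert_tree) (@D3.rec (fun _ => (Cert rels S Gen.f)) lc_f_rc_20_1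 lc_f_Cert_tree lc_f_Cert_tree lc_f_rc_31_10 lc_f_rc_25_0 lc_f_rc_5_3 lc_f_rc_29_4 lc_f_rc_25_0 lc_f_rc_11_3 lc_f_rc_30_3 lc_f_rc_29_4 lc_f_rc_25_0 lc_f_Cert_tree lc_f_Cert_tree lc_f_rc_25_0 lc_f_Cert_tree lc_f_Cert_tree lc_f_rc_25_0 lc_f_rc_26_2 lc_f_rc_11_3 lc_f_Cert_tree lc_f_Cert_tree lc_f_rc_25_0 lc_f_rc_25_0 lc_f_Cert_tree lc_f_rc_11_3 lc_f_rc_26_6 lc_f_rc_25_0 lc_f_rc_5_1 lc_f_rc_29_2 lc_f_Cert_tree lc_f_rc_11_3 lc_f_rc_11_3 lc_f_rc_5_1 lc_f_Cert_tree lc_f_rc_29_2 lc_f_rc_25_0 lc_f_Cert_tree lc_f_rc_11_3 lc_f_rc_25_0) (@D3.rec (fun _ => (Cert rels S Gen.f)) lc_f_rc_11_3 lc_f_rc_29_2 lc_f_rc_16_1 lc_f_Cert_tree lc_f_rc_5_1 lc_f_rc_16_1 lc_f_rc_29_2 lc_f_Cert_tree lc_f_rc_25_0 lc_f_Cert_tree lc_f_rc_11_3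 lc_f_rc_5_1 lc_f_rc_16_1 lc_f_rc_23_1 lc_f_Cert_tree lc_f_Cert_tree lc_f_rc_25_0 lc_f_rc_11_1 lc_f_rc_11_1 lc_f_rc_25_0 lc_f_rc_11_3 lc_f_rc_5_3 lc_f_rc_29_2 lc_f_rc_5_3 lc_f_rc_29_2 lc_f_Cert_tree lc_f_rc_25_0 lc_f_rc_16_3 lc_f_rc_29_4 lc_f_rc_23_3 lc_f_rc_25_0 lc_f_rc_25_0 lc_f_Cert_tree lc_f_rc_29_4 lc_f_Cert_tree lc_f_rc_25_0 lc_f_rc_11_1 lc_f_rc_5_3 lc_f_Cert_tree lc_f_rc_25_0) (@D3.rec (fun _ => (Cert rels S Gen.f)) lc_f_rc_11_3 lc_f_rc_20_1 lc_f_Cert_tree lc_f_rc_26_0 lc_f_rc_25_0 lc_f_rc_29_4 lc_f_Cert_tree lc_f_Cert_tree lc_f_rc_25_0 lc_f_Cert_tree lc_f_rc_25_0 lc_f_Cert_tree lc_f_rc_25_0 lc_f_rc_29_4 lc_f_rc_20_1 lc_f_Cert_tree lc_f_rc_16_1 lc_f_rc_29_2 lc_f_rc_16_3 lc_f_Cert_tree lc_f_rc_25_0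 lc_f_rc_31_13 lc_f_rc_11_3 lc_f_rc_29_2 lc_f_Cert_tree lc_f_Cert_tree lc_f_rc_31_4 lc_f_rc_25_0 lc_f_Cert_tree lc_f_Cert_tree lc_f_rc_25_0 lc_f_Cert_tree lc_f_rc_25_0 lc_f_Cert_tree lc_f_rc_25_0 lc_f_Cert_tree lc_f_rc_11_3 lc_f_rc_25_0 lc_f_Cert_tree lc_f_rc_25_0) (@D3.rec (fun _ => (Cert rels S Gen.f)) lc_f_rc_11_1 lc_f_rc_11_3 lc_f_rc_23_1 lc_f_rc_5_1 lc_f_rc_16_1 lc_f_rc_11_3 lc_f_rc_25_0 lc_f_rc_11_3 lc_f_rc_5_3 lc_f_Cert_tree lc_f_rc_11_3 lc_f_rc_5_1 lc_f_rc_16_1 lc_f_rc_26_6 lc_f_rc_5_1 lc_f_rc_20_1 lc_f_Cert_tree lc_f_rc_25_0 lc_f_rc_20_1 lc_f_Cert_tree lc_f_rc_23_1 lc_f_rc_16_3 lc_f_rc_11_1 lc_f_rc_26_6 lc_f_Cert_tree lc_f_Cert_tree lc_f_rc_29_2 lc_f_rc_20_1 lc_f_rc_26_6 lc_f_rc_26_6 lc_f_rc_25_0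 lc_f_Cert_tree lc_f_rc_25_0 lc_f_rc_26_4 lc_f_rc_26_2 lc_f_rc_25_0 lc_f_rc_5_1 lc_f_rc_16_1 lc_f_rc_16_1 lc_f_rc_26_2) (@D3.rec (fun _ => (Cert rels S Gen.f)) lc_f_rc_11_5 lc_f_rc_25_0 lc_f_rc_26_2 lc_f_rc_11_3 lc_f_rc_25_0 lc_f_rc_31_7 lc_f_rc_5_3 lc_f_rc_30_19 lc_f_rc_25_0 lc_f_rc_11_3 lc_f_rc_5_1 lc_f_rc_23_1 lc_f_Cert_tree lc_f_Cert_tree lc_f_Cert_tree lc_f_rc_25_0 lc_f_rc_26_4 lc_f_Cert_tree lc_f_rc_25_0 lc_f_rc_26_2 lc_f_rc_25_0 lc_f_rc_11_3 lc_f_rc_29_2 lc_f_Cert_tree lc_f_rc_26_0 lc_f_rc_16_3 lc_f_rc_25_0 lc_f_rc_31_4 lc_f_rc_16_1 lc_f_rc_16_1 lc_f_rc_25_0 lc_f_rc_11_3 lc_f_rc_29_2 lc_f_rc_11_3 lc_f_rc_5_1 lc_f_rc_16_1 lc_f_rc_29_2 lc_f_rc_29_4 lc_f_rc_20_3 lc_f_rc_29_2) (@D3.rec (fun _ => (Cert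 rels S Gen.f)) lc_f_rc_25_0 lc_f_Cert_tree lc_f_rc_5_1 lc_f_rc_20_3 lc_f_Cert_tree lc_f_rc_29_4 lc_f_Cert_tree lc_f_rc_5_3 lc_f_rc_25_0 lc_f_Cert_tree lc_f_rc_23_1 lc_f_Cert_tree lc_f_rc_5_3 lc_f_rc_25_0 lc_f_rc_30_11 lc_f_rc_30_15 lc_f_Cert_tree lc_f_rc_16_3 lc_f_Cert_tree lc_f_rc_25_0 lc_f_rc_11_3 lc_f_rc_11_3 lc_f_rc_25_0 lc_f_Cert_tree lc_f_rc_25_0 lc_f_rc_25_0 lc_f_rc_11_3 lc_f_rc_26_6 lc_f_rc_25_0 lc_f_rc_11_3 lc_f_rc_5_1 lc_f_rc_31_10 lc_f_rc_26_2 lc_f_rc_11_3 lc_f_rc_5_1 lc_f_rc_16_1 lc_f_rc_29_4 lc_f_Cert_tree lc_f_rc_5_1 lc_f_rc_20_1) (@D3.rec (fun _ => (Cert rels S Gen.f)) lc_f_rc_29_4 lc_f_Cert_tree lc_f_rc_29_2 lc_f_rc_16_1 lc_f_rc_5_1 lc_f_Cert_tree lc_f_rc_11_3 lc_f_rc_5_1 lc_f_rc_11_5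 lc_f_rc_20_1 lc_f_rc_16_3 lc_f_rc_29_2 lc_f_rc_29_2 lc_f_rc_20_1 lc_f_rc_11_5 lc_f_rc_31_10 lc_f_Cert_tree lc_f_rc_25_0 lc_f_Cert_tree lc_f_Cert_tree lc_f_rc_25_0 lc_f_Cert_tree lc_f_rc_16_1 lc_f_rc_5_1 lc_f_rc_29_2 lc_f_Cert_tree lc_f_rc_23_1 lc_f_Cert_tree lc_f_rc_5_3 lc_f_Cert_tree lc_f_rc_25_0 lc_f_rc_11_5 lc_f_rc_5_1 lc_f_rc_25_0 lc_f_rc_29_4 lc_f_Cert_tree lc_f_rc_5_1 lc_f_rc_23_1 lc_f_Cert_tree lc_f_rc_25_0) (@D3.rec (fun _ => (Cert rels S Gen.f)) lc_f_Cert_tree lc_f_Cert_tree lc_f_rc_25_0 lc_f_rc_26_6 lc_f_rc_5_1 lc_f_rc_29_4 lc_f_rc_16_1 lc_f_rc_29_4 lc_f_Cert_tree lc_f_Cert_tree lc_f_rc_25_0 lc_f_rc_11_3 lc_f_rc_20_1 lc_f_Cert_tree lc_f_rc_23_1 lc_f_rc_29_2 lc_f_rc_29_2 lc_f_rc_29_2 lc_f_rc_30_3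 lc_f_rc_25_0 lc_f_Cert_tree lc_f_rc_25_0 lc_f_rc_25_0 lc_f_rc_29_2 lc_f_rc_29_2 lc_f_rc_26_2 lc_f_rc_25_0 lc_f_rc_23_3 lc_f_rc_5_1 lc_f_Cert_tree lc_f_Cert_tree lc_f_rc_20_1 lc_f_Cert_tree lc_f_Cert_tree lc_f_rc_25_0 lc_f_rc_31_4 lc_f_Cert_tree lc_f_rc_25_0 lc_f_Cert_tree lc_f_Cert_tree) (@D3.rec (fun _ => (Cert rels S Gen.f)) lc_f_rc_25_0 lc_f_Cert_tree lc_f_rc_26_6 lc_f_rc_25_0 lc_f_rc_25_0 lc_f_Cert_tree lc_f_rc_25_0 lc_f_rc_16_3 lc_f_rc_5_3 lc_f_rc_25_0 lc_f_rc_11_3 lc_f_rc_5_3 lc_f_rc_11_3 lc_f_rc_26_4 lc_f_rc_16_1 lc_f_rc_11_1 lc_f_rc_5_3 lc_f_Cert_tree lc_f_rc_25_0 lc_f_rc_11_3 lc_f_rc_20_1 lc_f_Cert_tree lc_f_rc_25_0 lc_f_rc_11_3 lc_f_rc_16_3 lc_f_rc_23_3 lc_f_Cert_tree lc_f_rc_25_0 lc_f_rc_11_3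 lc_f_rc_5_1 lc_f_rc_16_1 lc_f_rc_29_2 lc_f_Cert_tree lc_f_rc_5_3 lc_f_Cert_tree lc_f_rc_25_0 lc_f_rc_11_3 lc_f_rc_29_4 lc_f_rc_5_1 lc_f_rc_20_1) (@D3.rec (fun _ => (Cert rels S Gen.f)) lc_f_rc_29_2 lc_f_rc_25_1 lc_f_rc_5_3 lc_f_Cert_tree lc_f_rc_25_0 lc_f_rc_20_3 lc_f_rc_5_3 lc_f_Cert_tree lc_f_rc_25_0 lc_f_rc_11_3 lc_f_rc_31_10 lc_f_rc_16_1 lc_f_Cert_tree lc_f_rc_11_1 lc_f_Cert_tree lc_f_rc_25_0 lc_f_rc_29_2 lc_f_rc_25_0 lc_f_Cert_tree lc_f_rc_11_3 lc_f_rc_25_0 lc_f_rc_5_1 lc_f_rc_25_0 lc_f_rc_11_3 lc_f_Cert_tree lc_f_rc_5_1 lc_f_rc_16_1 lc_f_rc_31_4 lc_f_Cert_tree lc_f_Cert_tree lc_f_rc_25_0 lc_f_Cert_tree lc_f_rc_29_2 lc_f_rc_29_2 lc_f_rc_20_1 lc_f_Cert_tree lc_f_rc_25_0 lc_f_Cert_tree lc_f_Cert_tree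 lc_f_rc_25_0) (@D3.rec (fun _ => (Cert rels S Gen.f)) lc_f_Cert_tree lc_f_rc_25_0 lc_f_rc_29_4 lc_f_rc_25_0 lc_f_rc_11_3 lc_f_rc_11_1 lc_f_rc_29_2 lc_f_rc_29_2 lc_f_rc_11_3 lc_f_rc_16_1 lc_f_rc_20_3 lc_f_Cert_tree lc_f_Cert_tree lc_f_rc_25_0 lc_f_rc_25_0 lc_f_rc_5_3 lc_f_Cert_tree lc_f_Cert_tree lc_f_rc_25_0 lc_f_rc_26_6 lc_f_Cert_tree lc_f_Cert_tree lc_f_rc_25_0 lc_f_rc_11_3 lc_f_rc_29_4 lc_f_rc_16_1 lc_f_rc_20_1 lc_f_rc_11_1 lc_f_rc_5_3 lc_f_rc_11_3 lc_f_rc_29_2 lc_f_rc_5_1 lc_f_rc_5_1 lc_f_rc_16_1 lc_f_rc_11_5 lc_f_rc_25_0 lc_f_rc_11_3 lc_f_rc_30_15 lc_f_rc_16_1 lc_f_Cert_tree) (@D3.rec (fun _ => (Cert rels S Gen.f)) lc_f_rc_25_0 lc_f_Cert_tree lc_f_rc_16_1 lc_f_rc_23_1 lc_f_rc_29_4 lc_f_Cert_tree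 lc_f_rc_5_3 lc_f_Cert_tree lc_f_rc_25_0 lc_f_rc_11_5 lc_f_Cert_tree lc_f_rc_25_0 lc_f_Cert_tree lc_f_rc_25_0 lc_f_rc_29_4 lc_f_Cert_tree lc_f_rc_25_0 lc_f_Cert_tree lc_f_Cert_tree lc_f_Cert_tree lc_f_rc_25_0 lc_f_rc_20_1 lc_f_rc_5_1 lc_f_rc_16_1 lc_f_rc_29_2 lc_f_Cert_tree lc_f_rc_29_2 lc_f_rc_29_2 lc_f_rc_20_1 lc_f_Cert_tree lc_f_rc_25_0 lc_f_rc_26_6 lc_f_rc_25_0 lc_f_Cert_tree lc_f_Cert_tree lc_f_rc_25_0 lc_f_Cert_tree lc_f_rc_16_1 lc_f_rc_5_1 lc_f_rc_20_1) (@D3.rec (fun _ => (Cert rels S Gen.f)) lc_f_rc_16_1 lc_f_rc_29_2 lc_f_Cert_tree lc_f_Cert_tree lc_f_rc_25_0 lc_f_rc_11_3 lc_f_rc_5_3 lc_f_Cert_tree lc_f_rc_25_0 lc_f_rc_29_4 lc_f_Cert_tree lc_f_Cert_tree lc_f_rc_25_0 lc_f_Cert_tree lc_f_Cert_tree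 lc_f_rc_25_0 lc_f_rc_11_3 lc_f_rc_29_4 lc_f_rc_25_1 lc_f_rc_11_1 lc_f_rc_25_0 lc_f_Cert_tree lc_f_Cert_tree lc_f_rc_25_0 lc_f_Cert_tree lc_f_rc_5_3 lc_f_rc_5_3 lc_f_Cert_tree lc_f_rc_25_0 lc_f_rc_25_0 lc_f_rc_11_3 lc_f_rc_11_3 lc_f_rc_29_2 lc_f_Cert_tree lc_f_rc_5_1 lc_f_rc_20_1 lc_f_rc_29_2 lc_f_rc_25_0 lc_f_Cert_tree lc_f_rc_29_2) (@D3.rec (fun _ => (Cert rels S Gen.f)) lc_f_rc_29_2 lc_f_rc_16_1 lc_f_rc_23_1 lc_f_Cert_tree lc_f_Cert_tree lc_f_rc_25_0 lc_f_rc_29_4 lc_f_rc_29_2 lc_f_Cert_tree lc_f_rc_25_0 lc_f_rc_23_1 lc_f_rc_25_0 lc_f_rc_16_3 lc_f_rc_29_2 lc_f_Cert_tree lc_f_Cert_tree lc_f_Cert_tree lc_f_rc_25_0 lc_f_rc_11_3 lc_f_rc_23_1 lc_f_rc_29_2 lc_f_rc_16_3 lc_f_Cert_tree lc_f_rc_25_0 lc_f_Cert_tree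 lc_f_rc_25_0 lc_f_rc_11_3 lc_f_Cert_tree lc_f_rc_5_3 lc_f_Cert_tree lc_f_rc_25_0 lc_f_rc_11_3 lc_f_rc_29_2 lc_f_rc_16_1 lc_f_Cert_tree lc_f_rc_25_0 lc_f_Cert_tree lc_f_Cert_tree lc_f_Cert_tree lc_f_rc_25_0) (@D3.rec (fun _ => (Cert rels S Gen.f)) lc_f_rc_11_3 lc_f_Cert_tree lc_f_Cert_tree lc_f_rc_25_0 lc_f_rc_11_3 lc_f_rc_29_4 lc_f_Cert_tree lc_f_rc_11_3 lc_f_rc_29_4 lc_f_rc_25_0 lc_f_rc_11_5 lc_f_rc_25_0 lc_f_Cert_tree lc_f_rc_25_0 lc_f_rc_11_3 lc_f_rc_5_1 lc_f_rc_16_1 lc_f_rc_11_1 lc_f_Cert_tree lc_f_Cert_tree lc_f_rc_25_0 lc_f_rc_25_0 lc_f_rc_11_3 lc_f_rc_16_1 lc_f_rc_11_3 lc_f_rc_29_2 lc_f_Cert_tree lc_f_Cert_tree lc_f_rc_5_1 lc_f_rc_20_1 lc_f_rc_29_2 lc_f_Cert_tree lc_f_Cert_tree lc_f_Cert_tree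 lc_f_rc_25_0 lc_f_rc_25_0 lc_f_rc_25_1 lc_f_Cert_tree lc_f_rc_29_2 lc_f_rc_29_2) (@D3.rec (fun _ => (Cert rels S Gen.f)) lc_f_rc_29_4 lc_f_rc_16_1 lc_f_rc_23_1 lc_f_Cert_tree lc_f_Cert_tree lc_f_rc_25_0 lc_f_rc_11_3 lc_f_rc_26_4 lc_f_rc_5_1 lc_f_rc_20_1 lc_f_Cert_tree lc_f_rc_23_3 lc_f_rc_25_0 lc_f_Cert_tree lc_f_rc_26_6 lc_f_Cert_tree lc_f_rc_25_0 lc_f_rc_5_1 lc_f_rc_26_2 lc_f_Cert_tree lc_f_rc_25_0 lc_f_rc_11_3 lc_f_rc_25_0 lc_f_rc_29_2 lc_f_rc_20_3 lc_f_rc_25_0 lc_f_Cert_tree lc_f_rc_25_0 lc_f_rc_25_1 lc_f_rc_25_0 lc_f_Cert_tree lc_f_rc_16_1 lc_f_rc_16_1 lc_f_rc_29_2 lc_f_Cert_tree lc_f_Cert_tree lc_f_Cert_tree lc_f_rc_25_0 lc_f_rc_11_1 lc_f_Cert_tree) (@D3.rec (fun _ => (Cert rels S Gen.f)) lc_f_rc_25_0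 lc_f_Cert_tree lc_f_rc_25_0 lc_f_Cert_tree lc_f_Cert_tree lc_f_rc_16_3 lc_f_rc_25_0 lc_f_Cert_tree lc_f_rc_23_1 lc_f_rc_29_2 lc_f_rc_26_6 lc_f_rc_29_4 lc_f_rc_25_0 lc_f_Cert_tree lc_f_rc_25_0 lc_f_rc_5_3 lc_f_rc_25_0 lc_f_rc_11_3 lc_f_Cert_tree lc_f_rc_11_3 lc_f_rc_29_2 lc_f_rc_16_1 lc_f_Cert_tree lc_f_rc_26_0 lc_f_Cert_tree lc_f_rc_25_0 lc_f_rc_11_1 lc_f_Cert_tree lc_f_rc_5_3 lc_f_Cert_tree lc_f_Cert_tree lc_f_rc_25_0 lc_f_rc_11_3 lc_f_rc_5_1 lc_f_rc_16_1 lc_f_rc_29_2 lc_f_rc_29_2 lc_f_rc_29_2 lc_f_rc_20_1 lc_f_Cert_tree) (@D3.rec (fun _ => (Cert rels S Gen.f)) lc_f_rc_25_0 lc_f_Cert_tree lc_f_rc_25_0 lc_f_rc_29_2 lc_f_Cert_tree lc_f_Cert_tree lc_f_rc_25_0 lc_f_rc_5_3 lc_f_rc_11_3 lc_f_rc_25_0 lc_f_Cert_tree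 lc_f_Cert_tree lc_f_rc_25_0 lc_f_Cert_tree lc_f_Cert_tree lc_f_Cert_tree lc_f_rc_25_0 lc_f_rc_11_3 lc_f_rc_16_1 lc_f_Cert_tree lc_f_Cert_tree lc_f_Cert_tree lc_f_rc_25_0 lc_f_rc_25_0 lc_f_rc_29_4 lc_f_Cert_tree lc_f_rc_5_3 lc_f_Cert_tree lc_f_rc_25_0 lc_f_rc_26_2 lc_f_rc_11_1 lc_f_Cert_tree lc_f_rc_25_0 lc_f_Cert_tree lc_f_rc_25_0 lc_f_Cert_tree lc_f_rc_11_3 lc_f_rc_26_6 lc_f_rc_25_0 lc_f_rc_5_1)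
def ce_f_7 : D2 → D3 → (Cert rels S Gen.f) := @D2.rec (fun _ => D3 → (Cert rels S Gen.f)) (@D3.rec (fun _ => (Cert rels S Gen.f)) lc_f_rc_16_1 lc_f_rc_11_3 lc_f_rc_11_3 lc_f_rc_25_0 lc_f_rc_29_2 lc_f_Cert_tree lc_f_rc_25_0 lc_f_Cert_tree lc_f_rc_11_3 lc_f_rc_25_0 lc_f_rc_25_0 lc_f_Cert_tree lc_f_rc_23_3 lc_f_rc_25_0 lc_f_rc_25_0 lc_f_rc_11_3 lc_f_rc_29_2 lc_f_rc_16_1 lc_f_Cert_tree lc_f_rc_11_1 lc_f_rc_5_1 lc_f_rc_20_1 lc_f_rc_16_1 lc_f_Cert_tree lc_f_Cert_tree lc_f_Cert_tree lc_f_rc_25_0 lc_f_Cert_tree lc_f_Cert_tree lc_f_rc_25_0 lc_f_rc_25_0 lc_f_rc_11_3 lc_f_rc_5_1 lc_f_rc_20_1 lc_f_rc_29_4 lc_f_rc_5_1 lc_f_rc_29_2 lc_f_Cert_tree lc_f_Cert_tree lc_f_rc_11_3) (@D3.rec (fun _ => (Cert rels S Gen.f))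 lc_f_Cert_tree lc_f_Cert_tree lc_f_rc_25_0 lc_f_rc_5_3 lc_f_Cert_tree lc_f_rc_25_0 lc_f_rc_11_1 lc_f_Cert_tree lc_f_rc_5_1 lc_f_rc_16_1 lc_f_rc_23_1 lc_f_rc_29_2 lc_f_Cert_tree lc_f_rc_5_3 lc_f_Cert_tree lc_f_rc_25_0 lc_f_Cert_tree lc_f_rc_25_0 lc_f_Cert_tree lc_f_rc_25_0 lc_f_rc_29_4 lc_f_Cert_tree lc_f_rc_25_0 lc_f_rc_29_2 lc_f_Cert_tree lc_f_Cert_tree lc_f_rc_25_0 lc_f_rc_16_1 lc_f_rc_25_0 lc_f_rc_31_4 lc_f_Cert_tree lc_f_Cert_tree lc_f_rc_25_0 lc_f_Cert_tree lc_f_rc_16_1 lc_f_rc_29_2 lc_f_rc_29_2 lc_f_Cert_tree lc_f_rc_29_4 lc_f_Cert_tree) (@D3.rec (fun _ => (Cert rels S Gen.f)) lc_f_rc_20_1 lc_f_rc_16_1 lc_f_Cert_tree lc_f_Cert_tree lc_f_rc_25_0 lc_f_rc_11_3 lc_f_rc_26_4 lc_f_rc_16_1 lc_f_rc_31_7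 lc_f_rc_5_1 lc_f_Cert_tree lc_f_rc_25_0 lc_f_rc_25_0 lc_f_rc_29_4 lc_f_rc_16_3 lc_f_rc_16_1 lc_f_Cert_tree lc_f_Cert_tree lc_f_Cert_tree lc_f_rc_20_1 lc_f_Cert_tree lc_f_Cert_tree lc_f_rc_25_0 lc_f_Cert_tree lc_f_rc_16_1 lc_f_rc_23_1 lc_f_Cert_tree lc_f_Cert_tree lc_f_rc_25_0 lc_f_rc_29_2 lc_f_Cert_tree lc_f_Cert_tree lc_f_rc_25_0 lc_f_Cert_tree lc_f_rc_25_0 lc_f_rc_25_0 lc_f_Cert_tree lc_f_Cert_tree lc_f_rc_25_0 lc_f_Cert_tree) (@D3.rec (fun _ => (Cert rels S Gen.f)) lc_f_Cert_tree lc_f_rc_29_2 lc_f_rc_29_2 lc_f_Cert_tree lc_f_rc_25_0 lc_f_Cert_tree lc_f_Cert_tree lc_f_rc_25_0 lc_f_rc_11_3 lc_f_Cert_tree lc_f_rc_5_1 lc_f_Cert_tree lc_f_Cert_tree lc_f_rc_25_0 lc_f_Cert_tree lc_f_rc_16_1 lc_f_rc_23_1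 lc_f_Cert_tree lc_f_Cert_tree lc_f_rc_25_0 lc_f_rc_29_2 lc_f_Cert_tree lc_f_Cert_tree lc_f_rc_25_0 lc_f_Cert_tree lc_f_rc_25_0 lc_f_rc_25_0 lc_f_Cert_tree lc_f_Cert_tree lc_f_rc_25_0 lc_f_Cert_tree lc_f_rc_11_3 lc_f_rc_16_1 lc_f_Cert_tree lc_f_rc_16_1 lc_f_rc_11_3 lc_f_rc_16_1 lc_f_Cert_tree lc_f_rc_16_1 lc_f_rc_20_3) (@D3.rec (fun _ => (Cert rels S Gen.f)) lc_f_rc_25_0 lc_f_rc_5_3 lc_f_rc_20_1 lc_f_rc_31_4 lc_f_Cert_tree lc_f_rc_25_0 lc_f_rc_26_4 lc_f_rc_20_1 lc_f_rc_16_1 lc_f_rc_5_3 lc_f_Cert_tree lc_f_rc_25_0 lc_f_rc_11_1 lc_f_rc_11_1 lc_f_rc_25_0 lc_f_rc_29_2 lc_f_rc_30_11 lc_f_rc_25_0 lc_f_Cert_tree lc_f_rc_5_1 lc_f_rc_25_0 lc_f_rc_11_3 lc_f_rc_23_1 lc_f_rc_5_1 lc_f_rc_25_0 lc_f_rc_20_1 lc_f_rc_20_1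 lc_f_rc_25_0 lc_f_rc_26_0 lc_f_rc_11_3 lc_f_rc_11_3 lc_f_rc_29_2 lc_f_rc_29_2 lc_f_rc_16_1 lc_f_Cert_tree lc_f_rc_25_0 lc_f_rc_11_3 lc_f_rc_5_1 lc_f_rc_29_4 lc_f_rc_29_4) (@D3.rec (fun _ => (Cert rels S Gen.f)) lc_f_rc_5_1 lc_f_rc_23_1 lc_f_rc_29_2 lc_f_rc_16_1 lc_f_rc_5_3 lc_f_Cert_tree lc_f_rc_25_0 lc_f_rc_26_2 lc_f_rc_16_1 lc_f_rc_5_3 lc_f_Cert_tree lc_f_rc_25_0 lc_f_rc_16_1 lc_f_rc_16_1 lc_f_rc_11_3 lc_f_rc_16_3 lc_f_rc_25_0 lc_f_rc_16_1 lc_f_rc_16_1 lc_f_rc_5_1 lc_f_rc_20_1 lc_f_rc_29_2 lc_f_rc_29_2 lc_f_rc_29_2 lc_f_rc_25_0 lc_f_rc_25_0 lc_f_Cert_tree lc_f_Cert_tree lc_f_rc_25_0 lc_f_rc_25_0 lc_f_rc_11_3 lc_f_rc_11_5 lc_f_rc_25_0 lc_f_rc_26_2 lc_f_Cert_tree lc_f_rc_25_0 lc_f_Cert_tree lc_f_rc_25_0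 lc_f_rc_5_1 lc_f_rc_29_2) (@D3.rec (fun _ => (Cert rels S Gen.f)) lc_f_rc_25_0 lc_f_rc_11_3 lc_f_rc_29_4 lc_f_rc_29_2 lc_f_rc_11_1 lc_f_rc_11_1 lc_f_rc_26_6 lc_f_rc_11_3 lc_f_rc_11_1 lc_f_rc_29_4 lc_f_rc_25_0 lc_f_rc_29_2 lc_f_rc_30_11 lc_f_Cert_tree lc_f_rc_25_0 lc_f_rc_29_4 lc_f_rc_25_0 lc_f_rc_25_0 lc_f_rc_16_1 lc_f_rc_11_3 lc_f_rc_23_1 lc_f_Cert_tree lc_f_Cert_tree lc_f_rc_25_0 lc_f_Cert_tree lc_f_rc_25_0 lc_f_rc_16_1 lc_f_rc_29_4 lc_f_Cert_tree lc_f_rc_5_3 lc_f_Cert_tree lc_f_Cert_tree lc_f_rc_25_0 lc_f_rc_11_3 lc_f_rc_29_2 lc_f_rc_16_1 lc_f_Cert_tree lc_f_rc_25_0 lc_f_rc_16_1 lc_f_Cert_tree) (@D3.rec (fun _ => (Cert rels S Gen.f)) lc_f_Cert_tree lc_f_rc_25_0 lc_f_rc_11_3 lc_f_rc_25_0 lc_f_rc_25_0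 lc_f_rc_11_3 lc_f_rc_29_4 lc_f_rc_29_2 lc_f_rc_23_3 lc_f_rc_16_1 lc_f_rc_23_3 lc_f_rc_25_0 lc_f_rc_5_1 lc_f_rc_11_1 lc_f_Cert_tree lc_f_rc_25_0 lc_f_rc_29_2 lc_f_rc_5_3 lc_f_Cert_tree lc_f_rc_25_0 lc_f_Cert_tree lc_f_rc_25_0 lc_f_rc_25_0 lc_f_rc_16_1 lc_f_rc_11_1 lc_f_rc_5_3 lc_f_rc_11_3 lc_f_rc_16_1 lc_f_rc_29_2 lc_f_rc_11_3 lc_f_rc_29_2 lc_f_rc_16_3 lc_f_rc_25_0 lc_f_Cert_tree lc_f_rc_5_1 lc_f_rc_16_1 lc_f_rc_23_1 lc_f_rc_29_2 lc_f_rc_23_3 lc_f_rc_5_3) (@D3.rec (fun _ => (Cert rels S Gen.f)) lc_f_Cert_tree lc_f_rc_16_1 lc_f_rc_25_0 lc_f_rc_26_6 lc_f_rc_16_1 lc_f_rc_29_2 lc_f_rc_29_2 lc_f_Cert_tree lc_f_Cert_tree lc_f_Cert_tree lc_f_Cert_tree lc_f_rc_25_0 lc_f_rc_25_0 lc_f_rc_11_3 lc_f_rc_29_4 lc_f_rc_26_4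 lc_f_rc_25_0 lc_f_Cert_tree lc_f_rc_25_0 lc_f_rc_29_2 lc_f_Cert_tree lc_f_rc_25_0 lc_f_Cert_tree lc_f_Cert_tree lc_f_Cert_tree lc_f_rc_25_0 lc_f_rc_26_4 lc_f_rc_5_1 lc_f_rc_26_2 lc_f_Cert_tree lc_f_rc_25_0 lc_f_rc_16_1 lc_f_Cert_tree lc_f_Cert_tree lc_f_rc_25_0 lc_f_rc_26_2 lc_f_Cert_tree lc_f_rc_20_1 lc_f_rc_30_3 lc_f_Cert_tree) (@D3.rec (fun _ => (Cert rels S Gen.f)) lc_f_rc_25_0 lc_f_Cert_tree lc_f_rc_25_0 lc_f_Cert_tree lc_f_rc_26_6 lc_f_rc_25_1 lc_f_rc_25_0 lc_f_rc_5_1 lc_f_rc_25_1 lc_f_rc_25_1 lc_f_rc_20_1 lc_f_Cert_tree lc_f_Cert_tree lc_f_rc_25_0 lc_f_rc_29_4 lc_f_Cert_tree lc_f_rc_25_0 lc_f_rc_29_2 lc_f_rc_25_0 lc_f_rc_29_4 lc_f_rc_16_1 lc_f_rc_30_11 lc_f_Cert_tree lc_f_rc_25_0 lc_f_rc_5_3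 lc_f_Cert_tree lc_f_rc_25_0 lc_f_rc_30_15 lc_f_rc_20_1 lc_f_rc_5_3 lc_f_Cert_tree lc_f_rc_29_2 lc_f_Cert_tree lc_f_rc_25_0 lc_f_rc_5_3 lc_f_Cert_tree lc_f_rc_25_0 lc_f_rc_11_3 lc_f_rc_5_3 lc_f_rc_5_1) (@D3.rec (fun _ => (Cert rels S Gen.f)) lc_f_rc_25_0 lc_f_rc_11_3 lc_f_Cert_tree lc_f_rc_11_3 lc_f_rc_5_1 lc_f_rc_16_1 lc_f_rc_29_4 lc_f_rc_5_3 lc_f_rc_5_3 lc_f_rc_25_0 lc_f_rc_31_4 lc_f_Cert_tree lc_f_rc_20_1 lc_f_rc_26_0 lc_f_rc_26_6 lc_f_rc_11_3 lc_f_rc_5_1 lc_f_rc_16_1 lc_f_rc_29_2 lc_f_rc_11_3 lc_f_rc_20_1 lc_f_Cert_tree lc_f_rc_25_0 lc_f_rc_5_3 lc_f_Cert_tree lc_f_rc_16_3 lc_f_rc_25_0 lc_f_rc_29_2 lc_f_rc_26_0 lc_f_Cert_tree lc_f_rc_25_0 lc_f_rc_31_10 lc_f_rc_5_3 lc_f_rc_5_3 lc_f_Cert_tree lc_f_rc_29_2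 lc_f_Cert_tree lc_f_rc_25_0 lc_f_rc_25_0 lc_f_rc_11_3) (@D3.rec (fun _ => (Cert rels S Gen.f)) lc_f_rc_29_2 lc_f_rc_11_3 lc_f_Cert_tree lc_f_rc_5_1 lc_f_rc_20_1 lc_f_rc_29_2 lc_f_rc_5_1 lc_f_rc_29_2 lc_f_rc_16_1 lc_f_rc_23_1 lc_f_rc_29_2 lc_f_Cert_tree lc_f_rc_25_0 lc_f_rc_20_1 lc_f_rc_25_0 lc_f_rc_29_2 lc_f_rc_5_3 lc_f_rc_5_3 lc_f_rc_25_0 lc_f_rc_20_1 lc_f_rc_5_1 lc_f_rc_25_0 lc_f_rc_11_3 lc_f_rc_30_7 lc_f_rc_16_1 lc_f_rc_11_1 lc_f_rc_16_1 lc_f_rc_25_0 lc_f_rc_29_2 lc_f_rc_30_11 lc_f_Cert_tree lc_f_rc_25_0 lc_f_Cert_tree lc_f_rc_11_3 lc_f_rc_25_0 lc_f_rc_25_0 lc_f_Cert_tree lc_f_Cert_tree lc_f_rc_25_0 lc_f_rc_25_0) (@D3.rec (fun _ => (Cert rels S Gen.f)) lc_f_rc_16_1 lc_f_Cert_tree lc_f_rc_20_1 lc_f_Cert_tree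 lc_f_Cert_tree lc_f_Cert_tree lc_f_rc_25_0 lc_f_Cert_tree lc_f_Cert_tree lc_f_rc_25_0 lc_f_Cert_tree lc_f_rc_25_0 lc_f_rc_5_1 lc_f_rc_29_4 lc_f_rc_26_2 lc_f_Cert_tree lc_f_Cert_tree lc_f_rc_25_0 lc_f_rc_20_1 lc_f_rc_29_4 lc_f_rc_25_0 lc_f_rc_26_2 lc_f_rc_16_1 lc_f_rc_11_3 lc_f_rc_29_4 lc_f_rc_25_0 lc_f_rc_11_3 lc_f_rc_29_4 lc_f_rc_29_2 lc_f_rc_11_3 lc_f_Cert_tree lc_f_Cert_tree lc_f_rc_11_3 lc_f_rc_5_1 lc_f_rc_20_1 lc_f_rc_16_1 lc_f_rc_16_1 lc_f_Cert_tree lc_f_Cert_tree lc_f_rc_25_0) (@D3.rec (fun _ => (Cert rels S Gen.f)) lc_f_rc_26_2 lc_f_rc_11_3 lc_f_rc_20_3 lc_f_Cert_tree lc_f_Cert_tree lc_f_rc_25_0 lc_f_Cert_tree lc_f_rc_25_0 lc_f_Cert_tree lc_f_rc_11_3 lc_f_rc_26_6 lc_f_rc_25_0 lc_f_rc_5_1 lc_f_rc_16_1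 lc_f_rc_11_3 lc_f_rc_25_0 lc_f_rc_11_3 lc_f_rc_29_2 lc_f_Cert_tree lc_f_rc_11_3 lc_f_rc_5_1 lc_f_rc_5_3 lc_f_rc_20_1 lc_f_rc_31_13 lc_f_rc_25_0 lc_f_rc_16_1 lc_f_rc_5_1 lc_f_rc_5_1 lc_f_rc_16_1 lc_f_rc_23_1 lc_f_rc_20_1 lc_f_Cert_tree lc_f_Cert_tree lc_f_rc_25_0 lc_f_rc_11_3 lc_f_rc_25_0 lc_f_rc_11_3 lc_f_rc_16_1 lc_f_rc_5_1 lc_f_rc_11_3) (@D3.rec (fun _ => (Cert rels S Gen.f)) lc_f_rc_11_3 lc_f_rc_5_1 lc_f_rc_5_1 lc_f_rc_16_1 lc_f_rc_5_1 lc_f_Cert_tree lc_f_Cert_tree lc_f_rc_20_1 lc_f_Cert_tree lc_f_rc_5_3 lc_f_rc_25_0 lc_f_rc_31_7 lc_f_rc_31_4 lc_f_rc_25_0 lc_f_Cert_tree lc_f_rc_30_3 lc_f_rc_5_1 lc_f_rc_16_1 lc_f_rc_11_3 lc_f_Cert_tree lc_f_rc_16_3 lc_f_rc_11_1 lc_f_Cert_tree lc_f_rc_25_0 lc_f_Cert_tree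 lc_f_rc_25_0 lc_f_rc_29_4 lc_f_rc_5_3 lc_f_Cert_tree lc_f_rc_20_3 lc_f_rc_25_0 lc_f_rc_16_1 lc_f_Cert_tree lc_f_Cert_tree lc_f_rc_25_0 lc_f_Cert_tree lc_f_rc_5_1 lc_f_Cert_tree lc_f_rc_16_1 lc_f_rc_29_4) (@D3.rec (fun _ => (Cert rels S Gen.f)) lc_f_rc_29_2 lc_f_Cert_tree lc_f_Cert_tree lc_f_Cert_tree lc_f_rc_25_0 lc_f_rc_5_3 lc_f_rc_11_5 lc_f_rc_25_0 lc_f_rc_29_2 lc_f_rc_25_0 lc_f_rc_26_6 lc_f_Cert_tree lc_f_rc_25_0 lc_f_rc_11_3 lc_f_rc_29_4 lc_f_Cert_tree lc_f_rc_25_0 lc_f_Cert_tree lc_f_rc_5_3 lc_f_rc_25_0 lc_f_rc_16_3 lc_f_rc_5_3 lc_f_rc_11_3 lc_f_rc_11_3 lc_f_rc_25_0 lc_f_Cert_tree lc_f_Cert_tree lc_f_rc_25_0 lc_f_rc_29_2 lc_f_Cert_tree lc_f_Cert_tree lc_f_rc_25_0 lc_f_Cert_tree lc_f_rc_25_0 lc_f_Cert_tree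 lc_f_rc_25_0 lc_f_rc_29_2 lc_f_rc_11_1 lc_f_rc_25_0 lc_f_rc_5_1) (@D3.rec (fun _ => (Cert rels S Gen.f)) lc_f_Cert_tree lc_f_Cert_tree lc_f_rc_25_0 lc_f_Cert_tree lc_f_rc_20_1 lc_f_Cert_tree lc_f_rc_25_0 lc_f_rc_25_0 lc_f_rc_11_3 lc_f_rc_29_2 lc_f_rc_11_3 lc_f_Cert_tree lc_f_rc_5_1 lc_f_rc_20_1 lc_f_rc_16_1 lc_f_rc_20_1 lc_f_rc_11_3 lc_f_rc_20_1 lc_f_Cert_tree lc_f_rc_29_2 lc_f_rc_20_1 lc_f_rc_26_2 lc_f_rc_25_0 lc_f_rc_29_4 lc_f_rc_5_3 lc_f_rc_23_1 lc_f_rc_25_0 lc_f_rc_29_4 lc_f_Cert_tree lc_f_rc_5_3 lc_f_Cert_tree lc_f_rc_25_0 lc_f_rc_25_0 lc_f_rc_25_0 lc_f_rc_20_1 lc_f_rc_23_1 lc_f_rc_11_1 lc_f_rc_25_0 lc_f_rc_29_2 lc_f_rc_29_2) (@D3.rec (fun _ => (Cert rels S Gen.f)) lc_f_Cert_tree lc_f_rc_25_0 lc_f_rc_26_6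 lc_f_rc_25_0 lc_f_rc_25_0 lc_f_Cert_tree lc_f_rc_16_1 lc_f_Cert_tree lc_f_rc_25_0 lc_f_Cert_tree lc_f_rc_16_3 lc_f_Cert_tree lc_f_rc_25_0 lc_f_rc_26_2 lc_f_rc_11_3 lc_f_rc_11_3 lc_f_rc_20_1 lc_f_rc_5_3 lc_f_Cert_tree lc_f_rc_25_0 lc_f_Cert_tree lc_f_rc_26_6 lc_f_rc_25_0 lc_f_Cert_tree lc_f_rc_11_3 lc_f_Cert_tree lc_f_rc_25_0 lc_f_rc_29_2 lc_f_Cert_tree lc_f_rc_25_0 lc_f_Cert_tree lc_f_rc_25_0 lc_f_rc_25_0 lc_f_Cert_tree lc_f_rc_5_1 lc_f_Cert_tree lc_f_rc_25_0 lc_f_rc_25_0 lc_f_rc_11_3 lc_f_rc_25_0) (@D3.rec (fun _ => (Cert rels S Gen.f)) lc_f_rc_26_4 lc_f_rc_25_0 lc_f_rc_5_1 lc_f_rc_16_1 lc_f_Cert_tree lc_f_rc_25_0 lc_f_rc_11_3 lc_f_rc_5_1 lc_f_rc_16_1 lc_f_rc_31_7 lc_f_rc_20_3 lc_f_rc_25_0 lc_f_rc_29_4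 lc_f_rc_5_1 lc_f_rc_5_3 lc_f_rc_25_0 lc_f_rc_29_2 lc_f_Cert_tree lc_f_Cert_tree lc_f_rc_25_0 lc_f_rc_29_4 lc_f_rc_25_0 lc_f_rc_25_0 lc_f_Cert_tree lc_f_rc_16_1 lc_f_Cert_tree lc_f_rc_25_0 lc_f_Cert_tree lc_f_Cert_tree lc_f_Cert_tree lc_f_rc_25_0 lc_f_rc_26_2 lc_f_rc_16_1 lc_f_rc_29_4 lc_f_Cert_tree lc_f_Cert_tree lc_f_rc_25_0 lc_f_rc_25_0 lc_f_Cert_tree lc_f_rc_26_6) (@D3.rec (fun _ => (Cert rels S Gen.f)) lc_f_rc_25_0 lc_f_Cert_tree lc_f_rc_11_3 lc_f_Cert_tree lc_f_rc_25_0 lc_f_rc_29_2 lc_f_Cert_tree lc_f_rc_25_0 lc_f_Cert_tree lc_f_rc_25_0 lc_f_rc_25_0 lc_f_Cert_tree lc_f_rc_20_1 lc_f_rc_5_1 lc_f_Cert_tree lc_f_rc_25_0 lc_f_rc_11_1 lc_f_rc_16_1 lc_f_Cert_tree lc_f_rc_29_4 lc_f_Cert_tree lc_f_rc_16_3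 lc_f_rc_25_0 lc_f_Cert_tree lc_f_rc_20_1 lc_f_rc_16_3 lc_f_rc_29_2 lc_f_rc_30_15 lc_f_rc_25_0 lc_f_rc_29_2 lc_f_Cert_tree lc_f_rc_25_0 lc_f_rc_16_3 lc_f_rc_25_0 lc_f_rc_25_0 lc_f_rc_5_1 lc_f_rc_23_1 lc_f_rc_25_0 lc_f_Cert_tree lc_f_Cert_tree) (@D3.rec (fun _ => (Cert rels S Gen.f)) lc_f_rc_25_0 lc_f_rc_29_2 lc_f_rc_5_3 lc_f_Cert_tree lc_f_rc_29_2 lc_f_Cert_tree lc_f_rc_25_0 lc_f_rc_16_1 lc_f_Cert_tree lc_f_rc_25_0 lc_f_rc_11_1 lc_f_rc_29_2 lc_f_Cert_tree lc_f_rc_25_0 lc_f_Cert_tree lc_f_Cert_tree lc_f_rc_11_3 lc_f_rc_16_1 lc_f_rc_5_3 lc_f_rc_25_0 lc_f_rc_26_6 lc_f_rc_16_1 lc_f_rc_11_3 lc_f_rc_5_3 lc_f_Cert_tree lc_f_Cert_tree lc_f_rc_25_0 lc_f_Cert_tree lc_f_rc_20_1 lc_f_rc_25_0 lc_f_rc_11_3 lc_f_Cert_tree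 lc_f_rc_25_0 lc_f_rc_29_2 lc_f_rc_11_3 lc_f_rc_25_0 lc_f_Cert_tree lc_f_rc_25_0 lc_f_rc_25_0 lc_f_Cert_tree) (@D3.rec (fun _ => (Cert rels S Gen.f)) lc_f_rc_25_0 lc_f_rc_5_3 lc_f_Cert_tree lc_f_rc_25_0 lc_f_rc_11_3 lc_f_rc_20_3 lc_f_Cert_tree lc_f_rc_25_0 lc_f_rc_29_4 lc_f_rc_11_3 lc_f_rc_25_0 lc_f_rc_29_2 lc_f_rc_16_1 lc_f_Cert_tree lc_f_rc_25_0 lc_f_rc_5_1 lc_f_rc_16_1 lc_f_Cert_tree lc_f_rc_5_1 lc_f_rc_20_1 lc_f_Cert_tree lc_f_rc_25_0 lc_f_rc_23_1 lc_f_Cert_tree lc_f_rc_25_0 lc_f_rc_11_3 lc_f_rc_5_1 lc_f_rc_16_1 lc_f_Cert_tree lc_f_Cert_tree lc_f_rc_25_0 lc_f_Cert_tree lc_f_rc_5_1 lc_f_rc_20_1 lc_f_rc_5_1 lc_f_rc_30_11 lc_f_Cert_tree lc_f_rc_25_0 lc_f_Cert_tree lc_f_rc_5_1) (@D3.rec (fun _ => (Cert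 rels S Gen.f)) lc_f_rc_16_1 lc_f_rc_23_1 lc_f_Cert_tree lc_f_Cert_tree lc_f_rc_25_0 lc_f_rc_11_3 lc_f_Cert_tree lc_f_Cert_tree lc_f_rc_25_0 lc_f_rc_16_3 lc_f_rc_23_1 lc_f_rc_16_1 lc_f_rc_25_0 lc_f_rc_5_3 lc_f_rc_5_1 lc_f_rc_25_0 lc_f_rc_29_4 lc_f_rc_23_1 lc_f_rc_5_1 lc_f_rc_26_6 lc_f_rc_5_1 lc_f_rc_16_1 lc_f_Cert_tree lc_f_rc_16_1 lc_f_rc_26_6 lc_f_rc_5_1 lc_f_rc_16_1 lc_f_rc_29_4 lc_f_Cert_tree lc_f_rc_5_3 lc_f_rc_11_1 lc_f_Cert_tree lc_f_rc_25_0 lc_f_rc_11_3 lc_f_rc_29_4 lc_f_rc_29_4 lc_f_rc_20_1 lc_f_rc_5_3 lc_f_rc_25_0 lc_f_rc_11_1) (@D3.rec (fun _ => (Cert rels S Gen.f)) lc_f_rc_25_0 lc_f_rc_11_3 lc_f_rc_31_10 lc_f_Cert_tree lc_f_rc_11_3 lc_f_rc_5_1 lc_f_rc_25_0 lc_f_rc_11_1 lc_f_rc_25_0 lc_f_rc_11_1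 lc_f_rc_11_3 lc_f_Cert_tree lc_f_rc_25_0 lc_f_rc_29_2 lc_f_rc_25_0 lc_f_Cert_tree lc_f_rc_25_0 lc_f_rc_25_0 lc_f_rc_20_1 lc_f_Cert_tree lc_f_rc_11_5 lc_f_Cert_tree lc_f_Cert_tree lc_f_rc_25_0 lc_f_rc_11_3 lc_f_Cert_tree lc_f_rc_5_1 lc_f_rc_16_1 lc_f_rc_29_2 lc_f_Cert_tree lc_f_rc_5_3 lc_f_rc_5_3 lc_f_rc_25_0 lc_f_rc_11_3 lc_f_Cert_tree lc_f_Cert_tree lc_f_Cert_tree lc_f_rc_25_0 lc_f_rc_11_3 lc_f_rc_29_2) (@D3.rec (fun _ => (Cert rels S Gen.f)) lc_f_rc_16_1 lc_f_Cert_tree lc_f_rc_29_2 lc_f_rc_5_3 lc_f_rc_25_0 lc_f_rc_25_0 lc_f_rc_25_0 lc_f_rc_29_4 lc_f_Cert_tree lc_f_rc_11_3 lc_f_rc_5_3 lc_f_Cert_tree lc_f_rc_20_3 lc_f_rc_11_3 lc_f_rc_5_1 lc_f_rc_5_3 lc_f_rc_25_0 lc_f_Cert_tree lc_f_rc_25_0 lc_f_rc_11_1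 lc_f_rc_25_1 lc_f_Cert_tree lc_f_rc_5_3 lc_f_rc_16_3 lc_f_rc_25_0 lc_f_rc_11_1 lc_f_rc_29_2 lc_f_rc_25_0 lc_f_rc_26_6 lc_f_rc_25_0 lc_f_rc_29_4 lc_f_rc_5_3 lc_f_rc_25_0 lc_f_rc_5_1 lc_f_rc_16_1 lc_f_rc_29_2 lc_f_rc_26_4 lc_f_rc_5_1 lc_f_rc_29_2 lc_f_rc_5_3) (@D3.rec (fun _ => (Cert rels S Gen.f)) lc_f_rc_29_2 lc_f_rc_25_0 lc_f_rc_26_2 lc_f_rc_29_2 lc_f_rc_25_0 lc_f_Cert_tree lc_f_rc_30_11 lc_f_rc_25_0 lc_f_rc_5_1 lc_f_rc_5_3 lc_f_Cert_tree lc_f_rc_25_0 lc_f_rc_11_3 lc_f_rc_23_1 lc_f_rc_5_1 lc_f_rc_16_1 lc_f_rc_11_1 lc_f_rc_5_3 lc_f_rc_5_1 lc_f_rc_25_0 lc_f_rc_5_1 lc_f_rc_16_1 lc_f_rc_29_2 lc_f_rc_5_3 lc_f_Cert_tree lc_f_rc_25_0 lc_f_rc_5_1 lc_f_rc_29_2 lc_f_rc_29_2 lc_f_rc_16_1 lc_f_rc_11_5 lc_f_rc_25_0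 lc_f_Cert_tree lc_f_Cert_tree lc_f_rc_25_0 lc_f_rc_11_3 lc_f_rc_25_0 lc_f_rc_29_4 lc_f_rc_23_1 lc_f_rc_20_1)
def ce_f_8 : D2 → D3 → (Cert rels S Gen.f) := @D2.rec (fun _ => D3 → (Cert rels S Gen.f)) (@D3.rec (fun _ => (Cert rels S Gen.f)) lc_f_rc_20_1 lc_f_rc_20_3 lc_f_rc_29_2 lc_f_Cert_tree lc_f_Cert_tree lc_f_rc_25_0 lc_f_rc_5_1 lc_f_rc_20_1 lc_f_rc_29_2 lc_f_rc_5_3 lc_f_Cert_tree lc_f_rc_25_0 lc_f_rc_16_3 lc_f_Cert_tree lc_f_rc_20_1 lc_f_rc_29_2 lc_f_rc_20_1 lc_f_rc_23_1 lc_f_rc_25_0 lc_f_rc_11_3 lc_f_rc_25_0 lc_f_Cert_tree lc_f_Cert_tree lc_f_rc_25_0 lc_f_rc_20_1 lc_f_rc_25_0 lc_f_rc_29_4 lc_f_rc_11_3 lc_f_rc_26_6 lc_f_rc_25_0 lc_f_rc_5_1 lc_f_rc_16_1 lc_f_rc_29_2 lc_f_rc_11_3 lc_f_rc_5_3 lc_f_rc_29_4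 lc_f_rc_25_0 lc_f_rc_11_3 lc_f_rc_11_3 lc_f_rc_5_1) (@D3.rec (fun _ => (Cert rels S Gen.f)) lc_f_rc_20_1 lc_f_rc_29_2 lc_f_Cert_tree lc_f_Cert_tree lc_f_Cert_tree lc_f_rc_25_0 lc_f_Cert_tree lc_f_rc_5_3 lc_f_Cert_tree lc_f_rc_25_0 lc_f_rc_11_3 lc_f_rc_29_2 lc_f_rc_16_1 lc_f_Cert_tree lc_f_rc_5_1 lc_f_rc_29_2 lc_f_rc_29_4 lc_f_Cert_tree lc_f_rc_25_0 lc_f_Cert_tree lc_f_rc_25_0 lc_f_Cert_tree lc_f_rc_25_0 lc_f_rc_25_0 lc_f_rc_11_3 lc_f_rc_29_4 lc_f_rc_29_2 lc_f_Cert_tree lc_f_rc_5_3 lc_f_rc_11_1 lc_f_rc_29_2 lc_f_rc_29_2 lc_f_Cert_tree lc_f_rc_29_2 lc_f_Cert_tree lc_f_Cert_tree lc_f_rc_25_0 lc_f_rc_5_3 lc_f_Cert_tree lc_f_rc_25_0) (@D3.rec (fun _ => (Cert rels S Gen.f)) lc_f_rc_11_3 lc_f_Cert_tree lc_f_Cert_tree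 lc_f_rc_25_0 lc_f_Cert_tree lc_f_rc_25_0 lc_f_rc_29_4 lc_f_rc_25_0 lc_f_Cert_tree lc_f_Cert_tree lc_f_rc_25_0 lc_f_rc_11_3 lc_f_Cert_tree lc_f_rc_25_0 lc_f_rc_11_3 lc_f_rc_29_4 lc_f_rc_5_1 lc_f_rc_16_1 lc_f_rc_29_2 lc_f_Cert_tree lc_f_Cert_tree lc_f_rc_29_2 lc_f_rc_29_2 lc_f_rc_20_1 lc_f_Cert_tree lc_f_rc_25_0 lc_f_rc_23_1 lc_f_Cert_tree lc_f_Cert_tree lc_f_rc_25_0 lc_f_rc_5_1 lc_f_rc_25_0 lc_f_rc_11_3 lc_f_rc_29_2 lc_f_Cert_tree lc_f_rc_23_1 lc_f_rc_5_3 lc_f_rc_25_0 lc_f_rc_16_1 lc_f_rc_25_0) (@D3.rec (fun _ => (Cert rels S Gen.f)) lc_f_rc_20_1 lc_f_rc_11_3 lc_f_rc_29_2 lc_f_rc_29_4 lc_f_rc_25_0 lc_f_rc_29_4 lc_f_rc_11_3 lc_f_rc_5_1 lc_f_rc_25_0 lc_f_rc_11_3 lc_f_rc_5_1 lc_f_rc_30_11 lc_f_rc_29_2 lc_f_Cert_tree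 lc_f_rc_5_3 lc_f_Cert_tree lc_f_rc_25_0 lc_f_Cert_tree lc_f_rc_25_0 lc_f_Cert_tree lc_f_rc_25_0 lc_f_rc_29_4 lc_f_rc_16_1 lc_f_rc_25_0 lc_f_rc_11_3 lc_f_rc_5_1 lc_f_rc_16_1 lc_f_rc_29_2 lc_f_rc_29_2 lc_f_rc_29_2 lc_f_rc_20_1 lc_f_Cert_tree lc_f_rc_25_0 lc_f_rc_29_2 lc_f_rc_25_1 lc_f_rc_25_0 lc_f_rc_25_0 lc_f_rc_11_3 lc_f_rc_31_10 lc_f_rc_11_3) (@D3.rec (fun _ => (Cert rels S Gen.f)) lc_f_rc_25_1 lc_f_rc_25_1 lc_f_rc_25_1 lc_f_rc_26_2 lc_f_Cert_tree lc_f_rc_25_0 lc_f_rc_29_4 lc_f_rc_11_3 lc_f_rc_5_1 lc_f_rc_16_1 lc_f_rc_16_1 lc_f_rc_5_1 lc_f_rc_20_1 lc_f_Cert_tree lc_f_rc_25_0 lc_f_rc_31_7 lc_f_Cert_tree lc_f_rc_11_1 lc_f_rc_29_4 lc_f_rc_16_1 lc_f_rc_29_2 lc_f_rc_25_0 lc_f_rc_29_2 lc_f_rc_11_3 lc_f_rc_5_3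 lc_f_rc_25_0 lc_f_rc_11_3 lc_f_rc_5_3 lc_f_rc_11_5 lc_f_rc_25_0 lc_f_rc_11_3 lc_f_rc_5_1 lc_f_rc_16_1 lc_f_rc_26_6 lc_f_Cert_tree lc_f_Cert_tree lc_f_rc_25_0 lc_f_rc_11_5 lc_f_rc_25_0 lc_f_Cert_tree) (@D3.rec (fun _ => (Cert rels S Gen.f)) lc_f_Cert_tree lc_f_rc_25_0 lc_f_rc_29_4 lc_f_Cert_tree lc_f_rc_11_3 lc_f_rc_25_0 lc_f_Cert_tree lc_f_rc_25_0 lc_f_rc_16_1 lc_f_rc_11_3 lc_f_rc_26_2 lc_f_rc_25_0 lc_f_rc_11_3 lc_f_rc_5_1 lc_f_rc_29_2 lc_f_rc_11_3 lc_f_rc_5_1 lc_f_rc_20_1 lc_f_rc_29_2 lc_f_rc_5_3 lc_f_Cert_tree lc_f_Cert_tree lc_f_rc_25_0 lc_f_rc_23_3 lc_f_Cert_tree lc_f_rc_25_0 lc_f_rc_29_2 lc_f_rc_29_2 lc_f_rc_5_3 lc_f_rc_23_1 lc_f_rc_16_3 lc_f_rc_25_0 lc_f_rc_11_3 lc_f_rc_5_3 lc_f_rc_11_3 lc_f_rc_26_2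 lc_f_rc_23_1 lc_f_rc_11_3 lc_f_rc_5_1 lc_f_rc_20_1) (@D3.rec (fun _ => (Cert rels S Gen.f)) lc_f_rc_25_0 lc_f_rc_29_4 lc_f_Cert_tree lc_f_Cert_tree lc_f_rc_25_0 lc_f_rc_25_0 lc_f_rc_11_3 lc_f_rc_5_1 lc_f_rc_20_1 lc_f_rc_29_2 lc_f_rc_25_0 lc_f_rc_5_1 lc_f_rc_16_1 lc_f_rc_29_4 lc_f_rc_5_3 lc_f_rc_25_0 lc_f_rc_5_3 lc_f_rc_11_3 lc_f_rc_25_0 lc_f_rc_5_1 lc_f_rc_11_3 lc_f_rc_25_0 lc_f_rc_11_3 lc_f_rc_5_1 lc_f_rc_11_1 lc_f_rc_26_0 lc_f_rc_29_2 lc_f_rc_5_1 lc_f_rc_23_3 lc_f_rc_25_0 lc_f_rc_26_2 lc_f_rc_25_1 lc_f_Cert_tree lc_f_rc_11_3 lc_f_rc_26_6 lc_f_Cert_tree lc_f_rc_25_0 lc_f_rc_5_1 lc_f_rc_16_1 lc_f_rc_29_2) (@D3.rec (fun _ => (Cert rels S Gen.f)) lc_f_Cert_tree lc_f_rc_5_3 lc_f_Cert_tree lc_f_rc_25_0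 lc_f_rc_11_3 lc_f_rc_29_2 lc_f_rc_16_1 lc_f_Cert_tree lc_f_Cert_tree lc_f_Cert_tree lc_f_rc_25_0 lc_f_Cert_tree lc_f_rc_16_1 lc_f_rc_29_2 lc_f_rc_26_6 lc_f_rc_25_0 lc_f_Cert_tree lc_f_Cert_tree lc_f_rc_25_0 lc_f_rc_25_0 lc_f_rc_29_4 lc_f_rc_5_1 lc_f_rc_5_1 lc_f_rc_31_10 lc_f_Cert_tree lc_f_rc_11_1 lc_f_rc_25_0 lc_f_rc_23_1 lc_f_Cert_tree lc_f_Cert_tree lc_f_Cert_tree lc_f_rc_25_0 lc_f_Cert_tree lc_f_rc_11_3 lc_f_rc_29_2 lc_f_rc_16_1 lc_f_Cert_tree lc_f_rc_25_1 lc_f_rc_23_1 lc_f_rc_25_0) (@D3.rec (fun _ => (Cert rels S Gen.f)) lc_f_rc_29_2 lc_f_rc_5_1 lc_f_rc_23_1 lc_f_rc_29_2 lc_f_Cert_tree lc_f_rc_5_3 lc_f_rc_5_1 lc_f_rc_25_0 lc_f_rc_11_5 lc_f_Cert_tree lc_f_rc_25_0 lc_f_rc_25_0 lc_f_rc_29_4 lc_f_rc_5_3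 lc_f_Cert_tree lc_f_rc_25_0 lc_f_rc_31_10 lc_f_rc_5_3 lc_f_Cert_tree lc_f_rc_25_0 lc_f_rc_11_3 lc_f_rc_5_1 lc_f_rc_16_1 lc_f_rc_29_2 lc_f_Cert_tree lc_f_rc_29_2 lc_f_rc_29_2 lc_f_rc_16_3 lc_f_rc_25_0 lc_f_rc_23_1 lc_f_rc_29_2 lc_f_Cert_tree lc_f_rc_20_1 lc_f_rc_5_3 lc_f_rc_26_2 lc_f_rc_25_0 lc_f_rc_11_3 lc_f_Cert_tree lc_f_rc_25_0 lc_f_rc_25_0) (@D3.rec (fun _ => (Cert rels S Gen.f)) lc_f_rc_29_4 lc_f_Cert_tree lc_f_rc_25_0 lc_f_rc_11_3 lc_f_rc_11_3 lc_f_rc_5_1 lc_f_rc_16_1 lc_f_rc_29_2 lc_f_Cert_tree lc_f_Cert_tree lc_f_rc_29_2 lc_f_rc_26_2 lc_f_rc_25_0 lc_f_Cert_tree lc_f_rc_25_0 lc_f_rc_29_2 lc_f_Cert_tree lc_f_Cert_tree lc_f_rc_25_0 lc_f_Cert_tree lc_f_rc_25_0 lc_f_Cert_tree lc_f_rc_25_0 lc_f_Cert_tree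 lc_f_rc_25_0 lc_f_Cert_tree lc_f_rc_23_1 lc_f_rc_29_2 lc_f_Cert_tree lc_f_Cert_tree lc_f_Cert_tree lc_f_rc_25_0 lc_f_Cert_tree lc_f_Cert_tree lc_f_rc_25_0 lc_f_rc_5_3 lc_f_Cert_tree lc_f_rc_25_0 lc_f_rc_11_3 lc_f_Cert_tree) (@D3.rec (fun _ => (Cert rels S Gen.f)) lc_f_rc_5_3 lc_f_Cert_tree lc_f_rc_25_0 lc_f_rc_11_3 lc_f_rc_29_2 lc_f_rc_16_1 lc_f_Cert_tree lc_f_Cert_tree lc_f_rc_11_1 lc_f_rc_25_0 lc_f_Cert_tree lc_f_rc_11_1 lc_f_Cert_tree lc_f_rc_25_0 lc_f_rc_26_2 lc_f_rc_5_3 lc_f_rc_25_0 lc_f_Cert_tree lc_f_Cert_tree lc_f_rc_25_0 lc_f_rc_29_2 lc_f_Cert_tree lc_f_Cert_tree lc_f_rc_25_0 lc_f_Cert_tree lc_f_rc_11_3 lc_f_rc_25_0 lc_f_rc_25_0 lc_f_Cert_tree lc_f_rc_25_0 lc_f_Cert_tree lc_f_Cert_tree lc_f_rc_25_0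 lc_f_rc_11_3 lc_f_rc_5_1 lc_f_rc_16_1 lc_f_rc_11_1 lc_f_rc_25_0 lc_f_rc_11_3 lc_f_rc_29_4) (@D3.rec (fun _ => (Cert rels S Gen.f)) lc_f_rc_5_1 lc_f_rc_11_3 lc_f_rc_29_2 lc_f_Cert_tree lc_f_Cert_tree lc_f_rc_5_1 lc_f_rc_20_1 lc_f_rc_29_4 lc_f_Cert_tree lc_f_Cert_tree lc_f_Cert_tree lc_f_rc_25_0 lc_f_Cert_tree lc_f_Cert_tree lc_f_rc_25_0 lc_f_rc_25_1 lc_f_Cert_tree lc_f_rc_31_13 lc_f_rc_29_2 lc_f_rc_11_3 lc_f_rc_5_1 lc_f_rc_29_4 lc_f_rc_11_3 lc_f_rc_25_0 lc_f_Cert_tree lc_f_Cert_tree lc_f_rc_25_0 lc_f_rc_29_2 lc_f_rc_29_2 lc_f_rc_20_1 lc_f_rc_25_0 lc_f_Cert_tree lc_f_rc_25_0 lc_f_rc_25_0 lc_f_Cert_tree lc_f_rc_25_0 lc_f_Cert_tree lc_f_Cert_tree lc_f_rc_25_0 lc_f_rc_11_3) (@D3.rec (fun _ => (Cert rels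 S Gen.f)) lc_f_rc_5_1 lc_f_Cert_tree lc_f_rc_25_0 lc_f_Cert_tree lc_f_rc_25_0 lc_f_rc_11_3 lc_f_rc_29_4 lc_f_rc_29_2 lc_f_Cert_tree lc_f_rc_11_3 lc_f_rc_20_1 lc_f_rc_16_1 lc_f_rc_23_1 lc_f_Cert_tree lc_f_Cert_tree lc_f_rc_25_0 lc_f_Cert_tree lc_f_rc_23_1 lc_f_Cert_tree lc_f_rc_16_1 lc_f_rc_25_0 lc_f_Cert_tree lc_f_Cert_tree lc_f_rc_25_0 lc_f_rc_29_2 lc_f_Cert_tree lc_f_Cert_tree lc_f_rc_25_0 lc_f_Cert_tree lc_f_rc_25_0 lc_f_rc_25_0 lc_f_rc_11_3 lc_f_rc_20_1 lc_f_rc_29_2 lc_f_rc_16_1 lc_f_Cert_tree lc_f_Cert_tree lc_f_rc_29_2 lc_f_rc_29_2 lc_f_rc_29_2) (@D3.rec (fun _ => (Cert rels S Gen.f)) lc_f_rc_11_3 lc_f_Cert_tree lc_f_Cert_tree lc_f_rc_25_0 lc_f_Cert_tree lc_f_rc_25_0 lc_f_Cert_tree lc_f_rc_5_1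 lc_f_rc_16_1 lc_f_rc_23_1 lc_f_Cert_tree lc_f_Cert_tree lc_f_rc_25_0 lc_f_Cert_tree lc_f_rc_5_1 lc_f_Cert_tree lc_f_rc_16_1 lc_f_rc_29_2 lc_f_rc_29_2 lc_f_Cert_tree lc_f_rc_25_0 lc_f_rc_20_1 lc_f_rc_16_1 lc_f_Cert_tree lc_f_rc_16_1 lc_f_Cert_tree lc_f_Cert_tree lc_f_Cert_tree lc_f_rc_25_0 lc_f_rc_20_3 lc_f_rc_16_1 lc_f_Cert_tree lc_f_rc_25_0 lc_f_rc_25_0 lc_f_rc_29_4 lc_f_rc_20_1 lc_f_rc_16_1 lc_f_Cert_tree lc_f_rc_20_1 lc_f_Cert_tree) (@D3.rec (fun _ => (Cert rels S Gen.f)) lc_f_rc_20_3 lc_f_Cert_tree lc_f_rc_25_0 lc_f_rc_23_1 lc_f_rc_25_1 lc_f_rc_31_10 lc_f_rc_5_3 lc_f_rc_25_0 lc_f_rc_29_4 lc_f_rc_29_4 lc_f_rc_5_1 lc_f_rc_31_1 lc_f_rc_23_3 lc_f_rc_25_0 lc_f_rc_29_2 lc_f_rc_25_0 lc_f_rc_11_3 lc_f_rc_5_1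 lc_f_rc_11_1 lc_f_rc_30_11 lc_f_rc_25_0 lc_f_rc_5_3 lc_f_rc_25_0 lc_f_rc_26_6 lc_f_rc_29_2 lc_f_rc_25_0 lc_f_rc_30_3 lc_f_rc_26_6 lc_f_Cert_tree lc_f_rc_25_0 lc_f_rc_11_1 lc_f_rc_25_0 lc_f_rc_23_3 lc_f_rc_11_3 lc_f_rc_29_2 lc_f_rc_26_6 lc_f_rc_25_0 lc_f_rc_29_4 lc_f_rc_29_2 lc_f_Cert_tree) (@D3.rec (fun _ => (Cert rels S Gen.f)) lc_f_Cert_tree lc_f_rc_25_0 lc_f_rc_11_3 lc_f_rc_11_3 lc_f_rc_16_1 lc_f_rc_29_4 lc_f_Cert_tree lc_f_rc_25_0 lc_f_rc_11_3 lc_f_rc_25_1 lc_f_rc_25_0 lc_f_rc_25_0 lc_f_rc_25_0 lc_f_rc_25_0 lc_f_rc_11_3 lc_f_rc_29_2 lc_f_rc_11_3 lc_f_Cert_tree lc_f_rc_29_2 lc_f_rc_5_3 lc_f_Cert_tree lc_f_rc_25_0 lc_f_Cert_tree lc_f_rc_5_1 lc_f_rc_11_3 lc_f_rc_29_4 lc_f_rc_5_1 lc_f_rc_25_0 lc_f_rc_26_2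 lc_f_rc_29_4 lc_f_rc_11_3 lc_f_rc_25_0 lc_f_rc_29_4 lc_f_rc_11_1 lc_f_rc_29_4 lc_f_rc_26_6 lc_f_Cert_tree lc_f_rc_25_0 lc_f_rc_5_1 lc_f_rc_26_2) (@D3.rec (fun _ => (Cert rels S Gen.f)) lc_f_rc_11_1 lc_f_rc_25_0 lc_f_rc_11_3 lc_f_rc_23_1 lc_f_Cert_tree lc_f_rc_29_4 lc_f_Cert_tree lc_f_rc_25_0 lc_f_rc_29_2 lc_f_Cert_tree lc_f_Cert_tree lc_f_Cert_tree lc_f_rc_25_0 lc_f_rc_11_1 lc_f_Cert_tree lc_f_rc_25_0 lc_f_rc_26_4 lc_f_rc_25_0 lc_f_rc_26_6 lc_f_rc_25_0 lc_f_rc_20_1 lc_f_rc_26_0 lc_f_rc_26_6 lc_f_Cert_tree lc_f_rc_5_3 lc_f_Cert_tree lc_f_rc_25_0 lc_f_rc_11_3 lc_f_rc_29_2 lc_f_rc_16_1 lc_f_Cert_tree lc_f_rc_20_1 lc_f_Cert_tree lc_f_rc_25_0 lc_f_rc_5_1 lc_f_rc_31_1 lc_f_rc_11_3 lc_f_rc_5_1 lc_f_rc_16_1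 lc_f_rc_29_2) (@D3.rec (fun _ => (Cert rels S Gen.f)) lc_f_rc_5_1 lc_f_rc_29_2 lc_f_rc_26_6 lc_f_rc_25_0 lc_f_rc_25_0 lc_f_rc_31_4 lc_f_rc_26_6 lc_f_rc_25_0 lc_f_rc_30_11 lc_f_rc_20_1 lc_f_rc_26_6 lc_f_rc_5_3 lc_f_rc_25_0 lc_f_rc_5_3 lc_f_rc_25_0 lc_f_rc_26_2 lc_f_rc_11_3 lc_f_rc_11_1 lc_f_rc_25_0 lc_f_rc_29_4 lc_f_Cert_tree lc_f_rc_25_0 lc_f_rc_11_3 lc_f_rc_26_6 lc_f_rc_25_0 lc_f_rc_5_1 lc_f_rc_16_1 lc_f_rc_11_3 lc_f_rc_26_2 lc_f_Cert_tree lc_f_rc_25_0 lc_f_rc_11_3 lc_f_rc_29_2 lc_f_rc_25_0 lc_f_rc_25_0 lc_f_rc_11_3 lc_f_rc_29_2 lc_f_rc_16_1 lc_f_Cert_tree lc_f_rc_31_4) (@D3.rec (fun _ => (Cert rels S Gen.f)) lc_f_rc_16_1 lc_f_rc_11_5 lc_f_rc_16_1 lc_f_rc_11_3 lc_f_rc_5_1 lc_f_rc_5_1 lc_f_rc_16_1 lc_f_rc_11_3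 lc_f_rc_11_3 lc_f_rc_5_1 lc_f_rc_29_2 lc_f_Cert_tree lc_f_Cert_tree lc_f_rc_11_1 lc_f_rc_25_0 lc_f_rc_20_1 lc_f_Cert_tree lc_f_rc_25_0 lc_f_rc_11_1 lc_f_rc_5_3 lc_f_rc_16_3 lc_f_rc_25_0 lc_f_rc_11_5 lc_f_rc_25_0 lc_f_rc_25_0 lc_f_rc_29_4 lc_f_rc_25_0 lc_f_rc_29_2 lc_f_rc_25_0 lc_f_rc_25_0 lc_f_rc_30_11 lc_f_rc_25_0 lc_f_rc_5_1 lc_f_rc_31_7 lc_f_rc_25_0 lc_f_rc_29_2 lc_f_rc_29_2 lc_f_rc_25_0 lc_f_Cert_tree lc_f_rc_25_0) (@D3.rec (fun _ => (Cert rels S Gen.f)) lc_f_rc_25_0 lc_f_rc_16_1 lc_f_rc_29_2 lc_f_rc_26_6 lc_f_Cert_tree lc_f_rc_11_3 lc_f_rc_25_0 lc_f_Cert_tree lc_f_rc_29_4 lc_f_rc_31_10 lc_f_rc_25_0 lc_f_rc_20_1 lc_f_rc_11_3 lc_f_rc_16_1 lc_f_rc_16_3 lc_f_rc_25_0 lc_f_rc_11_3 lc_f_rc_11_3 lc_f_rc_29_4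 lc_f_rc_31_4 lc_f_rc_5_3 lc_f_rc_25_0 lc_f_rc_11_3 lc_f_rc_29_2 lc_f_rc_20_3 lc_f_rc_11_3 lc_f_rc_29_4 lc_f_rc_5_1 lc_f_rc_29_2 lc_f_Cert_tree lc_f_rc_29_2 lc_f_rc_25_0 lc_f_rc_29_2 lc_f_rc_11_3 lc_f_Cert_tree lc_f_rc_23_1 lc_f_rc_23_3 lc_f_rc_29_2 lc_f_Cert_tree lc_f_rc_5_1) (@D3.rec (fun _ => (Cert rels S Gen.f)) lc_f_rc_25_0 lc_f_rc_29_2 lc_f_rc_16_1 lc_f_rc_25_0 lc_f_rc_25_0 lc_f_rc_20_1 lc_f_rc_5_3 lc_f_rc_29_2 lc_f_rc_25_0 lc_f_rc_29_2 lc_f_Cert_tree lc_f_rc_25_0 lc_f_Cert_tree lc_f_rc_25_0 lc_f_rc_25_0 lc_f_rc_29_2 lc_f_rc_11_3 lc_f_rc_25_0 lc_f_rc_11_3 lc_f_rc_11_3 lc_f_Cert_tree lc_f_rc_25_0 lc_f_rc_11_3 lc_f_rc_11_1 lc_f_rc_25_0 lc_f_rc_25_0 lc_f_rc_11_3 lc_f_rc_5_1 lc_f_rc_16_1 lc_f_Cert_tree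 lc_f_rc_11_3 lc_f_Cert_tree lc_f_rc_25_0 lc_f_rc_11_1 lc_f_rc_5_1 lc_f_rc_29_2 lc_f_Cert_tree lc_f_rc_31_10 lc_f_rc_30_11 lc_f_Cert_tree) (@D3.rec (fun _ => (Cert rels S Gen.f)) lc_f_rc_25_0 lc_f_rc_5_3 lc_f_rc_25_0 lc_f_rc_11_3 lc_f_rc_25_0 lc_f_rc_29_4 lc_f_Cert_tree lc_f_rc_20_3 lc_f_rc_25_0 lc_f_rc_5_1 lc_f_Cert_tree lc_f_rc_16_1 lc_f_Cert_tree lc_f_rc_16_1 lc_f_rc_25_0 lc_f_rc_29_2 lc_f_rc_16_1 lc_f_rc_25_0 lc_f_rc_25_0 lc_f_Cert_tree lc_f_Cert_tree lc_f_rc_25_0 lc_f_rc_11_3 lc_f_rc_5_3 lc_f_rc_29_2 lc_f_rc_25_0 lc_f_rc_16_3 lc_f_rc_11_3 lc_f_rc_26_2 lc_f_rc_29_4 lc_f_rc_11_3 lc_f_Cert_tree lc_f_Cert_tree lc_f_rc_25_0 lc_f_Cert_tree lc_f_rc_29_2 lc_f_rc_26_2 lc_f_rc_11_1 lc_f_rc_20_1 lc_f_rc_11_3)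 (@D3.rec (fun _ => (Cert rels S Gen.f)) lc_f_rc_11_3 lc_f_rc_5_1 lc_f_rc_11_3 lc_f_rc_29_2 lc_f_rc_5_3 lc_f_Cert_tree lc_f_rc_20_3 lc_f_rc_25_0 lc_f_rc_16_1 lc_f_rc_29_2 lc_f_rc_16_1 lc_f_rc_25_0 lc_f_Cert_tree lc_f_rc_30_11 lc_f_Cert_tree lc_f_rc_25_0 lc_f_rc_26_2 lc_f_rc_16_1 lc_f_rc_29_4 lc_f_rc_25_0 lc_f_Cert_tree lc_f_rc_25_0 lc_f_rc_29_2 lc_f_rc_25_0 lc_f_rc_25_0 lc_f_rc_29_4 lc_f_rc_16_3 lc_f_Cert_tree lc_f_rc_25_0 lc_f_rc_11_3 lc_f_rc_20_3 lc_f_rc_25_0 lc_f_rc_11_3 lc_f_rc_25_0 lc_f_rc_26_2 lc_f_rc_29_2 lc_f_Cert_tree lc_f_rc_5_1 lc_f_rc_5_1 lc_f_rc_5_1) (@D3.rec (fun _ => (Cert rels S Gen.f)) lc_f_rc_23_1 lc_f_rc_30_15 lc_f_Cert_tree lc_f_rc_25_0 lc_f_rc_11_1 lc_f_rc_23_1 lc_f_rc_16_3 lc_f_rc_5_1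 lc_f_rc_11_1 lc_f_rc_5_3 lc_f_Cert_tree lc_f_rc_25_0 lc_f_rc_29_2 lc_f_Cert_tree lc_f_rc_25_0 lc_f_rc_25_0 lc_f_rc_5_3 lc_f_rc_25_0 lc_f_rc_29_4 lc_f_rc_29_2 lc_f_rc_29_2 lc_f_rc_26_6 lc_f_rc_25_0 lc_f_Cert_tree lc_f_rc_30_11 lc_f_rc_11_5 lc_f_rc_25_0 lc_f_rc_11_1 lc_f_rc_20_1 lc_f_rc_29_4 lc_f_rc_5_3 lc_f_Cert_tree lc_f_rc_25_0 lc_f_rc_26_6 lc_f_rc_29_4 lc_f_rc_23_1 lc_f_rc_5_3 lc_f_Cert_tree lc_f_rc_25_0 lc_f_rc_20_1) (@D3.rec (fun _ => (Cert rels S Gen.f)) lc_f_rc_5_3 lc_f_rc_11_3 lc_f_rc_11_3 lc_f_Cert_tree lc_f_rc_25_0 lc_f_rc_11_3 lc_f_rc_11_3 lc_f_rc_16_1 lc_f_Cert_tree lc_f_rc_5_3 lc_f_rc_25_0 lc_f_Cert_tree lc_f_rc_16_1 lc_f_rc_16_1 lc_f_rc_5_1 lc_f_rc_25_0 lc_f_rc_11_3 lc_f_rc_26_6 lc_f_rc_20_3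 lc_f_rc_25_0 lc_f_Cert_tree lc_f_rc_5_1 lc_f_rc_25_0 lc_f_rc_26_2 lc_f_rc_31_7 lc_f_rc_11_3 lc_f_rc_16_1 lc_f_rc_29_2 lc_f_rc_26_6 lc_f_rc_25_0 lc_f_rc_11_3 lc_f_rc_26_2 lc_f_rc_25_0 lc_f_rc_25_0 lc_f_rc_11_3 lc_f_rc_26_4 lc_f_rc_11_3 lc_f_rc_5_1 lc_f_rc_16_1 lc_f_rc_20_3) (@D3.rec (fun _ => (Cert rels S Gen.f)) lc_f_rc_11_3 lc_f_rc_16_1 lc_f_rc_5_1 lc_f_rc_16_1 lc_f_rc_31_7 lc_f_rc_11_1 lc_f_rc_29_4 lc_f_rc_11_1 lc_f_rc_11_1 lc_f_rc_16_1 lc_f_rc_11_1 lc_f_rc_29_4 lc_f_rc_11_1 lc_f_rc_11_3 lc_f_rc_20_1 lc_f_Cert_tree lc_f_rc_25_0 lc_f_rc_25_1 lc_f_rc_11_3 lc_f_rc_25_0 lc_f_rc_26_4 lc_f_rc_25_0 lc_f_rc_20_3 lc_f_rc_5_3 lc_f_rc_25_0 lc_f_rc_26_2 lc_f_rc_11_3 lc_f_rc_11_3 lc_f_Cert_tree lc_f_rc_25_0 lc_f_rc_26_6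 lc_f_rc_25_0 lc_f_rc_11_3 lc_f_rc_5_1 lc_f_Cert_tree lc_f_rc_11_3 lc_f_rc_25_0 lc_f_Cert_tree lc_f_rc_16_1 lc_f_rc_25_0)
def ce_f_9 : D2 → D3 → (Cert rels S Gen.f) := @D2.rec (fun _ => D3 → (Cert rels S Gen.f)) (@D3.rec (fun _ => (Cert rels S Gen.f)) lc_f_rc_31_4 lc_f_rc_11_3 lc_f_Cert_tree lc_f_Cert_tree lc_f_rc_25_0 lc_f_rc_29_2 lc_f_rc_11_1 lc_f_rc_29_4 lc_f_rc_11_3 lc_f_rc_11_3 lc_f_rc_16_1 lc_f_rc_29_2 lc_f_Cert_tree lc_f_rc_25_0 lc_f_rc_5_1 lc_f_rc_29_2 lc_f_Cert_tree lc_f_rc_5_3 lc_f_rc_25_0 lc_f_rc_11_3 lc_f_Cert_tree lc_f_Cert_tree lc_f_Cert_tree lc_f_rc_25_0 lc_f_rc_11_3 lc_f_rc_29_2 lc_f_rc_16_1 lc_f_Cert_tree lc_f_rc_26_2 lc_f_rc_25_0 lc_f_rc_16_1 lc_f_rc_29_2 lc_f_rc_20_1 lc_f_rc_26_2 lc_f_rc_25_0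 lc_f_Cert_tree lc_f_rc_25_0 lc_f_rc_26_6 lc_f_rc_25_0 lc_f_rc_29_4) (@D3.rec (fun _ => (Cert rels S Gen.f)) lc_f_rc_25_0 lc_f_rc_11_5 lc_f_Cert_tree lc_f_rc_11_3 lc_f_rc_25_0 lc_f_Cert_tree lc_f_rc_11_3 lc_f_Cert_tree lc_f_rc_16_1 lc_f_rc_29_2 lc_f_rc_20_1 lc_f_rc_25_0 lc_f_rc_5_3 lc_f_rc_23_3 lc_f_rc_25_0 lc_f_rc_25_0 lc_f_rc_29_4 lc_f_rc_25_0 lc_f_Cert_tree lc_f_rc_5_1 lc_f_rc_25_0 lc_f_rc_5_1 lc_f_rc_25_0 lc_f_rc_11_3 lc_f_rc_11_3 lc_f_rc_29_4 lc_f_rc_31_4 lc_f_rc_25_0 lc_f_rc_11_3 lc_f_Cert_tree lc_f_Cert_tree lc_f_Cert_tree lc_f_rc_25_0 lc_f_rc_11_3 lc_f_rc_29_2 lc_f_rc_16_1 lc_f_Cert_tree lc_f_rc_5_3 lc_f_rc_5_3 lc_f_rc_25_0) (@D3.rec (fun _ => (Cert rels S Gen.f)) lc_f_rc_11_1 lc_f_Cert_tree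 lc_f_rc_25_0 lc_f_Cert_tree lc_f_rc_25_0 lc_f_rc_29_4 lc_f_rc_5_1 lc_f_rc_16_1 lc_f_rc_29_2 lc_f_rc_11_1 lc_f_rc_16_1 lc_f_rc_29_2 lc_f_rc_16_1 lc_f_Cert_tree lc_f_rc_25_0 lc_f_rc_20_1 lc_f_rc_5_1 lc_f_rc_29_2 lc_f_Cert_tree lc_f_rc_25_0 lc_f_rc_29_4 lc_f_Cert_tree lc_f_rc_25_0 lc_f_rc_25_0 lc_f_rc_16_3 lc_f_rc_5_3 lc_f_rc_11_3 lc_f_rc_29_4 lc_f_rc_25_0 lc_f_rc_16_1 lc_f_rc_25_0 lc_f_rc_5_1 lc_f_rc_11_3 lc_f_rc_29_4 lc_f_rc_11_3 lc_f_rc_26_6 lc_f_rc_29_2 lc_f_rc_25_0 lc_f_Cert_tree lc_f_Cert_tree) (@D3.rec (fun _ => (Cert rels S Gen.f)) lc_f_rc_25_0 lc_f_rc_16_1 lc_f_Cert_tree lc_f_rc_11_3 lc_f_rc_11_1 lc_f_rc_25_0 lc_f_rc_5_1 lc_f_rc_16_1 lc_f_rc_11_1 lc_f_Cert_tree lc_f_rc_25_0 lc_f_rc_20_1 lc_f_rc_20_1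 lc_f_rc_20_1 lc_f_rc_5_1 lc_f_rc_5_1 lc_f_rc_16_1 lc_f_rc_23_1 lc_f_rc_29_2 lc_f_Cert_tree lc_f_rc_5_3 lc_f_Cert_tree lc_f_rc_25_0 lc_f_rc_11_5 lc_f_Cert_tree lc_f_rc_25_0 lc_f_Cert_tree lc_f_rc_25_0 lc_f_rc_29_4 lc_f_rc_25_0 lc_f_Cert_tree lc_f_rc_5_3 lc_f_Cert_tree lc_f_Cert_tree lc_f_rc_25_0 lc_f_rc_11_3 lc_f_rc_5_1 lc_f_rc_16_1 lc_f_rc_29_2 lc_f_Cert_tree) (@D3.rec (fun _ => (Cert rels S Gen.f)) lc_f_rc_29_2 lc_f_rc_29_2 lc_f_rc_20_1 lc_f_Cert_tree lc_f_rc_25_0 lc_f_rc_5_1 lc_f_rc_11_3 lc_f_rc_11_1 lc_f_rc_26_6 lc_f_rc_11_3 lc_f_rc_25_1 lc_f_rc_23_1 lc_f_rc_26_2 lc_f_rc_30_3 lc_f_rc_5_1 lc_f_rc_25_0 lc_f_rc_11_3 lc_f_rc_11_1 lc_f_rc_25_0 lc_f_rc_26_0 lc_f_rc_20_1 lc_f_rc_25_0 lc_f_rc_11_3 lc_f_Cert_tree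 lc_f_rc_26_4 lc_f_rc_25_0 lc_f_rc_5_1 lc_f_rc_16_1 lc_f_rc_29_4 lc_f_rc_11_3 lc_f_Cert_tree lc_f_rc_29_2 lc_f_rc_20_1 lc_f_rc_25_0 lc_f_rc_29_2 lc_f_rc_29_2 lc_f_Cert_tree lc_f_rc_25_0 lc_f_rc_20_1 lc_f_rc_16_1) (@D3.rec (fun _ => (Cert rels S Gen.f)) lc_f_rc_29_2 lc_f_rc_29_2 lc_f_Cert_tree lc_f_Cert_tree lc_f_Cert_tree lc_f_rc_25_0 lc_f_rc_16_1 lc_f_Cert_tree lc_f_Cert_tree lc_f_rc_25_0 lc_f_rc_11_3 lc_f_rc_20_1 lc_f_rc_5_3 lc_f_Cert_tree lc_f_rc_25_0 lc_f_rc_11_3 lc_f_rc_5_1 lc_f_rc_16_1 lc_f_rc_29_4 lc_f_rc_11_1 lc_f_Cert_tree lc_f_rc_25_0 lc_f_rc_5_1 lc_f_Cert_tree lc_f_Cert_tree lc_f_rc_25_0 lc_f_Cert_tree lc_f_Cert_tree lc_f_rc_25_0 lc_f_rc_29_4 lc_f_Cert_tree lc_f_rc_29_2 lc_f_rc_25_0 lc_f_rc_11_3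 lc_f_rc_25_0 lc_f_rc_25_0 lc_f_rc_20_1 lc_f_Cert_tree lc_f_Cert_tree lc_f_rc_25_0) (@D3.rec (fun _ => (Cert rels S Gen.f)) lc_f_rc_11_3 lc_f_rc_30_7 lc_f_rc_5_1 lc_f_rc_11_1 lc_f_Cert_tree lc_f_rc_25_0 lc_f_rc_25_0 lc_f_rc_29_4 lc_f_Cert_tree lc_f_Cert_tree lc_f_rc_5_1 lc_f_rc_20_1 lc_f_rc_29_2 lc_f_rc_11_1 lc_f_rc_5_3 lc_f_Cert_tree lc_f_rc_25_0 lc_f_rc_5_3 lc_f_Cert_tree lc_f_rc_25_0 lc_f_rc_11_3 lc_f_Cert_tree lc_f_rc_29_2 lc_f_rc_29_2 lc_f_rc_16_1 lc_f_rc_23_1 lc_f_Cert_tree lc_f_rc_25_0 lc_f_rc_11_3 lc_f_Cert_tree lc_f_Cert_tree lc_f_rc_25_0 lc_f_Cert_tree lc_f_rc_5_1 lc_f_Cert_tree lc_f_rc_16_1 lc_f_Cert_tree lc_f_Cert_tree lc_f_rc_25_0 lc_f_rc_26_6) (@D3.rec (fun _ => (Cert rels S Gen.f)) lc_f_rc_5_1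 lc_f_Cert_tree lc_f_rc_16_1 lc_f_Cert_tree lc_f_Cert_tree lc_f_Cert_tree lc_f_rc_25_0 lc_f_rc_29_2 lc_f_rc_16_1 lc_f_Cert_tree lc_f_rc_30_15 lc_f_Cert_tree lc_f_rc_25_0 lc_f_rc_16_3 lc_f_rc_11_3 lc_f_rc_11_3 lc_f_rc_5_3 lc_f_rc_16_3 lc_f_rc_25_0 lc_f_rc_25_0 lc_f_rc_26_2 lc_f_rc_25_0 lc_f_rc_29_4 lc_f_rc_5_1 lc_f_rc_16_1 lc_f_rc_29_2 lc_f_rc_29_2 lc_f_rc_29_4 lc_f_rc_16_3 lc_f_rc_25_0 lc_f_rc_29_2 lc_f_rc_5_1 lc_f_rc_29_2 lc_f_Cert_tree lc_f_rc_5_3 lc_f_rc_11_5 lc_f_rc_25_0 lc_f_rc_11_3 lc_f_rc_5_3 lc_f_Cert_tree) (@D3.rec (fun _ => (Cert rels S Gen.f)) lc_f_rc_25_0 lc_f_rc_11_3 lc_f_rc_16_1 lc_f_rc_29_4 lc_f_Cert_tree lc_f_Cert_tree lc_f_rc_25_0 lc_f_Cert_tree lc_f_Cert_tree lc_f_rc_25_0 lc_f_rc_29_4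 lc_f_rc_25_1 lc_f_rc_25_0 lc_f_rc_5_3 lc_f_rc_25_0 lc_f_rc_11_3 lc_f_rc_5_1 lc_f_rc_11_3 lc_f_rc_29_2 lc_f_Cert_tree lc_f_rc_5_1 lc_f_rc_20_1 lc_f_rc_29_2 lc_f_rc_5_3 lc_f_Cert_tree lc_f_rc_25_0 lc_f_rc_30_3 lc_f_rc_29_2 lc_f_rc_29_2 lc_f_rc_5_3 lc_f_rc_11_3 lc_f_Cert_tree lc_f_rc_25_0 lc_f_rc_11_3 lc_f_rc_5_1 lc_f_rc_20_1 lc_f_rc_16_3 lc_f_rc_25_0 lc_f_rc_11_1 lc_f_Cert_tree) (@D3.rec (fun _ => (Cert rels S Gen.f)) lc_f_rc_25_0 lc_f_rc_25_0 lc_f_rc_11_3 lc_f_rc_5_1 lc_f_rc_16_1 lc_f_rc_29_4 lc_f_rc_29_2 lc_f_rc_5_1 lc_f_rc_29_2 lc_f_rc_16_1 lc_f_rc_11_1 lc_f_rc_25_0 lc_f_rc_26_6 lc_f_rc_16_1 lc_f_rc_5_3 lc_f_rc_25_0 lc_f_rc_23_1 lc_f_rc_16_1 lc_f_rc_26_6 lc_f_rc_25_0 lc_f_rc_11_3 lc_f_rc_11_1 lc_f_rc_26_4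 lc_f_Cert_tree lc_f_Cert_tree lc_f_rc_25_0 lc_f_Cert_tree lc_f_Cert_tree lc_f_rc_25_0 lc_f_rc_5_1 lc_f_rc_25_1 lc_f_rc_11_1 lc_f_rc_25_0 lc_f_rc_11_3 lc_f_rc_25_0 lc_f_rc_31_10 lc_f_rc_11_3 lc_f_rc_5_1 lc_f_rc_20_1 lc_f_rc_29_4) (@D3.rec (fun _ => (Cert rels S Gen.f)) lc_f_rc_11_1 lc_f_rc_25_1 lc_f_rc_29_2 lc_f_Cert_tree lc_f_rc_5_1 lc_f_rc_29_2 lc_f_rc_11_3 lc_f_rc_23_1 lc_f_rc_20_1 lc_f_rc_23_3 lc_f_Cert_tree lc_f_rc_25_0 lc_f_rc_11_3 lc_f_rc_11_3 lc_f_rc_29_2 lc_f_Cert_tree lc_f_rc_11_1 lc_f_rc_25_0 lc_f_rc_25_0 lc_f_Cert_tree lc_f_rc_25_0 lc_f_rc_20_1 lc_f_rc_5_1 lc_f_rc_5_3 lc_f_rc_25_0 lc_f_rc_11_3 lc_f_rc_29_2 lc_f_rc_16_1 lc_f_Cert_tree lc_f_rc_31_4 lc_f_Cert_tree lc_f_rc_25_0 lc_f_rc_5_1 lc_f_Cert_tree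 lc_f_rc_5_3 lc_f_Cert_tree lc_f_Cert_tree lc_f_rc_25_0 lc_f_rc_25_1 lc_f_rc_5_1) (@D3.rec (fun _ => (Cert rels S Gen.f)) lc_f_rc_16_1 lc_f_rc_26_2 lc_f_rc_16_3 lc_f_rc_25_0 lc_f_Cert_tree lc_f_rc_20_3 lc_f_rc_25_0 lc_f_rc_26_2 lc_f_Cert_tree lc_f_rc_20_3 lc_f_rc_25_0 lc_f_Cert_tree lc_f_rc_20_3 lc_f_Cert_tree lc_f_rc_25_0 lc_f_rc_5_1 lc_f_rc_20_3 lc_f_rc_5_3 lc_f_rc_23_1 lc_f_rc_25_0 lc_f_rc_29_4 lc_f_Cert_tree lc_f_rc_5_3 lc_f_Cert_tree lc_f_rc_25_0 lc_f_rc_11_3 lc_f_rc_11_3 lc_f_rc_11_1 lc_f_rc_25_0 lc_f_rc_29_2 lc_f_rc_26_4 lc_f_Cert_tree lc_f_rc_5_1 lc_f_rc_5_3 lc_f_Cert_tree lc_f_rc_25_0 lc_f_rc_11_3 lc_f_rc_29_4 lc_f_rc_20_3 lc_f_Cert_tree) (@D3.rec (fun _ => (Cert rels S Gen.f)) lc_f_rc_11_1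 lc_f_rc_25_0 lc_f_rc_5_3 lc_f_Cert_tree lc_f_rc_25_0 lc_f_rc_11_1 lc_f_rc_16_3 lc_f_rc_5_1 lc_f_rc_16_1 lc_f_rc_23_1 lc_f_rc_29_2 lc_f_rc_11_3 lc_f_rc_25_1 lc_f_rc_26_2 lc_f_rc_25_0 lc_f_rc_25_0 lc_f_rc_29_4 lc_f_rc_16_3 lc_f_Cert_tree lc_f_rc_25_0 lc_f_rc_11_3 lc_f_Cert_tree lc_f_rc_11_1 lc_f_rc_25_0 lc_f_Cert_tree lc_f_rc_16_1 lc_f_rc_29_2 lc_f_rc_29_2 lc_f_rc_16_1 lc_f_Cert_tree lc_f_rc_20_1 lc_f_rc_16_1 lc_f_Cert_tree lc_f_rc_25_0 lc_f_rc_11_3 lc_f_rc_31_4 lc_f_rc_16_1 lc_f_rc_31_7 lc_f_Cert_tree lc_f_rc_29_2) (@D3.rec (fun _ => (Cert rels S Gen.f)) lc_f_rc_25_0 lc_f_rc_20_1 lc_f_rc_26_2 lc_f_rc_30_7 lc_f_rc_25_0 lc_f_Cert_tree lc_f_Cert_tree lc_f_rc_25_0 lc_f_Cert_tree lc_f_rc_23_3 lc_f_rc_29_2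 lc_f_rc_23_1 lc_f_Cert_tree lc_f_Cert_tree lc_f_rc_25_0 lc_f_rc_31_10 lc_f_rc_20_1 lc_f_rc_5_3 lc_f_rc_29_2 lc_f_rc_11_1 lc_f_rc_11_1 lc_f_rc_29_2 lc_f_rc_25_0 lc_f_rc_20_1 lc_f_rc_29_4 lc_f_Cert_tree lc_f_Cert_tree lc_f_rc_25_0 lc_f_rc_11_3 lc_f_Cert_tree lc_f_rc_25_0 lc_f_rc_29_2 lc_f_rc_29_2 lc_f_rc_26_2 lc_f_Cert_tree lc_f_rc_25_0 lc_f_rc_11_3 lc_f_Cert_tree lc_f_rc_25_0 lc_f_rc_25_0) (@D3.rec (fun _ => (Cert rels S Gen.f)) lc_f_Cert_tree lc_f_rc_25_0 lc_f_Cert_tree lc_f_rc_26_4 lc_f_rc_11_3 lc_f_Cert_tree lc_f_Cert_tree lc_f_rc_25_0 lc_f_Cert_tree lc_f_rc_25_0 lc_f_rc_16_1 lc_f_rc_11_1 lc_f_Cert_tree lc_f_rc_25_0 lc_f_rc_16_1 lc_f_rc_29_4 lc_f_rc_26_4 lc_f_Cert_tree lc_f_rc_25_0 lc_f_rc_11_3 lc_f_rc_11_1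 lc_f_rc_5_1 lc_f_rc_11_3 lc_f_rc_5_3 lc_f_rc_11_1 lc_f_rc_25_0 lc_f_rc_29_2 lc_f_rc_11_3 lc_f_rc_25_0 lc_f_rc_5_1 lc_f_rc_25_0 lc_f_rc_5_1 lc_f_rc_16_1 lc_f_rc_31_4 lc_f_Cert_tree lc_f_Cert_tree lc_f_rc_25_0 lc_f_rc_5_1 lc_f_rc_29_2 lc_f_rc_29_2) (@D3.rec (fun _ => (Cert rels S Gen.f)) lc_f_rc_20_1 lc_f_Cert_tree lc_f_rc_25_0 lc_f_rc_5_1 lc_f_Cert_tree lc_f_rc_25_0 lc_f_Cert_tree lc_f_rc_25_0 lc_f_rc_20_1 lc_f_rc_11_3 lc_f_rc_5_1 lc_f_rc_25_0 lc_f_rc_5_3 lc_f_rc_11_3 lc_f_rc_5_1 lc_f_rc_5_1 lc_f_rc_16_1 lc_f_rc_31_1 lc_f_rc_11_3 lc_f_rc_5_1 lc_f_rc_16_1 lc_f_Cert_tree lc_f_rc_25_0 lc_f_Cert_tree lc_f_rc_23_3 lc_f_rc_5_1 lc_f_rc_16_1 lc_f_rc_23_1 lc_f_rc_29_2 lc_f_rc_5_3 lc_f_Cert_tree lc_f_rc_25_0 lc_f_rc_11_1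 lc_f_Cert_tree lc_f_rc_25_0 lc_f_Cert_tree lc_f_rc_25_0 lc_f_rc_29_4 lc_f_Cert_tree lc_f_rc_25_0) (@D3.rec (fun _ => (Cert rels S Gen.f)) lc_f_Cert_tree lc_f_rc_11_3 lc_f_rc_5_3 lc_f_Cert_tree lc_f_rc_20_3 lc_f_rc_25_0 lc_f_rc_5_1 lc_f_rc_16_1 lc_f_rc_29_2 lc_f_rc_26_4 lc_f_rc_29_2 lc_f_rc_29_2 lc_f_rc_20_1 lc_f_Cert_tree lc_f_rc_25_0 lc_f_rc_16_1 lc_f_rc_25_1 lc_f_Cert_tree lc_f_rc_25_0 lc_f_Cert_tree lc_f_rc_11_3 lc_f_rc_25_0 lc_f_rc_30_11 lc_f_Cert_tree lc_f_rc_25_0 lc_f_rc_26_6 lc_f_rc_16_1 lc_f_rc_5_1 lc_f_rc_11_3 lc_f_rc_20_1 lc_f_rc_16_1 lc_f_rc_16_1 lc_f_rc_29_2 lc_f_Cert_tree lc_f_Cert_tree lc_f_Cert_tree lc_f_rc_25_0 lc_f_rc_11_3 lc_f_rc_5_3 lc_f_Cert_tree) (@D3.rec (fun _ => (Cert rels S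 Gen.f)) lc_f_rc_25_0 lc_f_rc_16_1 lc_f_Cert_tree lc_f_Cert_tree lc_f_rc_25_0 lc_f_Cert_tree lc_f_Cert_tree lc_f_rc_25_0 lc_f_rc_29_4 lc_f_rc_5_3 lc_f_Cert_tree lc_f_Cert_tree lc_f_rc_25_0 lc_f_Cert_tree lc_f_rc_31_7 lc_f_rc_25_0 lc_f_Cert_tree lc_f_Cert_tree lc_f_rc_25_0 lc_f_Cert_tree lc_f_rc_5_3 lc_f_rc_5_3 lc_f_Cert_tree lc_f_Cert_tree lc_f_Cert_tree lc_f_rc_25_0 lc_f_rc_25_0 lc_f_rc_11_3 lc_f_rc_29_2 lc_f_rc_11_3 lc_f_Cert_tree lc_f_rc_26_2 lc_f_rc_5_1 lc_f_rc_20_1 lc_f_rc_29_2 lc_f_rc_26_4 lc_f_Cert_tree lc_f_rc_29_2 lc_f_rc_29_2 lc_f_rc_16_1) (@D3.rec (fun _ => (Cert rels S Gen.f)) lc_f_rc_5_3 lc_f_Cert_tree lc_f_rc_25_0 lc_f_rc_5_1 lc_f_rc_26_6 lc_f_rc_25_0 lc_f_rc_29_2 lc_f_rc_11_3 lc_f_rc_5_3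 lc_f_Cert_tree lc_f_rc_25_0 lc_f_Cert_tree lc_f_rc_16_1 lc_f_rc_29_2 lc_f_rc_5_1 lc_f_Cert_tree lc_f_rc_25_0 lc_f_rc_25_0 lc_f_rc_11_3 lc_f_rc_26_4 lc_f_rc_16_1 lc_f_Cert_tree lc_f_rc_11_3 lc_f_rc_5_1 lc_f_rc_25_0 lc_f_rc_25_0 lc_f_rc_11_3 lc_f_rc_5_1 lc_f_rc_16_1 lc_f_rc_11_1 lc_f_Cert_tree lc_f_Cert_tree lc_f_rc_25_0 lc_f_rc_25_0 lc_f_rc_11_3 lc_f_rc_29_4 lc_f_rc_29_2 lc_f_rc_29_2 lc_f_rc_5_3 lc_f_Cert_tree) (@D3.rec (fun _ => (Cert rels S Gen.f)) lc_f_rc_25_0 lc_f_rc_5_1 lc_f_rc_25_0 lc_f_rc_26_2 lc_f_Cert_tree lc_f_Cert_tree lc_f_rc_16_1 lc_f_rc_16_1 lc_f_rc_29_2 lc_f_Cert_tree lc_f_Cert_tree lc_f_rc_11_1 lc_f_rc_25_0 lc_f_rc_5_1 lc_f_rc_11_5 lc_f_rc_29_2 lc_f_rc_20_1 lc_f_Cert_tree lc_f_Cert_tree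 lc_f_rc_25_0 lc_f_rc_20_1 lc_f_rc_25_0 lc_f_rc_5_3 lc_f_Cert_tree lc_f_rc_25_0 lc_f_rc_11_3 lc_f_Cert_tree lc_f_rc_11_3 lc_f_rc_29_2 lc_f_rc_16_1 lc_f_Cert_tree lc_f_rc_29_4 lc_f_rc_26_6 lc_f_rc_25_0 lc_f_rc_5_3 lc_f_rc_25_0 lc_f_rc_26_2 lc_f_rc_11_3 lc_f_Cert_tree lc_f_Cert_tree) (@D3.rec (fun _ => (Cert rels S Gen.f)) lc_f_rc_25_0 lc_f_rc_25_0 lc_f_rc_11_3 lc_f_rc_5_1 lc_f_rc_23_1 lc_f_rc_5_3 lc_f_rc_11_3 lc_f_Cert_tree lc_f_rc_25_0 lc_f_Cert_tree lc_f_rc_25_0 lc_f_rc_16_3 lc_f_rc_5_1 lc_f_rc_11_3 lc_f_rc_29_4 lc_f_rc_5_1 lc_f_rc_16_1 lc_f_rc_29_2 lc_f_Cert_tree lc_f_rc_31_1 lc_f_Cert_tree lc_f_Cert_tree lc_f_Cert_tree lc_f_rc_25_0 lc_f_rc_5_3 lc_f_rc_25_0 lc_f_rc_29_4 lc_f_rc_20_1 lc_f_rc_26_2 lc_f_Cert_tree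 lc_f_Cert_tree lc_f_rc_25_0 lc_f_rc_26_2 lc_f_rc_20_3 lc_f_rc_23_1 lc_f_rc_5_3 lc_f_rc_23_3 lc_f_rc_25_0 lc_f_Cert_tree lc_f_rc_25_0) (@D3.rec (fun _ => (Cert rels S Gen.f)) lc_f_Cert_tree lc_f_rc_26_6 lc_f_rc_25_0 lc_f_rc_23_1 lc_f_rc_5_3 lc_f_rc_25_0 lc_f_rc_11_3 lc_f_Cert_tree lc_f_rc_25_0 lc_f_rc_29_4 lc_f_rc_5_3 lc_f_Cert_tree lc_f_rc_25_0 lc_f_Cert_tree lc_f_Cert_tree lc_f_rc_25_0 lc_f_Cert_tree lc_f_rc_25_0 lc_f_rc_29_4 lc_f_rc_25_0 lc_f_rc_26_6 lc_f_Cert_tree lc_f_Cert_tree lc_f_rc_25_0 lc_f_Cert_tree lc_f_Cert_tree lc_f_rc_25_0 lc_f_rc_26_2 lc_f_rc_11_3 lc_f_Cert_tree lc_f_Cert_tree lc_f_Cert_tree lc_f_rc_25_0 lc_f_Cert_tree lc_f_rc_25_0 lc_f_Cert_tree lc_f_rc_26_6 lc_f_rc_25_0 lc_f_rc_5_1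 lc_f_rc_29_2) (@D3.rec (fun _ => (Cert rels S Gen.f)) lc_f_Cert_tree lc_f_rc_11_3 lc_f_Cert_tree lc_f_rc_29_2 lc_f_rc_25_0 lc_f_rc_5_1 lc_f_rc_16_1 lc_f_Cert_tree lc_f_Cert_tree lc_f_rc_29_2 lc_f_rc_29_2 lc_f_rc_20_1 lc_f_Cert_tree lc_f_rc_25_0 lc_f_rc_25_0 lc_f_Cert_tree lc_f_rc_11_3 lc_f_rc_16_3 lc_f_rc_29_4 lc_f_Cert_tree lc_f_rc_23_3 lc_f_rc_25_0 lc_f_rc_26_2 lc_f_rc_16_1 lc_f_Cert_tree lc_f_Cert_tree lc_f_Cert_tree lc_f_rc_25_0 lc_f_Cert_tree lc_f_rc_25_0 lc_f_Cert_tree lc_f_rc_26_6 lc_f_rc_25_0 lc_f_Cert_tree lc_f_rc_11_3 lc_f_Cert_tree lc_f_rc_25_0 lc_f_Cert_tree lc_f_Cert_tree lc_f_rc_25_0) (@D3.rec (fun _ => (Cert rels S Gen.f)) lc_f_rc_26_2 lc_f_rc_30_3 lc_f_rc_11_3 lc_f_Cert_tree lc_f_Cert_tree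 lc_f_rc_25_0 lc_f_Cert_tree lc_f_rc_25_0 lc_f_Cert_tree lc_f_rc_26_6 lc_f_rc_25_0 lc_f_Cert_tree lc_f_rc_11_3 lc_f_rc_20_1 lc_f_rc_16_1 lc_f_Cert_tree lc_f_rc_25_0 lc_f_Cert_tree lc_f_rc_25_0 lc_f_rc_11_3 lc_f_rc_31_10 lc_f_rc_20_1 lc_f_rc_26_6 lc_f_rc_23_1 lc_f_rc_20_3 lc_f_rc_16_1 lc_f_rc_11_5 lc_f_rc_25_0 lc_f_rc_25_0 lc_f_rc_29_2 lc_f_rc_20_1 lc_f_rc_16_1 lc_f_rc_29_2 lc_f_rc_25_0 lc_f_rc_5_1 lc_f_rc_11_3 lc_f_rc_16_1 lc_f_rc_20_1 lc_f_rc_5_3 lc_f_rc_25_0) (@D3.rec (fun _ => (Cert rels S Gen.f)) lc_f_rc_25_0 lc_f_rc_29_4 lc_f_rc_16_1 lc_f_Cert_tree lc_f_rc_5_3 lc_f_rc_25_0 lc_f_rc_16_1 lc_f_rc_5_1 lc_f_rc_20_1 lc_f_rc_30_11 lc_f_rc_25_0 lc_f_rc_30_15 lc_f_rc_25_0 lc_f_rc_11_3 lc_f_rc_25_0 lc_f_rc_25_0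 lc_f_rc_29_4 lc_f_Cert_tree lc_f_Cert_tree lc_f_rc_25_0 lc_f_Cert_tree lc_f_rc_25_0 lc_f_rc_11_3 lc_f_rc_25_0 lc_f_rc_25_0 lc_f_Cert_tree lc_f_rc_25_0 lc_f_Cert_tree lc_f_Cert_tree lc_f_rc_25_0 lc_f_rc_25_0 lc_f_rc_25_0 lc_f_rc_11_3 lc_f_rc_11_3 lc_f_rc_5_3 lc_f_rc_5_1 lc_f_rc_29_2 lc_f_Cert_tree lc_f_rc_25_0 lc_f_rc_11_1) (@D3.rec (fun _ => (Cert rels S Gen.f)) lc_f_rc_16_1 lc_f_rc_5_1 lc_f_rc_29_2 lc_f_rc_16_1 lc_f_Cert_tree lc_f_rc_25_0 lc_f_rc_31_13 lc_f_rc_29_2 lc_f_Cert_tree lc_f_rc_26_2 lc_f_rc_11_5 lc_f_rc_25_0 lc_f_rc_11_3 lc_f_rc_11_3 lc_f_rc_25_0 lc_f_Cert_tree lc_f_Cert_tree lc_f_rc_16_3 lc_f_rc_25_0 lc_f_rc_5_1 lc_f_rc_25_0 lc_f_rc_20_1 lc_f_rc_5_1 lc_f_rc_16_1 lc_f_rc_11_3 lc_f_rc_11_1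 lc_f_rc_23_1 lc_f_rc_25_0 lc_f_rc_23_1 lc_f_rc_16_1 lc_f_rc_11_3 lc_f_rc_29_4 lc_f_rc_29_4 lc_f_rc_30_7 lc_f_rc_25_0 lc_f_rc_5_1 lc_f_rc_16_1 lc_f_rc_29_2 lc_f_rc_11_1 lc_f_rc_16_1)
def ce_f_10 : D2 → D3 → (Cert rels S Gen.f) := @D2.rec (fun _ => D3 → (Cert rels S Gen.f)) (@D3.rec (fun _ => (Cert rels S Gen.f)) lc_f_rc_29_2 lc_f_rc_20_1 lc_f_Cert_tree lc_f_rc_25_0 lc_f_rc_11_3 lc_f_rc_11_5 lc_f_rc_16_3 lc_f_rc_11_3 lc_f_rc_29_4 lc_f_rc_11_3 lc_f_rc_20_1 lc_f_rc_16_1 lc_f_rc_20_1 lc_f_rc_16_1 lc_f_rc_29_2 lc_f_rc_20_1 lc_f_rc_16_1 lc_f_rc_16_1 lc_f_rc_11_1 lc_f_Cert_tree lc_f_rc_25_0 lc_f_rc_5_1 lc_f_rc_5_1 lc_f_Cert_tree lc_f_rc_26_2 lc_f_rc_11_5 lc_f_rc_25_0 lc_f_rc_25_1 lc_f_rc_11_5 lc_f_rc_5_3 lc_f_Cert_tree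 lc_f_rc_25_0 lc_f_rc_29_4 lc_f_Cert_tree lc_f_rc_25_0 lc_f_Cert_tree lc_f_rc_25_0 lc_f_rc_29_4 lc_f_rc_16_1 lc_f_rc_29_4) (@D3.rec (fun _ => (Cert rels S Gen.f)) lc_f_rc_11_3 lc_f_rc_29_2 lc_f_rc_11_3 lc_f_rc_29_2 lc_f_rc_25_0 lc_f_rc_26_2 lc_f_rc_16_1 lc_f_rc_29_2 lc_f_rc_20_1 lc_f_rc_11_1 lc_f_rc_29_2 lc_f_rc_25_0 lc_f_rc_26_6 lc_f_Cert_tree lc_f_rc_25_0 lc_f_rc_11_3 lc_f_rc_26_2 lc_f_rc_25_0 lc_f_rc_11_3 lc_f_rc_29_4 lc_f_rc_11_3 lc_f_rc_20_3 lc_f_Cert_tree lc_f_rc_20_3 lc_f_rc_20_3 lc_f_rc_25_0 lc_f_Cert_tree lc_f_Cert_tree lc_f_rc_16_1 lc_f_rc_29_2 lc_f_rc_5_3 lc_f_rc_25_0 lc_f_Cert_tree lc_f_rc_31_10 lc_f_rc_25_0 lc_f_rc_11_3 lc_f_rc_25_0 lc_f_rc_29_4 lc_f_rc_11_3 lc_f_rc_30_3) (@D3.rec (fun _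 => (Cert rels S Gen.f)) lc_f_rc_26_6 lc_f_rc_29_4 lc_f_rc_16_1 lc_f_Cert_tree lc_f_rc_11_3 lc_f_rc_5_3 lc_f_rc_26_6 lc_f_rc_25_0 lc_f_rc_5_3 lc_f_Cert_tree lc_f_rc_25_0 lc_f_rc_11_3 lc_f_Cert_tree lc_f_rc_25_0 lc_f_rc_25_0 lc_f_rc_26_2 lc_f_rc_11_3 lc_f_rc_30_7 lc_f_rc_25_0 lc_f_Cert_tree lc_f_rc_25_0 lc_f_rc_16_1 lc_f_rc_11_3 lc_f_rc_26_6 lc_f_rc_25_0 lc_f_rc_5_1 lc_f_rc_20_1 lc_f_rc_11_3 lc_f_rc_11_3 lc_f_rc_11_3 lc_f_rc_5_3 lc_f_rc_25_0 lc_f_rc_5_1 lc_f_rc_5_1 lc_f_Cert_tree lc_f_rc_25_0 lc_f_Cert_tree lc_f_rc_11_3 lc_f_Cert_tree lc_f_rc_25_0) (@D3.rec (fun _ => (Cert rels S Gen.f)) lc_f_rc_5_1 lc_f_rc_29_2 lc_f_rc_29_2 lc_f_rc_16_1 lc_f_Cert_tree lc_f_rc_5_1 lc_f_rc_29_2 lc_f_rc_25_0 lc_f_Cert_tree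 lc_f_rc_20_1 lc_f_rc_11_3 lc_f_rc_25_0 lc_f_rc_11_3 lc_f_rc_25_0 lc_f_rc_5_1 lc_f_rc_11_1 lc_f_rc_29_2 lc_f_rc_5_1 lc_f_rc_29_2 lc_f_rc_5_3 lc_f_rc_25_0 lc_f_rc_25_0 lc_f_rc_29_4 lc_f_rc_29_2 lc_f_rc_25_0 lc_f_rc_29_4 lc_f_rc_29_2 lc_f_rc_5_3 lc_f_rc_5_1 lc_f_rc_25_0 lc_f_rc_5_3 lc_f_rc_29_4 lc_f_rc_11_3 lc_f_rc_16_1 lc_f_rc_26_6 lc_f_rc_5_1 lc_f_rc_11_1 lc_f_rc_25_0 lc_f_rc_20_1 lc_f_Cert_tree) (@D3.rec (fun _ => (Cert rels S Gen.f)) lc_f_rc_25_0 lc_f_rc_11_3 lc_f_rc_20_1 lc_f_rc_5_3 lc_f_Cert_tree lc_f_rc_25_0 lc_f_rc_16_1 lc_f_rc_26_2 lc_f_rc_29_4 lc_f_rc_25_0 lc_f_rc_26_4 lc_f_rc_5_1 lc_f_rc_5_3 lc_f_rc_30_15 lc_f_rc_25_0 lc_f_rc_5_1 lc_f_rc_25_0 lc_f_rc_11_1 lc_f_Cert_tree lc_f_rc_25_0 lc_f_Cert_tree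 lc_f_Cert_tree lc_f_rc_25_0 lc_f_rc_29_4 lc_f_rc_23_1 lc_f_rc_30_11 lc_f_rc_5_3 lc_f_rc_25_0 lc_f_rc_26_6 lc_f_rc_16_1 lc_f_Cert_tree lc_f_rc_29_2 lc_f_rc_5_3 lc_f_rc_25_0 lc_f_rc_5_1 lc_f_rc_29_2 lc_f_rc_29_2 lc_f_rc_25_0 lc_f_rc_25_0 lc_f_rc_25_0) (@D3.rec (fun _ => (Cert rels S Gen.f)) lc_f_Cert_tree lc_f_rc_25_0 lc_f_rc_25_0 lc_f_Cert_tree lc_f_rc_25_0 lc_f_rc_5_3 lc_f_rc_11_3 lc_f_rc_25_0 lc_f_rc_25_0 lc_f_rc_11_3 lc_f_rc_26_6 lc_f_rc_5_1 lc_f_rc_16_1 lc_f_rc_11_3 lc_f_rc_11_3 lc_f_rc_5_1 lc_f_rc_20_1 lc_f_rc_16_1 lc_f_rc_11_3 lc_f_rc_5_3 lc_f_rc_26_6 lc_f_rc_25_0 lc_f_rc_11_3 lc_f_rc_16_1 lc_f_rc_5_1 lc_f_rc_20_1 lc_f_rc_29_2 lc_f_rc_16_1 lc_f_rc_5_1 lc_f_rc_16_1 lc_f_rc_23_1 lc_f_Cert_tree lc_f_rc_25_0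 lc_f_rc_23_1 lc_f_rc_30_11 lc_f_rc_25_0 lc_f_rc_5_3 lc_f_rc_20_1 lc_f_rc_26_6 lc_f_rc_5_1) (@D3.rec (fun _ => (Cert rels S Gen.f)) lc_f_rc_5_3 lc_f_rc_26_2 lc_f_rc_25_0 lc_f_rc_29_2 lc_f_rc_29_2 lc_f_rc_25_0 lc_f_rc_20_1 lc_f_rc_29_2 lc_f_rc_25_1 lc_f_rc_11_3 lc_f_rc_11_1 lc_f_rc_5_3 lc_f_rc_25_0 lc_f_rc_11_3 lc_f_rc_29_4 lc_f_rc_29_2 lc_f_rc_11_3 lc_f_rc_11_3 lc_f_rc_29_4 lc_f_rc_20_3 lc_f_rc_16_1 lc_f_rc_31_10 lc_f_Cert_tree lc_f_rc_30_19 lc_f_rc_5_1 lc_f_rc_29_4 lc_f_Cert_tree lc_f_rc_29_2 lc_f_rc_23_1 lc_f_rc_5_3 lc_f_Cert_tree lc_f_rc_25_0 lc_f_rc_5_1 lc_f_rc_30_7 lc_f_rc_25_0 lc_f_rc_25_0 lc_f_rc_25_0 lc_f_rc_11_3 lc_f_rc_26_2 lc_f_rc_5_1) (@D3.rec (fun _ => (Cert rels S Gen.f)) lc_f_rc_26_2 lc_f_rc_25_0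 lc_f_rc_29_2 lc_f_rc_5_1 lc_f_rc_11_3 lc_f_rc_25_0 lc_f_rc_20_1 lc_f_rc_16_1 lc_f_rc_23_3 lc_f_rc_16_1 lc_f_rc_16_1 lc_f_rc_11_3 lc_f_rc_29_4 lc_f_rc_11_3 lc_f_rc_29_4 lc_f_rc_31_7 lc_f_Cert_tree lc_f_rc_25_1 lc_f_rc_25_0 lc_f_rc_30_11 lc_f_rc_5_1 lc_f_rc_5_3 lc_f_rc_16_1 lc_f_rc_25_0 lc_f_rc_29_2 lc_f_rc_29_4 lc_f_Cert_tree lc_f_rc_16_1 lc_f_rc_25_0 lc_f_rc_29_2 lc_f_rc_11_3 lc_f_rc_16_1 lc_f_rc_25_0 lc_f_rc_25_0 lc_f_rc_30_7 lc_f_Cert_tree lc_f_rc_25_0 lc_f_rc_20_1 lc_f_rc_20_3 lc_f_rc_11_3) (@D3.rec (fun _ => (Cert rels S Gen.f)) lc_f_rc_16_1 lc_f_rc_16_1 lc_f_rc_29_2 lc_f_rc_25_0 lc_f_Cert_tree lc_f_rc_25_0 lc_f_rc_11_3 lc_f_rc_29_2 lc_f_rc_5_1 lc_f_rc_16_1 lc_f_rc_31_7 lc_f_Cert_tree lc_f_rc_25_0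 lc_f_rc_16_1 lc_f_rc_11_3 lc_f_rc_5_1 lc_f_rc_16_1 lc_f_rc_11_3 lc_f_Cert_tree lc_f_rc_5_1 lc_f_rc_5_1 lc_f_rc_26_2 lc_f_rc_29_4 lc_f_rc_25_0 lc_f_rc_11_3 lc_f_rc_23_1 lc_f_rc_29_2 lc_f_rc_25_0 lc_f_rc_11_3 lc_f_rc_5_1 lc_f_rc_20_1 lc_f_rc_30_3 lc_f_rc_25_0 lc_f_rc_20_3 lc_f_rc_5_1 lc_f_rc_31_7 lc_f_rc_29_2 lc_f_rc_5_1 lc_f_rc_26_2 lc_f_rc_29_4) (@D3.rec (fun _ => (Cert rels S Gen.f)) lc_f_rc_29_2 lc_f_rc_23_3 lc_f_rc_20_1 lc_f_rc_25_1 lc_f_rc_25_0 lc_f_rc_29_4 lc_f_rc_25_0 lc_f_rc_25_0 lc_f_Cert_tree lc_f_rc_25_0 lc_f_rc_20_1 lc_f_rc_5_1 lc_f_rc_11_3 lc_f_rc_5_3 lc_f_rc_5_3 lc_f_rc_25_0 lc_f_rc_25_0 lc_f_rc_11_1 lc_f_rc_25_0 lc_f_rc_20_1 lc_f_rc_23_3 lc_f_rc_11_1 lc_f_rc_25_0 lc_f_rc_29_4 lc_f_rc_5_1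 lc_f_rc_5_3 lc_f_rc_25_0 lc_f_rc_23_1 lc_f_Cert_tree lc_f_Cert_tree lc_f_rc_25_0 lc_f_rc_29_2 lc_f_Cert_tree lc_f_rc_25_0 lc_f_rc_25_0 lc_f_rc_5_1 lc_f_rc_29_4 lc_f_rc_20_1 lc_f_rc_5_1 lc_f_Cert_tree) (@D3.rec (fun _ => (Cert rels S Gen.f)) lc_f_Cert_tree lc_f_rc_5_3 lc_f_rc_25_0 lc_f_rc_25_0 lc_f_rc_5_1 lc_f_rc_26_2 lc_f_Cert_tree lc_f_rc_25_0 lc_f_rc_29_2 lc_f_rc_29_4 lc_f_rc_29_2 lc_f_Cert_tree lc_f_rc_29_4 lc_f_rc_25_0 lc_f_Cert_tree lc_f_rc_25_0 lc_f_rc_5_1 lc_f_rc_11_3 lc_f_rc_20_1 lc_f_rc_29_4 lc_f_rc_20_1 lc_f_Cert_tree lc_f_rc_25_0 lc_f_rc_5_3 lc_f_rc_23_1 lc_f_rc_25_0 lc_f_rc_25_0 lc_f_rc_25_0 lc_f_rc_29_2 lc_f_rc_25_0 lc_f_rc_11_3 lc_f_rc_25_0 lc_f_rc_25_0 lc_f_rc_29_4 lc_f_rc_25_0 lc_f_rc_11_3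 lc_f_rc_5_3 lc_f_rc_25_0 lc_f_rc_11_3 lc_f_rc_5_3) (@D3.rec (fun _ => (Cert rels S Gen.f)) lc_f_rc_11_3 lc_f_rc_5_1 lc_f_rc_16_1 lc_f_rc_20_3 lc_f_rc_5_1 lc_f_rc_16_1 lc_f_rc_31_7 lc_f_rc_26_4 lc_f_rc_20_1 lc_f_rc_16_1 lc_f_rc_5_3 lc_f_Cert_tree lc_f_rc_25_0 lc_f_rc_16_1 lc_f_rc_20_1 lc_f_rc_11_1 lc_f_rc_25_0 lc_f_rc_11_3 lc_f_rc_11_3 lc_f_rc_20_1 lc_f_rc_11_5 lc_f_rc_23_3 lc_f_rc_11_1 lc_f_rc_25_0 lc_f_rc_11_3 lc_f_rc_5_1 lc_f_rc_29_4 lc_f_rc_11_3 lc_f_rc_5_1 lc_f_rc_20_1 lc_f_rc_29_2 lc_f_rc_25_1 lc_f_rc_5_3 lc_f_Cert_tree lc_f_rc_25_0 lc_f_rc_20_1 lc_f_rc_5_3 lc_f_Cert_tree lc_f_rc_25_0 lc_f_rc_11_3) (@D3.rec (fun _ => (Cert rels S Gen.f)) lc_f_rc_31_10 lc_f_rc_16_1 lc_f_Cert_tree lc_f_rc_5_1 lc_f_rc_29_2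 lc_f_rc_16_1 lc_f_rc_5_3 lc_f_Cert_tree lc_f_rc_25_0 lc_f_rc_26_2 lc_f_rc_5_3 lc_f_rc_25_0 lc_f_rc_16_1 lc_f_rc_16_1 lc_f_rc_20_1 lc_f_rc_16_3 lc_f_rc_25_0 lc_f_rc_11_1 lc_f_rc_25_0 lc_f_rc_26_2 lc_f_rc_11_3 lc_f_rc_26_6 lc_f_rc_20_1 lc_f_rc_25_0 lc_f_rc_16_1 lc_f_rc_16_3 lc_f_rc_5_1 lc_f_rc_11_3 lc_f_rc_30_15 lc_f_rc_5_1 lc_f_rc_31_4 lc_f_Cert_tree lc_f_rc_5_3 lc_f_rc_25_0 lc_f_rc_5_1 lc_f_rc_20_3 lc_f_rc_20_1 lc_f_rc_23_1 lc_f_Cert_tree lc_f_rc_25_0) (@D3.rec (fun _ => (Cert rels S Gen.f)) lc_f_Cert_tree lc_f_rc_25_0 lc_f_rc_25_0 lc_f_rc_20_1 lc_f_rc_29_2 lc_f_rc_29_2 lc_f_rc_11_3 lc_f_rc_16_1 lc_f_rc_23_1 lc_f_Cert_tree lc_f_Cert_tree lc_f_rc_25_0 lc_f_rc_25_0 lc_f_rc_20_1 lc_f_Cert_tree lc_f_rc_25_0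 lc_f_rc_26_6 lc_f_Cert_tree lc_f_Cert_tree lc_f_rc_25_0 lc_f_rc_11_3 lc_f_rc_29_4 lc_f_rc_29_4 lc_f_rc_16_1 lc_f_rc_29_2 lc_f_rc_23_1 lc_f_rc_25_0 lc_f_rc_16_3 lc_f_Cert_tree lc_f_Cert_tree lc_f_Cert_tree lc_f_rc_25_0 lc_f_rc_25_0 lc_f_rc_11_3 lc_f_rc_25_0 lc_f_Cert_tree lc_f_rc_25_0 lc_f_rc_5_1 lc_f_rc_29_2 lc_f_Cert_tree) (@D3.rec (fun _ => (Cert rels S Gen.f)) lc_f_rc_25_0 lc_f_rc_25_0 lc_f_rc_11_3 lc_f_rc_29_4 lc_f_rc_29_2 lc_f_rc_11_1 lc_f_rc_5_1 lc_f_rc_20_1 lc_f_rc_16_1 lc_f_rc_5_1 lc_f_rc_29_4 lc_f_rc_23_3 lc_f_rc_25_1 lc_f_rc_11_1 lc_f_rc_16_1 lc_f_rc_11_3 lc_f_rc_30_15 lc_f_rc_20_1 lc_f_rc_25_0 lc_f_Cert_tree lc_f_rc_26_6 lc_f_rc_25_0 lc_f_rc_29_4 lc_f_rc_16_3 lc_f_rc_16_3 lc_f_rc_11_5 lc_f_rc_25_0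 lc_f_rc_11_3 lc_f_rc_5_3 lc_f_Cert_tree lc_f_rc_25_0 lc_f_rc_16_1 lc_f_rc_29_4 lc_f_Cert_tree lc_f_Cert_tree lc_f_rc_25_0 lc_f_Cert_tree lc_f_Cert_tree lc_f_rc_25_0 lc_f_rc_31_1) (@D3.rec (fun _ => (Cert rels S Gen.f)) lc_f_rc_29_4 lc_f_rc_25_1 lc_f_rc_25_0 lc_f_Cert_tree lc_f_rc_20_1 lc_f_rc_25_0 lc_f_rc_25_0 lc_f_rc_25_0 lc_f_rc_20_1 lc_f_rc_23_1 lc_f_rc_31_10 lc_f_Cert_tree lc_f_rc_5_1 lc_f_rc_20_1 lc_f_rc_29_2 lc_f_Cert_tree lc_f_rc_25_0 lc_f_Cert_tree lc_f_rc_29_2 lc_f_rc_29_2 lc_f_rc_16_1 lc_f_rc_23_1 lc_f_Cert_tree lc_f_Cert_tree lc_f_rc_25_0 lc_f_rc_29_4 lc_f_rc_25_0 lc_f_rc_29_2 lc_f_rc_25_0 lc_f_rc_26_2 lc_f_rc_25_0 lc_f_rc_25_0 lc_f_rc_29_2 lc_f_rc_29_4 lc_f_Cert_tree lc_f_Cert_tree lc_f_rc_25_0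 lc_f_Cert_tree lc_f_rc_25_0 lc_f_rc_16_1) (@D3.rec (fun _ => (Cert rels S Gen.f)) lc_f_rc_29_4 lc_f_Cert_tree lc_f_rc_5_3 lc_f_Cert_tree lc_f_Cert_tree lc_f_rc_25_0 lc_f_rc_11_3 lc_f_rc_23_1 lc_f_Cert_tree lc_f_rc_25_0 lc_f_rc_16_1 lc_f_Cert_tree lc_f_Cert_tree lc_f_rc_25_0 lc_f_rc_11_3 lc_f_Cert_tree lc_f_Cert_tree lc_f_rc_25_0 lc_f_rc_25_0 lc_f_rc_11_3 lc_f_rc_29_4 lc_f_rc_29_2 lc_f_rc_25_1 lc_f_rc_16_1 lc_f_rc_25_0 lc_f_rc_29_2 lc_f_rc_25_0 lc_f_rc_29_2 lc_f_rc_25_0 lc_f_rc_25_0 lc_f_rc_25_0 lc_f_rc_5_3 lc_f_rc_11_3 lc_f_rc_16_1 lc_f_rc_29_2 lc_f_rc_11_3 lc_f_rc_29_2 lc_f_rc_16_3 lc_f_rc_25_0 lc_f_Cert_tree) (@D3.rec (fun _ => (Cert rels S Gen.f)) lc_f_rc_5_1 lc_f_rc_16_1 lc_f_rc_23_1 lc_f_rc_29_2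 lc_f_rc_20_3 lc_f_Cert_tree lc_f_Cert_tree lc_f_rc_25_0 lc_f_rc_26_6 lc_f_rc_16_1 lc_f_rc_29_2 lc_f_rc_29_2 lc_f_Cert_tree lc_f_rc_20_1 lc_f_rc_16_1 lc_f_Cert_tree lc_f_Cert_tree lc_f_Cert_tree lc_f_rc_25_0 lc_f_rc_25_0 lc_f_rc_11_3 lc_f_rc_29_4 lc_f_rc_26_4 lc_f_rc_26_2 lc_f_Cert_tree lc_f_rc_25_0 lc_f_rc_11_3 lc_f_rc_11_1 lc_f_rc_16_3 lc_f_rc_25_1 lc_f_rc_20_3 lc_f_Cert_tree lc_f_Cert_tree lc_f_rc_25_0 lc_f_rc_11_1 lc_f_Cert_tree lc_f_rc_25_0 lc_f_Cert_tree lc_f_rc_25_0 lc_f_rc_20_1) (@D3.rec (fun _ => (Cert rels S Gen.f)) lc_f_rc_11_1 lc_f_Cert_tree lc_f_rc_29_2 lc_f_Cert_tree lc_f_Cert_tree lc_f_Cert_tree lc_f_rc_25_0 lc_f_rc_23_3 lc_f_Cert_tree lc_f_rc_25_0 lc_f_rc_11_3 lc_f_rc_25_0 lc_f_rc_16_1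 lc_f_rc_31_10 lc_f_rc_26_0 lc_f_Cert_tree lc_f_rc_25_0 lc_f_rc_11_1 lc_f_Cert_tree lc_f_rc_5_3 lc_f_Cert_tree lc_f_Cert_tree lc_f_rc_25_0 lc_f_rc_11_3 lc_f_rc_5_1 lc_f_rc_16_1 lc_f_rc_29_2 lc_f_rc_29_2 lc_f_rc_29_2 lc_f_rc_20_1 lc_f_Cert_tree lc_f_rc_25_0 lc_f_rc_11_3 lc_f_rc_25_0 lc_f_Cert_tree lc_f_Cert_tree lc_f_rc_25_0 lc_f_Cert_tree lc_f_Cert_tree lc_f_rc_25_0) (@D3.rec (fun _ => (Cert rels S Gen.f)) lc_f_rc_11_3 lc_f_rc_16_1 lc_f_Cert_tree lc_f_Cert_tree lc_f_rc_25_0 lc_f_rc_25_0 lc_f_rc_11_3 lc_f_rc_29_4 lc_f_rc_29_2 lc_f_rc_23_3 lc_f_rc_5_3 lc_f_Cert_tree lc_f_rc_25_0 lc_f_rc_5_1 lc_f_rc_16_1 lc_f_rc_11_3 lc_f_rc_11_3 lc_f_rc_25_1 lc_f_rc_11_3 lc_f_rc_25_0 lc_f_rc_20_1 lc_f_rc_30_11 lc_f_rc_16_1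 lc_f_rc_29_4 lc_f_rc_5_3 lc_f_rc_5_1 lc_f_rc_20_1 lc_f_rc_16_1 lc_f_Cert_tree lc_f_Cert_tree lc_f_rc_25_0 lc_f_rc_25_0 lc_f_rc_11_3 lc_f_rc_11_3 lc_f_rc_16_1 lc_f_rc_29_2 lc_f_rc_11_3 lc_f_rc_11_3 lc_f_rc_29_2 lc_f_rc_11_3) (@D3.rec (fun _ => (Cert rels S Gen.f)) lc_f_Cert_tree lc_f_Cert_tree lc_f_rc_25_0 lc_f_rc_5_3 lc_f_Cert_tree lc_f_rc_25_0 lc_f_rc_11_1 lc_f_Cert_tree lc_f_rc_5_1 lc_f_rc_16_1 lc_f_rc_23_1 lc_f_rc_29_2 lc_f_rc_25_1 lc_f_rc_5_3 lc_f_Cert_tree lc_f_rc_25_0 lc_f_Cert_tree lc_f_rc_25_0 lc_f_Cert_tree lc_f_rc_25_0 lc_f_rc_29_4 lc_f_rc_26_6 lc_f_rc_31_4 lc_f_Cert_tree lc_f_Cert_tree lc_f_rc_25_0 lc_f_Cert_tree lc_f_rc_29_2 lc_f_rc_29_2 lc_f_Cert_tree lc_f_rc_29_4 lc_f_Cert_tree lc_f_rc_16_1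 lc_f_Cert_tree lc_f_Cert_tree lc_f_Cert_tree lc_f_rc_25_0 lc_f_rc_25_0 lc_f_rc_11_3 lc_f_rc_26_4) (@D3.rec (fun _ => (Cert rels S Gen.f)) lc_f_rc_16_1 lc_f_rc_31_7 lc_f_rc_26_4 lc_f_Cert_tree lc_f_Cert_tree lc_f_rc_25_0 lc_f_rc_29_2 lc_f_rc_26_6 lc_f_Cert_tree lc_f_rc_25_0 lc_f_Cert_tree lc_f_Cert_tree lc_f_Cert_tree lc_f_rc_25_0 lc_f_rc_26_4 lc_f_rc_5_1 lc_f_rc_26_2 lc_f_Cert_tree lc_f_rc_25_0 lc_f_rc_16_1 lc_f_Cert_tree lc_f_rc_29_2 lc_f_rc_29_4 lc_f_rc_5_3 lc_f_rc_25_0 lc_f_rc_5_1 lc_f_rc_25_1 lc_f_rc_23_3 lc_f_rc_25_0 lc_f_rc_26_6 lc_f_rc_5_1 lc_f_Cert_tree lc_f_Cert_tree lc_f_Cert_tree lc_f_rc_25_0 lc_f_rc_29_4 lc_f_Cert_tree lc_f_rc_25_0 lc_f_Cert_tree lc_f_rc_25_0) (@D3.rec (fun _ => (Cert rels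 S Gen.f)) lc_f_rc_29_4 lc_f_rc_16_1 lc_f_rc_16_3 lc_f_Cert_tree lc_f_rc_25_0 lc_f_Cert_tree lc_f_Cert_tree lc_f_rc_25_0 lc_f_rc_5_3 lc_f_Cert_tree lc_f_rc_25_0 lc_f_rc_29_2 lc_f_Cert_tree lc_f_rc_23_3 lc_f_rc_25_0 lc_f_Cert_tree lc_f_rc_26_6 lc_f_rc_25_0 lc_f_rc_25_0 lc_f_rc_25_0 lc_f_rc_29_2 lc_f_rc_31_10 lc_f_rc_26_4 lc_f_rc_5_3 lc_f_rc_25_0 lc_f_rc_11_3 lc_f_Cert_tree lc_f_rc_11_3 lc_f_rc_29_2 lc_f_rc_16_1 lc_f_Cert_tree lc_f_rc_5_3 lc_f_rc_5_3 lc_f_rc_25_0 lc_f_rc_31_4 lc_f_rc_5_1 lc_f_rc_16_1 lc_f_rc_29_2 lc_f_rc_11_3 lc_f_rc_20_1) (@D3.rec (fun _ => (Cert rels S Gen.f)) lc_f_Cert_tree lc_f_rc_25_0 lc_f_rc_5_3 lc_f_Cert_tree lc_f_Cert_tree lc_f_rc_25_0 lc_f_rc_5_1 lc_f_rc_26_0 lc_f_Cert_tree lc_f_rc_25_0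 lc_f_rc_5_3 lc_f_rc_5_3 lc_f_rc_5_3 lc_f_Cert_tree lc_f_rc_29_2 lc_f_Cert_tree lc_f_rc_25_0 lc_f_rc_25_0 lc_f_rc_11_3 lc_f_rc_29_2 lc_f_rc_11_3 lc_f_Cert_tree lc_f_rc_5_1 lc_f_rc_20_1 lc_f_rc_29_2 lc_f_rc_29_2 lc_f_rc_29_2 lc_f_rc_11_3 lc_f_rc_23_1 lc_f_Cert_tree lc_f_Cert_tree lc_f_rc_25_0 lc_f_Cert_tree lc_f_Cert_tree lc_f_rc_25_0 lc_f_rc_29_2 lc_f_rc_5_3 lc_f_Cert_tree lc_f_rc_25_0 lc_f_rc_23_1) (@D3.rec (fun _ => (Cert rels S Gen.f)) lc_f_Cert_tree lc_f_rc_25_0 lc_f_rc_20_1 lc_f_rc_11_3 lc_f_rc_30_7 lc_f_rc_16_1 lc_f_rc_11_1 lc_f_Cert_tree lc_f_rc_25_0 lc_f_rc_29_2 lc_f_Cert_tree lc_f_Cert_tree lc_f_rc_25_0 lc_f_Cert_tree lc_f_rc_11_3 lc_f_rc_25_0 lc_f_rc_25_0 lc_f_Cert_tree lc_f_Cert_tree lc_f_rc_25_0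 lc_f_rc_25_0 lc_f_rc_11_3 lc_f_rc_16_1 lc_f_Cert_tree lc_f_rc_20_1 lc_f_Cert_tree lc_f_Cert_tree lc_f_Cert_tree lc_f_rc_25_0 lc_f_Cert_tree lc_f_Cert_tree lc_f_rc_25_0 lc_f_Cert_tree lc_f_rc_25_0 lc_f_rc_11_3 lc_f_rc_5_1 lc_f_rc_29_4 lc_f_Cert_tree lc_f_Cert_tree lc_f_Cert_tree) (@D3.rec (fun _ => (Cert rels S Gen.f)) lc_f_rc_25_0 lc_f_rc_20_1 lc_f_rc_25_0 lc_f_rc_16_1 lc_f_rc_25_0 lc_f_rc_11_3 lc_f_rc_29_4 lc_f_rc_25_0 lc_f_rc_11_3 lc_f_rc_26_6 lc_f_rc_25_0 lc_f_rc_29_2 lc_f_rc_11_3 lc_f_Cert_tree lc_f_Cert_tree lc_f_rc_11_3 lc_f_rc_5_1 lc_f_rc_20_1 lc_f_rc_16_1 lc_f_rc_16_1 lc_f_rc_11_3 lc_f_rc_25_0 lc_f_rc_11_3 lc_f_rc_29_2 lc_f_rc_25_0 lc_f_rc_5_1 lc_f_rc_16_1 lc_f_rc_11_3 lc_f_rc_25_0 lc_f_rc_11_1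 lc_f_rc_11_3 lc_f_rc_11_3 lc_f_rc_29_2 lc_f_rc_16_1 lc_f_Cert_tree lc_f_rc_11_3 lc_f_rc_5_1 lc_f_rc_5_3 lc_f_rc_20_1 lc_f_rc_25_1)
def ce_f_11 : D2 → D3 → (Cert rels S Gen.f) := @D2.rec (fun _ => D3 → (Cert rels S Gen.f)) (@D3.rec (fun _ => (Cert rels S Gen.f)) lc_f_rc_25_0 lc_f_rc_16_1 lc_f_rc_5_1 lc_f_rc_5_1 lc_f_rc_16_1 lc_f_rc_23_1 lc_f_rc_20_1 lc_f_Cert_tree lc_f_Cert_tree lc_f_rc_25_0 lc_f_rc_29_2 lc_f_Cert_tree lc_f_rc_11_1 lc_f_rc_25_0 lc_f_Cert_tree lc_f_rc_25_0 lc_f_rc_11_3 lc_f_rc_25_0 lc_f_rc_25_0 lc_f_rc_25_0 lc_f_rc_5_3 lc_f_rc_11_3 lc_f_rc_5_1 lc_f_rc_29_2 lc_f_rc_11_3 lc_f_Cert_tree lc_f_rc_11_3 lc_f_Cert_tree lc_f_Cert_tree lc_f_rc_25_0 lc_f_rc_31_7 lc_f_rc_31_4 lc_f_rc_25_0 lc_f_Cert_tree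 lc_f_rc_16_3 lc_f_rc_11_1 lc_f_Cert_tree lc_f_rc_25_0 lc_f_Cert_tree lc_f_rc_25_0) (@D3.rec (fun _ => (Cert rels S Gen.f)) lc_f_rc_29_4 lc_f_rc_5_3 lc_f_Cert_tree lc_f_Cert_tree lc_f_rc_25_0 lc_f_rc_16_1 lc_f_Cert_tree lc_f_Cert_tree lc_f_rc_25_0 lc_f_Cert_tree lc_f_rc_16_1 lc_f_rc_5_1 lc_f_Cert_tree lc_f_rc_20_1 lc_f_rc_16_1 lc_f_rc_16_1 lc_f_rc_29_2 lc_f_Cert_tree lc_f_Cert_tree lc_f_Cert_tree lc_f_rc_25_0 lc_f_rc_5_3 lc_f_Cert_tree lc_f_rc_25_0 lc_f_Cert_tree lc_f_rc_25_0 lc_f_Cert_tree lc_f_Cert_tree lc_f_rc_25_0 lc_f_rc_11_3 lc_f_rc_29_4 lc_f_Cert_tree lc_f_Cert_tree lc_f_rc_25_0 lc_f_rc_11_5 lc_f_Cert_tree lc_f_Cert_tree lc_f_rc_25_0 lc_f_Cert_tree lc_f_rc_20_1) (@D3.rec (fun _ => (Cert rels S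 Gen.f)) lc_f_rc_25_0 lc_f_rc_25_1 lc_f_rc_11_3 lc_f_rc_11_3 lc_f_rc_25_0 lc_f_Cert_tree lc_f_Cert_tree lc_f_rc_25_0 lc_f_rc_29_2 lc_f_Cert_tree lc_f_Cert_tree lc_f_rc_25_0 lc_f_Cert_tree lc_f_rc_25_0 lc_f_Cert_tree lc_f_rc_25_0 lc_f_Cert_tree lc_f_rc_5_1 lc_f_rc_16_1 lc_f_rc_29_2 lc_f_Cert_tree lc_f_rc_11_1 lc_f_rc_25_0 lc_f_rc_29_4 lc_f_Cert_tree lc_f_Cert_tree lc_f_Cert_tree lc_f_rc_25_0 lc_f_Cert_tree lc_f_rc_23_1 lc_f_rc_29_2 lc_f_rc_20_1 lc_f_Cert_tree lc_f_Cert_tree lc_f_rc_25_0 lc_f_rc_25_0 lc_f_rc_11_3 lc_f_rc_29_2 lc_f_rc_11_3 lc_f_Cert_tree) (@D3.rec (fun _ => (Cert rels S Gen.f)) lc_f_rc_5_1 lc_f_rc_16_1 lc_f_rc_29_2 lc_f_rc_25_0 lc_f_rc_29_4 lc_f_Cert_tree lc_f_rc_29_2 lc_f_rc_5_3 lc_f_rc_25_0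 lc_f_rc_5_3 lc_f_Cert_tree lc_f_rc_25_0 lc_f_Cert_tree lc_f_rc_25_0 lc_f_Cert_tree lc_f_rc_23_1 lc_f_Cert_tree lc_f_rc_25_0 lc_f_rc_29_2 lc_f_Cert_tree lc_f_Cert_tree lc_f_rc_25_0 lc_f_Cert_tree lc_f_rc_25_0 lc_f_rc_25_0 lc_f_Cert_tree lc_f_rc_16_1 lc_f_Cert_tree lc_f_rc_25_0 lc_f_Cert_tree lc_f_Cert_tree lc_f_Cert_tree lc_f_rc_25_0 lc_f_rc_26_2 lc_f_rc_11_3 lc_f_rc_11_3 lc_f_Cert_tree lc_f_Cert_tree lc_f_rc_25_0 lc_f_Cert_tree) (@D3.rec (fun _ => (Cert rels S Gen.f)) lc_f_rc_25_0 lc_f_Cert_tree lc_f_rc_26_6 lc_f_rc_25_0 lc_f_Cert_tree lc_f_rc_11_3 lc_f_Cert_tree lc_f_Cert_tree lc_f_rc_25_0 lc_f_rc_29_2 lc_f_rc_25_0 lc_f_Cert_tree lc_f_rc_25_0 lc_f_rc_25_0 lc_f_rc_25_0 lc_f_rc_29_2 lc_f_rc_25_0 lc_f_rc_11_3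 lc_f_rc_25_0 lc_f_rc_25_0 lc_f_rc_5_1 lc_f_rc_5_1 lc_f_rc_16_1 lc_f_rc_31_7 lc_f_Cert_tree lc_f_rc_25_0 lc_f_rc_26_6 lc_f_rc_5_1 lc_f_Cert_tree lc_f_rc_25_0 lc_f_rc_29_2 lc_f_Cert_tree lc_f_Cert_tree lc_f_rc_25_0 lc_f_Cert_tree lc_f_rc_25_0 lc_f_rc_25_0 lc_f_Cert_tree lc_f_rc_16_1 lc_f_Cert_tree) (@D3.rec (fun _ => (Cert rels S Gen.f)) lc_f_rc_25_0 lc_f_Cert_tree lc_f_Cert_tree lc_f_Cert_tree lc_f_rc_25_0 lc_f_rc_26_2 lc_f_rc_16_1 lc_f_rc_29_4 lc_f_Cert_tree lc_f_Cert_tree lc_f_rc_25_0 lc_f_Cert_tree lc_f_rc_25_0 lc_f_Cert_tree lc_f_rc_26_6 lc_f_rc_25_0 lc_f_Cert_tree lc_f_rc_11_3 lc_f_Cert_tree lc_f_Cert_tree lc_f_rc_25_0 lc_f_rc_29_2 lc_f_rc_25_0 lc_f_Cert_tree lc_f_rc_25_0 lc_f_rc_25_0 lc_f_rc_16_1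 lc_f_Cert_tree lc_f_Cert_tree lc_f_Cert_tree lc_f_rc_25_0 lc_f_Cert_tree lc_f_rc_16_1 lc_f_rc_16_1 lc_f_Cert_tree lc_f_Cert_tree lc_f_Cert_tree lc_f_rc_25_0 lc_f_Cert_tree lc_f_rc_16_1) (@D3.rec (fun _ => (Cert rels S Gen.f)) lc_f_rc_25_0 lc_f_rc_25_0 lc_f_rc_23_1 lc_f_rc_20_1 lc_f_rc_11_1 lc_f_rc_5_3 lc_f_rc_25_0 lc_f_rc_26_2 lc_f_rc_20_1 lc_f_rc_20_1 lc_f_rc_25_0 lc_f_Cert_tree lc_f_rc_11_3 lc_f_rc_11_3 lc_f_rc_11_3 lc_f_Cert_tree lc_f_rc_25_0 lc_f_rc_5_1 lc_f_rc_29_2 lc_f_rc_5_3 lc_f_rc_26_2 lc_f_Cert_tree lc_f_rc_25_0 lc_f_rc_5_3 lc_f_rc_25_0 lc_f_rc_29_4 lc_f_rc_16_1 lc_f_rc_11_3 lc_f_rc_5_3 lc_f_rc_29_4 lc_f_rc_29_2 lc_f_rc_20_1 lc_f_rc_16_1 lc_f_Cert_tree lc_f_rc_25_0 lc_f_Cert_tree lc_f_rc_25_0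 lc_f_rc_11_3 lc_f_rc_25_0 lc_f_rc_25_0) (@D3.rec (fun _ => (Cert rels S Gen.f)) lc_f_rc_5_1 lc_f_rc_16_1 lc_f_rc_11_3 lc_f_rc_29_4 lc_f_rc_16_1 lc_f_rc_29_2 lc_f_rc_20_1 lc_f_rc_29_2 lc_f_rc_30_7 lc_f_rc_25_0 lc_f_rc_26_2 lc_f_rc_29_4 lc_f_rc_31_4 lc_f_rc_16_1 lc_f_rc_25_0 lc_f_Cert_tree lc_f_rc_25_0 lc_f_Cert_tree lc_f_Cert_tree lc_f_rc_25_0 lc_f_rc_11_3 lc_f_Cert_tree lc_f_rc_25_0 lc_f_rc_23_3 lc_f_rc_5_3 lc_f_rc_5_3 lc_f_rc_25_0 lc_f_rc_25_0 lc_f_rc_11_3 lc_f_rc_25_0 lc_f_rc_11_1 lc_f_rc_26_2 lc_f_rc_16_1 lc_f_Cert_tree lc_f_rc_25_0 lc_f_rc_11_3 lc_f_rc_25_0 lc_f_rc_25_0 lc_f_rc_11_3 lc_f_rc_29_2) (@D3.rec (fun _ => (Cert rels S Gen.f)) lc_f_rc_25_0 lc_f_rc_5_1 lc_f_rc_11_3 lc_f_rc_29_4 lc_f_rc_16_1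 lc_f_rc_29_2 lc_f_rc_20_1 lc_f_rc_29_4 lc_f_rc_5_1 lc_f_rc_25_1 lc_f_rc_25_0 lc_f_rc_11_3 lc_f_rc_25_0 lc_f_rc_20_1 lc_f_rc_25_0 lc_f_rc_11_3 lc_f_rc_16_1 lc_f_rc_29_2 lc_f_rc_20_1 lc_f_rc_29_2 lc_f_rc_16_1 lc_f_rc_11_3 lc_f_rc_29_2 lc_f_rc_29_4 lc_f_rc_5_3 lc_f_rc_25_0 lc_f_rc_31_4 lc_f_rc_16_1 lc_f_rc_5_1 lc_f_rc_16_1 lc_f_rc_29_2 lc_f_rc_20_1 lc_f_rc_29_4 lc_f_rc_11_1 lc_f_rc_5_1 lc_f_rc_25_0 lc_f_rc_16_1 lc_f_rc_11_5 lc_f_rc_29_2 lc_f_rc_16_1) (@D3.rec (fun _ => (Cert rels S Gen.f)) lc_f_rc_29_2 lc_f_Cert_tree lc_f_Cert_tree lc_f_rc_25_0 lc_f_rc_25_0 lc_f_Cert_tree lc_f_rc_25_0 lc_f_Cert_tree lc_f_rc_25_0 lc_f_rc_11_3 lc_f_rc_11_3 lc_f_rc_5_1 lc_f_rc_11_3 lc_f_rc_20_1 lc_f_rc_5_3 lc_f_rc_11_1 lc_f_rc_25_0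 lc_f_Cert_tree lc_f_Cert_tree lc_f_Cert_tree lc_f_rc_25_0 lc_f_rc_29_4 lc_f_rc_26_2 lc_f_rc_11_3 lc_f_rc_25_0 lc_f_rc_11_5 lc_f_rc_29_2 lc_f_rc_25_0 lc_f_rc_5_1 lc_f_rc_25_0 lc_f_rc_29_4 lc_f_rc_5_1 lc_f_rc_5_3 lc_f_rc_30_11 lc_f_rc_31_13 lc_f_Cert_tree lc_f_rc_25_0 lc_f_rc_11_3 lc_f_rc_20_1 lc_f_rc_25_0) (@D3.rec (fun _ => (Cert rels S Gen.f)) lc_f_rc_5_3 lc_f_rc_25_0 lc_f_rc_26_2 lc_f_Cert_tree lc_f_rc_5_3 lc_f_Cert_tree lc_f_rc_25_0 lc_f_rc_30_15 lc_f_rc_25_0 lc_f_rc_26_2 lc_f_rc_5_1 lc_f_rc_25_0 lc_f_rc_26_6 lc_f_rc_23_1 lc_f_rc_25_0 lc_f_rc_5_1 lc_f_rc_25_1 lc_f_rc_16_1 lc_f_rc_11_3 lc_f_rc_20_1 lc_f_rc_20_1 lc_f_Cert_tree lc_f_rc_25_0 lc_f_rc_29_4 lc_f_rc_25_0 lc_f_rc_29_4 lc_f_rc_29_4 lc_f_rc_5_1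 lc_f_rc_29_2 lc_f_rc_25_0 lc_f_rc_20_3 lc_f_rc_26_2 lc_f_rc_20_1 lc_f_rc_5_1 lc_f_Cert_tree lc_f_rc_25_0 lc_f_rc_16_3 lc_f_Cert_tree lc_f_rc_16_1 lc_f_rc_11_5) (@D3.rec (fun _ => (Cert rels S Gen.f)) lc_f_rc_25_0 lc_f_rc_23_3 lc_f_rc_29_4 lc_f_rc_11_5 lc_f_Cert_tree lc_f_rc_11_1 lc_f_rc_25_0 lc_f_Cert_tree lc_f_rc_25_0 lc_f_rc_11_3 lc_f_rc_5_3 lc_f_rc_25_0 lc_f_rc_11_5 lc_f_Cert_tree lc_f_rc_11_3 lc_f_rc_5_1 lc_f_rc_16_1 lc_f_rc_29_4 lc_f_rc_5_3 lc_f_rc_5_3 lc_f_rc_25_0 lc_f_rc_11_1 lc_f_rc_5_1 lc_f_rc_16_1 lc_f_rc_11_3 lc_f_rc_16_1 lc_f_rc_31_7 lc_f_Cert_tree lc_f_Cert_tree lc_f_rc_25_0 lc_f_rc_23_1 lc_f_rc_11_3 lc_f_rc_26_0 lc_f_rc_5_1 lc_f_rc_11_3 lc_f_rc_29_2 lc_f_rc_5_1 lc_f_rc_20_1 lc_f_rc_16_1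 lc_f_rc_16_1) (@D3.rec (fun _ => (Cert rels S Gen.f)) lc_f_rc_23_1 lc_f_rc_20_3 lc_f_rc_25_0 lc_f_rc_25_0 lc_f_rc_29_4 lc_f_rc_5_1 lc_f_rc_5_3 lc_f_rc_11_3 lc_f_rc_25_0 lc_f_rc_30_15 lc_f_rc_16_1 lc_f_rc_5_1 lc_f_rc_5_3 lc_f_rc_29_2 lc_f_rc_16_3 lc_f_Cert_tree lc_f_rc_25_0 lc_f_rc_20_1 lc_f_rc_25_0 lc_f_rc_5_3 lc_f_rc_29_2 lc_f_Cert_tree lc_f_rc_25_0 lc_f_Cert_tree lc_f_rc_5_3 lc_f_Cert_tree lc_f_rc_25_0 lc_f_rc_11_3 lc_f_rc_11_3 lc_f_rc_29_2 lc_f_Cert_tree lc_f_rc_11_1 lc_f_rc_5_1 lc_f_rc_29_2 lc_f_rc_5_3 lc_f_Cert_tree lc_f_rc_25_0 lc_f_rc_5_1 lc_f_rc_11_3 lc_f_rc_29_4) (@D3.rec (fun _ => (Cert rels S Gen.f)) lc_f_Cert_tree lc_f_rc_29_2 lc_f_rc_29_2 lc_f_rc_25_0 lc_f_rc_11_3 lc_f_rc_29_2 lc_f_rc_31_7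 lc_f_Cert_tree lc_f_rc_29_2 lc_f_rc_5_1 lc_f_rc_11_3 lc_f_rc_25_0 lc_f_rc_29_2 lc_f_rc_11_3 lc_f_rc_5_1 lc_f_rc_26_6 lc_f_rc_11_1 lc_f_rc_20_1 lc_f_rc_20_1 lc_f_rc_29_2 lc_f_rc_16_1 lc_f_rc_29_2 lc_f_rc_5_3 lc_f_Cert_tree lc_f_rc_5_1 lc_f_rc_29_2 lc_f_rc_25_0 lc_f_Cert_tree lc_f_rc_29_4 lc_f_rc_25_0 lc_f_rc_16_1 lc_f_rc_31_4 lc_f_Cert_tree lc_f_Cert_tree lc_f_rc_25_0 lc_f_Cert_tree lc_f_Cert_tree lc_f_rc_25_0 lc_f_rc_20_1 lc_f_rc_25_0) (@D3.rec (fun _ => (Cert rels S Gen.f)) lc_f_rc_23_1 lc_f_Cert_tree lc_f_Cert_tree lc_f_Cert_tree lc_f_rc_25_0 lc_f_rc_29_2 lc_f_rc_11_1 lc_f_Cert_tree lc_f_rc_25_0 lc_f_Cert_tree lc_f_Cert_tree lc_f_rc_25_0 lc_f_Cert_tree lc_f_rc_25_0 lc_f_rc_25_0 lc_f_Cert_tree lc_f_rc_25_0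 lc_f_rc_16_3 lc_f_rc_25_0 lc_f_rc_5_1 lc_f_rc_16_1 lc_f_rc_26_2 lc_f_rc_11_3 lc_f_rc_26_0 lc_f_Cert_tree lc_f_rc_25_0 lc_f_Cert_tree lc_f_rc_25_0 lc_f_rc_29_4 lc_f_rc_20_1 lc_f_rc_20_1 lc_f_rc_5_1 lc_f_rc_11_3 lc_f_rc_29_2 lc_f_rc_16_1 lc_f_Cert_tree lc_f_Cert_tree lc_f_rc_16_1 lc_f_rc_11_5 lc_f_rc_26_2) (@D3.rec (fun _ => (Cert rels S Gen.f)) lc_f_rc_20_1 lc_f_rc_5_1 lc_f_rc_25_0 lc_f_rc_25_0 lc_f_rc_11_1 lc_f_rc_11_1 lc_f_rc_11_1 lc_f_rc_5_1 lc_f_rc_16_1 lc_f_rc_23_1 lc_f_rc_20_1 lc_f_rc_26_2 lc_f_rc_25_0 lc_f_rc_5_3 lc_f_rc_25_0 lc_f_rc_26_2 lc_f_rc_11_3 lc_f_rc_5_1 lc_f_rc_16_1 lc_f_rc_23_1 lc_f_rc_25_0 lc_f_rc_25_0 lc_f_rc_29_2 lc_f_rc_5_1 lc_f_rc_25_0 lc_f_rc_11_3 lc_f_rc_26_6 lc_f_rc_25_0 lc_f_rc_5_1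 lc_f_rc_11_3 lc_f_rc_23_1 lc_f_rc_5_1 lc_f_rc_20_1 lc_f_rc_11_1 lc_f_rc_29_2 lc_f_Cert_tree lc_f_rc_25_1 lc_f_rc_5_3 lc_f_rc_25_0 lc_f_rc_23_3) (@D3.rec (fun _ => (Cert rels S Gen.f)) lc_f_rc_23_3 lc_f_rc_16_1 lc_f_rc_26_6 lc_f_rc_20_1 lc_f_rc_5_1 lc_f_rc_5_1 lc_f_rc_11_1 lc_f_rc_5_1 lc_f_rc_16_1 lc_f_rc_30_7 lc_f_rc_29_4 lc_f_rc_25_0 lc_f_rc_25_0 lc_f_rc_11_3 lc_f_rc_16_1 lc_f_rc_11_1 lc_f_rc_11_3 lc_f_rc_11_3 lc_f_rc_5_1 lc_f_rc_5_1 lc_f_rc_31_7 lc_f_rc_5_1 lc_f_Cert_tree lc_f_rc_23_1 lc_f_Cert_tree lc_f_rc_5_3 lc_f_rc_25_0 lc_f_rc_5_3 lc_f_rc_5_1 lc_f_rc_25_0 lc_f_rc_30_3 lc_f_rc_25_0 lc_f_rc_11_3 lc_f_rc_25_0 lc_f_rc_11_3 lc_f_rc_29_2 lc_f_rc_5_1 lc_f_rc_11_3 lc_f_rc_16_1 lc_f_rc_5_3) (@D3.rec (fun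 _ => (Cert rels S Gen.f)) lc_f_rc_16_3 lc_f_rc_25_0 lc_f_rc_16_1 lc_f_rc_16_1 lc_f_rc_25_0 lc_f_rc_26_2 lc_f_rc_29_2 lc_f_rc_25_0 lc_f_rc_11_3 lc_f_rc_29_4 lc_f_rc_25_0 lc_f_rc_5_3 lc_f_rc_5_3 lc_f_rc_25_0 lc_f_rc_29_2 lc_f_rc_23_1 lc_f_rc_11_3 lc_f_rc_11_1 lc_f_rc_25_0 lc_f_Cert_tree lc_f_Cert_tree lc_f_rc_25_0 lc_f_Cert_tree lc_f_rc_25_0 lc_f_Cert_tree lc_f_Cert_tree lc_f_rc_25_0 lc_f_rc_16_3 lc_f_rc_20_1 lc_f_rc_5_1 lc_f_Cert_tree lc_f_Cert_tree lc_f_Cert_tree lc_f_rc_25_0 lc_f_rc_5_1 lc_f_rc_5_3 lc_f_rc_25_0 lc_f_rc_5_1 lc_f_rc_25_0 lc_f_rc_29_4) (@D3.rec (fun _ => (Cert rels S Gen.f)) lc_f_rc_29_4 lc_f_rc_16_1 lc_f_rc_5_3 lc_f_rc_11_3 lc_f_rc_25_0 lc_f_rc_5_1 lc_f_rc_16_1 lc_f_rc_11_3 lc_f_rc_25_0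 lc_f_rc_16_1 lc_f_rc_25_0 lc_f_rc_5_3 lc_f_rc_11_3 lc_f_rc_29_4 lc_f_rc_5_1 lc_f_rc_29_2 lc_f_Cert_tree lc_f_rc_25_0 lc_f_Cert_tree lc_f_rc_25_0 lc_f_rc_5_1 lc_f_Cert_tree lc_f_rc_25_0 lc_f_rc_25_0 lc_f_Cert_tree lc_f_rc_26_6 lc_f_rc_25_0 lc_f_rc_25_0 lc_f_rc_20_1 lc_f_rc_5_1 lc_f_rc_5_1 lc_f_Cert_tree lc_f_Cert_tree lc_f_rc_25_0 lc_f_rc_29_2 lc_f_Cert_tree lc_f_rc_25_0 lc_f_Cert_tree lc_f_rc_25_0 lc_f_rc_25_0) (@D3.rec (fun _ => (Cert rels S Gen.f)) lc_f_rc_16_1 lc_f_Cert_tree lc_f_rc_25_0 lc_f_rc_11_3 lc_f_rc_11_3 lc_f_rc_11_3 lc_f_rc_30_3 lc_f_rc_29_2 lc_f_rc_29_2 lc_f_rc_11_3 lc_f_Cert_tree lc_f_rc_25_0 lc_f_rc_16_1 lc_f_rc_23_3 lc_f_rc_29_2 lc_f_rc_25_0 lc_f_rc_20_1 lc_f_rc_29_4 lc_f_Cert_tree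 lc_f_rc_29_2 lc_f_rc_11_5 lc_f_rc_25_0 lc_f_rc_16_1 lc_f_rc_20_3 lc_f_rc_25_0 lc_f_rc_23_1 lc_f_rc_11_1 lc_f_rc_29_2 lc_f_rc_5_3 lc_f_rc_29_2 lc_f_rc_25_0 lc_f_rc_29_2 lc_f_Cert_tree lc_f_rc_25_0 lc_f_rc_31_10 lc_f_rc_29_4 lc_f_rc_26_4 lc_f_rc_25_0 lc_f_rc_11_3 lc_f_rc_11_3) (@D3.rec (fun _ => (Cert rels S Gen.f)) lc_f_rc_29_4 lc_f_rc_25_0 lc_f_rc_16_3 lc_f_rc_20_1 lc_f_rc_16_3 lc_f_rc_26_2 lc_f_rc_25_0 lc_f_rc_26_2 lc_f_rc_23_3 lc_f_rc_11_1 lc_f_rc_29_4 lc_f_rc_11_1 lc_f_Cert_tree lc_f_rc_16_1 lc_f_rc_25_0 lc_f_rc_26_6 lc_f_rc_25_0 lc_f_rc_31_10 lc_f_rc_11_3 lc_f_rc_16_3 lc_f_rc_25_0 lc_f_rc_5_1 lc_f_rc_16_1 lc_f_rc_29_2 lc_f_rc_31_10 lc_f_rc_25_0 lc_f_rc_26_2 lc_f_Cert_tree lc_f_rc_25_0 lc_f_rc_20_3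 lc_f_rc_26_6 lc_f_rc_25_0 lc_f_rc_25_0 lc_f_rc_25_0 lc_f_rc_20_1 lc_f_rc_23_1 lc_f_rc_25_0 lc_f_rc_11_3 lc_f_rc_5_1 lc_f_rc_11_3) (@D3.rec (fun _ => (Cert rels S Gen.f)) lc_f_rc_5_1 lc_f_rc_5_1 lc_f_rc_20_1 lc_f_rc_11_1 lc_f_rc_23_1 lc_f_rc_30_15 lc_f_Cert_tree lc_f_Cert_tree lc_f_rc_25_0 lc_f_rc_25_0 lc_f_rc_29_4 lc_f_Cert_tree lc_f_rc_25_0 lc_f_rc_11_1 lc_f_Cert_tree lc_f_Cert_tree lc_f_rc_25_0 lc_f_Cert_tree lc_f_rc_26_6 lc_f_rc_31_7 lc_f_rc_25_0 lc_f_Cert_tree lc_f_Cert_tree lc_f_Cert_tree lc_f_rc_25_0 lc_f_rc_25_0 lc_f_rc_26_2 lc_f_rc_26_2 lc_f_Cert_tree lc_f_rc_25_0 lc_f_Cert_tree lc_f_rc_25_0 lc_f_rc_11_3 lc_f_rc_16_1 lc_f_rc_26_6 lc_f_rc_25_0 lc_f_rc_5_3 lc_f_rc_11_3 lc_f_rc_5_3 lc_f_Cert_tree)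 (@D3.rec (fun _ => (Cert rels S Gen.f)) lc_f_rc_25_0 lc_f_rc_16_1 lc_f_rc_31_7 lc_f_rc_20_3 lc_f_rc_25_0 lc_f_rc_26_2 lc_f_rc_11_3 lc_f_rc_25_0 lc_f_Cert_tree lc_f_rc_26_6 lc_f_rc_25_0 lc_f_Cert_tree lc_f_rc_25_0 lc_f_rc_29_2 lc_f_rc_5_1 lc_f_rc_25_0 lc_f_rc_20_1 lc_f_rc_5_1 lc_f_rc_25_0 lc_f_rc_29_4 lc_f_rc_25_0 lc_f_rc_29_2 lc_f_rc_11_1 lc_f_rc_16_3 lc_f_rc_26_6 lc_f_rc_25_0 lc_f_rc_25_0 lc_f_rc_29_2 lc_f_rc_29_2 lc_f_rc_26_2 lc_f_rc_16_3 lc_f_rc_25_0 lc_f_rc_29_4 lc_f_rc_11_1 lc_f_rc_16_1 lc_f_rc_23_1 lc_f_rc_31_10 lc_f_rc_16_1 lc_f_Cert_tree lc_f_rc_25_0) (@D3.rec (fun _ => (Cert rels S Gen.f)) lc_f_rc_20_1 lc_f_rc_5_3 lc_f_rc_25_0 lc_f_rc_29_2 lc_f_rc_23_3 lc_f_rc_25_0 lc_f_rc_5_3 lc_f_rc_29_2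 lc_f_Cert_tree lc_f_rc_25_0 lc_f_rc_16_1 lc_f_rc_29_4 lc_f_Cert_tree lc_f_rc_25_0 lc_f_rc_29_2 lc_f_rc_25_0 lc_f_rc_25_0 lc_f_rc_5_3 lc_f_rc_25_0 lc_f_rc_31_10 lc_f_rc_5_1 lc_f_rc_5_1 lc_f_rc_30_15 lc_f_rc_11_3 lc_f_rc_5_1 lc_f_rc_23_1 lc_f_rc_25_0 lc_f_rc_29_2 lc_f_rc_11_3 lc_f_Cert_tree lc_f_rc_25_0 lc_f_rc_25_0 lc_f_rc_25_0 lc_f_rc_11_3 lc_f_rc_25_0 lc_f_rc_25_0 lc_f_rc_11_3 lc_f_rc_11_3 lc_f_rc_25_0 lc_f_Cert_tree) (@D3.rec (fun _ => (Cert rels S Gen.f)) lc_f_rc_25_0 lc_f_rc_11_3 lc_f_rc_5_1 lc_f_rc_5_3 lc_f_rc_25_0 lc_f_rc_5_3 lc_f_rc_31_4 lc_f_rc_23_1 lc_f_Cert_tree lc_f_rc_25_0 lc_f_rc_5_1 lc_f_rc_11_3 lc_f_rc_16_1 lc_f_rc_25_0 lc_f_Cert_tree lc_f_rc_5_1 lc_f_rc_20_1 lc_f_rc_5_3 lc_f_rc_5_3 lc_f_rc_25_0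 lc_f_rc_11_3 lc_f_rc_23_1 lc_f_rc_25_0 lc_f_rc_11_3 lc_f_Cert_tree lc_f_rc_25_0 lc_f_rc_16_3 lc_f_rc_16_1 lc_f_rc_25_1 lc_f_rc_5_1 lc_f_rc_11_1 lc_f_rc_11_1 lc_f_Cert_tree lc_f_rc_25_0 lc_f_rc_25_0 lc_f_rc_29_4 lc_f_rc_30_11 lc_f_rc_11_5 lc_f_rc_25_0 lc_f_rc_25_1) (@D3.rec (fun _ => (Cert rels S Gen.f)) lc_f_Cert_tree lc_f_rc_5_1 lc_f_rc_16_1 lc_f_rc_23_1 lc_f_rc_5_3 lc_f_rc_11_1 lc_f_rc_25_0 lc_f_rc_5_3 lc_f_Cert_tree lc_f_rc_25_0 lc_f_Cert_tree lc_f_rc_5_1 lc_f_rc_5_1 lc_f_rc_16_1 lc_f_Cert_tree lc_f_rc_11_1 lc_f_rc_25_0 lc_f_rc_25_0 lc_f_rc_5_1 lc_f_rc_11_1 lc_f_rc_26_2 lc_f_rc_25_0 lc_f_Cert_tree lc_f_rc_25_0 lc_f_rc_16_1 lc_f_rc_20_1 lc_f_rc_5_1 lc_f_rc_29_2 lc_f_rc_31_10 lc_f_rc_5_1 lc_f_rc_26_6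 lc_f_rc_5_3 lc_f_rc_11_1 lc_f_rc_5_1 lc_f_rc_5_3 lc_f_rc_25_0 lc_f_rc_11_1 lc_f_rc_20_1 lc_f_rc_5_1 lc_f_rc_26_6)
def ce_f_12 : D2 → D3 → (Cert rels S Gen.f) := @D2.rec (fun _ => D3 → (Cert rels S Gen.f)) (@D3.rec (fun _ => (Cert rels S Gen.f)) lc_f_rc_5_1 lc_f_rc_11_3 lc_f_rc_30_3 lc_f_rc_16_3 lc_f_rc_11_3 lc_f_rc_25_0 lc_f_rc_25_1 lc_f_rc_16_1 lc_f_rc_5_3 lc_f_rc_11_1 lc_f_rc_25_0 lc_f_rc_11_3 lc_f_rc_29_4 lc_f_rc_26_2 lc_f_rc_5_1 lc_f_rc_26_6 lc_f_rc_11_1 lc_f_rc_16_1 lc_f_rc_11_3 lc_f_rc_11_1 lc_f_rc_25_0 lc_f_rc_11_1 lc_f_rc_11_3 lc_f_rc_25_0 lc_f_rc_26_2 lc_f_rc_26_6 lc_f_rc_25_0 lc_f_rc_23_1 lc_f_rc_11_3 lc_f_rc_16_3 lc_f_rc_29_4 lc_f_Cert_tree lc_f_Cert_tree lc_f_Cert_tree lc_f_rc_25_0 lc_f_rc_25_1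 lc_f_rc_5_3 lc_f_rc_25_0 lc_f_Cert_tree lc_f_rc_25_0) (@D3.rec (fun _ => (Cert rels S Gen.f)) lc_f_rc_11_1 lc_f_rc_29_4 lc_f_rc_25_0 lc_f_Cert_tree lc_f_Cert_tree lc_f_Cert_tree lc_f_rc_25_0 lc_f_rc_11_3 lc_f_rc_29_2 lc_f_rc_16_1 lc_f_Cert_tree lc_f_rc_5_3 lc_f_rc_16_3 lc_f_rc_25_0 lc_f_rc_11_1 lc_f_rc_29_2 lc_f_rc_25_0 lc_f_Cert_tree lc_f_rc_25_0 lc_f_rc_29_4 lc_f_rc_5_1 lc_f_rc_16_1 lc_f_rc_29_2 lc_f_rc_26_4 lc_f_rc_5_1 lc_f_rc_29_2 lc_f_rc_29_2 lc_f_rc_29_2 lc_f_rc_25_0 lc_f_rc_5_1 lc_f_rc_26_4 lc_f_rc_11_3 lc_f_rc_31_4 lc_f_rc_11_3 lc_f_Cert_tree lc_f_rc_11_3 lc_f_rc_16_3 lc_f_rc_25_0 lc_f_rc_5_1 lc_f_rc_5_3) (@D3.rec (fun _ => (Cert rels S Gen.f)) lc_f_Cert_tree lc_f_rc_25_1 lc_f_rc_30_7 lc_f_rc_11_1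 lc_f_rc_5_3 lc_f_rc_5_1 lc_f_rc_25_0 lc_f_rc_26_6 lc_f_rc_25_0 lc_f_rc_25_0 lc_f_rc_5_1 lc_f_rc_29_4 lc_f_rc_16_1 lc_f_Cert_tree lc_f_rc_26_6 lc_f_rc_29_2 lc_f_rc_29_2 lc_f_rc_5_1 lc_f_rc_16_1 lc_f_rc_11_1 lc_f_rc_5_3 lc_f_rc_29_4 lc_f_rc_5_1 lc_f_rc_11_3 lc_f_rc_5_1 lc_f_rc_30_7 lc_f_rc_25_0 lc_f_rc_25_0 lc_f_rc_11_3 lc_f_rc_16_1 lc_f_rc_26_2 lc_f_rc_5_1 lc_f_rc_29_4 lc_f_rc_29_4 lc_f_rc_25_0 lc_f_rc_16_3 lc_f_rc_29_2 lc_f_rc_25_0 lc_f_rc_25_0 lc_f_rc_29_2) (@D3.rec (fun _ => (Cert rels S Gen.f)) lc_f_rc_29_2 lc_f_rc_25_0 lc_f_rc_25_0 lc_f_rc_29_4 lc_f_rc_25_0 lc_f_rc_25_0 lc_f_rc_26_2 lc_f_rc_29_2 lc_f_rc_20_1 lc_f_rc_11_3 lc_f_rc_16_1 lc_f_rc_25_0 lc_f_rc_20_1 lc_f_rc_25_0 lc_f_rc_11_3 lc_f_rc_25_1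 lc_f_rc_5_3 lc_f_rc_29_2 lc_f_rc_5_1 lc_f_rc_11_3 lc_f_rc_5_1 lc_f_rc_29_2 lc_f_rc_5_1 lc_f_rc_29_2 lc_f_Cert_tree lc_f_rc_5_3 lc_f_Cert_tree lc_f_rc_25_0 lc_f_Cert_tree lc_f_rc_25_0 lc_f_rc_25_0 lc_f_rc_29_4 lc_f_rc_25_0 lc_f_rc_5_3 lc_f_rc_25_0 lc_f_rc_11_3 lc_f_rc_5_1 lc_f_rc_16_1 lc_f_rc_29_2 lc_f_rc_29_2) (@D3.rec (fun _ => (Cert rels S Gen.f)) lc_f_rc_29_2 lc_f_Cert_tree lc_f_rc_25_0 lc_f_rc_29_4 lc_f_rc_20_3 lc_f_Cert_tree lc_f_rc_5_3 lc_f_rc_25_0 lc_f_rc_11_3 lc_f_rc_26_2 lc_f_rc_25_0 lc_f_rc_29_4 lc_f_rc_25_0 lc_f_rc_11_3 lc_f_rc_11_3 lc_f_rc_5_1 lc_f_rc_29_2 lc_f_Cert_tree lc_f_rc_11_1 lc_f_rc_29_2 lc_f_rc_25_0 lc_f_rc_31_7 lc_f_rc_20_1 lc_f_Cert_tree lc_f_rc_16_1 lc_f_rc_29_2 lc_f_rc_16_1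 lc_f_rc_29_2 lc_f_rc_25_0 lc_f_rc_29_2 lc_f_Cert_tree lc_f_rc_25_0 lc_f_rc_5_3 lc_f_rc_25_0 lc_f_rc_5_3 lc_f_Cert_tree lc_f_rc_25_0 lc_f_rc_11_3 lc_f_rc_26_6 lc_f_rc_20_1) (@D3.rec (fun _ => (Cert rels S Gen.f)) lc_f_Cert_tree lc_f_rc_25_0 lc_f_rc_20_1 lc_f_Cert_tree lc_f_rc_25_0 lc_f_Cert_tree lc_f_Cert_tree lc_f_rc_25_0 lc_f_rc_29_4 lc_f_rc_11_3 lc_f_rc_11_3 lc_f_Cert_tree lc_f_rc_25_0 lc_f_Cert_tree lc_f_rc_25_0 lc_f_rc_16_1 lc_f_rc_11_3 lc_f_rc_11_1 lc_f_rc_25_0 lc_f_rc_11_3 lc_f_rc_29_4 lc_f_rc_5_1 lc_f_rc_29_2 lc_f_rc_5_1 lc_f_rc_20_1 lc_f_rc_29_2 lc_f_rc_5_3 lc_f_rc_25_0 lc_f_rc_11_1 lc_f_Cert_tree lc_f_rc_25_0 lc_f_rc_26_6 lc_f_rc_29_2 lc_f_rc_29_2 lc_f_rc_16_1 lc_f_rc_23_1 lc_f_Cert_tree lc_f_rc_25_0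 lc_f_rc_20_1 lc_f_rc_5_3) (@D3.rec (fun _ => (Cert rels S Gen.f)) lc_f_Cert_tree lc_f_Cert_tree lc_f_rc_25_0 lc_f_rc_20_1 lc_f_rc_25_0 lc_f_rc_29_4 lc_f_rc_11_3 lc_f_rc_29_2 lc_f_rc_16_1 lc_f_Cert_tree lc_f_rc_20_3 lc_f_rc_29_2 lc_f_rc_25_0 lc_f_rc_5_3 lc_f_rc_11_1 lc_f_rc_25_0 lc_f_rc_5_3 lc_f_rc_16_1 lc_f_rc_25_0 lc_f_rc_25_0 lc_f_rc_25_0 lc_f_rc_29_4 lc_f_rc_5_1 lc_f_rc_11_3 lc_f_rc_29_2 lc_f_rc_5_1 lc_f_rc_20_1 lc_f_rc_29_2 lc_f_rc_29_2 lc_f_rc_16_1 lc_f_rc_25_0 lc_f_rc_20_1 lc_f_rc_29_2 lc_f_rc_25_0 lc_f_rc_11_1 lc_f_rc_20_1 lc_f_rc_23_1 lc_f_Cert_tree lc_f_rc_25_0 lc_f_rc_25_0) (@D3.rec (fun _ => (Cert rels S Gen.f)) lc_f_rc_29_4 lc_f_rc_11_3 lc_f_rc_29_2 lc_f_rc_11_3 lc_f_rc_20_1 lc_f_rc_16_3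 lc_f_rc_11_3 lc_f_rc_5_3 lc_f_rc_11_3 lc_f_rc_5_1 lc_f_rc_16_1 lc_f_rc_5_1 lc_f_rc_23_3 lc_f_rc_16_1 lc_f_rc_25_1 lc_f_rc_25_0 lc_f_rc_25_0 lc_f_rc_16_1 lc_f_Cert_tree lc_f_rc_25_0 lc_f_rc_25_0 lc_f_rc_11_3 lc_f_rc_5_1 lc_f_rc_25_0 lc_f_rc_26_4 lc_f_rc_25_0 lc_f_rc_11_3 lc_f_rc_20_1 lc_f_rc_11_3 lc_f_rc_5_1 lc_f_rc_5_3 lc_f_Cert_tree lc_f_rc_23_1 lc_f_rc_5_3 lc_f_rc_29_2 lc_f_rc_16_1 lc_f_Cert_tree lc_f_rc_25_0 lc_f_rc_25_0 lc_f_rc_16_1) (@D3.rec (fun _ => (Cert rels S Gen.f)) lc_f_rc_29_4 lc_f_rc_25_0 lc_f_rc_29_2 lc_f_rc_5_3 lc_f_rc_11_3 lc_f_rc_16_3 lc_f_rc_11_3 lc_f_rc_16_1 lc_f_rc_11_1 lc_f_rc_26_6 lc_f_rc_26_2 lc_f_rc_5_1 lc_f_rc_20_1 lc_f_rc_25_0 lc_f_rc_25_0 lc_f_rc_5_1 lc_f_Cert_tree lc_f_rc_29_4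 lc_f_rc_20_1 lc_f_rc_11_3 lc_f_rc_11_3 lc_f_rc_31_10 lc_f_rc_25_0 lc_f_rc_5_1 lc_f_rc_16_1 lc_f_rc_29_2 lc_f_Cert_tree lc_f_rc_5_3 lc_f_Cert_tree lc_f_rc_25_0 lc_f_rc_11_3 lc_f_rc_29_4 lc_f_rc_5_1 lc_f_rc_31_1 lc_f_rc_23_1 lc_f_rc_25_0 lc_f_rc_25_0 lc_f_rc_11_3 lc_f_rc_5_1 lc_f_rc_20_3) (@D3.rec (fun _ => (Cert rels S Gen.f)) lc_f_rc_11_5 lc_f_Cert_tree lc_f_rc_29_2 lc_f_rc_29_2 lc_f_rc_20_1 lc_f_Cert_tree lc_f_rc_25_0 lc_f_Cert_tree lc_f_Cert_tree lc_f_rc_25_0 lc_f_Cert_tree lc_f_rc_25_0 lc_f_rc_29_4 lc_f_rc_5_3 lc_f_rc_23_1 lc_f_rc_25_0 lc_f_rc_29_2 lc_f_rc_29_2 lc_f_rc_23_1 lc_f_rc_26_0 lc_f_Cert_tree lc_f_rc_25_0 lc_f_rc_23_1 lc_f_rc_25_0 lc_f_rc_23_1 lc_f_rc_29_2 lc_f_rc_25_0 lc_f_rc_20_1 lc_f_rc_11_3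 lc_f_Cert_tree lc_f_rc_5_3 lc_f_Cert_tree lc_f_rc_25_0 lc_f_rc_11_5 lc_f_Cert_tree lc_f_rc_25_0 lc_f_rc_26_2 lc_f_rc_25_0 lc_f_rc_29_4 lc_f_rc_5_3) (@D3.rec (fun _ => (Cert rels S Gen.f)) lc_f_Cert_tree lc_f_rc_25_0 lc_f_rc_5_1 lc_f_rc_16_1 lc_f_rc_29_2 lc_f_Cert_tree lc_f_rc_16_1 lc_f_rc_29_2 lc_f_rc_16_1 lc_f_Cert_tree lc_f_rc_25_0 lc_f_rc_20_1 lc_f_rc_11_1 lc_f_rc_29_4 lc_f_Cert_tree lc_f_Cert_tree lc_f_Cert_tree lc_f_rc_25_0 lc_f_rc_11_3 lc_f_rc_5_1 lc_f_rc_16_1 lc_f_rc_29_4 lc_f_Cert_tree lc_f_rc_25_0 lc_f_rc_11_3 lc_f_rc_25_1 lc_f_rc_20_3 lc_f_rc_25_0 lc_f_rc_25_0 lc_f_rc_11_3 lc_f_rc_29_2 lc_f_rc_11_3 lc_f_Cert_tree lc_f_rc_29_2 lc_f_rc_5_3 lc_f_Cert_tree lc_f_rc_25_0 lc_f_rc_11_3 lc_f_rc_5_1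 lc_f_rc_11_3) (@D3.rec (fun _ => (Cert rels S Gen.f)) lc_f_rc_29_4 lc_f_rc_29_2 lc_f_Cert_tree lc_f_rc_5_3 lc_f_Cert_tree lc_f_rc_25_0 lc_f_rc_5_1 lc_f_Cert_tree lc_f_rc_11_3 lc_f_rc_29_2 lc_f_rc_16_1 lc_f_Cert_tree lc_f_Cert_tree lc_f_rc_25_0 lc_f_Cert_tree lc_f_rc_29_2 lc_f_Cert_tree lc_f_rc_25_0 lc_f_rc_11_3 lc_f_rc_5_1 lc_f_rc_16_1 lc_f_rc_11_1 lc_f_rc_20_1 lc_f_Cert_tree lc_f_Cert_tree lc_f_Cert_tree lc_f_Cert_tree lc_f_rc_25_0 lc_f_Cert_tree lc_f_rc_25_0 lc_f_rc_5_3 lc_f_rc_11_3 lc_f_rc_11_3 lc_f_Cert_tree lc_f_rc_25_0 lc_f_rc_26_2 lc_f_rc_23_1 lc_f_Cert_tree lc_f_rc_25_0 lc_f_rc_5_3) (@D3.rec (fun _ => (Cert rels S Gen.f)) lc_f_rc_5_3 lc_f_rc_16_3 lc_f_rc_25_0 lc_f_Cert_tree lc_f_rc_26_6 lc_f_Cert_tree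 lc_f_rc_25_0 lc_f_rc_26_2 lc_f_rc_11_1 lc_f_rc_25_0 lc_f_rc_11_3 lc_f_rc_20_1 lc_f_rc_25_0 lc_f_Cert_tree lc_f_rc_5_1 lc_f_Cert_tree lc_f_rc_25_0 lc_f_rc_29_2 lc_f_Cert_tree lc_f_Cert_tree lc_f_Cert_tree lc_f_rc_25_0 lc_f_rc_31_7 lc_f_Cert_tree lc_f_rc_25_0 lc_f_Cert_tree lc_f_rc_25_0 lc_f_Cert_tree lc_f_rc_25_0 lc_f_rc_5_3 lc_f_Cert_tree lc_f_rc_25_0 lc_f_rc_11_3 lc_f_Cert_tree lc_f_rc_5_3 lc_f_Cert_tree lc_f_rc_25_0 lc_f_rc_11_3 lc_f_rc_29_2 lc_f_rc_16_1) (@D3.rec (fun _ => (Cert rels S Gen.f)) lc_f_Cert_tree lc_f_rc_23_1 lc_f_Cert_tree lc_f_rc_25_0 lc_f_rc_5_1 lc_f_rc_31_1 lc_f_rc_29_4 lc_f_rc_29_4 lc_f_rc_25_0 lc_f_rc_11_3 lc_f_rc_5_1 lc_f_rc_16_1 lc_f_rc_29_2 lc_f_rc_5_1 lc_f_rc_29_2 lc_f_rc_20_1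 lc_f_rc_26_6 lc_f_rc_25_0 lc_f_rc_25_0 lc_f_rc_31_4 lc_f_rc_26_6 lc_f_rc_25_0 lc_f_rc_30_11 lc_f_rc_11_1 lc_f_rc_26_6 lc_f_rc_23_3 lc_f_rc_25_0 lc_f_rc_5_3 lc_f_rc_25_0 lc_f_Cert_tree lc_f_rc_25_0 lc_f_rc_26_2 lc_f_rc_11_3 lc_f_Cert_tree lc_f_rc_25_0 lc_f_rc_5_3 lc_f_rc_23_3 lc_f_Cert_tree lc_f_rc_25_0 lc_f_Cert_tree) (@D3.rec (fun _ => (Cert rels S Gen.f)) lc_f_rc_11_3 lc_f_rc_26_6 lc_f_rc_25_0 lc_f_rc_5_1 lc_f_rc_16_1 lc_f_rc_11_3 lc_f_Cert_tree lc_f_rc_25_0 lc_f_Cert_tree lc_f_rc_11_3 lc_f_rc_5_1 lc_f_rc_25_0 lc_f_rc_25_0 lc_f_rc_11_3 lc_f_rc_29_2 lc_f_rc_16_1 lc_f_Cert_tree lc_f_rc_23_1 lc_f_rc_16_1 lc_f_rc_20_1 lc_f_rc_16_1 lc_f_rc_11_3 lc_f_rc_20_1 lc_f_rc_5_1 lc_f_rc_16_1 lc_f_rc_29_2 lc_f_Cert_tree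 lc_f_rc_11_3 lc_f_rc_5_1 lc_f_rc_11_3 lc_f_rc_29_2 lc_f_Cert_tree lc_f_Cert_tree lc_f_rc_11_1 lc_f_rc_25_0 lc_f_rc_23_1 lc_f_Cert_tree lc_f_rc_25_0 lc_f_rc_11_1 lc_f_Cert_tree) (@D3.rec (fun _ => (Cert rels S Gen.f)) lc_f_rc_11_3 lc_f_rc_5_3 lc_f_rc_16_3 lc_f_rc_25_0 lc_f_rc_11_5 lc_f_rc_25_0 lc_f_Cert_tree lc_f_rc_25_0 lc_f_rc_29_4 lc_f_rc_25_0 lc_f_rc_29_2 lc_f_rc_25_0 lc_f_rc_25_0 lc_f_rc_30_11 lc_f_Cert_tree lc_f_rc_25_0 lc_f_rc_23_1 lc_f_rc_5_1 lc_f_rc_31_7 lc_f_rc_26_6 lc_f_rc_25_0 lc_f_rc_20_1 lc_f_rc_25_0 lc_f_rc_26_2 lc_f_rc_29_2 lc_f_rc_29_2 lc_f_rc_26_6 lc_f_rc_26_6 lc_f_rc_25_0 lc_f_Cert_tree lc_f_rc_11_3 lc_f_rc_20_1 lc_f_Cert_tree lc_f_rc_25_0 lc_f_rc_11_3 lc_f_rc_5_1 lc_f_Cert_tree lc_f_rc_25_0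 lc_f_Cert_tree lc_f_rc_25_0) (@D3.rec (fun _ => (Cert rels S Gen.f)) lc_f_rc_11_3 lc_f_rc_29_4 lc_f_rc_29_2 lc_f_rc_16_1 lc_f_Cert_tree lc_f_Cert_tree lc_f_rc_25_0 lc_f_rc_11_3 lc_f_Cert_tree lc_f_Cert_tree lc_f_rc_25_0 lc_f_rc_11_3 lc_f_rc_29_4 lc_f_rc_5_1 lc_f_rc_29_2 lc_f_Cert_tree lc_f_rc_29_2 lc_f_rc_25_0 lc_f_rc_29_2 lc_f_rc_11_3 lc_f_Cert_tree lc_f_rc_23_1 lc_f_Cert_tree lc_f_rc_16_1 lc_f_Cert_tree lc_f_Cert_tree lc_f_rc_25_0 lc_f_rc_29_2 lc_f_Cert_tree lc_f_rc_20_1 lc_f_rc_25_0 lc_f_Cert_tree lc_f_rc_25_0 lc_f_rc_25_0 lc_f_Cert_tree lc_f_Cert_tree lc_f_rc_25_0 lc_f_Cert_tree lc_f_rc_5_1 lc_f_rc_25_0) (@D3.rec (fun _ => (Cert rels S Gen.f)) lc_f_rc_29_2 lc_f_rc_25_0 lc_f_rc_26_2 lc_f_rc_11_3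 lc_f_rc_25_0 lc_f_rc_25_0 lc_f_rc_26_6 lc_f_rc_25_0 lc_f_rc_11_3 lc_f_rc_11_3 lc_f_rc_5_1 lc_f_rc_16_1 lc_f_Cert_tree lc_f_rc_11_3 lc_f_rc_26_2 lc_f_rc_29_2 lc_f_rc_29_2 lc_f_rc_20_1 lc_f_Cert_tree lc_f_Cert_tree lc_f_rc_25_0 lc_f_Cert_tree lc_f_Cert_tree lc_f_rc_25_0 lc_f_rc_29_2 lc_f_rc_29_2 lc_f_Cert_tree lc_f_rc_16_1 lc_f_rc_31_1 lc_f_Cert_tree lc_f_Cert_tree lc_f_rc_25_0 lc_f_rc_5_3 lc_f_rc_25_0 lc_f_rc_11_3 lc_f_rc_25_0 lc_f_rc_29_4 lc_f_Cert_tree lc_f_Cert_tree lc_f_rc_25_0) (@D3.rec (fun _ => (Cert rels S Gen.f)) lc_f_rc_5_1 lc_f_Cert_tree lc_f_rc_16_1 lc_f_Cert_tree lc_f_Cert_tree lc_f_rc_25_0 lc_f_rc_29_2 lc_f_Cert_tree lc_f_rc_20_1 lc_f_rc_25_0 lc_f_Cert_tree lc_f_rc_25_0 lc_f_rc_25_0 lc_f_Cert_tree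 lc_f_Cert_tree lc_f_rc_25_0 lc_f_Cert_tree lc_f_rc_29_2 lc_f_rc_11_3 lc_f_rc_25_0 lc_f_rc_11_3 lc_f_rc_16_1 lc_f_Cert_tree lc_f_Cert_tree lc_f_Cert_tree lc_f_rc_25_0 lc_f_rc_16_3 lc_f_rc_16_1 lc_f_Cert_tree lc_f_rc_25_0 lc_f_Cert_tree lc_f_Cert_tree lc_f_rc_25_0 lc_f_Cert_tree lc_f_Cert_tree lc_f_rc_25_0 lc_f_rc_5_1 lc_f_rc_25_0 lc_f_rc_11_3 lc_f_rc_29_4) (@D3.rec (fun _ => (Cert rels S Gen.f)) lc_f_rc_31_4 lc_f_rc_16_1 lc_f_Cert_tree lc_f_Cert_tree lc_f_Cert_tree lc_f_rc_25_0 lc_f_Cert_tree lc_f_rc_23_1 lc_f_Cert_tree lc_f_rc_25_0 lc_f_Cert_tree lc_f_rc_5_3 lc_f_Cert_tree lc_f_Cert_tree lc_f_rc_25_0 lc_f_rc_26_2 lc_f_rc_25_0 lc_f_rc_29_2 lc_f_rc_29_4 lc_f_rc_29_2 lc_f_rc_25_0 lc_f_rc_25_0 lc_f_rc_29_4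 lc_f_rc_16_1 lc_f_rc_16_1 lc_f_rc_20_1 lc_f_rc_5_1 lc_f_rc_25_0 lc_f_rc_25_1 lc_f_rc_11_3 lc_f_rc_11_3 lc_f_rc_16_1 lc_f_rc_5_1 lc_f_rc_29_2 lc_f_rc_29_2 lc_f_rc_25_0 lc_f_rc_29_4 lc_f_rc_5_3 lc_f_Cert_tree lc_f_rc_25_0) (@D3.rec (fun _ => (Cert rels S Gen.f)) lc_f_rc_25_0 lc_f_rc_31_10 lc_f_rc_16_3 lc_f_rc_20_3 lc_f_rc_11_5 lc_f_rc_11_3 lc_f_rc_5_1 lc_f_rc_25_0 lc_f_rc_11_3 lc_f_rc_26_2 lc_f_Cert_tree lc_f_rc_5_1 lc_f_rc_25_0 lc_f_rc_23_3 lc_f_rc_5_3 lc_f_rc_31_4 lc_f_rc_25_0 lc_f_rc_20_1 lc_f_Cert_tree lc_f_rc_11_1 lc_f_rc_26_0 lc_f_rc_25_0 lc_f_rc_11_1 lc_f_rc_25_0 lc_f_rc_25_0 lc_f_rc_29_4 lc_f_rc_25_0 lc_f_rc_26_4 lc_f_rc_26_2 lc_f_rc_23_1 lc_f_rc_26_0 lc_f_rc_26_6 lc_f_rc_20_3 lc_f_rc_5_3 lc_f_rc_25_0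 lc_f_rc_5_3 lc_f_rc_5_1 lc_f_rc_25_0 lc_f_rc_11_3 lc_f_rc_5_1) (@D3.rec (fun _ => (Cert rels S Gen.f)) lc_f_rc_16_1 lc_f_rc_29_2 lc_f_rc_20_1 lc_f_rc_29_2 lc_f_rc_29_2 lc_f_Cert_tree lc_f_rc_25_0 lc_f_rc_5_3 lc_f_rc_5_3 lc_f_Cert_tree lc_f_rc_25_0 lc_f_rc_16_1 lc_f_rc_5_1 lc_f_rc_5_1 lc_f_rc_5_1 lc_f_rc_11_3 lc_f_rc_5_1 lc_f_rc_11_1 lc_f_rc_29_4 lc_f_rc_31_10 lc_f_Cert_tree lc_f_rc_20_1 lc_f_rc_5_1 lc_f_rc_29_2 lc_f_rc_5_3 lc_f_rc_25_0 lc_f_rc_16_1 lc_f_rc_29_4 lc_f_rc_11_1 lc_f_rc_16_1 lc_f_rc_25_0 lc_f_rc_11_3 lc_f_rc_29_4 lc_f_rc_5_1 lc_f_rc_16_1 lc_f_rc_29_2 lc_f_rc_11_3 lc_f_rc_20_1 lc_f_rc_11_3 lc_f_rc_5_1) (@D3.rec (fun _ => (Cert rels S Gen.f)) lc_f_rc_11_3 lc_f_rc_26_6 lc_f_rc_11_3 lc_f_rc_29_2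 lc_f_rc_29_4 lc_f_rc_25_0 lc_f_rc_11_5 lc_f_rc_5_1 lc_f_rc_5_1 lc_f_rc_16_1 lc_f_rc_25_0 lc_f_rc_30_11 lc_f_rc_30_11 lc_f_rc_25_0 lc_f_rc_5_3 lc_f_Cert_tree lc_f_rc_25_0 lc_f_rc_11_1 lc_f_rc_29_2 lc_f_rc_25_0 lc_f_rc_29_4 lc_f_rc_20_1 lc_f_rc_5_1 lc_f_rc_25_0 lc_f_rc_16_1 lc_f_rc_11_3 lc_f_rc_29_2 lc_f_rc_5_3 lc_f_rc_5_1 lc_f_rc_26_6 lc_f_rc_25_0 lc_f_Cert_tree lc_f_rc_11_3 lc_f_rc_5_3 lc_f_rc_11_1 lc_f_rc_25_0 lc_f_rc_26_0 lc_f_rc_26_6 lc_f_rc_31_10 lc_f_rc_25_0) (@D3.rec (fun _ => (Cert rels S Gen.f)) lc_f_rc_20_1 lc_f_rc_20_1 lc_f_rc_11_3 lc_f_rc_29_4 lc_f_rc_31_4 lc_f_rc_26_4 lc_f_rc_20_1 lc_f_rc_20_3 lc_f_rc_11_3 lc_f_rc_20_1 lc_f_rc_16_1 lc_f_rc_20_1 lc_f_rc_20_1 lc_f_rc_20_1 lc_f_rc_5_1 lc_f_rc_29_2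 lc_f_Cert_tree lc_f_rc_25_0 lc_f_rc_20_3 lc_f_rc_11_3 lc_f_rc_11_1 lc_f_rc_29_2 lc_f_rc_20_3 lc_f_rc_25_0 lc_f_rc_30_7 lc_f_rc_23_1 lc_f_rc_11_1 lc_f_Cert_tree lc_f_rc_25_0 lc_f_rc_26_6 lc_f_rc_16_1 lc_f_rc_16_3 lc_f_Cert_tree lc_f_Cert_tree lc_f_rc_11_3 lc_f_rc_11_3 lc_f_rc_20_3 lc_f_rc_29_4 lc_f_rc_29_2 lc_f_rc_11_3) (@D3.rec (fun _ => (Cert rels S Gen.f)) lc_f_rc_25_0 lc_f_rc_20_1 lc_f_rc_25_0 lc_f_Cert_tree lc_f_rc_11_3 lc_f_rc_26_6 lc_f_rc_5_1 lc_f_rc_16_1 lc_f_rc_29_2 lc_f_rc_25_0 lc_f_rc_11_3 lc_f_rc_11_1 lc_f_rc_5_1 lc_f_rc_26_2 lc_f_Cert_tree lc_f_rc_25_0 lc_f_rc_11_1 lc_f_rc_25_0 lc_f_rc_31_4 lc_f_rc_5_1 lc_f_rc_16_1 lc_f_rc_11_3 lc_f_rc_11_1 lc_f_rc_25_0 lc_f_rc_31_10 lc_f_rc_16_1 lc_f_rc_5_3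 lc_f_rc_25_0 lc_f_rc_11_3 lc_f_rc_31_7 lc_f_rc_5_1 lc_f_rc_11_3 lc_f_rc_11_1 lc_f_rc_25_0 lc_f_rc_23_1 lc_f_rc_29_4 lc_f_rc_30_15 lc_f_Cert_tree lc_f_rc_25_0 lc_f_rc_16_3) (@D3.rec (fun _ => (Cert rels S Gen.f)) lc_f_rc_25_0 lc_f_rc_11_3 lc_f_rc_16_1 lc_f_rc_29_4 lc_f_rc_29_4 lc_f_rc_11_3 lc_f_rc_11_3 lc_f_Cert_tree lc_f_Cert_tree lc_f_rc_25_0 lc_f_rc_25_0 lc_f_rc_11_3 lc_f_rc_26_2 lc_f_rc_25_1 lc_f_rc_16_1 lc_f_rc_25_0 lc_f_rc_25_0 lc_f_rc_25_0 lc_f_rc_11_3 lc_f_rc_20_1 lc_f_rc_5_1 lc_f_rc_31_10 lc_f_rc_29_2 lc_f_rc_11_5 lc_f_rc_25_0 lc_f_rc_20_1 lc_f_rc_20_3 lc_f_rc_20_1 lc_f_rc_23_3 lc_f_rc_30_11 lc_f_rc_16_3 lc_f_rc_11_3 lc_f_rc_5_1 lc_f_rc_25_0 lc_f_rc_30_11 lc_f_rc_25_0 lc_f_rc_26_2 lc_f_rc_11_3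 lc_f_rc_29_4 lc_f_rc_25_0)
def ce_f_13 : D2 → D3 → (Cert rels S Gen.f) := @D2.rec (fun _ => D3 → (Cert rels S Gen.f)) (@D3.rec (fun _ => (Cert rels S Gen.f)) lc_f_rc_11_3 lc_f_rc_11_1 lc_f_rc_25_0 lc_f_rc_5_1 lc_f_rc_5_1 lc_f_rc_25_0 lc_f_rc_5_1 lc_f_rc_5_3 lc_f_rc_29_2 lc_f_rc_11_3 lc_f_Cert_tree lc_f_rc_25_0 lc_f_rc_26_2 lc_f_rc_20_3 lc_f_rc_16_1 lc_f_rc_11_3 lc_f_rc_11_1 lc_f_rc_26_6 lc_f_rc_5_3 lc_f_rc_25_0 lc_f_rc_29_2 lc_f_rc_16_1 lc_f_rc_25_0 lc_f_rc_29_2 lc_f_rc_29_2 lc_f_rc_29_2 lc_f_rc_29_4 lc_f_rc_25_1 lc_f_rc_26_0 lc_f_rc_25_1 lc_f_rc_11_1 lc_f_rc_25_0 lc_f_rc_20_1 lc_f_rc_29_4 lc_f_rc_26_2 lc_f_rc_25_0 lc_f_rc_25_0 lc_f_rc_5_1 lc_f_rc_11_3 lc_f_rc_25_0) (@D3.rec (fun _ => (Cert rels S Gen.f))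 lc_f_rc_11_3 lc_f_rc_25_0 lc_f_rc_31_10 lc_f_rc_25_0 lc_f_rc_5_3 lc_f_rc_29_2 lc_f_rc_20_1 lc_f_rc_29_4 lc_f_rc_25_0 lc_f_rc_5_1 lc_f_rc_11_3 lc_f_rc_11_1 lc_f_rc_29_2 lc_f_rc_20_3 lc_f_rc_20_1 lc_f_rc_29_4 lc_f_rc_11_3 lc_f_rc_11_3 lc_f_rc_5_1 lc_f_rc_16_1 lc_f_rc_29_4 lc_f_rc_29_4 lc_f_rc_26_2 lc_f_rc_16_1 lc_f_rc_5_1 lc_f_rc_29_4 lc_f_rc_11_1 lc_f_rc_25_0 lc_f_rc_29_4 lc_f_rc_29_4 lc_f_rc_11_3 lc_f_rc_29_2 lc_f_rc_11_3 lc_f_rc_30_11 lc_f_rc_20_1 lc_f_Cert_tree lc_f_rc_25_0 lc_f_Cert_tree lc_f_Cert_tree lc_f_rc_25_0) (@D3.rec (fun _ => (Cert rels S Gen.f)) lc_f_rc_29_2 lc_f_rc_11_1 lc_f_rc_29_4 lc_f_rc_29_2 lc_f_rc_25_0 lc_f_rc_5_3 lc_f_rc_16_1 lc_f_Cert_tree lc_f_rc_25_0 lc_f_Cert_tree lc_f_rc_25_0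 lc_f_rc_29_2 lc_f_rc_29_2 lc_f_rc_20_1 lc_f_rc_29_4 lc_f_rc_16_1 lc_f_rc_5_3 lc_f_rc_20_1 lc_f_rc_20_3 lc_f_Cert_tree lc_f_rc_25_0 lc_f_Cert_tree lc_f_rc_5_3 lc_f_Cert_tree lc_f_rc_25_0 lc_f_rc_11_3 lc_f_rc_20_3 lc_f_rc_16_1 lc_f_rc_26_6 lc_f_rc_5_3 lc_f_Cert_tree lc_f_rc_25_0 lc_f_rc_11_1 lc_f_Cert_tree lc_f_rc_25_0 lc_f_Cert_tree lc_f_rc_25_0 lc_f_rc_29_4 lc_f_rc_5_1 lc_f_rc_16_1) (@D3.rec (fun _ => (Cert rels S Gen.f)) lc_f_rc_29_2 lc_f_rc_23_1 lc_f_rc_16_1 lc_f_rc_29_2 lc_f_rc_20_1 lc_f_Cert_tree lc_f_rc_25_0 lc_f_rc_31_13 lc_f_rc_5_3 lc_f_rc_25_0 lc_f_rc_11_3 lc_f_rc_16_1 lc_f_rc_29_4 lc_f_Cert_tree lc_f_rc_25_0 lc_f_rc_16_1 lc_f_Cert_tree lc_f_rc_11_3 lc_f_rc_25_0 lc_f_rc_16_1 lc_f_rc_11_1 lc_f_Cert_tree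 lc_f_rc_25_0 lc_f_rc_29_4 lc_f_rc_25_0 lc_f_rc_20_1 lc_f_rc_20_1 lc_f_rc_11_3 lc_f_rc_11_3 lc_f_rc_16_1 lc_f_rc_11_1 lc_f_rc_30_7 lc_f_rc_20_1 lc_f_rc_5_1 lc_f_rc_11_3 lc_f_rc_23_3 lc_f_rc_11_5 lc_f_rc_5_3 lc_f_rc_11_1 lc_f_rc_25_0) (@D3.rec (fun _ => (Cert rels S Gen.f)) lc_f_rc_11_1 lc_f_rc_11_1 lc_f_rc_25_0 lc_f_rc_11_1 lc_f_rc_25_0 lc_f_rc_29_4 lc_f_rc_5_1 lc_f_rc_16_1 lc_f_rc_29_2 lc_f_rc_20_1 lc_f_rc_5_1 lc_f_rc_29_2 lc_f_rc_20_1 lc_f_rc_16_3 lc_f_rc_25_0 lc_f_rc_25_0 lc_f_rc_25_0 lc_f_rc_16_1 lc_f_rc_20_1 lc_f_rc_5_1 lc_f_rc_25_0 lc_f_rc_5_3 lc_f_rc_25_0 lc_f_rc_25_0 lc_f_rc_29_4 lc_f_rc_11_3 lc_f_rc_16_1 lc_f_rc_20_1 lc_f_rc_11_3 lc_f_rc_29_2 lc_f_rc_11_3 lc_f_rc_25_0 lc_f_rc_25_0 lc_f_rc_11_1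 lc_f_rc_25_0 lc_f_rc_16_1 lc_f_rc_16_1 lc_f_rc_25_0 lc_f_rc_29_4 lc_f_rc_16_1) (@D3.rec (fun _ => (Cert rels S Gen.f)) lc_f_rc_5_3 lc_f_rc_23_1 lc_f_rc_29_2 lc_f_rc_16_1 lc_f_rc_5_1 lc_f_rc_11_3 lc_f_rc_16_1 lc_f_rc_16_1 lc_f_rc_29_2 lc_f_Cert_tree lc_f_rc_5_3 lc_f_rc_11_5 lc_f_rc_25_0 lc_f_rc_29_4 lc_f_rc_5_3 lc_f_Cert_tree lc_f_rc_25_0 lc_f_rc_26_6 lc_f_rc_16_1 lc_f_rc_5_1 lc_f_Cert_tree lc_f_Cert_tree lc_f_rc_25_0 lc_f_rc_25_0 lc_f_rc_29_4 lc_f_rc_25_1 lc_f_Cert_tree lc_f_rc_25_0 lc_f_rc_5_3 lc_f_rc_5_3 lc_f_Cert_tree lc_f_Cert_tree lc_f_rc_25_0 lc_f_rc_25_0 lc_f_rc_11_3 lc_f_rc_5_1 lc_f_rc_11_3 lc_f_rc_29_2 lc_f_rc_25_1 lc_f_rc_5_1) (@D3.rec (fun _ => (Cert rels S Gen.f)) lc_f_rc_20_1 lc_f_rc_29_2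 lc_f_rc_5_3 lc_f_Cert_tree lc_f_rc_25_0 lc_f_rc_11_1 lc_f_rc_29_2 lc_f_rc_29_2 lc_f_Cert_tree lc_f_rc_25_0 lc_f_rc_11_3 lc_f_rc_26_2 lc_f_rc_16_1 lc_f_rc_26_2 lc_f_rc_11_3 lc_f_rc_11_3 lc_f_rc_20_1 lc_f_rc_29_4 lc_f_rc_26_0 lc_f_rc_11_3 lc_f_rc_5_3 lc_f_rc_25_0 lc_f_rc_20_1 lc_f_rc_26_2 lc_f_rc_5_3 lc_f_rc_25_0 lc_f_rc_16_1 lc_f_Cert_tree lc_f_rc_25_0 lc_f_rc_11_3 lc_f_rc_16_1 lc_f_rc_16_1 lc_f_rc_29_2 lc_f_Cert_tree lc_f_Cert_tree lc_f_rc_11_1 lc_f_rc_25_0 lc_f_rc_25_0 lc_f_Cert_tree lc_f_rc_25_0) (@D3.rec (fun _ => (Cert rels S Gen.f)) lc_f_rc_20_1 lc_f_Cert_tree lc_f_Cert_tree lc_f_rc_25_0 lc_f_rc_25_0 lc_f_rc_11_3 lc_f_rc_29_2 lc_f_rc_16_1 lc_f_Cert_tree lc_f_rc_5_1 lc_f_rc_26_6 lc_f_Cert_tree lc_f_rc_5_3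 lc_f_rc_20_1 lc_f_Cert_tree lc_f_rc_25_0 lc_f_rc_16_3 lc_f_rc_23_1 lc_f_rc_20_1 lc_f_rc_23_1 lc_f_Cert_tree lc_f_Cert_tree lc_f_rc_25_0 lc_f_rc_23_1 lc_f_rc_25_0 lc_f_Cert_tree lc_f_Cert_tree lc_f_Cert_tree lc_f_rc_25_0 lc_f_rc_5_1 lc_f_Cert_tree lc_f_Cert_tree lc_f_rc_25_0 lc_f_rc_25_0 lc_f_rc_29_4 lc_f_Cert_tree lc_f_Cert_tree lc_f_rc_25_0 lc_f_rc_11_3 lc_f_rc_11_3) (@D3.rec (fun _ => (Cert rels S Gen.f)) lc_f_Cert_tree lc_f_rc_25_0 lc_f_rc_25_0 lc_f_rc_25_1 lc_f_rc_29_2 lc_f_rc_26_4 lc_f_Cert_tree lc_f_rc_5_1 lc_f_rc_5_3 lc_f_Cert_tree lc_f_rc_25_0 lc_f_rc_16_3 lc_f_rc_5_1 lc_f_rc_29_4 lc_f_Cert_tree lc_f_Cert_tree lc_f_rc_11_1 lc_f_rc_25_0 lc_f_Cert_tree lc_f_rc_25_0 lc_f_Cert_tree lc_f_rc_5_1 lc_f_rc_16_1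 lc_f_rc_23_1 lc_f_rc_29_2 lc_f_rc_11_3 lc_f_rc_26_2 lc_f_Cert_tree lc_f_rc_25_0 lc_f_rc_16_3 lc_f_Cert_tree lc_f_rc_25_0 lc_f_rc_11_3 lc_f_rc_25_0 lc_f_Cert_tree lc_f_rc_16_1 lc_f_rc_29_2 lc_f_rc_29_2 lc_f_rc_16_1 lc_f_Cert_tree) (@D3.rec (fun _ => (Cert rels S Gen.f)) lc_f_rc_16_1 lc_f_Cert_tree lc_f_Cert_tree lc_f_rc_25_0 lc_f_rc_11_3 lc_f_rc_16_1 lc_f_rc_31_7 lc_f_Cert_tree lc_f_Cert_tree lc_f_rc_25_0 lc_f_rc_23_1 lc_f_Cert_tree lc_f_rc_29_2 lc_f_rc_25_0 lc_f_Cert_tree lc_f_rc_25_0 lc_f_Cert_tree lc_f_Cert_tree lc_f_rc_25_0 lc_f_Cert_tree lc_f_rc_11_1 lc_f_rc_20_3 lc_f_rc_25_0 lc_f_rc_29_2 lc_f_Cert_tree lc_f_rc_23_3 lc_f_rc_25_0 lc_f_rc_29_4 lc_f_rc_25_0 lc_f_Cert_tree lc_f_Cert_tree lc_f_rc_25_0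 lc_f_Cert_tree lc_f_Cert_tree lc_f_rc_25_0 lc_f_Cert_tree lc_f_Cert_tree lc_f_rc_25_0 lc_f_Cert_tree lc_f_Cert_tree) (@D3.rec (fun _ => (Cert rels S Gen.f)) lc_f_rc_25_0 lc_f_rc_29_2 lc_f_Cert_tree lc_f_rc_25_0 lc_f_Cert_tree lc_f_rc_30_15 lc_f_Cert_tree lc_f_Cert_tree lc_f_rc_25_0 lc_f_rc_20_1 lc_f_rc_16_1 lc_f_rc_26_2 lc_f_rc_5_1 lc_f_rc_16_1 lc_f_rc_29_2 lc_f_Cert_tree lc_f_rc_25_0 lc_f_rc_16_1 lc_f_rc_29_4 lc_f_rc_5_3 lc_f_rc_25_0 lc_f_rc_5_1 lc_f_rc_26_6 lc_f_Cert_tree lc_f_rc_5_3 lc_f_rc_16_1 lc_f_rc_5_3 lc_f_rc_11_5 lc_f_rc_25_0 lc_f_rc_5_3 lc_f_rc_5_3 lc_f_rc_25_0 lc_f_rc_11_3 lc_f_rc_16_1 lc_f_rc_11_5 lc_f_rc_25_0 lc_f_rc_25_0 lc_f_rc_29_4 lc_f_rc_25_1 lc_f_rc_11_3) (@D3.rec (fun _ => (Cert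 rels S Gen.f)) lc_f_rc_5_1 lc_f_rc_5_1 lc_f_rc_25_0 lc_f_rc_5_1 lc_f_rc_16_1 lc_f_rc_11_1 lc_f_rc_25_0 lc_f_rc_11_5 lc_f_rc_11_1 lc_f_Cert_tree lc_f_rc_20_3 lc_f_rc_16_1 lc_f_rc_11_1 lc_f_Cert_tree lc_f_rc_16_1 lc_f_rc_5_1 lc_f_rc_5_1 lc_f_rc_25_0 lc_f_rc_11_3 lc_f_rc_16_1 lc_f_rc_5_3 lc_f_rc_25_0 lc_f_rc_11_3 lc_f_rc_5_1 lc_f_Cert_tree lc_f_rc_29_4 lc_f_rc_11_3 lc_f_rc_5_3 lc_f_rc_26_2 lc_f_rc_11_1 lc_f_rc_20_1 lc_f_rc_29_2 lc_f_rc_11_3 lc_f_rc_25_1 lc_f_rc_26_4 lc_f_rc_5_3 lc_f_rc_11_1 lc_f_rc_25_0 lc_f_Cert_tree lc_f_Cert_tree) (@D3.rec (fun _ => (Cert rels S Gen.f)) lc_f_rc_25_0 lc_f_rc_20_1 lc_f_Cert_tree lc_f_rc_25_0 lc_f_rc_25_0 lc_f_rc_5_1 lc_f_rc_5_1 lc_f_rc_5_1 lc_f_rc_29_2 lc_f_rc_5_1 lc_f_rc_23_1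 lc_f_rc_20_3 lc_f_Cert_tree lc_f_rc_29_2 lc_f_rc_30_11 lc_f_Cert_tree lc_f_rc_25_0 lc_f_rc_31_7 lc_f_rc_5_1 lc_f_rc_26_2 lc_f_rc_16_1 lc_f_rc_11_3 lc_f_rc_31_10 lc_f_rc_23_1 lc_f_rc_11_1 lc_f_rc_5_3 lc_f_rc_25_0 lc_f_rc_16_3 lc_f_rc_31_7 lc_f_rc_25_0 lc_f_rc_29_4 lc_f_rc_30_3 lc_f_Cert_tree lc_f_rc_25_0 lc_f_rc_29_2 lc_f_rc_20_1 lc_f_rc_5_3 lc_f_rc_11_3 lc_f_rc_5_1 lc_f_rc_29_2) (@D3.rec (fun _ => (Cert rels S Gen.f)) lc_f_rc_16_3 lc_f_rc_25_0 lc_f_rc_16_3 lc_f_rc_25_0 lc_f_rc_11_3 lc_f_rc_5_3 lc_f_rc_5_1 lc_f_rc_25_0 lc_f_rc_31_7 lc_f_rc_29_2 lc_f_rc_5_3 lc_f_rc_29_2 lc_f_Cert_tree lc_f_rc_25_0 lc_f_rc_25_0 lc_f_rc_11_1 lc_f_rc_11_3 lc_f_rc_25_0 lc_f_rc_20_3 lc_f_rc_20_1 lc_f_rc_30_11 lc_f_rc_26_4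 lc_f_rc_25_0 lc_f_rc_29_2 lc_f_rc_20_1 lc_f_rc_20_3 lc_f_rc_31_4 lc_f_rc_25_0 lc_f_rc_25_0 lc_f_rc_23_1 lc_f_rc_25_0 lc_f_rc_5_1 lc_f_rc_25_0 lc_f_rc_25_0 lc_f_rc_29_4 lc_f_rc_16_3 lc_f_rc_23_3 lc_f_rc_29_4 lc_f_rc_16_3 lc_f_Cert_tree) (@D3.rec (fun _ => (Cert rels S Gen.f)) lc_f_rc_25_0 lc_f_rc_25_0 lc_f_rc_5_1 lc_f_rc_25_1 lc_f_rc_11_1 lc_f_rc_11_1 lc_f_rc_11_3 lc_f_rc_25_0 lc_f_rc_25_1 lc_f_rc_23_1 lc_f_rc_20_1 lc_f_Cert_tree lc_f_rc_25_0 lc_f_rc_11_3 lc_f_rc_23_1 lc_f_rc_29_4 lc_f_rc_25_0 lc_f_rc_29_4 lc_f_rc_23_3 lc_f_rc_25_0 lc_f_rc_30_11 lc_f_rc_30_11 lc_f_rc_26_4 lc_f_rc_16_1 lc_f_rc_5_1 lc_f_rc_20_1 lc_f_rc_16_1 lc_f_rc_29_4 lc_f_rc_29_2 lc_f_rc_20_1 lc_f_rc_26_2 lc_f_Cert_tree lc_f_rc_25_0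 lc_f_rc_5_1 lc_f_rc_5_1 lc_f_rc_25_0 lc_f_rc_31_7 lc_f_rc_5_1 lc_f_rc_31_10 lc_f_rc_25_0) (@D3.rec (fun _ => (Cert rels S Gen.f)) lc_f_rc_16_1 lc_f_rc_29_2 lc_f_rc_5_3 lc_f_rc_5_3 lc_f_Cert_tree lc_f_rc_25_0 lc_f_rc_23_1 lc_f_rc_20_1 lc_f_rc_25_0 lc_f_rc_5_1 lc_f_rc_11_3 lc_f_rc_29_2 lc_f_rc_16_1 lc_f_Cert_tree lc_f_rc_25_0 lc_f_rc_5_1 lc_f_rc_31_4 lc_f_rc_11_5 lc_f_Cert_tree lc_f_rc_25_0 lc_f_rc_11_1 lc_f_rc_25_0 lc_f_rc_20_1 lc_f_rc_25_0 lc_f_rc_29_4 lc_f_rc_29_2 lc_f_rc_5_1 lc_f_rc_29_2 lc_f_rc_25_0 lc_f_rc_29_2 lc_f_rc_25_0 lc_f_rc_29_4 lc_f_rc_25_0 lc_f_rc_23_1 lc_f_rc_29_2 lc_f_rc_20_1 lc_f_rc_29_2 lc_f_rc_20_1 lc_f_rc_29_4 lc_f_Cert_tree) (@D3.rec (fun _ => (Cert rels S Gen.f)) lc_f_rc_11_3 lc_f_rc_11_5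 lc_f_rc_25_0 lc_f_rc_26_6 lc_f_rc_20_3 lc_f_Cert_tree lc_f_rc_25_0 lc_f_rc_11_3 lc_f_rc_11_3 lc_f_rc_16_1 lc_f_rc_25_0 lc_f_rc_23_1 lc_f_rc_29_2 lc_f_Cert_tree lc_f_rc_26_2 lc_f_rc_25_0 lc_f_Cert_tree lc_f_rc_25_0 lc_f_rc_11_3 lc_f_rc_25_0 lc_f_rc_11_1 lc_f_rc_11_1 lc_f_rc_5_1 lc_f_rc_25_0 lc_f_rc_11_1 lc_f_rc_5_3 lc_f_rc_29_2 lc_f_rc_11_3 lc_f_rc_5_1 lc_f_Cert_tree lc_f_rc_25_0 lc_f_rc_25_0 lc_f_Cert_tree lc_f_rc_25_0 lc_f_rc_11_3 lc_f_rc_20_1 lc_f_rc_16_1 lc_f_Cert_tree lc_f_rc_25_0 lc_f_rc_20_1) (@D3.rec (fun _ => (Cert rels S Gen.f)) lc_f_rc_29_4 lc_f_rc_11_1 lc_f_rc_26_4 lc_f_Cert_tree lc_f_rc_25_0 lc_f_rc_11_3 lc_f_rc_16_1 lc_f_rc_5_1 lc_f_rc_20_1 lc_f_rc_16_1 lc_f_rc_16_3 lc_f_rc_5_1 lc_f_rc_11_3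 lc_f_rc_5_1 lc_f_rc_20_1 lc_f_rc_20_1 lc_f_rc_23_1 lc_f_Cert_tree lc_f_rc_25_0 lc_f_Cert_tree lc_f_rc_25_0 lc_f_rc_29_2 lc_f_rc_29_2 lc_f_rc_23_1 lc_f_Cert_tree lc_f_Cert_tree lc_f_rc_25_0 lc_f_Cert_tree lc_f_rc_25_0 lc_f_Cert_tree lc_f_rc_25_0 lc_f_rc_11_3 lc_f_rc_5_1 lc_f_Cert_tree lc_f_rc_5_1 lc_f_Cert_tree lc_f_rc_5_3 lc_f_rc_5_1 lc_f_rc_29_4 lc_f_rc_23_3) (@D3.rec (fun _ => (Cert rels S Gen.f)) lc_f_rc_25_1 lc_f_rc_16_1 lc_f_rc_11_3 lc_f_rc_30_15 lc_f_rc_11_1 lc_f_Cert_tree lc_f_rc_25_0 lc_f_Cert_tree lc_f_rc_11_3 lc_f_rc_25_0 lc_f_rc_16_1 lc_f_rc_29_2 lc_f_rc_11_3 lc_f_rc_5_3 lc_f_Cert_tree lc_f_rc_25_0 lc_f_rc_16_1 lc_f_Cert_tree lc_f_Cert_tree lc_f_rc_25_0 lc_f_Cert_tree lc_f_Cert_tree lc_f_rc_25_0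 lc_f_rc_11_3 lc_f_rc_29_4 lc_f_Cert_tree lc_f_rc_25_0 lc_f_Cert_tree lc_f_rc_31_7 lc_f_rc_25_0 lc_f_rc_23_3 lc_f_rc_25_0 lc_f_rc_26_2 lc_f_rc_5_1 lc_f_rc_20_1 lc_f_rc_29_2 lc_f_rc_26_4 lc_f_Cert_tree lc_f_rc_29_2 lc_f_rc_29_2) (@D3.rec (fun _ => (Cert rels S Gen.f)) lc_f_rc_16_1 lc_f_rc_23_1 lc_f_Cert_tree lc_f_Cert_tree lc_f_rc_25_0 lc_f_rc_20_1 lc_f_rc_20_1 lc_f_rc_26_6 lc_f_rc_5_3 lc_f_rc_26_4 lc_f_rc_25_0 lc_f_Cert_tree lc_f_rc_16_1 lc_f_rc_11_5 lc_f_rc_25_0 lc_f_rc_25_0 lc_f_rc_29_2 lc_f_rc_23_1 lc_f_rc_20_1 lc_f_rc_25_0 lc_f_rc_26_6 lc_f_rc_25_0 lc_f_rc_20_1 lc_f_rc_16_1 lc_f_rc_11_3 lc_f_rc_11_3 lc_f_rc_11_3 lc_f_Cert_tree lc_f_rc_29_2 lc_f_rc_20_1 lc_f_rc_16_1 lc_f_Cert_tree lc_f_rc_20_1 lc_f_Cert_tree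 lc_f_Cert_tree lc_f_rc_25_0 lc_f_rc_23_1 lc_f_rc_5_3 lc_f_rc_25_0 lc_f_rc_25_0) (@D3.rec (fun _ => (Cert rels S Gen.f)) lc_f_rc_29_4 lc_f_rc_16_1 lc_f_Cert_tree lc_f_rc_5_3 lc_f_Cert_tree lc_f_rc_25_0 lc_f_rc_16_1 lc_f_rc_5_1 lc_f_rc_20_1 lc_f_rc_11_1 lc_f_rc_25_0 lc_f_rc_30_15 lc_f_Cert_tree lc_f_rc_25_0 lc_f_rc_11_3 lc_f_Cert_tree lc_f_rc_25_0 lc_f_rc_25_0 lc_f_rc_29_4 lc_f_Cert_tree lc_f_rc_5_3 lc_f_Cert_tree lc_f_rc_25_0 lc_f_Cert_tree lc_f_Cert_tree lc_f_rc_25_0 lc_f_Cert_tree lc_f_rc_11_3 lc_f_rc_11_1 lc_f_rc_25_0 lc_f_Cert_tree lc_f_rc_25_0 lc_f_Cert_tree lc_f_Cert_tree lc_f_rc_25_0 lc_f_Cert_tree lc_f_rc_25_0 lc_f_rc_11_1 lc_f_rc_5_3 lc_f_Cert_tree) (@D3.rec (fun _ => (Cert rels S Gen.f)) lc_f_Cert_tree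 lc_f_Cert_tree lc_f_rc_25_0 lc_f_rc_25_0 lc_f_Cert_tree lc_f_rc_25_0 lc_f_rc_11_3 lc_f_rc_11_3 lc_f_rc_29_2 lc_f_rc_16_1 lc_f_Cert_tree lc_f_rc_5_3 lc_f_rc_5_1 lc_f_rc_29_2 lc_f_Cert_tree lc_f_rc_25_0 lc_f_rc_11_1 lc_f_rc_16_1 lc_f_rc_5_1 lc_f_rc_16_1 lc_f_rc_29_2 lc_f_rc_16_1 lc_f_rc_11_3 lc_f_rc_26_4 lc_f_Cert_tree lc_f_rc_25_0 lc_f_rc_31_13 lc_f_rc_16_1 lc_f_rc_29_2 lc_f_Cert_tree lc_f_rc_20_1 lc_f_Cert_tree lc_f_rc_16_3 lc_f_rc_25_0 lc_f_rc_11_3 lc_f_rc_26_6 lc_f_rc_5_1 lc_f_rc_11_5 lc_f_rc_16_1 lc_f_rc_20_3) (@D3.rec (fun _ => (Cert rels S Gen.f)) lc_f_rc_25_0 lc_f_rc_11_1 lc_f_rc_11_1 lc_f_rc_25_0 lc_f_rc_26_6 lc_f_rc_29_2 lc_f_rc_29_4 lc_f_Cert_tree lc_f_Cert_tree lc_f_Cert_tree lc_f_rc_25_0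 lc_f_rc_11_3 lc_f_rc_11_3 lc_f_rc_30_15 lc_f_rc_16_1 lc_f_Cert_tree lc_f_rc_25_0 lc_f_rc_16_1 lc_f_rc_30_11 lc_f_rc_30_7 lc_f_rc_5_1 lc_f_rc_5_1 lc_f_rc_16_1 lc_f_Cert_tree lc_f_Cert_tree lc_f_rc_25_0 lc_f_Cert_tree lc_f_Cert_tree lc_f_rc_25_0 lc_f_rc_11_3 lc_f_rc_11_3 lc_f_rc_16_1 lc_f_rc_29_2 lc_f_rc_11_3 lc_f_rc_5_1 lc_f_rc_29_2 lc_f_rc_29_2 lc_f_rc_25_0 lc_f_rc_29_4 lc_f_Cert_tree) (@D3.rec (fun _ => (Cert rels S Gen.f)) lc_f_rc_25_0 lc_f_rc_20_1 lc_f_rc_20_3 lc_f_rc_25_0 lc_f_Cert_tree lc_f_rc_5_1 lc_f_rc_16_1 lc_f_Cert_tree lc_f_Cert_tree lc_f_Cert_tree lc_f_Cert_tree lc_f_rc_25_0 lc_f_rc_5_1 lc_f_rc_25_0 lc_f_rc_5_1 lc_f_rc_11_1 lc_f_rc_25_0 lc_f_rc_31_10 lc_f_rc_16_1 lc_f_Cert_tree lc_f_Cert_tree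 lc_f_rc_25_0 lc_f_Cert_tree lc_f_Cert_tree lc_f_rc_25_0 lc_f_rc_16_3 lc_f_rc_5_3 lc_f_rc_20_1 lc_f_Cert_tree lc_f_rc_5_3 lc_f_Cert_tree lc_f_rc_25_0 lc_f_rc_11_3 lc_f_rc_29_2 lc_f_rc_16_1 lc_f_Cert_tree lc_f_rc_30_7 lc_f_rc_25_0 lc_f_rc_5_1 lc_f_rc_16_1) (@D3.rec (fun _ => (Cert rels S Gen.f)) lc_f_rc_29_2 lc_f_rc_11_1 lc_f_rc_16_1 lc_f_rc_29_2 lc_f_Cert_tree lc_f_rc_25_0 lc_f_rc_11_3 lc_f_rc_16_3 lc_f_rc_11_3 lc_f_rc_29_4 lc_f_Cert_tree lc_f_Cert_tree lc_f_rc_25_0 lc_f_Cert_tree lc_f_Cert_tree lc_f_rc_25_0 lc_f_rc_11_3 lc_f_rc_11_3 lc_f_rc_20_1 lc_f_rc_11_5 lc_f_rc_5_3 lc_f_rc_16_1 lc_f_rc_29_2 lc_f_rc_16_1 lc_f_Cert_tree lc_f_rc_25_0 lc_f_rc_11_3 lc_f_Cert_tree lc_f_rc_25_0 lc_f_rc_16_3 lc_f_rc_5_1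 lc_f_rc_29_2 lc_f_rc_11_3 lc_f_Cert_tree lc_f_rc_5_1 lc_f_rc_16_1 lc_f_Cert_tree lc_f_rc_5_3 lc_f_rc_5_1 lc_f_rc_20_1) (@D3.rec (fun _ => (Cert rels S Gen.f)) lc_f_rc_29_2 lc_f_Cert_tree lc_f_Cert_tree lc_f_Cert_tree lc_f_rc_25_0 lc_f_rc_30_11 lc_f_rc_11_5 lc_f_rc_5_3 lc_f_Cert_tree lc_f_rc_25_0 lc_f_rc_16_3 lc_f_Cert_tree lc_f_rc_25_0 lc_f_rc_25_0 lc_f_rc_29_4 lc_f_rc_16_1 lc_f_rc_11_3 lc_f_rc_26_2 lc_f_rc_29_2 lc_f_rc_20_1 lc_f_rc_30_7 lc_f_rc_29_2 lc_f_rc_25_0 lc_f_rc_5_3 lc_f_rc_25_0 lc_f_rc_26_2 lc_f_rc_23_3 lc_f_rc_11_5 lc_f_rc_23_1 lc_f_rc_5_1 lc_f_Cert_tree lc_f_rc_23_1 lc_f_Cert_tree lc_f_rc_5_1 lc_f_Cert_tree lc_f_rc_25_0 lc_f_rc_26_6 lc_f_rc_25_0 lc_f_rc_25_1 lc_f_rc_11_3)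
def ce_f_14 : D2 → D3 → (Cert rels S Gen.f) := @D2.rec (fun _ => D3 → (Cert rels S Gen.f)) (@D3.rec (fun _ => (Cert rels S Gen.f)) lc_f_rc_29_4 lc_f_rc_11_3 lc_f_rc_20_3 lc_f_Cert_tree lc_f_rc_25_0 lc_f_Cert_tree lc_f_Cert_tree lc_f_rc_11_3 lc_f_rc_5_3 lc_f_Cert_tree lc_f_rc_25_0 lc_f_rc_29_4 lc_f_Cert_tree lc_f_rc_25_0 lc_f_rc_20_1 lc_f_Cert_tree lc_f_rc_29_4 lc_f_rc_25_0 lc_f_rc_29_2 lc_f_Cert_tree lc_f_rc_25_0 lc_f_rc_11_3 lc_f_rc_29_4 lc_f_Cert_tree lc_f_rc_23_1 lc_f_rc_5_3 lc_f_Cert_tree lc_f_rc_25_0 lc_f_rc_25_0 lc_f_rc_11_3 lc_f_Cert_tree lc_f_Cert_tree lc_f_Cert_tree lc_f_rc_25_0 lc_f_rc_5_3 lc_f_rc_25_0 lc_f_rc_26_2 lc_f_rc_11_3 lc_f_rc_30_7 lc_f_rc_25_0) (@D3.rec (fun _ => (Cert rels S Gen.f))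 lc_f_Cert_tree lc_f_rc_25_0 lc_f_Cert_tree lc_f_rc_25_0 lc_f_rc_11_3 lc_f_rc_5_1 lc_f_rc_25_0 lc_f_rc_26_6 lc_f_rc_25_0 lc_f_Cert_tree lc_f_rc_11_3 lc_f_rc_11_3 lc_f_rc_5_3 lc_f_rc_25_0 lc_f_rc_5_1 lc_f_rc_25_0 lc_f_Cert_tree lc_f_rc_11_3 lc_f_Cert_tree lc_f_rc_5_1 lc_f_rc_20_1 lc_f_Cert_tree lc_f_rc_25_0 lc_f_Cert_tree lc_f_rc_25_0 lc_f_Cert_tree lc_f_Cert_tree lc_f_rc_29_2 lc_f_rc_23_1 lc_f_Cert_tree lc_f_rc_20_1 lc_f_rc_25_0 lc_f_rc_11_3 lc_f_rc_25_0 lc_f_rc_5_1 lc_f_rc_11_1 lc_f_rc_29_2 lc_f_rc_29_4 lc_f_rc_11_1 lc_f_rc_5_3) (@D3.rec (fun _ => (Cert rels S Gen.f)) lc_f_rc_25_0 lc_f_rc_5_3 lc_f_rc_29_2 lc_f_rc_20_1 lc_f_Cert_tree lc_f_Cert_tree lc_f_rc_25_0 lc_f_rc_23_3 lc_f_rc_25_0 lc_f_Cert_tree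 lc_f_rc_29_2 lc_f_rc_25_0 lc_f_Cert_tree lc_f_rc_11_3 lc_f_rc_5_1 lc_f_Cert_tree lc_f_rc_25_0 lc_f_rc_29_4 lc_f_rc_25_0 lc_f_Cert_tree lc_f_rc_11_3 lc_f_rc_29_2 lc_f_rc_25_0 lc_f_rc_5_1 lc_f_rc_11_3 lc_f_rc_29_2 lc_f_rc_25_0 lc_f_Cert_tree lc_f_Cert_tree lc_f_rc_25_0 lc_f_rc_5_3 lc_f_rc_25_0 lc_f_rc_5_3 lc_f_rc_20_1 lc_f_rc_30_11 lc_f_rc_16_1 lc_f_Cert_tree lc_f_rc_25_0 lc_f_Cert_tree lc_f_Cert_tree) (@D3.rec (fun _ => (Cert rels S Gen.f)) lc_f_rc_25_0 lc_f_Cert_tree lc_f_rc_11_3 lc_f_rc_5_1 lc_f_rc_11_5 lc_f_rc_25_0 lc_f_rc_23_1 lc_f_rc_25_0 lc_f_Cert_tree lc_f_rc_11_3 lc_f_rc_5_3 lc_f_rc_16_3 lc_f_rc_25_0 lc_f_rc_5_1 lc_f_rc_5_1 lc_f_rc_23_1 lc_f_rc_26_6 lc_f_Cert_tree lc_f_rc_25_0 lc_f_rc_25_0 lc_f_rc_11_3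 lc_f_rc_29_4 lc_f_rc_11_3 lc_f_rc_23_1 lc_f_rc_11_3 lc_f_rc_16_1 lc_f_rc_26_2 lc_f_rc_26_6 lc_f_rc_26_6 lc_f_rc_16_1 lc_f_rc_16_1 lc_f_rc_29_4 lc_f_rc_25_0 lc_f_rc_20_1 lc_f_rc_23_3 lc_f_rc_30_11 lc_f_rc_11_3 lc_f_rc_29_4 lc_f_rc_5_3 lc_f_rc_25_0) (@D3.rec (fun _ => (Cert rels S Gen.f)) lc_f_rc_25_0 lc_f_rc_11_3 lc_f_rc_25_0 lc_f_rc_29_4 lc_f_rc_29_2 lc_f_rc_25_0 lc_f_rc_25_0 lc_f_rc_25_0 lc_f_rc_11_3 lc_f_rc_5_1 lc_f_rc_25_0 lc_f_rc_29_4 lc_f_rc_11_3 lc_f_Cert_tree lc_f_rc_25_0 lc_f_rc_23_3 lc_f_rc_25_0 lc_f_rc_30_11 lc_f_rc_29_2 lc_f_rc_11_5 lc_f_Cert_tree lc_f_rc_16_3 lc_f_rc_25_0 lc_f_rc_30_11 lc_f_rc_25_0 lc_f_rc_16_1 lc_f_rc_16_3 lc_f_rc_23_1 lc_f_rc_11_3 lc_f_rc_29_4 lc_f_rc_29_4 lc_f_rc_20_1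 lc_f_rc_20_1 lc_f_rc_29_4 lc_f_rc_5_1 lc_f_rc_29_2 lc_f_rc_25_1 lc_f_rc_29_2 lc_f_rc_25_0 lc_f_rc_11_3) (@D3.rec (fun _ => (Cert rels S Gen.f)) lc_f_rc_16_1 lc_f_rc_23_1 lc_f_rc_16_1 lc_f_rc_23_1 lc_f_rc_16_1 lc_f_rc_11_1 lc_f_rc_16_1 lc_f_Cert_tree lc_f_rc_25_0 lc_f_rc_26_2 lc_f_rc_25_1 lc_f_rc_25_0 lc_f_rc_20_1 lc_f_rc_31_7 lc_f_rc_25_0 lc_f_rc_5_3 lc_f_rc_25_0 lc_f_rc_25_0 lc_f_rc_11_3 lc_f_rc_11_1 lc_f_rc_23_3 lc_f_rc_29_2 lc_f_rc_5_1 lc_f_rc_5_1 lc_f_rc_29_2 lc_f_rc_25_1 lc_f_rc_26_2 lc_f_rc_25_0 lc_f_rc_11_3 lc_f_rc_16_1 lc_f_rc_11_3 lc_f_rc_11_3 lc_f_rc_25_0 lc_f_rc_20_3 lc_f_rc_11_1 lc_f_rc_20_3 lc_f_rc_11_1 lc_f_rc_25_0 lc_f_rc_26_2 lc_f_rc_25_0) (@D3.rec (fun _ => (Cert rels S Gen.f)) lc_f_rc_29_2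 lc_f_rc_11_3 lc_f_rc_25_0 lc_f_rc_31_10 lc_f_rc_29_4 lc_f_rc_16_1 lc_f_Cert_tree lc_f_rc_11_3 lc_f_rc_5_1 lc_f_rc_5_3 lc_f_rc_5_1 lc_f_rc_25_0 lc_f_rc_5_3 lc_f_rc_20_3 lc_f_rc_25_0 lc_f_rc_25_0 lc_f_rc_11_3 lc_f_rc_20_1 lc_f_rc_25_0 lc_f_rc_5_1 lc_f_rc_20_3 lc_f_rc_11_3 lc_f_rc_16_1 lc_f_rc_11_1 lc_f_rc_5_1 lc_f_Cert_tree lc_f_rc_11_1 lc_f_rc_25_0 lc_f_rc_26_6 lc_f_rc_25_0 lc_f_rc_16_1 lc_f_rc_11_3 lc_f_rc_25_0 lc_f_rc_5_1 lc_f_rc_29_2 lc_f_rc_20_1 lc_f_rc_25_0 lc_f_rc_11_3 lc_f_rc_25_0 lc_f_rc_5_3) (@D3.rec (fun _ => (Cert rels S Gen.f)) lc_f_rc_5_1 lc_f_rc_11_1 lc_f_rc_29_2 lc_f_rc_20_1 lc_f_rc_25_0 lc_f_rc_26_6 lc_f_rc_20_1 lc_f_rc_11_3 lc_f_rc_5_1 lc_f_rc_23_3 lc_f_rc_16_1 lc_f_rc_25_0 lc_f_rc_5_1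 lc_f_rc_5_3 lc_f_rc_16_3 lc_f_rc_20_1 lc_f_rc_25_0 lc_f_rc_25_0 lc_f_rc_20_1 lc_f_rc_26_2 lc_f_rc_26_0 lc_f_rc_5_1 lc_f_rc_5_1 lc_f_rc_5_3 lc_f_rc_20_1 lc_f_rc_25_0 lc_f_rc_11_1 lc_f_rc_20_3 lc_f_Cert_tree lc_f_rc_25_0 lc_f_rc_25_0 lc_f_rc_29_4 lc_f_rc_29_4 lc_f_rc_11_3 lc_f_rc_16_1 lc_f_rc_16_3 lc_f_rc_25_0 lc_f_rc_25_0 lc_f_rc_11_3 lc_f_rc_25_0) (@D3.rec (fun _ => (Cert rels S Gen.f)) lc_f_rc_11_3 lc_f_rc_16_1 lc_f_rc_5_1 lc_f_rc_5_1 lc_f_rc_26_2 lc_f_rc_5_1 lc_f_rc_16_1 lc_f_rc_23_1 lc_f_rc_20_1 lc_f_rc_23_1 lc_f_rc_16_1 lc_f_rc_20_1 lc_f_rc_16_1 lc_f_rc_20_1 lc_f_rc_5_1 lc_f_rc_5_1 lc_f_rc_5_1 lc_f_rc_16_1 lc_f_rc_5_3 lc_f_Cert_tree lc_f_rc_25_0 lc_f_rc_26_6 lc_f_Cert_tree lc_f_rc_11_3 lc_f_rc_11_1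 lc_f_rc_29_2 lc_f_rc_29_4 lc_f_rc_11_1 lc_f_rc_29_2 lc_f_rc_11_1 lc_f_rc_11_3 lc_f_rc_20_1 lc_f_Cert_tree lc_f_rc_25_0 lc_f_rc_5_3 lc_f_rc_16_3 lc_f_rc_25_0 lc_f_rc_25_0 lc_f_Cert_tree lc_f_rc_11_3) (@D3.rec (fun _ => (Cert rels S Gen.f)) lc_f_rc_11_3 lc_f_rc_11_3 lc_f_rc_16_1 lc_f_rc_31_10 lc_f_rc_23_1 lc_f_rc_30_11 lc_f_rc_26_4 lc_f_rc_25_0 lc_f_rc_11_3 lc_f_rc_11_1 lc_f_rc_23_1 lc_f_rc_29_2 lc_f_rc_25_0 lc_f_rc_29_2 lc_f_rc_16_1 lc_f_rc_5_1 lc_f_rc_31_7 lc_f_rc_16_3 lc_f_rc_11_3 lc_f_rc_11_3 lc_f_rc_5_3 lc_f_rc_23_1 lc_f_rc_25_0 lc_f_rc_11_3 lc_f_rc_11_1 lc_f_rc_11_3 lc_f_rc_30_3 lc_f_rc_11_3 lc_f_rc_23_1 lc_f_rc_25_0 lc_f_rc_11_3 lc_f_rc_26_4 lc_f_rc_29_2 lc_f_rc_25_0 lc_f_rc_25_0 lc_f_rc_11_3 lc_f_rc_11_1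 lc_f_rc_25_1 lc_f_rc_16_1 lc_f_rc_30_11) (@D3.rec (fun _ => (Cert rels S Gen.f)) lc_f_rc_29_4 lc_f_rc_5_1 lc_f_rc_25_1 lc_f_rc_29_4 lc_f_rc_11_1 lc_f_rc_29_2 lc_f_rc_11_3 lc_f_rc_23_1 lc_f_rc_5_1 lc_f_rc_11_1 lc_f_rc_26_2 lc_f_rc_25_0 lc_f_rc_23_1 lc_f_rc_30_15 lc_f_rc_5_1 lc_f_rc_29_2 lc_f_rc_25_1 lc_f_rc_11_1 lc_f_rc_29_4 lc_f_Cert_tree lc_f_rc_25_0 lc_f_rc_26_6 lc_f_rc_5_3 lc_f_rc_25_0 lc_f_rc_11_3 lc_f_rc_11_3 lc_f_rc_25_0 lc_f_Cert_tree lc_f_rc_5_1 lc_f_rc_23_1 lc_f_rc_20_1 lc_f_rc_16_1 lc_f_rc_16_3 lc_f_rc_25_0 lc_f_rc_25_0 lc_f_rc_11_3 lc_f_rc_11_3 lc_f_rc_11_3 lc_f_rc_25_0 lc_f_rc_16_1) (@D3.rec (fun _ => (Cert rels S Gen.f)) lc_f_rc_16_3 lc_f_rc_29_4 lc_f_rc_25_0 lc_f_rc_16_1 lc_f_Cert_tree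 lc_f_rc_25_0 lc_f_rc_25_0 lc_f_rc_5_1 lc_f_rc_5_3 lc_f_rc_20_3 lc_f_rc_25_0 lc_f_rc_11_3 lc_f_rc_16_1 lc_f_rc_20_1 lc_f_rc_11_1 lc_f_rc_11_1 lc_f_rc_11_3 lc_f_rc_16_1 lc_f_rc_25_1 lc_f_rc_16_1 lc_f_rc_5_1 lc_f_rc_16_1 lc_f_rc_16_1 lc_f_rc_26_4 lc_f_rc_23_1 lc_f_rc_20_1 lc_f_rc_11_1 lc_f_rc_5_3 lc_f_Cert_tree lc_f_rc_25_0 lc_f_rc_26_2 lc_f_rc_23_3 lc_f_rc_5_1 lc_f_rc_25_0 lc_f_rc_11_3 lc_f_rc_5_1 lc_f_rc_16_1 lc_f_rc_23_1 lc_f_rc_29_2 lc_f_Cert_tree) (@D3.rec (fun _ => (Cert rels S Gen.f)) lc_f_rc_16_1 lc_f_rc_5_3 lc_f_Cert_tree lc_f_rc_25_0 lc_f_rc_26_2 lc_f_rc_16_1 lc_f_Cert_tree lc_f_rc_5_3 lc_f_Cert_tree lc_f_Cert_tree lc_f_rc_25_0 lc_f_rc_11_3 lc_f_rc_16_1 lc_f_rc_16_1 lc_f_rc_20_1 lc_f_Cert_tree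 lc_f_rc_25_0 lc_f_rc_25_1 lc_f_rc_5_3 lc_f_Cert_tree lc_f_Cert_tree lc_f_rc_25_0 lc_f_rc_20_1 lc_f_rc_20_1 lc_f_rc_16_1 lc_f_rc_11_3 lc_f_rc_20_1 lc_f_rc_16_1 lc_f_rc_20_1 lc_f_rc_20_1 lc_f_rc_20_1 lc_f_rc_5_1 lc_f_rc_11_5 lc_f_rc_5_1 lc_f_rc_5_1 lc_f_rc_16_1 lc_f_rc_20_1 lc_f_rc_25_0 lc_f_rc_20_1 lc_f_rc_16_1) (@D3.rec (fun _ => (Cert rels S Gen.f)) lc_f_rc_5_3 lc_f_rc_20_1 lc_f_rc_11_3 lc_f_rc_16_1 lc_f_rc_25_0 lc_f_Cert_tree lc_f_rc_25_0 lc_f_rc_11_3 lc_f_rc_20_3 lc_f_rc_29_2 lc_f_Cert_tree lc_f_rc_26_6 lc_f_rc_26_6 lc_f_Cert_tree lc_f_rc_25_0 lc_f_rc_5_3 lc_f_rc_25_0 lc_f_rc_5_1 lc_f_Cert_tree lc_f_rc_25_0 lc_f_rc_16_1 lc_f_rc_25_0 lc_f_rc_25_0 lc_f_rc_11_3 lc_f_rc_29_4 lc_f_rc_5_1 lc_f_rc_29_2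 lc_f_Cert_tree lc_f_rc_26_2 lc_f_rc_5_3 lc_f_rc_25_0 lc_f_rc_20_1 lc_f_rc_29_2 lc_f_rc_11_1 lc_f_rc_25_0 lc_f_rc_11_1 lc_f_rc_25_0 lc_f_rc_16_3 lc_f_rc_25_0 lc_f_rc_20_1) (@D3.rec (fun _ => (Cert rels S Gen.f)) lc_f_rc_25_0 lc_f_rc_5_1 lc_f_rc_16_1 lc_f_rc_29_2 lc_f_rc_25_0 lc_f_rc_11_3 lc_f_rc_29_4 lc_f_rc_11_3 lc_f_rc_20_1 lc_f_rc_16_1 lc_f_rc_29_2 lc_f_rc_11_1 lc_f_rc_29_4 lc_f_rc_20_1 lc_f_rc_20_1 lc_f_rc_11_1 lc_f_rc_29_4 lc_f_Cert_tree lc_f_rc_26_6 lc_f_rc_26_2 lc_f_rc_23_1 lc_f_rc_20_1 lc_f_rc_5_1 lc_f_rc_16_1 lc_f_Cert_tree lc_f_rc_5_1 lc_f_rc_16_1 lc_f_rc_23_1 lc_f_rc_26_6 lc_f_Cert_tree lc_f_rc_25_0 lc_f_rc_26_4 lc_f_rc_29_2 lc_f_rc_5_1 lc_f_rc_25_1 lc_f_rc_16_1 lc_f_rc_29_4 lc_f_Cert_tree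 lc_f_rc_5_3 lc_f_Cert_tree) (@D3.rec (fun _ => (Cert rels S Gen.f)) lc_f_Cert_tree lc_f_rc_25_0 lc_f_rc_23_1 lc_f_Cert_tree lc_f_rc_29_4 lc_f_rc_5_3 lc_f_Cert_tree lc_f_rc_25_0 lc_f_Cert_tree lc_f_Cert_tree lc_f_rc_25_0 lc_f_rc_11_3 lc_f_Cert_tree lc_f_Cert_tree lc_f_rc_25_0 lc_f_rc_25_0 lc_f_rc_11_3 lc_f_rc_29_4 lc_f_rc_16_3 lc_f_rc_5_1 lc_f_Cert_tree lc_f_rc_16_1 lc_f_rc_11_3 lc_f_rc_29_2 lc_f_rc_25_0 lc_f_rc_11_3 lc_f_rc_5_3 lc_f_rc_30_15 lc_f_rc_23_3 lc_f_Cert_tree lc_f_rc_25_0 lc_f_Cert_tree lc_f_rc_5_1 lc_f_rc_16_1 lc_f_rc_23_1 lc_f_rc_29_2 lc_f_Cert_tree lc_f_Cert_tree lc_f_rc_25_0 lc_f_Cert_tree) (@D3.rec (fun _ => (Cert rels S Gen.f)) lc_f_Cert_tree lc_f_rc_25_0 lc_f_Cert_tree lc_f_rc_29_2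 lc_f_rc_29_2 lc_f_Cert_tree lc_f_Cert_tree lc_f_rc_16_1 lc_f_Cert_tree lc_f_Cert_tree lc_f_Cert_tree lc_f_rc_25_0 lc_f_rc_5_3 lc_f_rc_25_0 lc_f_rc_11_3 lc_f_rc_26_4 lc_f_rc_31_4 lc_f_rc_26_6 lc_f_rc_5_1 lc_f_rc_5_1 lc_f_rc_25_0 lc_f_Cert_tree lc_f_rc_25_0 lc_f_Cert_tree lc_f_Cert_tree lc_f_rc_25_0 lc_f_rc_11_3 lc_f_rc_20_1 lc_f_Cert_tree lc_f_rc_25_0 lc_f_rc_25_1 lc_f_rc_5_3 lc_f_rc_5_3 lc_f_rc_16_3 lc_f_rc_29_2 lc_f_Cert_tree lc_f_rc_25_0 lc_f_rc_25_0 lc_f_rc_11_3 lc_f_rc_30_15) (@D3.rec (fun _ => (Cert rels S Gen.f)) lc_f_rc_11_1 lc_f_rc_29_2 lc_f_rc_23_1 lc_f_Cert_tree lc_f_Cert_tree lc_f_rc_25_0 lc_f_rc_20_1 lc_f_rc_11_3 lc_f_Cert_tree lc_f_Cert_tree lc_f_rc_25_0 lc_f_rc_25_0 lc_f_rc_11_3 lc_f_rc_29_2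 lc_f_rc_16_3 lc_f_Cert_tree lc_f_rc_25_0 lc_f_Cert_tree lc_f_rc_25_0 lc_f_rc_11_3 lc_f_rc_5_1 lc_f_rc_11_3 lc_f_rc_29_4 lc_f_rc_16_1 lc_f_rc_29_2 lc_f_rc_20_1 lc_f_rc_29_4 lc_f_rc_5_1 lc_f_rc_11_3 lc_f_rc_11_3 lc_f_rc_5_3 lc_f_rc_5_3 lc_f_rc_16_1 lc_f_rc_31_10 lc_f_rc_20_1 lc_f_rc_16_1 lc_f_rc_16_1 lc_f_rc_11_3 lc_f_rc_29_2 lc_f_rc_29_4) (@D3.rec (fun _ => (Cert rels S Gen.f)) lc_f_rc_20_1 lc_f_Cert_tree lc_f_rc_25_0 lc_f_rc_31_4 lc_f_rc_16_1 lc_f_rc_5_1 lc_f_rc_16_1 lc_f_rc_20_1 lc_f_rc_16_1 lc_f_rc_16_1 lc_f_rc_29_2 lc_f_rc_20_1 lc_f_rc_31_10 lc_f_rc_11_1 lc_f_Cert_tree lc_f_rc_25_0 lc_f_Cert_tree lc_f_rc_20_1 lc_f_rc_25_0 lc_f_rc_29_2 lc_f_rc_29_2 lc_f_Cert_tree lc_f_rc_16_1 lc_f_rc_16_1 lc_f_rc_29_2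 lc_f_Cert_tree lc_f_Cert_tree lc_f_rc_25_0 lc_f_rc_23_1 lc_f_rc_29_2 lc_f_rc_20_1 lc_f_Cert_tree lc_f_Cert_tree lc_f_rc_25_0 lc_f_Cert_tree lc_f_rc_25_0 lc_f_rc_16_3 lc_f_rc_25_0 lc_f_rc_20_3 lc_f_rc_11_3) (@D3.rec (fun _ => (Cert rels S Gen.f)) lc_f_rc_30_15 lc_f_rc_11_3 lc_f_rc_5_1 lc_f_rc_26_2 lc_f_Cert_tree lc_f_rc_25_0 lc_f_rc_16_1 lc_f_rc_20_1 lc_f_rc_16_1 lc_f_rc_29_4 lc_f_rc_16_1 lc_f_Cert_tree lc_f_rc_25_0 lc_f_Cert_tree lc_f_rc_25_0 lc_f_Cert_tree lc_f_rc_25_0 lc_f_Cert_tree lc_f_Cert_tree lc_f_rc_25_0 lc_f_rc_11_3 lc_f_rc_20_1 lc_f_rc_20_1 lc_f_rc_31_10 lc_f_rc_25_0 lc_f_rc_11_3 lc_f_rc_11_1 lc_f_Cert_tree lc_f_rc_25_0 lc_f_Cert_tree lc_f_rc_25_0 lc_f_rc_20_3 lc_f_rc_25_0 lc_f_rc_25_1 lc_f_Cert_tree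 lc_f_Cert_tree lc_f_rc_25_0 lc_f_rc_11_3 lc_f_rc_16_1 lc_f_rc_23_1) (@D3.rec (fun _ => (Cert rels S Gen.f)) lc_f_rc_25_0 lc_f_rc_20_1 lc_f_rc_11_1 lc_f_rc_26_0 lc_f_Cert_tree lc_f_Cert_tree lc_f_rc_25_0 lc_f_rc_16_1 lc_f_Cert_tree lc_f_Cert_tree lc_f_rc_25_0 lc_f_rc_5_1 lc_f_rc_5_3 lc_f_rc_5_1 lc_f_Cert_tree lc_f_rc_25_0 lc_f_rc_25_0 lc_f_rc_11_3 lc_f_rc_5_1 lc_f_rc_11_3 lc_f_rc_5_1 lc_f_rc_20_1 lc_f_rc_29_2 lc_f_Cert_tree lc_f_rc_5_1 lc_f_rc_29_2 lc_f_rc_20_1 lc_f_rc_16_1 lc_f_rc_11_3 lc_f_rc_26_6 lc_f_rc_25_0 lc_f_rc_16_1 lc_f_rc_30_3 lc_f_Cert_tree lc_f_rc_25_0 lc_f_rc_29_2 lc_f_Cert_tree lc_f_Cert_tree lc_f_rc_25_0 lc_f_Cert_tree) (@D3.rec (fun _ => (Cert rels S Gen.f)) lc_f_rc_11_3 lc_f_rc_25_0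 lc_f_rc_25_0 lc_f_rc_25_0 lc_f_rc_11_3 lc_f_rc_29_2 lc_f_rc_16_1 lc_f_rc_25_0 lc_f_rc_20_1 lc_f_Cert_tree lc_f_Cert_tree lc_f_rc_25_0 lc_f_rc_29_2 lc_f_Cert_tree lc_f_rc_25_0 lc_f_rc_11_3 lc_f_rc_29_4 lc_f_rc_11_3 lc_f_rc_29_4 lc_f_rc_16_1 lc_f_rc_29_2 lc_f_rc_11_3 lc_f_rc_29_4 lc_f_rc_5_1 lc_f_rc_25_1 lc_f_rc_5_3 lc_f_rc_5_3 lc_f_rc_25_0 lc_f_rc_5_1 lc_f_rc_20_1 lc_f_rc_16_1 lc_f_rc_16_1 lc_f_rc_16_1 lc_f_rc_11_3 lc_f_rc_20_1 lc_f_rc_16_1 lc_f_rc_30_15 lc_f_rc_29_2 lc_f_rc_20_1 lc_f_rc_29_4) (@D3.rec (fun _ => (Cert rels S Gen.f)) lc_f_rc_5_1 lc_f_rc_16_1 lc_f_rc_23_1 lc_f_rc_20_1 lc_f_Cert_tree lc_f_rc_25_0 lc_f_rc_25_0 lc_f_rc_11_3 lc_f_rc_11_1 lc_f_rc_5_1 lc_f_rc_5_1 lc_f_rc_16_1 lc_f_rc_26_6 lc_f_rc_16_1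 lc_f_rc_29_2 lc_f_rc_20_1 lc_f_rc_16_1 lc_f_rc_11_1 lc_f_rc_16_1 lc_f_rc_11_3 lc_f_rc_29_2 lc_f_rc_29_4 lc_f_rc_16_1 lc_f_Cert_tree lc_f_rc_25_0 lc_f_Cert_tree lc_f_rc_25_0 lc_f_rc_5_3 lc_f_Cert_tree lc_f_Cert_tree lc_f_rc_25_0 lc_f_rc_16_1 lc_f_rc_29_2 lc_f_Cert_tree lc_f_rc_25_0 lc_f_rc_16_3 lc_f_rc_5_1 lc_f_Cert_tree lc_f_rc_16_1 lc_f_rc_29_2) (@D3.rec (fun _ => (Cert rels S Gen.f)) lc_f_rc_29_2 lc_f_rc_20_1 lc_f_rc_5_1 lc_f_rc_11_5 lc_f_rc_5_3 lc_f_Cert_tree lc_f_rc_25_0 lc_f_rc_16_1 lc_f_Cert_tree lc_f_rc_25_0 lc_f_Cert_tree lc_f_Cert_tree lc_f_rc_25_0 lc_f_rc_16_1 lc_f_rc_29_4 lc_f_rc_25_0 lc_f_rc_5_1 lc_f_Cert_tree lc_f_rc_25_0 lc_f_rc_29_2 lc_f_Cert_tree lc_f_Cert_tree lc_f_rc_25_0 lc_f_Cert_tree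 lc_f_rc_25_0 lc_f_rc_5_1 lc_f_rc_25_0 lc_f_rc_29_2 lc_f_Cert_tree lc_f_Cert_tree lc_f_Cert_tree lc_f_rc_25_0 lc_f_rc_29_4 lc_f_rc_30_15 lc_f_Cert_tree lc_f_rc_25_0 lc_f_rc_5_3 lc_f_Cert_tree lc_f_Cert_tree lc_f_rc_25_0) (@D3.rec (fun _ => (Cert rels S Gen.f)) lc_f_Cert_tree lc_f_rc_25_0 lc_f_rc_5_3 lc_f_rc_25_0 lc_f_rc_5_3 lc_f_rc_11_3 lc_f_rc_30_15 lc_f_rc_16_1 lc_f_rc_11_1 lc_f_rc_5_1 lc_f_rc_25_0 lc_f_rc_26_4 lc_f_Cert_tree lc_f_rc_25_0 lc_f_rc_5_3 lc_f_rc_11_1 lc_f_rc_25_0 lc_f_Cert_tree lc_f_Cert_tree lc_f_Cert_tree lc_f_Cert_tree lc_f_rc_25_0 lc_f_rc_26_4 lc_f_rc_26_2 lc_f_rc_11_3 lc_f_rc_25_0 lc_f_rc_11_5 lc_f_rc_29_2 lc_f_rc_25_0 lc_f_rc_26_0 lc_f_rc_25_0 lc_f_rc_29_4 lc_f_rc_5_1 lc_f_rc_11_1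 lc_f_rc_5_1 lc_f_rc_26_2 lc_f_Cert_tree lc_f_Cert_tree lc_f_rc_25_0 lc_f_rc_11_3) (@D3.rec (fun _ => (Cert rels S Gen.f)) lc_f_rc_20_1 lc_f_rc_5_3 lc_f_Cert_tree lc_f_rc_25_0 lc_f_rc_29_2 lc_f_rc_5_1 lc_f_rc_25_1 lc_f_rc_16_1 lc_f_rc_16_1 lc_f_rc_11_3 lc_f_rc_23_1 lc_f_rc_20_1 lc_f_rc_20_3 lc_f_rc_25_0 lc_f_rc_20_1 lc_f_rc_5_3 lc_f_rc_25_0 lc_f_Cert_tree lc_f_rc_25_0 lc_f_rc_29_4 lc_f_rc_29_4 lc_f_rc_5_1 lc_f_Cert_tree lc_f_rc_25_0 lc_f_Cert_tree lc_f_rc_29_4 lc_f_rc_25_0 lc_f_rc_20_1 lc_f_rc_20_1 lc_f_Cert_tree lc_f_Cert_tree lc_f_rc_25_0 lc_f_rc_16_3 lc_f_Cert_tree lc_f_Cert_tree lc_f_Cert_tree lc_f_rc_25_0 lc_f_rc_25_0 lc_f_rc_5_3 lc_f_rc_25_0)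
def ce_f_15 : D2 → D3 → (Cert rels S Gen.f) := @D2.rec (fun _ => D3 → (Cert rels S Gen.f)) (@D3.rec (fun _ => (Cert rels S Gen.f)) lc_f_rc_29_4 lc_f_rc_25_0 lc_f_rc_26_2 lc_f_rc_25_0 lc_f_rc_29_2 lc_f_rc_31_1 lc_f_rc_26_6 lc_f_rc_31_10 lc_f_rc_25_0 lc_f_rc_16_1 lc_f_rc_16_1 lc_f_rc_5_1 lc_f_Cert_tree lc_f_rc_11_3 lc_f_rc_5_1 lc_f_rc_16_1 lc_f_rc_5_3 lc_f_Cert_tree lc_f_rc_25_0 lc_f_rc_26_6 lc_f_rc_5_1 lc_f_rc_16_1 lc_f_rc_5_1 lc_f_rc_20_1 lc_f_rc_20_1 lc_f_Cert_tree lc_f_rc_25_0 lc_f_rc_16_1 lc_f_rc_5_3 lc_f_rc_31_7 lc_f_rc_5_1 lc_f_rc_20_1 lc_f_rc_16_1 lc_f_rc_16_1 lc_f_rc_16_3 lc_f_rc_11_1 lc_f_rc_25_0 lc_f_rc_29_4 lc_f_rc_5_3 lc_f_rc_5_3) (@D3.rec (fun _ => (Cert rels S Gen.f)) lc_f_Cert_tree lc_f_rc_25_0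 lc_f_rc_31_4 lc_f_Cert_tree lc_f_rc_20_1 lc_f_rc_25_0 lc_f_rc_20_1 lc_f_rc_5_1 lc_f_rc_26_0 lc_f_rc_29_2 lc_f_Cert_tree lc_f_Cert_tree lc_f_rc_25_0 lc_f_rc_31_10 lc_f_rc_25_0 lc_f_rc_16_1 lc_f_rc_5_3 lc_f_Cert_tree lc_f_rc_20_3 lc_f_Cert_tree lc_f_rc_25_0 lc_f_Cert_tree lc_f_rc_5_3 lc_f_Cert_tree lc_f_rc_25_0 lc_f_rc_11_3 lc_f_rc_11_3 lc_f_rc_29_2 lc_f_rc_16_1 lc_f_Cert_tree lc_f_rc_11_1 lc_f_rc_5_1 lc_f_rc_29_2 lc_f_rc_11_3 lc_f_Cert_tree lc_f_rc_25_0 lc_f_rc_5_1 lc_f_rc_29_2 lc_f_rc_11_3 lc_f_rc_16_1) (@D3.rec (fun _ => (Cert rels S Gen.f)) lc_f_rc_11_3 lc_f_rc_29_2 lc_f_Cert_tree lc_f_rc_11_3 lc_f_rc_16_3 lc_f_rc_29_4 lc_f_rc_16_1 lc_f_rc_25_0 lc_f_rc_25_0 lc_f_rc_11_3 lc_f_rc_23_1 lc_f_rc_25_0 lc_f_rc_29_2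 lc_f_rc_25_0 lc_f_rc_29_2 lc_f_rc_11_3 lc_f_Cert_tree lc_f_rc_5_3 lc_f_rc_29_2 lc_f_rc_20_1 lc_f_rc_25_0 lc_f_rc_23_1 lc_f_rc_11_3 lc_f_rc_25_0 lc_f_rc_29_2 lc_f_rc_25_0 lc_f_rc_11_3 lc_f_rc_20_1 lc_f_rc_5_1 lc_f_rc_26_6 lc_f_rc_11_1 lc_f_rc_20_1 lc_f_rc_11_1 lc_f_rc_29_2 lc_f_Cert_tree lc_f_rc_25_0 lc_f_rc_26_2 lc_f_rc_5_3 lc_f_Cert_tree lc_f_Cert_tree) (@D3.rec (fun _ => (Cert rels S Gen.f)) lc_f_rc_25_0 lc_f_Cert_tree lc_f_rc_25_0 lc_f_Cert_tree lc_f_rc_11_3 lc_f_rc_26_6 lc_f_rc_25_0 lc_f_rc_31_4 lc_f_Cert_tree lc_f_Cert_tree lc_f_rc_25_0 lc_f_rc_29_2 lc_f_Cert_tree lc_f_rc_25_0 lc_f_rc_11_3 lc_f_rc_16_1 lc_f_Cert_tree lc_f_rc_20_1 lc_f_rc_25_0 lc_f_rc_16_1 lc_f_rc_23_1 lc_f_Cert_tree lc_f_Cert_tree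 lc_f_rc_29_2 lc_f_rc_25_0 lc_f_rc_29_2 lc_f_Cert_tree lc_f_Cert_tree lc_f_rc_25_0 lc_f_Cert_tree lc_f_rc_5_1 lc_f_rc_25_0 lc_f_Cert_tree lc_f_rc_11_3 lc_f_rc_25_0 lc_f_rc_25_0 lc_f_Cert_tree lc_f_rc_25_0 lc_f_rc_16_1 lc_f_Cert_tree) (@D3.rec (fun _ => (Cert rels S Gen.f)) lc_f_rc_25_0 lc_f_rc_11_3 lc_f_rc_5_1 lc_f_rc_29_2 lc_f_rc_11_3 lc_f_Cert_tree lc_f_Cert_tree lc_f_Cert_tree lc_f_rc_25_0 lc_f_Cert_tree lc_f_rc_25_0 lc_f_rc_25_0 lc_f_rc_29_4 lc_f_rc_20_1 lc_f_rc_29_4 lc_f_rc_20_1 lc_f_rc_11_3 lc_f_rc_29_4 lc_f_rc_5_1 lc_f_rc_11_3 lc_f_rc_29_2 lc_f_rc_16_1 lc_f_Cert_tree lc_f_Cert_tree lc_f_rc_11_3 lc_f_rc_16_1 lc_f_rc_11_5 lc_f_rc_26_2 lc_f_rc_20_1 lc_f_rc_5_1 lc_f_rc_25_0 lc_f_rc_25_0 lc_f_rc_11_1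 lc_f_rc_11_1 lc_f_rc_11_1 lc_f_rc_5_1 lc_f_rc_16_1 lc_f_rc_23_1 lc_f_rc_20_1 lc_f_rc_29_2) (@D3.rec (fun _ => (Cert rels S Gen.f)) lc_f_rc_20_1 lc_f_rc_5_1 lc_f_rc_16_1 lc_f_rc_23_1 lc_f_rc_11_3 lc_f_rc_5_1 lc_f_rc_16_1 lc_f_rc_5_3 lc_f_rc_20_3 lc_f_rc_5_1 lc_f_rc_20_1 lc_f_rc_11_1 lc_f_rc_5_1 lc_f_rc_20_3 lc_f_rc_11_3 lc_f_rc_5_1 lc_f_rc_5_3 lc_f_rc_20_1 lc_f_rc_16_3 lc_f_rc_25_0 lc_f_rc_23_3 lc_f_rc_11_1 lc_f_rc_5_1 lc_f_rc_16_1 lc_f_rc_16_1 lc_f_rc_23_1 lc_f_rc_26_6 lc_f_rc_20_1 lc_f_rc_5_1 lc_f_rc_16_1 lc_f_rc_5_1 lc_f_rc_11_1 lc_f_rc_20_1 lc_f_rc_16_1 lc_f_rc_5_3 lc_f_rc_23_1 lc_f_Cert_tree lc_f_rc_26_2 lc_f_rc_25_0 lc_f_rc_25_0) (@D3.rec (fun _ => (Cert rels S Gen.f)) lc_f_rc_5_3 lc_f_rc_25_0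 lc_f_rc_29_2 lc_f_rc_25_0 lc_f_rc_5_3 lc_f_rc_5_3 lc_f_rc_11_3 lc_f_rc_16_1 lc_f_rc_29_2 lc_f_rc_20_1 lc_f_rc_31_7 lc_f_Cert_tree lc_f_rc_25_0 lc_f_Cert_tree lc_f_rc_16_3 lc_f_rc_11_3 lc_f_rc_26_0 lc_f_rc_25_0 lc_f_rc_11_1 lc_f_rc_25_0 lc_f_rc_29_4 lc_f_rc_11_3 lc_f_rc_31_4 lc_f_rc_25_0 lc_f_rc_16_1 lc_f_rc_11_1 lc_f_rc_25_0 lc_f_rc_16_3 lc_f_rc_25_0 lc_f_rc_11_3 lc_f_rc_29_4 lc_f_rc_25_0 lc_f_rc_5_3 lc_f_rc_5_3 lc_f_Cert_tree lc_f_rc_25_0 lc_f_Cert_tree lc_f_rc_16_3 lc_f_rc_23_3 lc_f_rc_25_0) (@D3.rec (fun _ => (Cert rels S Gen.f)) lc_f_rc_20_1 lc_f_rc_11_3 lc_f_Cert_tree lc_f_rc_25_0 lc_f_rc_25_0 lc_f_Cert_tree lc_f_rc_25_0 lc_f_Cert_tree lc_f_Cert_tree lc_f_Cert_tree lc_f_rc_25_0 lc_f_rc_11_3 lc_f_rc_23_1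 lc_f_rc_20_1 lc_f_rc_16_1 lc_f_Cert_tree lc_f_Cert_tree lc_f_Cert_tree lc_f_Cert_tree lc_f_rc_25_0 lc_f_rc_5_1 lc_f_rc_5_3 lc_f_rc_25_0 lc_f_rc_20_3 lc_f_rc_25_0 lc_f_rc_29_4 lc_f_rc_5_3 lc_f_rc_25_0 lc_f_rc_16_1 lc_f_Cert_tree lc_f_rc_5_3 lc_f_rc_25_0 lc_f_rc_11_3 lc_f_Cert_tree lc_f_rc_25_0 lc_f_rc_25_0 lc_f_rc_11_3 lc_f_rc_29_4 lc_f_rc_16_1 lc_f_rc_11_3) (@D3.rec (fun _ => (Cert rels S Gen.f)) lc_f_Cert_tree lc_f_rc_25_0 lc_f_rc_26_2 lc_f_rc_25_0 lc_f_rc_16_1 lc_f_rc_16_1 lc_f_Cert_tree lc_f_rc_25_0 lc_f_rc_20_1 lc_f_rc_25_0 lc_f_rc_20_3 lc_f_rc_11_3 lc_f_rc_29_4 lc_f_rc_25_0 lc_f_rc_11_3 lc_f_rc_20_1 lc_f_rc_5_1 lc_f_rc_20_1 lc_f_Cert_tree lc_f_rc_25_0 lc_f_Cert_tree lc_f_rc_25_0 lc_f_rc_26_2 lc_f_rc_5_1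 lc_f_Cert_tree lc_f_Cert_tree lc_f_rc_25_0 lc_f_rc_16_3 lc_f_rc_25_0 lc_f_Cert_tree lc_f_rc_26_6 lc_f_Cert_tree lc_f_rc_25_0 lc_f_rc_25_0 lc_f_rc_5_3 lc_f_rc_16_3 lc_f_rc_25_0 lc_f_rc_16_3 lc_f_rc_16_1 lc_f_Cert_tree) (@D3.rec (fun _ => (Cert rels S Gen.f)) lc_f_Cert_tree lc_f_rc_25_0 lc_f_rc_11_1 lc_f_rc_11_3 lc_f_rc_5_1 lc_f_rc_5_1 lc_f_rc_16_1 lc_f_Cert_tree lc_f_Cert_tree lc_f_rc_25_0 lc_f_rc_29_2 lc_f_Cert_tree lc_f_Cert_tree lc_f_rc_25_0 lc_f_Cert_tree lc_f_Cert_tree lc_f_rc_25_0 lc_f_Cert_tree lc_f_rc_25_0 lc_f_rc_11_5 lc_f_rc_25_0 lc_f_rc_23_1 lc_f_rc_5_3 lc_f_rc_5_1 lc_f_rc_16_1 lc_f_rc_26_6 lc_f_rc_16_3 lc_f_rc_25_0 lc_f_rc_25_0 lc_f_rc_25_1 lc_f_rc_11_3 lc_f_rc_29_2 lc_f_rc_16_1 lc_f_Cert_tree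 lc_f_rc_29_2 lc_f_rc_29_2 lc_f_Cert_tree lc_f_rc_25_0 lc_f_rc_16_1 lc_f_rc_25_0) (@D3.rec (fun _ => (Cert rels S Gen.f)) lc_f_Cert_tree lc_f_rc_29_2 lc_f_Cert_tree lc_f_rc_25_0 lc_f_rc_5_3 lc_f_rc_25_0 lc_f_rc_11_1 lc_f_rc_26_2 lc_f_rc_25_0 lc_f_rc_23_1 lc_f_rc_25_0 lc_f_Cert_tree lc_f_rc_20_1 lc_f_rc_25_0 lc_f_rc_26_2 lc_f_Cert_tree lc_f_rc_16_3 lc_f_Cert_tree lc_f_rc_25_0 lc_f_Cert_tree lc_f_rc_25_0 lc_f_rc_29_2 lc_f_rc_26_6 lc_f_rc_25_0 lc_f_Cert_tree lc_f_Cert_tree lc_f_rc_25_0 lc_f_Cert_tree lc_f_Cert_tree lc_f_rc_29_4 lc_f_rc_25_0 lc_f_Cert_tree lc_f_rc_11_3 lc_f_rc_29_4 lc_f_rc_25_0 lc_f_Cert_tree lc_f_Cert_tree lc_f_Cert_tree lc_f_rc_25_0 lc_f_rc_29_2) (@D3.rec (fun _ => (Cert rels S Gen.f))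 lc_f_rc_25_0 lc_f_rc_26_2 lc_f_rc_11_3 lc_f_rc_11_3 lc_f_rc_25_0 lc_f_Cert_tree lc_f_Cert_tree lc_f_rc_25_0 lc_f_Cert_tree lc_f_rc_5_3 lc_f_rc_25_0 lc_f_Cert_tree lc_f_rc_11_3 lc_f_rc_29_4 lc_f_Cert_tree lc_f_rc_25_0 lc_f_rc_26_6 lc_f_rc_25_0 lc_f_Cert_tree lc_f_rc_11_3 lc_f_rc_16_3 lc_f_rc_25_0 lc_f_rc_5_1 lc_f_rc_16_1 lc_f_rc_29_2 lc_f_Cert_tree lc_f_rc_25_0 lc_f_Cert_tree lc_f_rc_25_0 lc_f_rc_26_2 lc_f_rc_11_3 lc_f_Cert_tree lc_f_rc_26_6 lc_f_rc_25_0 lc_f_Cert_tree lc_f_rc_11_3 lc_f_rc_11_3 lc_f_rc_5_1 lc_f_rc_16_1 lc_f_rc_31_7) (@D3.rec (fun _ => (Cert rels S Gen.f)) lc_f_rc_5_1 lc_f_rc_11_1 lc_f_Cert_tree lc_f_rc_23_3 lc_f_rc_25_0 lc_f_rc_29_4 lc_f_rc_29_2 lc_f_Cert_tree lc_f_rc_5_3 lc_f_rc_25_0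 lc_f_rc_26_2 lc_f_rc_11_1 lc_f_Cert_tree lc_f_Cert_tree lc_f_rc_25_0 lc_f_Cert_tree lc_f_rc_25_0 lc_f_rc_29_4 lc_f_rc_26_6 lc_f_rc_25_0 lc_f_Cert_tree lc_f_Cert_tree lc_f_rc_25_0 lc_f_Cert_tree lc_f_Cert_tree lc_f_Cert_tree lc_f_rc_25_0 lc_f_Cert_tree lc_f_rc_26_6 lc_f_rc_11_1 lc_f_rc_25_0 lc_f_Cert_tree lc_f_Cert_tree lc_f_Cert_tree lc_f_rc_25_0 lc_f_rc_29_2 lc_f_rc_25_0 lc_f_rc_26_2 lc_f_rc_20_1 lc_f_rc_29_4) (@D3.rec (fun _ => (Cert rels S Gen.f)) lc_f_rc_26_2 lc_f_Cert_tree lc_f_Cert_tree lc_f_rc_25_0 lc_f_Cert_tree lc_f_Cert_tree lc_f_rc_25_0 lc_f_Cert_tree lc_f_rc_11_3 lc_f_rc_29_2 lc_f_rc_20_1 lc_f_rc_25_0 lc_f_rc_26_6 lc_f_rc_25_0 lc_f_Cert_tree lc_f_rc_11_3 lc_f_rc_5_3 lc_f_Cert_tree lc_f_rc_25_0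 lc_f_rc_16_1 lc_f_rc_31_7 lc_f_Cert_tree lc_f_rc_25_0 lc_f_Cert_tree lc_f_rc_25_0 lc_f_rc_26_2 lc_f_rc_11_3 lc_f_Cert_tree lc_f_rc_26_6 lc_f_rc_25_0 lc_f_Cert_tree lc_f_rc_11_3 lc_f_Cert_tree lc_f_rc_20_1 lc_f_Cert_tree lc_f_rc_25_0 lc_f_rc_29_4 lc_f_Cert_tree lc_f_Cert_tree lc_f_rc_25_0) (@D3.rec (fun _ => (Cert rels S Gen.f)) lc_f_rc_29_2 lc_f_Cert_tree lc_f_Cert_tree lc_f_rc_25_0 lc_f_Cert_tree lc_f_rc_25_0 lc_f_rc_25_0 lc_f_rc_11_3 lc_f_rc_20_1 lc_f_Cert_tree lc_f_rc_25_0 lc_f_Cert_tree lc_f_Cert_tree lc_f_Cert_tree lc_f_rc_25_0 lc_f_rc_29_2 lc_f_Cert_tree lc_f_Cert_tree lc_f_rc_25_0 lc_f_Cert_tree lc_f_rc_25_0 lc_f_rc_25_0 lc_f_Cert_tree lc_f_rc_25_0 lc_f_rc_29_2 lc_f_rc_29_4 lc_f_rc_11_3 lc_f_rc_25_0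 lc_f_rc_5_3 lc_f_rc_26_2 lc_f_rc_25_0 lc_f_rc_5_1 lc_f_rc_16_1 lc_f_rc_16_1 lc_f_rc_25_0 lc_f_rc_25_0 lc_f_rc_11_3 lc_f_Cert_tree lc_f_rc_25_0 lc_f_rc_5_1) (@D3.rec (fun _ => (Cert rels S Gen.f)) lc_f_rc_29_2 lc_f_rc_23_1 lc_f_rc_20_1 lc_f_rc_29_2 lc_f_rc_31_4 lc_f_Cert_tree lc_f_rc_25_0 lc_f_rc_23_1 lc_f_rc_20_1 lc_f_rc_25_0 lc_f_rc_25_0 lc_f_rc_11_3 lc_f_Cert_tree lc_f_rc_25_0 lc_f_rc_11_3 lc_f_rc_11_3 lc_f_rc_5_1 lc_f_rc_20_1 lc_f_rc_26_2 lc_f_rc_25_0 lc_f_rc_11_3 lc_f_rc_11_3 lc_f_rc_5_1 lc_f_rc_11_1 lc_f_rc_20_1 lc_f_rc_29_4 lc_f_rc_29_2 lc_f_rc_20_3 lc_f_rc_20_1 lc_f_rc_29_2 lc_f_rc_5_1 lc_f_rc_20_1 lc_f_rc_11_3 lc_f_rc_16_1 lc_f_rc_5_1 lc_f_rc_11_3 lc_f_rc_29_2 lc_f_rc_20_1 lc_f_rc_16_1 lc_f_rc_29_2)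 (@D3.rec (fun _ => (Cert rels S Gen.f)) lc_f_rc_29_2 lc_f_rc_29_4 lc_f_rc_31_1 lc_f_rc_23_3 lc_f_rc_20_3 lc_f_rc_5_1 lc_f_rc_5_3 lc_f_rc_20_1 lc_f_rc_30_11 lc_f_rc_11_5 lc_f_rc_5_1 lc_f_Cert_tree lc_f_Cert_tree lc_f_rc_11_3 lc_f_rc_25_0 lc_f_rc_25_0 lc_f_rc_25_0 lc_f_rc_11_3 lc_f_rc_25_0 lc_f_rc_11_3 lc_f_rc_5_1 lc_f_rc_11_3 lc_f_rc_16_1 lc_f_rc_30_7 lc_f_rc_5_1 lc_f_rc_29_4 lc_f_rc_29_2 lc_f_Cert_tree lc_f_Cert_tree lc_f_rc_25_0 lc_f_rc_11_5 lc_f_Cert_tree lc_f_rc_25_0 lc_f_rc_5_3 lc_f_rc_25_0 lc_f_rc_29_4 lc_f_rc_16_1 lc_f_rc_20_1 lc_f_rc_5_1 lc_f_rc_11_3) (@D3.rec (fun _ => (Cert rels S Gen.f)) lc_f_rc_31_1 lc_f_rc_31_13 lc_f_rc_25_0 lc_f_rc_31_10 lc_f_rc_5_1 lc_f_rc_23_1 lc_f_rc_5_3 lc_f_rc_25_0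 lc_f_rc_5_3 lc_f_rc_25_0 lc_f_rc_5_1 lc_f_rc_25_1 lc_f_rc_5_1 lc_f_rc_23_1 lc_f_rc_25_0 lc_f_rc_29_4 lc_f_rc_16_1 lc_f_rc_16_1 lc_f_rc_16_3 lc_f_rc_5_1 lc_f_rc_26_2 lc_f_rc_11_3 lc_f_rc_23_1 lc_f_rc_25_0 lc_f_rc_11_3 lc_f_Cert_tree lc_f_rc_25_0 lc_f_rc_29_4 lc_f_rc_5_3 lc_f_rc_25_0 lc_f_rc_25_0 lc_f_rc_11_5 lc_f_rc_5_3 lc_f_rc_5_3 lc_f_rc_25_0 lc_f_rc_23_1 lc_f_rc_5_1 lc_f_rc_16_1 lc_f_rc_11_3 lc_f_rc_5_1) (@D3.rec (fun _ => (Cert rels S Gen.f)) lc_f_rc_31_7 lc_f_rc_26_2 lc_f_rc_25_0 lc_f_rc_25_0 lc_f_rc_5_1 lc_f_rc_11_3 lc_f_rc_5_1 lc_f_rc_16_1 lc_f_rc_29_2 lc_f_rc_29_2 lc_f_rc_16_1 lc_f_rc_11_1 lc_f_rc_16_3 lc_f_rc_16_1 lc_f_rc_25_0 lc_f_rc_31_10 lc_f_rc_20_1 lc_f_rc_5_3 lc_f_rc_29_2 lc_f_rc_5_3 lc_f_Cert_tree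 lc_f_rc_25_0 lc_f_Cert_tree lc_f_rc_11_3 lc_f_rc_25_0 lc_f_rc_20_1 lc_f_Cert_tree lc_f_rc_25_0 lc_f_rc_11_3 lc_f_rc_11_3 lc_f_rc_29_2 lc_f_Cert_tree lc_f_rc_20_1 lc_f_rc_25_0 lc_f_rc_25_0 lc_f_rc_25_0 lc_f_rc_11_3 lc_f_rc_29_2 lc_f_rc_25_0 lc_f_rc_11_1) (@D3.rec (fun _ => (Cert rels S Gen.f)) lc_f_rc_11_3 lc_f_rc_23_1 lc_f_rc_29_2 lc_f_rc_29_2 lc_f_rc_11_1 lc_f_Cert_tree lc_f_rc_25_0 lc_f_rc_5_1 lc_f_rc_5_1 lc_f_rc_29_4 lc_f_rc_25_0 lc_f_rc_20_1 lc_f_rc_11_3 lc_f_rc_5_1 lc_f_Cert_tree lc_f_rc_25_0 lc_f_rc_29_2 lc_f_Cert_tree lc_f_rc_25_0 lc_f_Cert_tree lc_f_rc_25_0 lc_f_rc_25_0 lc_f_rc_29_2 lc_f_rc_25_0 lc_f_rc_30_7 lc_f_rc_16_3 lc_f_rc_16_1 lc_f_rc_25_0 lc_f_rc_31_7 lc_f_rc_5_1 lc_f_Cert_tree lc_f_rc_25_0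 lc_f_rc_26_2 lc_f_Cert_tree lc_f_rc_25_0 lc_f_rc_26_2 lc_f_rc_11_1 lc_f_rc_16_3 lc_f_Cert_tree lc_f_rc_25_0) (@D3.rec (fun _ => (Cert rels S Gen.f)) lc_f_Cert_tree lc_f_rc_26_6 lc_f_rc_25_0 lc_f_rc_25_0 lc_f_Cert_tree lc_f_rc_26_6 lc_f_rc_25_0 lc_f_rc_11_3 lc_f_rc_16_3 lc_f_rc_25_0 lc_f_rc_20_1 lc_f_rc_5_1 lc_f_rc_16_1 lc_f_rc_11_3 lc_f_rc_26_0 lc_f_rc_11_1 lc_f_rc_29_4 lc_f_rc_25_0 lc_f_rc_5_1 lc_f_rc_25_0 lc_f_rc_29_4 lc_f_rc_23_1 lc_f_rc_29_2 lc_f_rc_20_1 lc_f_Cert_tree lc_f_rc_20_1 lc_f_rc_5_1 lc_f_rc_29_2 lc_f_rc_16_1 lc_f_rc_25_1 lc_f_rc_25_0 lc_f_rc_11_5 lc_f_rc_25_0 lc_f_rc_5_3 lc_f_rc_5_1 lc_f_rc_5_1 lc_f_rc_16_1 lc_f_rc_23_1 lc_f_rc_5_3 lc_f_rc_30_11) (@D3.rec (fun _ => (Cert rels S Gen.f))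 lc_f_rc_5_1 lc_f_rc_20_1 lc_f_rc_5_1 lc_f_rc_16_1 lc_f_rc_5_1 lc_f_rc_23_1 lc_f_rc_23_1 lc_f_rc_5_3 lc_f_rc_25_0 lc_f_rc_16_1 lc_f_rc_16_1 lc_f_rc_29_2 lc_f_rc_5_3 lc_f_rc_5_1 lc_f_rc_11_1 lc_f_rc_11_1 lc_f_rc_20_1 lc_f_rc_16_1 lc_f_rc_11_1 lc_f_rc_31_7 lc_f_rc_5_1 lc_f_rc_5_3 lc_f_rc_5_1 lc_f_rc_25_0 lc_f_rc_30_3 lc_f_rc_25_0 lc_f_rc_5_1 lc_f_rc_29_2 lc_f_rc_5_1 lc_f_rc_11_3 lc_f_rc_5_3 lc_f_rc_11_3 lc_f_rc_16_1 lc_f_rc_11_1 lc_f_Cert_tree lc_f_rc_25_0 lc_f_rc_25_0 lc_f_rc_29_2 lc_f_rc_25_0 lc_f_Cert_tree) (@D3.rec (fun _ => (Cert rels S Gen.f)) lc_f_rc_25_0 lc_f_Cert_tree lc_f_rc_25_0 lc_f_rc_16_3 lc_f_rc_16_1 lc_f_rc_16_3 lc_f_rc_16_1 lc_f_rc_20_1 lc_f_Cert_tree lc_f_rc_25_0 lc_f_Cert_tree lc_f_rc_25_0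 lc_f_rc_25_0 lc_f_rc_29_4 lc_f_rc_16_1 lc_f_rc_29_2 lc_f_rc_29_2 lc_f_rc_5_1 lc_f_rc_29_2 lc_f_rc_25_0 lc_f_rc_25_0 lc_f_rc_5_3 lc_f_rc_25_0 lc_f_rc_26_6 lc_f_rc_25_0 lc_f_rc_16_1 lc_f_rc_5_1 lc_f_rc_25_0 lc_f_rc_26_6 lc_f_Cert_tree lc_f_rc_25_0 lc_f_rc_26_2 lc_f_rc_25_0 lc_f_Cert_tree lc_f_rc_26_6 lc_f_rc_25_0 lc_f_rc_16_1 lc_f_rc_11_1 lc_f_rc_25_0 lc_f_rc_11_3) (@D3.rec (fun _ => (Cert rels S Gen.f)) lc_f_rc_11_3 lc_f_rc_30_3 lc_f_rc_16_1 lc_f_rc_5_1 lc_f_rc_29_2 lc_f_rc_11_3 lc_f_Cert_tree lc_f_rc_25_0 lc_f_rc_5_1 lc_f_rc_25_0 lc_f_rc_11_1 lc_f_rc_29_4 lc_f_rc_5_3 lc_f_rc_29_4 lc_f_rc_25_0 lc_f_rc_31_10 lc_f_rc_11_1 lc_f_rc_16_1 lc_f_rc_11_3 lc_f_rc_29_4 lc_f_rc_16_1 lc_f_rc_11_3 lc_f_rc_16_1 lc_f_rc_26_6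 lc_f_rc_5_1 lc_f_rc_29_2 lc_f_rc_20_1 lc_f_rc_26_2 lc_f_rc_23_1 lc_f_rc_5_3 lc_f_rc_5_1 lc_f_rc_16_1 lc_f_Cert_tree lc_f_rc_16_1 lc_f_rc_25_0 lc_f_rc_11_1 lc_f_rc_11_3 lc_f_rc_5_1 lc_f_rc_29_4 lc_f_rc_16_1) (@D3.rec (fun _ => (Cert rels S Gen.f)) lc_f_rc_20_3 lc_f_rc_25_0 lc_f_rc_11_1 lc_f_rc_5_3 lc_f_rc_25_0 lc_f_Cert_tree lc_f_rc_25_0 lc_f_Cert_tree lc_f_rc_25_0 lc_f_rc_25_0 lc_f_rc_11_1 lc_f_rc_11_1 lc_f_rc_25_0 lc_f_rc_25_0 lc_f_rc_25_0 lc_f_rc_30_11 lc_f_rc_29_2 lc_f_rc_16_1 lc_f_rc_25_0 lc_f_Cert_tree lc_f_rc_25_0 lc_f_Cert_tree lc_f_rc_25_0 lc_f_Cert_tree lc_f_rc_25_0 lc_f_rc_16_1 lc_f_Cert_tree lc_f_rc_25_0 lc_f_rc_11_3 lc_f_rc_16_1 lc_f_rc_5_3 lc_f_rc_11_3 lc_f_rc_16_1 lc_f_rc_25_0 lc_f_rc_30_15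 lc_f_rc_11_3 lc_f_rc_16_3 lc_f_rc_25_0 lc_f_rc_25_0 lc_f_rc_16_1) (@D3.rec (fun _ => (Cert rels S Gen.f)) lc_f_rc_5_3 lc_f_rc_11_1 lc_f_rc_30_3 lc_f_rc_25_0 lc_f_rc_16_1 lc_f_Cert_tree lc_f_rc_25_0 lc_f_rc_23_1 lc_f_rc_16_1 lc_f_rc_16_1 lc_f_rc_11_3 lc_f_rc_20_1 lc_f_rc_5_1 lc_f_rc_29_2 lc_f_Cert_tree lc_f_rc_25_0 lc_f_rc_20_1 lc_f_rc_29_4 lc_f_Cert_tree lc_f_rc_25_0 lc_f_rc_11_3 lc_f_rc_11_3 lc_f_rc_11_3 lc_f_rc_31_4 lc_f_rc_11_3 lc_f_rc_25_0 lc_f_rc_25_0 lc_f_rc_5_1 lc_f_rc_20_1 lc_f_rc_5_3 lc_f_rc_23_3 lc_f_Cert_tree lc_f_rc_25_0 lc_f_rc_20_1 lc_f_rc_11_3 lc_f_rc_20_1 lc_f_rc_25_0 lc_f_rc_5_3 lc_f_rc_23_1 lc_f_rc_11_3)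
def ce_f_16 : D2 → D3 → (Cert rels S Gen.f) := @D2.rec (fun _ => D3 → (Cert rels S Gen.f)) (@D3.rec (fun _ => (Cert rels S Gen.f)) lc_f_rc_5_1 lc_f_rc_25_0 lc_f_rc_11_1 lc_f_rc_11_1 lc_f_rc_25_0 lc_f_rc_25_0 lc_f_rc_30_11 lc_f_Cert_tree lc_f_rc_25_0 lc_f_rc_5_1 lc_f_rc_16_1 lc_f_Cert_tree lc_f_Cert_tree lc_f_rc_25_0 lc_f_rc_25_0 lc_f_rc_11_1 lc_f_rc_5_1 lc_f_rc_20_1 lc_f_rc_31_4 lc_f_rc_25_0 lc_f_rc_25_0 lc_f_rc_11_3 lc_f_rc_26_6 lc_f_rc_16_1 lc_f_rc_20_3 lc_f_rc_11_1 lc_f_rc_31_10 lc_f_rc_23_1 lc_f_rc_5_1 lc_f_rc_16_1 lc_f_rc_16_1 lc_f_rc_20_1 lc_f_rc_26_6 lc_f_rc_16_1 lc_f_rc_16_1 lc_f_rc_20_1 lc_f_rc_11_3 lc_f_rc_29_4 lc_f_rc_29_2 lc_f_rc_5_1) (@D3.rec (fun _ => (Cert rels S Gen.f)) lc_f_rc_23_3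 lc_f_rc_11_3 lc_f_rc_20_1 lc_f_rc_11_5 lc_f_rc_20_1 lc_f_rc_29_2 lc_f_Cert_tree lc_f_rc_25_0 lc_f_Cert_tree lc_f_Cert_tree lc_f_rc_25_0 lc_f_Cert_tree lc_f_rc_25_0 lc_f_rc_11_1 lc_f_rc_29_2 lc_f_rc_25_0 lc_f_rc_5_3 lc_f_Cert_tree lc_f_rc_25_0 lc_f_rc_11_1 lc_f_Cert_tree lc_f_rc_25_0 lc_f_rc_20_3 lc_f_rc_25_0 lc_f_rc_29_4 lc_f_rc_5_1 lc_f_rc_16_1 lc_f_rc_29_2 lc_f_rc_29_4 lc_f_rc_5_1 lc_f_rc_29_2 lc_f_rc_20_1 lc_f_Cert_tree lc_f_rc_25_0 lc_f_rc_5_1 lc_f_rc_29_4 lc_f_rc_16_1 lc_f_Cert_tree lc_f_rc_20_1 lc_f_rc_25_0) (@D3.rec (fun _ => (Cert rels S Gen.f)) lc_f_rc_29_2 lc_f_rc_5_1 lc_f_rc_16_1 lc_f_rc_11_1 lc_f_rc_29_4 lc_f_rc_29_4 lc_f_rc_5_1 lc_f_rc_5_1 lc_f_rc_16_1 lc_f_Cert_tree lc_f_rc_5_3 lc_f_rc_5_3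 lc_f_Cert_tree lc_f_rc_25_0 lc_f_rc_16_1 lc_f_rc_20_1 lc_f_rc_25_0 lc_f_rc_16_1 lc_f_rc_5_3 lc_f_rc_29_4 lc_f_rc_5_3 lc_f_rc_25_0 lc_f_rc_5_1 lc_f_rc_29_4 lc_f_rc_29_4 lc_f_rc_23_3 lc_f_rc_29_4 lc_f_rc_5_1 lc_f_rc_16_1 lc_f_rc_11_3 lc_f_rc_26_2 lc_f_rc_16_1 lc_f_Cert_tree lc_f_rc_5_3 lc_f_rc_11_1 lc_f_rc_25_0 lc_f_rc_5_3 lc_f_rc_25_0 lc_f_rc_25_0 lc_f_rc_29_4) (@D3.rec (fun _ => (Cert rels S Gen.f)) lc_f_rc_11_3 lc_f_rc_5_1 lc_f_rc_11_3 lc_f_rc_29_2 lc_f_rc_5_1 lc_f_rc_29_2 lc_f_rc_29_2 lc_f_rc_25_0 lc_f_rc_31_7 lc_f_rc_16_1 lc_f_rc_25_0 lc_f_rc_11_3 lc_f_rc_29_2 lc_f_rc_11_3 lc_f_rc_16_1 lc_f_rc_11_1 lc_f_rc_11_1 lc_f_rc_25_0 lc_f_Cert_tree lc_f_rc_25_0 lc_f_rc_29_4 lc_f_rc_20_1 lc_f_rc_29_2 lc_f_rc_11_3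 lc_f_rc_5_3 lc_f_rc_11_3 lc_f_rc_25_0 lc_f_rc_16_3 lc_f_rc_5_3 lc_f_Cert_tree lc_f_rc_11_5 lc_f_rc_25_0 lc_f_rc_11_3 lc_f_rc_16_1 lc_f_Cert_tree lc_f_rc_25_0 lc_f_rc_29_2 lc_f_rc_25_0 lc_f_Cert_tree lc_f_rc_25_0) (@D3.rec (fun _ => (Cert rels S Gen.f)) lc_f_rc_25_0 lc_f_rc_29_4 lc_f_rc_11_3 lc_f_rc_16_1 lc_f_rc_25_0 lc_f_rc_26_4 lc_f_rc_25_0 lc_f_rc_20_1 lc_f_rc_20_1 lc_f_rc_11_3 lc_f_rc_5_1 lc_f_rc_16_1 lc_f_rc_29_2 lc_f_rc_5_3 lc_f_rc_5_1 lc_f_rc_16_1 lc_f_rc_23_1 lc_f_rc_29_2 lc_f_rc_5_3 lc_f_rc_16_1 lc_f_Cert_tree lc_f_rc_25_0 lc_f_rc_26_6 lc_f_rc_29_2 lc_f_rc_16_1 lc_f_Cert_tree lc_f_rc_20_1 lc_f_rc_25_0 lc_f_rc_11_3 lc_f_rc_5_1 lc_f_rc_5_3 lc_f_Cert_tree lc_f_rc_25_0 lc_f_rc_5_3 lc_f_rc_25_0 lc_f_rc_29_4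 lc_f_rc_20_1 lc_f_rc_16_1 lc_f_rc_5_1 lc_f_rc_29_2) (@D3.rec (fun _ => (Cert rels S Gen.f)) lc_f_rc_5_1 lc_f_Cert_tree lc_f_rc_25_0 lc_f_Cert_tree lc_f_rc_29_4 lc_f_Cert_tree lc_f_rc_5_1 lc_f_rc_11_3 lc_f_rc_16_1 lc_f_rc_31_7 lc_f_rc_25_0 lc_f_rc_11_3 lc_f_rc_11_3 lc_f_rc_29_2 lc_f_rc_23_1 lc_f_rc_26_4 lc_f_rc_5_1 lc_f_rc_16_1 lc_f_rc_16_1 lc_f_Cert_tree lc_f_rc_25_0 lc_f_rc_11_3 lc_f_rc_23_1 lc_f_rc_5_1 lc_f_rc_25_0 lc_f_rc_16_1 lc_f_rc_23_3 lc_f_rc_25_0 lc_f_rc_5_3 lc_f_rc_11_3 lc_f_rc_11_1 lc_f_rc_25_0 lc_f_rc_5_1 lc_f_rc_20_1 lc_f_rc_29_2 lc_f_rc_5_1 lc_f_rc_31_1 lc_f_Cert_tree lc_f_rc_25_0 lc_f_rc_5_3) (@D3.rec (fun _ => (Cert rels S Gen.f)) lc_f_Cert_tree lc_f_rc_25_0 lc_f_rc_11_3 lc_f_rc_5_1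 lc_f_rc_16_1 lc_f_rc_20_1 lc_f_rc_25_0 lc_f_rc_25_0 lc_f_rc_29_2 lc_f_rc_20_1 lc_f_rc_29_2 lc_f_rc_5_3 lc_f_rc_26_4 lc_f_rc_5_3 lc_f_rc_26_6 lc_f_Cert_tree lc_f_rc_25_0 lc_f_rc_26_0 lc_f_rc_25_0 lc_f_rc_5_3 lc_f_Cert_tree lc_f_rc_25_0 lc_f_rc_20_1 lc_f_rc_5_3 lc_f_Cert_tree lc_f_rc_25_0 lc_f_rc_11_3 lc_f_rc_29_4 lc_f_rc_20_1 lc_f_rc_29_2 lc_f_Cert_tree lc_f_rc_25_0 lc_f_rc_23_1 lc_f_rc_16_3 lc_f_rc_25_0 lc_f_rc_11_3 lc_f_rc_25_0 lc_f_rc_16_1 lc_f_rc_20_1 lc_f_rc_11_5) (@D3.rec (fun _ => (Cert rels S Gen.f)) lc_f_rc_25_0 lc_f_rc_11_3 lc_f_rc_29_2 lc_f_rc_25_1 lc_f_rc_16_1 lc_f_rc_25_0 lc_f_rc_20_1 lc_f_rc_29_2 lc_f_rc_29_4 lc_f_Cert_tree lc_f_rc_25_0 lc_f_Cert_tree lc_f_rc_29_2 lc_f_rc_29_4 lc_f_rc_25_0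 lc_f_rc_29_4 lc_f_Cert_tree lc_f_Cert_tree lc_f_Cert_tree lc_f_rc_25_0 lc_f_rc_29_2 lc_f_rc_25_0 lc_f_rc_25_0 lc_f_rc_29_4 lc_f_rc_16_1 lc_f_rc_16_1 lc_f_rc_23_1 lc_f_rc_20_1 lc_f_rc_25_0 lc_f_rc_25_0 lc_f_rc_11_3 lc_f_rc_11_3 lc_f_rc_29_2 lc_f_rc_16_1 lc_f_Cert_tree lc_f_rc_5_1 lc_f_rc_29_2 lc_f_rc_29_2 lc_f_rc_25_0 lc_f_rc_5_3) (@D3.rec (fun _ => (Cert rels S Gen.f)) lc_f_rc_5_3 lc_f_rc_29_2 lc_f_Cert_tree lc_f_rc_25_0 lc_f_rc_31_10 lc_f_rc_16_3 lc_f_rc_5_1 lc_f_rc_29_2 lc_f_Cert_tree lc_f_rc_25_0 lc_f_rc_5_3 lc_f_Cert_tree lc_f_rc_25_0 lc_f_rc_23_1 lc_f_Cert_tree lc_f_rc_25_0 lc_f_rc_20_1 lc_f_rc_5_1 lc_f_rc_16_1 lc_f_rc_29_2 lc_f_rc_29_2 lc_f_rc_29_2 lc_f_rc_11_5 lc_f_Cert_tree lc_f_rc_25_0 lc_f_rc_25_0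 lc_f_rc_25_0 lc_f_rc_25_0 lc_f_rc_5_3 lc_f_rc_5_3 lc_f_rc_25_0 lc_f_rc_11_3 lc_f_rc_5_1 lc_f_rc_16_1 lc_f_rc_11_1 lc_f_rc_5_1 lc_f_rc_20_1 lc_f_rc_16_1 lc_f_rc_23_1 lc_f_Cert_tree) (@D3.rec (fun _ => (Cert rels S Gen.f)) lc_f_rc_25_0 lc_f_rc_11_1 lc_f_rc_5_3 lc_f_rc_20_1 lc_f_rc_25_0 lc_f_Cert_tree lc_f_rc_25_0 lc_f_Cert_tree lc_f_rc_25_0 lc_f_rc_29_4 lc_f_rc_25_0 lc_f_rc_29_2 lc_f_rc_25_0 lc_f_rc_5_1 lc_f_rc_5_1 lc_f_rc_31_7 lc_f_rc_16_1 lc_f_rc_25_0 lc_f_rc_26_2 lc_f_rc_25_0 lc_f_rc_20_1 lc_f_rc_5_1 lc_f_rc_16_1 lc_f_rc_26_6 lc_f_Cert_tree lc_f_rc_25_0 lc_f_rc_5_1 lc_f_rc_25_0 lc_f_rc_11_3 lc_f_rc_11_1 lc_f_rc_26_2 lc_f_Cert_tree lc_f_rc_20_1 lc_f_Cert_tree lc_f_rc_25_0 lc_f_rc_20_3 lc_f_rc_5_3 lc_f_rc_31_4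 lc_f_rc_25_0 lc_f_rc_20_3) (@D3.rec (fun _ => (Cert rels S Gen.f)) lc_f_rc_5_1 lc_f_rc_23_1 lc_f_rc_29_2 lc_f_rc_25_0 lc_f_rc_11_1 lc_f_rc_25_0 lc_f_Cert_tree lc_f_rc_25_0 lc_f_rc_29_4 lc_f_Cert_tree lc_f_rc_25_0 lc_f_Cert_tree lc_f_rc_26_4 lc_f_rc_25_0 lc_f_rc_29_2 lc_f_rc_5_3 lc_f_Cert_tree lc_f_rc_25_0 lc_f_rc_11_3 lc_f_rc_29_4 lc_f_rc_5_3 lc_f_rc_29_2 lc_f_rc_25_0 lc_f_rc_11_3 lc_f_rc_29_2 lc_f_rc_16_1 lc_f_Cert_tree lc_f_rc_5_3 lc_f_rc_25_0 lc_f_rc_5_3 lc_f_rc_26_2 lc_f_Cert_tree lc_f_rc_25_0 lc_f_rc_11_3 lc_f_rc_5_1 lc_f_rc_16_1 lc_f_rc_29_2 lc_f_rc_29_4 lc_f_rc_29_2 lc_f_rc_29_2) (@D3.rec (fun _ => (Cert rels S Gen.f)) lc_f_rc_20_1 lc_f_Cert_tree lc_f_rc_25_0 lc_f_rc_5_3 lc_f_rc_5_3 lc_f_Cert_tree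 lc_f_rc_25_0 lc_f_rc_16_1 lc_f_rc_5_1 lc_f_rc_31_1 lc_f_rc_11_1 lc_f_rc_11_3 lc_f_rc_30_15 lc_f_rc_11_3 lc_f_rc_5_1 lc_f_rc_20_1 lc_f_rc_11_1 lc_f_rc_5_1 lc_f_rc_26_6 lc_f_rc_11_1 lc_f_rc_29_4 lc_f_rc_31_10 lc_f_rc_11_3 lc_f_rc_20_1 lc_f_rc_16_1 lc_f_rc_23_1 lc_f_rc_26_6 lc_f_rc_5_3 lc_f_rc_25_0 lc_f_rc_26_2 lc_f_rc_25_0 lc_f_rc_20_1 lc_f_rc_20_1 lc_f_rc_25_0 lc_f_rc_20_1 lc_f_rc_26_6 lc_f_rc_25_0 lc_f_rc_16_1 lc_f_rc_29_4 lc_f_rc_11_1) (@D3.rec (fun _ => (Cert rels S Gen.f)) lc_f_rc_20_1 lc_f_rc_25_0 lc_f_rc_11_3 lc_f_rc_20_1 lc_f_rc_25_0 lc_f_rc_5_1 lc_f_rc_16_1 lc_f_rc_29_2 lc_f_rc_11_3 lc_f_rc_23_1 lc_f_rc_11_3 lc_f_rc_16_1 lc_f_rc_5_1 lc_f_rc_29_4 lc_f_rc_11_3 lc_f_rc_29_2 lc_f_rc_20_1 lc_f_rc_20_3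 lc_f_rc_25_0 lc_f_rc_20_1 lc_f_rc_16_1 lc_f_rc_20_1 lc_f_rc_20_1 lc_f_rc_5_1 lc_f_rc_5_1 lc_f_rc_16_1 lc_f_rc_26_6 lc_f_rc_20_1 lc_f_rc_11_3 lc_f_rc_5_1 lc_f_rc_20_1 lc_f_rc_29_2 lc_f_Cert_tree lc_f_rc_25_0 lc_f_rc_30_11 lc_f_rc_23_1 lc_f_rc_5_1 lc_f_rc_16_1 lc_f_rc_29_2 lc_f_rc_29_4) (@D3.rec (fun _ => (Cert rels S Gen.f)) lc_f_rc_5_3 lc_f_Cert_tree lc_f_rc_25_0 lc_f_rc_11_1 lc_f_rc_29_2 lc_f_rc_25_0 lc_f_rc_20_1 lc_f_rc_29_4 lc_f_rc_23_1 lc_f_rc_25_1 lc_f_Cert_tree lc_f_rc_25_0 lc_f_rc_16_1 lc_f_rc_30_11 lc_f_rc_25_0 lc_f_rc_5_1 lc_f_rc_11_1 lc_f_rc_20_1 lc_f_rc_20_1 lc_f_rc_5_3 lc_f_rc_25_0 lc_f_rc_11_3 lc_f_rc_5_3 lc_f_rc_20_1 lc_f_Cert_tree lc_f_rc_25_0 lc_f_rc_26_6 lc_f_rc_29_2 lc_f_Cert_tree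 lc_f_Cert_tree lc_f_rc_11_3 lc_f_rc_5_3 lc_f_rc_25_0 lc_f_rc_5_3 lc_f_rc_26_6 lc_f_rc_25_0 lc_f_rc_11_3 lc_f_rc_29_4 lc_f_rc_16_1 lc_f_rc_16_1) (@D3.rec (fun _ => (Cert rels S Gen.f)) lc_f_rc_25_0 lc_f_rc_11_3 lc_f_rc_25_0 lc_f_rc_11_3 lc_f_rc_29_4 lc_f_rc_5_1 lc_f_rc_16_1 lc_f_rc_29_2 lc_f_Cert_tree lc_f_rc_29_2 lc_f_rc_29_2 lc_f_rc_20_1 lc_f_Cert_tree lc_f_rc_25_0 lc_f_Cert_tree lc_f_rc_25_0 lc_f_rc_11_3 lc_f_rc_20_3 lc_f_rc_16_1 lc_f_rc_20_3 lc_f_Cert_tree lc_f_rc_25_0 lc_f_rc_25_0 lc_f_rc_11_3 lc_f_rc_29_4 lc_f_rc_5_1 lc_f_rc_29_2 lc_f_rc_11_3 lc_f_rc_25_0 lc_f_rc_11_3 lc_f_rc_11_3 lc_f_rc_29_2 lc_f_rc_16_1 lc_f_Cert_tree lc_f_rc_25_0 lc_f_Cert_tree lc_f_rc_25_0 lc_f_Cert_tree lc_f_Cert_tree lc_f_rc_25_0)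 (@D3.rec (fun _ => (Cert rels S Gen.f)) lc_f_rc_26_6 lc_f_Cert_tree lc_f_rc_20_1 lc_f_rc_25_0 lc_f_rc_26_2 lc_f_rc_16_3 lc_f_rc_16_1 lc_f_Cert_tree lc_f_rc_5_3 lc_f_rc_25_0 lc_f_Cert_tree lc_f_rc_26_6 lc_f_rc_25_0 lc_f_Cert_tree lc_f_Cert_tree lc_f_Cert_tree lc_f_rc_25_0 lc_f_rc_29_2 lc_f_rc_25_0 lc_f_rc_16_1 lc_f_rc_25_0 lc_f_rc_25_0 lc_f_rc_11_3 lc_f_rc_11_3 lc_f_rc_11_3 lc_f_rc_11_3 lc_f_rc_11_3 lc_f_rc_5_1 lc_f_rc_29_2 lc_f_rc_31_7 lc_f_rc_5_3 lc_f_rc_16_3 lc_f_Cert_tree lc_f_rc_25_0 lc_f_rc_11_1 lc_f_rc_5_3 lc_f_rc_29_2 lc_f_Cert_tree lc_f_rc_29_2 lc_f_rc_20_1) (@D3.rec (fun _ => (Cert rels S Gen.f)) lc_f_rc_25_0 lc_f_rc_5_3 lc_f_Cert_tree lc_f_rc_25_0 lc_f_rc_11_3 lc_f_Cert_tree lc_f_rc_25_0 lc_f_Cert_tree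 lc_f_rc_25_0 lc_f_rc_29_4 lc_f_rc_5_1 lc_f_rc_29_2 lc_f_rc_5_3 lc_f_rc_11_3 lc_f_rc_11_1 lc_f_rc_25_0 lc_f_rc_11_5 lc_f_rc_20_3 lc_f_rc_31_10 lc_f_Cert_tree lc_f_rc_25_0 lc_f_rc_5_3 lc_f_rc_25_0 lc_f_rc_11_3 lc_f_rc_11_3 lc_f_rc_5_1 lc_f_rc_11_3 lc_f_rc_25_0 lc_f_rc_23_3 lc_f_rc_25_0 lc_f_rc_29_4 lc_f_Cert_tree lc_f_rc_25_0 lc_f_Cert_tree lc_f_Cert_tree lc_f_rc_25_0 lc_f_rc_11_3 lc_f_Cert_tree lc_f_rc_20_1 lc_f_rc_25_0) (@D3.rec (fun _ => (Cert rels S Gen.f)) lc_f_rc_26_2 lc_f_rc_16_1 lc_f_rc_29_4 lc_f_Cert_tree lc_f_rc_5_3 lc_f_rc_25_0 lc_f_Cert_tree lc_f_rc_26_6 lc_f_rc_25_0 lc_f_rc_11_3 lc_f_Cert_tree lc_f_rc_16_1 lc_f_rc_25_0 lc_f_rc_29_2 lc_f_rc_25_0 lc_f_rc_16_1 lc_f_rc_25_0 lc_f_rc_25_0 lc_f_rc_11_3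 lc_f_rc_16_1 lc_f_rc_20_1 lc_f_rc_16_1 lc_f_rc_25_0 lc_f_rc_29_4 lc_f_Cert_tree lc_f_rc_25_0 lc_f_rc_29_2 lc_f_Cert_tree lc_f_rc_25_0 lc_f_rc_5_3 lc_f_rc_25_0 lc_f_Cert_tree lc_f_rc_25_0 lc_f_rc_29_2 lc_f_rc_25_0 lc_f_rc_25_0 lc_f_Cert_tree lc_f_Cert_tree lc_f_rc_25_0 lc_f_rc_11_3) (@D3.rec (fun _ => (Cert rels S Gen.f)) lc_f_Cert_tree lc_f_Cert_tree lc_f_rc_25_0 lc_f_rc_5_1 lc_f_rc_25_0 lc_f_rc_5_1 lc_f_rc_11_3 lc_f_rc_11_1 lc_f_rc_11_3 lc_f_rc_16_1 lc_f_rc_25_0 lc_f_Cert_tree lc_f_Cert_tree lc_f_rc_25_0 lc_f_rc_5_3 lc_f_Cert_tree lc_f_rc_25_0 lc_f_rc_29_2 lc_f_rc_25_0 lc_f_Cert_tree lc_f_rc_25_0 lc_f_rc_29_2 lc_f_rc_25_0 lc_f_rc_25_0 lc_f_rc_5_3 lc_f_rc_5_3 lc_f_rc_30_11 lc_f_Cert_tree lc_f_rc_25_0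 lc_f_rc_25_0 lc_f_rc_29_4 lc_f_rc_16_1 lc_f_rc_26_2 lc_f_rc_11_3 lc_f_rc_16_1 lc_f_rc_11_3 lc_f_rc_29_4 lc_f_rc_25_0 lc_f_rc_5_1 lc_f_rc_25_0) (@D3.rec (fun _ => (Cert rels S Gen.f)) lc_f_rc_20_1 lc_f_rc_11_1 lc_f_rc_26_0 lc_f_rc_25_0 lc_f_rc_23_1 lc_f_rc_5_1 lc_f_rc_29_2 lc_f_rc_16_1 lc_f_rc_29_2 lc_f_rc_25_0 lc_f_rc_25_0 lc_f_rc_5_1 lc_f_rc_5_1 lc_f_rc_29_2 lc_f_rc_30_7 lc_f_rc_25_0 lc_f_rc_11_3 lc_f_rc_5_1 lc_f_rc_29_2 lc_f_rc_5_1 lc_f_rc_11_3 lc_f_rc_26_6 lc_f_rc_30_11 lc_f_rc_29_2 lc_f_rc_25_0 lc_f_rc_16_1 lc_f_rc_29_2 lc_f_rc_30_3 lc_f_rc_5_1 lc_f_rc_29_2 lc_f_rc_23_1 lc_f_rc_16_3 lc_f_rc_25_0 lc_f_rc_5_1 lc_f_rc_16_1 lc_f_rc_5_1 lc_f_rc_5_1 lc_f_rc_26_4 lc_f_rc_31_4 lc_f_rc_20_1) (@D3.rec (fun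 _ => (Cert rels S Gen.f)) lc_f_rc_30_7 lc_f_rc_20_1 lc_f_rc_25_0 lc_f_rc_16_1 lc_f_rc_29_2 lc_f_rc_25_0 lc_f_rc_11_1 lc_f_rc_25_0 lc_f_rc_29_2 lc_f_Cert_tree lc_f_rc_25_0 lc_f_rc_29_2 lc_f_rc_29_4 lc_f_rc_29_4 lc_f_Cert_tree lc_f_rc_23_1 lc_f_rc_23_1 lc_f_rc_16_3 lc_f_rc_25_0 lc_f_rc_16_1 lc_f_rc_31_7 lc_f_rc_29_2 lc_f_rc_25_0 lc_f_rc_11_1 lc_f_rc_31_4 lc_f_rc_16_1 lc_f_rc_31_10 lc_f_rc_31_7 lc_f_rc_11_1 lc_f_rc_25_0 lc_f_rc_26_4 lc_f_rc_20_1 lc_f_rc_25_0 lc_f_rc_5_1 lc_f_rc_16_1 lc_f_rc_29_4 lc_f_rc_30_7 lc_f_rc_25_0 lc_f_rc_25_0 lc_f_rc_20_1) (@D3.rec (fun _ => (Cert rels S Gen.f)) lc_f_rc_11_1 lc_f_rc_20_3 lc_f_rc_20_1 lc_f_rc_23_1 lc_f_rc_25_1 lc_f_rc_11_3 lc_f_rc_11_3 lc_f_rc_11_3 lc_f_rc_26_0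 lc_f_rc_16_1 lc_f_rc_5_3 lc_f_rc_11_3 lc_f_rc_25_0 lc_f_rc_16_1 lc_f_rc_11_3 lc_f_rc_11_3 lc_f_rc_20_1 lc_f_rc_29_2 lc_f_rc_11_3 lc_f_rc_11_3 lc_f_rc_16_1 lc_f_rc_29_4 lc_f_rc_5_1 lc_f_rc_11_1 lc_f_rc_11_1 lc_f_rc_5_3 lc_f_rc_25_0 lc_f_rc_11_3 lc_f_Cert_tree lc_f_rc_25_0 lc_f_Cert_tree lc_f_rc_25_0 lc_f_rc_29_2 lc_f_rc_29_2 lc_f_rc_20_1 lc_f_rc_29_4 lc_f_rc_25_0 lc_f_rc_25_0 lc_f_rc_29_2 lc_f_rc_11_5) (@D3.rec (fun _ => (Cert rels S Gen.f)) lc_f_rc_20_1 lc_f_rc_20_1 lc_f_rc_16_1 lc_f_rc_20_1 lc_f_Cert_tree lc_f_rc_25_0 lc_f_rc_25_0 lc_f_rc_5_3 lc_f_rc_11_3 lc_f_rc_25_0 lc_f_rc_31_7 lc_f_rc_5_1 lc_f_rc_23_1 lc_f_rc_16_1 lc_f_rc_25_0 lc_f_rc_25_0 lc_f_rc_25_0 lc_f_rc_16_1 lc_f_rc_29_4 lc_f_rc_29_2 lc_f_Cert_tree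 lc_f_rc_25_0 lc_f_rc_26_2 lc_f_rc_11_3 lc_f_rc_29_4 lc_f_Cert_tree lc_f_rc_25_0 lc_f_rc_25_0 lc_f_rc_25_0 lc_f_rc_16_1 lc_f_rc_20_1 lc_f_rc_16_1 lc_f_rc_25_0 lc_f_rc_26_4 lc_f_rc_16_1 lc_f_rc_16_1 lc_f_rc_20_1 lc_f_rc_20_1 lc_f_rc_5_1 lc_f_rc_16_3) (@D3.rec (fun _ => (Cert rels S Gen.f)) lc_f_rc_11_3 lc_f_Cert_tree lc_f_rc_20_3 lc_f_rc_29_2 lc_f_rc_11_3 lc_f_rc_16_1 lc_f_rc_11_3 lc_f_rc_29_4 lc_f_rc_20_1 lc_f_rc_16_1 lc_f_Cert_tree lc_f_Cert_tree lc_f_rc_5_3 lc_f_Cert_tree lc_f_rc_25_0 lc_f_rc_16_1 lc_f_rc_5_3 lc_f_rc_25_0 lc_f_rc_5_1 lc_f_rc_26_6 lc_f_Cert_tree lc_f_rc_20_1 lc_f_rc_16_1 lc_f_rc_5_3 lc_f_rc_16_1 lc_f_rc_25_0 lc_f_rc_25_0 lc_f_rc_11_3 lc_f_rc_29_4 lc_f_rc_31_10 lc_f_Cert_tree lc_f_rc_25_0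 lc_f_rc_11_3 lc_f_rc_5_3 lc_f_Cert_tree lc_f_rc_25_0 lc_f_Cert_tree lc_f_rc_25_0 lc_f_rc_11_3 lc_f_rc_11_3) (@D3.rec (fun _ => (Cert rels S Gen.f)) lc_f_rc_5_1 lc_f_rc_16_1 lc_f_rc_29_2 lc_f_rc_5_1 lc_f_rc_5_1 lc_f_rc_29_2 lc_f_rc_23_1 lc_f_rc_5_3 lc_f_rc_11_1 lc_f_Cert_tree lc_f_rc_25_0 lc_f_rc_11_5 lc_f_rc_11_1 lc_f_Cert_tree lc_f_rc_29_2 lc_f_Cert_tree lc_f_rc_25_0 lc_f_rc_11_3 lc_f_rc_25_1 lc_f_rc_16_1 lc_f_rc_11_3 lc_f_rc_20_1 lc_f_rc_5_3 lc_f_rc_16_1 lc_f_rc_20_1 lc_f_rc_5_3 lc_f_rc_5_3 lc_f_rc_25_0 lc_f_rc_29_2 lc_f_rc_16_1 lc_f_Cert_tree lc_f_Cert_tree lc_f_rc_26_2 lc_f_rc_25_0 lc_f_rc_31_7 lc_f_rc_25_0 lc_f_rc_11_1 lc_f_rc_29_4 lc_f_rc_31_7 lc_f_rc_25_0) (@D3.rec (fun _ => (Cert rels S Gen.f))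 lc_f_rc_11_3 lc_f_Cert_tree lc_f_Cert_tree lc_f_rc_25_0 lc_f_rc_5_3 lc_f_rc_25_0 lc_f_rc_5_3 lc_f_rc_11_3 lc_f_rc_5_1 lc_f_rc_16_1 lc_f_Cert_tree lc_f_rc_5_1 lc_f_rc_29_2 lc_f_rc_20_1 lc_f_rc_16_3 lc_f_rc_25_0 lc_f_rc_5_1 lc_f_rc_26_4 lc_f_rc_16_1 lc_f_rc_5_3 lc_f_rc_16_1 lc_f_rc_25_0 lc_f_rc_30_11 lc_f_rc_16_1 lc_f_rc_5_3 lc_f_Cert_tree lc_f_rc_20_1 lc_f_rc_25_0 lc_f_rc_25_1 lc_f_rc_11_1 lc_f_rc_5_1 lc_f_rc_16_1 lc_f_rc_29_4 lc_f_rc_25_0 lc_f_rc_11_5 lc_f_rc_25_0 lc_f_rc_11_5 lc_f_rc_5_1 lc_f_rc_25_0 lc_f_Cert_tree)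
def ce_f_17 : D2 → D3 → (Cert rels S Gen.f) := @D2.rec (fun _ => D3 → (Cert rels S Gen.f)) (@D3.rec (fun _ => (Cert rels S Gen.f)) lc_f_rc_25_0 lc_f_rc_25_0 lc_f_rc_5_1 lc_f_Cert_tree lc_f_Cert_tree lc_f_rc_25_0 lc_f_rc_23_1 lc_f_Cert_tree lc_f_rc_25_0 lc_f_rc_11_3 lc_f_rc_16_1 lc_f_rc_29_4 lc_f_rc_20_3 lc_f_rc_20_3 lc_f_Cert_tree lc_f_rc_25_0 lc_f_rc_20_3 lc_f_rc_25_0 lc_f_rc_5_1 lc_f_rc_23_1 lc_f_Cert_tree lc_f_rc_25_0 lc_f_rc_11_3 lc_f_rc_5_1 lc_f_rc_16_1 lc_f_rc_26_6 lc_f_rc_11_1 lc_f_rc_11_3 lc_f_rc_29_4 lc_f_rc_25_0 lc_f_rc_23_1 lc_f_rc_20_1 lc_f_Cert_tree lc_f_rc_25_0 lc_f_rc_16_3 lc_f_rc_5_1 lc_f_rc_5_1 lc_f_rc_29_2 lc_f_Cert_tree lc_f_rc_16_1) (@D3.rec (fun _ => (Cert rels S Gen.f)) lc_f_rc_25_0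 lc_f_rc_29_4 lc_f_rc_25_0 lc_f_rc_11_1 lc_f_rc_29_4 lc_f_rc_23_1 lc_f_Cert_tree lc_f_rc_25_0 lc_f_rc_30_11 lc_f_rc_16_1 lc_f_rc_25_0 lc_f_rc_26_6 lc_f_rc_16_1 lc_f_rc_5_1 lc_f_rc_5_1 lc_f_rc_16_1 lc_f_rc_29_2 lc_f_rc_20_1 lc_f_rc_5_3 lc_f_rc_5_3 lc_f_rc_25_0 lc_f_rc_26_2 lc_f_Cert_tree lc_f_rc_25_0 lc_f_rc_11_3 lc_f_rc_5_1 lc_f_rc_25_0 lc_f_rc_16_1 lc_f_rc_29_4 lc_f_rc_29_2 lc_f_rc_20_1 lc_f_rc_29_2 lc_f_rc_5_3 lc_f_rc_25_0 lc_f_Cert_tree lc_f_rc_20_1 lc_f_Cert_tree lc_f_Cert_tree lc_f_rc_25_0 lc_f_rc_25_0) (@D3.rec (fun _ => (Cert rels S Gen.f)) lc_f_rc_11_3 lc_f_rc_5_1 lc_f_rc_11_3 lc_f_rc_29_2 lc_f_rc_16_1 lc_f_rc_16_1 lc_f_rc_25_0 lc_f_Cert_tree lc_f_rc_29_2 lc_f_rc_25_0 lc_f_rc_23_1 lc_f_rc_5_1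 lc_f_Cert_tree lc_f_rc_29_2 lc_f_rc_25_0 lc_f_rc_11_1 lc_f_rc_20_1 lc_f_rc_25_0 lc_f_rc_11_3 lc_f_Cert_tree lc_f_rc_25_0 lc_f_rc_29_2 lc_f_rc_25_0 lc_f_rc_16_1 lc_f_rc_25_0 lc_f_rc_25_0 lc_f_rc_29_4 lc_f_rc_29_2 lc_f_rc_29_2 lc_f_rc_29_2 lc_f_Cert_tree lc_f_rc_16_1 lc_f_rc_25_0 lc_f_rc_16_1 lc_f_Cert_tree lc_f_Cert_tree lc_f_rc_25_0 lc_f_rc_29_2 lc_f_rc_25_0 lc_f_rc_5_3) (@D3.rec (fun _ => (Cert rels S Gen.f)) lc_f_rc_25_0 lc_f_rc_25_0 lc_f_Cert_tree lc_f_rc_25_0 lc_f_rc_29_2 lc_f_rc_25_0 lc_f_rc_25_0 lc_f_Cert_tree lc_f_Cert_tree lc_f_rc_25_0 lc_f_rc_11_3 lc_f_Cert_tree lc_f_Cert_tree lc_f_rc_25_0 lc_f_rc_29_2 lc_f_rc_25_0 lc_f_rc_29_2 lc_f_Cert_tree lc_f_rc_25_0 lc_f_rc_29_2 lc_f_rc_25_0 lc_f_rc_25_0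 lc_f_rc_5_3 lc_f_rc_5_3 lc_f_Cert_tree lc_f_rc_30_15 lc_f_rc_25_0 lc_f_rc_25_0 lc_f_rc_16_1 lc_f_rc_11_1 lc_f_rc_25_0 lc_f_rc_25_0 lc_f_rc_25_1 lc_f_rc_23_1 lc_f_rc_11_3 lc_f_rc_11_3 lc_f_rc_5_1 lc_f_rc_11_3 lc_f_rc_5_3 lc_f_rc_23_3) (@D3.rec (fun _ => (Cert rels S Gen.f)) lc_f_rc_5_1 lc_f_rc_5_1 lc_f_rc_29_2 lc_f_rc_20_1 lc_f_rc_20_1 lc_f_rc_25_0 lc_f_rc_5_3 lc_f_rc_25_0 lc_f_rc_11_3 lc_f_rc_5_1 lc_f_rc_30_3 lc_f_rc_29_2 lc_f_rc_30_7 lc_f_rc_25_0 lc_f_rc_23_1 lc_f_rc_25_0 lc_f_rc_29_4 lc_f_rc_20_1 lc_f_rc_16_1 lc_f_rc_11_1 lc_f_rc_26_6 lc_f_rc_25_0 lc_f_rc_25_0 lc_f_Cert_tree lc_f_rc_25_0 lc_f_rc_5_1 lc_f_rc_5_1 lc_f_rc_25_0 lc_f_rc_29_2 lc_f_rc_30_7 lc_f_rc_11_1 lc_f_Cert_tree lc_f_rc_25_0 lc_f_rc_29_4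 lc_f_rc_20_1 lc_f_rc_20_1 lc_f_rc_31_10 lc_f_rc_11_1 lc_f_rc_11_1 lc_f_rc_25_0) (@D3.rec (fun _ => (Cert rels S Gen.f)) lc_f_rc_29_2 lc_f_rc_29_2 lc_f_rc_20_1 lc_f_rc_29_2 lc_f_rc_5_1 lc_f_rc_29_2 lc_f_rc_26_4 lc_f_Cert_tree lc_f_rc_25_0 lc_f_rc_5_1 lc_f_rc_30_7 lc_f_rc_23_1 lc_f_rc_5_3 lc_f_rc_20_1 lc_f_rc_23_3 lc_f_rc_5_1 lc_f_rc_11_1 lc_f_rc_23_3 lc_f_rc_29_4 lc_f_rc_20_1 lc_f_rc_16_1 lc_f_rc_25_0 lc_f_rc_16_1 lc_f_rc_23_1 lc_f_Cert_tree lc_f_rc_25_0 lc_f_rc_11_3 lc_f_rc_11_3 lc_f_rc_16_1 lc_f_rc_23_1 lc_f_rc_20_1 lc_f_rc_29_4 lc_f_rc_23_1 lc_f_rc_25_0 lc_f_rc_16_1 lc_f_rc_5_1 lc_f_rc_20_1 lc_f_rc_5_3 lc_f_rc_16_1 lc_f_Cert_tree) (@D3.rec (fun _ => (Cert rels S Gen.f)) lc_f_rc_25_0 lc_f_rc_23_1 lc_f_rc_5_3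 lc_f_rc_29_2 lc_f_rc_25_0 lc_f_rc_31_7 lc_f_rc_11_1 lc_f_rc_11_5 lc_f_rc_25_0 lc_f_rc_11_3 lc_f_rc_5_1 lc_f_rc_29_2 lc_f_rc_23_1 lc_f_rc_23_1 lc_f_rc_25_0 lc_f_rc_11_5 lc_f_rc_20_3 lc_f_rc_25_0 lc_f_rc_11_3 lc_f_rc_23_1 lc_f_rc_29_2 lc_f_rc_25_0 lc_f_rc_25_0 lc_f_rc_11_3 lc_f_rc_5_1 lc_f_rc_5_1 lc_f_rc_23_1 lc_f_rc_23_1 lc_f_rc_5_1 lc_f_rc_25_0 lc_f_rc_25_0 lc_f_rc_11_3 lc_f_rc_23_1 lc_f_rc_20_1 lc_f_Cert_tree lc_f_rc_25_0 lc_f_rc_23_1 lc_f_rc_29_4 lc_f_rc_16_1 lc_f_rc_16_1) (@D3.rec (fun _ => (Cert rels S Gen.f)) lc_f_rc_5_1 lc_f_Cert_tree lc_f_rc_25_0 lc_f_rc_11_3 lc_f_rc_16_1 lc_f_rc_20_1 lc_f_rc_20_1 lc_f_rc_5_1 lc_f_rc_11_5 lc_f_rc_20_1 lc_f_rc_5_1 lc_f_rc_16_1 lc_f_rc_20_1 lc_f_rc_16_1 lc_f_rc_16_1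 lc_f_rc_23_1 lc_f_rc_20_1 lc_f_rc_11_3 lc_f_Cert_tree lc_f_rc_25_0 lc_f_rc_11_1 lc_f_rc_26_2 lc_f_rc_25_0 lc_f_rc_11_3 lc_f_rc_5_1 lc_f_rc_29_2 lc_f_Cert_tree lc_f_rc_11_1 lc_f_rc_25_0 lc_f_rc_5_3 lc_f_rc_25_0 lc_f_rc_5_1 lc_f_Cert_tree lc_f_rc_25_0 lc_f_rc_25_0 lc_f_rc_16_1 lc_f_rc_5_1 lc_f_rc_5_1 lc_f_rc_29_2 lc_f_rc_5_3) (@D3.rec (fun _ => (Cert rels S Gen.f)) lc_f_rc_30_15 lc_f_rc_25_0 lc_f_rc_25_1 lc_f_rc_5_1 lc_f_Cert_tree lc_f_rc_25_0 lc_f_rc_31_10 lc_f_rc_5_3 lc_f_rc_11_1 lc_f_rc_29_4 lc_f_Cert_tree lc_f_rc_20_1 lc_f_rc_29_2 lc_f_rc_20_3 lc_f_rc_5_1 lc_f_rc_16_1 lc_f_rc_16_3 lc_f_rc_20_1 lc_f_rc_16_1 lc_f_rc_11_1 lc_f_Cert_tree lc_f_rc_25_0 lc_f_rc_20_3 lc_f_rc_16_1 lc_f_Cert_tree lc_f_rc_25_0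 lc_f_rc_16_1 lc_f_rc_11_3 lc_f_rc_5_3 lc_f_Cert_tree lc_f_Cert_tree lc_f_rc_25_0 lc_f_rc_23_3 lc_f_rc_5_1 lc_f_rc_20_1 lc_f_rc_5_3 lc_f_rc_16_1 lc_f_rc_25_0 lc_f_rc_29_2 lc_f_rc_26_2) (@D3.rec (fun _ => (Cert rels S Gen.f)) lc_f_rc_25_0 lc_f_rc_11_3 lc_f_rc_25_0 lc_f_rc_25_0 lc_f_rc_16_1 lc_f_rc_29_4 lc_f_rc_16_3 lc_f_rc_5_1 lc_f_Cert_tree lc_f_Cert_tree lc_f_rc_25_0 lc_f_Cert_tree lc_f_rc_11_3 lc_f_rc_25_0 lc_f_rc_25_0 lc_f_rc_26_2 lc_f_rc_30_11 lc_f_rc_5_1 lc_f_rc_16_1 lc_f_rc_23_1 lc_f_rc_29_2 lc_f_Cert_tree lc_f_Cert_tree lc_f_rc_26_4 lc_f_Cert_tree lc_f_rc_29_2 lc_f_rc_25_0 lc_f_rc_16_1 lc_f_rc_5_1 lc_f_rc_29_2 lc_f_Cert_tree lc_f_Cert_tree lc_f_Cert_tree lc_f_rc_5_1 lc_f_rc_25_0 lc_f_rc_5_3 lc_f_rc_25_0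 lc_f_rc_5_1 lc_f_rc_16_1 lc_f_rc_26_6) (@D3.rec (fun _ => (Cert rels S Gen.f)) lc_f_rc_11_3 lc_f_rc_5_3 lc_f_rc_5_3 lc_f_Cert_tree lc_f_rc_20_1 lc_f_rc_20_1 lc_f_rc_20_1 lc_f_rc_25_0 lc_f_rc_29_2 lc_f_rc_5_1 lc_f_rc_26_6 lc_f_rc_26_6 lc_f_rc_29_4 lc_f_rc_5_1 lc_f_rc_29_2 lc_f_rc_5_1 lc_f_Cert_tree lc_f_Cert_tree lc_f_rc_25_0 lc_f_Cert_tree lc_f_rc_20_1 lc_f_Cert_tree lc_f_Cert_tree lc_f_Cert_tree lc_f_rc_25_0 lc_f_rc_20_1 lc_f_rc_20_3 lc_f_rc_11_5 lc_f_Cert_tree lc_f_rc_25_0 lc_f_rc_25_0 lc_f_rc_29_4 lc_f_rc_23_1 lc_f_rc_29_4 lc_f_rc_20_1 lc_f_rc_25_0 lc_f_rc_5_3 lc_f_rc_29_2 lc_f_rc_25_0 lc_f_rc_16_1) (@D3.rec (fun _ => (Cert rels S Gen.f)) lc_f_rc_5_1 lc_f_rc_5_3 lc_f_rc_23_1 lc_f_rc_25_0 lc_f_rc_29_2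 lc_f_rc_11_3 lc_f_rc_25_0 lc_f_rc_29_4 lc_f_rc_25_0 lc_f_rc_5_1 lc_f_rc_16_3 lc_f_rc_25_0 lc_f_rc_16_1 lc_f_rc_25_0 lc_f_rc_11_3 lc_f_rc_5_1 lc_f_Cert_tree lc_f_rc_25_0 lc_f_rc_25_0 lc_f_rc_5_1 lc_f_rc_20_1 lc_f_rc_25_0 lc_f_rc_25_0 lc_f_rc_16_1 lc_f_rc_25_0 lc_f_rc_25_0 lc_f_rc_25_0 lc_f_rc_11_1 lc_f_rc_25_0 lc_f_rc_25_0 lc_f_rc_25_0 lc_f_rc_11_3 lc_f_rc_11_1 lc_f_rc_5_1 lc_f_rc_25_0 lc_f_rc_11_3 lc_f_rc_11_1 lc_f_rc_16_1 lc_f_Cert_tree lc_f_rc_11_3) (@D3.rec (fun _ => (Cert rels S Gen.f)) lc_f_rc_16_1 lc_f_rc_5_3 lc_f_rc_29_2 lc_f_rc_29_2 lc_f_Cert_tree lc_f_rc_25_0 lc_f_rc_5_1 lc_f_rc_25_0 lc_f_rc_11_1 lc_f_rc_20_1 lc_f_rc_16_1 lc_f_rc_20_1 lc_f_rc_16_1 lc_f_rc_20_1 lc_f_rc_5_1 lc_f_Cert_tree lc_f_rc_25_0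 lc_f_rc_25_0 lc_f_rc_16_1 lc_f_rc_25_0 lc_f_rc_29_2 lc_f_rc_25_0 lc_f_rc_11_3 lc_f_rc_29_2 lc_f_rc_25_1 lc_f_rc_20_1 lc_f_rc_20_3 lc_f_rc_16_1 lc_f_rc_29_2 lc_f_rc_20_1 lc_f_rc_26_6 lc_f_rc_25_0 lc_f_Cert_tree lc_f_rc_29_2 lc_f_Cert_tree lc_f_Cert_tree lc_f_Cert_tree lc_f_rc_25_0 lc_f_rc_29_2 lc_f_rc_25_0) (@D3.rec (fun _ => (Cert rels S Gen.f)) lc_f_rc_20_3 lc_f_rc_25_0 lc_f_rc_11_3 lc_f_rc_29_2 lc_f_rc_16_1 lc_f_rc_16_1 lc_f_rc_25_0 lc_f_Cert_tree lc_f_rc_25_0 lc_f_rc_30_15 lc_f_rc_20_1 lc_f_rc_5_1 lc_f_Cert_tree lc_f_rc_25_0 lc_f_rc_5_3 lc_f_rc_25_0 lc_f_rc_11_3 lc_f_rc_25_0 lc_f_rc_25_0 lc_f_rc_11_3 lc_f_rc_29_2 lc_f_rc_16_1 lc_f_Cert_tree lc_f_rc_16_1 lc_f_rc_29_2 lc_f_rc_20_1 lc_f_rc_29_2 lc_f_rc_20_1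 lc_f_rc_29_4 lc_f_rc_16_1 lc_f_rc_5_1 lc_f_rc_29_2 lc_f_rc_11_3 lc_f_rc_29_4 lc_f_rc_25_0 lc_f_rc_29_2 lc_f_rc_16_1 lc_f_rc_23_3 lc_f_rc_25_0 lc_f_Cert_tree) (@D3.rec (fun _ => (Cert rels S Gen.f)) lc_f_rc_25_0 lc_f_rc_20_1 lc_f_Cert_tree lc_f_Cert_tree lc_f_Cert_tree lc_f_rc_25_0 lc_f_Cert_tree lc_f_rc_25_0 lc_f_rc_5_1 lc_f_Cert_tree lc_f_rc_25_0 lc_f_rc_25_0 lc_f_rc_5_1 lc_f_rc_20_1 lc_f_rc_31_1 lc_f_rc_23_3 lc_f_rc_25_0 lc_f_rc_16_3 lc_f_Cert_tree lc_f_rc_25_0 lc_f_Cert_tree lc_f_Cert_tree lc_f_rc_25_0 lc_f_rc_20_1 lc_f_Cert_tree lc_f_rc_25_0 lc_f_rc_26_0 lc_f_rc_25_0 lc_f_rc_29_4 lc_f_rc_11_3 lc_f_rc_16_1 lc_f_rc_16_3 lc_f_rc_29_4 lc_f_rc_11_1 lc_f_Cert_tree lc_f_rc_25_0 lc_f_rc_20_1 lc_f_rc_5_3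 lc_f_rc_29_2 lc_f_rc_26_6) (@D3.rec (fun _ => (Cert rels S Gen.f)) lc_f_rc_25_0 lc_f_rc_11_3 lc_f_rc_5_1 lc_f_rc_16_1 lc_f_rc_29_2 lc_f_rc_11_1 lc_f_rc_29_2 lc_f_rc_16_3 lc_f_rc_25_0 lc_f_rc_29_4 lc_f_rc_29_2 lc_f_rc_25_0 lc_f_rc_11_3 lc_f_rc_29_4 lc_f_rc_25_0 lc_f_Cert_tree lc_f_rc_25_0 lc_f_rc_11_3 lc_f_rc_5_1 lc_f_rc_25_0 lc_f_rc_25_0 lc_f_rc_11_3 lc_f_rc_5_1 lc_f_rc_29_2 lc_f_Cert_tree lc_f_rc_23_1 lc_f_rc_11_3 lc_f_rc_5_1 lc_f_rc_29_2 lc_f_rc_20_1 lc_f_rc_25_0 lc_f_rc_11_3 lc_f_rc_5_1 lc_f_rc_16_1 lc_f_rc_25_0 lc_f_rc_20_1 lc_f_rc_20_1 lc_f_rc_29_2 lc_f_rc_11_3 lc_f_Cert_tree) (@D3.rec (fun _ => (Cert rels S Gen.f)) lc_f_rc_11_1 lc_f_rc_5_1 lc_f_rc_29_2 lc_f_rc_11_3 lc_f_rc_11_3 lc_f_rc_25_0 lc_f_rc_26_2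 lc_f_rc_5_1 lc_f_rc_20_1 lc_f_rc_25_0 lc_f_rc_25_1 lc_f_rc_16_1 lc_f_rc_20_1 lc_f_Cert_tree lc_f_rc_29_4 lc_f_rc_5_1 lc_f_rc_23_1 lc_f_rc_29_4 lc_f_rc_26_4 lc_f_rc_5_3 lc_f_rc_29_2 lc_f_rc_25_0 lc_f_rc_20_1 lc_f_rc_25_0 lc_f_rc_25_0 lc_f_rc_29_4 lc_f_rc_25_0 lc_f_rc_25_0 lc_f_rc_11_1 lc_f_rc_20_3 lc_f_rc_29_2 lc_f_rc_26_6 lc_f_rc_30_11 lc_f_rc_26_2 lc_f_rc_5_1 lc_f_rc_29_2 lc_f_Cert_tree lc_f_rc_20_1 lc_f_rc_23_1 lc_f_rc_16_1) (@D3.rec (fun _ => (Cert rels S Gen.f)) lc_f_rc_5_1 lc_f_rc_26_6 lc_f_rc_31_7 lc_f_rc_25_0 lc_f_rc_29_2 lc_f_Cert_tree lc_f_rc_25_0 lc_f_Cert_tree lc_f_Cert_tree lc_f_rc_25_0 lc_f_rc_11_3 lc_f_rc_20_1 lc_f_rc_11_3 lc_f_rc_29_4 lc_f_rc_16_1 lc_f_rc_5_1 lc_f_rc_16_1 lc_f_Cert_tree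 lc_f_rc_25_0 lc_f_rc_11_1 lc_f_rc_25_0 lc_f_rc_29_2 lc_f_rc_25_0 lc_f_rc_16_1 lc_f_rc_20_3 lc_f_rc_25_1 lc_f_rc_20_1 lc_f_rc_29_2 lc_f_Cert_tree lc_f_rc_25_0 lc_f_rc_11_3 lc_f_rc_29_4 lc_f_rc_29_4 lc_f_rc_31_7 lc_f_rc_25_0 lc_f_rc_29_2 lc_f_rc_11_3 lc_f_Cert_tree lc_f_rc_11_3 lc_f_rc_25_0) (@D3.rec (fun _ => (Cert rels S Gen.f)) lc_f_Cert_tree lc_f_rc_5_3 lc_f_Cert_tree lc_f_rc_16_3 lc_f_rc_25_0 lc_f_rc_29_4 lc_f_Cert_tree lc_f_rc_5_3 lc_f_Cert_tree lc_f_rc_25_0 lc_f_rc_5_3 lc_f_rc_25_0 lc_f_rc_11_3 lc_f_rc_25_0 lc_f_rc_20_1 lc_f_rc_25_0 lc_f_rc_16_1 lc_f_rc_25_0 lc_f_rc_11_3 lc_f_rc_11_3 lc_f_rc_5_1 lc_f_rc_16_1 lc_f_rc_25_0 lc_f_rc_25_0 lc_f_rc_11_3 lc_f_rc_20_1 lc_f_rc_25_0 lc_f_rc_11_3 lc_f_rc_16_1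 lc_f_rc_29_2 lc_f_Cert_tree lc_f_Cert_tree lc_f_rc_31_4 lc_f_rc_11_3 lc_f_rc_20_1 lc_f_rc_5_3 lc_f_Cert_tree lc_f_rc_25_0 lc_f_rc_5_1 lc_f_rc_16_1) (@D3.rec (fun _ => (Cert rels S Gen.f)) lc_f_rc_23_1 lc_f_rc_26_6 lc_f_rc_25_0 lc_f_rc_16_1 lc_f_rc_11_3 lc_f_Cert_tree lc_f_rc_25_0 lc_f_rc_29_2 lc_f_rc_29_2 lc_f_rc_16_1 lc_f_rc_23_1 lc_f_rc_11_5 lc_f_rc_23_1 lc_f_rc_25_0 lc_f_rc_11_3 lc_f_Cert_tree lc_f_rc_25_0 lc_f_rc_26_2 lc_f_rc_25_0 lc_f_rc_5_3 lc_f_rc_25_0 lc_f_Cert_tree lc_f_Cert_tree lc_f_rc_25_0 lc_f_rc_20_1 lc_f_rc_5_1 lc_f_rc_16_1 lc_f_rc_29_2 lc_f_rc_5_1 lc_f_rc_29_2 lc_f_rc_29_4 lc_f_rc_5_3 lc_f_Cert_tree lc_f_rc_16_1 lc_f_Cert_tree lc_f_rc_20_3 lc_f_rc_25_0 lc_f_rc_25_0 lc_f_rc_16_1 lc_f_rc_29_2)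 (@D3.rec (fun _ => (Cert rels S Gen.f)) lc_f_Cert_tree lc_f_rc_25_0 lc_f_rc_5_1 lc_f_rc_20_3 lc_f_rc_5_1 lc_f_Cert_tree lc_f_rc_25_0 lc_f_rc_20_1 lc_f_rc_5_3 lc_f_rc_25_0 lc_f_rc_11_3 lc_f_rc_11_3 lc_f_rc_29_2 lc_f_rc_25_0 lc_f_rc_5_1 lc_f_rc_16_1 lc_f_rc_29_2 lc_f_rc_11_3 lc_f_rc_25_0 lc_f_rc_25_0 lc_f_rc_11_3 lc_f_rc_20_1 lc_f_rc_26_4 lc_f_rc_20_1 lc_f_rc_16_1 lc_f_rc_11_3 lc_f_rc_25_0 lc_f_rc_11_3 lc_f_rc_29_4 lc_f_rc_25_0 lc_f_rc_20_3 lc_f_rc_25_0 lc_f_rc_11_3 lc_f_rc_5_1 lc_f_rc_25_0 lc_f_rc_5_1 lc_f_rc_29_2 lc_f_Cert_tree lc_f_rc_20_1 lc_f_rc_11_3) (@D3.rec (fun _ => (Cert rels S Gen.f)) lc_f_rc_5_3 lc_f_Cert_tree lc_f_rc_25_0 lc_f_rc_5_1 lc_f_rc_5_1 lc_f_rc_20_1 lc_f_rc_29_2 lc_f_rc_25_0 lc_f_rc_11_3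 lc_f_rc_29_4 lc_f_rc_11_3 lc_f_rc_25_0 lc_f_rc_16_3 lc_f_rc_25_0 lc_f_rc_29_4 lc_f_rc_23_1 lc_f_rc_16_1 lc_f_rc_11_1 lc_f_rc_11_3 lc_f_rc_25_0 lc_f_rc_11_3 lc_f_rc_11_3 lc_f_rc_11_1 lc_f_rc_20_3 lc_f_rc_20_1 lc_f_rc_25_0 lc_f_rc_11_3 lc_f_rc_11_1 lc_f_rc_20_1 lc_f_rc_11_1 lc_f_rc_11_1 lc_f_rc_25_0 lc_f_rc_11_3 lc_f_rc_11_3 lc_f_rc_16_3 lc_f_rc_5_1 lc_f_rc_16_1 lc_f_rc_16_1 lc_f_rc_11_3 lc_f_rc_23_1) (@D3.rec (fun _ => (Cert rels S Gen.f)) lc_f_rc_11_1 lc_f_rc_20_1 lc_f_rc_5_3 lc_f_rc_11_3 lc_f_rc_11_1 lc_f_rc_23_1 lc_f_Cert_tree lc_f_rc_25_0 lc_f_rc_29_4 lc_f_rc_5_3 lc_f_rc_16_1 lc_f_rc_5_1 lc_f_rc_11_3 lc_f_rc_5_1 lc_f_rc_16_1 lc_f_rc_20_1 lc_f_rc_16_1 lc_f_rc_5_1 lc_f_rc_5_1 lc_f_rc_20_1 lc_f_rc_11_1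 lc_f_rc_25_0 lc_f_rc_25_0 lc_f_rc_23_1 lc_f_rc_25_0 lc_f_rc_11_3 lc_f_rc_25_0 lc_f_rc_29_4 lc_f_rc_16_1 lc_f_rc_29_4 lc_f_rc_29_2 lc_f_rc_29_2 lc_f_rc_20_1 lc_f_rc_11_1 lc_f_rc_16_1 lc_f_rc_29_2 lc_f_rc_31_4 lc_f_Cert_tree lc_f_rc_25_0 lc_f_rc_11_3) (@D3.rec (fun _ => (Cert rels S Gen.f)) lc_f_rc_25_0 lc_f_rc_11_3 lc_f_rc_29_2 lc_f_rc_16_1 lc_f_rc_29_2 lc_f_rc_25_0 lc_f_rc_20_1 lc_f_rc_20_3 lc_f_rc_16_1 lc_f_rc_20_1 lc_f_rc_20_1 lc_f_rc_16_1 lc_f_rc_23_1 lc_f_rc_11_1 lc_f_rc_25_0 lc_f_rc_26_2 lc_f_rc_20_1 lc_f_rc_11_3 lc_f_rc_23_3 lc_f_rc_5_1 lc_f_rc_29_4 lc_f_rc_29_4 lc_f_Cert_tree lc_f_rc_5_3 lc_f_rc_23_1 lc_f_rc_25_0 lc_f_rc_25_1 lc_f_Cert_tree lc_f_rc_5_3 lc_f_rc_25_0 lc_f_rc_26_2 lc_f_rc_16_3 lc_f_rc_31_10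 lc_f_rc_25_0 lc_f_rc_5_3 lc_f_rc_25_0 lc_f_rc_25_0 lc_f_rc_11_3 lc_f_rc_5_1 lc_f_rc_11_3) (@D3.rec (fun _ => (Cert rels S Gen.f)) lc_f_Cert_tree lc_f_rc_20_1 lc_f_rc_31_1 lc_f_rc_30_3 lc_f_rc_31_13 lc_f_rc_25_0 lc_f_rc_5_3 lc_f_rc_5_3 lc_f_Cert_tree lc_f_Cert_tree lc_f_rc_25_0 lc_f_rc_25_0 lc_f_rc_11_3 lc_f_rc_5_1 lc_f_rc_20_1 lc_f_rc_16_1 lc_f_rc_5_3 lc_f_rc_23_1 lc_f_rc_5_1 lc_f_rc_16_1 lc_f_rc_5_1 lc_f_rc_16_1 lc_f_rc_5_1 lc_f_rc_20_1 lc_f_rc_5_1 lc_f_rc_20_1 lc_f_rc_23_1 lc_f_Cert_tree lc_f_rc_25_0 lc_f_rc_11_3 lc_f_rc_5_1 lc_f_rc_16_1 lc_f_rc_11_3 lc_f_rc_25_0 lc_f_rc_11_3 lc_f_rc_5_1 lc_f_rc_29_2 lc_f_Cert_tree lc_f_Cert_tree lc_f_rc_25_0) (@D3.rec (fun _ => (Cert rels S Gen.f)) lc_f_Cert_tree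 lc_f_Cert_tree lc_f_rc_5_3 lc_f_Cert_tree lc_f_rc_25_0 lc_f_Cert_tree lc_f_rc_29_2 lc_f_rc_25_0 lc_f_rc_11_3 lc_f_rc_29_2 lc_f_rc_29_4 lc_f_rc_11_3 lc_f_rc_16_3 lc_f_rc_5_1 lc_f_rc_16_1 lc_f_rc_29_4 lc_f_rc_23_3 lc_f_rc_25_0 lc_f_rc_16_1 lc_f_rc_16_1 lc_f_rc_20_1 lc_f_rc_11_1 lc_f_rc_5_1 lc_f_rc_16_1 lc_f_rc_20_1 lc_f_rc_11_3 lc_f_rc_16_1 lc_f_rc_20_1 lc_f_rc_11_3 lc_f_rc_5_1 lc_f_rc_30_7 lc_f_rc_20_1 lc_f_rc_11_1 lc_f_rc_16_1 lc_f_rc_5_1 lc_f_rc_16_1 lc_f_rc_23_1 lc_f_rc_16_1 lc_f_rc_11_1 lc_f_rc_11_3)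
def ce_f_18 : D2 → D3 → (Cert rels S Gen.f) := @D2.rec (fun _ => D3 → (Cert rels S Gen.f)) (@D3.rec (fun _ => (Cert rels S Gen.f)) lc_f_rc_20_1 lc_f_rc_30_11 lc_f_rc_25_0 lc_f_Cert_tree lc_f_rc_5_1 lc_f_Cert_tree lc_f_rc_29_4 lc_f_rc_23_1 lc_f_rc_5_1 lc_f_Cert_tree lc_f_rc_20_1 lc_f_rc_30_7 lc_f_Cert_tree lc_f_rc_25_0 lc_f_rc_29_2 lc_f_rc_5_1 lc_f_rc_16_3 lc_f_rc_16_1 lc_f_Cert_tree lc_f_rc_29_2 lc_f_rc_25_0 lc_f_rc_25_1 lc_f_rc_5_1 lc_f_Cert_tree lc_f_rc_29_4 lc_f_rc_30_7 lc_f_rc_11_3 lc_f_rc_25_0 lc_f_rc_11_5 lc_f_rc_5_3 lc_f_Cert_tree lc_f_Cert_tree lc_f_rc_25_0 lc_f_rc_25_0 lc_f_rc_20_1 lc_f_rc_5_1 lc_f_rc_29_2 lc_f_rc_16_1 lc_f_rc_25_0 lc_f_rc_29_2) (@D3.rec (fun _ => (Cert rels S Gen.f)) lc_f_rc_11_3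 lc_f_rc_29_2 lc_f_rc_16_3 lc_f_rc_25_0 lc_f_Cert_tree lc_f_rc_11_3 lc_f_rc_25_0 lc_f_rc_25_0 lc_f_rc_25_0 lc_f_rc_26_2 lc_f_rc_5_1 lc_f_Cert_tree lc_f_Cert_tree lc_f_rc_25_0 lc_f_Cert_tree lc_f_rc_25_0 lc_f_rc_11_3 lc_f_rc_29_4 lc_f_rc_11_3 lc_f_rc_29_4 lc_f_rc_11_5 lc_f_rc_16_1 lc_f_rc_5_1 lc_f_Cert_tree lc_f_Cert_tree lc_f_Cert_tree lc_f_Cert_tree lc_f_Cert_tree lc_f_rc_25_0 lc_f_rc_5_1 lc_f_rc_29_2 lc_f_rc_16_3 lc_f_rc_11_3 lc_f_rc_25_0 lc_f_rc_25_1 lc_f_rc_25_0 lc_f_rc_20_1 lc_f_rc_16_1 lc_f_rc_25_0 lc_f_rc_29_4) (@D3.rec (fun _ => (Cert rels S Gen.f)) lc_f_rc_5_1 lc_f_Cert_tree lc_f_rc_16_1 lc_f_rc_29_2 lc_f_rc_29_2 lc_f_rc_31_10 lc_f_rc_5_3 lc_f_rc_25_0 lc_f_Cert_tree lc_f_rc_25_0 lc_f_rc_23_1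 lc_f_rc_11_3 lc_f_rc_25_0 lc_f_Cert_tree lc_f_rc_25_0 lc_f_Cert_tree lc_f_rc_5_1 lc_f_rc_5_3 lc_f_rc_25_0 lc_f_rc_29_2 lc_f_rc_11_3 lc_f_rc_5_3 lc_f_rc_25_0 lc_f_Cert_tree lc_f_rc_25_0 lc_f_rc_31_13 lc_f_Cert_tree lc_f_rc_16_1 lc_f_rc_25_0 lc_f_Cert_tree lc_f_rc_25_0 lc_f_rc_5_3 lc_f_Cert_tree lc_f_rc_25_0 lc_f_rc_11_3 lc_f_Cert_tree lc_f_rc_11_3 lc_f_rc_23_1 lc_f_rc_23_3 lc_f_rc_26_6) (@D3.rec (fun _ => (Cert rels S Gen.f)) lc_f_rc_26_6 lc_f_rc_5_1 lc_f_rc_16_3 lc_f_Cert_tree lc_f_rc_25_0 lc_f_rc_11_3 lc_f_rc_29_2 lc_f_Cert_tree lc_f_rc_25_0 lc_f_rc_25_0 lc_f_rc_11_3 lc_f_rc_20_3 lc_f_Cert_tree lc_f_rc_25_0 lc_f_rc_20_1 lc_f_rc_20_3 lc_f_rc_5_3 lc_f_rc_5_1 lc_f_rc_5_3 lc_f_rc_29_2 lc_f_rc_25_0 lc_f_rc_11_3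 lc_f_rc_11_3 lc_f_rc_25_0 lc_f_rc_16_1 lc_f_rc_29_4 lc_f_Cert_tree lc_f_rc_25_0 lc_f_rc_16_1 lc_f_rc_25_0 lc_f_rc_11_3 lc_f_rc_25_0 lc_f_Cert_tree lc_f_rc_25_0 lc_f_rc_16_1 lc_f_rc_11_3 lc_f_rc_30_7 lc_f_rc_5_1 lc_f_rc_25_0 lc_f_rc_29_4) (@D3.rec (fun _ => (Cert rels S Gen.f)) lc_f_rc_25_0 lc_f_rc_11_3 lc_f_rc_25_0 lc_f_rc_11_3 lc_f_rc_5_1 lc_f_rc_5_1 lc_f_rc_16_1 lc_f_rc_29_2 lc_f_rc_20_3 lc_f_rc_16_1 lc_f_rc_29_2 lc_f_rc_25_1 lc_f_rc_20_1 lc_f_rc_5_1 lc_f_rc_16_1 lc_f_rc_5_1 lc_f_rc_5_3 lc_f_rc_5_3 lc_f_rc_23_1 lc_f_rc_20_1 lc_f_rc_11_1 lc_f_rc_20_1 lc_f_rc_16_1 lc_f_rc_16_1 lc_f_rc_29_2 lc_f_rc_29_2 lc_f_rc_16_3 lc_f_rc_31_1 lc_f_rc_25_0 lc_f_rc_31_4 lc_f_Cert_tree lc_f_rc_16_1 lc_f_rc_11_3 lc_f_rc_23_1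 lc_f_rc_20_1 lc_f_rc_16_1 lc_f_rc_20_3 lc_f_rc_23_1 lc_f_rc_5_1 lc_f_rc_25_1) (@D3.rec (fun _ => (Cert rels S Gen.f)) lc_f_rc_25_0 lc_f_rc_5_3 lc_f_rc_25_0 lc_f_rc_29_2 lc_f_rc_20_1 lc_f_rc_29_4 lc_f_rc_25_0 lc_f_rc_31_13 lc_f_rc_16_1 lc_f_rc_16_1 lc_f_Cert_tree lc_f_Cert_tree lc_f_rc_5_3 lc_f_rc_25_0 lc_f_rc_25_0 lc_f_rc_5_3 lc_f_Cert_tree lc_f_rc_29_2 lc_f_Cert_tree lc_f_rc_25_0 lc_f_rc_5_3 lc_f_rc_20_3 lc_f_rc_25_0 lc_f_rc_23_3 lc_f_rc_16_3 lc_f_rc_25_0 lc_f_rc_5_3 lc_f_rc_20_1 lc_f_rc_16_1 lc_f_rc_30_7 lc_f_rc_5_1 lc_f_Cert_tree lc_f_rc_26_2 lc_f_rc_16_3 lc_f_rc_29_4 lc_f_rc_25_0 lc_f_rc_11_3 lc_f_rc_20_1 lc_f_rc_29_2 lc_f_rc_16_1) (@D3.rec (fun _ => (Cert rels S Gen.f)) lc_f_rc_29_2 lc_f_rc_16_1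 lc_f_rc_20_1 lc_f_Cert_tree lc_f_Cert_tree lc_f_rc_25_0 lc_f_Cert_tree lc_f_Cert_tree lc_f_rc_25_0 lc_f_rc_11_3 lc_f_rc_11_1 lc_f_rc_25_0 lc_f_rc_11_1 lc_f_rc_5_1 lc_f_rc_25_0 lc_f_rc_25_0 lc_f_rc_11_3 lc_f_rc_5_1 lc_f_rc_29_2 lc_f_rc_25_1 lc_f_rc_16_1 lc_f_rc_16_1 lc_f_rc_20_3 lc_f_rc_25_0 lc_f_rc_11_5 lc_f_rc_25_0 lc_f_rc_11_1 lc_f_rc_20_1 lc_f_rc_11_5 lc_f_rc_11_1 lc_f_Cert_tree lc_f_rc_25_0 lc_f_rc_25_0 lc_f_rc_11_3 lc_f_rc_11_3 lc_f_rc_20_1 lc_f_rc_16_1 lc_f_rc_16_1 lc_f_rc_16_1 lc_f_rc_11_1) (@D3.rec (fun _ => (Cert rels S Gen.f)) lc_f_rc_5_3 lc_f_Cert_tree lc_f_Cert_tree lc_f_rc_25_0 lc_f_rc_5_1 lc_f_rc_16_3 lc_f_rc_23_3 lc_f_rc_25_0 lc_f_rc_11_3 lc_f_rc_11_3 lc_f_Cert_tree lc_f_rc_25_0 lc_f_rc_16_3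 lc_f_Cert_tree lc_f_rc_25_0 lc_f_rc_5_1 lc_f_rc_16_3 lc_f_rc_26_6 lc_f_Cert_tree lc_f_rc_25_0 lc_f_rc_20_1 lc_f_rc_11_3 lc_f_rc_5_1 lc_f_rc_16_1 lc_f_rc_11_3 lc_f_rc_5_1 lc_f_rc_11_3 lc_f_rc_11_3 lc_f_rc_5_1 lc_f_rc_29_4 lc_f_Cert_tree lc_f_rc_16_1 lc_f_rc_25_0 lc_f_rc_29_2 lc_f_rc_20_1 lc_f_rc_11_3 lc_f_rc_11_1 lc_f_rc_29_2 lc_f_rc_20_1 lc_f_rc_11_1) (@D3.rec (fun _ => (Cert rels S Gen.f)) lc_f_rc_16_3 lc_f_Cert_tree lc_f_rc_25_0 lc_f_rc_26_2 lc_f_rc_5_3 lc_f_Cert_tree lc_f_rc_25_0 lc_f_Cert_tree lc_f_rc_25_0 lc_f_Cert_tree lc_f_rc_11_3 lc_f_rc_26_6 lc_f_rc_25_0 lc_f_rc_16_1 lc_f_rc_31_4 lc_f_rc_11_3 lc_f_rc_11_3 lc_f_rc_30_3 lc_f_rc_5_1 lc_f_rc_31_4 lc_f_rc_29_2 lc_f_rc_29_4 lc_f_rc_20_1 lc_f_rc_23_1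 lc_f_rc_11_5 lc_f_rc_5_1 lc_f_rc_11_1 lc_f_Cert_tree lc_f_rc_25_0 lc_f_Cert_tree lc_f_rc_25_0 lc_f_rc_29_2 lc_f_rc_11_3 lc_f_Cert_tree lc_f_rc_25_0 lc_f_rc_11_3 lc_f_rc_5_1 lc_f_rc_5_1 lc_f_rc_16_1 lc_f_rc_31_10) (@D3.rec (fun _ => (Cert rels S Gen.f)) lc_f_rc_11_3 lc_f_rc_16_1 lc_f_rc_29_2 lc_f_rc_11_3 lc_f_rc_5_1 lc_f_rc_29_4 lc_f_Cert_tree lc_f_rc_5_1 lc_f_rc_20_1 lc_f_rc_5_3 lc_f_rc_23_3 lc_f_rc_11_3 lc_f_rc_5_1 lc_f_rc_16_1 lc_f_rc_23_1 lc_f_rc_20_1 lc_f_rc_11_3 lc_f_rc_20_1 lc_f_rc_20_1 lc_f_rc_5_1 lc_f_rc_16_1 lc_f_rc_16_1 lc_f_rc_25_1 lc_f_rc_11_3 lc_f_rc_26_4 lc_f_rc_29_2 lc_f_rc_20_3 lc_f_rc_20_3 lc_f_rc_11_1 lc_f_rc_11_3 lc_f_rc_20_1 lc_f_Cert_tree lc_f_rc_20_1 lc_f_rc_5_3 lc_f_rc_20_1 lc_f_rc_5_3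 lc_f_rc_5_3 lc_f_rc_25_0 lc_f_rc_16_1 lc_f_rc_5_1) (@D3.rec (fun _ => (Cert rels S Gen.f)) lc_f_rc_30_3 lc_f_rc_20_1 lc_f_rc_26_6 lc_f_rc_20_1 lc_f_rc_20_1 lc_f_rc_23_1 lc_f_rc_20_1 lc_f_Cert_tree lc_f_rc_20_1 lc_f_rc_16_1 lc_f_rc_16_1 lc_f_rc_29_2 lc_f_rc_29_4 lc_f_rc_29_4 lc_f_rc_20_1 lc_f_rc_25_0 lc_f_Cert_tree lc_f_Cert_tree lc_f_rc_25_0 lc_f_rc_5_3 lc_f_rc_29_2 lc_f_Cert_tree lc_f_rc_25_0 lc_f_rc_25_0 lc_f_rc_30_7 lc_f_rc_5_1 lc_f_rc_25_0 lc_f_rc_5_3 lc_f_rc_29_4 lc_f_rc_29_2 lc_f_rc_29_4 lc_f_rc_16_3 lc_f_Cert_tree lc_f_rc_25_0 lc_f_rc_25_0 lc_f_rc_25_0 lc_f_rc_5_1 lc_f_rc_11_3 lc_f_rc_25_1 lc_f_rc_5_1) (@D3.rec (fun _ => (Cert rels S Gen.f)) lc_f_rc_16_1 lc_f_rc_11_3 lc_f_rc_5_1 lc_f_rc_25_1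 lc_f_rc_11_3 lc_f_rc_26_2 lc_f_rc_25_0 lc_f_rc_25_1 lc_f_rc_5_1 lc_f_rc_29_4 lc_f_rc_25_0 lc_f_rc_5_1 lc_f_rc_25_0 lc_f_rc_25_0 lc_f_rc_5_1 lc_f_rc_20_1 lc_f_rc_11_1 lc_f_rc_5_3 lc_f_Cert_tree lc_f_rc_25_0 lc_f_rc_26_2 lc_f_rc_5_1 lc_f_Cert_tree lc_f_rc_25_0 lc_f_rc_16_3 lc_f_rc_25_0 lc_f_Cert_tree lc_f_rc_26_6 lc_f_rc_20_1 lc_f_rc_25_0 lc_f_rc_31_4 lc_f_rc_5_1 lc_f_rc_11_3 lc_f_Cert_tree lc_f_Cert_tree lc_f_rc_11_3 lc_f_rc_25_0 lc_f_Cert_tree lc_f_rc_25_0 lc_f_Cert_tree) (@D3.rec (fun _ => (Cert rels S Gen.f)) lc_f_rc_25_0 lc_f_rc_16_1 lc_f_rc_23_1 lc_f_rc_16_3 lc_f_rc_30_15 lc_f_rc_23_1 lc_f_rc_25_0 lc_f_rc_11_1 lc_f_Cert_tree lc_f_Cert_tree lc_f_rc_25_0 lc_f_rc_5_3 lc_f_rc_11_1 lc_f_rc_25_0 lc_f_rc_16_1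 lc_f_rc_5_3 lc_f_rc_25_0 lc_f_rc_11_3 lc_f_rc_20_1 lc_f_rc_16_1 lc_f_rc_11_3 lc_f_rc_30_15 lc_f_rc_20_1 lc_f_rc_16_1 lc_f_rc_29_4 lc_f_rc_5_3 lc_f_rc_26_6 lc_f_rc_25_0 lc_f_rc_29_4 lc_f_rc_20_1 lc_f_rc_31_7 lc_f_rc_25_0 lc_f_rc_26_2 lc_f_Cert_tree lc_f_rc_25_0 lc_f_rc_25_0 lc_f_rc_25_0 lc_f_rc_29_4 lc_f_rc_5_1 lc_f_rc_5_3) (@D3.rec (fun _ => (Cert rels S Gen.f)) lc_f_rc_11_3 lc_f_rc_20_1 lc_f_rc_11_5 lc_f_rc_11_3 lc_f_rc_5_1 lc_f_rc_16_1 lc_f_rc_5_3 lc_f_rc_5_3 lc_f_rc_29_2 lc_f_rc_29_4 lc_f_Cert_tree lc_f_rc_25_0 lc_f_rc_25_0 lc_f_rc_11_3 lc_f_rc_5_1 lc_f_rc_16_1 lc_f_rc_23_1 lc_f_rc_5_3 lc_f_rc_20_3 lc_f_rc_25_0 lc_f_rc_11_1 lc_f_rc_11_3 lc_f_rc_16_1 lc_f_rc_20_1 lc_f_rc_20_1 lc_f_rc_23_1 lc_f_rc_16_1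 lc_f_rc_23_1 lc_f_rc_5_3 lc_f_rc_16_3 lc_f_rc_25_0 lc_f_rc_16_1 lc_f_rc_20_1 lc_f_rc_16_1 lc_f_Cert_tree lc_f_rc_29_4 lc_f_rc_25_0 lc_f_rc_26_2 lc_f_rc_26_0 lc_f_rc_16_3) (@D3.rec (fun _ => (Cert rels S Gen.f)) lc_f_rc_16_1 lc_f_rc_25_0 lc_f_rc_5_1 lc_f_rc_20_3 lc_f_Cert_tree lc_f_rc_25_0 lc_f_rc_25_0 lc_f_rc_20_1 lc_f_rc_11_1 lc_f_rc_5_1 lc_f_rc_20_3 lc_f_rc_25_0 lc_f_rc_11_1 lc_f_rc_16_1 lc_f_rc_25_0 lc_f_rc_20_3 lc_f_rc_25_0 lc_f_rc_16_3 lc_f_rc_20_1 lc_f_rc_5_3 lc_f_rc_29_4 lc_f_rc_5_3 lc_f_rc_5_3 lc_f_rc_25_0 lc_f_rc_5_1 lc_f_rc_16_1 lc_f_rc_25_0 lc_f_rc_5_1 lc_f_rc_11_3 lc_f_rc_5_1 lc_f_rc_20_1 lc_f_rc_5_1 lc_f_rc_16_1 lc_f_Cert_tree lc_f_rc_25_0 lc_f_rc_29_4 lc_f_rc_20_1 lc_f_rc_5_3 lc_f_rc_16_1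 lc_f_rc_20_1) (@D3.rec (fun _ => (Cert rels S Gen.f)) lc_f_rc_16_1 lc_f_rc_20_1 lc_f_rc_5_3 lc_f_Cert_tree lc_f_rc_20_1 lc_f_rc_25_0 lc_f_rc_5_3 lc_f_rc_29_2 lc_f_rc_29_2 lc_f_Cert_tree lc_f_rc_16_1 lc_f_rc_25_0 lc_f_rc_20_1 lc_f_rc_5_3 lc_f_rc_11_1 lc_f_rc_29_2 lc_f_rc_25_0 lc_f_rc_11_5 lc_f_rc_25_0 lc_f_rc_31_10 lc_f_rc_29_4 lc_f_rc_5_3 lc_f_Cert_tree lc_f_rc_25_0 lc_f_rc_29_2 lc_f_rc_29_2 lc_f_rc_23_1 lc_f_Cert_tree lc_f_rc_16_1 lc_f_rc_25_0 lc_f_rc_29_2 lc_f_rc_11_3 lc_f_rc_25_0 lc_f_rc_25_0 lc_f_rc_20_1 lc_f_Cert_tree lc_f_rc_25_0 lc_f_rc_16_1 lc_f_rc_5_1 lc_f_rc_23_1) (@D3.rec (fun _ => (Cert rels S Gen.f)) lc_f_rc_29_2 lc_f_rc_29_4 lc_f_rc_5_1 lc_f_rc_29_4 lc_f_rc_31_7 lc_f_rc_5_1 lc_f_rc_29_2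 lc_f_rc_20_1 lc_f_rc_16_3 lc_f_rc_25_0 lc_f_rc_25_0 lc_f_rc_16_1 lc_f_rc_11_3 lc_f_rc_25_0 lc_f_rc_16_1 lc_f_rc_20_3 lc_f_rc_23_1 lc_f_rc_11_3 lc_f_rc_29_2 lc_f_rc_5_3 lc_f_rc_29_2 lc_f_rc_11_3 lc_f_rc_31_7 lc_f_Cert_tree lc_f_rc_25_0 lc_f_rc_29_2 lc_f_rc_11_3 lc_f_rc_29_4 lc_f_rc_29_2 lc_f_rc_23_1 lc_f_rc_11_1 lc_f_rc_11_3 lc_f_rc_26_6 lc_f_rc_16_1 lc_f_rc_23_1 lc_f_rc_11_1 lc_f_rc_29_2 lc_f_rc_25_0 lc_f_rc_26_2 lc_f_rc_5_3) (@D3.rec (fun _ => (Cert rels S Gen.f)) lc_f_Cert_tree lc_f_Cert_tree lc_f_rc_25_0 lc_f_rc_29_2 lc_f_Cert_tree lc_f_rc_25_0 lc_f_Cert_tree lc_f_rc_11_3 lc_f_rc_16_3 lc_f_rc_25_0 lc_f_rc_26_6 lc_f_rc_25_0 lc_f_rc_16_1 lc_f_rc_31_4 lc_f_rc_11_1 lc_f_Cert_tree lc_f_rc_25_0 lc_f_Cert_tree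 lc_f_rc_25_0 lc_f_rc_11_3 lc_f_rc_25_0 lc_f_rc_31_10 lc_f_Cert_tree lc_f_rc_25_0 lc_f_rc_11_1 lc_f_rc_16_1 lc_f_rc_30_11 lc_f_Cert_tree lc_f_rc_29_2 lc_f_rc_25_0 lc_f_rc_20_1 lc_f_rc_25_0 lc_f_rc_26_2 lc_f_rc_29_2 lc_f_rc_16_1 lc_f_Cert_tree lc_f_rc_25_0 lc_f_rc_20_1 lc_f_rc_5_1 lc_f_rc_25_0) (@D3.rec (fun _ => (Cert rels S Gen.f)) lc_f_Cert_tree lc_f_rc_26_6 lc_f_rc_25_0 lc_f_rc_29_2 lc_f_rc_11_3 lc_f_rc_29_4 lc_f_rc_25_0 lc_f_rc_26_2 lc_f_Cert_tree lc_f_rc_25_0 lc_f_rc_16_1 lc_f_rc_16_1 lc_f_rc_25_0 lc_f_rc_11_3 lc_f_rc_11_1 lc_f_Cert_tree lc_f_rc_16_3 lc_f_rc_25_0 lc_f_Cert_tree lc_f_rc_25_0 lc_f_Cert_tree lc_f_rc_25_0 lc_f_rc_29_4 lc_f_rc_25_0 lc_f_rc_29_4 lc_f_rc_5_1 lc_f_rc_16_1 lc_f_rc_5_1 lc_f_Cert_tree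 lc_f_rc_26_2 lc_f_rc_26_2 lc_f_rc_25_0 lc_f_rc_11_5 lc_f_rc_25_0 lc_f_rc_11_1 lc_f_rc_11_1 lc_f_rc_11_1 lc_f_rc_26_6 lc_f_rc_11_3 lc_f_rc_5_1) (@D3.rec (fun _ => (Cert rels S Gen.f)) lc_f_rc_11_1 lc_f_rc_16_1 lc_f_rc_5_1 lc_f_rc_20_1 lc_f_rc_16_1 lc_f_rc_16_1 lc_f_rc_23_1 lc_f_rc_26_6 lc_f_rc_30_11 lc_f_rc_5_3 lc_f_rc_5_1 lc_f_rc_20_1 lc_f_rc_16_1 lc_f_rc_5_1 lc_f_rc_20_1 lc_f_rc_5_1 lc_f_rc_20_1 lc_f_rc_5_1 lc_f_rc_16_1 lc_f_rc_23_1 lc_f_rc_11_1 lc_f_rc_5_1 lc_f_rc_16_1 lc_f_rc_20_1 lc_f_rc_31_7 lc_f_rc_11_3 lc_f_rc_5_1 lc_f_rc_16_1 lc_f_rc_23_1 lc_f_rc_20_1 lc_f_rc_20_1 lc_f_rc_11_3 lc_f_rc_16_1 lc_f_rc_5_3 lc_f_rc_23_1 lc_f_Cert_tree lc_f_rc_16_1 lc_f_rc_30_15 lc_f_rc_23_1 lc_f_rc_29_4) (@D3.rec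 (fun _ => (Cert rels S Gen.f)) lc_f_rc_29_4 lc_f_rc_11_1 lc_f_rc_11_3 lc_f_rc_20_1 lc_f_rc_5_3 lc_f_rc_20_1 lc_f_rc_5_3 lc_f_Cert_tree lc_f_rc_25_0 lc_f_rc_11_3 lc_f_rc_26_4 lc_f_rc_23_3 lc_f_rc_5_1 lc_f_rc_26_6 lc_f_rc_25_0 lc_f_rc_16_3 lc_f_rc_25_0 lc_f_rc_16_1 lc_f_rc_20_1 lc_f_rc_29_2 lc_f_rc_16_1 lc_f_rc_29_4 lc_f_rc_25_0 lc_f_rc_11_3 lc_f_rc_5_3 lc_f_rc_29_2 lc_f_rc_5_1 lc_f_rc_16_1 lc_f_rc_20_1 lc_f_rc_5_3 lc_f_rc_5_3 lc_f_rc_25_0 lc_f_rc_29_2 lc_f_rc_11_3 lc_f_rc_25_0 lc_f_rc_20_3 lc_f_rc_11_1 lc_f_rc_16_1 lc_f_rc_11_3 lc_f_rc_25_0) (@D3.rec (fun _ => (Cert rels S Gen.f)) lc_f_rc_25_0 lc_f_Cert_tree lc_f_rc_29_2 lc_f_rc_25_0 lc_f_rc_20_1 lc_f_Cert_tree lc_f_rc_25_0 lc_f_rc_26_6 lc_f_rc_25_0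 lc_f_rc_26_6 lc_f_rc_23_1 lc_f_rc_16_1 lc_f_rc_20_1 lc_f_rc_30_15 lc_f_rc_26_4 lc_f_rc_25_0 lc_f_Cert_tree lc_f_rc_23_3 lc_f_rc_25_0 lc_f_rc_25_1 lc_f_Cert_tree lc_f_rc_25_0 lc_f_rc_16_1 lc_f_rc_25_0 lc_f_rc_29_4 lc_f_rc_23_1 lc_f_rc_25_0 lc_f_rc_11_3 lc_f_rc_29_2 lc_f_rc_25_0 lc_f_rc_5_1 lc_f_rc_20_1 lc_f_rc_29_2 lc_f_rc_5_1 lc_f_rc_5_1 lc_f_rc_25_0 lc_f_rc_31_10 lc_f_rc_20_1 lc_f_rc_25_0 lc_f_rc_11_3) (@D3.rec (fun _ => (Cert rels S Gen.f)) lc_f_rc_29_4 lc_f_rc_29_2 lc_f_rc_25_0 lc_f_rc_25_0 lc_f_rc_26_2 lc_f_rc_5_1 lc_f_rc_30_7 lc_f_rc_11_1 lc_f_rc_25_0 lc_f_Cert_tree lc_f_rc_25_0 lc_f_rc_5_3 lc_f_rc_16_1 lc_f_rc_29_2 lc_f_rc_11_1 lc_f_rc_26_6 lc_f_rc_25_0 lc_f_Cert_tree lc_f_rc_25_0 lc_f_rc_16_1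 lc_f_rc_30_11 lc_f_rc_11_3 lc_f_rc_20_1 lc_f_rc_25_0 lc_f_rc_25_0 lc_f_rc_5_1 lc_f_rc_5_1 lc_f_rc_5_1 lc_f_rc_20_1 lc_f_rc_16_1 lc_f_rc_29_2 lc_f_Cert_tree lc_f_rc_25_0 lc_f_rc_26_2 lc_f_rc_25_0 lc_f_rc_11_1 lc_f_Cert_tree lc_f_rc_25_0 lc_f_rc_16_3 lc_f_Cert_tree) (@D3.rec (fun _ => (Cert rels S Gen.f)) lc_f_rc_25_0 lc_f_rc_20_3 lc_f_rc_26_6 lc_f_rc_25_0 lc_f_rc_25_0 lc_f_rc_5_1 lc_f_rc_11_1 lc_f_rc_25_0 lc_f_rc_16_1 lc_f_rc_26_2 lc_f_rc_5_1 lc_f_rc_16_1 lc_f_rc_26_6 lc_f_rc_16_3 lc_f_rc_11_3 lc_f_rc_20_1 lc_f_rc_16_1 lc_f_rc_29_2 lc_f_rc_29_2 lc_f_rc_29_2 lc_f_rc_20_1 lc_f_Cert_tree lc_f_rc_25_0 lc_f_rc_29_2 lc_f_rc_25_0 lc_f_rc_25_0 lc_f_rc_25_0 lc_f_rc_5_3 lc_f_rc_11_5 lc_f_rc_11_3 lc_f_Cert_tree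 lc_f_rc_16_1 lc_f_rc_25_0 lc_f_rc_29_2 lc_f_Cert_tree lc_f_rc_20_3 lc_f_Cert_tree lc_f_rc_25_0 lc_f_Cert_tree lc_f_rc_20_3) (@D3.rec (fun _ => (Cert rels S Gen.f)) lc_f_rc_25_0 lc_f_rc_16_1 lc_f_rc_29_4 lc_f_rc_25_0 lc_f_rc_11_1 lc_f_rc_25_0 lc_f_rc_29_2 lc_f_rc_25_0 lc_f_Cert_tree lc_f_rc_25_0 lc_f_rc_25_0 lc_f_Cert_tree lc_f_rc_5_1 lc_f_rc_25_0 lc_f_rc_29_2 lc_f_rc_20_1 lc_f_rc_11_3 lc_f_rc_29_4 lc_f_rc_25_0 lc_f_Cert_tree lc_f_rc_5_3 lc_f_Cert_tree lc_f_rc_25_0 lc_f_rc_29_2 lc_f_rc_23_3 lc_f_rc_25_0 lc_f_rc_29_2 lc_f_rc_16_1 lc_f_rc_25_0 lc_f_rc_5_3 lc_f_rc_11_3 lc_f_Cert_tree lc_f_rc_5_1 lc_f_rc_16_1 lc_f_rc_29_4 lc_f_rc_20_1 lc_f_rc_11_1 lc_f_rc_5_1 lc_f_rc_25_0 lc_f_rc_26_2) (@D3.rec (fun _ =>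 (Cert rels S Gen.f)) lc_f_rc_11_1 lc_f_rc_25_0 lc_f_rc_29_2 lc_f_rc_29_4 lc_f_rc_11_5 lc_f_rc_25_0 lc_f_rc_20_3 lc_f_rc_5_1 lc_f_rc_11_1 lc_f_rc_25_0 lc_f_Cert_tree lc_f_rc_25_0 lc_f_rc_29_4 lc_f_rc_11_3 lc_f_rc_11_3 lc_f_rc_25_0 lc_f_rc_5_1 lc_f_rc_16_1 lc_f_rc_23_3 lc_f_rc_5_1 lc_f_rc_20_1 lc_f_rc_29_4 lc_f_rc_25_0 lc_f_rc_26_6 lc_f_rc_26_6 lc_f_rc_31_7 lc_f_rc_25_0 lc_f_rc_23_3 lc_f_rc_16_1 lc_f_rc_25_0 lc_f_rc_31_4 lc_f_rc_25_0 lc_f_rc_23_3 lc_f_rc_11_3 lc_f_rc_5_3 lc_f_rc_25_0 lc_f_rc_5_1 lc_f_rc_16_1 lc_f_rc_31_7 lc_f_rc_23_1)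
def ce_f_19 : D2 → D3 → (Cert rels S Gen.f) := @D2.rec (fun _ => D3 → (Cert rels S Gen.f)) (@D3.rec (fun _ => (Cert rels S Gen.f)) lc_f_rc_29_2 lc_f_rc_5_1 lc_f_rc_25_0 lc_f_rc_31_10 lc_f_rc_20_3 lc_f_rc_16_1 lc_f_rc_25_0 lc_f_rc_29_2 lc_f_rc_29_2 lc_f_rc_11_1 lc_f_rc_11_1 lc_f_rc_11_3 lc_f_rc_25_0 lc_f_Cert_tree lc_f_rc_25_0 lc_f_rc_5_3 lc_f_rc_29_2 lc_f_rc_25_0 lc_f_Cert_tree lc_f_rc_25_0 lc_f_rc_29_2 lc_f_rc_25_0 lc_f_Cert_tree lc_f_rc_25_0 lc_f_rc_25_0 lc_f_rc_20_1 lc_f_rc_11_1 lc_f_rc_25_0 lc_f_rc_29_2 lc_f_rc_25_0 lc_f_rc_26_6 lc_f_rc_31_7 lc_f_rc_25_0 lc_f_Cert_tree lc_f_Cert_tree lc_f_Cert_tree lc_f_rc_25_0 lc_f_rc_11_3 lc_f_Cert_tree lc_f_rc_25_0) (@D3.rec (fun _ => (Cert rels S Gen.f)) lc_f_rc_29_2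 lc_f_rc_26_2 lc_f_rc_25_0 lc_f_rc_5_3 lc_f_rc_11_3 lc_f_rc_20_1 lc_f_rc_23_1 lc_f_rc_5_1 lc_f_rc_29_4 lc_f_rc_26_2 lc_f_rc_25_1 lc_f_rc_5_3 lc_f_rc_25_0 lc_f_rc_29_2 lc_f_rc_29_2 lc_f_rc_25_0 lc_f_rc_26_6 lc_f_rc_11_3 lc_f_rc_29_2 lc_f_rc_25_0 lc_f_rc_25_0 lc_f_rc_11_3 lc_f_rc_5_1 lc_f_rc_25_0 lc_f_rc_29_4 lc_f_rc_20_1 lc_f_rc_11_3 lc_f_rc_20_1 lc_f_rc_11_3 lc_f_rc_5_3 lc_f_rc_20_1 lc_f_rc_25_0 lc_f_rc_31_7 lc_f_rc_16_1 lc_f_Cert_tree lc_f_rc_25_0 lc_f_rc_25_0 lc_f_Cert_tree lc_f_rc_11_3 lc_f_rc_20_1) (@D3.rec (fun _ => (Cert rels S Gen.f)) lc_f_rc_25_0 lc_f_rc_29_2 lc_f_rc_5_1 lc_f_rc_31_10 lc_f_rc_29_4 lc_f_rc_25_0 lc_f_rc_31_7 lc_f_rc_11_3 lc_f_rc_5_3 lc_f_Cert_tree lc_f_rc_25_0 lc_f_rc_31_4 lc_f_rc_20_1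 lc_f_rc_25_0 lc_f_rc_11_1 lc_f_rc_25_0 lc_f_rc_29_2 lc_f_rc_25_0 lc_f_rc_25_0 lc_f_rc_29_2 lc_f_rc_25_0 lc_f_rc_26_2 lc_f_rc_11_3 lc_f_Cert_tree lc_f_Cert_tree lc_f_rc_25_0 lc_f_rc_29_4 lc_f_rc_25_0 lc_f_rc_29_4 lc_f_rc_26_6 lc_f_rc_25_0 lc_f_rc_16_1 lc_f_rc_29_4 lc_f_Cert_tree lc_f_rc_25_0 lc_f_rc_26_2 lc_f_rc_25_0 lc_f_rc_25_0 lc_f_rc_25_0 lc_f_rc_26_2) (@D3.rec (fun _ => (Cert rels S Gen.f)) lc_f_rc_11_3 lc_f_rc_11_3 lc_f_Cert_tree lc_f_rc_25_0 lc_f_rc_29_4 lc_f_rc_25_0 lc_f_Cert_tree lc_f_rc_26_6 lc_f_rc_25_0 lc_f_rc_11_3 lc_f_rc_25_0 lc_f_rc_29_2 lc_f_rc_25_0 lc_f_rc_29_2 lc_f_rc_25_0 lc_f_rc_11_3 lc_f_rc_25_0 lc_f_rc_11_3 lc_f_rc_5_1 lc_f_rc_11_3 lc_f_rc_5_1 lc_f_rc_11_1 lc_f_rc_20_1 lc_f_rc_20_1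 lc_f_rc_5_1 lc_f_rc_20_3 lc_f_rc_16_1 lc_f_rc_23_1 lc_f_rc_5_1 lc_f_rc_23_1 lc_f_rc_5_1 lc_f_rc_5_3 lc_f_rc_5_1 lc_f_Cert_tree lc_f_rc_11_3 lc_f_rc_25_0 lc_f_rc_25_0 lc_f_rc_11_3 lc_f_rc_5_1 lc_f_rc_16_1) (@D3.rec (fun _ => (Cert rels S Gen.f)) lc_f_rc_20_3 lc_f_rc_25_0 lc_f_rc_25_0 lc_f_rc_29_4 lc_f_rc_25_0 lc_f_rc_11_3 lc_f_rc_29_4 lc_f_rc_5_1 lc_f_rc_20_3 lc_f_rc_11_3 lc_f_rc_11_3 lc_f_rc_25_0 lc_f_rc_5_1 lc_f_rc_5_1 lc_f_rc_16_1 lc_f_rc_20_1 lc_f_rc_16_1 lc_f_rc_29_2 lc_f_rc_5_3 lc_f_Cert_tree lc_f_rc_25_0 lc_f_Cert_tree lc_f_rc_11_3 lc_f_rc_25_0 lc_f_rc_25_0 lc_f_rc_11_3 lc_f_rc_11_3 lc_f_rc_23_1 lc_f_rc_25_0 lc_f_rc_11_1 lc_f_rc_26_6 lc_f_rc_25_0 lc_f_rc_16_1 lc_f_rc_5_1 lc_f_Cert_tree lc_f_rc_25_0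 lc_f_rc_26_2 lc_f_rc_25_0 lc_f_Cert_tree lc_f_rc_26_6) (@D3.rec (fun _ => (Cert rels S Gen.f)) lc_f_rc_25_0 lc_f_rc_16_3 lc_f_rc_20_1 lc_f_rc_11_1 lc_f_Cert_tree lc_f_rc_25_0 lc_f_rc_26_2 lc_f_rc_25_0 lc_f_rc_5_3 lc_f_rc_11_1 lc_f_rc_16_3 lc_f_rc_25_0 lc_f_rc_16_1 lc_f_rc_26_6 lc_f_rc_25_0 lc_f_rc_5_1 lc_f_rc_25_0 lc_f_rc_11_3 lc_f_rc_20_1 lc_f_rc_11_1 lc_f_rc_29_4 lc_f_rc_23_1 lc_f_rc_29_2 lc_f_rc_23_1 lc_f_rc_25_0 lc_f_rc_16_1 lc_f_rc_5_3 lc_f_rc_5_3 lc_f_rc_29_2 lc_f_rc_11_3 lc_f_rc_11_1 lc_f_rc_11_1 lc_f_rc_5_1 lc_f_rc_16_1 lc_f_rc_16_1 lc_f_rc_25_0 lc_f_Cert_tree lc_f_rc_25_0 lc_f_rc_11_3 lc_f_rc_25_0) (@D3.rec (fun _ => (Cert rels S Gen.f)) lc_f_rc_20_1 lc_f_rc_16_1 lc_f_rc_16_3 lc_f_rc_29_4 lc_f_Cert_tree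 lc_f_rc_25_0 lc_f_rc_25_0 lc_f_rc_29_4 lc_f_rc_16_1 lc_f_rc_5_1 lc_f_rc_25_0 lc_f_rc_5_3 lc_f_rc_5_1 lc_f_rc_25_0 lc_f_rc_16_1 lc_f_rc_11_3 lc_f_rc_16_1 lc_f_rc_25_0 lc_f_rc_11_1 lc_f_rc_5_1 lc_f_rc_11_3 lc_f_rc_29_2 lc_f_rc_16_1 lc_f_rc_11_3 lc_f_rc_20_1 lc_f_rc_23_1 lc_f_rc_29_2 lc_f_rc_5_1 lc_f_rc_26_2 lc_f_rc_23_1 lc_f_rc_11_1 lc_f_rc_5_1 lc_f_Cert_tree lc_f_rc_20_1 lc_f_rc_29_4 lc_f_rc_20_1 lc_f_rc_25_0 lc_f_rc_11_3 lc_f_Cert_tree lc_f_rc_25_0) (@D3.rec (fun _ => (Cert rels S Gen.f)) lc_f_rc_5_1 lc_f_rc_25_0 lc_f_rc_5_1 lc_f_rc_29_4 lc_f_rc_20_1 lc_f_Cert_tree lc_f_rc_25_0 lc_f_rc_16_3 lc_f_rc_25_0 lc_f_Cert_tree lc_f_rc_25_0 lc_f_rc_16_1 lc_f_rc_5_1 lc_f_rc_26_2 lc_f_rc_25_0 lc_f_rc_20_1 lc_f_rc_20_1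 lc_f_rc_16_1 lc_f_rc_20_1 lc_f_rc_20_1 lc_f_Cert_tree lc_f_rc_25_0 lc_f_rc_23_1 lc_f_rc_16_1 lc_f_rc_16_1 lc_f_rc_29_2 lc_f_rc_20_1 lc_f_rc_11_3 lc_f_Cert_tree lc_f_rc_25_0 lc_f_rc_16_1 lc_f_rc_29_4 lc_f_Cert_tree lc_f_rc_25_0 lc_f_rc_11_3 lc_f_rc_20_1 lc_f_rc_5_1 lc_f_rc_29_2 lc_f_rc_5_1 lc_f_Cert_tree) (@D3.rec (fun _ => (Cert rels S Gen.f)) lc_f_rc_25_0 lc_f_rc_29_4 lc_f_rc_20_1 lc_f_rc_16_1 lc_f_Cert_tree lc_f_rc_25_0 lc_f_rc_20_1 lc_f_rc_25_0 lc_f_rc_25_0 lc_f_rc_11_1 lc_f_rc_20_1 lc_f_rc_16_1 lc_f_rc_11_1 lc_f_rc_25_0 lc_f_rc_11_1 lc_f_rc_29_2 lc_f_rc_25_0 lc_f_rc_16_1 lc_f_rc_20_1 lc_f_rc_20_1 lc_f_rc_23_3 lc_f_rc_16_1 lc_f_rc_11_3 lc_f_rc_11_3 lc_f_rc_29_4 lc_f_rc_5_1 lc_f_rc_5_1 lc_f_rc_29_2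 lc_f_rc_26_6 lc_f_rc_25_0 lc_f_rc_25_0 lc_f_Cert_tree lc_f_rc_25_0 lc_f_rc_26_2 lc_f_rc_11_1 lc_f_rc_25_0 lc_f_rc_11_3 lc_f_rc_16_1 lc_f_rc_5_1 lc_f_rc_11_3) (@D3.rec (fun _ => (Cert rels S Gen.f)) lc_f_rc_25_0 lc_f_rc_16_1 lc_f_rc_11_5 lc_f_rc_25_0 lc_f_rc_5_1 lc_f_rc_29_2 lc_f_rc_20_1 lc_f_rc_29_4 lc_f_rc_29_4 lc_f_rc_16_1 lc_f_rc_29_2 lc_f_rc_25_0 lc_f_rc_20_1 lc_f_rc_5_3 lc_f_rc_25_0 lc_f_rc_20_1 lc_f_rc_5_1 lc_f_rc_29_4 lc_f_rc_11_3 lc_f_rc_29_2 lc_f_rc_29_2 lc_f_rc_25_0 lc_f_rc_26_6 lc_f_rc_5_3 lc_f_rc_25_0 lc_f_rc_29_4 lc_f_rc_16_1 lc_f_rc_20_1 lc_f_rc_29_2 lc_f_rc_25_0 lc_f_rc_25_1 lc_f_rc_16_1 lc_f_rc_5_3 lc_f_Cert_tree lc_f_rc_25_0 lc_f_rc_29_4 lc_f_rc_11_1 lc_f_rc_5_1 lc_f_rc_16_1 lc_f_rc_29_2)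 (@D3.rec (fun _ => (Cert rels S Gen.f)) lc_f_rc_5_1 lc_f_rc_11_3 lc_f_rc_20_1 lc_f_rc_26_6 lc_f_rc_25_0 lc_f_rc_11_3 lc_f_rc_16_1 lc_f_rc_25_1 lc_f_rc_29_2 lc_f_rc_23_1 lc_f_rc_20_1 lc_f_rc_16_3 lc_f_rc_5_3 lc_f_rc_25_0 lc_f_rc_11_3 lc_f_rc_25_0 lc_f_rc_20_1 lc_f_rc_25_0 lc_f_rc_16_1 lc_f_rc_29_2 lc_f_rc_20_1 lc_f_rc_29_4 lc_f_rc_11_3 lc_f_rc_5_1 lc_f_rc_16_1 lc_f_rc_23_1 lc_f_rc_16_1 lc_f_rc_25_0 lc_f_rc_11_3 lc_f_rc_16_1 lc_f_rc_29_4 lc_f_rc_11_3 lc_f_rc_25_0 lc_f_rc_20_1 lc_f_rc_16_1 lc_f_Cert_tree lc_f_rc_25_0 lc_f_rc_11_3 lc_f_rc_5_3 lc_f_rc_25_0) (@D3.rec (fun _ => (Cert rels S Gen.f)) lc_f_rc_16_1 lc_f_rc_20_3 lc_f_rc_5_1 lc_f_rc_26_2 lc_f_rc_25_0 lc_f_rc_25_0 lc_f_rc_29_2 lc_f_rc_25_0 lc_f_rc_16_1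 lc_f_rc_29_2 lc_f_rc_29_2 lc_f_rc_11_3 lc_f_rc_25_0 lc_f_rc_11_3 lc_f_rc_29_4 lc_f_rc_23_3 lc_f_rc_25_0 lc_f_rc_25_0 lc_f_rc_16_1 lc_f_rc_16_1 lc_f_rc_29_2 lc_f_rc_16_1 lc_f_rc_5_1 lc_f_Cert_tree lc_f_rc_5_3 lc_f_rc_25_0 lc_f_rc_11_3 lc_f_rc_25_0 lc_f_rc_16_1 lc_f_rc_25_0 lc_f_rc_11_3 lc_f_rc_5_1 lc_f_rc_5_1 lc_f_rc_11_3 lc_f_rc_29_2 lc_f_rc_25_0 lc_f_rc_16_1 lc_f_rc_16_1 lc_f_rc_11_3 lc_f_rc_16_1) (@D3.rec (fun _ => (Cert rels S Gen.f)) lc_f_rc_16_3 lc_f_rc_16_1 lc_f_rc_20_1 lc_f_rc_26_4 lc_f_rc_23_3 lc_f_rc_26_4 lc_f_rc_16_3 lc_f_rc_29_2 lc_f_rc_11_3 lc_f_rc_16_1 lc_f_rc_20_1 lc_f_rc_23_1 lc_f_Cert_tree lc_f_rc_25_0 lc_f_rc_5_3 lc_f_rc_25_0 lc_f_rc_5_1 lc_f_rc_5_1 lc_f_rc_5_1 lc_f_rc_5_1 lc_f_Cert_tree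 lc_f_rc_25_0 lc_f_rc_25_0 lc_f_rc_25_0 lc_f_rc_29_4 lc_f_rc_20_1 lc_f_rc_26_2 lc_f_rc_20_1 lc_f_rc_23_1 lc_f_rc_29_4 lc_f_rc_20_1 lc_f_rc_16_1 lc_f_rc_31_10 lc_f_rc_29_2 lc_f_Cert_tree lc_f_rc_25_0 lc_f_rc_20_1 lc_f_rc_11_3 lc_f_rc_5_3 lc_f_rc_23_3) (@D3.rec (fun _ => (Cert rels S Gen.f)) lc_f_Cert_tree lc_f_rc_25_0 lc_f_rc_29_2 lc_f_Cert_tree lc_f_rc_25_0 lc_f_rc_5_3 lc_f_rc_16_3 lc_f_rc_11_1 lc_f_rc_25_0 lc_f_rc_11_3 lc_f_rc_23_1 lc_f_Cert_tree lc_f_rc_25_0 lc_f_rc_5_1 lc_f_rc_5_1 lc_f_Cert_tree lc_f_rc_29_2 lc_f_rc_11_1 lc_f_rc_11_3 lc_f_rc_29_4 lc_f_rc_25_0 lc_f_rc_25_0 lc_f_rc_5_1 lc_f_rc_20_1 lc_f_rc_16_1 lc_f_rc_5_1 lc_f_rc_16_1 lc_f_rc_20_3 lc_f_rc_11_1 lc_f_rc_20_3 lc_f_rc_5_3 lc_f_Cert_tree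 lc_f_rc_25_0 lc_f_rc_16_1 lc_f_rc_16_1 lc_f_rc_5_1 lc_f_rc_20_3 lc_f_rc_25_0 lc_f_Cert_tree lc_f_rc_25_0) (@D3.rec (fun _ => (Cert rels S Gen.f)) lc_f_rc_11_3 lc_f_rc_29_4 lc_f_rc_25_0 lc_f_rc_11_3 lc_f_rc_5_1 lc_f_rc_16_1 lc_f_rc_26_2 lc_f_rc_5_1 lc_f_rc_25_0 lc_f_rc_20_1 lc_f_rc_16_1 lc_f_rc_16_3 lc_f_rc_25_0 lc_f_rc_26_2 lc_f_rc_31_4 lc_f_rc_23_1 lc_f_rc_29_4 lc_f_rc_16_3 lc_f_rc_25_0 lc_f_Cert_tree lc_f_rc_25_0 lc_f_rc_29_4 lc_f_rc_26_4 lc_f_rc_25_0 lc_f_rc_26_2 lc_f_rc_16_1 lc_f_rc_25_0 lc_f_rc_11_3 lc_f_rc_16_1 lc_f_rc_5_1 lc_f_rc_11_1 lc_f_rc_11_1 lc_f_rc_11_3 lc_f_rc_5_1 lc_f_rc_16_1 lc_f_rc_29_2 lc_f_rc_29_2 lc_f_rc_26_2 lc_f_rc_25_0 lc_f_rc_29_4) (@D3.rec (fun _ => (Cert rels S Gen.f)) lc_f_rc_23_1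 lc_f_rc_25_0 lc_f_rc_11_3 lc_f_rc_5_1 lc_f_rc_20_1 lc_f_rc_29_2 lc_f_rc_5_1 lc_f_rc_29_2 lc_f_rc_29_2 lc_f_Cert_tree lc_f_rc_25_0 lc_f_rc_5_3 lc_f_rc_5_3 lc_f_rc_29_4 lc_f_Cert_tree lc_f_rc_25_0 lc_f_rc_20_1 lc_f_rc_16_1 lc_f_rc_5_1 lc_f_rc_11_1 lc_f_rc_5_1 lc_f_rc_5_1 lc_f_rc_16_1 lc_f_rc_20_1 lc_f_rc_5_1 lc_f_rc_20_1 lc_f_rc_29_2 lc_f_rc_16_1 lc_f_rc_23_1 lc_f_rc_23_1 lc_f_rc_11_3 lc_f_rc_29_2 lc_f_rc_29_4 lc_f_rc_11_1 lc_f_rc_11_3 lc_f_rc_16_1 lc_f_rc_11_3 lc_f_rc_20_1 lc_f_rc_23_1 lc_f_rc_20_1) (@D3.rec (fun _ => (Cert rels S Gen.f)) lc_f_rc_20_1 lc_f_rc_16_1 lc_f_rc_5_1 lc_f_rc_20_1 lc_f_rc_5_3 lc_f_rc_16_1 lc_f_rc_5_1 lc_f_rc_16_1 lc_f_rc_29_4 lc_f_rc_16_1 lc_f_rc_11_1 lc_f_rc_25_0 lc_f_rc_26_4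 lc_f_rc_29_2 lc_f_Cert_tree lc_f_rc_25_0 lc_f_rc_16_1 lc_f_rc_29_2 lc_f_rc_23_1 lc_f_rc_5_1 lc_f_Cert_tree lc_f_rc_29_4 lc_f_rc_25_0 lc_f_rc_20_1 lc_f_rc_5_1 lc_f_rc_11_1 lc_f_rc_16_1 lc_f_rc_25_0 lc_f_rc_16_1 lc_f_rc_5_3 lc_f_rc_25_0 lc_f_rc_5_3 lc_f_rc_11_1 lc_f_rc_25_0 lc_f_rc_16_1 lc_f_rc_16_3 lc_f_rc_16_1 lc_f_rc_26_4 lc_f_rc_11_1 lc_f_rc_16_1) (@D3.rec (fun _ => (Cert rels S Gen.f)) lc_f_rc_23_1 lc_f_rc_11_3 lc_f_rc_5_1 lc_f_rc_20_1 lc_f_rc_29_2 lc_f_rc_25_0 lc_f_rc_29_2 lc_f_rc_5_1 lc_f_Cert_tree lc_f_rc_25_0 lc_f_rc_25_0 lc_f_rc_11_3 lc_f_rc_20_1 lc_f_rc_25_0 lc_f_rc_29_2 lc_f_rc_11_1 lc_f_rc_25_0 lc_f_rc_25_0 lc_f_rc_23_3 lc_f_rc_5_1 lc_f_rc_25_0 lc_f_rc_11_5 lc_f_rc_25_0 lc_f_rc_26_6 lc_f_rc_23_3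 lc_f_rc_25_0 lc_f_rc_5_3 lc_f_rc_20_1 lc_f_rc_5_1 lc_f_Cert_tree lc_f_rc_25_0 lc_f_Cert_tree lc_f_rc_30_15 lc_f_rc_11_3 lc_f_rc_5_1 lc_f_rc_5_3 lc_f_rc_25_0 lc_f_rc_29_2 lc_f_Cert_tree lc_f_rc_25_0) (@D3.rec (fun _ => (Cert rels S Gen.f)) lc_f_Cert_tree lc_f_rc_25_0 lc_f_rc_26_2 lc_f_rc_25_0 lc_f_rc_11_3 lc_f_rc_5_3 lc_f_rc_16_1 lc_f_rc_5_1 lc_f_rc_23_1 lc_f_rc_16_1 lc_f_rc_5_1 lc_f_rc_26_0 lc_f_rc_16_3 lc_f_rc_16_3 lc_f_Cert_tree lc_f_rc_25_0 lc_f_rc_5_3 lc_f_Cert_tree lc_f_rc_25_0 lc_f_rc_11_1 lc_f_rc_5_3 lc_f_rc_31_13 lc_f_rc_25_0 lc_f_rc_11_3 lc_f_rc_25_0 lc_f_rc_20_1 lc_f_rc_25_0 lc_f_rc_29_4 lc_f_rc_31_4 lc_f_rc_11_3 lc_f_rc_20_1 lc_f_rc_23_1 lc_f_rc_25_0 lc_f_rc_11_3 lc_f_rc_29_2 lc_f_rc_25_0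 lc_f_Cert_tree lc_f_rc_26_6 lc_f_rc_25_0 lc_f_rc_5_1) (@D3.rec (fun _ => (Cert rels S Gen.f)) lc_f_rc_25_0 lc_f_rc_26_6 lc_f_rc_29_2 lc_f_rc_25_0 lc_f_rc_5_3 lc_f_rc_20_1 lc_f_rc_29_4 lc_f_Cert_tree lc_f_rc_25_0 lc_f_Cert_tree lc_f_rc_5_3 lc_f_rc_11_3 lc_f_rc_5_1 lc_f_rc_5_3 lc_f_rc_25_0 lc_f_rc_5_1 lc_f_rc_16_1 lc_f_rc_31_7 lc_f_Cert_tree lc_f_rc_25_0 lc_f_rc_25_1 lc_f_rc_16_1 lc_f_rc_26_6 lc_f_rc_31_1 lc_f_rc_5_1 lc_f_rc_29_2 lc_f_Cert_tree lc_f_rc_25_0 lc_f_rc_29_2 lc_f_rc_11_3 lc_f_rc_20_3 lc_f_rc_25_0 lc_f_rc_11_3 lc_f_rc_16_1 lc_f_rc_25_0 lc_f_rc_26_2 lc_f_rc_11_3 lc_f_rc_5_3 lc_f_Cert_tree lc_f_rc_25_0) (@D3.rec (fun _ => (Cert rels S Gen.f)) lc_f_rc_25_0 lc_f_rc_11_3 lc_f_rc_5_1 lc_f_rc_16_1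 lc_f_rc_25_0 lc_f_Cert_tree lc_f_rc_25_0 lc_f_rc_5_1 lc_f_rc_11_3 lc_f_rc_11_3 lc_f_rc_20_1 lc_f_rc_25_0 lc_f_rc_5_3 lc_f_rc_25_0 lc_f_rc_20_1 lc_f_rc_20_3 lc_f_rc_25_0 lc_f_rc_16_1 lc_f_rc_11_3 lc_f_rc_25_0 lc_f_rc_29_2 lc_f_rc_26_6 lc_f_rc_31_1 lc_f_rc_30_15 lc_f_rc_11_1 lc_f_rc_25_0 lc_f_rc_11_3 lc_f_rc_16_1 lc_f_rc_25_0 lc_f_rc_20_1 lc_f_rc_25_0 lc_f_rc_16_1 lc_f_rc_16_1 lc_f_rc_23_1 lc_f_rc_26_6 lc_f_rc_20_1 lc_f_rc_23_1 lc_f_rc_16_1 lc_f_rc_16_1 lc_f_rc_25_0) (@D3.rec (fun _ => (Cert rels S Gen.f)) lc_f_rc_25_0 lc_f_rc_29_2 lc_f_rc_29_2 lc_f_rc_16_1 lc_f_rc_25_0 lc_f_rc_5_1 lc_f_rc_5_1 lc_f_rc_11_3 lc_f_rc_5_1 lc_f_rc_20_1 lc_f_rc_20_3 lc_f_rc_16_3 lc_f_rc_25_0 lc_f_rc_11_3 lc_f_Cert_tree lc_f_rc_25_0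 lc_f_rc_20_1 lc_f_rc_16_1 lc_f_rc_20_1 lc_f_rc_29_2 lc_f_rc_25_0 lc_f_rc_5_3 lc_f_rc_25_0 lc_f_rc_5_3 lc_f_rc_20_1 lc_f_Cert_tree lc_f_rc_20_1 lc_f_Cert_tree lc_f_Cert_tree lc_f_Cert_tree lc_f_rc_25_0 lc_f_Cert_tree lc_f_rc_25_0 lc_f_rc_5_3 lc_f_rc_25_0 lc_f_rc_26_6 lc_f_rc_5_3 lc_f_rc_25_0 lc_f_rc_16_1 lc_f_rc_11_3) (@D3.rec (fun _ => (Cert rels S Gen.f)) lc_f_rc_20_1 lc_f_rc_5_1 lc_f_rc_11_3 lc_f_rc_11_3 lc_f_rc_5_1 lc_f_rc_11_3 lc_f_rc_11_1 lc_f_rc_25_0 lc_f_rc_20_1 lc_f_rc_25_0 lc_f_rc_11_3 lc_f_rc_25_0 lc_f_rc_11_3 lc_f_rc_25_0 lc_f_rc_11_3 lc_f_rc_5_1 lc_f_rc_29_2 lc_f_rc_20_3 lc_f_rc_16_1 lc_f_rc_20_1 lc_f_rc_5_1 lc_f_rc_29_2 lc_f_rc_5_1 lc_f_rc_5_1 lc_f_Cert_tree lc_f_rc_25_0 lc_f_rc_29_2 lc_f_rc_20_3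 lc_f_rc_25_0 lc_f_rc_5_3 lc_f_rc_25_0 lc_f_rc_11_3 lc_f_rc_5_1 lc_f_rc_29_4 lc_f_rc_20_1 lc_f_rc_20_1 lc_f_Cert_tree lc_f_rc_25_0 lc_f_rc_25_0 lc_f_rc_29_4) (@D3.rec (fun _ => (Cert rels S Gen.f)) lc_f_Cert_tree lc_f_rc_25_0 lc_f_rc_5_3 lc_f_rc_25_0 lc_f_rc_11_3 lc_f_rc_11_1 lc_f_rc_26_6 lc_f_rc_25_0 lc_f_rc_5_1 lc_f_rc_29_2 lc_f_rc_20_1 lc_f_rc_11_3 lc_f_rc_16_1 lc_f_Cert_tree lc_f_rc_25_0 lc_f_rc_16_1 lc_f_rc_5_1 lc_f_rc_11_1 lc_f_rc_31_7 lc_f_rc_5_3 lc_f_rc_25_0 lc_f_rc_25_0 lc_f_rc_25_0 lc_f_rc_11_3 lc_f_rc_16_1 lc_f_rc_25_0 lc_f_rc_11_3 lc_f_rc_16_1 lc_f_rc_11_3 lc_f_rc_11_3 lc_f_rc_11_1 lc_f_rc_25_0 lc_f_rc_25_0 lc_f_rc_11_3 lc_f_rc_16_1 lc_f_rc_29_2 lc_f_rc_25_0 lc_f_rc_20_1 lc_f_rc_26_4 lc_f_rc_5_1)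 (@D3.rec (fun _ => (Cert rels S Gen.f)) lc_f_rc_29_2 lc_f_rc_25_0 lc_f_rc_5_3 lc_f_rc_25_0 lc_f_rc_29_4 lc_f_rc_29_4 lc_f_rc_25_0 lc_f_rc_16_1 lc_f_rc_5_1 lc_f_rc_11_3 lc_f_rc_16_1 lc_f_rc_25_0 lc_f_rc_11_1 lc_f_rc_5_3 lc_f_rc_5_3 lc_f_rc_5_1 lc_f_rc_31_10 lc_f_rc_25_0 lc_f_rc_20_3 lc_f_rc_5_1 lc_f_rc_25_0 lc_f_rc_25_0 lc_f_rc_5_1 lc_f_rc_16_1 lc_f_rc_29_2 lc_f_rc_25_0 lc_f_rc_16_1 lc_f_rc_5_1 lc_f_Cert_tree lc_f_rc_25_0 lc_f_rc_11_1 lc_f_rc_20_1 lc_f_rc_30_11 lc_f_rc_11_3 lc_f_rc_31_7 lc_f_rc_25_0 lc_f_rc_16_1 lc_f_rc_16_1 lc_f_rc_5_1 lc_f_rc_29_2) (@D3.rec (fun _ => (Cert rels S Gen.f)) lc_f_Cert_tree lc_f_rc_25_0 lc_f_rc_20_1 lc_f_rc_16_1 lc_f_rc_5_3 lc_f_rc_25_0 lc_f_rc_25_0 lc_f_rc_16_1 lc_f_rc_11_3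 lc_f_rc_25_0 lc_f_rc_26_2 lc_f_rc_11_3 lc_f_rc_5_3 lc_f_Cert_tree lc_f_rc_25_0 lc_f_rc_25_0 lc_f_rc_11_3 lc_f_rc_20_3 lc_f_rc_16_1 lc_f_Cert_tree lc_f_rc_25_0 lc_f_rc_29_2 lc_f_rc_25_0 lc_f_rc_11_3 lc_f_rc_25_0 lc_f_rc_29_2 lc_f_rc_26_6 lc_f_rc_11_1 lc_f_rc_5_3 lc_f_Cert_tree lc_f_rc_25_0 lc_f_rc_23_1 lc_f_rc_20_1 lc_f_rc_16_3 lc_f_rc_25_0 lc_f_rc_30_7 lc_f_rc_25_0 lc_f_rc_16_1 lc_f_rc_5_1 lc_f_rc_29_2)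
def ce_f_20 : D2 → D3 → (Cert rels S Gen.f) := @D2.rec (fun _ => D3 → (Cert rels S Gen.f)) (@D3.rec (fun _ => (Cert rels S Gen.f)) lc_f_rc_5_3 lc_f_rc_29_2 lc_f_rc_29_2 lc_f_rc_25_0 lc_f_rc_5_1 lc_f_rc_25_0 lc_f_rc_16_1 lc_f_rc_29_4 lc_f_rc_5_3 lc_f_rc_25_0 lc_f_rc_16_1 lc_f_rc_20_1 lc_f_rc_23_1 lc_f_rc_29_4 lc_f_rc_5_3 lc_f_rc_16_1 lc_f_rc_5_1 lc_f_rc_25_0 lc_f_rc_11_3 lc_f_rc_11_1 lc_f_rc_11_3 lc_f_rc_23_1 lc_f_rc_11_3 lc_f_rc_5_1 lc_f_rc_25_0 lc_f_rc_29_4 lc_f_rc_25_0 lc_f_rc_16_1 lc_f_rc_23_1 lc_f_rc_16_1 lc_f_rc_23_1 lc_f_rc_25_0 lc_f_Cert_tree lc_f_rc_16_1 lc_f_rc_25_0 lc_f_rc_31_7 lc_f_rc_5_1 lc_f_rc_29_2 lc_f_rc_25_0 lc_f_rc_30_3) (@D3.rec (fun _ => (Cert rels S Gen.f)) lc_f_rc_31_7 lc_f_rc_25_0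 lc_f_rc_5_1 lc_f_rc_16_1 lc_f_rc_25_1 lc_f_rc_29_2 lc_f_rc_25_0 lc_f_rc_16_1 lc_f_rc_31_7 lc_f_rc_20_1 lc_f_Cert_tree lc_f_rc_25_0 lc_f_rc_29_4 lc_f_rc_20_1 lc_f_rc_11_5 lc_f_rc_23_3 lc_f_rc_29_4 lc_f_rc_25_1 lc_f_rc_26_6 lc_f_rc_16_1 lc_f_rc_23_1 lc_f_rc_25_0 lc_f_rc_20_1 lc_f_rc_20_1 lc_f_rc_31_10 lc_f_rc_11_3 lc_f_rc_26_2 lc_f_rc_25_0 lc_f_rc_30_7 lc_f_rc_5_3 lc_f_rc_25_0 lc_f_rc_25_0 lc_f_rc_5_1 lc_f_rc_26_4 lc_f_rc_31_10 lc_f_rc_11_3 lc_f_rc_16_1 lc_f_rc_11_3 lc_f_rc_20_1 lc_f_Cert_tree) (@D3.rec (fun _ => (Cert rels S Gen.f)) lc_f_rc_16_1 lc_f_rc_29_4 lc_f_rc_29_4 lc_f_rc_5_3 lc_f_rc_25_0 lc_f_rc_25_0 lc_f_Cert_tree lc_f_rc_11_3 lc_f_rc_25_0 lc_f_rc_5_1 lc_f_rc_29_4 lc_f_rc_16_3 lc_f_rc_16_1 lc_f_rc_5_1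 lc_f_rc_29_2 lc_f_rc_20_1 lc_f_rc_5_3 lc_f_rc_25_0 lc_f_rc_25_0 lc_f_rc_5_1 lc_f_rc_25_0 lc_f_rc_26_6 lc_f_rc_11_3 lc_f_rc_25_0 lc_f_rc_5_1 lc_f_rc_25_0 lc_f_rc_25_0 lc_f_rc_5_1 lc_f_rc_29_2 lc_f_rc_29_2 lc_f_rc_29_2 lc_f_rc_25_0 lc_f_rc_20_1 lc_f_rc_16_1 lc_f_Cert_tree lc_f_Cert_tree lc_f_rc_25_0 lc_f_Cert_tree lc_f_rc_25_0 lc_f_rc_16_3) (@D3.rec (fun _ => (Cert rels S Gen.f)) lc_f_rc_25_0 lc_f_Cert_tree lc_f_Cert_tree lc_f_Cert_tree lc_f_rc_25_0 lc_f_rc_20_1 lc_f_Cert_tree lc_f_rc_25_0 lc_f_rc_25_0 lc_f_rc_26_4 lc_f_rc_29_2 lc_f_rc_25_0 lc_f_rc_25_0 lc_f_rc_29_4 lc_f_rc_16_1 lc_f_rc_5_3 lc_f_rc_5_3 lc_f_rc_29_4 lc_f_rc_25_0 lc_f_rc_20_3 lc_f_rc_16_1 lc_f_rc_11_3 lc_f_rc_5_3 lc_f_rc_5_3 lc_f_rc_11_3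 lc_f_rc_20_1 lc_f_rc_16_1 lc_f_rc_29_4 lc_f_rc_5_1 lc_f_rc_5_3 lc_f_rc_11_3 lc_f_rc_23_1 lc_f_rc_16_1 lc_f_Cert_tree lc_f_rc_29_2 lc_f_rc_16_1 lc_f_rc_29_2 lc_f_Cert_tree lc_f_rc_25_0 lc_f_rc_16_1) (@D3.rec (fun _ => (Cert rels S Gen.f)) lc_f_rc_29_2 lc_f_rc_29_4 lc_f_rc_25_0 lc_f_rc_11_3 lc_f_rc_25_0 lc_f_Cert_tree lc_f_rc_16_3 lc_f_rc_16_1 lc_f_rc_11_3 lc_f_rc_29_4 lc_f_rc_23_3 lc_f_Cert_tree lc_f_rc_5_3 lc_f_Cert_tree lc_f_rc_25_0 lc_f_rc_16_1 lc_f_Cert_tree lc_f_rc_16_3 lc_f_rc_25_0 lc_f_rc_5_1 lc_f_Cert_tree lc_f_rc_25_0 lc_f_rc_25_0 lc_f_rc_29_4 lc_f_rc_16_1 lc_f_rc_5_1 lc_f_rc_5_3 lc_f_rc_11_3 lc_f_rc_29_2 lc_f_rc_25_0 lc_f_rc_26_0 lc_f_rc_16_3 lc_f_rc_20_1 lc_f_rc_16_1 lc_f_rc_16_3 lc_f_rc_25_0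 lc_f_rc_11_3 lc_f_rc_11_3 lc_f_rc_5_1 lc_f_rc_16_1) (@D3.rec (fun _ => (Cert rels S Gen.f)) lc_f_rc_29_2 lc_f_rc_16_1 lc_f_rc_30_11 lc_f_rc_26_4 lc_f_rc_31_7 lc_f_rc_29_2 lc_f_rc_11_5 lc_f_rc_29_2 lc_f_Cert_tree lc_f_rc_25_0 lc_f_rc_16_1 lc_f_rc_29_2 lc_f_rc_20_1 lc_f_rc_16_1 lc_f_rc_16_3 lc_f_rc_29_4 lc_f_rc_26_6 lc_f_rc_20_3 lc_f_rc_23_1 lc_f_rc_25_0 lc_f_Cert_tree lc_f_rc_25_0 lc_f_Cert_tree lc_f_rc_25_0 lc_f_rc_25_0 lc_f_rc_23_1 lc_f_rc_25_0 lc_f_rc_5_1 lc_f_rc_25_0 lc_f_rc_25_0 lc_f_rc_23_1 lc_f_rc_11_1 lc_f_rc_5_3 lc_f_rc_5_1 lc_f_rc_25_0 lc_f_rc_23_1 lc_f_Cert_tree lc_f_rc_25_0 lc_f_rc_29_4 lc_f_rc_25_0) (@D3.rec (fun _ => (Cert rels S Gen.f)) lc_f_rc_29_4 lc_f_rc_25_0 lc_f_rc_11_3 lc_f_rc_11_3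 lc_f_rc_16_1 lc_f_rc_16_3 lc_f_rc_16_1 lc_f_rc_5_1 lc_f_rc_29_2 lc_f_rc_16_1 lc_f_rc_29_2 lc_f_Cert_tree lc_f_rc_25_0 lc_f_rc_16_3 lc_f_rc_26_2 lc_f_rc_29_4 lc_f_rc_16_1 lc_f_rc_25_0 lc_f_rc_29_4 lc_f_rc_5_1 lc_f_rc_16_1 lc_f_rc_25_1 lc_f_rc_29_2 lc_f_rc_29_2 lc_f_rc_25_0 lc_f_rc_16_1 lc_f_rc_11_3 lc_f_rc_5_1 lc_f_rc_5_1 lc_f_rc_5_1 lc_f_rc_5_1 lc_f_rc_29_4 lc_f_rc_11_1 lc_f_rc_5_1 lc_f_rc_29_2 lc_f_rc_29_2 lc_f_rc_11_3 lc_f_rc_25_0 lc_f_rc_29_2 lc_f_rc_20_3) (@D3.rec (fun _ => (Cert rels S Gen.f)) lc_f_rc_11_3 lc_f_rc_5_1 lc_f_rc_25_1 lc_f_rc_23_1 lc_f_rc_16_1 lc_f_rc_5_3 lc_f_rc_20_1 lc_f_rc_5_3 lc_f_rc_25_0 lc_f_rc_5_1 lc_f_rc_20_1 lc_f_rc_5_1 lc_f_Cert_tree lc_f_rc_16_3 lc_f_Cert_tree lc_f_rc_25_1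 lc_f_rc_23_3 lc_f_rc_25_0 lc_f_rc_29_4 lc_f_rc_5_1 lc_f_rc_16_1 lc_f_rc_20_1 lc_f_rc_23_3 lc_f_rc_11_3 lc_f_rc_31_1 lc_f_rc_11_3 lc_f_Cert_tree lc_f_rc_29_2 lc_f_rc_25_0 lc_f_rc_11_3 lc_f_Cert_tree lc_f_rc_26_4 lc_f_rc_25_0 lc_f_rc_25_0 lc_f_rc_11_3 lc_f_rc_29_4 lc_f_rc_5_1 lc_f_rc_25_1 lc_f_rc_11_1 lc_f_rc_20_1) (@D3.rec (fun _ => (Cert rels S Gen.f)) lc_f_rc_16_1 lc_f_rc_11_5 lc_f_rc_25_0 lc_f_rc_16_1 lc_f_rc_16_1 lc_f_rc_5_1 lc_f_rc_5_1 lc_f_rc_25_0 lc_f_rc_26_2 lc_f_rc_5_3 lc_f_rc_5_1 lc_f_Cert_tree lc_f_Cert_tree lc_f_rc_23_1 lc_f_rc_25_0 lc_f_Cert_tree lc_f_rc_26_6 lc_f_rc_25_0 lc_f_rc_5_3 lc_f_rc_25_0 lc_f_rc_11_3 lc_f_Cert_tree lc_f_rc_25_0 lc_f_rc_5_3 lc_f_rc_5_3 lc_f_rc_25_0 lc_f_rc_16_1 lc_f_rc_11_3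 lc_f_rc_11_3 lc_f_rc_11_3 lc_f_rc_29_4 lc_f_rc_16_1 lc_f_rc_23_1 lc_f_rc_26_2 lc_f_rc_20_1 lc_f_rc_11_3 lc_f_rc_5_1 lc_f_rc_16_1 lc_f_rc_11_3 lc_f_rc_20_1) (@D3.rec (fun _ => (Cert rels S Gen.f)) lc_f_rc_5_1 lc_f_Cert_tree lc_f_rc_11_3 lc_f_rc_29_2 lc_f_rc_11_1 lc_f_rc_25_0 lc_f_rc_5_3 lc_f_rc_11_5 lc_f_rc_25_0 lc_f_rc_29_2 lc_f_rc_16_1 lc_f_Cert_tree lc_f_rc_20_1 lc_f_rc_16_1 lc_f_rc_25_0 lc_f_rc_29_4 lc_f_rc_29_2 lc_f_rc_25_0 lc_f_rc_11_1 lc_f_rc_11_1 lc_f_rc_5_1 lc_f_rc_5_1 lc_f_rc_16_1 lc_f_rc_5_3 lc_f_rc_25_0 lc_f_rc_11_3 lc_f_rc_29_2 lc_f_rc_25_0 lc_f_rc_25_0 lc_f_rc_25_0 lc_f_rc_29_2 lc_f_rc_26_6 lc_f_rc_5_1 lc_f_rc_20_1 lc_f_rc_29_2 lc_f_rc_26_6 lc_f_rc_16_1 lc_f_rc_16_3 lc_f_rc_25_0 lc_f_rc_25_0)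 (@D3.rec (fun _ => (Cert rels S Gen.f)) lc_f_rc_30_11 lc_f_rc_5_1 lc_f_rc_25_0 lc_f_rc_11_3 lc_f_Cert_tree lc_f_rc_5_3 lc_f_rc_25_0 lc_f_rc_11_3 lc_f_rc_5_1 lc_f_rc_11_3 lc_f_rc_5_1 lc_f_rc_16_1 lc_f_rc_5_1 lc_f_rc_20_1 lc_f_rc_29_4 lc_f_rc_11_3 lc_f_rc_11_3 lc_f_rc_16_1 lc_f_rc_29_2 lc_f_rc_11_3 lc_f_rc_11_3 lc_f_rc_16_1 lc_f_rc_29_2 lc_f_rc_16_1 lc_f_rc_20_1 lc_f_rc_5_1 lc_f_rc_16_1 lc_f_rc_20_1 lc_f_rc_29_4 lc_f_rc_5_3 lc_f_Cert_tree lc_f_rc_25_0 lc_f_rc_5_1 lc_f_Cert_tree lc_f_rc_25_0 lc_f_rc_29_4 lc_f_rc_23_1 lc_f_rc_5_3 lc_f_rc_16_1 lc_f_rc_20_1) (@D3.rec (fun _ => (Cert rels S Gen.f)) lc_f_rc_16_1 lc_f_rc_23_1 lc_f_rc_16_1 lc_f_rc_11_3 lc_f_rc_5_3 lc_f_rc_11_1 lc_f_rc_23_3 lc_f_rc_16_3 lc_f_rc_25_0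 lc_f_rc_23_1 lc_f_rc_20_1 lc_f_rc_11_3 lc_f_rc_20_1 lc_f_rc_29_2 lc_f_rc_29_2 lc_f_rc_20_1 lc_f_rc_20_1 lc_f_rc_20_1 lc_f_rc_20_1 lc_f_rc_26_4 lc_f_rc_25_0 lc_f_rc_29_2 lc_f_rc_25_0 lc_f_rc_20_3 lc_f_rc_25_1 lc_f_rc_20_1 lc_f_rc_5_3 lc_f_Cert_tree lc_f_rc_25_0 lc_f_rc_20_1 lc_f_rc_29_4 lc_f_rc_30_7 lc_f_rc_25_0 lc_f_rc_11_3 lc_f_rc_5_3 lc_f_rc_5_1 lc_f_rc_16_1 lc_f_Cert_tree lc_f_rc_23_1 lc_f_rc_25_0) (@D3.rec (fun _ => (Cert rels S Gen.f)) lc_f_rc_25_1 lc_f_rc_25_0 lc_f_rc_11_3 lc_f_rc_20_1 lc_f_rc_25_0 lc_f_rc_20_3 lc_f_rc_25_0 lc_f_rc_16_1 lc_f_rc_16_1 lc_f_rc_26_6 lc_f_rc_16_1 lc_f_rc_5_3 lc_f_rc_16_1 lc_f_rc_16_1 lc_f_rc_20_1 lc_f_rc_16_1 lc_f_rc_20_1 lc_f_rc_16_1 lc_f_rc_11_1 lc_f_rc_25_0 lc_f_rc_31_10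 lc_f_rc_5_3 lc_f_rc_25_0 lc_f_rc_25_0 lc_f_rc_25_0 lc_f_rc_5_3 lc_f_rc_25_0 lc_f_rc_5_1 lc_f_rc_25_0 lc_f_rc_11_3 lc_f_rc_16_3 lc_f_rc_25_0 lc_f_rc_11_3 lc_f_rc_11_1 lc_f_rc_29_2 lc_f_rc_26_6 lc_f_rc_16_1 lc_f_rc_5_1 lc_f_rc_20_1 lc_f_rc_26_6) (@D3.rec (fun _ => (Cert rels S Gen.f)) lc_f_rc_5_1 lc_f_rc_11_1 lc_f_rc_29_2 lc_f_rc_20_1 lc_f_rc_16_1 lc_f_rc_11_1 lc_f_rc_16_1 lc_f_rc_23_1 lc_f_rc_20_1 lc_f_rc_29_2 lc_f_rc_5_1 lc_f_rc_20_1 lc_f_rc_23_1 lc_f_rc_16_1 lc_f_rc_20_1 lc_f_rc_16_1 lc_f_rc_20_1 lc_f_rc_31_10 lc_f_rc_16_3 lc_f_rc_5_1 lc_f_rc_29_2 lc_f_rc_25_0 lc_f_rc_20_1 lc_f_rc_25_0 lc_f_rc_20_1 lc_f_rc_5_3 lc_f_rc_25_0 lc_f_rc_20_3 lc_f_rc_25_0 lc_f_rc_26_2 lc_f_rc_20_1 lc_f_rc_20_1 lc_f_rc_20_1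 lc_f_rc_5_3 lc_f_rc_25_0 lc_f_rc_29_2 lc_f_rc_20_1 lc_f_rc_25_0 lc_f_rc_11_1 lc_f_rc_25_0) (@D3.rec (fun _ => (Cert rels S Gen.f)) lc_f_rc_29_2 lc_f_rc_25_0 lc_f_rc_11_3 lc_f_rc_5_1 lc_f_rc_5_1 lc_f_rc_11_1 lc_f_rc_5_1 lc_f_rc_31_10 lc_f_rc_26_6 lc_f_rc_29_2 lc_f_rc_25_0 lc_f_rc_5_1 lc_f_rc_26_2 lc_f_rc_5_3 lc_f_rc_25_0 lc_f_rc_25_0 lc_f_rc_29_4 lc_f_rc_11_3 lc_f_rc_25_0 lc_f_rc_29_2 lc_f_rc_5_1 lc_f_rc_16_3 lc_f_rc_16_1 lc_f_rc_5_1 lc_f_rc_5_1 lc_f_Cert_tree lc_f_rc_5_3 lc_f_rc_26_4 lc_f_rc_11_3 lc_f_Cert_tree lc_f_Cert_tree lc_f_rc_25_0 lc_f_rc_16_3 lc_f_rc_25_0 lc_f_rc_5_3 lc_f_rc_25_0 lc_f_rc_5_3 lc_f_rc_25_0 lc_f_rc_25_0 lc_f_rc_5_1) (@D3.rec (fun _ => (Cert rels S Gen.f)) lc_f_rc_31_10 lc_f_rc_20_1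 lc_f_rc_29_4 lc_f_rc_11_3 lc_f_rc_25_0 lc_f_rc_16_1 lc_f_rc_5_1 lc_f_rc_23_3 lc_f_rc_11_1 lc_f_rc_5_3 lc_f_rc_5_1 lc_f_rc_25_0 lc_f_rc_11_3 lc_f_rc_25_0 lc_f_rc_29_2 lc_f_rc_25_0 lc_f_rc_23_1 lc_f_rc_16_1 lc_f_rc_29_4 lc_f_rc_25_0 lc_f_rc_29_2 lc_f_rc_20_1 lc_f_rc_29_4 lc_f_rc_16_1 lc_f_rc_25_0 lc_f_rc_16_3 lc_f_rc_5_3 lc_f_rc_5_1 lc_f_rc_25_0 lc_f_rc_11_3 lc_f_rc_29_4 lc_f_rc_25_0 lc_f_rc_11_3 lc_f_rc_20_1 lc_f_rc_16_1 lc_f_rc_29_2 lc_f_Cert_tree lc_f_rc_25_0 lc_f_rc_31_7 lc_f_rc_29_4) (@D3.rec (fun _ => (Cert rels S Gen.f)) lc_f_rc_30_7 lc_f_rc_29_2 lc_f_rc_29_4 lc_f_rc_16_1 lc_f_rc_16_3 lc_f_rc_16_3 lc_f_rc_25_0 lc_f_rc_25_0 lc_f_rc_11_3 lc_f_rc_16_1 lc_f_rc_20_1 lc_f_rc_11_3 lc_f_rc_23_1 lc_f_rc_25_0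 lc_f_rc_20_3 lc_f_rc_5_3 lc_f_rc_29_2 lc_f_rc_16_1 lc_f_rc_11_3 lc_f_rc_20_1 lc_f_rc_29_4 lc_f_rc_11_3 lc_f_rc_16_3 lc_f_rc_25_0 lc_f_rc_11_3 lc_f_rc_25_0 lc_f_rc_16_1 lc_f_rc_5_1 lc_f_rc_16_1 lc_f_rc_23_1 lc_f_rc_5_1 lc_f_rc_11_3 lc_f_rc_5_1 lc_f_rc_16_1 lc_f_rc_29_2 lc_f_rc_11_3 lc_f_rc_20_3 lc_f_rc_16_1 lc_f_rc_29_2 lc_f_rc_23_1) (@D3.rec (fun _ => (Cert rels S Gen.f)) lc_f_rc_29_2 lc_f_rc_20_1 lc_f_rc_5_1 lc_f_rc_20_1 lc_f_rc_5_1 lc_f_rc_23_1 lc_f_rc_20_1 lc_f_rc_16_1 lc_f_rc_23_1 lc_f_rc_16_1 lc_f_rc_5_1 lc_f_rc_11_3 lc_f_rc_20_1 lc_f_rc_16_1 lc_f_rc_16_1 lc_f_rc_31_4 lc_f_rc_5_3 lc_f_rc_5_3 lc_f_rc_25_0 lc_f_rc_5_1 lc_f_rc_20_3 lc_f_rc_5_1 lc_f_rc_20_3 lc_f_rc_29_2 lc_f_rc_23_3 lc_f_rc_31_7 lc_f_rc_29_4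 lc_f_rc_25_0 lc_f_rc_16_1 lc_f_Cert_tree lc_f_rc_20_1 lc_f_rc_25_0 lc_f_rc_25_0 lc_f_Cert_tree lc_f_rc_5_3 lc_f_Cert_tree lc_f_rc_25_0 lc_f_Cert_tree lc_f_rc_5_3 lc_f_rc_20_3) (@D3.rec (fun _ => (Cert rels S Gen.f)) lc_f_rc_25_0 lc_f_rc_25_0 lc_f_rc_11_3 lc_f_rc_30_15 lc_f_rc_16_1 lc_f_rc_20_1 lc_f_rc_20_1 lc_f_rc_11_3 lc_f_rc_25_0 lc_f_rc_5_3 lc_f_rc_16_1 lc_f_rc_11_3 lc_f_rc_5_1 lc_f_rc_16_1 lc_f_rc_16_1 lc_f_Cert_tree lc_f_rc_31_4 lc_f_rc_25_0 lc_f_rc_16_3 lc_f_rc_23_3 lc_f_rc_25_0 lc_f_rc_20_1 lc_f_rc_11_1 lc_f_rc_16_1 lc_f_rc_25_0 lc_f_rc_25_0 lc_f_rc_11_3 lc_f_rc_30_7 lc_f_rc_5_3 lc_f_rc_31_7 lc_f_rc_29_4 lc_f_rc_5_1 lc_f_rc_29_4 lc_f_rc_20_1 lc_f_rc_20_1 lc_f_rc_29_2 lc_f_rc_11_5 lc_f_rc_26_6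 lc_f_Cert_tree lc_f_rc_25_0) (@D3.rec (fun _ => (Cert rels S Gen.f)) lc_f_rc_11_3 lc_f_rc_16_1 lc_f_rc_11_3 lc_f_rc_25_0 lc_f_rc_20_1 lc_f_Cert_tree lc_f_Cert_tree lc_f_rc_25_0 lc_f_rc_11_5 lc_f_rc_11_3 lc_f_rc_25_0 lc_f_rc_5_1 lc_f_rc_11_3 lc_f_rc_5_3 lc_f_rc_29_4 lc_f_Cert_tree lc_f_rc_25_0 lc_f_rc_29_4 lc_f_rc_16_3 lc_f_rc_25_0 lc_f_rc_5_1 lc_f_rc_26_6 lc_f_Cert_tree lc_f_rc_25_0 lc_f_rc_11_3 lc_f_rc_5_1 lc_f_rc_16_1 lc_f_rc_11_3 lc_f_rc_29_2 lc_f_rc_5_1 lc_f_rc_16_1 lc_f_rc_31_7 lc_f_rc_16_1 lc_f_rc_5_1 lc_f_rc_11_1 lc_f_rc_29_2 lc_f_rc_25_0 lc_f_rc_11_1 lc_f_rc_16_1 lc_f_rc_11_1) (@D3.rec (fun _ => (Cert rels S Gen.f)) lc_f_rc_11_3 lc_f_rc_16_3 lc_f_rc_25_0 lc_f_rc_26_2 lc_f_rc_23_1 lc_f_rc_25_0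 lc_f_Cert_tree lc_f_rc_16_1 lc_f_rc_25_0 lc_f_rc_11_3 lc_f_rc_26_6 lc_f_rc_25_0 lc_f_rc_31_4 lc_f_rc_11_3 lc_f_rc_20_1 lc_f_rc_5_1 lc_f_rc_16_1 lc_f_rc_5_1 lc_f_rc_30_3 lc_f_rc_5_1 lc_f_rc_31_4 lc_f_rc_20_1 lc_f_rc_11_1 lc_f_rc_5_1 lc_f_rc_29_4 lc_f_rc_25_0 lc_f_rc_23_1 lc_f_rc_20_1 lc_f_rc_16_1 lc_f_rc_5_1 lc_f_rc_11_1 lc_f_Cert_tree lc_f_rc_25_0 lc_f_Cert_tree lc_f_rc_25_0 lc_f_rc_29_2 lc_f_rc_11_3 lc_f_rc_5_1 lc_f_rc_16_1 lc_f_rc_20_3) (@D3.rec (fun _ => (Cert rels S Gen.f)) lc_f_rc_25_0 lc_f_rc_11_3 lc_f_rc_20_1 lc_f_rc_25_1 lc_f_rc_16_1 lc_f_rc_5_1 lc_f_rc_5_1 lc_f_Cert_tree lc_f_rc_5_1 lc_f_rc_5_3 lc_f_Cert_tree lc_f_rc_25_0 lc_f_rc_29_2 lc_f_rc_29_2 lc_f_rc_5_1 lc_f_rc_23_1 lc_f_rc_30_15 lc_f_rc_29_4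 lc_f_rc_5_3 lc_f_rc_31_10 lc_f_Cert_tree lc_f_rc_5_1 lc_f_rc_11_1 lc_f_rc_5_1 lc_f_rc_16_1 lc_f_rc_16_1 lc_f_rc_20_1 lc_f_rc_29_2 lc_f_rc_20_3 lc_f_rc_20_1 lc_f_rc_11_3 lc_f_rc_11_3 lc_f_rc_20_1 lc_f_rc_16_3 lc_f_rc_16_1 lc_f_rc_11_1 lc_f_rc_16_3 lc_f_rc_5_1 lc_f_rc_25_0 lc_f_rc_5_1) (@D3.rec (fun _ => (Cert rels S Gen.f)) lc_f_rc_20_1 lc_f_rc_5_1 lc_f_rc_16_1 lc_f_rc_25_0 lc_f_rc_20_1 lc_f_rc_16_1 lc_f_rc_29_4 lc_f_rc_16_1 lc_f_rc_29_4 lc_f_rc_25_0 lc_f_rc_25_0 lc_f_rc_11_1 lc_f_rc_29_2 lc_f_rc_29_4 lc_f_rc_16_3 lc_f_rc_11_3 lc_f_rc_25_0 lc_f_rc_20_1 lc_f_rc_31_1 lc_f_rc_20_1 lc_f_rc_29_2 lc_f_rc_29_4 lc_f_rc_16_3 lc_f_rc_25_0 lc_f_rc_23_1 lc_f_rc_5_1 lc_f_rc_16_1 lc_f_rc_5_1 lc_f_rc_29_2 lc_f_rc_5_1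 lc_f_rc_26_4 lc_f_rc_5_1 lc_f_rc_11_3 lc_f_rc_16_1 lc_f_rc_23_1 lc_f_rc_16_1 lc_f_rc_11_1 lc_f_rc_11_3 lc_f_rc_5_3 lc_f_rc_25_0) (@D3.rec (fun _ => (Cert rels S Gen.f)) lc_f_rc_26_2 lc_f_rc_20_3 lc_f_rc_25_0 lc_f_rc_16_3 lc_f_rc_16_1 lc_f_rc_26_6 lc_f_rc_20_1 lc_f_rc_25_0 lc_f_rc_11_1 lc_f_rc_20_1 lc_f_rc_20_1 lc_f_rc_16_1 lc_f_Cert_tree lc_f_rc_5_3 lc_f_rc_25_0 lc_f_rc_25_0 lc_f_rc_26_2 lc_f_rc_25_0 lc_f_rc_11_3 lc_f_rc_25_0 lc_f_rc_5_3 lc_f_rc_11_3 lc_f_rc_16_3 lc_f_rc_5_1 lc_f_rc_16_1 lc_f_rc_20_1 lc_f_Cert_tree lc_f_rc_5_3 lc_f_rc_25_0 lc_f_rc_25_0 lc_f_rc_16_1 lc_f_rc_30_15 lc_f_rc_20_1 lc_f_rc_20_1 lc_f_rc_20_1 lc_f_rc_16_1 lc_f_rc_5_1 lc_f_rc_20_1 lc_f_rc_26_4 lc_f_rc_23_1) (@D3.rec (fun _ =>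 (Cert rels S Gen.f)) lc_f_rc_5_1 lc_f_rc_29_4 lc_f_rc_5_3 lc_f_rc_25_0 lc_f_rc_16_1 lc_f_rc_16_1 lc_f_rc_11_3 lc_f_rc_16_1 lc_f_rc_16_1 lc_f_rc_16_1 lc_f_rc_25_0 lc_f_rc_23_1 lc_f_rc_11_1 lc_f_rc_16_1 lc_f_rc_20_1 lc_f_rc_16_1 lc_f_rc_5_1 lc_f_rc_16_3 lc_f_rc_11_1 lc_f_rc_5_1 lc_f_rc_5_3 lc_f_rc_16_1 lc_f_rc_25_0 lc_f_rc_26_2 lc_f_rc_11_3 lc_f_rc_20_1 lc_f_rc_25_0 lc_f_rc_25_0 lc_f_rc_16_1 lc_f_rc_16_1 lc_f_rc_11_1 lc_f_rc_11_1 lc_f_rc_16_1 lc_f_rc_5_3 lc_f_rc_16_1 lc_f_rc_5_1 lc_f_rc_16_1 lc_f_rc_25_0 lc_f_rc_16_1 lc_f_rc_20_1) (@D3.rec (fun _ => (Cert rels S Gen.f)) lc_f_rc_5_1 lc_f_rc_25_0 lc_f_rc_29_2 lc_f_rc_29_2 lc_f_rc_25_0 lc_f_rc_29_2 lc_f_rc_20_1 lc_f_rc_23_1 lc_f_rc_5_3 lc_f_rc_25_0 lc_f_rc_23_1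 lc_f_rc_5_1 lc_f_rc_16_1 lc_f_Cert_tree lc_f_rc_25_0 lc_f_rc_5_1 lc_f_rc_5_3 lc_f_rc_25_0 lc_f_rc_20_1 lc_f_rc_20_1 lc_f_rc_23_1 lc_f_rc_11_3 lc_f_rc_29_2 lc_f_rc_16_1 lc_f_rc_20_1 lc_f_rc_16_1 lc_f_rc_20_1 lc_f_Cert_tree lc_f_rc_25_0 lc_f_rc_23_1 lc_f_rc_16_1 lc_f_rc_29_4 lc_f_rc_25_0 lc_f_rc_25_0 lc_f_rc_11_3 lc_f_rc_25_0 lc_f_rc_20_3 lc_f_rc_30_3 lc_f_rc_25_0 lc_f_rc_11_3)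
def ce_f_21 : D2 → D3 → (Cert rels S Gen.f) := @D2.rec (fun _ => D3 → (Cert rels S Gen.f)) (@D3.rec (fun _ => (Cert rels S Gen.f)) lc_f_rc_30_15 lc_f_rc_16_1 lc_f_rc_25_0 lc_f_rc_25_0 lc_f_rc_25_0 lc_f_rc_20_1 lc_f_rc_25_0 lc_f_rc_26_2 lc_f_rc_25_0 lc_f_rc_20_3 lc_f_rc_20_1 lc_f_rc_11_1 lc_f_rc_25_0 lc_f_rc_20_1 lc_f_rc_16_1 lc_f_rc_25_0 lc_f_rc_26_2 lc_f_rc_16_1 lc_f_rc_25_0 lc_f_rc_20_1 lc_f_rc_25_0 lc_f_rc_20_1 lc_f_rc_25_0 lc_f_rc_25_0 lc_f_rc_29_4 lc_f_rc_25_0 lc_f_rc_16_1 lc_f_rc_16_1 lc_f_rc_16_1 lc_f_rc_16_1 lc_f_rc_20_1 lc_f_rc_16_1 lc_f_Cert_tree lc_f_rc_5_1 lc_f_rc_16_1 lc_f_rc_20_3 lc_f_rc_16_3 lc_f_rc_5_1 lc_f_rc_16_1 lc_f_rc_11_1) (@D3.rec (fun _ => (Cert rels S Gen.f)) lc_f_rc_29_2 lc_f_rc_23_3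 lc_f_rc_20_1 lc_f_rc_25_0 lc_f_rc_30_15 lc_f_rc_20_1 lc_f_rc_16_1 lc_f_Cert_tree lc_f_rc_25_0 lc_f_rc_29_2 lc_f_rc_23_1 lc_f_rc_16_1 lc_f_rc_23_1 lc_f_rc_11_1 lc_f_rc_11_3 lc_f_rc_29_4 lc_f_rc_29_2 lc_f_rc_5_3 lc_f_rc_25_0 lc_f_rc_20_1 lc_f_rc_29_2 lc_f_rc_25_0 lc_f_rc_26_4 lc_f_rc_16_1 lc_f_rc_29_2 lc_f_rc_25_0 lc_f_rc_16_1 lc_f_rc_25_0 lc_f_rc_16_1 lc_f_rc_23_1 lc_f_rc_11_3 lc_f_rc_20_1 lc_f_rc_29_2 lc_f_rc_25_0 lc_f_rc_20_1 lc_f_rc_16_1 lc_f_rc_23_1 lc_f_rc_30_15 lc_f_rc_11_3 lc_f_rc_11_1) (@D3.rec (fun _ => (Cert rels S Gen.f)) lc_f_rc_25_0 lc_f_rc_5_1 lc_f_rc_16_1 lc_f_rc_11_3 lc_f_rc_25_0 lc_f_rc_11_1 lc_f_rc_20_3 lc_f_rc_25_0 lc_f_rc_16_1 lc_f_rc_25_0 lc_f_rc_23_1 lc_f_rc_16_1 lc_f_rc_26_2 lc_f_rc_16_3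 lc_f_rc_11_1 lc_f_rc_5_1 lc_f_rc_29_2 lc_f_rc_26_2 lc_f_rc_25_0 lc_f_rc_20_1 lc_f_rc_25_0 lc_f_rc_11_3 lc_f_rc_20_1 lc_f_rc_11_3 lc_f_rc_25_0 lc_f_rc_25_0 lc_f_rc_25_0 lc_f_rc_20_1 lc_f_rc_11_3 lc_f_rc_29_2 lc_f_Cert_tree lc_f_rc_29_4 lc_f_rc_25_0 lc_f_Cert_tree lc_f_rc_25_0 lc_f_rc_16_1 lc_f_rc_25_0 lc_f_rc_29_2 lc_f_rc_29_2 lc_f_rc_25_0) (@D3.rec (fun _ => (Cert rels S Gen.f)) lc_f_rc_16_1 lc_f_rc_29_4 lc_f_rc_20_1 lc_f_rc_29_4 lc_f_rc_23_1 lc_f_rc_25_0 lc_f_rc_16_1 lc_f_rc_16_1 lc_f_rc_29_2 lc_f_rc_5_1 lc_f_rc_11_3 lc_f_rc_25_0 lc_f_rc_5_1 lc_f_rc_29_4 lc_f_rc_23_1 lc_f_rc_16_1 lc_f_rc_16_1 lc_f_rc_25_1 lc_f_rc_11_1 lc_f_rc_20_1 lc_f_rc_29_4 lc_f_rc_5_3 lc_f_rc_29_2 lc_f_rc_11_3 lc_f_rc_29_2 lc_f_rc_25_0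 lc_f_rc_31_7 lc_f_rc_25_0 lc_f_rc_11_3 lc_f_rc_5_1 lc_f_rc_25_0 lc_f_rc_11_3 lc_f_rc_26_2 lc_f_rc_16_1 lc_f_rc_25_0 lc_f_rc_16_1 lc_f_rc_25_0 lc_f_rc_25_0 lc_f_rc_31_13 lc_f_rc_11_3) (@D3.rec (fun _ => (Cert rels S Gen.f)) lc_f_rc_29_2 lc_f_rc_25_0 lc_f_rc_5_1 lc_f_rc_11_1 lc_f_rc_5_1 lc_f_rc_26_2 lc_f_rc_16_1 lc_f_rc_5_3 lc_f_rc_11_3 lc_f_rc_31_10 lc_f_rc_20_1 lc_f_rc_25_0 lc_f_rc_25_0 lc_f_rc_25_0 lc_f_rc_25_0 lc_f_rc_29_2 lc_f_rc_29_2 lc_f_rc_29_2 lc_f_rc_11_3 lc_f_rc_31_10 lc_f_rc_11_3 lc_f_rc_26_2 lc_f_rc_30_7 lc_f_rc_11_3 lc_f_rc_25_0 lc_f_rc_25_0 lc_f_rc_23_1 lc_f_rc_20_1 lc_f_rc_20_1 lc_f_rc_20_1 lc_f_rc_25_0 lc_f_rc_20_3 lc_f_rc_11_3 lc_f_rc_11_3 lc_f_rc_11_3 lc_f_rc_11_3 lc_f_rc_30_11 lc_f_rc_25_0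 lc_f_rc_29_4 lc_f_rc_25_0) (@D3.rec (fun _ => (Cert rels S Gen.f)) lc_f_rc_11_3 lc_f_rc_25_0 lc_f_rc_11_3 lc_f_rc_29_2 lc_f_rc_5_1 lc_f_rc_20_1 lc_f_rc_11_3 lc_f_rc_25_0 lc_f_rc_11_3 lc_f_rc_5_3 lc_f_rc_25_0 lc_f_rc_11_3 lc_f_rc_25_0 lc_f_rc_11_3 lc_f_rc_20_1 lc_f_rc_16_1 lc_f_rc_25_0 lc_f_rc_16_1 lc_f_rc_25_0 lc_f_rc_20_1 lc_f_rc_25_0 lc_f_rc_20_1 lc_f_rc_16_1 lc_f_rc_20_1 lc_f_rc_5_3 lc_f_rc_25_0 lc_f_rc_23_1 lc_f_rc_20_1 lc_f_rc_20_1 lc_f_rc_25_0 lc_f_rc_5_1 lc_f_rc_16_1 lc_f_rc_23_1 lc_f_rc_5_1 lc_f_rc_29_2 lc_f_rc_11_3 lc_f_rc_20_1 lc_f_rc_23_1 lc_f_rc_20_1 lc_f_rc_5_1) (@D3.rec (fun _ => (Cert rels S Gen.f)) lc_f_rc_25_0 lc_f_rc_11_1 lc_f_rc_16_1 lc_f_rc_25_0 lc_f_rc_5_1 lc_f_rc_23_1 lc_f_rc_16_3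 lc_f_rc_25_0 lc_f_rc_5_1 lc_f_Cert_tree lc_f_rc_25_0 lc_f_rc_20_1 lc_f_rc_5_1 lc_f_rc_31_7 lc_f_rc_11_3 lc_f_rc_16_1 lc_f_rc_23_1 lc_f_rc_11_1 lc_f_rc_25_0 lc_f_rc_5_1 lc_f_rc_20_1 lc_f_rc_20_1 lc_f_Cert_tree lc_f_rc_29_2 lc_f_rc_20_1 lc_f_Cert_tree lc_f_rc_25_0 lc_f_rc_5_3 lc_f_Cert_tree lc_f_rc_16_1 lc_f_rc_11_1 lc_f_rc_25_0 lc_f_rc_11_3 lc_f_rc_16_1 lc_f_Cert_tree lc_f_Cert_tree lc_f_rc_30_3 lc_f_rc_25_0 lc_f_rc_25_1 lc_f_rc_5_1) (@D3.rec (fun _ => (Cert rels S Gen.f)) lc_f_rc_16_1 lc_f_Cert_tree lc_f_rc_25_0 lc_f_rc_16_1 lc_f_rc_20_1 lc_f_rc_5_1 lc_f_rc_23_1 lc_f_rc_16_1 lc_f_rc_20_1 lc_f_rc_5_1 lc_f_rc_29_4 lc_f_rc_31_10 lc_f_rc_25_0 lc_f_rc_11_3 lc_f_rc_16_1 lc_f_rc_29_2 lc_f_rc_16_1 lc_f_rc_29_4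 lc_f_rc_25_0 lc_f_rc_16_1 lc_f_rc_29_4 lc_f_rc_11_1 lc_f_rc_23_1 lc_f_rc_11_3 lc_f_rc_29_4 lc_f_rc_16_1 lc_f_rc_5_3 lc_f_rc_20_1 lc_f_rc_25_0 lc_f_rc_26_6 lc_f_rc_16_1 lc_f_rc_16_1 lc_f_rc_16_1 lc_f_rc_16_1 lc_f_rc_11_3 lc_f_rc_16_1 lc_f_rc_26_6 lc_f_rc_16_1 lc_f_rc_16_1 lc_f_rc_16_1) (@D3.rec (fun _ => (Cert rels S Gen.f)) lc_f_rc_11_1 lc_f_rc_5_1 lc_f_rc_11_3 lc_f_rc_11_3 lc_f_rc_16_1 lc_f_rc_25_0 lc_f_rc_20_1 lc_f_rc_16_1 lc_f_rc_11_1 lc_f_rc_5_1 lc_f_rc_5_3 lc_f_Cert_tree lc_f_rc_25_0 lc_f_rc_11_3 lc_f_rc_5_1 lc_f_rc_20_1 lc_f_rc_16_1 lc_f_rc_5_1 lc_f_rc_16_1 lc_f_rc_5_1 lc_f_rc_5_3 lc_f_rc_25_1 lc_f_rc_20_1 lc_f_rc_11_1 lc_f_rc_16_1 lc_f_rc_25_0 lc_f_rc_16_3 lc_f_rc_5_1 lc_f_rc_16_1 lc_f_rc_20_1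 lc_f_rc_23_1 lc_f_rc_20_1 lc_f_rc_25_0 lc_f_rc_11_3 lc_f_rc_5_1 lc_f_rc_11_1 lc_f_rc_25_0 lc_f_rc_23_1 lc_f_rc_16_1 lc_f_rc_29_2) (@D3.rec (fun _ => (Cert rels S Gen.f)) lc_f_rc_16_1 lc_f_rc_16_1 lc_f_rc_25_0 lc_f_rc_5_3 lc_f_rc_16_1 lc_f_rc_25_0 lc_f_rc_31_4 lc_f_rc_25_0 lc_f_rc_25_0 lc_f_rc_20_1 lc_f_rc_5_1 lc_f_rc_26_0 lc_f_rc_11_3 lc_f_rc_16_1 lc_f_rc_25_0 lc_f_rc_11_1 lc_f_rc_29_2 lc_f_rc_25_0 lc_f_rc_5_1 lc_f_rc_16_1 lc_f_rc_20_1 lc_f_rc_11_3 lc_f_rc_5_1 lc_f_rc_20_1 lc_f_rc_25_1 lc_f_rc_25_1 lc_f_rc_5_3 lc_f_rc_16_3 lc_f_rc_11_3 lc_f_rc_25_0 lc_f_rc_20_1 lc_f_rc_11_3 lc_f_rc_16_3 lc_f_rc_23_1 lc_f_rc_25_0 lc_f_rc_5_3 lc_f_rc_16_1 lc_f_rc_5_1 lc_f_rc_20_1 lc_f_rc_5_1) (@D3.rec (fun _ => (Cert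 rels S Gen.f)) lc_f_rc_5_1 lc_f_rc_25_0 lc_f_rc_20_1 lc_f_rc_16_1 lc_f_rc_5_1 lc_f_rc_29_2 lc_f_rc_29_2 lc_f_rc_25_0 lc_f_rc_16_1 lc_f_rc_25_0 lc_f_rc_11_3 lc_f_rc_5_1 lc_f_rc_29_2 lc_f_rc_20_1 lc_f_rc_11_3 lc_f_rc_16_1 lc_f_rc_29_4 lc_f_rc_20_1 lc_f_rc_20_3 lc_f_rc_20_1 lc_f_rc_29_2 lc_f_rc_25_0 lc_f_rc_25_0 lc_f_rc_23_1 lc_f_rc_11_3 lc_f_rc_5_1 lc_f_rc_16_1 lc_f_rc_25_0 lc_f_rc_16_1 lc_f_rc_26_4 lc_f_rc_5_1 lc_f_rc_25_0 lc_f_rc_11_1 lc_f_rc_11_3 lc_f_rc_29_4 lc_f_rc_20_1 lc_f_rc_25_0 lc_f_rc_31_10 lc_f_rc_5_3 lc_f_rc_25_0) (@D3.rec (fun _ => (Cert rels S Gen.f)) lc_f_rc_25_0 lc_f_rc_29_2 lc_f_rc_11_3 lc_f_rc_30_11 lc_f_rc_23_1 lc_f_rc_25_0 lc_f_rc_25_0 lc_f_rc_29_2 lc_f_rc_25_0 lc_f_rc_11_3 lc_f_rc_11_3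 lc_f_rc_25_0 lc_f_rc_29_2 lc_f_rc_11_3 lc_f_rc_11_3 lc_f_rc_11_1 lc_f_rc_25_0 lc_f_rc_16_3 lc_f_rc_16_1 lc_f_rc_25_0 lc_f_rc_31_10 lc_f_rc_31_10 lc_f_rc_30_7 lc_f_rc_25_0 lc_f_rc_11_3 lc_f_rc_5_1 lc_f_rc_11_3 lc_f_rc_25_0 lc_f_rc_11_3 lc_f_rc_11_3 lc_f_rc_5_1 lc_f_rc_16_1 lc_f_rc_11_3 lc_f_rc_20_1 lc_f_rc_11_3 lc_f_rc_25_0 lc_f_rc_11_3 lc_f_rc_30_11 lc_f_rc_5_1 lc_f_rc_29_2) (@D3.rec (fun _ => (Cert rels S Gen.f)) lc_f_Cert_tree lc_f_rc_25_0 lc_f_rc_16_1 lc_f_rc_5_3 lc_f_rc_16_1 lc_f_Cert_tree lc_f_rc_25_0 lc_f_rc_11_3 lc_f_rc_23_3 lc_f_rc_5_3 lc_f_rc_25_0 lc_f_rc_11_1 lc_f_rc_25_0 lc_f_rc_25_0 lc_f_rc_25_0 lc_f_Cert_tree lc_f_rc_29_2 lc_f_rc_5_3 lc_f_rc_29_4 lc_f_rc_11_3 lc_f_rc_29_4 lc_f_rc_20_1 lc_f_rc_5_1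 lc_f_rc_29_2 lc_f_rc_11_3 lc_f_rc_11_3 lc_f_rc_29_2 lc_f_rc_16_1 lc_f_rc_29_4 lc_f_rc_11_3 lc_f_rc_25_0 lc_f_rc_25_0 lc_f_rc_25_0 lc_f_rc_29_2 lc_f_rc_25_0 lc_f_rc_20_1 lc_f_rc_5_1 lc_f_rc_11_3 lc_f_rc_16_1 lc_f_rc_20_1) (@D3.rec (fun _ => (Cert rels S Gen.f)) lc_f_rc_29_4 lc_f_rc_11_3 lc_f_rc_11_1 lc_f_rc_5_1 lc_f_rc_5_1 lc_f_rc_20_3 lc_f_rc_25_0 lc_f_rc_11_1 lc_f_rc_11_3 lc_f_rc_31_4 lc_f_rc_16_1 lc_f_rc_25_0 lc_f_rc_20_1 lc_f_rc_11_3 lc_f_rc_25_0 lc_f_rc_11_3 lc_f_rc_16_3 lc_f_rc_11_3 lc_f_rc_11_1 lc_f_rc_20_1 lc_f_rc_25_0 lc_f_rc_29_2 lc_f_rc_11_3 lc_f_rc_25_0 lc_f_rc_25_0 lc_f_rc_5_1 lc_f_rc_26_2 lc_f_rc_11_1 lc_f_rc_25_0 lc_f_rc_16_1 lc_f_rc_11_3 lc_f_rc_29_4 lc_f_rc_20_1 lc_f_rc_5_3 lc_f_rc_20_1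 lc_f_rc_20_1 lc_f_rc_5_1 lc_f_rc_25_0 lc_f_rc_11_3 lc_f_rc_25_0) (@D3.rec (fun _ => (Cert rels S Gen.f)) lc_f_rc_5_1 lc_f_rc_5_1 lc_f_rc_29_2 lc_f_rc_29_4 lc_f_rc_25_1 lc_f_rc_23_1 lc_f_rc_20_3 lc_f_rc_25_0 lc_f_Cert_tree lc_f_rc_25_0 lc_f_rc_25_0 lc_f_rc_16_1 lc_f_rc_25_0 lc_f_rc_29_4 lc_f_Cert_tree lc_f_rc_25_0 lc_f_rc_25_0 lc_f_rc_26_4 lc_f_rc_11_1 lc_f_rc_16_1 lc_f_rc_25_0 lc_f_rc_5_1 lc_f_Cert_tree lc_f_rc_11_3 lc_f_rc_11_3 lc_f_rc_16_1 lc_f_rc_26_6 lc_f_rc_16_1 lc_f_rc_29_4 lc_f_rc_29_4 lc_f_rc_16_1 lc_f_rc_20_3 lc_f_rc_29_2 lc_f_rc_25_0 lc_f_rc_29_2 lc_f_rc_25_0 lc_f_rc_20_3 lc_f_rc_25_0 lc_f_rc_5_1 lc_f_rc_23_1) (@D3.rec (fun _ => (Cert rels S Gen.f)) lc_f_rc_5_1 lc_f_rc_25_0 lc_f_rc_11_1 lc_f_rc_25_0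 lc_f_rc_5_1 lc_f_rc_25_0 lc_f_rc_25_0 lc_f_rc_11_1 lc_f_rc_20_1 lc_f_rc_20_1 lc_f_rc_29_2 lc_f_rc_16_1 lc_f_rc_16_1 lc_f_rc_29_2 lc_f_rc_29_4 lc_f_rc_29_2 lc_f_rc_29_4 lc_f_rc_5_1 lc_f_rc_29_2 lc_f_rc_29_2 lc_f_rc_25_0 lc_f_rc_29_4 lc_f_rc_25_0 lc_f_rc_25_0 lc_f_rc_5_1 lc_f_rc_20_1 lc_f_rc_25_0 lc_f_rc_11_3 lc_f_rc_11_3 lc_f_rc_16_1 lc_f_rc_20_1 lc_f_rc_20_3 lc_f_rc_20_1 lc_f_rc_25_0 lc_f_rc_20_1 lc_f_rc_29_4 lc_f_rc_11_3 lc_f_rc_11_3 lc_f_rc_11_3 lc_f_rc_11_3) (@D3.rec (fun _ => (Cert rels S Gen.f)) lc_f_rc_26_4 lc_f_rc_16_1 lc_f_rc_29_4 lc_f_rc_11_1 lc_f_rc_20_1 lc_f_rc_20_1 lc_f_rc_25_0 lc_f_rc_31_10 lc_f_rc_31_4 lc_f_rc_23_1 lc_f_rc_11_3 lc_f_rc_25_0 lc_f_rc_16_1 lc_f_rc_23_1 lc_f_rc_26_2 lc_f_rc_25_0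 lc_f_rc_11_3 lc_f_rc_29_4 lc_f_rc_5_1 lc_f_rc_31_4 lc_f_rc_25_0 lc_f_rc_5_1 lc_f_rc_5_1 lc_f_rc_11_1 lc_f_rc_5_1 lc_f_rc_16_1 lc_f_rc_5_3 lc_f_rc_16_3 lc_f_rc_25_0 lc_f_rc_25_0 lc_f_rc_25_0 lc_f_rc_20_1 lc_f_rc_20_1 lc_f_rc_25_0 lc_f_rc_5_1 lc_f_rc_30_15 lc_f_rc_16_1 lc_f_rc_23_1 lc_f_rc_5_1 lc_f_rc_5_1) (@D3.rec (fun _ => (Cert rels S Gen.f)) lc_f_rc_11_5 lc_f_rc_25_0 lc_f_rc_25_0 lc_f_rc_5_1 lc_f_rc_11_3 lc_f_rc_29_2 lc_f_rc_26_2 lc_f_rc_25_0 lc_f_rc_11_3 lc_f_rc_5_1 lc_f_rc_11_3 lc_f_rc_29_4 lc_f_rc_26_6 lc_f_rc_20_1 lc_f_rc_29_2 lc_f_rc_30_11 lc_f_rc_16_1 lc_f_rc_25_0 lc_f_rc_11_3 lc_f_rc_5_1 lc_f_rc_16_1 lc_f_rc_11_1 lc_f_rc_16_1 lc_f_rc_20_1 lc_f_rc_16_1 lc_f_rc_16_1 lc_f_rc_16_3 lc_f_rc_5_1 lc_f_rc_23_1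 lc_f_rc_16_1 lc_f_rc_20_1 lc_f_rc_11_3 lc_f_rc_23_1 lc_f_rc_25_0 lc_f_rc_25_0 lc_f_rc_11_3 lc_f_rc_20_1 lc_f_rc_16_1 lc_f_Cert_tree lc_f_rc_16_1) (@D3.rec (fun _ => (Cert rels S Gen.f)) lc_f_rc_11_3 lc_f_rc_25_0 lc_f_rc_29_4 lc_f_rc_5_1 lc_f_rc_16_3 lc_f_rc_25_0 lc_f_rc_20_1 lc_f_rc_23_1 lc_f_rc_20_1 lc_f_rc_23_1 lc_f_rc_5_1 lc_f_rc_16_1 lc_f_rc_11_3 lc_f_rc_20_1 lc_f_rc_23_1 lc_f_rc_11_3 lc_f_rc_20_1 lc_f_rc_23_1 lc_f_rc_11_3 lc_f_rc_16_1 lc_f_rc_5_3 lc_f_rc_11_3 lc_f_rc_11_1 lc_f_rc_16_3 lc_f_rc_25_0 lc_f_rc_11_3 lc_f_Cert_tree lc_f_rc_25_0 lc_f_rc_16_1 lc_f_rc_25_0 lc_f_rc_5_1 lc_f_rc_16_1 lc_f_rc_16_1 lc_f_rc_16_1 lc_f_rc_23_1 lc_f_rc_11_1 lc_f_rc_5_1 lc_f_rc_20_1 lc_f_rc_16_1 lc_f_rc_16_1) (@D3.rec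 (fun _ => (Cert rels S Gen.f)) lc_f_rc_20_1 lc_f_rc_5_1 lc_f_rc_11_3 lc_f_rc_25_0 lc_f_rc_11_1 lc_f_rc_20_1 lc_f_rc_23_1 lc_f_rc_20_1 lc_f_rc_20_1 lc_f_rc_20_1 lc_f_rc_5_1 lc_f_rc_5_1 lc_f_rc_5_1 lc_f_rc_16_1 lc_f_rc_29_2 lc_f_rc_5_1 lc_f_rc_5_1 lc_f_rc_31_4 lc_f_rc_20_1 lc_f_rc_29_2 lc_f_rc_16_1 lc_f_rc_23_1 lc_f_rc_20_1 lc_f_rc_20_1 lc_f_rc_20_1 lc_f_rc_25_0 lc_f_rc_30_15 lc_f_rc_11_3 lc_f_rc_25_0 lc_f_rc_30_11 lc_f_rc_25_0 lc_f_rc_25_0 lc_f_rc_11_3 lc_f_rc_30_15 lc_f_rc_25_0 lc_f_rc_5_1 lc_f_rc_25_0 lc_f_rc_16_1 lc_f_rc_11_3 lc_f_rc_23_1) (@D3.rec (fun _ => (Cert rels S Gen.f)) lc_f_rc_26_6 lc_f_rc_29_2 lc_f_rc_25_0 lc_f_rc_16_1 lc_f_rc_5_1 lc_f_rc_25_0 lc_f_rc_5_1 lc_f_rc_25_0 lc_f_rc_5_1 lc_f_rc_29_4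 lc_f_rc_25_0 lc_f_rc_29_4 lc_f_rc_25_0 lc_f_rc_11_3 lc_f_rc_26_2 lc_f_rc_29_4 lc_f_rc_5_1 lc_f_rc_25_1 lc_f_rc_5_1 lc_f_rc_29_4 lc_f_rc_16_1 lc_f_rc_16_1 lc_f_rc_25_0 lc_f_rc_31_4 lc_f_rc_11_3 lc_f_rc_11_3 lc_f_rc_5_1 lc_f_rc_23_1 lc_f_rc_16_1 lc_f_rc_20_1 lc_f_rc_20_1 lc_f_rc_20_1 lc_f_rc_20_1 lc_f_rc_29_2 lc_f_rc_5_1 lc_f_rc_5_1 lc_f_rc_25_0 lc_f_rc_25_0 lc_f_rc_11_3 lc_f_rc_11_3) (@D3.rec (fun _ => (Cert rels S Gen.f)) lc_f_rc_5_1 lc_f_rc_23_1 lc_f_rc_5_1 lc_f_Cert_tree lc_f_rc_11_1 lc_f_rc_25_0 lc_f_rc_5_1 lc_f_rc_29_2 lc_f_rc_25_0 lc_f_rc_5_1 lc_f_rc_25_0 lc_f_rc_29_2 lc_f_rc_29_2 lc_f_rc_16_1 lc_f_rc_20_1 lc_f_rc_16_1 lc_f_rc_20_1 lc_f_rc_29_2 lc_f_rc_20_1 lc_f_rc_29_4 lc_f_rc_16_1 lc_f_rc_29_4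 lc_f_rc_11_3 lc_f_rc_29_2 lc_f_rc_20_1 lc_f_rc_16_1 lc_f_rc_16_1 lc_f_rc_11_1 lc_f_rc_20_1 lc_f_rc_31_7 lc_f_rc_20_1 lc_f_rc_25_0 lc_f_rc_30_7 lc_f_rc_25_0 lc_f_rc_20_1 lc_f_rc_5_1 lc_f_rc_20_1 lc_f_rc_20_1 lc_f_rc_25_0 lc_f_rc_20_1) (@D3.rec (fun _ => (Cert rels S Gen.f)) lc_f_rc_5_1 lc_f_rc_11_1 lc_f_rc_25_0 lc_f_rc_29_2 lc_f_rc_23_1 lc_f_rc_16_1 lc_f_rc_16_1 lc_f_rc_20_1 lc_f_rc_5_1 lc_f_rc_23_1 lc_f_rc_25_0 lc_f_rc_25_0 lc_f_rc_11_3 lc_f_rc_11_3 lc_f_rc_25_1 lc_f_rc_29_2 lc_f_rc_5_3 lc_f_rc_25_0 lc_f_rc_11_1 lc_f_rc_16_1 lc_f_rc_25_0 lc_f_rc_5_3 lc_f_rc_31_7 lc_f_rc_20_1 lc_f_rc_31_7 lc_f_rc_11_3 lc_f_rc_25_0 lc_f_rc_25_0 lc_f_rc_11_3 lc_f_rc_16_1 lc_f_rc_16_1 lc_f_rc_20_1 lc_f_rc_11_3 lc_f_rc_5_1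 lc_f_rc_11_1 lc_f_rc_25_0 lc_f_rc_11_3 lc_f_rc_30_15 lc_f_rc_11_1 lc_f_rc_16_1) (@D3.rec (fun _ => (Cert rels S Gen.f)) lc_f_rc_5_1 lc_f_rc_29_2 lc_f_rc_23_1 lc_f_rc_29_2 lc_f_rc_25_0 lc_f_rc_23_1 lc_f_Cert_tree lc_f_rc_25_0 lc_f_rc_25_0 lc_f_rc_5_1 lc_f_rc_25_1 lc_f_rc_31_4 lc_f_rc_16_1 lc_f_rc_25_0 lc_f_rc_30_7 lc_f_rc_25_0 lc_f_rc_29_2 lc_f_rc_5_3 lc_f_rc_25_0 lc_f_rc_5_1 lc_f_rc_29_2 lc_f_rc_11_3 lc_f_rc_31_1 lc_f_rc_5_3 lc_f_rc_11_3 lc_f_rc_26_0 lc_f_rc_31_4 lc_f_rc_20_1 lc_f_rc_16_1 lc_f_rc_11_3 lc_f_rc_5_1 lc_f_rc_16_1 lc_f_rc_25_0 lc_f_rc_11_1 lc_f_rc_20_1 lc_f_rc_11_3 lc_f_rc_23_1 lc_f_rc_11_3 lc_f_rc_11_3 lc_f_rc_11_1) (@D3.rec (fun _ => (Cert rels S Gen.f)) lc_f_rc_11_1 lc_f_rc_11_3 lc_f_rc_11_3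 lc_f_rc_11_3 lc_f_rc_16_1 lc_f_rc_5_1 lc_f_rc_16_1 lc_f_rc_11_3 lc_f_rc_5_1 lc_f_rc_16_1 lc_f_rc_23_1 lc_f_rc_11_3 lc_f_rc_16_1 lc_f_rc_25_0 lc_f_rc_31_4 lc_f_rc_11_3 lc_f_rc_5_1 lc_f_rc_11_3 lc_f_rc_25_0 lc_f_rc_23_1 lc_f_rc_25_0 lc_f_rc_20_1 lc_f_rc_11_3 lc_f_rc_11_3 lc_f_rc_5_1 lc_f_rc_23_1 lc_f_rc_11_3 lc_f_rc_11_3 lc_f_rc_5_1 lc_f_rc_23_1 lc_f_rc_11_3 lc_f_rc_23_1 lc_f_rc_11_3 lc_f_rc_5_1 lc_f_rc_11_3 lc_f_rc_25_0 lc_f_rc_16_3 lc_f_rc_25_0 lc_f_rc_5_1 lc_f_rc_29_2) (@D3.rec (fun _ => (Cert rels S Gen.f)) lc_f_rc_11_3 lc_f_rc_25_0 lc_f_rc_29_2 lc_f_rc_5_1 lc_f_rc_11_3 lc_f_rc_16_1 lc_f_rc_11_3 lc_f_rc_29_2 lc_f_rc_25_1 lc_f_rc_5_1 lc_f_rc_31_7 lc_f_rc_26_2 lc_f_rc_16_1 lc_f_rc_11_3 lc_f_rc_23_1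 lc_f_rc_31_4 lc_f_rc_25_0 lc_f_rc_23_1 lc_f_rc_29_4 lc_f_rc_25_0 lc_f_rc_16_1 lc_f_rc_5_1 lc_f_rc_11_1 lc_f_rc_29_4 lc_f_rc_5_1 lc_f_rc_23_1 lc_f_rc_11_3 lc_f_rc_5_1 lc_f_rc_25_0 lc_f_rc_11_3 lc_f_rc_5_3 lc_f_rc_25_0 lc_f_rc_26_4 lc_f_rc_23_1 lc_f_rc_29_4 lc_f_rc_25_0 lc_f_rc_31_4 lc_f_rc_5_1 lc_f_rc_5_1 lc_f_rc_11_3)
def ce_f : Pt → (Cert rels S Gen.f) := @Pt.rec (fun _ => (Cert rels S Gen.f)) (@D1.rec (fun _ => D2 → D3 → (Cert rels S Gen.f)) ce_f_0 ce_f_1 ce_f_2 ce_f_3 ce_f_4 ce_f_5 ce_f_6 ce_f_7 ce_f_8 ce_f_9 ce_f_10 ce_f_11 ce_f_12 ce_f_13 ce_f_14 ce_f_15 ce_f_16 ce_f_17 ce_f_18 ce_f_19 ce_f_20 ce_f_21)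
def isSeed_f (p : Pt) : Bool := false

end

end Cfsg.Agent.Helper28.S1681
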