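import Cfsg.Agent.Lib.Helper28.S1681.Tree

set_option autoImplicit false
set_option maxRecDepth 100000
set_option linter.all false

namespace Cfsg.Agent.Helper28.S1681

open Cfsg.Agent.Helper28
open Cfsg.Spor.Suz (Gen)

noncomputable section

def lv_g_0 : D2 → D3 → Nat := @D2.rec (fun _ => D3 → Nat) (@D3.rec (fun _ => Nat) 1 2 3 4 0 5 0 0 0 1 6 0 0 4 1 0 0 0 1 1 2 0 0 0 1 0 0 4 1 0 2 0 0 0 1 0 1 1 4 6) (@D3.rec (fun _ => Nat) 0 0 4 1 0 0 0 1 0 1 2 2 0 0 0 5 1 5 1 0 3 9 0 1 72 71 72 0 0 1 0 0 1 0 1 6 5 1 5 7) (@D3.rec (fun _ => Nat) 0 8 7 7 0 0 1 0 0 4 1 10 7 0 0 0 0 1 0 1 0 1 3 4 1 7 8 13 0 0 0 0 1 0 6 1 0 6 1 0) (@D3.rec (fun _ => Nat) 2 0 4 10 0 1 72 4 0 14 12 1 11 73 73 0 0 1 60 1 7 6 0 0 1 0 1 7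 6 1 2 44 51 8 0 9 8 8 0 0) (@D3.rec (fun _ => Nat) 1 9 7 8 0 1 1 43 0 0 5 1 5 1 11 7 0 0 0 0 1 0 0 1 0 0 1 0 1 2 5 0 1 4 5 0 1 8 4 9) (@D3.rec (fun _ => Nat) 11 54 0 0 4 1 0 0 1 0 0 1 54 1 2 2 0 7 1 0 3 0 7 1 0 3 0 0 1 52 3 52 11 0 1 74 5 0 12 10) (@D3.rec (fun _ => Nat) 0 1 10 12 74 5 0 1 12 13 73 73 0 0 1 61 1 8 7 60 60 8 54 0 0 1 0 1 8 7 1 2 43 52 2 58 3 53 51 52) (@D3.rec (fun _ => Nat) 10 9 9 0 0 1 10 8 9 0 1 1 8 1 44 44 0 6 1 0 6 1 12 8 0 0 4 1 0 0 1 0 0 1 0 1 2 2 0 0) (@D3.rec (fun _ => Nat) 1 0 1 3 6 0 0 1 0 1 3 6 65 0 1 2 3 3 0 57 0 1 9 5 10 11 0 1 10 5 9 12 55 55 0 4 1 0 4 1) (@D3.rec (fun _ => Nat) 0 0 1 57 1 3 4 0 0 1 55 1 3 4 57 59 3 54 0 8 1 0 4 0 62 1 68 65 55 0 8 1 0 4 0 0 1 53 4 53)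 (@D3.rec (fun _ => Nat) 0 1 0 1 54 53 4 53 12 11 0 1 12 13 74 6 0 1 12 0 1 4 12 74 6 0 0 1 0 12 13 75 75 75 0 0 0 1 0 1) (@D3.rec (fun _ => Nat) 9 8 59 59 9 53 55 54 0 0 1 0 1 2 8 0 1 2 9 44 51 2 55 3 54 52 49 3 55 55 4 53 55 52 51 11 9 10 10 0) (@D3.rec (fun _ => Nat) 1 0 1 9 0 1 54 73 74 45 45 45 0 7 1 0 7 1 0 4 1 0 4 1 66 58 0 0 1 0 1 3 4 0 0 1 0 1 3 4) (@D3.rec (fun _ => Nat) 3 0 1 56 3 3 58 64 0 0 1 0 1 4 7 65 0 1 2 77 76 77 63 0 0 1 0 1 4 7 62 0 1 2 4 4 0 56 65 58) (@D3.rec (fun _ => Nat) 0 1 2 4 3 3 56 4 4 0 65 1 58 58 0 1 11 6 10 13 0 1 4 10 6 11 0 12 56 56 54 0 5 1 0 5 1 0 0 1) (@D3.rec (fun _ => Nat) 56 1 4 5 56 58 0 0 0 1 54 1 4 5 56 56 4 54 57 63 56 4 55 55 0 0 9 1 0 5 0 61 1 66 69 54 1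 52 0 0) (@D3.rec (fun _ => Nat) 1 0 2 0 0 1 52 5 52 0 1 0 1 55 50 5 50 105 105 1 0 1 4 55 54 50 5 53 53 13 0 0 1 5 14 76 7 7 0 0) (@D3.rec (fun _ => Nat) 1 12 1 5 12 5 57 104 76 0 115 1 55 1 103 106 0 1 13 15 76 76 76 75 75 0 0 0 1 0 1 0 1 2 9 0 1 65 10 45) (@D3.rec (fun _ => Nat) 54 58 53 58 59 0 4 1 0 1 2 2 0 0 1 2 3 3 0 0 0 1 2 56 3 10 45 53 51 53 3 56 56 4 54 55 49 52 4 64) (@D3.rec (fun _ => Nat) 60 0 55 5 55 56 57 101 102 54 12 10 11 11 0 0 1 0 1 51 28 56 1 102 56 54 46 46 46 46 0 8 1 0 8 1 0 5 1 66) (@D3.rec (fun _ => Nat) 58 0 5 1 63 57 0 0 1 0 1 4 5 1 58 57 67 0 0 0 1 0 1 4 5 4 0 1 57 4 4 57 61 4 110 1 57 4 4 55) (@D3.rec (fun _ => Nat) 60 0 0 0 1 0 1 5 8 67 0 1 2 77 76 77 64 68 1 2 3 3 57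 78 67 59 64 0 0 1 0 1 2 8 62 0 1 2 5 5) (@D3.rec (fun _ => Nat) 0 57 62 59 0 1 2 5 3 3 53 5 5 0 62 1 57 57 62 0 1 4 5 3 3 109 101 5 5 0 105 1 66 112 59 59 0 0 1 5) (@D3.rec (fun _ => Nat) 11 7 7 12 0 13 1 5 5 56 12 11 104 105 1 14 57 57 55 55 0 6 1 0 0 6 1 0 0 0 1 57 1 5 6 59 57 60 59 56) (@D3.rec (fun _ => Nat) 59 0 0 0 1 0 0 0 1 0 1 2 6 59 57 5 54 57 61 57 5 55 55 57 5 0 0 0 1 10 1 0 2 0 0 1 65 6 55 1) (@D3.rec (fun _ => Nat) 60 55 71 0 4 1 0 1 2 2 0 0 1 3 3 0 0 1 0 1 54 53 6 52 102 0 1 0 0 1 5 56 55 51 6 6 53 50 105 1)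
def lv_g_1 : D2 → D3 → Nat := @D2.rec (fun _ => D3 → Nat) (@D3.rec (fun _ => Nat) 5 5 56 52 105 55 14 13 0 0 1 1 6 14 6 54 103 76 76 0 8 0 0 0 1 52 1 101 6 12 111 110 57 113 1 57 101 0 1 13) (@D3.rec (fun _ => Nat) 14 77 77 77 77 76 0 0 4 1 0 0 1 0 1 2 2 0 1 3 10 0 0 1 2 3 3 0 0 62 1 57 65 11 46 54 56 57 58 61) (@D3.rec (fun _ => Nat) 57 57 60 0 0 0 1 0 2 3 0 1 2 4 3 3 0 0 0 1 0 1 2 4 3 3 0 0 4 3 4 0 0 1 0 0 1 0 1 4) (@D3.rec (fun _ => Nat) 3 55 55 4 11 46 0 53 55 54 53 4 62 57 0 58 5 5 56 56 57 101 52 51 51 5 114 47 108 27 1 57 55 56 111 113 111 47 102 13) (@D3.rec (fun _ => Nat) 11 28 0 12 0 53 1 0 1 104 0 1 54 53 51 109 105 47 0 47 0 0 9 1 0 0 1 0 2 0 6 1 68 59 0 6 1 63 59 0) (@D3.rec (fun _ =>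 Nat) 0 0 1 0 1 5 6 1 58 59 67 0 0 0 1 0 0 1 0 1 2 6 5 0 1 57 5 5 58 63 5 0 1 56 5 5 56 59 112 5) (@D3.rec (fun _ => Nat) 108 106 57 5 5 63 0 0 0 1 0 1 0 1 2 9 64 0 1 2 77 6 0 61 68 75 1 2 3 3 58 78 78 66 60 65 3 3 4 66) (@D3.rec (fun _ => Nat) 65 66 0 4 1 0 1 2 2 0 0 1 2 3 3 0 0 64 64 0 1 2 6 3 3 54 6 6 0 64 1 58 58 61 0 0 1 5 6 3) (@D3.rec (fun _ => Nat) 3 109 4 6 6 6 0 0 1 63 114 58 58 64 1 5 5 5 105 6 104 104 1 55 60 0 0 1 1 6 6 57 14 13 0 8 15 12 0 103) (@D3.rec (fun _ => Nat) 1 15 15 110 104 56 0 56 0 0 7 1 0 0 0 1 0 7 1 0 2 0 0 1 0 0 1 0 1 2 7 56 58 6 58 60 58 57 58 62) (@D3.rec (fun _ => Nat) 61 0 4 1 0 1 0 1 2 2 0 9 1 0 1 0 1 3 7 0 0 1 2 3 3 0 0 56 61 56 6 55 55 60 58 58 6 6 56 0) (@D3.rec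 (fun _ => Nat) 0 4 1 0 0 1 0 1 2 2 0 3 0 0 1 3 3 0 0 1 0 1 66 52 7 55 65 74 0 0 0 1 0 2 3 0 1 2 4 3) (@D3.rec (fun _ => Nat) 3 0 0 0 1 0 1 4 0 4 3 4 0 1 0 0 1 0 0 1 4 0 54 52 8 7 55 0 100 0 103 1 0 0 0 1 1 6 6 57) (@D3.rec (fun _ => Nat) 52 57 50 0 7 7 52 55 53 52 6 103 0 16 0 0 0 1 0 1 2 14 7 14 7 7 54 105 55 0 75 0 0 0 1 9 0 0 1 110) (@D3.rec (fun _ => Nat) 1 55 0 1 103 54 111 110 101 0 1 14 0 78 78 78 75 0 0 0 0 0 1 0 4 1 0 2 0 0 1 0 1 3 4 3 0 1 2 4) (@D3.rec (fun _ => Nat) 3 3 0 0 0 1 2 4 4 0 0 0 0 1 0 1 2 4 3 3 0 0 4 3 4 0 0 1 0 0 1 64 65 4 58 58 61 12 12 0) (@D3.rec (fun _ => Nat) 59 53 56 61 60 58 59 63 60 0 4 1 0 0 1 0 1 2 2 0 0 1 3 3 0 0 4 0 1 2 3 3 0 0 5 4 4 0 0 0) (@D3.rec (fun _ => Nat)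 1 0 0 0 1 0 0 1 2 0 0 1 4 5 4 3 3 0 0 4 3 4 0 1 0 0 0 1 0 5 4 0 5 5 0 0 1 3 0 1) (@D3.rec (fun _ => Nat) 2 0 0 1 0 1 4 1 5 5 5 0 4 62 58 0 57 58 5 47 95 0 0 1 55 56 56 0 56 54 56 5 5 116 46 58 29 0 1 59) (@D3.rec (fun _ => Nat) 58 0 57 6 54 56 56 113 57 109 99 48 51 102 0 54 54 110 113 107 12 30 0 0 1 0 55 0 1 109 107 1 104 108 108 1 2 56 54 54) (@D3.rec (fun _ => Nat) 105 0 0 0 0 1 0 0 0 1 10 1 0 2 0 4 1 0 1 2 2 0 1 3 0 0 7 1 65 60 0 0 1 0 2 65 60 0 0 0) (@D3.rec (fun _ => Nat) 1 0 1 0 1 2 7 0 1 59 6 60 64 0 0 4 1 0 0 0 1 0 1 2 2 0 1 0 1 3 6 0 0 1 2 3 3 0 0 6) (@D3.rec (fun _ => Nat) 0 1 60 6 6 59 63 0 6 0 108 1 57 58 6 6 6 56 60 112 110 105 58 6 63 0 0 4 1 0 0 1 0 1 2 2 0 1 3 10) (@D3.rec (fun _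 => Nat) 0 0 1 2 3 3 0 0 65 64 0 1 2 76 3 3 55 79 7 0 64 1 59 62 69 3 3 4 4 78 65 66 67 66 4 65 0 0 1 0) (@D3.rec (fun _ => Nat) 2 3 0 1 2 4 3 3 0 0 0 1 0 1 2 4 3 3 0 0 4 3 4 0 0 1 0 0 1 64 0 64 0 0 1 4 7 3 3 4) (@D3.rec (fun _ => Nat) 4 55 0 7 9 7 0 0 1 63 64 59 59 63 64 0 0 0 1 1 6 7 6 111 111 4 110 5 103 7 7 0 7 7 0 0 100 1 58 1)
def lv_g_2 : D2 → D3 → Nat := @D2.rec (fun _ => D3 → Nat) (@D3.rec (fun _ => Nat) 103 113 59 59 59 0 0 0 1 0 1 2 7 7 7 56 0 16 0 0 0 1 9 17 0 101 102 0 1 0 17 0 0 0 0 1 0 0 0 1) (@D3.rec (fun _ => Nat) 0 8 1 0 2 0 0 4 1 0 0 0 1 0 1 2 2 8 1 0 3 0 1 3 0 4 1 0 1 2 2 0 1 0 1 79 8 0 0 1) (@D3.rec (fun _ => Nat) 2 3 3 0 0 59 59 59 7 56 59 61 61 60 59 4 1 0 80 0 1 3 4 3 0 1 2 4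 3 3 0 80 1 0 2 0 1 81 8 0) (@D3.rec (fun _ => Nat) 0 1 2 4 4 0 0 0 0 1 0 1 2 4 3 3 0 0 4 3 4 0 0 1 0 0 1 58 58 61 59 8 7 56 56 0 59 60 59 0) (@D3.rec (fun _ => Nat) 7 7 57 0 0 0 1 0 4 1 0 2 0 1 0 1 3 4 3 0 1 2 4 3 3 0 0 0 1 4 4 0 0 0 1 0 1 4 0 4) (@D3.rec (fun _ => Nat) 3 4 0 1 0 63 1 0 1 4 0 75 55 8 57 0 0 61 0 67 4 1 0 1 0 1 2 2 0 0 1 90 89 88 0 4 0 1 2 3) (@D3.rec (fun _ => Nat) 3 0 0 5 4 4 0 0 0 1 0 0 1 0 0 1 2 0 0 1 4 5 0 0 0 1 0 5 4 0 5 5 0 0 1 10 0 0 0 1) (@D3.rec (fun _ => Nat) 0 1 2 0 0 1 1 5 5 0 0 0 0 1 56 55 0 97 9 52 54 0 0 1 100 0 103 1 0 0 0 0 1 0 1 0 1 2 7 7) (@D3.rec (fun _ => Nat) 7 58 96 55 53 0 0 0 0 1 8 55 8 52 0 103 55 55 0 0 0 1 18 0 0 4 1 0 0 1 1 2 2 0 1 3 14 3 3 0) (@D3.rec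 (fun _ => Nat) 0 109 8 56 8 8 56 102 102 104 105 1 76 0 100 4 1 99 109 1 0 1 2 77 76 0 1 0 0 1 2 100 103 57 55 0 1 103 99 0) (@D3.rec (fun _ => Nat) 0 1 0 0 0 1 79 0 79 79 99 0 0 1 0 4 1 0 0 1 0 1 0 1 2 2 0 0 5 1 0 3 0 0 1 3 3 0 0 1) (@D3.rec (fun _ => Nat) 0 1 9 5 4 0 1 2 5 4 4 0 0 4 0 1 2 3 3 0 0 5 4 4 0 0 0 1 0 0 1 0 1 2 5 3 3 0 0 5) (@D3.rec (fun _ => Nat) 4 5 0 0 1 0 0 1 0 0 0 1 0 0 1 2 0 0 1 4 5 4 3 3 0 0 4 3 4 0 1 0 0 0 1 0 5 4 0 5) (@D3.rec (fun _ => Nat) 5 0 0 1 3 0 1 2 0 0 1 0 1 4 63 63 5 0 60 59 0 58 62 61 0 13 0 1 57 60 0 71 71 55 62 59 59 60 71 69) (@D3.rec (fun _ => Nat) 0 4 1 0 11 0 0 0 1 0 1 11 4 3 0 1 2 4 3 3 0 0 0 1 0 1 4 0 4 3 4 0 1 0 0 0 1 0 5 0) (@D3.rec (fun _ => Nat) 0 1 11 4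 3 3 0 4 3 4 0 1 90 90 0 1 0 6 5 5 5 0 3 0 1 11 0 1 0 1 4 4 1 0 0 0 1 1 2 2) (@D3.rec (fun _ => Nat) 0 0 0 1 0 0 1 2 3 3 10 0 0 1 1 5 6 6 5 5 0 0 5 4 4 0 0 0 1 0 0 5 1 0 5 4 6 5 5 0) (@D3.rec (fun _ => Nat) 1 10 4 1 104 100 0 1 0 1 2 0 0 0 1 7 6 5 0 9 0 1 6 6 0 0 0 1 5 0 1 2 0 4 0 1 2 3 3 0) (@D3.rec (fun _ => Nat) 0 0 0 1 0 0 1 2 0 0 1 5 0 6 6 6 0 6 5 6 0 1 5 62 0 57 0 0 0 1 57 0 58 98 98 96 89 0 1 0) (@D3.rec (fun _ => Nat) 1 6 55 57 0 57 0 0 0 1 55 0 53 0 6 114 48 59 111 29 0 1 0 59 0 0 100 0 1 59 66 96 53 57 110 58 112 114 108 47) (@D3.rec (fun _ => Nat) 0 101 101 0 102 98 1 53 53 109 109 0 30 118 106 1 110 1 119 0 1 107 55 0 1 107 104 0 108 2 3 3 0 109 56 56 56 0 0 1) (@D3.rec (fun _ => Nat) 96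 0 4 1 0 0 1 1 2 0 0 4 1 0 0 1 0 1 2 2 0 3 0 1 3 0 0 99 0 1 0 102 3 1 2 4 3 0 0 1) (@D3.rec (fun _ => Nat) 4 96 3 1 80 1 0 2 66 61 98 4 1 0 1 2 2 0 0 1 3 3 0 65 61 0 97 4 1 0 1 0 1 2 2 0 1 3 79 0) (@D3.rec (fun _ => Nat) 0 1 2 3 3 0 0 0 1 62 7 63 66 97 0 1 96 95 4 1 105 101 0 0 0 1 101 1 0 1 3 4 3 0 1 2 4 3 3 0) (@D3.rec (fun _ => Nat) 0 1 4 79 0 0 1 2 4 4 0 0 0 0 1 0 1 2 4 3 3 0 106 4 3 106 0 0 1 0 0 1 0 7 0 0 1 4 58 105) (@D3.rec (fun _ => Nat) 7 9 7 58 0 65 110 1 8 7 0 0 108 1 58 110 59 59 7 7 96 7 7 58 62 63 0 0 0 1 4 1 0 2 75 1 0 1 3 4)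
def lv_g_3 : D2 → D3 → Nat := @D2.rec (fun _ => D3 → Nat) (@D3.rec (fun _ => Nat) 3 0 1 2 4 3 3 0 0 0 1 2 4 4 0 0 0 0 1 0 1 2 4 3 3 0 0 4 3 4 0 0 1 0 0 1 66 0 66 0) (@D3.rec (fun _ => Nat) 1 4 69 3 3 4 4 56 0 79 8 0 0 1 65 66 60 63 0 68 4 4 5 5 99 80 66 67 68 67 79 76 4 1 0 1 2 2 0 0) (@D3.rec (fun _ => Nat) 1 3 3 0 0 4 0 1 2 3 3 0 0 5 4 4 0 0 0 1 0 0 0 1 0 0 1 2 0 1 4 5 4 3 3 0 0 4 3 4) (@D3.rec (fun _ => Nat) 114 1 0 0 0 1 0 102 4 0 5 0 0 1 3 114 1 2 0 0 1 114 1 4 0 66 0 0 0 1 66 0 0 1 1 5 8 5 5 0) (@D3.rec (fun _ => Nat) 0 4 4 0 5 5 5 0 56 0 103 0 1 8 0 9 9 0 0 1 0 0 1 2 65 66 0 60 60 60 0 63 0 0 0 0 1 0 1 0) (@D3.rec (fun _ => Nat) 1 2 7 7 7 7 7 5 112 0 6 115 98 99 0 96 97 98 1 8 8 102 0 0 1 101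 1 55 100 113 60 0 61 60 0 0 4 1 0 0) (@D3.rec (fun _ => Nat) 1 1 2 2 1 3 3 3 0 8 8 8 57 0 0 0 1 18 95 0 4 1 99 102 1 100 1 2 17 0 0 0 1 101 100 0 1 0 0 0) (@D3.rec (fun _ => Nat) 1 17 0 0 1 0 4 1 0 0 1 1 2 0 4 1 0 1 0 1 2 2 9 1 0 3 0 1 3 0 0 88 1 0 4 1 0 2 0 0) (@D3.rec (fun _ => Nat) 0 1 0 1 0 1 3 4 3 1 2 4 3 0 0 4 0 0 1 94 92 0 0 1 4 0 3 1 0 80 3 0 1 2 4 3 3 0 0 1) (@D3.rec (fun _ => Nat) 81 9 0 0 1 2 81 81 0 0 0 0 1 0 1 2 4 3 3 0 0 4 3 4 0 0 1 0 0 1 58 60 60 8 57 60 62 60 61 60) (@D3.rec (fun _ => Nat) 0 82 0 56 1 91 89 89 4 0 1 2 5 4 4 0 0 4 0 1 2 3 3 0 103 5 4 4 0 0 0 1 0 2 0 0 1 99 101 97) (@D3.rec (fun _ => Nat) 0 0 1 2 97 95 95 0 104 0 1 0 1 2 5 3 3 0 98 98 4 103 0 0 1 0 0 1 99 0 0 1 100 0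 1 2 0 0 1 5) (@D3.rec (fun _ => Nat) 4 3 3 0 0 4 3 4 0 1 0 105 0 1 106 5 4 0 103 5 0 1 3 0 1 2 0 0 1 0 1 4 96 58 0 63 58 58 98 9) (@D3.rec (fun _ => Nat) 0 57 57 57 0 0 101 0 1 59 60 0 65 98 0 97 96 1 8 8 0 58 4 1 0 1 0 1 2 2 0 5 1 0 3 0 0 1 90 91) (@D3.rec (fun _ => Nat) 84 0 1 9 5 4 0 1 2 5 4 4 0 0 4 0 1 2 3 3 0 0 5 4 4 0 0 0 1 0 0 1 0 1 5 0 5 4 5 0) (@D3.rec (fun _ => Nat) 1 0 0 1 0 0 1 2 0 0 1 4 5 0 0 0 1 0 5 4 0 5 5 0 0 1 11 0 0 0 1 63 2 1 5 5 0 0 0 0) (@D3.rec (fun _ => Nat) 1 68 0 57 0 0 1 0 0 0 1 62 0 0 0 1 76 0 11 0 1 86 88 1 2 3 13 0 1 1 15 3 87 13 0 0 1 0 5 0) (@D3.rec (fun _ => Nat) 0 1 7 4 3 3 12 4 3 4 0 1 13 0 0 1 0 6 5 5 5 0 3 0 1 11 0 1 0 1 4 4 1 1 2 2 0 78 1 0) (@D3.rec (fun _ => Nat)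 1 2 12 3 10 0 0 1 1 5 6 6 5 0 15 0 1 4 1 12 1 2 106 86 1 6 5 0 14 0 1 98 6 0 0 102 1 5 1 2) (@D3.rec (fun _ => Nat) 11 11 0 0 0 4 1 0 0 0 1 1 2 2 1 3 3 0 99 93 99 1 0 1 2 6 6 103 0 0 5 1 102 0 4 1 107 0 0 1) (@D3.rec (fun _ => Nat) 0 1 2 54 103 0 1 100 96 100 10 55 0 0 102 104 1 0 1 6 0 98 1 2 0 0 0 4 1 0 0 1 0 0 1 1 2 2 0 1) (@D3.rec (fun _ => Nat) 3 65 1 3 3 3 0 8 8 8 97 59 100 0 0 105 100 4 1 0 107 1 0 0 1 0 1 2 9 54 0 99 55 0 106 0 1 105 55 55) (@D3.rec (fun _ => Nat) 0 1 1 1 0 0 0 0 1 1 2 91 1 1 3 9 4 3 3 95 1 4 4 4 97 0 0 4 3 4 119 0 1 0 102 1 111 9 58 0) (@D3.rec (fun _ => Nat) 9 9 9 58 0 104 100 3 103 2 98 96 98 0 1 4 0 101 110 0 3 3 0 1 2 0 78 0 0 0 1 2 0 0 1 104 1 2 4 3) (@D3.rec (fun _ =>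 Nat) 3 0 115 114 59 0 57 59 0 1 4 100 0 99 0 0 0 1 0 1 100 0 1 0 4 1 1 2 103 80 94 0 0 1 80 80 97 99 0 93) (@D3.rec (fun _ => Nat) 4 1 1 2 97 4 1 0 12 99 0 1 0 1 13 4 0 1 3 73 3 0 1 2 4 3 3 0 0 0 0 1 6 1 0 2 0 0 1 4)
def lv_g_4 : D2 → D3 → Nat := @D2.rec (fun _ => D3 → Nat) (@D3.rec (fun _ => Nat) 4 0 0 0 1 0 1 4 0 4 3 4 0 1 100 1 10 6 0 1 2 10 92 90 0 5 0 1 2 3 3 0 0 6 5 5 0 0 0 1) (@D3.rec (fun _ => Nat) 0 1 0 5 0 0 1 12 4 3 3 0 4 3 4 0 1 0 1 0 6 5 5 5 0 3 0 1 12 0 1 0 1 4 0 1 0 0 1 2) (@D3.rec (fun _ => Nat) 0 0 1 10 6 4 3 3 0 0 4 3 4 0 1 0 1 0 93 5 0 6 6 0 0 1 3 0 1 2 0 0 1 0 1 4 4 1 0 0) (@D3.rec (fun _ => Nat) 0 1 1 2 2 0 0 0 1 0 0 1 2 3 3 11 0 0 0 1 1 65 6 6 5 0 0 5 4 4 0 0 0 1 0 0 5 1 0 5)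 (@D3.rec (fun _ => Nat) 4 6 5 5 0 1 11 4 1 104 0 0 1 0 1 2 0 0 0 1 7 6 5 0 9 0 1 0 6 95 0 0 0 1 5 1 2 0 4 0) (@D3.rec (fun _ => Nat) 1 2 3 3 0 0 0 0 1 0 0 1 2 0 0 1 5 0 66 66 0 0 5 1 61 0 60 0 0 0 1 60 0 64 0 0 1 91 1 6) (@D3.rec (fun _ => Nat) 58 0 61 0 0 0 1 70 0 72 72 63 62 71 60 61 0 94 5 1 0 89 11 0 1 14 12 13 96 0 0 0 1 0 1 0 1 12 5 0) (@D3.rec (fun _ => Nat) 1 2 12 76 73 15 4 0 1 2 10 3 0 16 5 4 4 4 6 0 1 13 0 14 1 0 0 1 9 0 1 12 5 13 87 13 1 90 5 4) (@D3.rec (fun _ => Nat) 6 5 0 0 1 1 0 1 1 61 0 0 0 1 7 6 98 11 98 1 1 12 12 61 0 5 4 4 12 56 1 0 5 4 5 5 0 0 1 16) (@D3.rec (fun _ => Nat) 4 97 90 1 2 0 0 0 1 6 7 45 6 6 8 6 0 0 1 5 4 0 1 13 11 11 0 0 1 0 0 1 13 5 2 10 11 1 0 1) (@D3.rec (fun _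 => Nat) 1 2 77 13 3 3 3 8 0 4 1 0 0 0 1 1 2 2 91 0 1 1 3 3 3 0 13 4 3 4 12 0 1 0 1 60 6 6 7 6) (@D3.rec (fun _ => Nat) 6 94 0 0 7 6 6 56 0 0 1 6 0 6 1 0 6 5 5 5 0 3 0 1 0 1 0 1 4 0 3 1 0 111 7 1 5 2 0 0) (@D3.rec (fun _ => Nat) 0 1 7 6 5 0 8 0 6 6 0 0 1 55 11 11 3 14 15 0 100 0 0 1 85 11 0 1 13 0 4 1 0 0 0 1 95 1 2 96) (@D3.rec (fun _ => Nat) 8 7 6 0 0 0 1 9 9 0 1 7 11 102 0 0 1 0 1 96 95 1 2 0 7 95 1 2 3 3 0 13 0 11 1 0 5 0 0 1) (@D3.rec (fun _ => Nat) 4 4 3 3 4 3 4 0 1 112 8 1 0 109 112 1 1 2 0 0 0 1 0 1 2 3 0 0 1 1 6 0 14 0 1 7 7 0 95 0) (@D3.rec (fun _ => Nat) 0 1 0 7 6 7 7 0 1 58 0 64 0 0 0 1 60 60 0 0 4 1 0 0 0 1 1 2 0 0 0 1 60 105 96 91 96 93 91 0) (@D3.rec (fun _ => Nat) 103 93 1 94 0 1 8 0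 0 58 0 0 0 1 59 58 0 0 4 1 106 0 0 1 1 2 0 0 0 1 56 97 97 1 104 48 0 64 111 31) (@D3.rec (fun _ => Nat) 0 0 1 0 0 0 1 61 0 0 102 101 1 0 0 0 1 101 99 1 59 98 99 59 112 0 58 114 101 0 113 49 0 0 0 1 102 104 102 101) (@D3.rec (fun _ => Nat) 0 0 102 1 103 55 120 110 119 0 1 32 118 108 108 108 3 119 109 109 117 0 1 5 109 0 0 1 4 109 112 0 106 0 1 114 3 3 0 4) (@D3.rec (fun _ => Nat) 4 0 1 105 0 56 57 0 4 1 1 2 4 1 0 1 1 4 63 0 0 97 0 0 1 4 1 0 101 77 1 0 1 3 4 3 1 2 4 3) (@D3.rec (fun _ => Nat) 0 0 0 1 4 4 0 1 4 3 1 4 1 1 2 0 1 110 0 0 2 3 3 0 96 0 0 0 1 0 1 2 0 92 0 0 10 0 2 0) (@D3.rec (fun _ => Nat) 0 1 3 3 0 67 62 0 97 3 0 1 4 3 3 0 0 1 0 1 4 103 4 3 4 0 1 67 62 0 1 0 1 3 93 3 0 1 2 4) (@D3.rec (fun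 _ => Nat) 3 3 0 0 0 1 2 4 4 0 0 0 0 1 0 1 2 4 3 3 0 106 4 3 4 0 0 1 0 0 1 0 1 4 64 8 63 0 66 1) (@D3.rec (fun _ => Nat) 97 98 0 13 1 0 97 1 90 1 92 101 0 4 4 0 1 2 5 4 4 101 0 4 1 2 3 3 0 106 5 4 0 0 0 1 0 95 1 2) (@D3.rec (fun _ => Nat) 97 97 97 0 1 1 2 5 3 3 0 4 99 102 1 101 0 1 1 0 0 1 2 0 1 4 5 4 3 3 0 0 4 3 4 0 1 106 105 104) (@D3.rec (fun _ => Nat) 4 0 104 104 0 1 3 0 1 2 0 0 1 0 1 4 97 1 8 0 0 1 1 5 5 0 59 100 100 8 108 9 8 60 105 0 1 65 110 97)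
def lv_g_5 : D2 → D3 → Nat := @D2.rec (fun _ => D3 → Nat) (@D3.rec (fun _ => Nat) 1 0 1 2 99 110 60 98 97 8 8 0 0 64 0 4 1 0 1 0 1 2 2 0 3 0 0 1 3 3 0 0 70 4 75 1 2 5 4 4) (@D3.rec (fun _ => Nat) 0 0 4 0 1 2 3 3 0 0 5 4 4 0 0 0 1 0 1 1 2 5 3 3 0 94 4 83 0 1 0 0 1 0 0 0 1 0 0 1) (@D3.rec (fun _ => Nat) 2 0 1 4 5 4 3 3 0 0 4 3 4 113 1 0 0 0 1 0 5 4 0 5 0 0 1 3 0 1 2 0 0 1 0 1 4 0 67 0) (@D3.rec (fun _ => Nat) 0 0 1 66 1 5 68 5 5 0 0 4 4 0 5 5 5 0 57 0 0 0 1 81 0 0 1 0 0 1 2 65 66 0 68 64 64 0 0 1) (@D3.rec (fun _ => Nat) 69 79 5 5 6 0 6 101 101 0 80 77 67 68 69 117 69 0 107 3 0 1 2 4 3 3 0 0 0 1 1 4 0 102 3 104 1 0 0 0) (@D3.rec (fun _ => Nat) 1 0 1 7 4 3 3 0 106 3 115 108 1 93 93 95 1 5 5 0 3 116 1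 11 0 1 119 1 4 0 4 1 0 0 0 1 1 2 2 0) (@D3.rec (fun _ => Nat) 0 1 0 1 2 3 3 10 1 5 100 6 5 5 0 0 4 4 4 0 0 0 1 0 0 19 1 0 114 4 18 112 10 0 4 1 0 101 0 1) (@D3.rec (fun _ => Nat) 0 1 2 100 0 1 107 5 0 9 0 1 0 105 1 5 0 1 2 0 2 3 3 0 0 104 0 1 107 1 103 113 0 0 0 0 1 66 98 4) (@D3.rec (fun _ => Nat) 1 0 1 1 2 0 0 1 0 1 2 6 9 6 6 0 95 105 6 5 6 0 0 1 0 1 0 5 5 5 0 102 0 1 6 0 6 0 0 0) (@D3.rec (fun _ => Nat) 1 57 101 4 1 105 103 1 2 100 0 1 101 8 101 0 1 106 104 1 2 103 0 1 107 1 2 6 3 0 65 65 66 66 0 112 0 1 61 117) (@D3.rec (fun _ => Nat) 61 0 0 1 65 91 0 0 4 1 0 1 1 1 2 2 0 1 99 1 99 102 3 101 96 101 8 8 8 0 6 112 0 0 0 106 1 7 98 99) (@D3.rec (fun _ => Nat) 0 107 95 97 95 3 1 98 108 2 100 9 98 99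 1 99 98 1 98 99 58 106 0 67 0 0 114 0 0 1 62 0 0 1 99 1 2 1 1 3) (@D3.rec (fun _ => Nat) 9 4 3 3 4 4 101 102 97 4 3 4 104 1 103 0 9 102 9 59 0 0 0 4 1 0 0 1 1 2 95 96 0 4 1 0 92 3 3 0) (@D3.rec (fun _ => Nat) 0 102 1 109 102 1 0 1 4 107 102 0 1 4 0 0 4 1 96 0 1 1 2 4 1 1 2 4 1 91 89 0 0 1 1 4 58 0 82 1) (@D3.rec (fun _ => Nat) 0 2 0 1 3 81 3 1 2 4 3 0 0 86 0 0 1 4 85 0 0 1 4 0 3 1 84 1 100 2 98 0 5 1 0 1 3 102 0 0) (@D3.rec (fun _ => Nat) 0 1 0 1 1 5 0 1 4 83 1 2 4 0 2 3 3 0 0 0 0 1 0 0 1 94 92 0 99 0 1 1 90 96 94 4 0 1 0 1) (@D3.rec (fun _ => Nat) 2 0 0 1 0 8 80 59 1 82 80 80 0 4 0 1 2 3 3 0 101 5 4 4 0 0 0 1 1 2 81 81 0 1 0 1 2 82 3 3) (@D3.rec (fun _ => Nat) 85 97 81 81 85 0 1 0 85 1 99 0 0 1 101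 0 1 2 0 0 1 5 4 3 3 0 0 4 3 4 0 1 0 105 0 1 100 5 4 0) (@D3.rec (fun _ => Nat) 5 5 0 1 3 0 1 2 0 0 1 0 1 4 0 61 61 61 0 62 61 61 64 0 63 62 120 63 1 82 1 82 1 2 3 3 0 5 0 0) (@D3.rec (fun _ => Nat) 0 1 1 0 5 0 1 7 4 3 3 0 4 3 4 0 1 106 101 6 5 5 0 3 0 1 9 0 1 0 1 4 1 3 1 1 3 101 1 1) (@D3.rec (fun _ => Nat) 2 3 3 89 83 98 0 0 0 1 1 100 0 1 102 94 4 3 3 110 102 4 3 4 106 1 5 0 102 103 0 1 3 0 1 2 104 0 1 0) (@D3.rec (fun _ => Nat) 1 4 4 1 1 2 2 98 0 1 99 89 91 8 0 1 1 6 0 0 5 4 4 55 0 0 1 99 0 83 1 0 5 4 55 5 5 0 1 8) (@D3.rec (fun _ => Nat) 1 105 0 1 98 111 6 5 0 9 0 1 100 105 0 1 56 0 4 0 1 2 3 91 0 102 0 97 1 0 0 1 89 112 0 1 5 0 96 60) (@D3.rec (fun _ => Nat) 0 0 108 1 63 0 61 98 10 0 109 110 1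 58 0 58 0 1 0 0 0 1 1 59 105 0 0 1 65 102 3 106 0 104 1 2 9 0 0 102) (@D3.rec (fun _ => Nat) 1 59 0 12 0 1 3 77 1 2 3 14 0 0 1 0 2 0 0 1 86 4 0 0 1 61 1 84 3 87 83 94 1 2 10 95 93 0 5 0) (@D3.rec (fun _ => Nat) 1 2 3 3 0 0 6 5 5 0 0 0 1 14 0 0 1 0 5 0 0 1 8 4 3 3 13 4 3 4 0 1 14 0 0 1 0 6 5 5)
def lv_g_6 : D2 → D3 → Nat := @D2.rec (fun _ => D3 → Nat) (@D3.rec (fun _ => Nat) 5 0 3 0 1 12 0 1 0 1 4 0 1 92 0 1 2 0 0 1 10 6 0 0 1 94 6 5 0 6 6 0 0 1 12 4 1 1 2 2) (@D3.rec (fun _ => Nat) 0 76 1 0 0 1 2 13 88 11 0 0 1 1 5 6 6 5 0 16 0 1 4 1 84 1 2 0 84 1 7 6 5 0 84 86 1 6 6 0) (@D3.rec (fun _ => Nat) 0 0 1 5 1 2 12 12 0 0 0 4 1 0 0 0 1 1 2 2 3 0 6 6 6 0 0 5 1 102 0 4 1 0 0 0 1 0 1 2) (@D3.rec (fun _ => Nat)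 0 1 0 0 0 1 0 1 6 0 0 4 1 0 0 0 1 1 2 103 0 4 1 0 0 0 1 1 2 0 1 12 14 65 1 84 86 85 0 2) (@D3.rec (fun _ => Nat) 109 12 15 1 12 13 0 0 0 1 1 14 0 0 0 1 6 0 1 1 8 8 8 0 12 5 4 4 12 0 5 4 112 118 0 1 17 90 97 0) (@D3.rec (fun _ => Nat) 1 1 14 88 106 91 1 7 6 12 6 114 0 0 1 11 4 0 1 11 0 0 1 0 0 1 5 11 3 13 98 1 2 1 3 90 88 90 13 88) (@D3.rec (fun _ => Nat) 12 90 12 99 91 1 0 1 12 6 7 6 0 99 0 0 0 1 17 107 1 15 14 88 102 99 0 6 0 0 55 1 11 86 88 1 97 95 98 98) (@D3.rec (fun _ => Nat) 0 1 102 1 112 100 0 2 3 3 0 12 12 113 1 1 0 0 4 1 0 2 0 1 0 1 1 3 4 56 4 3 0 4 4 0 3 1 0 2) (@D3.rec (fun _ => Nat) 1 94 3 101 0 7 103 0 0 105 1 0 1 59 102 110 0 4 1 113 102 107 0 0 1 0 1 4 3 1 106 113 103 101 0 1 4 98 0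 54) (@D3.rec (fun _ => Nat) 0 0 104 1 102 106 1 104 0 1 0 0 1 99 2 3 0 0 103 0 1 0 1 0 1 0 0 1 1 3 0 0 1 1 3 92 107 4 3 3) (@D3.rec (fun _ => Nat) 105 1 4 99 0 4 4 4 99 4 3 4 0 1 9 0 9 9 9 96 102 60 0 0 1 109 111 112 1 107 4 109 106 0 107 1 107 3 102 0) (@D3.rec (fun _ => Nat) 1 0 1 3 0 1 54 0 104 1 102 106 0 1 106 0 1 4 105 0 57 94 0 1 2 18 1 0 1 1 1 2 94 3 3 0 93 4 10 4) (@D3.rec (fun _ => Nat) 4 4 10 10 0 0 4 4 4 0 97 97 96 5 113 96 99 108 4 108 110 96 0 1 0 0 0 1 111 118 4 0 5 0 3 0 1 98 102 1) (@D3.rec (fun _ => Nat) 4 0 113 10 0 58 0 0 0 1 10 118 10 61 0 0 1 98 102 102 105 0 4 98 98 100 0 1 2 102 109 1 107 110 112 105 1 114 116 109) (@D3.rec (fun _ => Nat) 1 2 3 109 109 1 0 0 0 1 111 0 1 114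 1 2 3 0 101 103 101 1 105 109 1 2 116 4 4 3 3 112 107 3 1 0 111 112 102 59) (@D3.rec (fun _ => Nat) 0 107 0 1 57 0 59 1 109 112 0 0 0 1 100 0 1 0 0 0 1 1 91 1 0 1 95 88 1 2 17 101 91 103 0 81 101 4 101 104) (@D3.rec (fun _ => Nat) 0 1 1 2 81 91 99 1 93 91 0 104 0 12 0 1 16 13 14 0 1 14 92 0 1 2 14 77 98 4 0 1 2 5 4 4 0 16 4 0) (@D3.rec (fun _ => Nat) 1 2 11 3 0 17 5 4 4 4 6 0 1 101 0 4 1 0 1 97 1 2 2 0 3 0 0 1 89 3 88 0 0 1 0 1 5 0 5 4) (@D3.rec (fun _ => Nat) 5 0 1 16 1 0 0 1 9 0 0 1 14 5 14 1 92 5 4 6 107 107 0 0 1 101 100 11 88 97 1 2 98 3 11 93 88 90 92 0) (@D3.rec (fun _ => Nat) 0 1 0 0 1 96 4 3 3 0 4 3 4 0 1 0 0 1 6 6 6 0 3 0 1 13 0 1 0 1 4 1 57 0 0 0 1 7 6 0) (@D3.rec (fun _ => Nat) 1 1 13 13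 61 0 5 4 4 1 0 5 4 5 5 0 0 1 17 1 84 0 0 0 1 6 7 6 8 6 0 0 1 5 4 0 1 13 0 0) (@D3.rec (fun _ => Nat) 1 0 0 1 15 5 2 1 2 72 97 0 1 1 2 3 3 12 0 0 1 1 11 91 11 95 0 0 5 4 4 0 0 0 1 7 1 0 5 4) (@D3.rec (fun _ => Nat) 8 5 5 0 0 1 12 0 1 80 94 97 1 6 0 10 0 1 95 98 8 96 0 1 0 1 2 0 4 0 1 2 3 3 0 0 1 0 0 1) (@D3.rec (fun _ => Nat) 2 0 0 1 11 5 0 10 82 0 1 0 0 1 1 2 77 14 3 3 3 8 4 1 0 0 1 1 2 2 0 87 1 1 3 3 3 0 14 4) (@D3.rec (fun _ => Nat) 3 4 13 0 0 0 0 1 0 1 1 2 6 64 7 67 64 0 0 58 0 0 1 6 0 6 1 0 6 5 5 5 0 3 0 1 0 1 0 1) (@D3.rec (fun _ => Nat) 4 0 3 1 0 0 7 1 5 2 0 0 0 1 7 6 5 0 8 0 6 6 0 0 1 58 12 12 3 15 16 102 0 100 0 1 0 1 85 12)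
def lv_g_7 : D2 → D3 → Nat := @D2.rec (fun _ => D3 → Nat) (@D3.rec (fun _ => Nat) 0 1 14 4 1 101 0 1 90 1 2 0 92 7 6 0 0 0 1 9 9 0 1 0 0 94 0 1 95 7 93 99 1 0 1 71 1 2 0 2) (@D3.rec (fun _ => Nat) 3 3 0 14 0 12 1 0 5 0 0 1 68 4 3 3 4 3 4 0 1 0 8 1 0 0 112 1 1 2 0 0 0 1 0 0 1 2 3 0) (@D3.rec (fun _ => Nat) 0 0 1 1 6 0 15 0 1 0 65 66 0 1 0 0 1 59 0 62 0 0 0 1 61 61 0 0 4 1 0 0 0 1 1 2 0 0 0 1) (@D3.rec (fun _ => Nat) 93 0 1 1 79 93 89 0 0 0 61 0 0 0 1 62 62 0 0 4 1 0 0 0 1 1 2 0 0 0 1 73 63 0 62 72 61 0 62 94) (@D3.rec (fun _ => Nat) 6 1 0 1 101 72 12 0 1 16 13 14 97 97 82 1 98 0 1 1 6 97 1 13 90 1 97 77 97 0 1 2 90 97 13 77 102 103 71 15) (@D3.rec (fun _ => Nat) 5 0 1 3 12 99 83 1 14 6 5 5 6 6 0 1 13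 85 1 57 0 1 0 1 57 9 1 13 6 60 57 92 87 92 90 98 6 5 96 6) (@D3.rec (fun _ => Nat) 0 0 1 1 90 94 1 63 93 0 4 1 100 0 0 1 1 2 8 96 12 13 13 61 13 61 57 1 0 6 5 5 5 98 54 0 106 58 1 7) (@D3.rec (fun _ => Nat) 6 5 0 0 0 0 1 1 2 16 96 98 93 52 101 4 1 101 0 99 1 1 2 7 46 7 0 0 1 0 1 7 8 0 5 0 0 1 4 88) (@D3.rec (fun _ => Nat) 90 0 90 1 0 0 1 2 1 1 14 6 62 88 4 10 84 2 96 1 107 99 96 3 3 0 0 15 4 4 4 10 0 0 4 1 61 91 0 0) (@D3.rec (fun _ => Nat) 0 1 0 1 1 3 4 7 4 3 1 4 4 0 59 4 58 4 110 1 14 66 5 4 5 5 118 0 0 1 61 1 61 7 61 59 103 104 7 7) (@D3.rec (fun _ => Nat) 94 0 0 58 0 101 1 64 106 0 1 104 7 7 7 0 3 58 0 1 0 1 5 92 0 110 6 1 0 0 0 1 6 7 0 6 6 8 6 0) (@D3.rec (fun _ => Nat) 0 0 1 4 110 1 106 1 108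 0 1 8 5 0 108 1 0 110 0 1 113 113 0 2 5 0 0 4 1 0 0 0 1 0 1 2 0 8 7 6) (@D3.rec (fun _ => Nat) 57 1 10 0 0 0 0 1 7 12 7 0 1 1 57 60 60 0 12 12 3 66 15 87 1 100 0 1 0 0 1 89 0 13 0 1 15 0 0 4) (@D3.rec (fun _ => Nat) 1 0 96 103 0 0 1 0 1 97 1 4 3 91 51 95 0 0 1 54 0 1 111 1 4 11 109 11 113 0 1 112 99 12 0 103 0 1 105 0) (@D3.rec (fun _ => Nat) 1 99 96 97 1 2 0 2 100 103 102 48 93 49 1 0 8 94 95 4 4 3 4 91 4 0 1 14 0 109 110 1 90 0 88 1 6 0 0 1) (@D3.rec (fun _ => Nat) 1 97 5 5 0 5 4 4 5 4 112 110 117 0 1 114 10 67 109 109 1 109 111 2 3 69 107 4 1 109 0 0 1 1 2 2 1 81 0 4) (@D3.rec (fun _ => Nat) 0 0 0 1 0 1 13 7 116 0 0 1 109 109 1 0 93 0 1 1 99 1 59 1 8 8 0 1 60 59 59 11 105 112 1 64 111 4 1 0) (@D3.rec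 (fun _ => Nat) 0 113 1 1 2 0 59 0 0 1 0 0 4 1 84 82 0 0 1 0 1 1 4 60 0 0 4 1 0 0 1 1 2 95 105 94 0 97 93 89) (@D3.rec (fun _ => Nat) 1 105 95 94 1 8 0 48 0 1 109 110 1 59 110 4 1 112 0 110 1 1 2 0 60 0 0 1 109 0 4 1 48 2 112 108 0 0 1 1) (@D3.rec (fun _ => Nat) 4 55 0 0 4 1 0 0 1 1 2 0 103 49 114 115 1 64 112 31 0 0 0 1 110 1 101 0 4 1 101 0 1 1 2 0 0 1 0 0) (@D3.rec (fun _ => Nat) 104 1 103 2 0 0 111 1 101 0 1 1 103 103 111 0 115 110 0 102 1 59 0 115 0 113 0 1 113 47 101 103 4 1 0 103 1 1 2 116) (@D3.rec (fun _ => Nat) 102 104 102 102 0 110 0 102 1 99 100 1 105 118 120 3 119 113 119 111 1 5 32 118 118 108 108 110 110 108 0 0 4 119 116 111 107 109 0 119) (@D3.rec (fun _ => Nat) 111 0 1 4 4 0 111 113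 111 1 1 5 114 111 116 0 1 114 0 1 114 120 110 4 4 114 0 1 0 5 5 5 0 0 1 14 0 0 118 1) (@D3.rec (fun _ => Nat) 59 117 1 64 0 1 14 64 103 116 1 0 4 1 0 1 1 2 0 108 0 1 110 0 0 70 4 77 1 2 5 4 4 0 2 3 3 0 0 0) (@D3.rec (fun _ => Nat) 0 1 1 1 5 4 85 1 82 0 0 11 99 21 0 1 99 18 104 1 13 1 4 3 3 12 4 3 105 106 1 16 0 3 113 1 11 115 1 119) (@D3.rec (fun _ => Nat) 1 4 1 2 88 12 3 10 11 111 1 93 12 1 14 113 1 11 118 0 3 0 1 4 3 3 0 0 1 90 1 4 103 97 3 94 91 1 92 63)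
def lv_g_8 : D2 → D3 → Nat := @D2.rec (fun _ => D3 → Nat) (@D3.rec (fun _ => Nat) 0 0 1 97 101 99 4 0 1 5 4 4 1 0 0 1 86 1 5 89 103 0 95 4 94 96 1 8 1 95 4 75 1 2 5 4 4 94 0 4) (@D3.rec (fun _ => Nat) 0 1 2 3 3 0 108 5 4 4 0 0 0 1 0 1 1 2 5 3 0 108 4 82 0 1 0 1 1 0 0 1 2 0 1 4 5 4 3 3) (@D3.rec (fun _ => Nat) 0 0 4 3 4 0 1 108 107 5 4 0 104 0 0 1 3 0 1 2 0 0 1 0 1 4 1 5 5 0 64 65 0 0 1 68 95 80 1 97) (@D3.rec (fun _ => Nat) 1 90 93 1 5 1 2 96 91 96 103 98 1 7 4 3 3 4 3 4 0 1 108 106 0 3 0 1 0 1 0 1 4 1 2 102 5 92 1 10) (@D3.rec (fun _ => Nat) 3 3 103 107 4 0 1 94 3 103 107 98 0 1 4 2 1 0 1 86 82 105 1 5 6 5 100 5 4 4 96 0 0 1 101 0 100 1 4 103) (@D3.rec (fun _ => Nat) 5 105 1 8 58 0 102 104 56 56 1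 104 106 5 1 2 4 107 1 2 3 3 104 0 0 97 1 1 0 0 1 5 0 0 0 1 1 6 6 102) (@D3.rec (fun _ => Nat) 5 1 107 100 101 9 105 102 102 1 6 2 1 97 99 100 103 110 100 107 99 9 98 103 1 98 101 1 64 4 1 0 101 0 1 3 4 3 0 1) (@D3.rec (fun _ => Nat) 2 4 3 3 0 0 0 1 4 4 0 0 0 1 1 4 0 104 3 103 1 0 80 1 82 84 78 0 2 3 3 0 98 0 0 0 1 98 0 90) (@D3.rec (fun _ => Nat) 1 5 0 1 8 4 3 3 0 112 3 117 1 93 92 91 1 6 5 5 0 3 110 1 12 0 1 1 4 0 1 2 71 4 3 3 0 0 3 86) (@D3.rec (fun _ => Nat) 1 97 95 0 85 3 84 1 2 0 1 1 4 0 4 1 0 0 0 1 1 2 2 0 0 1 0 1 2 3 3 11 1 5 6 6 5 5 0 0) (@D3.rec (fun _ => Nat) 4 4 4 0 0 0 1 0 0 21 1 0 5 4 19 5 112 11 0 4 1 0 0 0 1 0 1 2 0 0 1 101 5 0 9 0 1 0 0 1) (@D3.rec (fun _ => Nat) 5 0 1 2 0 112 114 1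 2 3 3 0 0 104 0 1 105 0 1 105 112 1 0 0 1 0 4 1 0 0 0 1 1 2 6 68 6 6 0 0) (@D3.rec (fun _ => Nat) 105 6 5 6 0 0 1 0 1 0 5 5 5 0 0 0 1 6 0 6 0 1 0 4 1 103 103 0 1 1 2 0 1 0 0 1 2 103 0 1) (@D3.rec (fun _ => Nat) 0 1 2 6 3 0 67 67 68 68 0 0 0 1 69 0 65 0 1 1 100 80 6 0 6 0 116 0 118 1 7 101 101 0 1 78 68 0 67 0) (@D3.rec (fun _ => Nat) 117 114 117 70 21 1 21 19 14 1 2 15 99 82 15 4 98 17 55 1 19 0 17 1 1 16 92 19 109 22 1 4 17 110 1 1 1 1 104 8) (@D3.rec (fun _ => Nat) 8 0 57 12 0 1 0 105 117 12 3 92 2 6 108 0 0 1 5 13 103 11 0 1 102 2 95 4 1 10 11 67 1 0 1 1 100 4 96 3) (@D3.rec (fun _ => Nat) 3 3 8 0 1 1 2 65 1 3 3 3 0 20 85 3 100 12 6 101 6 6 100 105 7 6 6 0 0 0 1 83 0 6 1 0 106 3 108 1) (@D3.rec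 (fun _ => Nat) 113 1 1 4 3 1 1 2 106 0 1 11 3 103 4 1 18 22 63 1 102 102 0 1 4 11 109 1 14 99 0 0 1 61 6 0 0 0 1 9) (@D3.rec (fun _ => Nat) 10 109 1 106 1 6 107 111 0 7 1 2 3 3 0 20 0 104 1 4 3 3 68 3 109 1 17 1 104 1 109 107 11 1 4 1 0 0 1 1) (@D3.rec (fun _ => Nat) 2 100 100 1 99 95 0 1 1 2 99 1 3 7 7 0 97 0 1 97 7 6 0 7 109 0 1 3 1 2 1 4 0 104 1 6 0 6 0 102) (@D3.rec (fun _ => Nat) 4 1 104 1 2 0 0 1 4 1 103 0 1 1 2 103 99 103 60 0 99 0 100 1 103 105 103 106 105 1 2 2 6 100 107 1 103 107 108 66) (@D3.rec (fun _ => Nat) 8 4 3 0 3 1 67 108 0 67 114 68 0 112 4 1 114 1 2 118 112 116 100 1 1 101 89 0 1 1 99 91 1 95 93 3 1 99 104 102) (@D3.rec (fun _ => Nat) 0 103 115 9 9 112 0 114 1 7 114 114 121 104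 0 3 1 0 1 106 1 2 97 98 101 1 93 97 97 98 95 105 101 105 100 100 105 100 102 60) (@D3.rec (fun _ => Nat) 102 0 119 115 1 67 119 1 0 116 0 119 1 114 114 0 1 1 91 1 1 2 90 3 3 3 0 4 10 4 10 10 102 96 4 4 111 107 108 105) (@D3.rec (fun _ => Nat) 110 101 107 103 113 113 104 105 0 116 116 1 10 109 108 59 0 1 107 102 1 108 4 1 112 2 0 1 1 4 105 94 96 95 106 1 116 116 115 1) (@D3.rec (fun _ => Nat) 103 112 10 0 1 0 1 110 102 113 0 1 4 106 103 102 0 1 5 110 103 100 1 98 4 1 98 93 96 96 1 4 93 96 61 0 0 1 1 81)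
def lv_g_9 : D2 → D3 → Nat := @D2.rec (fun _ => D3 → Nat) (@D3.rec (fun _ => Nat) 59 102 60 59 59 0 0 1 100 2 0 1 3 106 4 1 2 5 4 0 2 3 3 0 0 0 0 1 1 85 0 1 86 1 5 90 4 85 83 1) (@D3.rec (fun _ => Nat) 0 1 2 0 84 1 0 9 100 3 99 6 1 1 86 7 1 0 1 1 6 1 83 88 85 1 2 5 102 2 3 3 0 0 0 0 1 4 3 3) (@D3.rec (fun _ => Nat) 55 58 3 115 0 1 3 118 1 9 0 1 0 1 4 101 0 1 1 90 92 92 5 0 1 1 117 8 89 92 92 106 96 1 104 1 2 85 10 3) (@D3.rec (fun _ => Nat) 8 0 1 10 1 90 12 0 1 9 0 61 82 1 0 5 0 0 1 8 4 3 3 0 4 3 4 0 1 106 100 6 5 5 5 0 3 0 1 10) (@D3.rec (fun _ => Nat) 0 1 0 1 4 2 81 96 1 2 0 85 1 3 3 3 98 0 3 4 98 98 81 83 87 85 85 85 1 85 83 1 85 4 1 1 2 2 102 0) (@D3.rec (fun _ => Nat) 0 1 101 90 92 9 0 1 1 6 0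 0 5 4 4 82 84 0 1 99 0 84 1 0 5 4 5 5 0 1 9 1 103 0 1 100 102 7 6 5) (@D3.rec (fun _ => Nat) 0 9 0 1 6 0 0 1 56 86 4 0 1 2 109 89 83 104 0 97 1 0 0 1 0 0 1 5 0 0 0 110 1 62 0 62 0 0 0 1) (@D3.rec (fun _ => Nat) 63 0 62 0 119 0 121 1 64 0 120 117 120 64 96 85 4 3 3 3 105 104 1 3 102 1 1 105 1 4 1 6 1 8 9 8 8 0 5 4) (@D3.rec (fun _ => Nat) 4 10 0 1 114 5 4 119 121 0 1 94 87 7 6 0 8 110 1 5 4 120 1 11 9 9 0 0 1 0 0 1 5 2 93 3 3 3 108 4) (@D3.rec (fun _ => Nat) 3 91 92 87 90 1 85 0 1 1 89 9 1 88 113 104 104 4 4 4 84 112 104 0 5 4 113 5 106 106 90 1 105 117 105 1 87 112 112 1) (@D3.rec (fun _ => Nat) 2 102 104 0 0 1 0 0 1 113 105 3 9 100 1 101 101 0 3 91 89 0 1 100 7 96 0 0 1 6 0 6 1 0 6 5 5 5 109 3) (@D3.rec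 (fun _ => Nat) 57 1 1 4 78 0 79 1 0 0 0 1 7 6 5 54 0 6 6 0 1 57 64 9 3 0 1 109 6 0 59 1 0 1 107 109 105 1 56 56) (@D3.rec (fun _ => Nat) 56 0 85 0 85 1 0 5 0 0 1 98 4 91 89 89 1 0 104 89 1 0 110 111 1 114 0 1 93 114 110 114 1 6 0 9 0 1 88 109) (@D3.rec (fun _ => Nat) 3 1 111 1 2 0 0 117 1 0 1 109 0 0 0 1 101 0 1 108 0 1 0 1 1 0 105 102 0 0 0 1 1 96 104 4 104 106 96 104) (@D3.rec (fun _ => Nat) 1 3 0 0 1 107 0 102 1 103 0 1 13 15 0 1 2 4 4 15 2 109 13 16 100 4 1 97 1 2 2 0 0 1 92 3 91 86 0 1) (@D3.rec (fun _ => Nat) 0 1 60 86 87 4 5 0 1 1 62 13 90 95 2 96 3 11 91 93 93 0 0 1 95 6 0 97 1 4 3 3 14 4 3 4 0 1 0 0) (@D3.rec (fun _ => Nat) 1 93 7 6 6 6 3 0 1 13 0 1 0 1 4 14 0 0 0 1 1 15 0 0 0 1 7 6 0 0 0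 1 1 9 9 9 0 13 5 4) (@D3.rec (fun _ => Nat) 4 13 0 5 4 5 119 0 1 90 87 0 0 1 1 15 91 0 88 1 6 7 74 6 6 8 6 0 0 0 1 12 4 0 1 12 0 0 1 0) (@D3.rec (fun _ => Nat) 0 1 5 1 2 76 1 92 14 3 12 0 0 1 1 11 7 97 95 17 0 1 86 1 84 6 99 86 0 1 0 7 7 104 0 1 1 2 13 13) (@D3.rec (fun _ => Nat) 0 98 78 1 2 0 0 1 1 3 92 90 91 14 0 1 0 1 61 6 6 7 7 6 6 0 101 0 0 0 1 18 1 16 102 86 1 0 0 8) (@D3.rec (fun _ => Nat) 7 6 0 0 56 1 12 95 7 7 0 0 1 104 1 6 0 1 2 0 2 3 3 0 13 115 1 0 1 0 0 4 1 0 2 0 0 0 1 0) (@D3.rec (fun _ => Nat) 1 1 4 68 4 3 0 0 3 1 7 7 0 0 7 6 7 0 1 0 1 56 100 104 0 0 4 1 113 103 109 106 0 1 0 1 1 4 3 1) (@D3.rec (fun _ => Nat) 108 115 0 1 4 102 0 1 0 0 1 0 1 7 95 1 0 0 1 0 0 4 1 66 104 0 0 0 1 0 1 1 4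 68 0 101 103 0 95 4) (@D3.rec (fun _ => Nat) 1 0 91 0 0 0 1 0 1 1 4 76 0 0 1 13 14 86 86 0 1 0 1 0 1 1 2 16 0 1 0 0 1 1 1 9 104 92 9 8) (@D3.rec (fun _ => Nat) 0 1 47 51 6 5 88 115 14 0 115 1 5 0 110 116 1 87 89 89 97 95 112 1 14 91 3 106 108 90 2 14 112 120 97 112 1 1 9 11) (@D3.rec (fun _ => Nat) 0 5 1 58 110 111 1 1 2 1 1 6 0 3 3 101 92 4 90 105 3 92 15 90 97 0 1 14 7 0 101 100 1 96 100 3 0 1 57 0)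
def lv_g_10 : D2 → D3 → Nat := @D2.rec (fun _ => D3 → Nat) (@D3.rec (fun _ => Nat) 1 0 1 4 90 107 8 101 1 0 0 108 1 112 1 56 12 89 100 102 100 1 112 100 110 102 102 105 1 4 3 3 56 60 3 4 0 1 57 106) (@D3.rec (fun _ => Nat) 112 2 0 1 5 1 96 1 109 0 1 100 1 4 5 58 4 99 97 61 93 70 1 5 0 0 1 56 0 1 4 3 95 99 0 101 3 1 0 105) (@D3.rec (fun _ => Nat) 103 1 108 1 113 56 1 80 61 56 56 111 108 105 5 1 113 113 102 109 101 1 0 1 5 103 1 105 112 106 115 113 112 103 103 0 1 0 100 98) (@D3.rec (fun _ => Nat) 3 1 0 106 1 106 1 4 104 106 104 108 1 88 56 0 1 92 1 4 3 3 1 1 1 0 1 1 0 0 1 1 4 107 1 1 4 92 4 4) (@D3.rec (fun _ => Nat) 4 107 95 5 4 4 107 5 97 95 1 98 5 5 4 108 99 109 5 4 5 5 0 1 10 116 0 115 1 10 115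 10 97 99 3 1 1 4 3 2) (@D3.rec (fun _ => Nat) 107 5 108 108 99 1 102 4 108 102 1 108 0 1 108 4 0 1 99 102 1 108 101 101 107 113 1 106 108 0 0 1 5 113 115 115 1 0 1 2) (@D3.rec (fun _ => Nat) 103 102 103 18 18 105 0 1 103 3 97 3 97 0 1 5 109 119 1 106 111 1 113 5 97 1 97 97 97 111 104 97 103 107 109 105 108 100 110 3) (@D3.rec (fun _ => Nat) 1 4 1 1 0 1 113 111 113 106 107 1 1 108 1 95 120 115 119 1 111 106 110 111 1 60 0 0 4 1 0 1 1 2 118 119 118 107 0 0) (@D3.rec (fun _ => Nat) 114 1 1 106 104 104 113 112 111 120 1 100 98 100 100 108 1 104 105 111 116 95 114 95 0 113 3 110 0 111 111 108 11 109 0 1 110 111 1 1) (@D3.rec (fun _ => Nat) 1 106 114 4 108 1 3 103 2 2 107 112 107 105 104 114 5 112 98 109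 0 113 113 1 113 104 102 61 0 107 104 1 111 109 1 113 0 1 111 120) (@D3.rec (fun _ => Nat) 117 116 111 5 1 1 1 89 1 89 1 1 1 100 66 88 1 109 107 2 104 3 99 19 19 99 101 0 1 4 101 101 0 1 4 102 91 91 107 104) (@D3.rec (fun _ => Nat) 112 116 0 1 118 120 1 13 0 1 17 14 15 75 1 15 78 76 1 2 92 99 15 78 101 100 101 17 5 0 1 2 12 3 0 86 6 5 5 6) (@D3.rec (fun _ => Nat) 8 0 1 5 1 3 13 4 83 1 6 5 6 6 0 1 14 102 4 1 99 1 3 4 97 99 3 79 0 99 1 106 107 89 0 1 0 1 91 89) (@D3.rec (fun _ => Nat) 4 90 82 1 0 1 85 0 0 1 4 6 79 1 6 5 8 6 6 0 0 1 1 0 1 59 9 0 1 1 15 6 60 57 91 105 5 89 6 109) (@D3.rec (fun _ => Nat) 0 0 0 1 1 92 98 88 98 3 98 96 4 12 90 93 92 92 0 1 1 60 1 1 96 94 94 0 5 4 4 0 1 0 5 4 5 5 0 0) (@D3.rec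 (fun _ => Nat) 1 18 0 1 1 86 7 98 102 102 1 7 4 0 1 13 14 0 0 1 0 0 1 91 5 3 4 1 80 1 1 2 1 83 14 14 61 14 61 58) (@D3.rec (fun _ => Nat) 1 0 6 5 5 5 98 0 0 58 1 7 6 5 0 6 6 0 0 0 1 1 2 17 4 1 90 1 1 2 7 95 0 0 1 0 1 7 8 0) (@D3.rec (fun _ => Nat) 5 0 0 1 4 90 0 90 1 0 0 1 2 0 0 1 1 16 6 62 86 4 15 3 3 3 9 97 1 2 97 90 3 96 79 4 3 4 14 0) (@D3.rec (fun _ => Nat) 0 1 1 2 12 12 98 93 12 96 98 0 0 1 8 0 6 1 0 6 5 5 5 92 3 0 1 0 1 0 1 4 7 85 0 0 0 1 6 5) (@D3.rec (fun _ => Nat) 0 10 0 6 0 0 0 1 1 2 13 13 4 13 0 1 84 94 98 97 102 0 0 1 80 10 0 1 100 96 0 96 0 0 0 1 101 0 1 2) (@D3.rec (fun _ => Nat) 102 3 100 15 0 13 1 0 5 0 0 1 4 4 3 3 4 3 4 0 1 1 2 0 0 0 1 0 1 2 3 117 0 1 1 12 6 94 92 16) (@D3.rec (fun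 _ => Nat) 0 1 10 1 2 99 1 1 3 77 96 3 3 0 0 16 4 4 4 10 62 1 1 3 73 7 4 3 85 1 83 4 4 4 0 61 4 58 4 110) (@D3.rec (fun _ => Nat) 1 15 66 5 4 5 5 13 0 0 4 1 0 0 0 1 1 1 2 2 1 3 83 66 67 84 0 58 0 0 1 65 104 0 1 3 58 0 1 0) (@D3.rec (fun _ => Nat) 1 5 94 0 0 6 1 0 0 0 1 6 7 0 6 6 8 6 0 0 0 1 4 0 1 0 1 0 0 1 8 5 0 0 110 1 0 0 0 1) (@D3.rec (fun _ => Nat) 113 7 1 0 2 5 0 0 4 1 0 0 0 1 0 1 2 0 8 7 6 0 55 1 8 0 0 0 0 1 7 7 7 0 0 1 1 60 57 57) (@D3.rec (fun _ => Nat) 0 13 3 17 0 89 1 102 0 1 85 0 0 1 89 0 14 0 1 16 0 101 90 1 81 3 89 50 109 1 96 0 0 0 1 53 0 1 0 1)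
def lv_g_11 : D2 → D3 → Nat := @D2.rec (fun _ => D3 → Nat) (@D3.rec (fun _ => Nat) 4 11 110 11 0 0 1 114 0 4 1 0 94 94 1 100 99 1 2 93 98 92 79 1 2 0 2 3 3 0 49 91 48 1 4 3 4 93 4 0) (@D3.rec (fun _ => Nat) 1 15 0 0 110 1 88 0 88 1 7 6 0 8 0 1 1 77 77 77 0 5 4 4 5 4 109 110 0 0 1 0 114 10 1 67 0 111 1 111) (@D3.rec (fun _ => Nat) 114 1 114 2 3 69 0 4 1 0 0 0 1 1 2 2 115 0 1 1 3 79 0 4 0 0 0 0 1 0 1 0 1 2 6 7 0 0 0 1) (@D3.rec (fun _ => Nat) 109 1 1 65 1 14 1 1 91 60 60 12 0 112 1 63 0 4 1 0 0 0 1 1 2 0 62 0 0 1 0 0 4 1 84 82 0 0 0 1) (@D3.rec (fun _ => Nat) 0 1 1 4 57 0 0 0 4 1 0 1 1 2 91 1 73 0 92 89 1 49 0 1 0 0 1 62 0 4 1 0 0 0 1 1 2 0 63 0) (@D3.rec (fun _ => Nat) 0 1 0 0 4 1 48 2 0 0 0 1 0 1 1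 4 57 0 0 0 4 1 0 1 1 2 73 0 0 0 0 1 63 74 0 0 0 0 1 63) (@D3.rec (fun _ => Nat) 1 72 94 1 83 14 15 68 98 1 90 66 0 0 1 14 78 6 1 110 106 101 108 7 6 9 108 0 1 1 1 59 59 14 7 14 60 57 98 6) (@D3.rec (fun _ => Nat) 96 90 0 1 0 1 92 1 100 82 1 1 6 98 61 14 61 14 14 63 113 108 102 1 6 7 8 6 103 111 101 112 1 109 112 86 7 6 0 0) (@D3.rec (fun _ => Nat) 1 1 0 1 0 1 2 2 86 116 4 102 93 1 3 47 47 1 0 1 0 0 1 4 0 98 1 7 6 1 1 5 97 100 112 90 0 1 2 1) (@D3.rec (fun _ => Nat) 1 3 89 87 6 15 7 15 62 88 88 90 86 12 4 3 3 103 100 100 0 0 81 96 81 77 4 3 4 61 1 115 1 5 5 5 5 92 10 5) (@D3.rec (fun _ => Nat) 1 5 1 62 62 62 60 1 82 1 1 5 1 4 5 8 5 105 65 4 4 5 0 61 58 1 61 99 111 60 112 116 15 114 6 5 92 115 90 6)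 (@D3.rec (fun _ => Nat) 116 111 1 1 62 62 102 60 103 101 60 106 104 0 58 0 103 1 65 0 102 1 104 101 1 101 1 82 101 58 8 60 8 5 58 1 4 103 1 114) (@D3.rec (fun _ => Nat) 114 1 7 4 10 110 86 110 0 1 110 2 98 1 0 0 0 1 1 7 0 0 113 1 7 7 9 0 0 0 1 101 108 1 112 1 6 116 59 106) (@D3.rec (fun _ => Nat) 86 1 114 65 88 1 86 65 1 111 93 1 2 0 0 88 1 107 0 1 0 1 95 112 0 1 0 1 1 108 0 1 0 0 0 1 8 8 59 96) (@D3.rec (fun _ => Nat) 10 0 0 0 4 1 0 0 0 1 0 0 1 1 2 8 13 8 0 1 108 57 98 104 57 60 57 0 1 59 108 3 0 0 0 1 92 88 92 1) (@D3.rec (fun _ => Nat) 111 1 4 89 99 96 1 13 109 0 1 4 5 1 5 1 0 51 0 1 104 103 1 1 5 97 1 5 4 50 52 112 110 49 0 1 53 1 5 52) (@D3.rec (fun _ => Nat) 91 1 113 11 114 11 0 89 118 1 99 110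 97 0 108 1 0 1 102 103 1 104 0 2 102 104 102 50 101 48 1 91 52 54 0 1 9 96 96 6) (@D3.rec (fun _ => Nat) 5 5 5 4 91 104 107 116 116 1 49 91 115 111 1 110 113 90 3 115 0 90 1 2 104 0 0 1 0 1 2 97 97 0 59 60 5 105 0 1) (@D3.rec (fun _ => Nat) 5 81 112 0 111 120 1 2 111 61 109 110 111 2 59 4 104 8 107 4 113 109 111 0 1 1 4 104 83 1 5 0 0 4 1 0 0 1 1 2) (@D3.rec (fun _ => Nat) 106 1 15 115 116 102 114 0 1 0 1 56 107 1 1 85 90 1 57 57 116 112 60 60 110 113 111 0 0 1 113 1 0 115 1 0 0 0 1 80) (@D3.rec (fun _ => Nat) 1 84 0 0 0 1 5 1 110 0 1 0 1 7 105 1 5 105 99 57 60 62 0 1 97 4 1 103 0 1 1 4 93 99 1 96 9 0 113 117) (@D3.rec (fun _ => Nat) 1 115 120 1 111 110 114 114 112 112 1 0 116 1 105 107 105 1 1 2 8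 109 107 109 108 5 1 95 112 115 106 0 105 1 1 5 57 110 57 57) (@D3.rec (fun _ => Nat) 57 50 1 103 4 1 0 119 1 1 4 114 115 1 106 117 113 111 113 33 4 1 110 0 1 1 2 103 1 101 93 108 1 0 1 1 2 110 0 104) (@D3.rec (fun _ => Nat) 1 103 101 1 95 99 0 1 0 111 1 7 101 101 1 104 93 0 116 1 112 1 119 114 1 113 4 1 111 113 113 1 2 103 4 111 110 1 3 119) (@D3.rec (fun _ => Nat) 103 106 109 102 102 104 1 112 0 102 1 105 102 120 121 4 111 115 119 118 119 113 4 109 120 120 120 115 116 117 115 115 107 110 108 1 116 114 109 1) (@D3.rec (fun _ => Nat) 122 5 114 121 109 101 108 114 117 101 1 115 119 111 1 5 5 115 111 1 113 113 115 115 6 117 116 1 14 0 1 119 116 118 117 110 0 5 5 5)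
def lv_g_12 : D2 → D3 → Nat := @D2.rec (fun _ => D3 → Nat) (@D3.rec (fun _ => Nat) 116 112 1 114 0 0 1 116 6 6 0 116 1 1 107 1 0 1 117 65 101 115 1 4 1 1 4 101 21 0 0 1 108 106 0 0 1 99 20 110) (@D3.rec (fun _ => Nat) 1 1 71 2 3 3 0 0 0 0 1 4 3 3 13 4 3 122 106 1 3 115 1 12 115 1 0 1 4 84 71 0 94 84 12 13 84 11 12 114) (@D3.rec (fun _ => Nat) 1 92 113 1 12 114 0 1 19 14 55 4 57 59 107 1 14 115 11 0 120 11 3 16 103 13 12 12 19 14 20 109 1 1 4 1 1 105 4 1) (@D3.rec (fun _ => Nat) 1 99 101 1 5 93 1 1 2 87 114 105 1 5 97 61 9 2 98 95 96 1 5 1 8 4 3 3 4 3 0 1 97 6 5 0 3 0 1 0) (@D3.rec (fun _ => Nat) 1 1 4 1 2 13 4 3 0 85 3 1 103 86 0 3 1 2 96 1 4 2 0 1 0 1 85 81 84 1 5 6 6 5 5 4 4 96 1 98) (@D3.rec (fun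 _ => Nat) 0 101 1 5 4 5 5 0 1 98 58 104 0 102 5 58 56 1 102 0 1 5 1 4 0 1 2 106 87 0 85 1 0 1 0 0 1 5 101 6) (@D3.rec (fun _ => Nat) 6 6 0 100 5 1 103 0 0 1 102 1 6 9 8 8 5 4 4 4 104 1 8 58 1 4 115 1 1 1 5 4 109 0 1 108 100 1 117 102) (@D3.rec (fun _ => Nat) 1 97 84 6 6 111 0 5 115 106 111 0 1 1 102 103 103 1 105 105 105 62 9 109 1 104 106 56 104 98 116 2 102 105 3 3 4 110 106 96) (@D3.rec (fun _ => Nat) 1 99 1 0 1 1 112 118 1 1 1 7 0 107 104 102 102 97 101 100 103 1 21 4 0 1 2 5 4 4 0 1 2 16 99 83 4 98 18 59) (@D3.rec (fun _ => Nat) 1 0 0 1 0 1 5 0 5 4 5 0 1 92 0 19 1 1 18 19 109 20 1 4 20 1 71 97 0 1 4 3 3 0 114 3 109 0 1 93) (@D3.rec (fun _ => Nat) 91 0 3 0 1 97 0 1 108 1 4 69 1 1 9 9 9 0 57 93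 0 1 114 118 114 13 94 92 6 0 0 0 1 5 97 103 14 0 1 94) (@D3.rec (fun _ => Nat) 2 1 2 3 3 12 75 0 0 0 0 1 0 21 1 20 12 93 0 94 0 1 86 0 2 3 3 0 0 0 1 103 0 0 4 1 84 0 67 1) (@D3.rec (fun _ => Nat) 95 0 0 1 1 99 4 3 3 3 8 0 0 1 1 2 68 1 3 3 3 0 20 84 3 4 13 6 102 7 6 6 0 105 7 6 6 0 0 0) (@D3.rec (fun _ => Nat) 1 85 0 6 1 0 5 5 5 113 3 107 1 113 1 0 1 4 3 1 1 2 106 0 1 113 5 12 3 0 4 1 18 0 65 1 99 99 0 1) (@D3.rec (fun _ => Nat) 0 1 4 12 111 1 101 0 1 0 1 64 6 0 0 0 1 84 10 0 1 0 1 6 0 1 2 0 7 0 1 2 3 3 0 22 0 106 1 108) (@D3.rec (fun _ => Nat) 4 4 3 3 70 3 4 115 1 17 1 104 1 110 109 109 1 12 1 1 79 100 4 1 100 1 1 1 4 103 95 7 7 0 97 105 7 6 7 0) (@D3.rec (fun _ => Nat) 0 1 0 0 1 7 6 0 7 7 0 0 1 3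 1 110 1 4 0 0 1 6 0 6 0 0 4 1 0 104 0 1 1 2 0 0 0 1 1 96) (@D3.rec (fun _ => Nat) 101 4 1 108 103 101 1 4 62 0 106 0 1 2 103 0 1 0 1 2 7 3 3 0 0 1 103 0 0 1 66 8 4 3 0 3 1 67 67 0) (@D3.rec (fun _ => Nat) 67 0 68 0 0 4 1 0 114 0 1 1 2 0 0 0 1 1 107 100 99 79 0 0 0 0 1 7 0 0 1 113 115 0 0 114 1 101 101 1) (@D3.rec (fun _ => Nat) 80 81 0 0 0 115 1 69 0 0 1 114 116 114 114 1 109 104 106 9 8 88 1 100 13 0 1 114 1 110 108 111 60 1 1 9 7 103 103 14) (@D3.rec (fun _ => Nat) 119 1 105 98 1 94 106 103 98 11 1 3 95 95 4 3 3 105 4 99 102 101 109 3 91 1 107 100 109 7 7 100 102 105 102 7 7 108 114 3) (@D3.rec (fun _ => Nat) 0 1 99 0 1 1 4 106 112 105 6 1 113 1 113 106 113 0 69 106 111 116 119 1 104 104 111 1 102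 105 0 102 1 3 61 1 102 58 0 107) (@D3.rec (fun _ => Nat) 108 1 111 1 1 4 111 112 7 107 111 109 103 1 4 3 3 113 4 3 1 104 0 106 1 108 0 83 1 1 81 67 0 104 108 102 107 1 3 101) (@D3.rec (fun _ => Nat) 107 107 0 1 97 1 107 107 116 105 108 1 116 109 47 1 2 102 100 105 112 1 104 50 120 0 1 112 112 1 104 105 113 48 107 0 0 1 1 104) (@D3.rec (fun _ => Nat) 103 1 92 63 0 111 101 109 1 107 102 1 105 107 2 7 100 98 109 110 111 105 105 105 108 108 68 66 0 1 59 107 106 67 112 1 114 118 117 0) (@D3.rec (fun _ => Nat) 99 1 110 0 101 100 0 119 119 119 114 101 1 91 93 100 95 97 107 105 102 1 10 114 112 106 0 1 114 121 111 113 108 111 106 4 1 113 1 3)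
def lv_g_13 : D2 → D3 → Nat := @D2.rec (fun _ => D3 → Nat) (@D3.rec (fun _ => Nat) 114 100 99 102 102 103 60 117 1 120 121 115 119 120 111 116 118 1 116 121 1 112 116 1 115 90 3 3 3 104 110 100 108 1 97 107 103 111 105 106) (@D3.rec (fun _ => Nat) 113 3 1 2 116 1 110 2 110 111 114 110 97 118 0 1 106 96 114 107 97 117 1 1 121 1 5 110 1 98 104 98 97 105 111 98 107 63 62 62) (@D3.rec (fun _ => Nat) 0 0 1 1 6 60 102 61 59 60 60 0 1 0 1 96 3 0 1 4 84 2 87 81 88 0 83 0 1 4 3 3 54 59 3 120 0 1 3 0) (@D3.rec (fun _ => Nat) 1 10 0 1 0 1 4 1 2 86 84 1 2 3 9 0 1 11 88 0 1 10 0 1 93 90 86 88 84 90 86 2 88 99 113 89 112 4 3 3) (@D3.rec (fun _ => Nat) 57 117 3 121 118 1 3 116 1 10 118 1 116 1 4 118 117 1 1 1 89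 1 87 90 1 107 89 114 106 3 14 10 10 1 10 12 1 112 1 64) (@D3.rec (fun _ => Nat) 82 0 1 7 6 0 0 1 1 9 10 9 9 80 5 4 4 11 0 1 120 5 4 0 1 82 100 85 6 7 73 6 8 6 0 9 112 1 93 4) (@D3.rec (fun _ => Nat) 0 1 85 10 82 0 0 1 1 5 2 2 87 1 4 89 83 1 5 83 90 87 85 85 104 84 87 105 3 9 0 1 1 101 101 100 0 3 94 91) (@D3.rec (fun _ => Nat) 0 1 66 6 7 0 0 0 1 0 1 0 6 5 5 5 111 59 0 1 78 0 86 1 0 1 7 6 5 57 0 6 0 0 1 58 10 3 0 1) (@D3.rec (fun _ => Nat) 8 7 6 0 0 60 1 0 1 7 0 0 1 1 60 58 58 0 88 82 0 5 88 0 1 92 91 91 91 0 0 96 1 0 1 0 0 1 93 0) (@D3.rec (fun _ => Nat) 0 1 1 6 0 0 1 90 0 3 1 0 0 110 1 2 0 0 0 1 0 0 112 1 0 109 109 1 1 0 0 0 1 0 0 1 116 121 0 0) (@D3.rec (fun _ => Nat) 118 1 0 0 1 117 119 122 117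 103 107 107 88 105 105 9 117 9 1 6 5 89 10 113 113 1 116 112 0 115 119 5 0 110 121 118 117 1 87 0) (@D3.rec (fun _ => Nat) 1 10 8 5 60 0 64 114 110 1 116 117 1 2 112 1 1 5 93 4 0 89 113 88 115 1 114 102 115 114 5 5 120 0 104 118 0 118 1 6) (@D3.rec (fun _ => Nat) 108 118 113 108 108 119 116 114 112 112 89 107 120 106 122 117 0 1 0 1 116 0 1 1 113 94 110 100 94 100 1 94 93 91 0 1 100 96 0 1) (@D3.rec (fun _ => Nat) 1 59 85 111 1 86 115 115 1 6 7 6 6 110 6 87 78 84 0 1 95 112 4 1 116 114 1 1 2 8 6 112 110 0 1 7 7 1 58 58) (@D3.rec (fun _ => Nat) 117 64 115 1 109 102 1 112 108 0 1 107 109 105 58 58 56 1 112 93 1 113 1 112 6 113 0 1 1 115 1 104 104 90 114 3 1 109 108 2) (@D3.rec (fun _ => Nat) 114 1 112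 112 114 114 112 114 7 115 0 1 1 90 93 111 0 114 119 3 1 121 1 2 1 87 120 0 118 1 118 1 1 103 1 0 1 59 1 117) (@D3.rec (fun _ => Nat) 114 114 102 1 107 107 102 112 0 1 0 1 1 60 98 5 105 96 98 4 0 103 107 120 1 114 0 1 106 107 105 116 1 105 0 0 1 14 15 0) (@D3.rec (fun _ => Nat) 1 2 3 5 5 14 17 111 16 95 97 3 80 0 1 0 1 92 92 4 93 0 1 0 1 4 62 91 5 6 0 0 1 0 62 0 88 3 98 96) (@D3.rec (fun _ => Nat) 94 93 96 93 90 0 0 1 1 16 95 1 15 5 4 4 14 0 5 4 5 5 0 0 1 0 0 1 1 16 7 7 13 4 0 1 13 0 0 1) (@D3.rec (fun _ => Nat) 0 0 1 94 5 16 0 1 0 0 0 1 1 2 67 0 1 0 0 0 1 1 95 8 0 0 0 1 1 0 1 2 10 10 10 0 92 10 9 0) (@D3.rec (fun _ => Nat) 1 49 51 6 5 5 90 117 15 0 85 1 7 5 0 6 0 118 1 83 92 88 92 108 108 0 1 112 1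 15 88 3 109 108 93 1 2 104 7 110) (@D3.rec (fun _ => Nat) 90 74 0 7 7 9 0 112 0 0 1 99 112 1 1 10 12 0 5 0 1 57 113 14 117 112 1 0 1 2 0 1 1 6 0 3 90 86 14 88) (@D3.rec (fun _ => Nat) 14 0 0 0 1 0 1 2 12 12 96 90 89 100 95 1 17 86 99 97 88 88 1 103 103 104 1 98 103 0 0 0 1 2 2 99 3 0 1 3) (@D3.rec (fun _ => Nat) 3 0 0 0 1 0 1 2 101 93 122 93 105 3 16 0 1 88 0 1 67 7 67 67 0 7 7 0 101 8 7 7 0 0 0 1 99 102 3 0) (@D3.rec (fun _ => Nat) 1 67 0 1 1 4 92 112 0 1 104 101 0 1 101 8 0 119 0 121 1 114 1 13 98 103 100 100 0 0 1 0 0 1 7 107 100 0 7 0) (@D3.rec (fun _ => Nat) 1 2 3 3 0 105 1 4 3 3 59 58 3 0 1 59 114 1 2 0 0 0 5 1 5 1 3 1 111 0 1 0 1 1 6 5 1 5 63 0)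
def lv_g_14 : D2 → D3 → Nat := @D2.rec (fun _ => D3 → Nat) (@D3.rec (fun _ => Nat) 69 94 68 1 0 1 59 0 8 8 0 1 0 0 1 0 8 7 8 8 0 106 1 59 1 58 59 59 102 113 98 99 105 5 1 5 1 115 113 105) (@D3.rec (fun _ => Nat) 98 0 107 0 0 1 5 1 5 73 121 106 109 0 114 0 1 0 104 104 0 1 9 0 90 1 0 1 0 1 66 8 0 87 59 0 1 1 0 0) (@D3.rec (fun _ => Nat) 5 1 1 68 106 80 72 0 0 1 0 0 1 79 1 6 5 1 94 62 0 69 114 68 68 1 103 99 98 5 1 5 0 91 0 1 99 0 1 98) (@D3.rec (fun _ => Nat) 0 1 0 1 102 5 1 5 69 0 78 69 69 115 1 0 1 14 110 94 1 1 2 1 107 98 1 1 1 106 69 1 93 119 0 1 87 1 106 87) (@D3.rec (fun _ => Nat) 92 92 97 110 106 108 106 106 120 106 9 1 120 94 114 2 87 119 1 4 92 100 92 93 104 99 0 1 103 103 1 59 113 1 106 1 1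 7 82 56) (@D3.rec (fun _ => Nat) 106 0 118 1 108 1 101 100 99 110 100 100 58 4 4 105 4 104 91 1 90 1 94 109 1 120 5 101 93 117 117 109 108 0 111 1 1 85 61 111) (@D3.rec (fun _ => Nat) 1 101 95 101 1 108 1 113 106 58 114 106 58 61 61 98 112 111 100 103 1 107 111 109 113 103 113 103 1 88 114 1 102 106 1 102 99 104 108 109) (@D3.rec (fun _ => Nat) 60 115 1 1 91 1 1 5 105 5 5 108 110 6 5 5 5 106 107 6 99 100 108 105 6 5 117 99 6 111 0 1 108 110 1 113 115 104 102 102) (@D3.rec (fun _ => Nat) 102 104 108 1 119 5 105 107 1 117 102 106 104 109 107 112 106 0 1 1 6 1 67 108 108 1 1 112 111 99 118 120 117 121 105 100 105 110 117 99) (@D3.rec (fun _ => Nat) 107 115 109 1 113 105 111 112 115 114 114 0 115 1 116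 1 119 2 1 0 120 115 120 113 120 1 1 106 108 102 0 115 113 102 107 113 115 116 116 0) (@D3.rec (fun _ => Nat) 1 113 112 1 115 1 114 114 4 111 107 98 107 122 116 1 113 104 119 120 112 1 109 107 105 117 115 117 115 111 1 119 120 118 115 112 120 87 81 89) (@D3.rec (fun _ => Nat) 102 89 101 67 67 101 120 3 106 119 98 102 1 103 102 1 102 103 121 118 117 119 1 14 0 1 85 18 15 16 68 99 105 17 0 6 0 0 1 75) (@D3.rec (fun _ => Nat) 3 14 4 0 1 91 92 7 6 6 6 0 8 8 0 1 15 4 13 108 101 83 6 8 0 0 1 103 99 80 97 99 99 4 80 80 1 91 101 1) (@D3.rec (fun _ => Nat) 0 1 4 91 91 107 92 93 0 1 87 1 1 5 7 5 97 0 108 6 0 107 110 0 1 92 1 101 1 62 61 11 1 105 95 16 92 16 62 59) (@D3.rec (fun _ => Nat) 107 91 92 8 7 109 1 105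 1 104 1 94 100 92 4 100 100 0 98 100 5 92 91 92 0 105 104 94 1 89 65 85 102 100 99 0 1 0 6 5) (@D3.rec (fun _ => Nat) 5 5 0 0 1 0 0 0 1 6 5 0 0 6 0 0 0 1 96 1 2 109 0 1 87 92 102 105 104 7 8 0 5 0 0 1 101 0 16 100) (@D3.rec (fun _ => Nat) 0 0 1 0 1 2 0 0 1 1 93 6 93 94 0 5 6 83 83 15 106 15 108 15 15 63 113 58 0 98 1 6 7 114 6 6 8 6 98 113) (@D3.rec (fun _ => Nat) 99 0 1 0 109 61 1 86 0 8 7 6 0 0 1 7 7 7 0 0 1 0 1 105 1 98 2 84 118 48 95 94 105 1 0 1 0 0 1 4) (@D3.rec (fun _ => Nat) 7 0 91 1 7 6 120 9 0 1 1 5 91 100 92 92 0 0 90 1 2 0 0 1 1 3 87 87 0 1 0 1 121 6 17 7 17 62 88 88) (@D3.rec (fun _ => Nat) 88 86 17 4 4 4 11 91 3 90 101 90 99 4 94 5 4 5 5 14 0 1 1 2 92 87 93 3 94 13 97 13 97 85 13 13 95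 90 91 0) (@D3.rec (fun _ => Nat) 1 0 1 8 0 0 8 1 91 0 90 1 7 0 6 8 6 92 92 92 4 0 1 98 0 1 0 0 1 89 5 7 100 0 4 1 0 0 0 1) (@D3.rec (fun _ => Nat) 97 1 2 6 0 0 0 1 10 116 0 116 1 7 0 0 1 0 1 103 1 103 2 97 3 108 114 4 15 0 1 86 98 101 102 101 0 1 0 1) (@D3.rec (fun _ => Nat) 12 0 0 1 4 95 94 92 1 94 96 0 1 0 1 105 1 103 0 0 1 4 3 102 96 4 98 15 0 0 15 1 0 0 97 1 6 115 0 1) (@D3.rec (fun _ => Nat) 1 5 95 5 5 4 4 0 5 4 119 117 103 99 1 3 101 0 4 1 0 0 0 1 1 2 2 1 3 91 3 92 4 117 124 115 0 1 117 9) (@D3.rec (fun _ => Nat) 13 7 13 97 91 92 92 94 18 108 1 12 3 101 4 3 3 107 98 4 4 0 0 81 98 79 79 4 3 4 61 1 114 1 16 5 5 5 5 92) (@D3.rec (fun _ => Nat) 10 63 63 60 4 80 5 4 105 66 4 4 5 110 76 5 61 5 112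 1 61 89 5 60 5 5 110 16 68 6 6 5 92 0 6 6 18 118 0 111)
def lv_g_15 : D2 → D3 → Nat := @D2.rec (fun _ => D3 → Nat) (@D3.rec (fun _ => Nat) 1 4 1 69 1 1 1 3 4 102 93 106 88 103 106 104 67 0 0 1 3 103 108 1 0 1 5 103 104 1 4 114 1 108 1 7 4 11 94 86) (@D3.rec (fun _ => Nat) 0 0 1 112 112 8 1 2 0 1 0 0 0 1 1 117 7 0 0 0 0 1 7 7 9 0 0 0 0 1 100 114 1 113 1 69 5 1 61 0) (@D3.rec (fun _ => Nat) 106 1 82 0 1 1 114 6 65 84 0 117 1 110 1 82 65 0 1 111 0 1 93 1 2 115 0 3 0 86 1 7 0 1 0 4 1 98 0 0) (@D3.rec (fun _ => Nat) 116 1 0 1 0 1 4 1 114 114 116 1 114 8 0 0 1 58 96 10 10 105 0 0 4 1 0 0 0 1 0 0 1 104 1 2 8 8 102 8) (@D3.rec (fun _ => Nat) 116 109 1 1 115 60 60 60 0 60 57 0 1 67 84 18 87 1 3 0 0 0 1 89 0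 86 94 1 94 1 4 87 112 98 1 14 0 0 1 4) (@D3.rec (fun _ => Nat) 16 52 0 1 100 4 92 52 53 106 93 50 98 1 106 98 1 0 1 5 53 93 0 1 0 113 1 11 110 12 11 0 0 0 1 1 114 92 112 4) (@D3.rec (fun _ => Nat) 1 81 1 3 98 96 0 2 3 96 51 0 99 1 4 3 4 93 4 0 1 51 90 53 5 4 91 5 114 114 1 50 17 91 0 111 1 0 110 112) (@D3.rec (fun _ => Nat) 1 112 90 3 88 1 2 117 106 117 0 1 9 0 1 115 70 70 70 0 60 61 77 70 0 1 6 5 79 121 118 5 0 111 118 113 120 1 1 2) (@D3.rec (fun _ => Nat) 111 86 1 10 61 2 67 3 110 111 1 113 2 2 113 3 61 4 69 8 0 4 1 111 117 0 0 1 0 1 1 3 4 104 115 120 115 0 1 115) (@D3.rec (fun _ => Nat) 4 0 81 1 98 5 0 0 105 4 1 0 0 0 1 103 0 1 1 2 2 0 1 107 0 1 3 118 109 113 0 0 0 1 0 1 1 59 109 82) (@D3.rec (fun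 _ => Nat) 15 15 15 68 61 112 0 107 114 1 86 0 113 4 1 97 0 0 0 1 116 1 1 4 0 0 0 1 0 0 0 1 80 1 84 0 0 0 6 1) (@D3.rec (fun _ => Nat) 5 1 84 82 110 0 0 0 1 0 0 1 106 1 63 6 1 5 64 0 60 60 59 0 1 0 0 1 4 1 0 2 1 4 64 0 0 72 0 1) (@D3.rec (fun _ => Nat) 115 1 102 111 109 1 1 0 112 4 1 0 106 0 0 1 112 1 1 4 0 0 0 1 0 109 0 1 1 2 8 0 0 0 6 1 5 1 50 3) (@D3.rec (fun _ => Nat) 98 0 0 0 1 106 0 1 0 1 70 6 1 5 59 0 59 57 57 52 1 0 0 1 4 1 0 94 1 4 71 0 99 75 0 0 1 0 0 4) (@D3.rec (fun _ => Nat) 1 0 0 0 1 1 2 0 74 0 99 1 118 0 4 1 0 0 0 1 1 2 68 67 0 1 1 79 108 108 110 11 109 1 59 62 59 15 62 98) (@D3.rec (fun _ => Nat) 1 92 0 1 7 15 63 15 15 63 63 113 107 99 103 113 116 101 114 114 88 0 0 118 1 1 1 2 0 1 2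 87 118 87 84 49 1 105 105 1) (@D3.rec (fun _ => Nat) 1 5 0 1 6 116 116 102 112 1 3 4 90 117 89 89 64 90 64 91 90 113 94 113 12 4 4 104 119 0 79 114 103 113 112 1 102 1 113 87) (@D3.rec (fun _ => Nat) 6 6 6 94 99 12 63 60 63 60 82 6 66 104 60 1 102 89 116 89 60 112 107 6 113 115 107 92 63 102 106 103 67 0 101 1 104 101 1 104) (@D3.rec (fun _ => Nat) 1 82 104 58 92 60 112 112 1 2 100 100 0 1 109 1 1 9 0 1 0 112 1 110 100 8 8 9 0 1 0 1 1 94 89 88 90 88 113 1) (@D3.rec (fun _ => Nat) 1 100 1 1 111 111 114 108 1 1 108 103 1 111 0 4 1 0 0 1 1 2 106 10 105 112 100 108 1 110 0 4 1 0 4 1 0 1 0 0) (@D3.rec (fun _ => Nat) 1 1 4 0 1 1 4 111 106 16 115 1 108 101 105 105 62 57 111 0 1 110 0 0 1 105 0 1 112 1 107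 91 89 115 4 114 116 1 112 92) (@D3.rec (fun _ => Nat) 53 1 55 1 5 52 104 1 6 103 98 110 13 118 0 1 88 117 1 1 104 51 100 97 1 93 107 1 98 98 112 112 93 102 116 114 108 1 110 104) (@D3.rec (fun _ => Nat) 109 0 0 1 1 2 0 1 3 105 99 0 97 1 1 1 2 89 5 9 5 109 109 1 5 114 112 112 1 0 4 1 0 1 1 4 113 106 14 115) (@D3.rec (fun _ => Nat) 104 114 103 111 1 111 1 61 96 101 0 1 0 1 117 1 103 1 1 1 106 110 105 1 0 1 0 1 0 1 8 0 1 8 105 105 101 95 1 103) (@D3.rec (fun _ => Nat) 111 113 1 100 1 114 112 114 112 116 1 105 104 104 9 107 113 109 106 117 117 111 110 112 113 105 110 0 104 1 57 112 57 103 112 109 1 100 110 111) (@D3.rec (fun _ => Nat) 118 112 1 1 110 0 100 1 106 110 95 0 1 8 0 111 1 8 103 104 114 1 116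 112 113 115 108 112 104 102 112 0 102 1 102 101 115 109 111 119)
def lv_g_16 : D2 → D3 → Nat := @D2.rec (fun _ => D3 → Nat) (@D3.rec (fun _ => Nat) 117 120 117 117 108 118 119 122 112 6 116 115 121 112 114 114 121 113 6 6 119 115 1 111 118 0 1 6 6 0 0 1 1 118 118 7 121 1 1 112) (@D3.rec (fun _ => Nat) 101 23 0 0 1 0 1 101 20 110 108 107 0 1 1 21 4 3 3 14 116 3 4 0 1 3 0 1 13 0 1 100 1 4 57 4 57 59 118 120) (@D3.rec (fun _ => Nat) 15 115 12 0 117 1 84 13 0 1 94 13 88 0 15 84 13 113 115 1 61 59 87 1 97 102 2 86 118 99 64 64 9 10 9 9 5 4 4 1) (@D3.rec (fun _ => Nat) 0 9 60 1 4 1 1 5 2 90 77 110 1 87 86 1 2 106 1 102 1 85 83 6 7 6 6 113 6 5 5 5 115 103 0 100 1 5 6 0) (@D3.rec (fun _ => Nat) 103 1 64 105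 0 1 102 58 58 105 6 95 1 115 5 0 105 1 105 96 0 87 1 1 0 1 1 6 114 120 7 100 6 97 0 1 0 105 0 1) (@D3.rec (fun _ => Nat) 98 1 7 104 9 116 60 0 1 107 114 112 97 84 7 1 106 116 1 105 105 104 58 100 104 4 113 111 0 1 1 104 5 0 1 2 17 3 82 6) (@D3.rec (fun _ => Nat) 5 5 98 19 0 1 92 19 1 0 1 21 95 0 1 76 6 21 22 1 97 5 22 108 109 99 0 1 0 1 115 111 99 1 70 59 4 0 1 0) (@D3.rec (fun _ => Nat) 4 101 1 14 97 95 1 7 1 97 93 111 1 76 107 3 106 10 10 0 10 9 89 1 100 96 114 0 1 119 120 0 0 0 1 60 1 1 10 7) (@D3.rec (fun _ => Nat) 103 105 105 14 1 107 84 3 3 95 4 4 14 84 0 6 1 3 104 1 0 1 0 1 4 3 1 2 95 13 4 20 13 0 1 88 0 1 22 0) (@D3.rec (fun _ => Nat) 110 1 4 3 3 4 3 94 0 1 20 1 1 105 13 1 100 5 1 69 1 94 1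 1 99 5 106 106 97 4 11 1 1 3 68 97 4 3 3 108) (@D3.rec (fun _ => Nat) 4 4 4 121 111 3 4 112 1 86 107 5 102 13 110 7 7 106 100 101 8 7 7 0 0 0 1 107 101 8 7 7 7 112 3 0 1 101 0 1) (@D3.rec (fun _ => Nat) 0 1 4 110 112 0 6 1 113 0 1 113 113 109 113 107 0 115 98 1 69 106 111 106 0 0 1 99 5 1 65 1 102 99 0 1 5 111 1 104) (@D3.rec (fun _ => Nat) 111 0 116 1 66 3 59 1 104 60 105 112 120 1 109 1 0 1 4 12 0 111 1 113 7 0 1 2 118 7 96 1 2 0 101 1 8 96 1 4) (@D3.rec (fun _ => Nat) 4 3 3 118 4 3 4 1 103 108 0 106 1 106 108 116 118 4 98 97 96 111 99 110 107 111 81 102 105 105 95 104 104 8 116 118 0 1 100 106) (@D3.rec (fun _ => Nat) 7 0 94 98 1 3 0 1 110 0 1 0 1 4 8 7 104 107 108 1 8 94 112 0 1 48 1 2 112 100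 103 1 104 1 51 0 0 1 0 114) (@D3.rec (fun _ => Nat) 1 0 104 4 1 105 111 0 109 0 1 1 4 49 0 113 4 1 111 1 1 2 90 106 0 65 0 101 1 108 114 1 2 8 3 103 1 103 1 100) (@D3.rec (fun _ => Nat) 8 4 3 3 0 4 3 4 0 1 0 1 99 105 105 105 0 1 1 68 9 68 68 112 1 118 81 67 110 0 1 0 0 1 0 96 1 0 114 4) (@D3.rec (fun _ => Nat) 1 92 99 0 110 0 1 1 4 0 0 0 4 1 116 1 1 2 105 106 99 102 0 1 0 119 1 0 90 1 1 0 4 1 1 2 115 113 115 122) (@D3.rec (fun _ => Nat) 117 0 114 1 112 1 115 103 116 117 96 1 117 3 1 0 114 1 2 0 4 1 1 2 116 114 118 114 114 112 106 108 108 1 111 104 97 99 4 101) (@D3.rec (fun _ => Nat) 88 100 101 103 102 4 1 99 1 5 110 113 97 1 106 107 103 1 60 105 110 1 109 4 97 116 1 107 113 1 83 68 86 83 106 1 104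 1 99 107) (@D3.rec (fun _ => Nat) 114 111 111 109 1 104 109 113 49 49 110 115 1 1 120 102 62 62 92 107 1 107 107 102 108 106 112 1 109 121 1 94 1 110 0 1 120 119 121 0) (@D3.rec (fun _ => Nat) 119 114 106 1 119 123 114 116 116 118 122 120 117 118 116 115 106 115 111 112 111 1 77 79 119 117 107 118 64 62 63 63 0 1 0 1 60 118 1 1) (@D3.rec (fun _ => Nat) 105 4 0 1 107 86 85 87 83 83 1 114 95 1 4 4 0 1 1 1 1 89 2 83 3 4 11 1 82 13 0 1 114 1 88 85 90 87 109 92) (@D3.rec (fun _ => Nat) 0 93 0 1 122 8 0 1 0 1 2 10 11 10 10 10 6 5 85 11 98 0 1 117 119 0 5 0 1 83 102 85 93 7 75 75 7 9 0 0) (@D3.rec (fun _ => Nat) 10 0 1 11 5 1 61 66 0 12 66 119 116 1 1 2 6 93 85 5 94 113 92 87 87 105 97 110 0 1 85 101 101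 120 95 101 97 1 93 92) (@D3.rec (fun _ => Nat) 0 1 62 7 68 62 0 98 113 117 1 0 1 0 1 62 83 0 1 84 97 113 1 6 7 100 6 6 111 85 59 97 1 86 0 86 1 1 97 8)
def lv_g_17 : D2 → D3 → Nat := @D2.rec (fun _ => D3 → Nat) (@D3.rec (fun _ => Nat) 89 6 59 100 103 0 1 89 0 0 1 1 59 59 59 115 110 66 113 1 108 8 0 0 119 1 104 1 61 112 121 1 108 0 0 1 72 1 117 58) (@D3.rec (fun _ => Nat) 0 58 58 58 1 115 112 89 113 116 116 1 7 6 0 90 1 93 93 94 91 1 104 88 1 1 97 0 1 1 95 0 0 116 1 0 1 2 6 7) (@D3.rec (fun _ => Nat) 117 116 0 1 118 1 93 0 108 4 1 61 0 0 110 1 1 3 0 0 4 1 107 1 1 2 1 0 1 85 0 111 115 1 56 0 4 1 109 1) (@D3.rec (fun _ => Nat) 1 2 0 4 1 1 2 118 121 124 120 0 119 118 1 123 1 0 4 1 1 2 119 122 119 123 117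 122 114 118 117 113 89 121 120 1 92 1 108 89) (@D3.rec (fun _ => Nat) 1 1 94 118 2 117 115 115 114 95 111 1 109 109 6 1 106 118 120 0 1 113 93 115 111 120 114 108 106 121 118 113 113 1 1 0 1 115 105 91) (@D3.rec (fun _ => Nat) 0 1 102 1 112 7 7 7 112 101 80 1 111 116 8 112 118 0 1 8 114 117 109 1 106 107 109 112 112 114 0 1 114 104 112 109 116 113 112 116) (@D3.rec (fun _ => Nat) 114 112 116 1 93 1 116 116 117 121 120 1 1 59 110 116 108 112 112 1 1 114 96 98 1 108 108 1 106 107 105 1 0 1 15 17 0 1 77 3) (@D3.rec (fun _ => Nat) 100 6 6 107 14 19 97 99 99 4 81 81 0 1 118 112 1 4 103 94 5 5 91 94 0 1 1 114 62 5 98 89 89 6 0 103 1 95 1 101) (@D3.rec (fun _ => Nat) 0 112 1 63 115 110 1 92 98 98 98 96 96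 96 94 95 0 90 117 119 0 0 1 1 89 18 16 110 6 5 5 5 0 0 16 0 121 115 1 6) (@D3.rec (fun _ => Nat) 5 0 0 0 99 1 97 1 99 0 119 1 0 1 16 13 113 5 0 0 1 101 105 15 102 109 102 1 111 1 2 1 1 117 6 96 95 0 17 1) (@D3.rec (fun _ => Nat) 2 104 0 1 1 1 65 67 1 95 1 1 1 95 1 1 1 2 80 96 1 3 96 3 0 106 11 90 11 10 0 1 69 1 49 108 6 6 8 90) (@D3.rec (fun _ => Nat) 117 18 15 0 1 85 7 1 7 1 83 83 92 89 89 107 108 0 97 114 1 17 4 109 109 108 3 111 74 94 0 0 1 0 9 0 0 0 1 122) (@D3.rec (fun _ => Nat) 120 74 0 1 1 11 106 10 14 1 7 9 1 120 17 92 83 2 1 86 1 6 112 1 99 86 90 0 1 100 1 1 2 1 3 3 3 0 13 99) (@D3.rec (fun _ => Nat) 13 100 91 92 92 91 100 93 17 97 99 89 99 3 105 105 0 2 98 0 0 0 1 109 1 105 1 2 103 3 3 99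 0 1 4 1 0 1 1 2) (@D3.rec (fun _ => Nat) 99 1 118 120 113 0 94 119 98 116 4 115 16 1 90 90 90 1 63 94 63 64 0 96 99 67 64 101 1 103 8 8 1 99 103 101 0 8 8 8) (@D3.rec (fun _ => Nat) 62 108 3 119 1 69 1 1 4 1 1 80 59 1 4 108 106 0 1 2 10 0 0 0 1 115 106 117 1 14 103 103 102 98 98 0 1 0 0 1) (@D3.rec (fun _ => Nat) 94 0 1 100 1 69 112 8 107 102 105 0 1 104 8 62 105 1 104 4 3 3 56 3 113 1 4 4 1 93 3 1 94 1 96 1 2 96 111 4) (@D3.rec (fun _ => Nat) 109 1 7 94 1 7 98 79 7 0 0 120 98 63 116 65 0 1 107 1 85 58 111 0 1 104 9 9 9 104 106 1 61 0 93 1 1 109 0 0) (@D3.rec (fun _ => Nat) 1 103 106 9 0 1 106 61 61 61 61 58 113 98 110 110 106 108 0 114 115 115 114 109 103 1 107 0 1 0 1 2 0 72 113 72 72 0 121 117)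 (@D3.rec (fun _ => Nat) 1 1 87 114 1 104 95 104 104 103 0 1 106 8 112 114 95 1 97 0 0 1 1 9 0 59 0 1 64 1 1 1 2 68 82 112 68 106 1 1) (@D3.rec (fun _ => Nat) 7 68 95 1 1 7 95 101 8 7 0 91 64 114 64 0 1 107 97 6 0 0 115 1 93 1 96 0 1 76 99 96 0 1 6 7 1 2 99 78) (@D3.rec (fun _ => Nat) 71 78 78 115 1 78 1 110 104 1 112 88 121 99 120 1 110 1 119 106 119 107 109 1 105 106 108 104 58 107 114 103 106 107 112 61 6 105 119 6) (@D3.rec (fun _ => Nat) 6 7 99 107 116 101 7 111 1 113 101 113 113 6 116 101 104 113 107 0 1 6 107 115 115 111 120 121 0 1 2 1 108 1 116 1 4 114 119 106) (@D3.rec (fun _ => Nat) 119 112 89 103 91 102 113 110 108 117 119 121 1 85 17 70 112 113 1 99 1 1 77 77 77 0 4 109 106 108 1 91 94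 113 112 7 7 0 106 104) (@D3.rec (fun _ => Nat) 1 8 0 10 1 16 110 110 119 103 83 83 9 9 0 0 1 1 101 101 81 81 101 101 81 81 101 89 1 5 5 93 0 93 93 92 1 89 91 89) (@D3.rec (fun _ => Nat) 98 110 101 101 97 102 1 7 0 0 1 0 0 94 0 1 0 103 99 115 61 103 97 108 17 101 91 90 113 112 115 106 100 100 92 93 5 100 0 100)
def lv_g_18 : D2 → D3 → Nat := @D2.rec (fun _ => D3 → Nat) (@D3.rec (fun _ => Nat) 100 0 98 1 103 102 102 92 92 105 107 111 111 0 1 105 0 106 74 89 95 112 98 98 1 116 117 119 1 7 0 6 8 6 97 96 1 0 122 1) (@D3.rec (fun _ => Nat) 2 1 0 0 1 97 1 90 6 97 95 1 0 115 1 0 106 1 0 1 98 0 1 2 0 2 99 113 97 97 1 105 0 104 0 10 103 105 111 1) (@D3.rec (fun _ => Nat) 6 0 0 1 1 104 96 96 99 97 1 87 4 112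 0 1 1 2 2 1 105 99 0 0 0 1 1 2 10 118 7 104 109 95 0 0 0 0 0 1) (@D3.rec (fun _ => Nat) 85 85 16 16 110 98 16 16 115 63 115 120 110 102 1 0 7 114 7 7 9 106 86 113 103 1 114 95 1 114 85 115 1 8 104 0 0 104 1 1) (@D3.rec (fun _ => Nat) 8 0 110 0 1 120 105 1 107 105 1 105 105 86 87 84 95 97 0 1 97 107 0 1 1 5 119 0 92 1 116 8 118 10 108 1 116 6 92 6) (@D3.rec (fun _ => Nat) 92 0 95 1 1 3 0 1 1 114 4 122 124 87 87 1 121 1 121 7 121 119 121 118 18 64 88 88 99 113 17 84 5 5 5 5 85 11 91 91) (@D3.rec (fun _ => Nat) 4 105 99 94 110 101 113 112 112 94 90 5 0 110 112 88 112 94 1 3 89 95 4 96 14 108 14 87 0 14 14 108 98 92 92 96 1 0 0 1) (@D3.rec (fun _ => Nat) 106 91 0 92 1 106 106 104 1 106 91 91 118 0 92 1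 0 1 7 10 104 94 92 106 0 92 94 106 109 1 96 101 98 1 101 1 1 91 9 97) (@D3.rec (fun _ => Nat) 106 0 4 1 104 0 106 1 0 1 98 1 4 97 98 94 0 0 102 1 0 1 0 1 119 117 115 123 121 0 118 1 115 8 0 0 1 119 103 1) (@D3.rec (fun _ => Nat) 105 103 1 103 98 3 98 95 4 115 0 0 15 111 90 1 82 88 114 101 100 101 100 0 0 1 0 0 1 4 109 111 112 1 1 113 98 96 94 94) (@D3.rec (fun _ => Nat) 98 107 1 113 1 107 103 110 105 0 1 1 5 5 4 98 117 119 98 18 0 0 95 1 113 121 99 1 2 0 1 107 0 97 1 115 1 115 6 97) (@D3.rec (fun _ => Nat) 6 98 95 6 108 5 5 113 92 1 5 114 113 107 97 4 101 115 0 4 1 108 0 0 1 0 1 1 3 4 96 3 92 4 109 107 92 93 93 4) (@D3.rec (fun _ => Nat) 92 109 106 112 124 122 117 0 1 124 11 114 115 127 106 14 96 94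 91 92 96 94 94 110 94 5 4 4 4 4 106 0 81 101 81 4 95 1 118 1) (@D3.rec (fun _ => Nat) 98 96 5 98 116 107 6 6 98 6 6 6 6 100 97 13 12 64 64 62 5 66 5 5 106 5 5 5 117 115 112 98 98 97 6 110 62 62 118 115) (@D3.rec (fun _ => Nat) 118 113 17 0 7 6 6 92 118 112 116 116 1 110 112 7 118 118 113 0 1 101 85 84 106 114 110 1 1 4 103 108 111 1 4 65 94 104 113 111) (@D3.rec (fun _ => Nat) 110 112 86 118 112 0 1 1 2 92 106 111 3 116 116 1 117 1 107 1 1 0 116 4 1 0 0 1 116 116 1 116 1 2 8 8 9 117 118 115) (@D3.rec (fun _ => Nat) 1 0 115 1 66 0 1 110 1 65 84 1 84 84 1 117 84 88 84 96 1 118 82 67 67 1 95 1 3 0 1 1 88 120 105 0 1 5 1 98) (@D3.rec (fun _ => Nat) 116 114 116 1 0 116 1 115 116 91 1 5 0 1 110 112 116 114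 116 122 10 1 1 104 109 111 107 107 107 107 0 4 1 1 116 0 112 1 0 113) (@D3.rec (fun _ => Nat) 1 1 4 1 109 1 108 116 9 11 102 106 111 114 109 101 62 100 62 60 62 0 1 60 1 4 94 118 1 1 1 5 120 89 108 0 1 94 106 4) (@D3.rec (fun _ => Nat) 98 17 16 112 0 1 1 95 92 18 54 96 1 94 53 92 92 106 91 112 52 101 117 1 98 55 100 0 112 1 113 109 115 1 98 116 14 114 111 119) (@D3.rec (fun _ => Nat) 1 123 1 115 1 113 93 117 112 97 101 1 3 115 113 1 54 4 4 5 5 1 71 51 116 5 6 115 93 0 112 113 1 112 62 0 115 1 115 4) (@D3.rec (fun _ => Nat) 3 117 117 116 105 106 0 119 122 1 12 108 1 117 117 116 112 118 114 61 117 70 79 119 1 1 113 118 1 118 117 120 2 86 98 113 2 63 111 113) (@D3.rec (fun _ => Nat) 3 5 9 5 1 111 117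 115 115 0 0 1 120 1 119 1 5 4 106 118 120 120 1 123 0 1 99 104 106 106 1 107 4 1 4 109 0 110 1 107) (@D3.rec (fun _ => Nat) 0 1 1 4 107 1 3 4 0 1 109 116 1 107 115 0 115 1 0 1 0 1 61 1 65 84 119 110 1 87 117 113 6 1 95 97 96 93 1 0) (@D3.rec (fun _ => Nat) 115 1 1 7 0 4 1 0 1 1 2 102 114 95 1 1 80 1 86 0 0 0 105 1 0 7 1 105 6 1 99 2 84 82 84 112 119 101 7 1) (@D3.rec (fun _ => Nat) 111 99 1 1 68 7 1 1 68 6 109 68 101 65 101 60 62 119 1 98 0 1 0 1 1 2 93 98 101 1 86 67 66 103 65 113 66 0 1 1)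
def lv_g_19 : D2 → D3 → Nat := @D2.rec (fun _ => D3 → Nat) (@D3.rec (fun _ => Nat) 1 114 119 58 0 115 6 1 0 103 0 1 0 106 114 1 1 7 117 4 1 0 1 1 2 0 112 94 1 102 1 3 9 0 104 0 98 1 105 7) (@D3.rec (fun _ => Nat) 1 113 6 1 0 104 109 117 4 100 109 105 108 1 106 102 1 100 1 7 119 113 1 6 1 115 0 59 109 118 114 120 1 59 59 101 103 1 104 1) (@D3.rec (fun _ => Nat) 95 113 106 1 95 73 74 112 74 74 73 74 1 96 0 98 1 1 119 1 4 1 123 2 0 94 1 0 1 1 4 64 1 111 3 1 2 116 4 1) (@D3.rec (fun _ => Nat) 0 122 0 92 1 120 1 1 4 121 67 1 62 1 103 115 87 113 117 88 0 111 1 1 2 89 120 1 6 1 119 117 4 92 117 89 91 91 90 118) (@D3.rec (fun _ => Nat) 79 103 113 1 103 110 113 66 116 116 121 108 1 94 102 118 1 0 1 110 113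 1 113 100 106 0 1 1 94 111 110 103 110 116 0 4 1 117 1 1) (@D3.rec (fun _ => Nat) 4 112 99 110 0 5 1 5 1 114 1 0 1 1 5 1 5 115 100 105 1 105 1 1 101 1 86 119 117 119 114 1 100 102 112 115 106 109 0 0) (@D3.rec (fun _ => Nat) 1 1 3 1 4 104 99 1 112 116 5 1 1 5 113 115 103 61 0 1 127 1 111 113 105 0 1 112 1 0 1 9 111 103 1 9 107 111 116 114) (@D3.rec (fun _ => Nat) 116 114 110 111 109 118 120 108 110 114 115 106 0 108 108 104 1 99 112 110 0 103 1 103 110 0 1 9 0 114 1 9 103 104 113 113 113 105 115 0) (@D3.rec (fun _ => Nat) 104 1 104 104 124 113 116 119 114 121 121 119 0 1 7 1 1 118 118 8 104 23 1 0 1 106 116 1 76 106 23 109 108 107 107 112 107 1 57 4) (@D3.rec (fun _ => Nat) 4 14 113 4 1 16 110 1 13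 111 1 109 59 61 61 14 86 1 102 15 1 14 105 90 88 1 95 15 86 86 111 109 11 10 10 10 101 10 0 1) (@D3.rec (fun _ => Nat) 60 127 95 88 94 99 87 83 83 7 95 81 6 113 117 103 1 105 0 1 66 1 106 60 105 58 107 122 109 102 1 107 87 1 1 107 115 114 114 101) (@D3.rec (fun _ => Nat) 1 1 112 1 98 106 108 113 118 1 107 112 108 1 1 3 84 6 100 1 1 91 1 76 76 100 91 6 99 108 0 76 1 2 1 111 76 59 109 111) (@D3.rec (fun _ => Nat) 0 1 115 1 97 104 98 16 103 7 83 113 103 93 111 111 113 100 94 90 106 103 10 0 1 100 95 95 110 0 1 0 1 1 1 11 7 98 105 105) (@D3.rec (fun _ => Nat) 110 16 4 4 93 5 109 113 105 114 87 0 8 1 4 96 93 1 0 1 75 4 15 0 1 90 109 107 1 84 24 0 110 1 5 0 96 96 94 94) (@D3.rec (fun _ => Nat) 101 1 102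 94 102 5 11 4 104 97 4 4 106 104 4 111 117 116 116 87 107 6 102 15 112 8 108 102 102 102 116 96 96 3 119 1 1 1 4 8) (@D3.rec (fun _ => Nat) 8 8 121 4 0 1 101 0 1 1 5 108 114 0 107 8 1 115 113 119 1 113 113 108 95 0 1 100 112 0 1 1 1 110 113 116 105 1 104 117) (@D3.rec (fun _ => Nat) 112 1 12 116 114 1 115 1 2 101 98 115 1 4 4 97 117 5 103 112 110 0 106 1 106 118 105 118 102 99 106 108 113 120 97 114 0 1 105 0) (@D3.rec (fun _ => Nat) 1 114 4 118 1 115 1 99 1 5 8 114 106 103 1 2 91 0 1 1 94 100 103 1 109 5 1 105 113 0 0 1 108 0 1 7 5 50 50 112) (@D3.rec (fun _ => Nat) 0 93 1 111 113 115 105 115 1 67 101 105 1 99 3 113 105 105 105 82 5 4 4 1 4 118 0 1 1 102 105 1 92 117 1 106 1 1 94 108) (@D3.rec (fun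 _ => Nat) 110 1 108 5 1 113 101 0 0 1 114 108 1 116 5 111 0 1 0 121 1 1 114 2 109 1 116 118 1 118 116 92 1 112 93 1 115 117 113 115) (@D3.rec (fun _ => Nat) 113 122 122 117 119 109 114 1 117 7 117 96 117 117 117 117 115 1 119 123 1 116 2 114 116 114 116 99 114 123 118 102 1 119 1 116 119 122 118 63) (@D3.rec (fun _ => Nat) 120 1 1 1 86 115 116 118 115 1 60 88 91 4 5 11 13 0 1 1 105 103 1 120 1 2 1 3 111 112 102 11 119 12 11 13 118 111 0 120) (@D3.rec (fun _ => Nat) 1 89 120 1 87 1 85 85 110 87 110 97 0 9 0 0 0 1 0 1 11 1 117 1 12 66 94 2 119 117 115 114 93 91 107 1 90 120 101 1) (@D3.rec (fun _ => Nat) 68 106 64 68 116 117 1 62 0 1 1 1 7 100 100 116 101 87 1 105 89 105 107 107 1 90 108 1 1 60 60 118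 10 0 1 1 111 0 1 69) (@D3.rec (fun _ => Nat) 1 116 107 115 1 60 98 8 0 1 94 104 89 1 1 1 2 93 1 107 7 108 117 110 1 112 1 113 0 111 1 113 1 0 1 105 1 60 1 87) (@D3.rec (fun _ => Nat) 0 117 1 111 119 112 114 1 115 100 1 112 115 118 120 123 120 122 121 0 120 1 119 120 125 1 119 117 119 121 119 120 1 110 111 122 118 89 1 1)
def lv_g_20 : D2 → D3 → Nat := @D2.rec (fun _ => D3 → Nat) (@D3.rec (fun _ => Nat) 105 9 8 112 114 119 116 1 115 108 111 114 114 1 120 117 122 116 115 116 119 95 100 1 112 1 7 99 97 5 5 1 117 5 94 0 95 1 62 113) (@D3.rec (fun _ => Nat) 98 7 1 96 110 1 114 112 106 108 100 98 98 98 95 107 107 0 1 119 107 0 1 1 87 91 91 95 108 6 8 118 94 1 1 116 1 97 94 1) (@D3.rec (fun _ => Nat) 117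 1 1 99 99 119 1 115 18 95 1 77 111 6 1 1 98 96 107 109 110 2 109 0 119 10 7 103 1 1 104 69 102 115 78 3 95 3 3 98) (@D3.rec (fun _ => Nat) 96 93 98 4 0 98 101 3 0 1 108 11 67 1 119 114 18 1 9 117 1 112 113 0 0 1 0 1 102 1 0 0 122 1 97 0 1 1 106 120) (@D3.rec (fun _ => Nat) 1 72 12 116 87 92 96 88 117 1 90 3 4 3 3 111 113 113 118 98 119 3 0 1 106 92 98 104 95 95 106 0 103 101 99 98 113 0 3 0) (@D3.rec (fun _ => Nat) 1 113 0 109 1 94 0 1 1 4 3 103 108 102 97 1 106 101 1 3 118 118 99 3 113 1 109 104 116 88 90 90 113 113 99 98 101 63 109 101) (@D3.rec (fun _ => Nat) 1 64 97 95 108 104 9 9 9 101 107 116 103 1 9 59 115 107 1 0 1 0 1 1 116 116 102 102 100 112 111 1 94 0 1 107 1 74 1 94) (@D3.rec (fun _ =>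 Nat) 100 115 120 110 108 104 0 1 102 107 75 4 2 90 106 98 88 100 96 104 114 113 8 103 8 98 8 8 0 104 101 79 0 7 114 1 0 0 1 119) (@D3.rec (fun _ => Nat) 95 1 66 104 1 112 114 111 108 61 109 1 2 109 4 1 1 2 108 0 1 108 105 63 61 61 118 0 98 0 1 116 110 117 117 111 103 104 111 0) (@D3.rec (fun _ => Nat) 116 1 2 1 2 8 3 113 113 0 119 1 107 75 112 1 106 95 111 110 1 104 114 124 0 0 1 1 103 103 0 1 61 123 1 2 93 101 106 109) (@D3.rec (fun _ => Nat) 8 8 101 90 8 8 116 94 101 97 98 0 1 0 1 120 120 118 1 1 103 102 1 103 0 8 1 121 2 108 115 96 107 71 71 119 119 111 117 7) (@D3.rec (fun _ => Nat) 111 7 99 105 106 112 101 120 111 110 104 117 105 104 106 108 111 115 1 1 113 117 118 118 117 114 77 77 0 109 1 113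 95 86 107 106 0 1 106 78) (@D3.rec (fun _ => Nat) 96 1 110 100 121 111 85 111 119 1 113 1 109 101 101 82 82 108 82 110 1 86 112 89 113 116 99 99 104 102 102 100 117 1 1 1 96 1 104 1) (@D3.rec (fun _ => Nat) 103 103 1 113 63 102 107 18 93 92 118 117 106 102 102 94 95 100 1 105 1 104 118 115 103 118 100 119 111 1 114 1 106 105 98 96 100 98 110 116) (@D3.rec (fun _ => Nat) 1 10 104 121 99 112 1 2 1 1 88 3 97 100 4 112 1 106 92 106 1 106 98 112 1 101 100 1 2 99 3 99 0 101 1 3 105 3 112 95) (@D3.rec (fun _ => Nat) 1 104 1 85 117 1 1 118 112 114 103 107 109 112 1 90 107 107 1 128 1 1 2 122 12 117 114 114 97 0 99 106 109 0 0 1 110 103 1 1) (@D3.rec (fun _ => Nat) 103 1 1 85 116 17 110 113 115 115 121 113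 122 102 104 123 1 113 106 115 108 108 108 117 90 94 106 0 104 1 1 0 120 0 1 0 120 107 1 107) (@D3.rec (fun _ => Nat) 116 107 104 110 86 107 86 96 1 1 6 6 114 117 119 1 119 120 117 115 120 117 119 117 105 1 4 1 112 123 123 89 89 121 121 123 121 123 121 122) (@D3.rec (fun _ => Nat) 119 120 122 123 19 90 99 108 109 0 93 107 106 126 120 93 94 105 112 111 112 104 116 118 112 110 110 116 112 1 107 114 110 4 89 87 0 1 15 110) (@D3.rec (fun _ => Nat) 92 92 92 1 1 100 93 93 113 106 92 1 95 116 93 93 93 98 118 92 1 1 8 9 117 94 106 0 106 93 101 1 104 94 106 96 110 109 102 99) (@D3.rec (fun _ => Nat) 104 104 5 1 106 108 1 123 106 98 1 5 99 93 99 99 99 99 0 102 1 1 0 107 1 98 110 1 111 115 115 116 125 128 118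 1 125 118 122 112) (@D3.rec (fun _ => Nat) 0 120 1 1 105 107 100 99 4 99 99 99 105 98 107 5 113 1 109 1 122 100 118 102 120 116 110 1 124 122 1 110 111 122 1 1 116 118 116 119) (@D3.rec (fun _ => Nat) 94 94 105 116 0 1 6 6 6 100 100 0 0 1 117 108 97 1 2 116 0 1 107 99 1 97 7 98 117 97 102 95 118 117 109 98 101 111 111 5) (@D3.rec (fun _ => Nat) 1 110 0 1 1 1 4 5 98 95 4 93 108 110 95 93 93 93 5 95 111 112 113 122 124 110 1 121 10 124 108 115 94 95 94 94 112 111 110 110) (@D3.rec (fun _ => Nat) 5 1 83 81 100 113 0 7 99 7 7 110 113 15 65 106 6 117 101 102 104 110 62 62 116 0 1 7 119 116 118 120 113 0 1 5 111 5 95 111) (@D3.rec (fun _ => Nat) 114 115 1 3 121 122 97 110 1 118 118 1 118 1 103 114 9 104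 117 115 1 119 1 116 119 119 120 70 116 1 104 1 118 122 116 118 1 116 91 113)
def lv_g_21 : D2 → D3 → Nat := @D2.rec (fun _ => D3 → Nat) (@D3.rec (fun _ => Nat) 116 91 1 114 122 119 106 116 107 1 116 113 109 1 1 109 118 107 14 116 103 105 62 112 1 103 107 1 107 17 90 1 105 54 111 109 116 114 109 114) (@D3.rec (fun _ => Nat) 1 119 116 118 119 113 94 115 114 5 5 111 6 1 112 1 109 119 118 107 117 0 1 11 117 99 119 79 109 114 117 114 63 118 1 1 117 117 114 119) (@D3.rec (fun _ => Nat) 104 118 1 111 110 113 110 114 1 107 1 112 1 111 1 117 1 1 61 116 117 115 109 106 95 95 4 1 95 1 95 1 117 62 97 82 102 1 1 110) (@D3.rec (fun _ => Nat) 1 2 113 1 103 111 84 113 110 101 121 108 100 1 1 102 1 117 1 115 112 107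 1 1 1 113 101 4 114 1 4 125 1 4 105 1 106 111 1 119) (@D3.rec (fun _ => Nat) 105 103 114 1 109 100 109 107 114 1 59 103 120 73 121 1 118 63 119 2 118 115 120 119 122 112 1 1 63 118 101 121 123 118 118 119 118 118 1 118) (@D3.rec (fun _ => Nat) 1 117 116 117 114 1 111 91 111 1 114 114 100 1 113 117 5 1 5 112 117 1 121 1 85 111 1 1 4 104 1 112 107 118 1 112 0 1 10 110) (@D3.rec (fun _ => Nat) 112 112 10 114 113 111 120 113 122 119 122 107 110 1 112 107 112 0 102 1 105 112 0 1 10 113 103 1 118 10 0 106 114 114 109 0 119 119 1 117) (@D3.rec (fun _ => Nat) 108 106 116 121 116 121 1 8 120 121 1 98 107 113 108 97 59 14 106 97 105 92 17 0 86 109 125 114 113 1 108 94 88 83 119 120 1 121 66 114) (@D3.rec (fun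 _ => Nat) 111 60 118 111 107 117 115 116 94 101 78 78 100 121 91 109 102 78 0 1 2 96 61 109 97 1 123 113 110 9 105 103 95 95 113 109 99 1 108 98) (@D3.rec (fun _ => Nat) 1 1 121 112 110 16 96 5 95 105 89 89 112 111 8 1 95 97 95 1 97 117 109 1 109 111 112 117 119 114 1 100 1 114 108 100 99 121 6 13) (@D3.rec (fun _ => Nat) 88 104 104 127 5 1 1 6 1 107 120 97 1 102 1 112 113 116 113 123 5 97 105 1 118 1 1 99 1 92 96 123 1 124 1 117 116 1 114 112) (@D3.rec (fun _ => Nat) 117 1 115 115 82 106 105 1 96 124 114 116 1 117 1 120 100 118 1 123 1 2 120 118 120 118 118 117 118 120 122 120 124 118 119 122 126 122 2 5) (@D3.rec (fun _ => Nat) 0 13 15 116 1 3 3 95 112 114 120 112 3 113 121 111 14 87 1 0 1 112 123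 122 1 108 1 1 1 0 71 110 112 1 102 114 101 108 61 1) (@D3.rec (fun _ => Nat) 1 1 95 109 117 115 111 1 123 1 111 114 1 121 120 118 124 120 122 123 125 1 120 124 117 1 103 106 98 118 110 1 1 105 111 111 101 99 119 10) (@D3.rec (fun _ => Nat) 96 111 93 1 105 92 80 80 4 4 4 119 121 99 101 4 0 1 98 0 4 1 127 123 119 120 1 0 1 1 119 1 1 106 1 106 97 104 119 127) (@D3.rec (fun _ => Nat) 106 4 100 4 108 4 4 1 100 103 1 101 110 102 1 104 1 94 1 1 112 105 121 97 111 119 105 99 120 121 107 115 115 103 1 1 121 109 1 96) (@D3.rec (fun _ => Nat) 109 102 117 120 115 1 112 92 91 98 106 101 89 105 9 116 114 1 106 106 79 1 107 1 1 125 110 2 119 123 108 110 1 103 123 1 104 1 100 114) (@D3.rec (fun _ => Nat) 1 2 9 3 115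 3 1 100 111 114 104 1 1 104 1 117 9 118 114 115 120 103 113 122 1 1 6 114 1 121 105 115 115 114 108 119 0 108 105 118) (@D3.rec (fun _ => Nat) 108 112 1 124 1 78 103 103 83 83 116 120 110 102 102 109 94 95 102 122 100 108 108 114 119 3 102 104 109 118 1 102 113 127 116 114 116 1 110 0) (@D3.rec (fun _ => Nat) 1 117 1 108 114 87 117 118 119 112 120 1 120 112 1 127 1 1 110 120 107 107 99 120 95 89 121 126 119 123 121 119 124 122 1 95 104 114 111 120) (@D3.rec (fun _ => Nat) 1 16 110 94 97 103 119 93 118 93 93 100 13 0 106 106 96 1 94 102 102 109 107 101 96 100 99 113 101 100 1 100 116 1 104 100 123 123 122 115) (@D3.rec (fun _ => Nat) 1 107 107 99 100 99 5 100 103 105 113 118 112 111 1 7 118 1 114 1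 115 1 100 117 111 100 1 98 94 5 92 95 121 13 117 116 98 113 111 113) (@D3.rec (fun _ => Nat) 1 117 124 64 1 126 120 1 125 104 98 87 118 118 111 118 107 112 119 101 114 121 1 119 117 111 126 115 114 119 119 1 113 103 109 118 124 117 112 123) (@D3.rec (fun _ => Nat) 117 1 2 113 127 1 120 116 119 119 1 110 110 117 121 124 1 107 121 124 121 0 1 126 109 117 95 88 122 122 60 109 114 1 111 96 95 101 123 125) (@D3.rec (fun _ => Nat) 122 123 118 122 120 122 122 122 122 115 115 127 126 115 1 113 108 114 116 113 123 1 113 1 124 112 124 126 125 125 122 93 105 105 110 5 120 5 1 1) (@D3.rec (fun _ => Nat) 129 125 1 126 113 122 108 124 110 116 3 6 110 115 119 1 116 111 96 124 1 128 123 100 95 1 100 101 100 125 102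 101 111 120 2 120 1 124 122 125)
def lv_g : Pt → Nat := @Pt.rec (fun _ => Nat) (@D1.rec (fun _ => D2 → D3 → Nat) lv_g_0 lv_g_1 lv_g_2 lv_g_3 lv_g_4 lv_g_5 lv_g_6 lv_g_7 lv_g_8 lv_g_9 lv_g_10 lv_g_11 lv_g_12 lv_g_13 lv_g_14 lv_g_15 lv_g_16 lv_g_17 lv_g_18 lv_g_19 lv_g_20 lv_g_21)
abbrev lc_g_Cert_tree : Cert rels S Gen.g := Cert.tree
abbrev lc_g_rc_12_1 : Cert rels S Gen.g := rc_12_1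
abbrev lc_g_rc_12_3 : Cert rels S Gen.g := rc_12_3
abbrev lc_g_rc_12_5 : Cert rels S Gen.g := rc_12_5
abbrev lc_g_rc_17_1 : Cert rels S Gen.g := rc_17_1
abbrev lc_g_rc_17_3 : Cert rels S Gen.g := rc_17_3
abbrev lc_g_rc_21_1 : Cert rels S Gen.g := rc_21_1
abbrev lc_g_rc_21_3 : Cert rels S Gen.g := rc_21_3
abbrev lc_g_rc_24_1 : Cert rels S Gen.g := rc_24_1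
abbrev lc_g_rc_24_3 : Cert rels S Gen.g := rc_24_3
abbrev lc_g_rc_26_1 : Cert rels S Gen.g := rc_26_1
abbrev lc_g_rc_26_3 : Cert rels S Gen.g := rc_26_3
abbrev lc_g_rc_26_5 : Cert rels S Gen.g := rc_26_5
abbrev lc_g_rc_26_7 : Cert rels S Gen.g := rc_26_7
abbrev lc_g_rc_27_0 : Cert rels S Gen.g := rc_27_0
abbrev lc_g_rc_27_1 : Cert rels S Gen.g := rc_27_1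
abbrev lc_g_rc_29_1 : Cert rels S Gen.g := rc_29_1
abbrev lc_g_rc_29_3 : Cert rels S Gen.g := rc_29_3
abbrev lc_g_rc_31_11 : Cert rels S Gen.g := rc_31_11
abbrev lc_g_rc_31_14 : Cert rels S Gen.g := rc_31_14
abbrev lc_g_rc_31_2 : Cert rels S Gen.g := rc_31_2
abbrev lc_g_rc_31_5 : Cert rels S Gen.g := rc_31_5
abbrev lc_g_rc_31_8 : Cert rels S Gen.g := rc_31_8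
abbrev lc_g_rc_6_1 : Cert rels S Gen.g := rc_6_1
abbrev lc_g_rc_6_3 : Cert rels S Gen.g := rc_6_3
abbrev lc_g_sc_5_0 : Cert rels S Gen.g := sc_5_0
def ce_g_0 : D2 → D3 → (Cert rels S Gen.g) := @D2.rec (fun _ => D3 → (Cert rels S Gen.g)) (@D3.rec (fun _ => (Cert rels S Gen.g)) lc_g_sc_5_0 lc_g_rc_24_1 lc_g_rc_21_1 lc_g_rc_17_1 lc_g_Cert_tree lc_g_rc_21_1 lc_g_Cert_tree lc_g_Cert_tree lc_g_Cert_tree lc_g_rc_27_0 lc_g_rc_24_1 lc_g_Cert_tree lc_g_Cert_tree lc_g_rc_6_3 lc_g_rc_27_0 lc_g_Cert_tree lc_g_Cert_tree lc_g_Cert_tree lc_g_rc_27_0 lc_g_rc_27_0 lc_g_rc_29_3 lc_g_Cert_tree lc_g_Cert_tree lc_g_Cert_tree lc_g_rc_27_0 lc_g_Cert_tree lc_g_Cert_tree lc_g_rc_6_3 lc_g_rc_27_0 lc_g_Cert_tree lc_g_rc_12_3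 lc_g_Cert_tree lc_g_Cert_tree lc_g_Cert_tree lc_g_rc_27_0 lc_g_Cert_tree lc_g_rc_27_0 lc_g_rc_27_0 lc_g_rc_6_1 lc_g_rc_12_3) (@D3.rec (fun _ => (Cert rels S Gen.g)) lc_g_Cert_tree lc_g_Cert_tree lc_g_rc_6_3 lc_g_rc_27_0 lc_g_Cert_tree lc_g_Cert_tree lc_g_Cert_tree lc_g_rc_27_0 lc_g_Cert_tree lc_g_rc_27_0 lc_g_rc_12_3 lc_g_rc_29_3 lc_g_Cert_tree lc_g_Cert_tree lc_g_Cert_tree lc_g_rc_6_3 lc_g_rc_27_0 lc_g_rc_6_3 lc_g_rc_27_0 lc_g_Cert_tree lc_g_rc_12_3 lc_g_rc_29_1 lc_g_Cert_tree lc_g_rc_27_0 lc_g_rc_6_1 lc_g_rc_6_1 lc_g_rc_6_3 lc_g_Cert_tree lc_g_Cert_tree lc_g_rc_27_0 lc_g_Cert_tree lc_g_Cert_tree lc_g_rc_27_0 lc_g_Cert_tree lc_g_rc_27_0 lc_g_rc_12_3 lc_g_rc_6_1 lc_g_rc_27_0 lc_g_rc_6_1 lc_g_rc_12_3)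 (@D3.rec (fun _ => (Cert rels S Gen.g)) lc_g_Cert_tree lc_g_rc_29_3 lc_g_rc_17_1 lc_g_rc_29_3 lc_g_Cert_tree lc_g_Cert_tree lc_g_rc_27_0 lc_g_Cert_tree lc_g_Cert_tree lc_g_rc_6_3 lc_g_rc_27_0 lc_g_rc_12_3 lc_g_rc_12_3 lc_g_Cert_tree lc_g_Cert_tree lc_g_Cert_tree lc_g_Cert_tree lc_g_rc_27_0 lc_g_Cert_tree lc_g_rc_27_0 lc_g_Cert_tree lc_g_rc_27_0 lc_g_rc_12_3 lc_g_rc_6_1 lc_g_rc_27_0 lc_g_rc_12_3 lc_g_rc_12_3 lc_g_rc_29_3 lc_g_Cert_tree lc_g_Cert_tree lc_g_Cert_tree lc_g_Cert_tree lc_g_rc_27_0 lc_g_Cert_tree lc_g_rc_6_3 lc_g_rc_27_0 lc_g_Cert_tree lc_g_rc_6_3 lc_g_rc_27_0 lc_g_Cert_tree) (@D3.rec (fun _ => (Cert rels S Gen.g)) lc_g_rc_12_3 lc_g_Cert_tree lc_g_rc_12_3 lc_g_rc_29_1 lc_g_Cert_tree lc_g_rc_27_0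 lc_g_rc_6_1 lc_g_rc_17_1 lc_g_Cert_tree lc_g_rc_12_1 lc_g_rc_29_1 lc_g_rc_27_0 lc_g_rc_29_1 lc_g_rc_6_1 lc_g_rc_6_1 lc_g_Cert_tree lc_g_Cert_tree lc_g_rc_27_0 lc_g_rc_24_3 lc_g_rc_27_0 lc_g_rc_12_3 lc_g_rc_6_1 lc_g_Cert_tree lc_g_Cert_tree lc_g_rc_27_0 lc_g_Cert_tree lc_g_rc_27_0 lc_g_rc_12_3 lc_g_rc_6_1 lc_g_rc_27_0 lc_g_rc_12_3 lc_g_rc_29_3 lc_g_rc_29_1 lc_g_rc_12_3 lc_g_Cert_tree lc_g_rc_29_3 lc_g_rc_17_1 lc_g_rc_29_3 lc_g_Cert_tree lc_g_Cert_tree) (@D3.rec (fun _ => (Cert rels S Gen.g)) lc_g_rc_27_0 lc_g_rc_29_3 lc_g_rc_29_1 lc_g_rc_29_3 lc_g_Cert_tree lc_g_rc_27_0 lc_g_rc_27_0 lc_g_rc_12_1 lc_g_Cert_tree lc_g_Cert_tree lc_g_rc_6_3 lc_g_rc_27_0 lc_g_rc_6_3 lc_g_rc_27_0 lc_g_rc_12_3 lc_g_rc_12_3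 lc_g_Cert_tree lc_g_Cert_tree lc_g_Cert_tree lc_g_Cert_tree lc_g_rc_27_0 lc_g_Cert_tree lc_g_Cert_tree lc_g_rc_27_0 lc_g_Cert_tree lc_g_Cert_tree lc_g_rc_27_0 lc_g_Cert_tree lc_g_rc_27_0 lc_g_rc_12_3 lc_g_rc_6_1 lc_g_Cert_tree lc_g_rc_27_0 lc_g_rc_12_3 lc_g_rc_6_1 lc_g_Cert_tree lc_g_rc_27_0 lc_g_rc_12_3 lc_g_rc_17_1 lc_g_rc_12_3) (@D3.rec (fun _ => (Cert rels S Gen.g)) lc_g_rc_29_3 lc_g_rc_12_1 lc_g_Cert_tree lc_g_Cert_tree lc_g_rc_6_3 lc_g_rc_27_0 lc_g_Cert_tree lc_g_Cert_tree lc_g_rc_27_0 lc_g_Cert_tree lc_g_Cert_tree lc_g_rc_27_0 lc_g_rc_29_3 lc_g_rc_27_0 lc_g_rc_12_3 lc_g_rc_29_3 lc_g_Cert_tree lc_g_rc_6_3 lc_g_rc_27_0 lc_g_Cert_tree lc_g_rc_12_3 lc_g_Cert_tree lc_g_rc_6_3 lc_g_rc_27_0 lc_g_Cert_tree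 lc_g_rc_12_3 lc_g_Cert_tree lc_g_Cert_tree lc_g_rc_27_0 lc_g_rc_6_1 lc_g_rc_17_1 lc_g_rc_6_3 lc_g_rc_29_1 lc_g_Cert_tree lc_g_rc_27_0 lc_g_rc_6_1 lc_g_rc_17_1 lc_g_Cert_tree lc_g_rc_12_1 lc_g_rc_29_1) (@D3.rec (fun _ => (Cert rels S Gen.g)) lc_g_Cert_tree lc_g_rc_27_0 lc_g_rc_29_3 lc_g_rc_29_1 lc_g_rc_17_1 lc_g_rc_21_1 lc_g_Cert_tree lc_g_rc_27_0 lc_g_rc_29_1 lc_g_rc_6_3 lc_g_rc_17_1 lc_g_rc_6_1 lc_g_Cert_tree lc_g_Cert_tree lc_g_rc_27_0 lc_g_rc_24_3 lc_g_rc_27_0 lc_g_rc_12_3 lc_g_rc_6_1 lc_g_rc_31_2 lc_g_rc_6_3 lc_g_rc_17_1 lc_g_rc_29_1 lc_g_Cert_tree lc_g_Cert_tree lc_g_rc_27_0 lc_g_Cert_tree lc_g_rc_27_0 lc_g_rc_21_1 lc_g_rc_6_1 lc_g_rc_27_0 lc_g_rc_12_3 lc_g_rc_29_3 lc_g_rc_29_1 lc_g_rc_12_3 lc_g_rc_29_3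 lc_g_rc_17_1 lc_g_rc_6_1 lc_g_rc_29_3 lc_g_rc_29_1) (@D3.rec (fun _ => (Cert rels S Gen.g)) lc_g_rc_29_3 lc_g_rc_17_1 lc_g_rc_29_3 lc_g_Cert_tree lc_g_Cert_tree lc_g_rc_27_0 lc_g_rc_29_3 lc_g_rc_29_1 lc_g_rc_29_3 lc_g_Cert_tree lc_g_rc_27_0 lc_g_rc_27_0 lc_g_rc_29_1 lc_g_rc_27_0 lc_g_rc_12_1 lc_g_rc_12_1 lc_g_Cert_tree lc_g_rc_6_3 lc_g_rc_27_0 lc_g_Cert_tree lc_g_rc_6_3 lc_g_rc_27_0 lc_g_rc_12_3 lc_g_rc_12_3 lc_g_Cert_tree lc_g_Cert_tree lc_g_rc_6_3 lc_g_rc_27_0 lc_g_Cert_tree lc_g_Cert_tree lc_g_rc_27_0 lc_g_Cert_tree lc_g_Cert_tree lc_g_rc_27_0 lc_g_Cert_tree lc_g_rc_27_0 lc_g_rc_12_3 lc_g_rc_29_3 lc_g_Cert_tree lc_g_Cert_tree) (@D3.rec (fun _ => (Cert rels S Gen.g)) lc_g_rc_27_0 lc_g_Cert_tree lc_g_rc_27_0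 lc_g_rc_12_3 lc_g_rc_6_1 lc_g_Cert_tree lc_g_Cert_tree lc_g_rc_27_0 lc_g_Cert_tree lc_g_rc_27_0 lc_g_rc_12_3 lc_g_rc_6_1 lc_g_rc_26_3 lc_g_Cert_tree lc_g_rc_27_0 lc_g_rc_12_3 lc_g_rc_6_1 lc_g_rc_17_1 lc_g_Cert_tree lc_g_rc_31_11 lc_g_Cert_tree lc_g_rc_27_0 lc_g_rc_12_3 lc_g_rc_17_1 lc_g_rc_12_3 lc_g_rc_6_1 lc_g_Cert_tree lc_g_rc_27_0 lc_g_rc_17_1 lc_g_rc_21_1 lc_g_rc_17_1 lc_g_rc_6_1 lc_g_rc_12_1 lc_g_rc_12_1 lc_g_Cert_tree lc_g_rc_6_3 lc_g_rc_27_0 lc_g_Cert_tree lc_g_rc_6_3 lc_g_rc_27_0) (@D3.rec (fun _ => (Cert rels S Gen.g)) lc_g_Cert_tree lc_g_Cert_tree lc_g_rc_27_0 lc_g_rc_29_3 lc_g_rc_27_0 lc_g_rc_12_3 lc_g_rc_6_1 lc_g_Cert_tree lc_g_Cert_tree lc_g_rc_27_0 lc_g_rc_29_3 lc_g_rc_27_0 lc_g_rc_12_3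 lc_g_rc_6_1 lc_g_rc_29_3 lc_g_rc_12_3 lc_g_rc_17_1 lc_g_rc_31_11 lc_g_Cert_tree lc_g_rc_6_3 lc_g_rc_27_0 lc_g_Cert_tree lc_g_rc_12_3 lc_g_Cert_tree lc_g_rc_21_1 lc_g_rc_27_0 lc_g_rc_21_1 lc_g_rc_21_1 lc_g_rc_6_3 lc_g_Cert_tree lc_g_rc_17_1 lc_g_rc_27_0 lc_g_Cert_tree lc_g_rc_12_3 lc_g_Cert_tree lc_g_Cert_tree lc_g_rc_27_0 lc_g_rc_6_1 lc_g_rc_17_1 lc_g_rc_6_3) (@D3.rec (fun _ => (Cert rels S Gen.g)) lc_g_Cert_tree lc_g_rc_27_0 lc_g_Cert_tree lc_g_rc_27_0 lc_g_rc_6_1 lc_g_rc_29_1 lc_g_rc_21_1 lc_g_rc_6_3 lc_g_rc_12_1 lc_g_rc_29_1 lc_g_Cert_tree lc_g_rc_27_0 lc_g_rc_29_3 lc_g_rc_29_1 lc_g_rc_17_1 lc_g_rc_21_1 lc_g_Cert_tree lc_g_rc_27_0 lc_g_rc_29_1 lc_g_Cert_tree lc_g_rc_27_0 lc_g_rc_12_3 lc_g_rc_6_1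 lc_g_rc_21_1 lc_g_rc_24_1 lc_g_Cert_tree lc_g_Cert_tree lc_g_rc_27_0 lc_g_Cert_tree lc_g_rc_29_1 lc_g_rc_6_3 lc_g_rc_12_3 lc_g_rc_21_1 lc_g_rc_17_1 lc_g_Cert_tree lc_g_Cert_tree lc_g_Cert_tree lc_g_rc_27_0 lc_g_Cert_tree lc_g_rc_27_0) (@D3.rec (fun _ => (Cert rels S Gen.g)) lc_g_rc_21_1 lc_g_rc_6_1 lc_g_rc_31_2 lc_g_rc_6_3 lc_g_rc_17_1 lc_g_rc_29_1 lc_g_rc_29_3 lc_g_rc_29_3 lc_g_Cert_tree lc_g_Cert_tree lc_g_rc_27_0 lc_g_Cert_tree lc_g_rc_27_0 lc_g_rc_12_3 lc_g_rc_17_1 lc_g_Cert_tree lc_g_rc_27_0 lc_g_rc_12_3 lc_g_rc_17_1 lc_g_rc_29_3 lc_g_rc_29_1 lc_g_rc_12_3 lc_g_rc_29_3 lc_g_rc_17_1 lc_g_rc_6_1 lc_g_rc_29_3 lc_g_rc_29_1 lc_g_rc_17_1 lc_g_rc_12_3 lc_g_rc_29_3 lc_g_rc_21_1 lc_g_rc_6_1 lc_g_rc_29_3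 lc_g_rc_29_3 lc_g_rc_29_1 lc_g_rc_29_3 lc_g_rc_29_1 lc_g_rc_21_1 lc_g_rc_29_3 lc_g_Cert_tree) (@D3.rec (fun _ => (Cert rels S Gen.g)) lc_g_rc_27_0 lc_g_Cert_tree lc_g_rc_27_0 lc_g_rc_29_1 lc_g_Cert_tree lc_g_rc_27_0 lc_g_rc_12_3 lc_g_rc_31_5 lc_g_rc_31_11 lc_g_rc_17_1 lc_g_rc_12_1 lc_g_rc_12_1 lc_g_Cert_tree lc_g_rc_6_3 lc_g_rc_27_0 lc_g_Cert_tree lc_g_rc_6_3 lc_g_rc_27_0 lc_g_Cert_tree lc_g_rc_6_3 lc_g_rc_27_0 lc_g_Cert_tree lc_g_rc_6_3 lc_g_rc_27_0 lc_g_rc_12_3 lc_g_rc_29_1 lc_g_Cert_tree lc_g_Cert_tree lc_g_rc_27_0 lc_g_Cert_tree lc_g_rc_27_0 lc_g_rc_12_3 lc_g_rc_6_1 lc_g_Cert_tree lc_g_Cert_tree lc_g_rc_27_0 lc_g_Cert_tree lc_g_rc_27_0 lc_g_rc_12_3 lc_g_rc_6_1) (@D3.rec (fun _ => (Cert rels S Gen.g))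 lc_g_rc_29_1 lc_g_Cert_tree lc_g_rc_27_0 lc_g_rc_17_3 lc_g_rc_6_1 lc_g_rc_17_1 lc_g_rc_24_3 lc_g_rc_26_5 lc_g_Cert_tree lc_g_Cert_tree lc_g_rc_27_0 lc_g_Cert_tree lc_g_rc_27_0 lc_g_rc_12_3 lc_g_rc_6_1 lc_g_rc_29_1 lc_g_Cert_tree lc_g_rc_27_0 lc_g_rc_12_3 lc_g_rc_6_1 lc_g_rc_6_1 lc_g_rc_6_3 lc_g_rc_12_3 lc_g_Cert_tree lc_g_Cert_tree lc_g_rc_27_0 lc_g_Cert_tree lc_g_rc_27_0 lc_g_rc_12_3 lc_g_rc_6_1 lc_g_rc_26_3 lc_g_Cert_tree lc_g_rc_27_0 lc_g_rc_12_3 lc_g_rc_6_1 lc_g_rc_17_1 lc_g_Cert_tree lc_g_rc_31_11 lc_g_rc_12_1 lc_g_rc_26_3) (@D3.rec (fun _ => (Cert rels S Gen.g)) lc_g_Cert_tree lc_g_rc_27_0 lc_g_rc_12_3 lc_g_rc_6_1 lc_g_rc_6_1 lc_g_rc_17_1 lc_g_rc_12_1 lc_g_rc_6_1 lc_g_rc_21_1 lc_g_Cert_tree lc_g_rc_12_5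 lc_g_rc_27_0 lc_g_rc_6_1 lc_g_rc_17_1 lc_g_Cert_tree lc_g_rc_27_0 lc_g_rc_17_1 lc_g_rc_21_1 lc_g_rc_17_1 lc_g_rc_6_1 lc_g_Cert_tree lc_g_rc_27_0 lc_g_rc_12_3 lc_g_rc_21_1 lc_g_rc_24_1 lc_g_rc_21_1 lc_g_Cert_tree lc_g_rc_6_1 lc_g_rc_17_1 lc_g_rc_12_1 lc_g_rc_12_1 lc_g_Cert_tree lc_g_rc_6_3 lc_g_rc_27_0 lc_g_Cert_tree lc_g_rc_6_3 lc_g_rc_27_0 lc_g_Cert_tree lc_g_Cert_tree lc_g_rc_27_0) (@D3.rec (fun _ => (Cert rels S Gen.g)) lc_g_rc_29_3 lc_g_rc_27_0 lc_g_rc_12_3 lc_g_rc_6_1 lc_g_rc_12_3 lc_g_rc_12_3 lc_g_Cert_tree lc_g_Cert_tree lc_g_Cert_tree lc_g_rc_27_0 lc_g_rc_29_3 lc_g_rc_27_0 lc_g_rc_12_3 lc_g_rc_6_1 lc_g_rc_29_3 lc_g_rc_12_3 lc_g_rc_17_1 lc_g_rc_31_11 lc_g_rc_6_1 lc_g_rc_29_1 lc_g_rc_12_5 lc_g_rc_21_1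 lc_g_rc_6_1 lc_g_rc_17_1 lc_g_Cert_tree lc_g_Cert_tree lc_g_rc_17_1 lc_g_rc_27_0 lc_g_Cert_tree lc_g_rc_12_3 lc_g_Cert_tree lc_g_rc_24_1 lc_g_rc_27_0 lc_g_rc_24_1 lc_g_rc_24_1 lc_g_rc_6_3 lc_g_rc_27_0 lc_g_rc_29_1 lc_g_Cert_tree lc_g_Cert_tree) (@D3.rec (fun _ => (Cert rels S Gen.g)) lc_g_rc_27_0 lc_g_Cert_tree lc_g_rc_12_3 lc_g_Cert_tree lc_g_Cert_tree lc_g_rc_27_0 lc_g_rc_6_1 lc_g_rc_17_1 lc_g_rc_6_3 lc_g_Cert_tree lc_g_rc_27_0 lc_g_Cert_tree lc_g_rc_27_0 lc_g_rc_6_1 lc_g_rc_29_1 lc_g_rc_21_1 lc_g_rc_6_3 lc_g_rc_21_1 lc_g_rc_12_1 lc_g_rc_27_0 lc_g_Cert_tree lc_g_rc_27_0 lc_g_rc_12_3 lc_g_rc_12_1 lc_g_rc_6_1 lc_g_rc_29_1 lc_g_rc_24_1 lc_g_rc_21_1 lc_g_rc_12_3 lc_g_rc_29_1 lc_g_Cert_tree lc_g_Cert_tree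 lc_g_rc_27_0 lc_g_rc_12_3 lc_g_rc_6_1 lc_g_rc_21_1 lc_g_rc_17_1 lc_g_rc_24_1 lc_g_Cert_tree lc_g_Cert_tree) (@D3.rec (fun _ => (Cert rels S Gen.g)) lc_g_rc_27_0 lc_g_rc_29_1 lc_g_rc_27_0 lc_g_rc_12_3 lc_g_rc_6_1 lc_g_rc_6_1 lc_g_rc_6_1 lc_g_rc_12_3 lc_g_rc_24_1 lc_g_Cert_tree lc_g_rc_6_3 lc_g_rc_27_0 lc_g_rc_29_1 lc_g_rc_27_0 lc_g_rc_17_1 lc_g_rc_21_3 lc_g_Cert_tree lc_g_rc_27_0 lc_g_rc_6_3 lc_g_rc_21_1 lc_g_rc_12_3 lc_g_rc_12_3 lc_g_rc_29_3 lc_g_rc_24_1 lc_g_rc_21_1 lc_g_Cert_tree lc_g_Cert_tree lc_g_Cert_tree lc_g_rc_27_0 lc_g_Cert_tree lc_g_rc_27_0 lc_g_Cert_tree lc_g_rc_27_0 lc_g_rc_12_3 lc_g_rc_17_1 lc_g_Cert_tree lc_g_rc_27_0 lc_g_rc_24_3 lc_g_rc_17_1 lc_g_rc_29_3) (@D3.rec (fun _ => (Cert rels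 S Gen.g)) lc_g_rc_29_1 lc_g_rc_29_3 lc_g_rc_29_3 lc_g_rc_12_3 lc_g_rc_29_3 lc_g_Cert_tree lc_g_rc_6_3 lc_g_rc_27_0 lc_g_Cert_tree lc_g_rc_27_0 lc_g_rc_12_3 lc_g_rc_29_3 lc_g_Cert_tree lc_g_Cert_tree lc_g_rc_27_0 lc_g_rc_12_3 lc_g_rc_6_1 lc_g_rc_17_1 lc_g_Cert_tree lc_g_Cert_tree lc_g_Cert_tree lc_g_rc_27_0 lc_g_rc_12_3 lc_g_rc_29_3 lc_g_rc_17_1 lc_g_rc_21_1 lc_g_rc_29_3 lc_g_rc_6_1 lc_g_rc_29_3 lc_g_rc_17_1 lc_g_rc_17_1 lc_g_rc_12_3 lc_g_rc_29_3 lc_g_rc_21_1 lc_g_rc_6_1 lc_g_rc_29_3 lc_g_rc_29_3 lc_g_rc_29_1 lc_g_rc_21_1 lc_g_rc_29_1) (@D3.rec (fun _ => (Cert rels S Gen.g)) lc_g_rc_17_1 lc_g_Cert_tree lc_g_rc_29_1 lc_g_rc_24_1 lc_g_rc_6_1 lc_g_rc_29_3 lc_g_rc_17_1 lc_g_rc_31_11 lc_g_rc_17_1 lc_g_rc_29_1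 lc_g_rc_29_3 lc_g_rc_29_1 lc_g_rc_17_1 lc_g_rc_29_3 lc_g_Cert_tree lc_g_Cert_tree lc_g_rc_27_0 lc_g_Cert_tree lc_g_rc_27_0 lc_g_rc_12_3 lc_g_rc_6_1 lc_g_rc_6_3 lc_g_rc_27_0 lc_g_rc_31_11 lc_g_rc_29_1 lc_g_rc_29_3 lc_g_rc_21_1 lc_g_rc_17_1 lc_g_rc_12_1 lc_g_rc_17_1 lc_g_Cert_tree lc_g_rc_6_3 lc_g_rc_27_0 lc_g_Cert_tree lc_g_rc_17_1 lc_g_rc_27_0 lc_g_Cert_tree lc_g_rc_6_3 lc_g_rc_27_0 lc_g_rc_12_3) (@D3.rec (fun _ => (Cert rels S Gen.g)) lc_g_rc_29_1 lc_g_Cert_tree lc_g_rc_6_3 lc_g_rc_27_0 lc_g_rc_12_3 lc_g_rc_29_1 lc_g_Cert_tree lc_g_Cert_tree lc_g_rc_27_0 lc_g_Cert_tree lc_g_rc_27_0 lc_g_rc_12_3 lc_g_rc_6_1 lc_g_rc_27_0 lc_g_rc_27_1 lc_g_rc_21_1 lc_g_rc_6_1 lc_g_Cert_tree lc_g_Cert_tree lc_g_Cert_tree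 lc_g_rc_27_0 lc_g_Cert_tree lc_g_rc_27_0 lc_g_rc_12_3 lc_g_rc_6_1 lc_g_rc_29_1 lc_g_Cert_tree lc_g_rc_27_0 lc_g_rc_17_3 lc_g_rc_6_1 lc_g_rc_17_1 lc_g_rc_24_1 lc_g_rc_26_5 lc_g_rc_29_1 lc_g_rc_12_3 lc_g_rc_27_0 lc_g_rc_24_3 lc_g_rc_6_1 lc_g_rc_21_1 lc_g_rc_6_1) (@D3.rec (fun _ => (Cert rels S Gen.g)) lc_g_rc_26_5 lc_g_Cert_tree lc_g_Cert_tree lc_g_Cert_tree lc_g_rc_27_0 lc_g_Cert_tree lc_g_rc_27_0 lc_g_rc_12_3 lc_g_rc_6_1 lc_g_rc_29_1 lc_g_Cert_tree lc_g_rc_27_0 lc_g_rc_12_3 lc_g_rc_6_1 lc_g_rc_6_1 lc_g_rc_6_3 lc_g_rc_12_3 lc_g_rc_12_1 lc_g_rc_27_0 lc_g_rc_12_3 lc_g_rc_6_1 lc_g_rc_17_1 lc_g_rc_21_1 lc_g_rc_6_1 lc_g_rc_21_3 lc_g_rc_21_1 lc_g_rc_17_1 lc_g_Cert_tree lc_g_Cert_tree lc_g_rc_27_0 lc_g_Cert_tree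 lc_g_rc_27_0 lc_g_rc_12_3 lc_g_rc_17_1 lc_g_rc_26_3 lc_g_Cert_tree lc_g_rc_27_0 lc_g_rc_12_3 lc_g_rc_6_1 lc_g_rc_17_1) (@D3.rec (fun _ => (Cert rels S Gen.g)) lc_g_Cert_tree lc_g_rc_31_11 lc_g_rc_12_1 lc_g_rc_26_3 lc_g_Cert_tree lc_g_rc_27_0 lc_g_rc_12_3 lc_g_rc_6_1 lc_g_rc_6_1 lc_g_rc_17_1 lc_g_rc_12_1 lc_g_rc_6_1 lc_g_rc_21_1 lc_g_Cert_tree lc_g_rc_12_5 lc_g_rc_27_0 lc_g_rc_6_1 lc_g_rc_17_1 lc_g_rc_6_3 lc_g_Cert_tree lc_g_rc_27_0 lc_g_rc_12_3 lc_g_rc_6_1 lc_g_rc_6_1 lc_g_rc_17_1 lc_g_rc_17_1 lc_g_rc_31_11 lc_g_rc_6_1 lc_g_rc_24_1 lc_g_Cert_tree lc_g_rc_6_3 lc_g_rc_27_0 lc_g_rc_12_1 lc_g_rc_12_5 lc_g_rc_17_1 lc_g_rc_21_1 lc_g_Cert_tree lc_g_Cert_tree lc_g_rc_27_0 lc_g_rc_12_3) (@D3.rec (fun _ => (Cert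 rels S Gen.g)) lc_g_rc_21_1 lc_g_rc_17_1 lc_g_rc_24_1 lc_g_rc_21_1 lc_g_Cert_tree lc_g_rc_6_1 lc_g_rc_27_0 lc_g_rc_12_3 lc_g_rc_6_1 lc_g_rc_24_3 lc_g_rc_24_1 lc_g_rc_24_1 lc_g_rc_6_1 lc_g_rc_6_3 lc_g_rc_27_0 lc_g_rc_6_1 lc_g_rc_21_1 lc_g_rc_17_1 lc_g_rc_12_1 lc_g_rc_17_1 lc_g_Cert_tree lc_g_rc_6_3 lc_g_rc_27_0 lc_g_Cert_tree lc_g_Cert_tree lc_g_rc_17_1 lc_g_rc_27_0 lc_g_Cert_tree lc_g_Cert_tree lc_g_Cert_tree lc_g_rc_27_0 lc_g_rc_29_3 lc_g_rc_27_0 lc_g_rc_12_3 lc_g_rc_6_1 lc_g_rc_12_3 lc_g_rc_12_3 lc_g_rc_29_1 lc_g_rc_17_1 lc_g_rc_21_1) (@D3.rec (fun _ => (Cert rels S Gen.g)) lc_g_rc_17_1 lc_g_Cert_tree lc_g_Cert_tree lc_g_Cert_tree lc_g_rc_27_0 lc_g_Cert_tree lc_g_Cert_tree lc_g_Cert_tree lc_g_rc_27_0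 lc_g_Cert_tree lc_g_rc_27_0 lc_g_rc_12_3 lc_g_rc_17_1 lc_g_rc_29_3 lc_g_rc_12_3 lc_g_rc_17_1 lc_g_rc_31_11 lc_g_rc_29_3 lc_g_rc_29_1 lc_g_rc_12_5 lc_g_rc_21_1 lc_g_rc_6_1 lc_g_rc_17_1 lc_g_rc_6_1 lc_g_rc_24_1 lc_g_Cert_tree lc_g_Cert_tree lc_g_Cert_tree lc_g_rc_27_0 lc_g_rc_21_1 lc_g_rc_27_0 lc_g_Cert_tree lc_g_rc_12_3 lc_g_Cert_tree lc_g_Cert_tree lc_g_rc_27_0 lc_g_rc_24_1 lc_g_rc_17_1 lc_g_rc_6_3 lc_g_rc_27_0) (@D3.rec (fun _ => (Cert rels S Gen.g)) lc_g_rc_21_1 lc_g_rc_29_1 lc_g_rc_24_1 lc_g_Cert_tree lc_g_rc_6_3 lc_g_rc_27_0 lc_g_Cert_tree lc_g_rc_27_0 lc_g_rc_12_3 lc_g_rc_29_3 lc_g_Cert_tree lc_g_Cert_tree lc_g_rc_27_0 lc_g_rc_6_1 lc_g_rc_17_1 lc_g_Cert_tree lc_g_Cert_tree lc_g_rc_27_0 lc_g_Cert_tree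 lc_g_rc_27_0 lc_g_rc_6_1 lc_g_rc_29_1 lc_g_rc_21_1 lc_g_rc_17_1 lc_g_rc_21_3 lc_g_Cert_tree lc_g_rc_27_0 lc_g_Cert_tree lc_g_Cert_tree lc_g_rc_27_0 lc_g_rc_12_3 lc_g_rc_12_1 lc_g_rc_6_1 lc_g_rc_29_1 lc_g_rc_17_1 lc_g_rc_24_1 lc_g_rc_6_3 lc_g_rc_12_3 lc_g_rc_12_1 lc_g_rc_27_0)
def ce_g_1 : D2 → D3 → (Cert rels S Gen.g) := @D2.rec (fun _ => D3 → (Cert rels S Gen.g)) (@D3.rec (fun _ => (Cert rels S Gen.g)) lc_g_rc_12_3 lc_g_rc_6_1 lc_g_rc_6_1 lc_g_rc_21_3 lc_g_rc_6_3 lc_g_rc_6_1 lc_g_rc_6_3 lc_g_rc_29_1 lc_g_Cert_tree lc_g_Cert_tree lc_g_rc_27_0 lc_g_rc_27_0 lc_g_rc_12_3 lc_g_rc_21_1 lc_g_rc_6_1 lc_g_rc_6_1 lc_g_rc_12_3 lc_g_rc_6_1 lc_g_rc_24_1 lc_g_Cert_tree lc_g_rc_17_1 lc_g_Cert_tree lc_g_Cert_tree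 lc_g_Cert_tree lc_g_rc_27_0 lc_g_rc_29_1 lc_g_rc_27_0 lc_g_rc_17_1 lc_g_rc_12_3 lc_g_rc_6_1 lc_g_rc_29_1 lc_g_rc_17_1 lc_g_rc_31_8 lc_g_rc_6_3 lc_g_rc_27_0 lc_g_rc_29_3 lc_g_rc_21_3 lc_g_Cert_tree lc_g_rc_27_0 lc_g_rc_21_1) (@D3.rec (fun _ => (Cert rels S Gen.g)) lc_g_rc_29_1 lc_g_rc_12_3 lc_g_rc_12_3 lc_g_rc_29_3 lc_g_rc_24_1 lc_g_rc_29_1 lc_g_Cert_tree lc_g_Cert_tree lc_g_rc_6_3 lc_g_rc_27_0 lc_g_Cert_tree lc_g_Cert_tree lc_g_rc_27_0 lc_g_Cert_tree lc_g_rc_27_0 lc_g_rc_12_3 lc_g_rc_29_3 lc_g_Cert_tree lc_g_rc_27_0 lc_g_rc_12_3 lc_g_rc_21_1 lc_g_Cert_tree lc_g_Cert_tree lc_g_rc_27_0 lc_g_rc_12_3 lc_g_rc_6_1 lc_g_rc_17_1 lc_g_Cert_tree lc_g_Cert_tree lc_g_rc_21_3 lc_g_rc_27_0 lc_g_rc_29_3 lc_g_rc_6_3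 lc_g_rc_21_1 lc_g_rc_29_3 lc_g_rc_29_3 lc_g_rc_17_1 lc_g_rc_12_3 lc_g_rc_29_3 lc_g_rc_29_1) (@D3.rec (fun _ => (Cert rels S Gen.g)) lc_g_rc_17_1 lc_g_rc_29_3 lc_g_rc_29_3 lc_g_Cert_tree lc_g_Cert_tree lc_g_Cert_tree lc_g_rc_27_0 lc_g_Cert_tree lc_g_rc_12_3 lc_g_rc_29_1 lc_g_Cert_tree lc_g_rc_27_0 lc_g_rc_12_3 lc_g_rc_29_3 lc_g_rc_17_1 lc_g_rc_29_3 lc_g_Cert_tree lc_g_Cert_tree lc_g_Cert_tree lc_g_rc_27_0 lc_g_Cert_tree lc_g_rc_27_0 lc_g_rc_12_3 lc_g_rc_6_1 lc_g_rc_6_1 lc_g_rc_17_1 lc_g_Cert_tree lc_g_Cert_tree lc_g_rc_6_1 lc_g_rc_29_1 lc_g_rc_21_1 lc_g_Cert_tree lc_g_Cert_tree lc_g_rc_27_0 lc_g_Cert_tree lc_g_Cert_tree lc_g_rc_27_0 lc_g_Cert_tree lc_g_rc_27_0 lc_g_rc_12_3) (@D3.rec (fun _ => (Cert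 rels S Gen.g)) lc_g_rc_17_1 lc_g_rc_12_3 lc_g_rc_29_3 lc_g_rc_21_1 lc_g_rc_24_1 lc_g_rc_29_3 lc_g_Cert_tree lc_g_rc_6_1 lc_g_rc_29_3 lc_g_rc_17_1 lc_g_rc_17_3 lc_g_rc_21_1 lc_g_rc_29_1 lc_g_rc_17_1 lc_g_Cert_tree lc_g_rc_29_3 lc_g_rc_17_1 lc_g_rc_24_1 lc_g_rc_6_1 lc_g_rc_29_3 lc_g_rc_17_1 lc_g_rc_31_11 lc_g_rc_29_3 lc_g_rc_29_1 lc_g_rc_29_1 lc_g_rc_24_1 lc_g_rc_6_1 lc_g_rc_17_3 lc_g_rc_17_1 lc_g_rc_6_3 lc_g_rc_27_0 lc_g_rc_29_1 lc_g_rc_6_1 lc_g_rc_29_1 lc_g_rc_6_1 lc_g_rc_12_3 lc_g_rc_17_1 lc_g_rc_24_3 lc_g_rc_17_1 lc_g_rc_17_1) (@D3.rec (fun _ => (Cert rels S Gen.g)) lc_g_rc_29_1 lc_g_rc_6_1 lc_g_Cert_tree lc_g_rc_17_1 lc_g_Cert_tree lc_g_rc_6_3 lc_g_rc_27_0 lc_g_Cert_tree lc_g_rc_27_0 lc_g_rc_31_11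 lc_g_Cert_tree lc_g_rc_27_0 lc_g_rc_12_3 lc_g_rc_29_1 lc_g_rc_29_3 lc_g_rc_12_1 lc_g_rc_17_3 lc_g_rc_17_1 lc_g_Cert_tree lc_g_rc_21_1 lc_g_Cert_tree lc_g_Cert_tree lc_g_rc_17_1 lc_g_rc_27_0 lc_g_Cert_tree lc_g_Cert_tree lc_g_rc_27_0 lc_g_Cert_tree lc_g_rc_12_3 lc_g_Cert_tree lc_g_rc_6_3 lc_g_rc_27_0 lc_g_rc_12_3 lc_g_rc_29_1 lc_g_Cert_tree lc_g_rc_17_1 lc_g_rc_27_0 lc_g_rc_12_3 lc_g_rc_29_1 lc_g_Cert_tree) (@D3.rec (fun _ => (Cert rels S Gen.g)) lc_g_Cert_tree lc_g_Cert_tree lc_g_rc_27_0 lc_g_Cert_tree lc_g_rc_27_0 lc_g_rc_12_3 lc_g_rc_6_1 lc_g_rc_27_0 lc_g_rc_24_1 lc_g_rc_27_0 lc_g_rc_6_1 lc_g_Cert_tree lc_g_Cert_tree lc_g_Cert_tree lc_g_rc_27_0 lc_g_Cert_tree lc_g_Cert_tree lc_g_rc_27_0 lc_g_Cert_tree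 lc_g_rc_27_0 lc_g_rc_12_3 lc_g_rc_17_1 lc_g_rc_29_1 lc_g_Cert_tree lc_g_rc_27_0 lc_g_rc_26_1 lc_g_rc_6_1 lc_g_rc_17_1 lc_g_rc_21_1 lc_g_rc_26_5 lc_g_rc_29_1 lc_g_Cert_tree lc_g_rc_27_0 lc_g_rc_24_1 lc_g_rc_6_1 lc_g_rc_21_1 lc_g_rc_6_1 lc_g_rc_26_5 lc_g_rc_12_3 lc_g_rc_29_1) (@D3.rec (fun _ => (Cert rels S Gen.g)) lc_g_rc_12_3 lc_g_rc_17_1 lc_g_rc_12_3 lc_g_rc_6_1 lc_g_rc_24_1 lc_g_rc_6_1 lc_g_Cert_tree lc_g_Cert_tree lc_g_Cert_tree lc_g_rc_27_0 lc_g_Cert_tree lc_g_rc_27_0 lc_g_Cert_tree lc_g_rc_27_0 lc_g_rc_12_3 lc_g_rc_17_1 lc_g_rc_29_1 lc_g_Cert_tree lc_g_rc_27_0 lc_g_rc_12_3 lc_g_rc_6_1 lc_g_rc_17_1 lc_g_Cert_tree lc_g_rc_12_3 lc_g_rc_12_1 lc_g_rc_21_3 lc_g_rc_27_0 lc_g_rc_12_3 lc_g_rc_6_1 lc_g_rc_17_1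 lc_g_rc_24_1 lc_g_rc_6_1 lc_g_rc_6_1 lc_g_rc_21_3 lc_g_rc_24_1 lc_g_rc_17_1 lc_g_rc_6_1 lc_g_rc_17_1 lc_g_rc_6_1 lc_g_rc_21_1) (@D3.rec (fun _ => (Cert rels S Gen.g)) lc_g_rc_29_3 lc_g_rc_29_3 lc_g_Cert_tree lc_g_rc_6_3 lc_g_rc_27_0 lc_g_Cert_tree lc_g_rc_27_0 lc_g_rc_12_3 lc_g_rc_29_3 lc_g_Cert_tree lc_g_Cert_tree lc_g_rc_27_0 lc_g_rc_12_3 lc_g_rc_6_1 lc_g_rc_17_1 lc_g_Cert_tree lc_g_Cert_tree lc_g_rc_12_1 lc_g_rc_26_3 lc_g_Cert_tree lc_g_rc_27_0 lc_g_rc_12_3 lc_g_rc_6_1 lc_g_rc_6_1 lc_g_rc_17_1 lc_g_rc_12_1 lc_g_rc_6_1 lc_g_rc_21_1 lc_g_Cert_tree lc_g_rc_12_5 lc_g_rc_27_0 lc_g_rc_6_1 lc_g_rc_17_1 lc_g_rc_26_3 lc_g_Cert_tree lc_g_Cert_tree lc_g_rc_27_0 lc_g_rc_12_3 lc_g_rc_6_1 lc_g_rc_6_1) (@D3.rec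 (fun _ => (Cert rels S Gen.g)) lc_g_rc_17_1 lc_g_rc_17_1 lc_g_rc_21_1 lc_g_rc_6_1 lc_g_rc_17_1 lc_g_rc_24_1 lc_g_Cert_tree lc_g_Cert_tree lc_g_rc_27_0 lc_g_rc_12_1 lc_g_rc_12_5 lc_g_rc_17_1 lc_g_rc_21_1 lc_g_rc_6_3 lc_g_rc_27_0 lc_g_rc_12_3 lc_g_rc_21_1 lc_g_rc_6_1 lc_g_rc_31_11 lc_g_rc_6_1 lc_g_rc_12_3 lc_g_rc_31_5 lc_g_rc_27_0 lc_g_rc_29_1 lc_g_rc_24_1 lc_g_Cert_tree lc_g_Cert_tree lc_g_rc_27_0 lc_g_rc_27_0 lc_g_rc_12_3 lc_g_rc_6_1 lc_g_rc_21_3 lc_g_rc_6_3 lc_g_rc_24_1 lc_g_Cert_tree lc_g_rc_17_1 lc_g_rc_6_1 lc_g_rc_24_1 lc_g_Cert_tree lc_g_rc_6_3) (@D3.rec (fun _ => (Cert rels S Gen.g)) lc_g_rc_27_0 lc_g_rc_6_1 lc_g_rc_6_1 lc_g_rc_12_3 lc_g_rc_6_1 lc_g_rc_17_1 lc_g_Cert_tree lc_g_rc_21_1 lc_g_Cert_tree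 lc_g_Cert_tree lc_g_rc_17_1 lc_g_rc_27_0 lc_g_Cert_tree lc_g_Cert_tree lc_g_Cert_tree lc_g_rc_27_0 lc_g_Cert_tree lc_g_rc_21_1 lc_g_rc_27_0 lc_g_Cert_tree lc_g_rc_12_3 lc_g_Cert_tree lc_g_Cert_tree lc_g_rc_27_0 lc_g_Cert_tree lc_g_Cert_tree lc_g_rc_27_0 lc_g_Cert_tree lc_g_rc_27_0 lc_g_rc_12_3 lc_g_rc_17_1 lc_g_rc_29_3 lc_g_rc_12_3 lc_g_rc_17_1 lc_g_rc_12_3 lc_g_rc_29_1 lc_g_rc_17_1 lc_g_rc_24_1 lc_g_rc_17_1 lc_g_rc_29_1) (@D3.rec (fun _ => (Cert rels S Gen.g)) lc_g_rc_29_3 lc_g_Cert_tree lc_g_rc_6_3 lc_g_rc_27_0 lc_g_Cert_tree lc_g_rc_27_0 lc_g_Cert_tree lc_g_rc_27_0 lc_g_rc_12_3 lc_g_rc_29_3 lc_g_Cert_tree lc_g_rc_29_1 lc_g_rc_27_0 lc_g_Cert_tree lc_g_rc_27_0 lc_g_Cert_tree lc_g_rc_27_0 lc_g_rc_12_3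 lc_g_rc_21_1 lc_g_Cert_tree lc_g_Cert_tree lc_g_rc_27_0 lc_g_rc_12_3 lc_g_rc_6_1 lc_g_rc_17_1 lc_g_Cert_tree lc_g_Cert_tree lc_g_rc_29_3 lc_g_rc_29_1 lc_g_rc_17_1 lc_g_rc_21_1 lc_g_rc_6_1 lc_g_rc_17_1 lc_g_rc_6_1 lc_g_rc_6_1 lc_g_rc_21_1 lc_g_rc_17_1 lc_g_rc_24_1 lc_g_rc_21_1 lc_g_Cert_tree) (@D3.rec (fun _ => (Cert rels S Gen.g)) lc_g_Cert_tree lc_g_rc_6_3 lc_g_rc_27_0 lc_g_Cert_tree lc_g_Cert_tree lc_g_rc_27_0 lc_g_Cert_tree lc_g_rc_27_0 lc_g_rc_12_3 lc_g_rc_29_3 lc_g_Cert_tree lc_g_rc_12_3 lc_g_Cert_tree lc_g_Cert_tree lc_g_rc_27_0 lc_g_rc_6_1 lc_g_rc_17_1 lc_g_Cert_tree lc_g_Cert_tree lc_g_rc_27_0 lc_g_Cert_tree lc_g_rc_27_0 lc_g_rc_6_1 lc_g_rc_29_1 lc_g_rc_21_1 lc_g_rc_17_1 lc_g_rc_29_1 lc_g_rc_6_1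 lc_g_Cert_tree lc_g_Cert_tree lc_g_Cert_tree lc_g_rc_27_0 lc_g_Cert_tree lc_g_rc_12_3 lc_g_rc_29_1 lc_g_Cert_tree lc_g_rc_27_0 lc_g_rc_12_3 lc_g_rc_29_3 lc_g_rc_17_1) (@D3.rec (fun _ => (Cert rels S Gen.g)) lc_g_rc_29_3 lc_g_Cert_tree lc_g_Cert_tree lc_g_Cert_tree lc_g_rc_27_0 lc_g_Cert_tree lc_g_rc_27_0 lc_g_rc_6_1 lc_g_Cert_tree lc_g_rc_6_1 lc_g_rc_29_1 lc_g_rc_21_1 lc_g_Cert_tree lc_g_rc_27_0 lc_g_Cert_tree lc_g_Cert_tree lc_g_rc_27_0 lc_g_Cert_tree lc_g_Cert_tree lc_g_rc_27_0 lc_g_rc_12_3 lc_g_Cert_tree lc_g_rc_6_1 lc_g_rc_17_1 lc_g_rc_6_3 lc_g_rc_24_1 lc_g_rc_17_3 lc_g_Cert_tree lc_g_rc_17_3 lc_g_Cert_tree lc_g_rc_12_1 lc_g_rc_27_0 lc_g_Cert_tree lc_g_Cert_tree lc_g_Cert_tree lc_g_rc_27_0 lc_g_rc_27_0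 lc_g_rc_12_3 lc_g_rc_6_1 lc_g_rc_12_1) (@D3.rec (fun _ => (Cert rels S Gen.g)) lc_g_rc_6_1 lc_g_rc_6_1 lc_g_rc_29_1 lc_g_Cert_tree lc_g_rc_21_1 lc_g_rc_17_1 lc_g_rc_6_3 lc_g_rc_17_3 lc_g_rc_12_3 lc_g_rc_6_1 lc_g_rc_12_3 lc_g_rc_6_3 lc_g_Cert_tree lc_g_rc_6_3 lc_g_Cert_tree lc_g_Cert_tree lc_g_Cert_tree lc_g_rc_27_0 lc_g_Cert_tree lc_g_rc_27_0 lc_g_rc_12_3 lc_g_rc_6_1 lc_g_rc_12_3 lc_g_rc_21_1 lc_g_rc_6_1 lc_g_rc_17_1 lc_g_rc_6_1 lc_g_rc_12_3 lc_g_rc_31_8 lc_g_Cert_tree lc_g_rc_6_1 lc_g_Cert_tree lc_g_Cert_tree lc_g_Cert_tree lc_g_rc_27_0 lc_g_rc_21_1 lc_g_Cert_tree lc_g_Cert_tree lc_g_rc_27_0 lc_g_rc_12_1) (@D3.rec (fun _ => (Cert rels S Gen.g)) lc_g_rc_27_0 lc_g_rc_29_1 lc_g_Cert_tree lc_g_rc_27_0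 lc_g_rc_21_1 lc_g_rc_29_3 lc_g_rc_29_1 lc_g_rc_17_1 lc_g_rc_17_3 lc_g_Cert_tree lc_g_rc_27_0 lc_g_rc_29_1 lc_g_Cert_tree lc_g_rc_12_3 lc_g_rc_17_1 lc_g_rc_29_3 lc_g_rc_29_1 lc_g_Cert_tree lc_g_Cert_tree lc_g_Cert_tree lc_g_Cert_tree lc_g_Cert_tree lc_g_rc_27_0 lc_g_Cert_tree lc_g_rc_6_3 lc_g_rc_27_0 lc_g_Cert_tree lc_g_rc_12_3 lc_g_Cert_tree lc_g_Cert_tree lc_g_rc_27_0 lc_g_Cert_tree lc_g_rc_27_0 lc_g_rc_12_3 lc_g_rc_6_1 lc_g_rc_29_1 lc_g_Cert_tree lc_g_rc_27_0 lc_g_rc_12_3 lc_g_rc_29_3) (@D3.rec (fun _ => (Cert rels S Gen.g)) lc_g_rc_17_1 lc_g_rc_29_3 lc_g_Cert_tree lc_g_Cert_tree lc_g_Cert_tree lc_g_rc_27_0 lc_g_rc_12_3 lc_g_rc_6_1 lc_g_rc_17_1 lc_g_Cert_tree lc_g_Cert_tree lc_g_Cert_tree lc_g_Cert_tree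 lc_g_rc_27_0 lc_g_Cert_tree lc_g_rc_27_0 lc_g_rc_12_3 lc_g_rc_6_1 lc_g_rc_6_1 lc_g_rc_17_1 lc_g_Cert_tree lc_g_Cert_tree lc_g_rc_6_1 lc_g_rc_29_1 lc_g_rc_21_1 lc_g_Cert_tree lc_g_Cert_tree lc_g_rc_27_0 lc_g_Cert_tree lc_g_Cert_tree lc_g_rc_27_0 lc_g_rc_21_1 lc_g_rc_21_3 lc_g_rc_12_3 lc_g_rc_12_3 lc_g_rc_29_3 lc_g_rc_6_3 lc_g_rc_17_1 lc_g_rc_24_1 lc_g_Cert_tree) (@D3.rec (fun _ => (Cert rels S Gen.g)) lc_g_rc_29_3 lc_g_rc_17_1 lc_g_rc_21_1 lc_g_rc_29_1 lc_g_rc_17_1 lc_g_rc_29_3 lc_g_rc_29_3 lc_g_rc_29_1 lc_g_rc_29_1 lc_g_Cert_tree lc_g_rc_6_3 lc_g_rc_27_0 lc_g_Cert_tree lc_g_Cert_tree lc_g_rc_27_0 lc_g_Cert_tree lc_g_rc_27_0 lc_g_rc_12_3 lc_g_rc_29_3 lc_g_Cert_tree lc_g_Cert_tree lc_g_rc_27_0 lc_g_rc_6_1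 lc_g_rc_17_1 lc_g_Cert_tree lc_g_Cert_tree lc_g_rc_29_1 lc_g_Cert_tree lc_g_rc_27_0 lc_g_rc_12_3 lc_g_rc_6_1 lc_g_rc_17_1 lc_g_Cert_tree lc_g_Cert_tree lc_g_rc_29_3 lc_g_rc_21_1 lc_g_rc_29_3 lc_g_Cert_tree lc_g_Cert_tree lc_g_Cert_tree) (@D3.rec (fun _ => (Cert rels S Gen.g)) lc_g_rc_27_0 lc_g_Cert_tree lc_g_Cert_tree lc_g_Cert_tree lc_g_rc_27_0 lc_g_Cert_tree lc_g_Cert_tree lc_g_rc_27_0 lc_g_rc_12_3 lc_g_Cert_tree lc_g_Cert_tree lc_g_rc_27_0 lc_g_rc_12_3 lc_g_rc_6_1 lc_g_rc_29_3 lc_g_rc_17_1 lc_g_rc_29_3 lc_g_Cert_tree lc_g_Cert_tree lc_g_rc_6_1 lc_g_rc_29_1 lc_g_rc_21_1 lc_g_Cert_tree lc_g_rc_27_0 lc_g_Cert_tree lc_g_Cert_tree lc_g_Cert_tree lc_g_rc_27_0 lc_g_Cert_tree lc_g_rc_6_1 lc_g_rc_29_1 lc_g_Cert_tree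 lc_g_rc_17_1 lc_g_rc_24_1 lc_g_Cert_tree lc_g_Cert_tree lc_g_rc_27_0 lc_g_rc_29_1 lc_g_Cert_tree lc_g_rc_27_0) (@D3.rec (fun _ => (Cert rels S Gen.g)) lc_g_rc_12_3 lc_g_Cert_tree lc_g_Cert_tree lc_g_rc_27_0 lc_g_Cert_tree lc_g_rc_27_0 lc_g_rc_6_1 lc_g_rc_27_0 lc_g_rc_12_3 lc_g_rc_6_1 lc_g_rc_12_3 lc_g_Cert_tree lc_g_rc_21_1 lc_g_rc_29_1 lc_g_rc_17_1 lc_g_Cert_tree lc_g_rc_29_3 lc_g_rc_17_1 lc_g_rc_24_1 lc_g_rc_29_3 lc_g_rc_29_3 lc_g_Cert_tree lc_g_Cert_tree lc_g_rc_27_0 lc_g_rc_6_1 lc_g_rc_29_3 lc_g_rc_29_3 lc_g_Cert_tree lc_g_rc_17_3 lc_g_rc_29_3 lc_g_rc_17_3 lc_g_rc_17_1 lc_g_rc_24_1 lc_g_rc_6_1 lc_g_rc_17_3 lc_g_rc_21_1 lc_g_rc_6_3 lc_g_Cert_tree lc_g_rc_27_0 lc_g_rc_6_1) (@D3.rec (fun _ => (Cert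 rels S Gen.g)) lc_g_rc_29_1 lc_g_Cert_tree lc_g_rc_17_1 lc_g_rc_17_1 lc_g_rc_6_1 lc_g_rc_6_1 lc_g_rc_29_1 lc_g_rc_6_1 lc_g_rc_21_1 lc_g_rc_17_1 lc_g_rc_31_11 lc_g_rc_24_1 lc_g_rc_29_3 lc_g_rc_21_1 lc_g_Cert_tree lc_g_rc_29_1 lc_g_rc_29_1 lc_g_rc_17_1 lc_g_rc_12_3 lc_g_rc_17_3 lc_g_rc_17_1 lc_g_rc_21_1 lc_g_Cert_tree lc_g_Cert_tree lc_g_rc_27_0 lc_g_Cert_tree lc_g_rc_6_3 lc_g_Cert_tree lc_g_rc_27_0 lc_g_rc_12_1 lc_g_rc_6_1 lc_g_rc_27_0 lc_g_rc_31_11 lc_g_rc_29_1 lc_g_rc_17_3 lc_g_rc_27_0 lc_g_rc_12_3 lc_g_rc_29_1 lc_g_rc_17_1 lc_g_rc_29_3) (@D3.rec (fun _ => (Cert rels S Gen.g)) lc_g_rc_17_3 lc_g_Cert_tree lc_g_Cert_tree lc_g_Cert_tree lc_g_Cert_tree lc_g_rc_27_0 lc_g_Cert_tree lc_g_Cert_tree lc_g_Cert_tree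 lc_g_rc_27_0 lc_g_rc_21_1 lc_g_rc_27_0 lc_g_Cert_tree lc_g_rc_12_3 lc_g_Cert_tree lc_g_rc_6_3 lc_g_rc_27_0 lc_g_Cert_tree lc_g_rc_27_0 lc_g_rc_12_3 lc_g_rc_29_3 lc_g_Cert_tree lc_g_rc_27_0 lc_g_rc_6_1 lc_g_Cert_tree lc_g_Cert_tree lc_g_rc_17_1 lc_g_rc_27_0 lc_g_rc_12_3 lc_g_rc_29_1 lc_g_Cert_tree lc_g_Cert_tree lc_g_rc_27_0 lc_g_Cert_tree lc_g_rc_12_3 lc_g_rc_17_1 lc_g_rc_29_1 lc_g_Cert_tree lc_g_Cert_tree lc_g_Cert_tree) (@D3.rec (fun _ => (Cert rels S Gen.g)) lc_g_rc_27_0 lc_g_Cert_tree lc_g_rc_27_0 lc_g_Cert_tree lc_g_rc_27_0 lc_g_rc_12_3 lc_g_rc_17_1 lc_g_Cert_tree lc_g_rc_27_0 lc_g_rc_24_1 lc_g_rc_17_1 lc_g_rc_27_0 lc_g_rc_6_1 lc_g_Cert_tree lc_g_Cert_tree lc_g_rc_6_3 lc_g_rc_27_0 lc_g_Cert_tree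 lc_g_Cert_tree lc_g_Cert_tree lc_g_rc_27_0 lc_g_Cert_tree lc_g_rc_27_0 lc_g_rc_12_3 lc_g_rc_29_3 lc_g_Cert_tree lc_g_rc_27_0 lc_g_Cert_tree lc_g_rc_27_0 lc_g_rc_12_3 lc_g_rc_29_3 lc_g_Cert_tree lc_g_Cert_tree lc_g_rc_27_0 lc_g_rc_12_3 lc_g_rc_6_1 lc_g_rc_17_1 lc_g_Cert_tree lc_g_Cert_tree lc_g_rc_29_1) (@D3.rec (fun _ => (Cert rels S Gen.g)) lc_g_Cert_tree lc_g_rc_27_0 lc_g_rc_6_3 lc_g_rc_6_1 lc_g_rc_21_1 lc_g_rc_6_1 lc_g_rc_26_5 lc_g_Cert_tree lc_g_rc_29_1 lc_g_Cert_tree lc_g_rc_12_3 lc_g_rc_27_0 lc_g_rc_21_1 lc_g_rc_12_3 lc_g_rc_6_1 lc_g_rc_17_1 lc_g_rc_24_1 lc_g_rc_26_5 lc_g_rc_26_5 lc_g_rc_12_1 lc_g_rc_6_1 lc_g_rc_17_1 lc_g_rc_21_1 lc_g_rc_6_1 lc_g_rc_6_1 lc_g_Cert_tree lc_g_Cert_tree lc_g_rc_6_3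 lc_g_rc_27_0 lc_g_Cert_tree lc_g_Cert_tree lc_g_rc_27_0 lc_g_Cert_tree lc_g_rc_27_0 lc_g_rc_12_3 lc_g_rc_29_3 lc_g_Cert_tree lc_g_rc_27_0 lc_g_rc_12_3 lc_g_rc_21_1) (@D3.rec (fun _ => (Cert rels S Gen.g)) lc_g_Cert_tree lc_g_Cert_tree lc_g_rc_27_0 lc_g_rc_12_3 lc_g_rc_6_1 lc_g_rc_17_1 lc_g_Cert_tree lc_g_Cert_tree lc_g_rc_12_1 lc_g_rc_29_1 lc_g_Cert_tree lc_g_rc_27_0 lc_g_rc_12_3 lc_g_rc_21_1 lc_g_rc_6_1 lc_g_rc_17_1 lc_g_rc_24_1 lc_g_rc_17_1 lc_g_rc_21_1 lc_g_Cert_tree lc_g_rc_12_5 lc_g_rc_27_0 lc_g_rc_24_1 lc_g_rc_17_1 lc_g_rc_29_1 lc_g_rc_6_1 lc_g_rc_17_1 lc_g_rc_6_1 lc_g_rc_21_1 lc_g_rc_17_1 lc_g_rc_21_1 lc_g_rc_29_3 lc_g_rc_29_3 lc_g_rc_21_1 lc_g_rc_6_1 lc_g_rc_29_1 lc_g_Cert_tree lc_g_Cert_tree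 lc_g_rc_27_0 lc_g_Cert_tree) (@D3.rec (fun _ => (Cert rels S Gen.g)) lc_g_rc_12_3 lc_g_rc_29_1 lc_g_Cert_tree lc_g_rc_27_0 lc_g_rc_12_3 lc_g_rc_29_3 lc_g_rc_17_1 lc_g_rc_29_3 lc_g_Cert_tree lc_g_Cert_tree lc_g_Cert_tree lc_g_rc_27_0 lc_g_Cert_tree lc_g_rc_27_0 lc_g_rc_12_3 lc_g_rc_6_1 lc_g_rc_6_1 lc_g_rc_17_1 lc_g_Cert_tree lc_g_Cert_tree lc_g_rc_6_1 lc_g_rc_29_1 lc_g_rc_21_1 lc_g_Cert_tree lc_g_Cert_tree lc_g_rc_27_0 lc_g_Cert_tree lc_g_Cert_tree lc_g_rc_27_0 lc_g_rc_17_1 lc_g_Cert_tree lc_g_rc_26_3 lc_g_Cert_tree lc_g_Cert_tree lc_g_rc_27_0 lc_g_rc_12_3 lc_g_rc_6_1 lc_g_rc_6_1 lc_g_rc_17_1 lc_g_rc_6_1) (@D3.rec (fun _ => (Cert rels S Gen.g)) lc_g_rc_21_1 lc_g_rc_17_1 lc_g_Cert_tree lc_g_rc_6_1 lc_g_rc_29_3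 lc_g_rc_24_1 lc_g_Cert_tree lc_g_Cert_tree lc_g_rc_27_0 lc_g_rc_12_1 lc_g_rc_17_1 lc_g_rc_17_1 lc_g_rc_21_1 lc_g_rc_21_3 lc_g_rc_6_3 lc_g_Cert_tree lc_g_Cert_tree lc_g_Cert_tree lc_g_rc_27_0 lc_g_rc_27_0 lc_g_rc_12_3 lc_g_rc_6_1 lc_g_rc_6_1 lc_g_rc_12_3 lc_g_rc_29_1 lc_g_rc_21_1 lc_g_rc_12_5 lc_g_rc_17_1 lc_g_rc_31_11 lc_g_rc_17_1 lc_g_rc_6_1 lc_g_Cert_tree lc_g_rc_21_1 lc_g_rc_17_1 lc_g_Cert_tree lc_g_Cert_tree lc_g_rc_17_3 lc_g_rc_27_0 lc_g_rc_29_1 lc_g_rc_27_0)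
def ce_g_2 : D2 → D3 → (Cert rels S Gen.g) := @D2.rec (fun _ => D3 → (Cert rels S Gen.g)) (@D3.rec (fun _ => (Cert rels S Gen.g)) lc_g_rc_12_3 lc_g_rc_12_5 lc_g_rc_21_1 lc_g_rc_17_1 lc_g_rc_24_1 lc_g_Cert_tree lc_g_Cert_tree lc_g_Cert_tree lc_g_rc_27_0 lc_g_Cert_tree lc_g_rc_27_0 lc_g_rc_12_3 lc_g_rc_12_3 lc_g_rc_6_1 lc_g_rc_17_1 lc_g_rc_21_1 lc_g_Cert_tree lc_g_rc_6_3 lc_g_Cert_tree lc_g_Cert_tree lc_g_Cert_tree lc_g_rc_27_0 lc_g_rc_21_1 lc_g_rc_6_1 lc_g_Cert_tree lc_g_rc_26_5 lc_g_rc_26_3 lc_g_Cert_tree lc_g_rc_27_0 lc_g_Cert_tree lc_g_rc_6_1 lc_g_Cert_tree lc_g_Cert_tree lc_g_Cert_tree lc_g_Cert_tree lc_g_rc_27_0 lc_g_Cert_tree lc_g_Cert_tree lc_g_Cert_tree lc_g_rc_27_0) (@D3.rec (fun _ => (Cert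 rels S Gen.g)) lc_g_Cert_tree lc_g_rc_21_1 lc_g_rc_27_0 lc_g_Cert_tree lc_g_rc_12_3 lc_g_Cert_tree lc_g_Cert_tree lc_g_rc_6_3 lc_g_rc_27_0 lc_g_Cert_tree lc_g_Cert_tree lc_g_Cert_tree lc_g_rc_27_0 lc_g_Cert_tree lc_g_rc_27_0 lc_g_rc_12_3 lc_g_rc_29_3 lc_g_rc_24_1 lc_g_rc_27_0 lc_g_Cert_tree lc_g_rc_12_3 lc_g_Cert_tree lc_g_rc_27_0 lc_g_rc_6_1 lc_g_Cert_tree lc_g_rc_6_3 lc_g_rc_27_0 lc_g_Cert_tree lc_g_rc_27_0 lc_g_rc_12_3 lc_g_rc_29_3 lc_g_Cert_tree lc_g_rc_27_0 lc_g_Cert_tree lc_g_rc_27_0 lc_g_rc_12_3 lc_g_rc_21_1 lc_g_Cert_tree lc_g_Cert_tree lc_g_rc_27_0) (@D3.rec (fun _ => (Cert rels S Gen.g)) lc_g_rc_12_3 lc_g_rc_6_1 lc_g_rc_17_1 lc_g_Cert_tree lc_g_Cert_tree lc_g_rc_21_1 lc_g_rc_29_1 lc_g_rc_17_1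 lc_g_rc_21_1 lc_g_rc_24_1 lc_g_rc_17_1 lc_g_rc_29_1 lc_g_rc_21_1 lc_g_rc_29_3 lc_g_rc_21_1 lc_g_rc_6_3 lc_g_rc_27_0 lc_g_Cert_tree lc_g_rc_12_3 lc_g_Cert_tree lc_g_rc_27_0 lc_g_rc_12_3 lc_g_rc_6_1 lc_g_rc_29_1 lc_g_Cert_tree lc_g_rc_27_0 lc_g_rc_12_3 lc_g_rc_29_3 lc_g_rc_17_1 lc_g_rc_29_3 lc_g_Cert_tree lc_g_rc_24_1 lc_g_rc_27_0 lc_g_Cert_tree lc_g_rc_12_3 lc_g_Cert_tree lc_g_rc_27_0 lc_g_rc_21_1 lc_g_rc_24_1 lc_g_Cert_tree) (@D3.rec (fun _ => (Cert rels S Gen.g)) lc_g_Cert_tree lc_g_rc_27_0 lc_g_rc_12_3 lc_g_rc_6_1 lc_g_rc_17_1 lc_g_Cert_tree lc_g_Cert_tree lc_g_Cert_tree lc_g_Cert_tree lc_g_rc_27_0 lc_g_Cert_tree lc_g_rc_27_0 lc_g_rc_12_3 lc_g_rc_6_1 lc_g_rc_6_1 lc_g_rc_17_1 lc_g_Cert_tree lc_g_Cert_tree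 lc_g_rc_6_1 lc_g_rc_29_1 lc_g_rc_21_1 lc_g_Cert_tree lc_g_Cert_tree lc_g_rc_27_0 lc_g_Cert_tree lc_g_Cert_tree lc_g_rc_27_0 lc_g_rc_17_1 lc_g_rc_29_3 lc_g_rc_29_1 lc_g_rc_21_1 lc_g_rc_6_1 lc_g_rc_24_1 lc_g_rc_17_1 lc_g_rc_21_1 lc_g_Cert_tree lc_g_rc_17_1 lc_g_rc_6_1 lc_g_rc_17_1 lc_g_Cert_tree) (@D3.rec (fun _ => (Cert rels S Gen.g)) lc_g_rc_21_1 lc_g_rc_17_1 lc_g_rc_17_1 lc_g_Cert_tree lc_g_Cert_tree lc_g_Cert_tree lc_g_rc_27_0 lc_g_Cert_tree lc_g_rc_6_3 lc_g_rc_27_0 lc_g_Cert_tree lc_g_rc_12_3 lc_g_Cert_tree lc_g_rc_27_0 lc_g_Cert_tree lc_g_rc_27_0 lc_g_rc_12_3 lc_g_rc_6_1 lc_g_rc_29_1 lc_g_Cert_tree lc_g_rc_27_0 lc_g_rc_12_3 lc_g_rc_29_3 lc_g_rc_17_1 lc_g_rc_29_3 lc_g_Cert_tree lc_g_Cert_tree lc_g_Cert_tree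 lc_g_rc_27_0 lc_g_rc_6_1 lc_g_rc_17_1 lc_g_Cert_tree lc_g_Cert_tree lc_g_Cert_tree lc_g_rc_27_0 lc_g_Cert_tree lc_g_rc_27_0 lc_g_rc_6_1 lc_g_Cert_tree lc_g_rc_6_1) (@D3.rec (fun _ => (Cert rels S Gen.g)) lc_g_rc_29_1 lc_g_rc_21_1 lc_g_Cert_tree lc_g_rc_27_0 lc_g_Cert_tree lc_g_rc_6_3 lc_g_rc_27_0 lc_g_Cert_tree lc_g_rc_27_0 lc_g_rc_12_3 lc_g_Cert_tree lc_g_rc_6_1 lc_g_rc_17_1 lc_g_rc_24_1 lc_g_rc_21_1 lc_g_Cert_tree lc_g_Cert_tree lc_g_rc_29_1 lc_g_Cert_tree lc_g_rc_6_1 lc_g_rc_6_3 lc_g_rc_27_0 lc_g_Cert_tree lc_g_rc_27_0 lc_g_Cert_tree lc_g_rc_27_0 lc_g_rc_12_3 lc_g_rc_29_3 lc_g_Cert_tree lc_g_Cert_tree lc_g_rc_27_0 lc_g_rc_21_3 lc_g_rc_21_1 lc_g_rc_12_5 lc_g_Cert_tree lc_g_rc_29_1 lc_g_Cert_tree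 lc_g_rc_27_0 lc_g_rc_12_3 lc_g_rc_6_1) (@D3.rec (fun _ => (Cert rels S Gen.g)) lc_g_rc_17_1 lc_g_Cert_tree lc_g_Cert_tree lc_g_rc_29_3 lc_g_rc_21_1 lc_g_rc_29_3 lc_g_Cert_tree lc_g_Cert_tree lc_g_Cert_tree lc_g_rc_27_0 lc_g_Cert_tree lc_g_Cert_tree lc_g_rc_27_0 lc_g_Cert_tree lc_g_Cert_tree lc_g_rc_27_0 lc_g_rc_12_3 lc_g_Cert_tree lc_g_Cert_tree lc_g_rc_27_0 lc_g_rc_12_3 lc_g_rc_6_1 lc_g_Cert_tree lc_g_Cert_tree lc_g_Cert_tree lc_g_rc_27_0 lc_g_Cert_tree lc_g_rc_6_1 lc_g_rc_29_1 lc_g_Cert_tree lc_g_rc_17_1 lc_g_rc_24_1 lc_g_Cert_tree lc_g_Cert_tree lc_g_rc_27_0 lc_g_rc_12_3 lc_g_Cert_tree lc_g_Cert_tree lc_g_Cert_tree lc_g_rc_27_0) (@D3.rec (fun _ => (Cert rels S Gen.g)) lc_g_Cert_tree lc_g_rc_27_0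 lc_g_rc_12_3 lc_g_Cert_tree lc_g_Cert_tree lc_g_rc_27_0 lc_g_rc_27_0 lc_g_rc_12_3 lc_g_rc_6_1 lc_g_Cert_tree lc_g_Cert_tree lc_g_Cert_tree lc_g_Cert_tree lc_g_rc_27_0 lc_g_rc_6_1 lc_g_rc_17_1 lc_g_Cert_tree lc_g_rc_17_3 lc_g_rc_6_3 lc_g_rc_29_3 lc_g_rc_17_3 lc_g_Cert_tree lc_g_Cert_tree lc_g_rc_27_0 lc_g_rc_21_3 lc_g_Cert_tree lc_g_rc_12_5 lc_g_rc_27_0 lc_g_Cert_tree lc_g_Cert_tree lc_g_Cert_tree lc_g_Cert_tree lc_g_rc_27_0 lc_g_Cert_tree lc_g_rc_27_0 lc_g_Cert_tree lc_g_rc_27_0 lc_g_rc_12_3 lc_g_rc_12_3 lc_g_rc_6_1) (@D3.rec (fun _ => (Cert rels S Gen.g)) lc_g_rc_17_1 lc_g_rc_17_1 lc_g_rc_6_1 lc_g_rc_6_1 lc_g_rc_29_1 lc_g_Cert_tree lc_g_Cert_tree lc_g_Cert_tree lc_g_Cert_tree lc_g_rc_27_0 lc_g_rc_24_1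 lc_g_rc_6_1 lc_g_rc_21_1 lc_g_rc_17_1 lc_g_Cert_tree lc_g_rc_6_3 lc_g_rc_6_1 lc_g_rc_17_1 lc_g_Cert_tree lc_g_Cert_tree lc_g_Cert_tree lc_g_rc_27_0 lc_g_rc_6_3 lc_g_Cert_tree lc_g_Cert_tree lc_g_rc_6_3 lc_g_rc_27_0 lc_g_Cert_tree lc_g_Cert_tree lc_g_rc_27_0 lc_g_rc_27_0 lc_g_rc_12_3 lc_g_rc_29_3 lc_g_Cert_tree lc_g_rc_27_0 lc_g_rc_12_3 lc_g_rc_6_1 lc_g_rc_6_1 lc_g_rc_17_1 lc_g_Cert_tree) (@D3.rec (fun _ => (Cert rels S Gen.g)) lc_g_Cert_tree lc_g_rc_29_1 lc_g_rc_17_1 lc_g_rc_31_8 lc_g_rc_6_1 lc_g_rc_21_1 lc_g_rc_17_1 lc_g_rc_12_5 lc_g_rc_6_3 lc_g_rc_6_1 lc_g_rc_6_3 lc_g_rc_27_0 lc_g_rc_29_3 lc_g_Cert_tree lc_g_rc_12_1 lc_g_rc_6_3 lc_g_rc_27_0 lc_g_rc_12_3 lc_g_rc_24_3 lc_g_rc_27_0 lc_g_Cert_tree lc_g_rc_27_0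 lc_g_rc_29_3 lc_g_rc_29_1 lc_g_rc_29_3 lc_g_Cert_tree lc_g_rc_27_0 lc_g_Cert_tree lc_g_Cert_tree lc_g_rc_27_0 lc_g_rc_12_3 lc_g_rc_6_1 lc_g_rc_12_5 lc_g_rc_29_3 lc_g_rc_29_1 lc_g_Cert_tree lc_g_rc_27_0 lc_g_rc_21_3 lc_g_rc_21_3 lc_g_Cert_tree) (@D3.rec (fun _ => (Cert rels S Gen.g)) lc_g_Cert_tree lc_g_rc_27_0 lc_g_Cert_tree lc_g_Cert_tree lc_g_Cert_tree lc_g_rc_27_0 lc_g_rc_17_1 lc_g_Cert_tree lc_g_rc_21_1 lc_g_rc_29_3 lc_g_rc_6_3 lc_g_Cert_tree lc_g_Cert_tree lc_g_rc_27_0 lc_g_Cert_tree lc_g_rc_6_3 lc_g_rc_27_0 lc_g_Cert_tree lc_g_Cert_tree lc_g_rc_27_0 lc_g_Cert_tree lc_g_rc_27_0 lc_g_Cert_tree lc_g_rc_27_0 lc_g_rc_12_3 lc_g_rc_29_3 lc_g_Cert_tree lc_g_Cert_tree lc_g_rc_6_3 lc_g_rc_27_0 lc_g_Cert_tree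 lc_g_rc_12_3 lc_g_Cert_tree lc_g_Cert_tree lc_g_rc_27_0 lc_g_rc_6_1 lc_g_rc_17_1 lc_g_Cert_tree lc_g_Cert_tree lc_g_rc_27_0) (@D3.rec (fun _ => (Cert rels S Gen.g)) lc_g_Cert_tree lc_g_rc_27_0 lc_g_rc_12_3 lc_g_rc_6_1 lc_g_rc_29_1 lc_g_Cert_tree lc_g_rc_27_0 lc_g_rc_12_3 lc_g_rc_29_3 lc_g_rc_17_1 lc_g_rc_29_3 lc_g_Cert_tree lc_g_Cert_tree lc_g_rc_29_1 lc_g_Cert_tree lc_g_rc_27_0 lc_g_rc_12_3 lc_g_rc_6_1 lc_g_rc_17_1 lc_g_Cert_tree lc_g_Cert_tree lc_g_rc_29_3 lc_g_rc_21_1 lc_g_rc_29_3 lc_g_Cert_tree lc_g_Cert_tree lc_g_Cert_tree lc_g_rc_27_0 lc_g_Cert_tree lc_g_Cert_tree lc_g_rc_27_0 lc_g_Cert_tree lc_g_rc_27_0 lc_g_rc_12_3 lc_g_rc_6_1 lc_g_rc_6_1 lc_g_rc_17_1 lc_g_Cert_tree lc_g_Cert_tree lc_g_rc_6_1)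 (@D3.rec (fun _ => (Cert rels S Gen.g)) lc_g_rc_29_1 lc_g_rc_21_1 lc_g_Cert_tree lc_g_Cert_tree lc_g_rc_27_0 lc_g_Cert_tree lc_g_Cert_tree lc_g_rc_27_0 lc_g_Cert_tree lc_g_Cert_tree lc_g_Cert_tree lc_g_rc_27_0 lc_g_Cert_tree lc_g_Cert_tree lc_g_rc_27_0 lc_g_rc_12_3 lc_g_Cert_tree lc_g_Cert_tree lc_g_rc_27_0 lc_g_rc_12_3 lc_g_rc_6_1 lc_g_rc_29_3 lc_g_rc_17_1 lc_g_rc_29_3 lc_g_Cert_tree lc_g_Cert_tree lc_g_rc_6_1 lc_g_rc_29_1 lc_g_rc_21_1 lc_g_Cert_tree lc_g_rc_27_0 lc_g_Cert_tree lc_g_Cert_tree lc_g_Cert_tree lc_g_rc_27_0 lc_g_Cert_tree lc_g_rc_6_1 lc_g_rc_29_1 lc_g_Cert_tree lc_g_rc_17_1) (@D3.rec (fun _ => (Cert rels S Gen.g)) lc_g_rc_24_1 lc_g_Cert_tree lc_g_Cert_tree lc_g_rc_27_0 lc_g_rc_29_1 lc_g_Cert_tree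 lc_g_rc_27_0 lc_g_rc_12_3 lc_g_Cert_tree lc_g_Cert_tree lc_g_rc_27_0 lc_g_Cert_tree lc_g_rc_27_0 lc_g_rc_6_1 lc_g_rc_21_1 lc_g_rc_21_1 lc_g_rc_6_1 lc_g_Cert_tree lc_g_rc_29_1 lc_g_rc_17_1 lc_g_Cert_tree lc_g_rc_29_1 lc_g_rc_6_1 lc_g_rc_6_3 lc_g_Cert_tree lc_g_rc_17_1 lc_g_Cert_tree lc_g_rc_27_0 lc_g_rc_29_3 lc_g_rc_29_3 lc_g_Cert_tree lc_g_rc_6_1 lc_g_rc_29_1 lc_g_rc_21_1 lc_g_rc_29_1 lc_g_rc_21_1 lc_g_rc_29_1 lc_g_rc_29_3 lc_g_rc_31_11 lc_g_rc_31_5) (@D3.rec (fun _ => (Cert rels S Gen.g)) lc_g_Cert_tree lc_g_rc_6_3 lc_g_rc_27_0 lc_g_Cert_tree lc_g_rc_12_3 lc_g_Cert_tree lc_g_Cert_tree lc_g_Cert_tree lc_g_rc_27_0 lc_g_Cert_tree lc_g_rc_27_0 lc_g_rc_12_3 lc_g_rc_6_1 lc_g_rc_29_1 lc_g_Cert_tree lc_g_rc_27_0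 lc_g_rc_12_3 lc_g_rc_29_3 lc_g_rc_17_1 lc_g_rc_29_3 lc_g_Cert_tree lc_g_Cert_tree lc_g_Cert_tree lc_g_rc_27_0 lc_g_Cert_tree lc_g_rc_27_0 lc_g_rc_6_1 lc_g_Cert_tree lc_g_rc_6_1 lc_g_rc_29_1 lc_g_rc_21_1 lc_g_Cert_tree lc_g_rc_27_0 lc_g_Cert_tree lc_g_Cert_tree lc_g_Cert_tree lc_g_rc_27_0 lc_g_Cert_tree lc_g_rc_29_1 lc_g_Cert_tree) (@D3.rec (fun _ => (Cert rels S Gen.g)) lc_g_Cert_tree lc_g_rc_27_0 lc_g_rc_12_3 lc_g_rc_29_3 lc_g_rc_17_1 lc_g_rc_29_3 lc_g_Cert_tree lc_g_rc_6_1 lc_g_rc_29_1 lc_g_rc_21_1 lc_g_Cert_tree lc_g_rc_27_0 lc_g_rc_21_3 lc_g_rc_26_7 lc_g_Cert_tree lc_g_rc_27_0 lc_g_Cert_tree lc_g_rc_29_3 lc_g_rc_17_1 lc_g_rc_24_1 lc_g_rc_29_3 lc_g_Cert_tree lc_g_rc_29_1 lc_g_Cert_tree lc_g_rc_27_0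 lc_g_rc_12_5 lc_g_Cert_tree lc_g_rc_27_0 lc_g_Cert_tree lc_g_rc_27_0 lc_g_rc_6_1 lc_g_rc_6_3 lc_g_rc_27_0 lc_g_Cert_tree lc_g_Cert_tree lc_g_Cert_tree lc_g_rc_27_0 lc_g_rc_27_0 lc_g_rc_12_3 lc_g_rc_29_3) (@D3.rec (fun _ => (Cert rels S Gen.g)) lc_g_Cert_tree lc_g_Cert_tree lc_g_Cert_tree lc_g_rc_27_0 lc_g_Cert_tree lc_g_Cert_tree lc_g_rc_27_0 lc_g_rc_12_3 lc_g_rc_6_1 lc_g_rc_17_1 lc_g_rc_12_1 lc_g_Cert_tree lc_g_Cert_tree lc_g_rc_27_0 lc_g_rc_27_0 lc_g_rc_12_3 lc_g_rc_6_1 lc_g_rc_29_3 lc_g_rc_12_3 lc_g_rc_29_3 lc_g_Cert_tree lc_g_Cert_tree lc_g_rc_29_3 lc_g_rc_21_1 lc_g_rc_29_3 lc_g_Cert_tree lc_g_Cert_tree lc_g_Cert_tree lc_g_rc_27_0 lc_g_Cert_tree lc_g_Cert_tree lc_g_rc_12_1 lc_g_rc_27_0 lc_g_Cert_tree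 lc_g_rc_6_1 lc_g_rc_29_1 lc_g_rc_6_1 lc_g_rc_17_1 lc_g_rc_24_1 lc_g_Cert_tree) (@D3.rec (fun _ => (Cert rels S Gen.g)) lc_g_rc_27_0 lc_g_rc_12_3 lc_g_rc_6_3 lc_g_rc_27_0 lc_g_rc_29_1 lc_g_rc_12_1 lc_g_Cert_tree lc_g_rc_27_0 lc_g_Cert_tree lc_g_rc_27_0 lc_g_rc_29_3 lc_g_Cert_tree lc_g_Cert_tree lc_g_Cert_tree lc_g_rc_27_0 lc_g_rc_17_1 lc_g_rc_6_1 lc_g_rc_29_1 lc_g_Cert_tree lc_g_rc_29_1 lc_g_Cert_tree lc_g_rc_27_0 lc_g_rc_21_1 lc_g_rc_17_1 lc_g_Cert_tree lc_g_Cert_tree lc_g_Cert_tree lc_g_rc_27_0 lc_g_rc_29_1 lc_g_Cert_tree lc_g_rc_27_0 lc_g_rc_12_3 lc_g_Cert_tree lc_g_rc_29_1 lc_g_Cert_tree lc_g_rc_27_0 lc_g_rc_12_3 lc_g_rc_6_1 lc_g_rc_17_1 lc_g_Cert_tree) (@D3.rec (fun _ => (Cert rels S Gen.g)) lc_g_Cert_tree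 lc_g_Cert_tree lc_g_Cert_tree lc_g_rc_27_0 lc_g_Cert_tree lc_g_Cert_tree lc_g_rc_27_0 lc_g_rc_12_3 lc_g_Cert_tree lc_g_Cert_tree lc_g_rc_27_0 lc_g_rc_6_1 lc_g_Cert_tree lc_g_rc_12_3 lc_g_rc_6_1 lc_g_rc_17_1 lc_g_Cert_tree lc_g_rc_6_1 lc_g_rc_29_1 lc_g_rc_12_3 lc_g_Cert_tree lc_g_rc_27_0 lc_g_rc_24_1 lc_g_rc_29_1 lc_g_Cert_tree lc_g_rc_21_1 lc_g_Cert_tree lc_g_Cert_tree lc_g_Cert_tree lc_g_rc_27_0 lc_g_rc_29_3 lc_g_Cert_tree lc_g_rc_17_1 lc_g_rc_21_3 lc_g_rc_12_5 lc_g_rc_12_1 lc_g_rc_12_1 lc_g_Cert_tree lc_g_rc_27_0 lc_g_Cert_tree) (@D3.rec (fun _ => (Cert rels S Gen.g)) lc_g_rc_27_0 lc_g_rc_6_1 lc_g_rc_6_1 lc_g_rc_29_3 lc_g_Cert_tree lc_g_rc_29_3 lc_g_Cert_tree lc_g_Cert_tree lc_g_Cert_tree lc_g_rc_27_0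 lc_g_rc_17_3 lc_g_Cert_tree lc_g_rc_29_3 lc_g_Cert_tree lc_g_rc_17_1 lc_g_rc_6_1 lc_g_rc_27_1 lc_g_rc_17_1 lc_g_rc_12_3 lc_g_rc_21_1 lc_g_Cert_tree lc_g_rc_27_0 lc_g_Cert_tree lc_g_rc_6_1 lc_g_Cert_tree lc_g_Cert_tree lc_g_rc_12_3 lc_g_Cert_tree lc_g_rc_27_0 lc_g_rc_17_1 lc_g_rc_6_3 lc_g_rc_12_3 lc_g_rc_6_1 lc_g_rc_29_1 lc_g_rc_6_1 lc_g_rc_17_1 lc_g_rc_12_3 lc_g_rc_12_3 lc_g_rc_12_5 lc_g_rc_21_1) (@D3.rec (fun _ => (Cert rels S Gen.g)) lc_g_Cert_tree lc_g_rc_21_3 lc_g_rc_29_1 lc_g_Cert_tree lc_g_rc_26_5 lc_g_rc_12_1 lc_g_rc_27_0 lc_g_rc_29_1 lc_g_rc_21_1 lc_g_rc_29_1 lc_g_rc_29_3 lc_g_Cert_tree lc_g_rc_6_1 lc_g_rc_6_1 lc_g_rc_6_3 lc_g_rc_27_0 lc_g_rc_31_2 lc_g_rc_27_0 lc_g_rc_6_3 lc_g_Cert_tree lc_g_rc_27_0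 lc_g_rc_12_1 lc_g_rc_17_1 lc_g_Cert_tree lc_g_rc_27_0 lc_g_rc_12_3 lc_g_rc_6_3 lc_g_Cert_tree lc_g_rc_6_1 lc_g_rc_12_3 lc_g_rc_6_1 lc_g_rc_17_1 lc_g_Cert_tree lc_g_rc_31_8 lc_g_rc_29_1 lc_g_rc_21_1 lc_g_rc_29_3 lc_g_Cert_tree lc_g_Cert_tree lc_g_rc_27_0) (@D3.rec (fun _ => (Cert rels S Gen.g)) lc_g_rc_24_3 lc_g_Cert_tree lc_g_rc_6_3 lc_g_rc_27_0 lc_g_Cert_tree lc_g_Cert_tree lc_g_rc_27_0 lc_g_rc_27_0 lc_g_rc_29_3 lc_g_Cert_tree lc_g_Cert_tree lc_g_rc_6_3 lc_g_rc_27_0 lc_g_Cert_tree lc_g_Cert_tree lc_g_rc_27_0 lc_g_Cert_tree lc_g_rc_27_0 lc_g_rc_12_3 lc_g_rc_29_3 lc_g_Cert_tree lc_g_rc_12_3 lc_g_Cert_tree lc_g_rc_27_0 lc_g_rc_6_1 lc_g_Cert_tree lc_g_Cert_tree lc_g_rc_24_3 lc_g_Cert_tree lc_g_rc_27_0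 lc_g_Cert_tree lc_g_rc_12_3 lc_g_rc_29_1 lc_g_rc_27_0 lc_g_rc_12_3 lc_g_rc_29_3 lc_g_rc_29_3 lc_g_Cert_tree lc_g_Cert_tree lc_g_rc_27_0) (@D3.rec (fun _ => (Cert rels S Gen.g)) lc_g_rc_6_1 lc_g_rc_24_1 lc_g_rc_29_1 lc_g_rc_27_0 lc_g_rc_17_3 lc_g_rc_27_0 lc_g_Cert_tree lc_g_rc_12_3 lc_g_rc_17_1 lc_g_rc_29_1 lc_g_rc_17_3 lc_g_rc_6_3 lc_g_rc_27_0 lc_g_Cert_tree lc_g_rc_27_0 lc_g_rc_12_3 lc_g_rc_29_3 lc_g_Cert_tree lc_g_Cert_tree lc_g_rc_27_0 lc_g_rc_6_1 lc_g_rc_17_1 lc_g_Cert_tree lc_g_rc_21_1 lc_g_rc_29_1 lc_g_Cert_tree lc_g_rc_6_3 lc_g_rc_6_3 lc_g_rc_27_0 lc_g_Cert_tree lc_g_rc_27_0 lc_g_Cert_tree lc_g_rc_27_0 lc_g_rc_12_3 lc_g_rc_29_3 lc_g_Cert_tree lc_g_rc_27_0 lc_g_rc_12_3 lc_g_rc_6_1 lc_g_Cert_tree)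 (@D3.rec (fun _ => (Cert rels S Gen.g)) lc_g_Cert_tree lc_g_rc_27_0 lc_g_rc_12_3 lc_g_rc_6_1 lc_g_rc_17_1 lc_g_Cert_tree lc_g_Cert_tree lc_g_Cert_tree lc_g_rc_27_0 lc_g_rc_6_3 lc_g_rc_21_1 lc_g_rc_6_1 lc_g_rc_6_1 lc_g_rc_6_1 lc_g_Cert_tree lc_g_rc_27_0 lc_g_rc_17_3 lc_g_rc_6_3 lc_g_rc_6_3 lc_g_rc_27_0 lc_g_rc_12_3 lc_g_rc_17_1 lc_g_Cert_tree lc_g_Cert_tree lc_g_Cert_tree lc_g_rc_27_0 lc_g_rc_6_3 lc_g_rc_27_0 lc_g_Cert_tree lc_g_rc_27_0 lc_g_rc_12_3 lc_g_rc_6_1 lc_g_rc_29_1 lc_g_Cert_tree lc_g_rc_27_0 lc_g_rc_12_3 lc_g_rc_29_3 lc_g_rc_17_1 lc_g_rc_29_3 lc_g_Cert_tree) (@D3.rec (fun _ => (Cert rels S Gen.g)) lc_g_Cert_tree lc_g_rc_27_0 lc_g_rc_12_3 lc_g_rc_24_1 lc_g_Cert_tree lc_g_Cert_tree lc_g_rc_27_0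 lc_g_rc_12_3 lc_g_rc_6_1 lc_g_rc_17_1 lc_g_Cert_tree lc_g_Cert_tree lc_g_Cert_tree lc_g_Cert_tree lc_g_rc_27_0 lc_g_Cert_tree lc_g_rc_27_0 lc_g_rc_12_3 lc_g_rc_6_1 lc_g_rc_6_1 lc_g_rc_17_1 lc_g_Cert_tree lc_g_rc_6_1 lc_g_rc_6_1 lc_g_rc_29_1 lc_g_rc_29_1 lc_g_Cert_tree lc_g_Cert_tree lc_g_rc_27_0 lc_g_Cert_tree lc_g_Cert_tree lc_g_rc_27_0 lc_g_Cert_tree lc_g_rc_29_1 lc_g_Cert_tree lc_g_Cert_tree lc_g_rc_27_0 lc_g_rc_12_3 lc_g_rc_29_1 lc_g_rc_12_3) (@D3.rec (fun _ => (Cert rels S Gen.g)) lc_g_rc_6_1 lc_g_rc_29_3 lc_g_rc_24_1 lc_g_rc_6_1 lc_g_Cert_tree lc_g_rc_26_5 lc_g_rc_12_3 lc_g_rc_27_0 lc_g_rc_17_1 lc_g_rc_29_1 lc_g_Cert_tree lc_g_Cert_tree lc_g_rc_17_1 lc_g_rc_27_0 lc_g_rc_29_1 lc_g_rc_6_3 lc_g_rc_12_3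 lc_g_rc_29_3 lc_g_rc_17_1 lc_g_rc_6_1 lc_g_rc_29_3 lc_g_rc_21_1 lc_g_rc_17_1 lc_g_rc_6_1 lc_g_rc_21_1 lc_g_rc_6_1 lc_g_Cert_tree lc_g_Cert_tree lc_g_Cert_tree lc_g_rc_27_0 lc_g_rc_6_3 lc_g_rc_27_0 lc_g_Cert_tree lc_g_rc_12_3 lc_g_rc_6_3 lc_g_rc_27_0 lc_g_Cert_tree lc_g_rc_27_0 lc_g_rc_12_3 lc_g_rc_6_1)
def ce_g_3 : D2 → D3 → (Cert rels S Gen.g) := @D2.rec (fun _ => D3 → (Cert rels S Gen.g)) (@D3.rec (fun _ => (Cert rels S Gen.g)) lc_g_rc_29_1 lc_g_Cert_tree lc_g_rc_27_0 lc_g_rc_12_3 lc_g_rc_29_3 lc_g_rc_17_1 lc_g_rc_29_3 lc_g_Cert_tree lc_g_Cert_tree lc_g_Cert_tree lc_g_rc_27_0 lc_g_rc_12_3 lc_g_rc_6_1 lc_g_rc_17_1 lc_g_Cert_tree lc_g_Cert_tree lc_g_Cert_tree lc_g_Cert_tree lc_g_rc_27_0 lc_g_Cert_tree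 lc_g_rc_27_0 lc_g_rc_12_3 lc_g_rc_6_1 lc_g_rc_6_1 lc_g_rc_17_1 lc_g_Cert_tree lc_g_Cert_tree lc_g_rc_6_1 lc_g_rc_29_1 lc_g_rc_21_1 lc_g_Cert_tree lc_g_Cert_tree lc_g_rc_27_0 lc_g_Cert_tree lc_g_Cert_tree lc_g_rc_27_0 lc_g_rc_17_1 lc_g_Cert_tree lc_g_rc_29_1 lc_g_Cert_tree) (@D3.rec (fun _ => (Cert rels S Gen.g)) lc_g_rc_27_0 lc_g_rc_12_3 lc_g_rc_6_1 lc_g_rc_6_1 lc_g_rc_17_1 lc_g_rc_6_1 lc_g_rc_21_1 lc_g_rc_24_1 lc_g_Cert_tree lc_g_rc_21_1 lc_g_rc_24_1 lc_g_Cert_tree lc_g_Cert_tree lc_g_rc_27_0 lc_g_rc_12_1 lc_g_rc_17_1 lc_g_rc_24_1 lc_g_rc_21_1 lc_g_Cert_tree lc_g_rc_29_1 lc_g_rc_6_1 lc_g_rc_21_1 lc_g_rc_6_1 lc_g_rc_17_1 lc_g_rc_12_3 lc_g_rc_21_1 lc_g_rc_29_1 lc_g_rc_29_3 lc_g_rc_29_3 lc_g_rc_17_1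 lc_g_rc_31_11 lc_g_rc_31_5 lc_g_rc_6_3 lc_g_rc_27_0 lc_g_Cert_tree lc_g_rc_27_0 lc_g_rc_12_3 lc_g_rc_29_3 lc_g_Cert_tree lc_g_Cert_tree) (@D3.rec (fun _ => (Cert rels S Gen.g)) lc_g_rc_27_0 lc_g_rc_6_1 lc_g_rc_17_1 lc_g_Cert_tree lc_g_Cert_tree lc_g_rc_29_1 lc_g_Cert_tree lc_g_rc_27_0 lc_g_rc_12_3 lc_g_rc_6_1 lc_g_rc_17_1 lc_g_Cert_tree lc_g_Cert_tree lc_g_rc_29_3 lc_g_rc_21_1 lc_g_rc_29_3 lc_g_Cert_tree lc_g_Cert_tree lc_g_Cert_tree lc_g_rc_27_0 lc_g_Cert_tree lc_g_Cert_tree lc_g_Cert_tree lc_g_rc_27_0 lc_g_Cert_tree lc_g_Cert_tree lc_g_rc_27_0 lc_g_rc_12_3 lc_g_Cert_tree lc_g_rc_27_0 lc_g_rc_12_3 lc_g_rc_6_1 lc_g_rc_29_3 lc_g_rc_17_1 lc_g_rc_29_3 lc_g_Cert_tree lc_g_Cert_tree lc_g_rc_6_1 lc_g_rc_29_1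 lc_g_rc_21_1) (@D3.rec (fun _ => (Cert rels S Gen.g)) lc_g_rc_6_3 lc_g_rc_27_0 lc_g_Cert_tree lc_g_Cert_tree lc_g_Cert_tree lc_g_rc_27_0 lc_g_Cert_tree lc_g_rc_12_1 lc_g_rc_29_1 lc_g_Cert_tree lc_g_rc_24_1 lc_g_Cert_tree lc_g_Cert_tree lc_g_rc_27_0 lc_g_rc_29_1 lc_g_rc_17_3 lc_g_rc_27_0 lc_g_rc_12_3 lc_g_Cert_tree lc_g_Cert_tree lc_g_rc_27_0 lc_g_rc_29_1 lc_g_rc_27_0 lc_g_rc_6_1 lc_g_Cert_tree lc_g_rc_21_1 lc_g_Cert_tree lc_g_Cert_tree lc_g_Cert_tree lc_g_rc_27_0 lc_g_rc_26_3 lc_g_Cert_tree lc_g_Cert_tree lc_g_rc_27_0 lc_g_rc_27_0 lc_g_rc_12_3 lc_g_rc_6_1 lc_g_rc_6_1 lc_g_rc_12_3 lc_g_Cert_tree) (@D3.rec (fun _ => (Cert rels S Gen.g)) lc_g_Cert_tree lc_g_rc_6_1 lc_g_rc_21_1 lc_g_Cert_tree lc_g_rc_6_1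 lc_g_rc_17_1 lc_g_rc_24_1 lc_g_Cert_tree lc_g_rc_21_1 lc_g_Cert_tree lc_g_rc_29_3 lc_g_Cert_tree lc_g_rc_27_0 lc_g_rc_6_1 lc_g_Cert_tree lc_g_rc_6_3 lc_g_rc_6_3 lc_g_Cert_tree lc_g_Cert_tree lc_g_rc_27_0 lc_g_Cert_tree lc_g_Cert_tree lc_g_rc_27_0 lc_g_rc_12_3 lc_g_rc_17_1 lc_g_rc_21_1 lc_g_Cert_tree lc_g_rc_21_1 lc_g_rc_17_1 lc_g_rc_24_1 lc_g_Cert_tree lc_g_rc_24_1 lc_g_Cert_tree lc_g_Cert_tree lc_g_Cert_tree lc_g_Cert_tree lc_g_rc_27_0 lc_g_Cert_tree lc_g_rc_27_0 lc_g_Cert_tree) (@D3.rec (fun _ => (Cert rels S Gen.g)) lc_g_rc_27_0 lc_g_rc_12_3 lc_g_rc_17_1 lc_g_rc_12_3 lc_g_rc_24_1 lc_g_rc_6_1 lc_g_rc_17_1 lc_g_rc_17_1 lc_g_rc_17_1 lc_g_Cert_tree lc_g_rc_21_1 lc_g_rc_17_1 lc_g_rc_6_3 lc_g_rc_6_1 lc_g_Cert_tree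 lc_g_rc_12_1 lc_g_rc_12_1 lc_g_rc_6_3 lc_g_rc_27_0 lc_g_rc_24_1 lc_g_rc_29_3 lc_g_rc_12_1 lc_g_Cert_tree lc_g_Cert_tree lc_g_rc_27_0 lc_g_rc_17_3 lc_g_rc_27_0 lc_g_rc_29_1 lc_g_rc_12_5 lc_g_rc_17_1 lc_g_rc_17_1 lc_g_Cert_tree lc_g_rc_17_1 lc_g_rc_17_1 lc_g_Cert_tree lc_g_Cert_tree lc_g_rc_6_3 lc_g_rc_27_0 lc_g_Cert_tree lc_g_Cert_tree) (@D3.rec (fun _ => (Cert rels S Gen.g)) lc_g_rc_27_0 lc_g_rc_27_0 lc_g_rc_12_3 lc_g_rc_29_3 lc_g_rc_27_0 lc_g_rc_12_3 lc_g_rc_6_1 lc_g_rc_17_1 lc_g_Cert_tree lc_g_rc_17_1 lc_g_rc_6_1 lc_g_rc_21_1 lc_g_rc_17_1 lc_g_Cert_tree lc_g_Cert_tree lc_g_Cert_tree lc_g_rc_27_0 lc_g_rc_21_1 lc_g_rc_17_3 lc_g_Cert_tree lc_g_rc_6_3 lc_g_rc_27_0 lc_g_rc_17_3 lc_g_rc_17_1 lc_g_rc_27_0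 lc_g_rc_17_1 lc_g_rc_27_0 lc_g_rc_29_3 lc_g_rc_21_1 lc_g_Cert_tree lc_g_Cert_tree lc_g_Cert_tree lc_g_rc_27_0 lc_g_rc_26_5 lc_g_rc_26_3 lc_g_Cert_tree lc_g_rc_27_0 lc_g_Cert_tree lc_g_Cert_tree lc_g_Cert_tree) (@D3.rec (fun _ => (Cert rels S Gen.g)) lc_g_rc_27_0 lc_g_rc_6_1 lc_g_Cert_tree lc_g_Cert_tree lc_g_rc_27_0 lc_g_Cert_tree lc_g_rc_6_3 lc_g_rc_27_0 lc_g_Cert_tree lc_g_Cert_tree lc_g_rc_27_0 lc_g_rc_27_0 lc_g_rc_29_3 lc_g_Cert_tree lc_g_rc_6_3 lc_g_rc_27_0 lc_g_Cert_tree lc_g_rc_27_0 lc_g_Cert_tree lc_g_rc_27_0 lc_g_rc_12_3 lc_g_rc_29_3 lc_g_rc_24_1 lc_g_rc_27_0 lc_g_Cert_tree lc_g_rc_12_3 lc_g_Cert_tree lc_g_rc_27_0 lc_g_rc_6_1 lc_g_Cert_tree lc_g_Cert_tree lc_g_rc_6_3 lc_g_rc_27_0 lc_g_Cert_tree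 lc_g_rc_6_3 lc_g_rc_27_0 lc_g_Cert_tree lc_g_rc_12_3 lc_g_Cert_tree lc_g_Cert_tree) (@D3.rec (fun _ => (Cert rels S Gen.g)) lc_g_Cert_tree lc_g_rc_27_0 lc_g_Cert_tree lc_g_rc_27_0 lc_g_Cert_tree lc_g_rc_27_0 lc_g_rc_12_3 lc_g_rc_6_1 lc_g_rc_29_1 lc_g_rc_27_0 lc_g_rc_12_3 lc_g_rc_29_3 lc_g_rc_29_3 lc_g_Cert_tree lc_g_Cert_tree lc_g_rc_12_3 lc_g_Cert_tree lc_g_Cert_tree lc_g_rc_27_0 lc_g_rc_17_3 lc_g_rc_29_1 lc_g_Cert_tree lc_g_Cert_tree lc_g_rc_27_0 lc_g_rc_6_1 lc_g_Cert_tree lc_g_rc_29_1 lc_g_rc_27_0 lc_g_Cert_tree lc_g_rc_12_3 lc_g_rc_29_1 lc_g_Cert_tree lc_g_rc_27_0 lc_g_rc_12_3 lc_g_rc_29_3 lc_g_rc_17_1 lc_g_rc_29_3 lc_g_Cert_tree lc_g_Cert_tree lc_g_rc_27_0) (@D3.rec (fun _ => (Cert rels S Gen.g))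 lc_g_rc_12_3 lc_g_rc_24_1 lc_g_Cert_tree lc_g_Cert_tree lc_g_rc_27_0 lc_g_rc_12_3 lc_g_rc_6_1 lc_g_rc_17_1 lc_g_Cert_tree lc_g_Cert_tree lc_g_Cert_tree lc_g_Cert_tree lc_g_rc_27_0 lc_g_Cert_tree lc_g_rc_27_0 lc_g_rc_12_3 lc_g_rc_6_1 lc_g_rc_6_1 lc_g_rc_17_1 lc_g_Cert_tree lc_g_Cert_tree lc_g_rc_6_1 lc_g_rc_29_1 lc_g_rc_21_1 lc_g_Cert_tree lc_g_Cert_tree lc_g_rc_27_0 lc_g_Cert_tree lc_g_Cert_tree lc_g_rc_27_0 lc_g_rc_21_1 lc_g_rc_29_1 lc_g_rc_21_1 lc_g_rc_24_1 lc_g_rc_24_1 lc_g_rc_21_1 lc_g_rc_29_1 lc_g_rc_17_1 lc_g_rc_29_3 lc_g_rc_17_1) (@D3.rec (fun _ => (Cert rels S Gen.g)) lc_g_Cert_tree lc_g_rc_21_1 lc_g_Cert_tree lc_g_rc_31_5 lc_g_rc_27_0 lc_g_rc_26_3 lc_g_rc_21_3 lc_g_rc_17_1 lc_g_rc_29_1 lc_g_Cert_tree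 lc_g_rc_27_0 lc_g_rc_12_3 lc_g_rc_29_3 lc_g_rc_17_1 lc_g_rc_29_3 lc_g_Cert_tree lc_g_Cert_tree lc_g_rc_29_1 lc_g_Cert_tree lc_g_rc_27_0 lc_g_rc_12_3 lc_g_rc_6_1 lc_g_rc_17_1 lc_g_Cert_tree lc_g_rc_12_3 lc_g_rc_29_3 lc_g_rc_21_1 lc_g_rc_29_3 lc_g_Cert_tree lc_g_Cert_tree lc_g_Cert_tree lc_g_rc_27_0 lc_g_Cert_tree lc_g_rc_12_3 lc_g_Cert_tree lc_g_Cert_tree lc_g_rc_27_0 lc_g_rc_29_3 lc_g_rc_29_1 lc_g_rc_29_3) (@D3.rec (fun _ => (Cert rels S Gen.g)) lc_g_Cert_tree lc_g_Cert_tree lc_g_rc_27_0 lc_g_rc_12_3 lc_g_rc_29_3 lc_g_rc_17_1 lc_g_rc_29_3 lc_g_Cert_tree lc_g_rc_6_1 lc_g_Cert_tree lc_g_rc_27_0 lc_g_Cert_tree lc_g_rc_27_0 lc_g_rc_12_3 lc_g_rc_6_1 lc_g_rc_6_1 lc_g_rc_17_1 lc_g_Cert_tree lc_g_rc_12_1 lc_g_rc_17_1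 lc_g_rc_29_1 lc_g_rc_6_1 lc_g_Cert_tree lc_g_Cert_tree lc_g_rc_27_0 lc_g_Cert_tree lc_g_Cert_tree lc_g_rc_27_0 lc_g_rc_27_1 lc_g_Cert_tree lc_g_Cert_tree lc_g_rc_27_0 lc_g_rc_17_3 lc_g_Cert_tree lc_g_rc_27_0 lc_g_rc_12_3 lc_g_Cert_tree lc_g_Cert_tree lc_g_rc_27_0 lc_g_rc_6_1) (@D3.rec (fun _ => (Cert rels S Gen.g)) lc_g_rc_29_3 lc_g_rc_17_1 lc_g_rc_29_3 lc_g_Cert_tree lc_g_Cert_tree lc_g_rc_6_1 lc_g_rc_29_1 lc_g_rc_21_1 lc_g_Cert_tree lc_g_rc_27_0 lc_g_Cert_tree lc_g_rc_29_3 lc_g_Cert_tree lc_g_rc_27_0 lc_g_rc_6_1 lc_g_rc_6_1 lc_g_rc_29_1 lc_g_Cert_tree lc_g_rc_12_3 lc_g_rc_24_1 lc_g_Cert_tree lc_g_rc_27_0 lc_g_rc_29_1 lc_g_Cert_tree lc_g_rc_27_0 lc_g_rc_12_3 lc_g_Cert_tree lc_g_Cert_tree lc_g_rc_27_0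 lc_g_Cert_tree lc_g_rc_27_0 lc_g_rc_6_1 lc_g_rc_24_3 lc_g_rc_17_1 lc_g_Cert_tree lc_g_rc_29_1 lc_g_rc_17_1 lc_g_rc_24_1 lc_g_rc_24_3 lc_g_rc_6_1) (@D3.rec (fun _ => (Cert rels S Gen.g)) lc_g_Cert_tree lc_g_rc_21_1 lc_g_rc_17_1 lc_g_rc_24_1 lc_g_Cert_tree lc_g_Cert_tree lc_g_rc_6_3 lc_g_Cert_tree lc_g_rc_27_0 lc_g_rc_17_1 lc_g_rc_21_1 lc_g_Cert_tree lc_g_rc_17_3 lc_g_rc_17_1 lc_g_Cert_tree lc_g_rc_17_1 lc_g_rc_17_1 lc_g_rc_27_0 lc_g_rc_24_1 lc_g_rc_21_1 lc_g_Cert_tree lc_g_rc_17_1 lc_g_rc_6_3 lc_g_rc_27_0 lc_g_Cert_tree lc_g_rc_27_0 lc_g_Cert_tree lc_g_rc_27_0 lc_g_rc_12_3 lc_g_rc_29_3 lc_g_Cert_tree lc_g_rc_6_3 lc_g_rc_27_0 lc_g_Cert_tree lc_g_rc_12_3 lc_g_Cert_tree lc_g_Cert_tree lc_g_rc_27_0 lc_g_rc_24_1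 lc_g_rc_24_1) (@D3.rec (fun _ => (Cert rels S Gen.g)) lc_g_rc_12_5 lc_g_Cert_tree lc_g_rc_27_0 lc_g_rc_12_3 lc_g_rc_6_1 lc_g_rc_29_1 lc_g_Cert_tree lc_g_rc_27_0 lc_g_rc_12_3 lc_g_rc_29_3 lc_g_rc_17_1 lc_g_rc_29_3 lc_g_Cert_tree lc_g_Cert_tree lc_g_rc_29_1 lc_g_Cert_tree lc_g_rc_27_0 lc_g_rc_12_3 lc_g_rc_6_1 lc_g_rc_17_1 lc_g_Cert_tree lc_g_Cert_tree lc_g_rc_29_3 lc_g_rc_21_1 lc_g_rc_29_3 lc_g_Cert_tree lc_g_Cert_tree lc_g_Cert_tree lc_g_rc_27_0 lc_g_Cert_tree lc_g_Cert_tree lc_g_rc_27_0 lc_g_Cert_tree lc_g_rc_27_0 lc_g_rc_6_1 lc_g_Cert_tree lc_g_rc_6_1 lc_g_rc_29_1 lc_g_rc_21_1 lc_g_Cert_tree) (@D3.rec (fun _ => (Cert rels S Gen.g)) lc_g_rc_27_0 lc_g_Cert_tree lc_g_Cert_tree lc_g_rc_27_0 lc_g_Cert_tree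 lc_g_Cert_tree lc_g_rc_27_0 lc_g_rc_12_3 lc_g_Cert_tree lc_g_Cert_tree lc_g_rc_27_0 lc_g_rc_12_3 lc_g_rc_6_1 lc_g_Cert_tree lc_g_Cert_tree lc_g_Cert_tree lc_g_rc_27_0 lc_g_Cert_tree lc_g_rc_6_1 lc_g_rc_29_1 lc_g_Cert_tree lc_g_rc_17_1 lc_g_rc_24_1 lc_g_Cert_tree lc_g_Cert_tree lc_g_rc_27_0 lc_g_rc_12_3 lc_g_Cert_tree lc_g_Cert_tree lc_g_Cert_tree lc_g_rc_27_0 lc_g_rc_6_3 lc_g_rc_12_3 lc_g_rc_27_0 lc_g_rc_12_3 lc_g_rc_6_1 lc_g_Cert_tree lc_g_Cert_tree lc_g_Cert_tree lc_g_Cert_tree) (@D3.rec (fun _ => (Cert rels S Gen.g)) lc_g_rc_27_0 lc_g_rc_6_1 lc_g_Cert_tree lc_g_rc_21_1 lc_g_Cert_tree lc_g_Cert_tree lc_g_rc_27_0 lc_g_Cert_tree lc_g_Cert_tree lc_g_Cert_tree lc_g_rc_27_0 lc_g_rc_6_3 lc_g_Cert_tree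 lc_g_Cert_tree lc_g_Cert_tree lc_g_rc_27_0 lc_g_rc_6_1 lc_g_Cert_tree lc_g_rc_12_3 lc_g_Cert_tree lc_g_rc_27_0 lc_g_rc_12_3 lc_g_rc_6_1 lc_g_rc_27_0 lc_g_rc_12_3 lc_g_rc_29_3 lc_g_rc_6_1 lc_g_Cert_tree lc_g_rc_27_0 lc_g_rc_27_0 lc_g_rc_6_1 lc_g_rc_29_1 lc_g_rc_12_1 lc_g_rc_29_1 lc_g_Cert_tree lc_g_Cert_tree lc_g_rc_27_0 lc_g_Cert_tree lc_g_rc_29_1 lc_g_Cert_tree) (@D3.rec (fun _ => (Cert rels S Gen.g)) lc_g_Cert_tree lc_g_rc_27_0 lc_g_rc_12_3 lc_g_rc_29_3 lc_g_rc_17_1 lc_g_rc_29_3 lc_g_rc_26_5 lc_g_rc_6_1 lc_g_rc_29_1 lc_g_rc_21_1 lc_g_Cert_tree lc_g_rc_27_0 lc_g_rc_6_3 lc_g_Cert_tree lc_g_Cert_tree lc_g_rc_27_0 lc_g_Cert_tree lc_g_rc_29_3 lc_g_rc_17_1 lc_g_rc_24_1 lc_g_rc_29_3 lc_g_Cert_tree lc_g_rc_29_1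 lc_g_Cert_tree lc_g_rc_27_0 lc_g_rc_12_1 lc_g_Cert_tree lc_g_rc_27_0 lc_g_Cert_tree lc_g_rc_27_0 lc_g_rc_6_1 lc_g_rc_6_3 lc_g_rc_27_0 lc_g_rc_27_0 lc_g_rc_12_3 lc_g_rc_29_3 lc_g_Cert_tree lc_g_rc_6_3 lc_g_rc_27_0 lc_g_Cert_tree) (@D3.rec (fun _ => (Cert rels S Gen.g)) lc_g_rc_27_0 lc_g_rc_12_3 lc_g_rc_29_1 lc_g_rc_17_1 lc_g_rc_12_1 lc_g_Cert_tree lc_g_Cert_tree lc_g_rc_27_0 lc_g_rc_27_0 lc_g_rc_12_3 lc_g_rc_6_1 lc_g_rc_29_3 lc_g_rc_29_3 lc_g_Cert_tree lc_g_rc_6_3 lc_g_Cert_tree lc_g_rc_27_0 lc_g_rc_6_3 lc_g_rc_27_0 lc_g_rc_6_1 lc_g_rc_27_0 lc_g_rc_29_3 lc_g_rc_6_1 lc_g_rc_6_3 lc_g_rc_27_0 lc_g_rc_6_1 lc_g_rc_29_1 lc_g_Cert_tree lc_g_rc_26_3 lc_g_Cert_tree lc_g_rc_27_0 lc_g_rc_24_3 lc_g_rc_17_1 lc_g_Cert_tree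 lc_g_Cert_tree lc_g_rc_17_1 lc_g_rc_27_0 lc_g_rc_29_1 lc_g_rc_27_0 lc_g_rc_12_3) (@D3.rec (fun _ => (Cert rels S Gen.g)) lc_g_rc_6_1 lc_g_rc_17_1 lc_g_Cert_tree lc_g_Cert_tree lc_g_Cert_tree lc_g_rc_6_3 lc_g_rc_27_0 lc_g_Cert_tree lc_g_Cert_tree lc_g_Cert_tree lc_g_rc_27_0 lc_g_rc_27_0 lc_g_rc_12_3 lc_g_rc_29_3 lc_g_rc_27_0 lc_g_rc_12_3 lc_g_rc_6_1 lc_g_Cert_tree lc_g_rc_6_3 lc_g_rc_29_1 lc_g_rc_17_1 lc_g_rc_27_0 lc_g_Cert_tree lc_g_rc_27_0 lc_g_rc_12_3 lc_g_rc_12_3 lc_g_rc_6_1 lc_g_rc_17_1 lc_g_Cert_tree lc_g_Cert_tree lc_g_rc_29_1 lc_g_rc_27_0 lc_g_rc_21_1 lc_g_Cert_tree lc_g_rc_6_3 lc_g_rc_27_0 lc_g_rc_12_1 lc_g_Cert_tree lc_g_Cert_tree lc_g_rc_27_0) (@D3.rec (fun _ => (Cert rels S Gen.g)) lc_g_Cert_tree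 lc_g_rc_27_0 lc_g_rc_29_3 lc_g_rc_17_1 lc_g_rc_6_3 lc_g_Cert_tree lc_g_rc_27_0 lc_g_rc_17_3 lc_g_rc_6_1 lc_g_rc_6_1 lc_g_rc_21_1 lc_g_rc_29_3 lc_g_Cert_tree lc_g_Cert_tree lc_g_rc_6_3 lc_g_rc_21_1 lc_g_rc_27_0 lc_g_Cert_tree lc_g_rc_27_0 lc_g_rc_6_1 lc_g_Cert_tree lc_g_rc_12_5 lc_g_rc_27_0 lc_g_rc_12_3 lc_g_Cert_tree lc_g_Cert_tree lc_g_Cert_tree lc_g_rc_6_3 lc_g_rc_27_0 lc_g_Cert_tree lc_g_Cert_tree lc_g_rc_27_0 lc_g_Cert_tree lc_g_Cert_tree lc_g_rc_27_0 lc_g_rc_27_0 lc_g_rc_12_3 lc_g_rc_29_3 lc_g_Cert_tree lc_g_rc_27_0) (@D3.rec (fun _ => (Cert rels S Gen.g)) lc_g_rc_12_3 lc_g_rc_6_3 lc_g_rc_27_0 lc_g_rc_12_3 lc_g_rc_6_1 lc_g_rc_17_1 lc_g_Cert_tree lc_g_rc_17_1 lc_g_rc_6_1 lc_g_rc_21_1 lc_g_rc_6_1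 lc_g_rc_21_1 lc_g_rc_6_1 lc_g_Cert_tree lc_g_Cert_tree lc_g_rc_6_3 lc_g_rc_17_1 lc_g_rc_6_3 lc_g_rc_27_0 lc_g_Cert_tree lc_g_rc_6_3 lc_g_rc_27_0 lc_g_Cert_tree lc_g_Cert_tree lc_g_rc_27_0 lc_g_Cert_tree lc_g_rc_27_0 lc_g_rc_29_3 lc_g_rc_24_1 lc_g_rc_6_1 lc_g_Cert_tree lc_g_rc_17_1 lc_g_rc_21_1 lc_g_Cert_tree lc_g_rc_12_3 lc_g_Cert_tree lc_g_rc_27_0 lc_g_rc_6_3 lc_g_rc_6_1 lc_g_rc_21_1) (@D3.rec (fun _ => (Cert rels S Gen.g)) lc_g_Cert_tree lc_g_rc_27_0 lc_g_rc_27_0 lc_g_rc_27_0 lc_g_Cert_tree lc_g_Cert_tree lc_g_Cert_tree lc_g_Cert_tree lc_g_rc_27_0 lc_g_rc_27_0 lc_g_rc_12_3 lc_g_rc_6_3 lc_g_rc_27_0 lc_g_rc_27_0 lc_g_rc_12_3 lc_g_rc_12_3 lc_g_rc_29_3 lc_g_rc_17_1 lc_g_rc_29_3 lc_g_rc_12_3 lc_g_rc_27_0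 lc_g_rc_12_3 lc_g_rc_6_1 lc_g_rc_17_1 lc_g_rc_12_1 lc_g_Cert_tree lc_g_Cert_tree lc_g_rc_6_1 lc_g_rc_29_1 lc_g_rc_21_1 lc_g_rc_6_3 lc_g_Cert_tree lc_g_rc_27_0 lc_g_Cert_tree lc_g_rc_17_3 lc_g_rc_27_0 lc_g_rc_29_1 lc_g_rc_21_1 lc_g_rc_27_0 lc_g_Cert_tree) (@D3.rec (fun _ => (Cert rels S Gen.g)) lc_g_rc_6_1 lc_g_rc_17_1 lc_g_rc_24_1 lc_g_rc_17_1 lc_g_Cert_tree lc_g_rc_12_1 lc_g_rc_29_3 lc_g_rc_27_1 lc_g_rc_6_1 lc_g_rc_29_3 lc_g_rc_17_1 lc_g_rc_6_1 lc_g_rc_17_1 lc_g_Cert_tree lc_g_rc_27_0 lc_g_rc_29_1 lc_g_Cert_tree lc_g_rc_17_1 lc_g_rc_24_1 lc_g_Cert_tree lc_g_rc_29_3 lc_g_rc_29_1 lc_g_Cert_tree lc_g_rc_27_0 lc_g_rc_12_3 lc_g_Cert_tree lc_g_rc_29_1 lc_g_Cert_tree lc_g_Cert_tree lc_g_Cert_tree lc_g_rc_27_0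 lc_g_rc_12_3 lc_g_Cert_tree lc_g_Cert_tree lc_g_rc_27_0 lc_g_rc_17_1 lc_g_rc_27_0 lc_g_rc_12_3 lc_g_rc_6_1 lc_g_rc_6_1) (@D3.rec (fun _ => (Cert rels S Gen.g)) lc_g_rc_17_1 lc_g_Cert_tree lc_g_rc_17_1 lc_g_rc_17_3 lc_g_rc_29_3 lc_g_Cert_tree lc_g_rc_29_1 lc_g_rc_17_3 lc_g_Cert_tree lc_g_rc_27_0 lc_g_rc_12_3 lc_g_rc_12_5 lc_g_Cert_tree lc_g_rc_17_1 lc_g_Cert_tree lc_g_Cert_tree lc_g_Cert_tree lc_g_rc_27_0 lc_g_Cert_tree lc_g_rc_27_0 lc_g_rc_12_3 lc_g_Cert_tree lc_g_rc_27_0 lc_g_Cert_tree lc_g_rc_6_3 lc_g_rc_27_0 lc_g_rc_27_0 lc_g_rc_29_3 lc_g_rc_29_3 lc_g_rc_21_1 lc_g_rc_12_3 lc_g_Cert_tree lc_g_Cert_tree lc_g_rc_27_0 lc_g_rc_24_1 lc_g_rc_29_3 lc_g_rc_17_1 lc_g_rc_17_3 lc_g_Cert_tree lc_g_rc_29_3) (@D3.rec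 (fun _ => (Cert rels S Gen.g)) lc_g_rc_6_3 lc_g_rc_27_0 lc_g_rc_27_0 lc_g_rc_29_3 lc_g_rc_21_3 lc_g_rc_6_3 lc_g_rc_27_0 lc_g_Cert_tree lc_g_rc_12_3 lc_g_rc_6_1 lc_g_Cert_tree lc_g_rc_27_0 lc_g_Cert_tree lc_g_rc_27_0 lc_g_rc_12_3 lc_g_rc_6_1 lc_g_Cert_tree lc_g_rc_27_0 lc_g_rc_12_3 lc_g_rc_29_3 lc_g_rc_29_1 lc_g_Cert_tree lc_g_rc_27_0 lc_g_rc_12_3 lc_g_rc_29_3 lc_g_rc_17_1 lc_g_rc_29_3 lc_g_Cert_tree lc_g_Cert_tree lc_g_Cert_tree lc_g_Cert_tree lc_g_rc_27_0 lc_g_rc_6_3 lc_g_rc_27_0 lc_g_Cert_tree lc_g_rc_12_3 lc_g_Cert_tree lc_g_Cert_tree lc_g_rc_27_0 lc_g_rc_6_1)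
def ce_g_4 : D2 → D3 → (Cert rels S Gen.g) := @D2.rec (fun _ => D3 → (Cert rels S Gen.g)) (@D3.rec (fun _ => (Cert rels S Gen.g)) lc_g_rc_17_1 lc_g_Cert_tree lc_g_Cert_tree lc_g_Cert_tree lc_g_rc_27_0 lc_g_Cert_tree lc_g_rc_27_0 lc_g_rc_6_1 lc_g_Cert_tree lc_g_rc_6_1 lc_g_rc_29_1 lc_g_rc_21_1 lc_g_Cert_tree lc_g_rc_27_0 lc_g_rc_12_5 lc_g_rc_27_0 lc_g_rc_12_3 lc_g_rc_6_1 lc_g_Cert_tree lc_g_rc_27_0 lc_g_rc_12_3 lc_g_rc_12_3 lc_g_rc_12_5 lc_g_rc_29_3 lc_g_Cert_tree lc_g_rc_29_1 lc_g_Cert_tree lc_g_rc_27_0 lc_g_rc_12_3 lc_g_rc_6_1 lc_g_rc_17_1 lc_g_Cert_tree lc_g_Cert_tree lc_g_rc_29_3 lc_g_rc_21_1 lc_g_rc_29_3 lc_g_Cert_tree lc_g_Cert_tree lc_g_Cert_tree lc_g_rc_27_0) (@D3.rec (fun _ => (Cert rels S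 Gen.g)) lc_g_Cert_tree lc_g_rc_27_0 lc_g_Cert_tree lc_g_rc_29_1 lc_g_Cert_tree lc_g_Cert_tree lc_g_rc_27_0 lc_g_rc_12_3 lc_g_rc_29_3 lc_g_rc_17_1 lc_g_rc_29_3 lc_g_Cert_tree lc_g_rc_6_1 lc_g_rc_29_1 lc_g_rc_21_1 lc_g_Cert_tree lc_g_rc_27_0 lc_g_Cert_tree lc_g_rc_27_0 lc_g_Cert_tree lc_g_rc_29_3 lc_g_rc_17_1 lc_g_rc_24_1 lc_g_rc_29_3 lc_g_Cert_tree lc_g_rc_29_1 lc_g_Cert_tree lc_g_rc_27_0 lc_g_rc_12_5 lc_g_Cert_tree lc_g_rc_27_0 lc_g_Cert_tree lc_g_rc_27_0 lc_g_rc_6_1 lc_g_Cert_tree lc_g_rc_27_0 lc_g_Cert_tree lc_g_Cert_tree lc_g_rc_27_0 lc_g_rc_12_3) (@D3.rec (fun _ => (Cert rels S Gen.g)) lc_g_Cert_tree lc_g_Cert_tree lc_g_rc_27_0 lc_g_rc_12_3 lc_g_rc_6_1 lc_g_rc_29_3 lc_g_rc_17_1 lc_g_rc_29_3 lc_g_Cert_tree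 lc_g_Cert_tree lc_g_rc_6_1 lc_g_rc_29_1 lc_g_rc_21_1 lc_g_Cert_tree lc_g_rc_27_0 lc_g_Cert_tree lc_g_rc_27_0 lc_g_Cert_tree lc_g_rc_17_3 lc_g_rc_29_1 lc_g_Cert_tree lc_g_rc_17_1 lc_g_rc_24_1 lc_g_Cert_tree lc_g_Cert_tree lc_g_rc_27_0 lc_g_rc_29_1 lc_g_Cert_tree lc_g_rc_27_0 lc_g_rc_12_3 lc_g_Cert_tree lc_g_Cert_tree lc_g_rc_27_0 lc_g_Cert_tree lc_g_rc_27_0 lc_g_rc_6_1 lc_g_rc_6_3 lc_g_rc_27_0 lc_g_Cert_tree lc_g_Cert_tree) (@D3.rec (fun _ => (Cert rels S Gen.g)) lc_g_Cert_tree lc_g_rc_27_0 lc_g_rc_27_0 lc_g_rc_12_3 lc_g_rc_29_3 lc_g_Cert_tree lc_g_Cert_tree lc_g_Cert_tree lc_g_rc_27_0 lc_g_Cert_tree lc_g_Cert_tree lc_g_rc_27_0 lc_g_rc_12_3 lc_g_rc_6_1 lc_g_rc_17_1 lc_g_rc_12_1 lc_g_Cert_tree lc_g_Cert_tree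 lc_g_Cert_tree lc_g_rc_27_0 lc_g_rc_27_0 lc_g_rc_21_1 lc_g_rc_6_1 lc_g_rc_29_3 lc_g_rc_29_3 lc_g_Cert_tree lc_g_Cert_tree lc_g_rc_29_3 lc_g_rc_21_1 lc_g_rc_29_3 lc_g_Cert_tree lc_g_Cert_tree lc_g_Cert_tree lc_g_rc_27_0 lc_g_Cert_tree lc_g_Cert_tree lc_g_rc_12_1 lc_g_rc_27_0 lc_g_Cert_tree lc_g_rc_6_1) (@D3.rec (fun _ => (Cert rels S Gen.g)) lc_g_rc_29_1 lc_g_rc_6_1 lc_g_rc_17_1 lc_g_rc_24_1 lc_g_Cert_tree lc_g_rc_27_0 lc_g_rc_12_3 lc_g_rc_6_3 lc_g_rc_27_0 lc_g_rc_29_1 lc_g_Cert_tree lc_g_Cert_tree lc_g_rc_27_0 lc_g_Cert_tree lc_g_rc_27_0 lc_g_rc_29_3 lc_g_Cert_tree lc_g_Cert_tree lc_g_Cert_tree lc_g_rc_27_0 lc_g_rc_17_1 lc_g_rc_6_1 lc_g_rc_29_1 lc_g_Cert_tree lc_g_rc_29_1 lc_g_Cert_tree lc_g_rc_27_0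 lc_g_Cert_tree lc_g_rc_21_1 lc_g_rc_24_1 lc_g_Cert_tree lc_g_Cert_tree lc_g_Cert_tree lc_g_rc_27_0 lc_g_rc_29_1 lc_g_rc_27_0 lc_g_rc_12_3 lc_g_Cert_tree lc_g_rc_29_1 lc_g_Cert_tree) (@D3.rec (fun _ => (Cert rels S Gen.g)) lc_g_rc_27_0 lc_g_rc_12_3 lc_g_rc_6_1 lc_g_rc_17_1 lc_g_Cert_tree lc_g_Cert_tree lc_g_Cert_tree lc_g_Cert_tree lc_g_rc_27_0 lc_g_Cert_tree lc_g_Cert_tree lc_g_rc_27_0 lc_g_rc_12_3 lc_g_Cert_tree lc_g_Cert_tree lc_g_rc_27_0 lc_g_rc_6_1 lc_g_Cert_tree lc_g_rc_6_1 lc_g_rc_21_3 lc_g_Cert_tree lc_g_Cert_tree lc_g_rc_29_1 lc_g_rc_27_0 lc_g_rc_29_1 lc_g_Cert_tree lc_g_rc_21_1 lc_g_Cert_tree lc_g_Cert_tree lc_g_Cert_tree lc_g_rc_27_0 lc_g_rc_29_1 lc_g_Cert_tree lc_g_rc_6_1 lc_g_Cert_tree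 lc_g_Cert_tree lc_g_rc_27_0 lc_g_rc_12_1 lc_g_rc_27_0 lc_g_rc_6_1) (@D3.rec (fun _ => (Cert rels S Gen.g)) lc_g_rc_29_3 lc_g_Cert_tree lc_g_rc_29_3 lc_g_Cert_tree lc_g_Cert_tree lc_g_Cert_tree lc_g_rc_27_0 lc_g_rc_6_1 lc_g_Cert_tree lc_g_rc_6_1 lc_g_rc_6_3 lc_g_rc_29_1 lc_g_rc_17_1 lc_g_rc_31_5 lc_g_rc_29_1 lc_g_rc_17_1 lc_g_Cert_tree lc_g_rc_24_3 lc_g_rc_6_3 lc_g_rc_27_0 lc_g_Cert_tree lc_g_rc_12_3 lc_g_rc_6_3 lc_g_Cert_tree lc_g_rc_27_0 lc_g_rc_12_3 lc_g_rc_17_1 lc_g_rc_12_1 lc_g_rc_12_1 lc_g_Cert_tree lc_g_Cert_tree lc_g_Cert_tree lc_g_rc_27_0 lc_g_Cert_tree lc_g_rc_27_0 lc_g_Cert_tree lc_g_rc_27_0 lc_g_rc_12_3 lc_g_rc_6_1 lc_g_Cert_tree) (@D3.rec (fun _ => (Cert rels S Gen.g)) lc_g_rc_27_0 lc_g_rc_12_3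 lc_g_rc_12_3 lc_g_rc_31_2 lc_g_rc_17_3 lc_g_rc_12_3 lc_g_rc_29_1 lc_g_Cert_tree lc_g_rc_27_0 lc_g_rc_12_3 lc_g_rc_12_1 lc_g_rc_17_1 lc_g_Cert_tree lc_g_rc_12_3 lc_g_rc_29_3 lc_g_rc_21_1 lc_g_rc_29_3 lc_g_rc_31_8 lc_g_rc_29_1 lc_g_Cert_tree lc_g_rc_27_0 lc_g_rc_6_3 lc_g_Cert_tree lc_g_rc_29_3 lc_g_rc_27_0 lc_g_Cert_tree lc_g_Cert_tree lc_g_rc_27_0 lc_g_rc_26_5 lc_g_Cert_tree lc_g_rc_27_0 lc_g_rc_12_3 lc_g_rc_6_1 lc_g_rc_29_1 lc_g_rc_26_7 lc_g_rc_12_3 lc_g_rc_27_0 lc_g_rc_12_1 lc_g_rc_6_1 lc_g_rc_29_1) (@D3.rec (fun _ => (Cert rels S Gen.g)) lc_g_rc_27_0 lc_g_rc_24_1 lc_g_Cert_tree lc_g_Cert_tree lc_g_rc_27_0 lc_g_rc_27_0 lc_g_Cert_tree lc_g_rc_27_0 lc_g_rc_27_0 lc_g_rc_6_1 lc_g_Cert_tree lc_g_Cert_tree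 lc_g_Cert_tree lc_g_rc_27_0 lc_g_rc_17_1 lc_g_rc_29_1 lc_g_rc_24_1 lc_g_rc_29_1 lc_g_rc_21_1 lc_g_rc_27_0 lc_g_rc_27_0 lc_g_rc_12_3 lc_g_rc_17_1 lc_g_rc_21_3 lc_g_Cert_tree lc_g_rc_29_3 lc_g_rc_21_1 lc_g_rc_29_3 lc_g_rc_29_1 lc_g_rc_27_1 lc_g_rc_27_0 lc_g_Cert_tree lc_g_rc_6_1 lc_g_rc_29_1 lc_g_rc_17_1 lc_g_rc_24_1 lc_g_Cert_tree lc_g_Cert_tree lc_g_rc_27_0 lc_g_rc_6_1) (@D3.rec (fun _ => (Cert rels S Gen.g)) lc_g_rc_6_3 lc_g_rc_12_1 lc_g_rc_17_3 lc_g_rc_27_0 lc_g_rc_29_3 lc_g_Cert_tree lc_g_Cert_tree lc_g_Cert_tree lc_g_rc_27_0 lc_g_rc_17_1 lc_g_rc_29_3 lc_g_rc_12_3 lc_g_rc_21_1 lc_g_rc_17_1 lc_g_rc_6_1 lc_g_rc_29_3 lc_g_Cert_tree lc_g_Cert_tree lc_g_rc_27_0 lc_g_rc_12_3 lc_g_rc_29_1 lc_g_Cert_tree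 lc_g_rc_27_0 lc_g_rc_29_1 lc_g_rc_17_1 lc_g_rc_29_3 lc_g_Cert_tree lc_g_Cert_tree lc_g_rc_27_0 lc_g_Cert_tree lc_g_Cert_tree lc_g_rc_27_0 lc_g_rc_12_3 lc_g_rc_6_1 lc_g_rc_31_8 lc_g_rc_12_3 lc_g_rc_12_3 lc_g_rc_27_0 lc_g_Cert_tree lc_g_rc_27_0) (@D3.rec (fun _ => (Cert rels S Gen.g)) lc_g_rc_27_0 lc_g_rc_12_3 lc_g_rc_17_1 lc_g_rc_6_3 lc_g_rc_6_1 lc_g_rc_17_1 lc_g_rc_29_3 lc_g_rc_29_3 lc_g_Cert_tree lc_g_rc_6_3 lc_g_rc_27_0 lc_g_Cert_tree lc_g_Cert_tree lc_g_Cert_tree lc_g_rc_27_0 lc_g_rc_27_0 lc_g_rc_12_3 lc_g_rc_29_3 lc_g_rc_24_1 lc_g_Cert_tree lc_g_rc_27_0 lc_g_rc_27_0 lc_g_rc_12_3 lc_g_rc_6_1 lc_g_rc_17_1 lc_g_Cert_tree lc_g_rc_12_1 lc_g_rc_6_1 lc_g_rc_29_1 lc_g_rc_21_1 lc_g_rc_17_1 lc_g_Cert_tree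 lc_g_rc_27_0 lc_g_Cert_tree lc_g_rc_27_0 lc_g_rc_12_3 lc_g_rc_17_1 lc_g_rc_12_3 lc_g_rc_6_1 lc_g_rc_6_1) (@D3.rec (fun _ => (Cert rels S Gen.g)) lc_g_rc_17_1 lc_g_rc_6_1 lc_g_Cert_tree lc_g_Cert_tree lc_g_rc_29_3 lc_g_rc_12_3 lc_g_rc_29_3 lc_g_rc_12_3 lc_g_Cert_tree lc_g_Cert_tree lc_g_rc_27_0 lc_g_rc_29_1 lc_g_Cert_tree lc_g_rc_12_1 lc_g_rc_27_0 lc_g_Cert_tree lc_g_rc_29_3 lc_g_rc_17_1 lc_g_rc_24_1 lc_g_rc_29_3 lc_g_Cert_tree lc_g_rc_29_1 lc_g_Cert_tree lc_g_rc_27_0 lc_g_Cert_tree lc_g_rc_27_0 lc_g_Cert_tree lc_g_rc_27_0 lc_g_rc_6_1 lc_g_Cert_tree lc_g_rc_27_1 lc_g_rc_27_0 lc_g_Cert_tree lc_g_rc_17_1 lc_g_rc_27_1 lc_g_rc_27_0 lc_g_rc_27_0 lc_g_rc_29_3 lc_g_Cert_tree lc_g_Cert_tree) (@D3.rec (fun _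 => (Cert rels S Gen.g)) lc_g_Cert_tree lc_g_rc_27_0 lc_g_rc_17_1 lc_g_rc_6_1 lc_g_rc_29_1 lc_g_Cert_tree lc_g_rc_6_1 lc_g_Cert_tree lc_g_rc_21_1 lc_g_rc_17_1 lc_g_Cert_tree lc_g_Cert_tree lc_g_rc_27_0 lc_g_rc_12_3 lc_g_rc_6_1 lc_g_rc_17_1 lc_g_rc_27_0 lc_g_rc_29_3 lc_g_rc_6_1 lc_g_Cert_tree lc_g_rc_12_1 lc_g_Cert_tree lc_g_Cert_tree lc_g_rc_27_0 lc_g_rc_17_1 lc_g_rc_26_3 lc_g_Cert_tree lc_g_rc_27_0 lc_g_rc_6_1 lc_g_Cert_tree lc_g_rc_6_3 lc_g_rc_27_0 lc_g_Cert_tree lc_g_Cert_tree lc_g_Cert_tree lc_g_rc_27_0 lc_g_rc_6_3 lc_g_rc_27_0 lc_g_rc_29_3 lc_g_rc_24_1) (@D3.rec (fun _ => (Cert rels S Gen.g)) lc_g_rc_17_1 lc_g_rc_6_3 lc_g_rc_29_1 lc_g_Cert_tree lc_g_Cert_tree lc_g_Cert_tree lc_g_rc_27_0 lc_g_rc_12_1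 lc_g_rc_29_1 lc_g_Cert_tree lc_g_rc_27_0 lc_g_rc_24_1 lc_g_rc_29_3 lc_g_rc_29_1 lc_g_Cert_tree lc_g_Cert_tree lc_g_rc_27_0 lc_g_Cert_tree lc_g_rc_27_0 lc_g_rc_6_3 lc_g_rc_6_1 lc_g_rc_27_0 lc_g_rc_12_3 lc_g_Cert_tree lc_g_rc_29_1 lc_g_rc_6_3 lc_g_rc_27_0 lc_g_rc_12_3 lc_g_rc_6_1 lc_g_rc_17_1 lc_g_Cert_tree lc_g_rc_29_1 lc_g_Cert_tree lc_g_rc_12_1 lc_g_rc_27_0 lc_g_Cert_tree lc_g_rc_29_1 lc_g_Cert_tree lc_g_Cert_tree lc_g_rc_27_0) (@D3.rec (fun _ => (Cert rels S Gen.g)) lc_g_rc_12_3 lc_g_rc_29_3 lc_g_rc_17_1 lc_g_rc_29_3 lc_g_rc_6_1 lc_g_rc_29_1 lc_g_rc_21_1 lc_g_Cert_tree lc_g_rc_27_0 lc_g_rc_17_3 lc_g_rc_26_3 lc_g_rc_27_0 lc_g_Cert_tree lc_g_rc_6_1 lc_g_rc_6_3 lc_g_rc_27_0 lc_g_rc_27_0 lc_g_rc_12_3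 lc_g_Cert_tree lc_g_Cert_tree lc_g_Cert_tree lc_g_rc_27_0 lc_g_Cert_tree lc_g_rc_27_0 lc_g_rc_12_3 lc_g_rc_17_1 lc_g_Cert_tree lc_g_Cert_tree lc_g_rc_27_0 lc_g_rc_27_0 lc_g_rc_6_1 lc_g_Cert_tree lc_g_rc_6_3 lc_g_Cert_tree lc_g_rc_27_0 lc_g_rc_6_1 lc_g_rc_17_1 lc_g_Cert_tree lc_g_rc_6_1 lc_g_Cert_tree) (@D3.rec (fun _ => (Cert rels S Gen.g)) lc_g_Cert_tree lc_g_rc_27_0 lc_g_Cert_tree lc_g_rc_6_1 lc_g_rc_29_1 lc_g_rc_17_1 lc_g_rc_12_3 lc_g_Cert_tree lc_g_rc_27_0 lc_g_rc_12_3 lc_g_Cert_tree lc_g_rc_29_1 lc_g_Cert_tree lc_g_Cert_tree lc_g_Cert_tree lc_g_rc_27_0 lc_g_rc_17_1 lc_g_rc_24_1 lc_g_Cert_tree lc_g_Cert_tree lc_g_rc_6_3 lc_g_rc_27_0 lc_g_Cert_tree lc_g_Cert_tree lc_g_Cert_tree lc_g_rc_27_0 lc_g_rc_27_0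 lc_g_rc_29_3 lc_g_Cert_tree lc_g_Cert_tree lc_g_Cert_tree lc_g_rc_27_0 lc_g_rc_21_1 lc_g_rc_12_5 lc_g_rc_21_1 lc_g_rc_21_1 lc_g_rc_6_1 lc_g_rc_17_3 lc_g_rc_6_3 lc_g_Cert_tree) (@D3.rec (fun _ => (Cert rels S Gen.g)) lc_g_rc_24_3 lc_g_rc_21_3 lc_g_rc_27_0 lc_g_rc_6_1 lc_g_Cert_tree lc_g_rc_27_0 lc_g_rc_6_1 lc_g_Cert_tree lc_g_Cert_tree lc_g_rc_29_3 lc_g_Cert_tree lc_g_Cert_tree lc_g_Cert_tree lc_g_rc_27_0 lc_g_rc_17_1 lc_g_rc_29_3 lc_g_Cert_tree lc_g_Cert_tree lc_g_rc_6_3 lc_g_rc_27_0 lc_g_rc_12_1 lc_g_Cert_tree lc_g_Cert_tree lc_g_rc_27_0 lc_g_rc_27_0 lc_g_rc_29_3 lc_g_Cert_tree lc_g_Cert_tree lc_g_Cert_tree lc_g_rc_27_0 lc_g_rc_21_1 lc_g_rc_29_1 lc_g_rc_12_1 lc_g_rc_27_0 lc_g_rc_17_1 lc_g_rc_17_1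 lc_g_Cert_tree lc_g_rc_17_1 lc_g_rc_17_1 lc_g_rc_6_3) (@D3.rec (fun _ => (Cert rels S Gen.g)) lc_g_Cert_tree lc_g_Cert_tree lc_g_rc_27_0 lc_g_Cert_tree lc_g_Cert_tree lc_g_Cert_tree lc_g_rc_27_0 lc_g_rc_21_1 lc_g_Cert_tree lc_g_Cert_tree lc_g_rc_29_1 lc_g_rc_26_3 lc_g_rc_27_0 lc_g_Cert_tree lc_g_Cert_tree lc_g_Cert_tree lc_g_rc_27_0 lc_g_rc_12_3 lc_g_rc_29_3 lc_g_rc_27_0 lc_g_rc_21_1 lc_g_rc_29_1 lc_g_rc_6_1 lc_g_rc_21_3 lc_g_rc_6_1 lc_g_Cert_tree lc_g_rc_17_1 lc_g_rc_17_1 lc_g_rc_17_1 lc_g_Cert_tree lc_g_rc_17_1 lc_g_rc_17_1 lc_g_Cert_tree lc_g_Cert_tree lc_g_Cert_tree lc_g_rc_27_0 lc_g_rc_12_5 lc_g_rc_6_1 lc_g_rc_29_1 lc_g_rc_6_1) (@D3.rec (fun _ => (Cert rels S Gen.g)) lc_g_Cert_tree lc_g_Cert_tree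 lc_g_rc_12_1 lc_g_rc_27_0 lc_g_rc_26_5 lc_g_rc_21_1 lc_g_rc_6_1 lc_g_rc_31_11 lc_g_rc_6_3 lc_g_Cert_tree lc_g_rc_27_0 lc_g_rc_6_1 lc_g_rc_6_1 lc_g_rc_31_8 lc_g_rc_12_3 lc_g_rc_17_3 lc_g_rc_29_1 lc_g_rc_6_3 lc_g_rc_29_1 lc_g_rc_27_0 lc_g_rc_6_3 lc_g_Cert_tree lc_g_rc_27_0 lc_g_rc_17_3 lc_g_rc_17_1 lc_g_Cert_tree lc_g_Cert_tree lc_g_rc_27_0 lc_g_rc_12_3 lc_g_rc_6_1 lc_g_rc_12_3 lc_g_Cert_tree lc_g_rc_6_3 lc_g_Cert_tree lc_g_rc_27_0 lc_g_rc_27_1 lc_g_rc_6_1 lc_g_rc_17_1 lc_g_Cert_tree lc_g_rc_6_1) (@D3.rec (fun _ => (Cert rels S Gen.g)) lc_g_rc_21_1 lc_g_Cert_tree lc_g_rc_27_0 lc_g_rc_31_8 lc_g_Cert_tree lc_g_rc_24_1 lc_g_rc_6_1 lc_g_Cert_tree lc_g_rc_6_3 lc_g_rc_27_0 lc_g_rc_27_0 lc_g_rc_29_3 lc_g_rc_6_3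 lc_g_rc_27_0 lc_g_Cert_tree lc_g_rc_27_0 lc_g_rc_27_0 lc_g_rc_6_1 lc_g_rc_12_3 lc_g_Cert_tree lc_g_Cert_tree lc_g_rc_12_1 lc_g_Cert_tree lc_g_Cert_tree lc_g_rc_27_0 lc_g_rc_6_3 lc_g_rc_27_0 lc_g_Cert_tree lc_g_rc_12_3 lc_g_rc_6_3 lc_g_rc_27_0 lc_g_Cert_tree lc_g_rc_27_0 lc_g_rc_12_3 lc_g_rc_6_1 lc_g_rc_29_1 lc_g_rc_27_0 lc_g_rc_12_3 lc_g_rc_29_3 lc_g_rc_29_3) (@D3.rec (fun _ => (Cert rels S Gen.g)) lc_g_Cert_tree lc_g_Cert_tree lc_g_Cert_tree lc_g_rc_27_0 lc_g_rc_6_1 lc_g_rc_17_1 lc_g_Cert_tree lc_g_rc_27_0 lc_g_rc_6_1 lc_g_rc_29_1 lc_g_rc_27_0 lc_g_rc_6_3 lc_g_rc_27_0 lc_g_rc_27_0 lc_g_rc_29_3 lc_g_Cert_tree lc_g_rc_27_0 lc_g_rc_12_5 lc_g_Cert_tree lc_g_Cert_tree lc_g_rc_12_3 lc_g_rc_6_1 lc_g_rc_17_1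 lc_g_Cert_tree lc_g_rc_12_3 lc_g_Cert_tree lc_g_Cert_tree lc_g_Cert_tree lc_g_rc_27_0 lc_g_Cert_tree lc_g_rc_27_0 lc_g_rc_12_3 lc_g_Cert_tree lc_g_rc_17_1 lc_g_Cert_tree lc_g_Cert_tree lc_g_rc_12_3 lc_g_Cert_tree lc_g_rc_12_3 lc_g_Cert_tree) (@D3.rec (fun _ => (Cert rels S Gen.g)) lc_g_Cert_tree lc_g_rc_27_0 lc_g_rc_6_1 lc_g_rc_17_1 lc_g_Cert_tree lc_g_rc_21_1 lc_g_rc_29_1 lc_g_Cert_tree lc_g_rc_21_3 lc_g_rc_29_1 lc_g_Cert_tree lc_g_rc_27_0 lc_g_rc_29_3 lc_g_rc_17_1 lc_g_rc_29_3 lc_g_Cert_tree lc_g_Cert_tree lc_g_rc_27_0 lc_g_Cert_tree lc_g_rc_27_0 lc_g_rc_6_1 lc_g_rc_21_1 lc_g_rc_6_1 lc_g_rc_29_1 lc_g_rc_21_1 lc_g_Cert_tree lc_g_rc_27_0 lc_g_rc_24_1 lc_g_rc_29_1 lc_g_Cert_tree lc_g_rc_27_0 lc_g_Cert_tree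 lc_g_rc_27_0 lc_g_rc_12_3 lc_g_rc_6_1 lc_g_rc_29_1 lc_g_Cert_tree lc_g_rc_27_0 lc_g_rc_12_3 lc_g_rc_29_3) (@D3.rec (fun _ => (Cert rels S Gen.g)) lc_g_rc_17_1 lc_g_rc_29_3 lc_g_Cert_tree lc_g_Cert_tree lc_g_Cert_tree lc_g_rc_27_0 lc_g_rc_12_3 lc_g_rc_6_1 lc_g_rc_17_1 lc_g_Cert_tree lc_g_Cert_tree lc_g_Cert_tree lc_g_Cert_tree lc_g_rc_27_0 lc_g_Cert_tree lc_g_rc_27_0 lc_g_rc_12_3 lc_g_rc_6_1 lc_g_rc_6_1 lc_g_rc_17_1 lc_g_Cert_tree lc_g_rc_6_1 lc_g_rc_6_1 lc_g_rc_29_1 lc_g_rc_21_1 lc_g_Cert_tree lc_g_Cert_tree lc_g_rc_27_0 lc_g_Cert_tree lc_g_Cert_tree lc_g_rc_27_0 lc_g_Cert_tree lc_g_rc_27_0 lc_g_rc_12_3 lc_g_rc_6_3 lc_g_rc_24_1 lc_g_rc_6_1 lc_g_Cert_tree lc_g_rc_6_1 lc_g_rc_27_0) (@D3.rec (fun _ =>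 (Cert rels S Gen.g)) lc_g_rc_24_3 lc_g_rc_6_3 lc_g_Cert_tree lc_g_rc_29_1 lc_g_rc_27_0 lc_g_Cert_tree lc_g_rc_29_3 lc_g_rc_27_0 lc_g_rc_17_1 lc_g_rc_27_0 lc_g_rc_12_3 lc_g_rc_12_3 lc_g_Cert_tree lc_g_rc_12_3 lc_g_rc_29_1 lc_g_Cert_tree lc_g_rc_27_0 lc_g_rc_12_3 lc_g_rc_29_3 lc_g_rc_17_1 lc_g_rc_29_3 lc_g_rc_17_1 lc_g_Cert_tree lc_g_rc_29_1 lc_g_rc_27_0 lc_g_rc_12_3 lc_g_rc_6_1 lc_g_rc_17_1 lc_g_Cert_tree lc_g_rc_12_3 lc_g_rc_29_3 lc_g_rc_29_3 lc_g_Cert_tree lc_g_Cert_tree lc_g_Cert_tree lc_g_rc_27_0 lc_g_Cert_tree lc_g_rc_26_3 lc_g_rc_27_0 lc_g_rc_12_3) (@D3.rec (fun _ => (Cert rels S Gen.g)) lc_g_rc_6_1 lc_g_rc_17_1 lc_g_rc_6_3 lc_g_Cert_tree lc_g_rc_27_0 lc_g_rc_27_0 lc_g_rc_12_3 lc_g_rc_6_1 lc_g_rc_6_1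 lc_g_rc_17_1 lc_g_Cert_tree lc_g_rc_29_1 lc_g_rc_17_3 lc_g_rc_31_5 lc_g_rc_27_0 lc_g_rc_6_3 lc_g_Cert_tree lc_g_rc_27_0 lc_g_rc_27_0 lc_g_Cert_tree lc_g_Cert_tree lc_g_rc_27_0 lc_g_rc_12_3 lc_g_Cert_tree lc_g_rc_27_0 lc_g_rc_12_3 lc_g_rc_6_1 lc_g_rc_29_3 lc_g_rc_17_1 lc_g_rc_29_3 lc_g_Cert_tree lc_g_Cert_tree lc_g_rc_6_1 lc_g_rc_29_1 lc_g_rc_21_1 lc_g_Cert_tree lc_g_rc_27_0 lc_g_rc_6_3 lc_g_rc_6_3 lc_g_rc_24_3) (@D3.rec (fun _ => (Cert rels S Gen.g)) lc_g_rc_29_1 lc_g_Cert_tree lc_g_rc_29_1 lc_g_rc_29_1 lc_g_Cert_tree lc_g_rc_27_0 lc_g_rc_29_1 lc_g_Cert_tree lc_g_rc_27_0 lc_g_rc_12_3 lc_g_Cert_tree lc_g_Cert_tree lc_g_rc_27_0 lc_g_Cert_tree lc_g_rc_27_0 lc_g_rc_6_1 lc_g_rc_29_1 lc_g_rc_27_0 lc_g_rc_29_1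 lc_g_Cert_tree lc_g_Cert_tree lc_g_rc_27_0 lc_g_rc_27_0 lc_g_rc_12_3 lc_g_rc_6_1 lc_g_Cert_tree lc_g_rc_6_3 lc_g_rc_29_1 lc_g_rc_21_1 lc_g_rc_6_1 lc_g_rc_12_3 lc_g_rc_6_1 lc_g_rc_29_1 lc_g_rc_6_1 lc_g_rc_12_3 lc_g_Cert_tree lc_g_rc_27_0 lc_g_rc_26_5 lc_g_rc_12_1 lc_g_rc_17_1)
def ce_g_5 : D2 → D3 → (Cert rels S Gen.g) := @D2.rec (fun _ => D3 → (Cert rels S Gen.g)) (@D3.rec (fun _ => (Cert rels S Gen.g)) lc_g_rc_27_0 lc_g_Cert_tree lc_g_rc_27_0 lc_g_rc_12_3 lc_g_rc_12_3 lc_g_rc_17_1 lc_g_rc_17_1 lc_g_rc_6_1 lc_g_rc_6_3 lc_g_rc_24_1 lc_g_rc_29_3 lc_g_Cert_tree lc_g_Cert_tree lc_g_rc_24_1 lc_g_Cert_tree lc_g_rc_6_3 lc_g_rc_27_0 lc_g_Cert_tree lc_g_rc_27_0 lc_g_Cert_tree lc_g_rc_27_0 lc_g_rc_12_3 lc_g_rc_29_3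 lc_g_Cert_tree lc_g_rc_12_3 lc_g_Cert_tree lc_g_Cert_tree lc_g_rc_27_0 lc_g_rc_6_1 lc_g_rc_17_1 lc_g_Cert_tree lc_g_Cert_tree lc_g_rc_12_3 lc_g_rc_29_1 lc_g_rc_6_3 lc_g_rc_27_0 lc_g_rc_12_3 lc_g_rc_29_3 lc_g_rc_17_1 lc_g_rc_29_3) (@D3.rec (fun _ => (Cert rels S Gen.g)) lc_g_Cert_tree lc_g_Cert_tree lc_g_rc_29_1 lc_g_Cert_tree lc_g_rc_27_0 lc_g_rc_12_3 lc_g_rc_6_1 lc_g_rc_17_1 lc_g_Cert_tree lc_g_Cert_tree lc_g_rc_29_3 lc_g_rc_21_1 lc_g_rc_29_3 lc_g_Cert_tree lc_g_Cert_tree lc_g_Cert_tree lc_g_rc_27_0 lc_g_Cert_tree lc_g_rc_27_0 lc_g_rc_27_0 lc_g_rc_12_3 lc_g_rc_6_1 lc_g_rc_6_1 lc_g_rc_17_1 lc_g_Cert_tree lc_g_rc_24_1 lc_g_rc_29_1 lc_g_rc_6_3 lc_g_Cert_tree lc_g_rc_27_0 lc_g_Cert_tree lc_g_Cert_tree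 lc_g_rc_27_0 lc_g_Cert_tree lc_g_Cert_tree lc_g_Cert_tree lc_g_rc_27_0 lc_g_Cert_tree lc_g_Cert_tree lc_g_rc_27_0) (@D3.rec (fun _ => (Cert rels S Gen.g)) lc_g_rc_12_3 lc_g_Cert_tree lc_g_rc_27_0 lc_g_rc_12_3 lc_g_rc_6_1 lc_g_rc_29_3 lc_g_rc_17_1 lc_g_rc_29_3 lc_g_Cert_tree lc_g_Cert_tree lc_g_rc_6_1 lc_g_rc_29_1 lc_g_rc_21_1 lc_g_rc_6_3 lc_g_rc_27_0 lc_g_Cert_tree lc_g_Cert_tree lc_g_Cert_tree lc_g_rc_27_0 lc_g_Cert_tree lc_g_rc_6_1 lc_g_rc_29_1 lc_g_Cert_tree lc_g_rc_24_1 lc_g_Cert_tree lc_g_Cert_tree lc_g_rc_27_0 lc_g_rc_29_1 lc_g_Cert_tree lc_g_rc_27_0 lc_g_rc_12_3 lc_g_Cert_tree lc_g_Cert_tree lc_g_rc_27_0 lc_g_Cert_tree lc_g_rc_27_0 lc_g_rc_6_1 lc_g_Cert_tree lc_g_rc_21_1 lc_g_Cert_tree) (@D3.rec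 (fun _ => (Cert rels S Gen.g)) lc_g_Cert_tree lc_g_Cert_tree lc_g_rc_27_0 lc_g_rc_29_1 lc_g_rc_27_0 lc_g_rc_12_3 lc_g_rc_6_1 lc_g_rc_6_1 lc_g_rc_12_3 lc_g_Cert_tree lc_g_Cert_tree lc_g_rc_6_1 lc_g_rc_21_1 lc_g_Cert_tree lc_g_rc_6_1 lc_g_rc_17_1 lc_g_rc_24_1 lc_g_Cert_tree lc_g_rc_21_1 lc_g_Cert_tree lc_g_Cert_tree lc_g_Cert_tree lc_g_rc_27_0 lc_g_rc_21_1 lc_g_Cert_tree lc_g_Cert_tree lc_g_rc_27_0 lc_g_Cert_tree lc_g_Cert_tree lc_g_rc_27_0 lc_g_rc_12_3 lc_g_rc_17_1 lc_g_rc_21_1 lc_g_Cert_tree lc_g_rc_26_3 lc_g_rc_17_1 lc_g_rc_24_1 lc_g_Cert_tree lc_g_Cert_tree lc_g_rc_27_0) (@D3.rec (fun _ => (Cert rels S Gen.g)) lc_g_rc_6_3 lc_g_rc_31_11 lc_g_rc_6_1 lc_g_rc_17_1 lc_g_rc_17_1 lc_g_Cert_tree lc_g_rc_21_1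 lc_g_rc_6_1 lc_g_rc_12_3 lc_g_Cert_tree lc_g_rc_21_1 lc_g_rc_31_5 lc_g_rc_29_1 lc_g_rc_17_1 lc_g_rc_17_1 lc_g_rc_29_3 lc_g_rc_17_1 lc_g_Cert_tree lc_g_rc_6_3 lc_g_rc_29_1 lc_g_Cert_tree lc_g_rc_27_0 lc_g_rc_12_3 lc_g_rc_29_3 lc_g_rc_17_1 lc_g_rc_29_3 lc_g_Cert_tree lc_g_Cert_tree lc_g_Cert_tree lc_g_rc_27_0 lc_g_rc_27_0 lc_g_rc_6_1 lc_g_Cert_tree lc_g_rc_17_1 lc_g_rc_29_1 lc_g_rc_6_3 lc_g_rc_27_0 lc_g_Cert_tree lc_g_Cert_tree lc_g_Cert_tree) (@D3.rec (fun _ => (Cert rels S Gen.g)) lc_g_rc_27_0 lc_g_Cert_tree lc_g_rc_27_0 lc_g_rc_12_3 lc_g_rc_29_3 lc_g_rc_17_1 lc_g_rc_29_3 lc_g_Cert_tree lc_g_rc_6_1 lc_g_rc_29_1 lc_g_rc_17_1 lc_g_rc_29_3 lc_g_rc_27_0 lc_g_rc_6_3 lc_g_rc_17_3 lc_g_rc_12_5 lc_g_rc_27_0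 lc_g_rc_24_1 lc_g_rc_29_3 lc_g_Cert_tree lc_g_rc_29_1 lc_g_rc_6_1 lc_g_rc_27_0 lc_g_rc_12_5 lc_g_Cert_tree lc_g_rc_27_0 lc_g_rc_29_1 lc_g_rc_27_0 lc_g_rc_6_1 lc_g_Cert_tree lc_g_rc_6_3 lc_g_rc_27_0 lc_g_Cert_tree lc_g_Cert_tree lc_g_Cert_tree lc_g_rc_27_0 lc_g_rc_27_0 lc_g_rc_12_3 lc_g_rc_29_3 lc_g_Cert_tree) (@D3.rec (fun _ => (Cert rels S Gen.g)) lc_g_Cert_tree lc_g_rc_27_0 lc_g_Cert_tree lc_g_rc_27_0 lc_g_rc_12_3 lc_g_rc_6_1 lc_g_rc_17_1 lc_g_rc_12_1 lc_g_rc_27_0 lc_g_rc_12_3 lc_g_rc_21_1 lc_g_rc_29_3 lc_g_rc_12_3 lc_g_rc_29_3 lc_g_Cert_tree lc_g_Cert_tree lc_g_rc_6_1 lc_g_rc_21_1 lc_g_rc_29_3 lc_g_Cert_tree lc_g_Cert_tree lc_g_Cert_tree lc_g_rc_27_0 lc_g_Cert_tree lc_g_Cert_tree lc_g_rc_6_3 lc_g_rc_27_0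 lc_g_Cert_tree lc_g_rc_17_1 lc_g_rc_29_1 lc_g_rc_12_3 lc_g_rc_29_1 lc_g_rc_12_3 lc_g_Cert_tree lc_g_rc_6_3 lc_g_rc_27_0 lc_g_Cert_tree lc_g_rc_21_3 lc_g_Cert_tree lc_g_rc_27_0) (@D3.rec (fun _ => (Cert rels S Gen.g)) lc_g_Cert_tree lc_g_rc_27_0 lc_g_rc_29_3 lc_g_rc_29_1 lc_g_Cert_tree lc_g_rc_27_0 lc_g_rc_6_1 lc_g_rc_29_1 lc_g_Cert_tree lc_g_rc_29_1 lc_g_Cert_tree lc_g_rc_27_0 lc_g_Cert_tree lc_g_rc_26_7 lc_g_rc_27_0 lc_g_rc_29_1 lc_g_Cert_tree lc_g_rc_27_0 lc_g_rc_12_3 lc_g_Cert_tree lc_g_rc_12_3 lc_g_rc_6_1 lc_g_rc_17_1 lc_g_Cert_tree lc_g_Cert_tree lc_g_rc_29_3 lc_g_Cert_tree lc_g_rc_27_0 lc_g_rc_12_1 lc_g_rc_27_0 lc_g_rc_6_3 lc_g_rc_29_1 lc_g_Cert_tree lc_g_Cert_tree lc_g_Cert_tree lc_g_Cert_tree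 lc_g_rc_27_0 lc_g_rc_24_1 lc_g_rc_12_5 lc_g_rc_6_3) (@D3.rec (fun _ => (Cert rels S Gen.g)) lc_g_rc_27_0 lc_g_Cert_tree lc_g_rc_27_0 lc_g_rc_27_0 lc_g_rc_29_3 lc_g_Cert_tree lc_g_Cert_tree lc_g_rc_27_0 lc_g_Cert_tree lc_g_rc_27_0 lc_g_rc_12_3 lc_g_rc_12_3 lc_g_rc_6_1 lc_g_rc_6_1 lc_g_rc_17_1 lc_g_Cert_tree lc_g_rc_12_3 lc_g_rc_21_1 lc_g_rc_6_1 lc_g_rc_29_1 lc_g_rc_12_3 lc_g_Cert_tree lc_g_Cert_tree lc_g_rc_27_0 lc_g_Cert_tree lc_g_rc_27_0 lc_g_Cert_tree lc_g_rc_6_1 lc_g_rc_17_1 lc_g_rc_24_1 lc_g_Cert_tree lc_g_rc_17_1 lc_g_Cert_tree lc_g_rc_27_0 lc_g_rc_6_1 lc_g_Cert_tree lc_g_rc_17_1 lc_g_Cert_tree lc_g_Cert_tree lc_g_Cert_tree) (@D3.rec (fun _ => (Cert rels S Gen.g)) lc_g_rc_27_0 lc_g_rc_24_1 lc_g_rc_21_3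 lc_g_rc_6_3 lc_g_rc_27_0 lc_g_rc_29_3 lc_g_rc_21_3 lc_g_rc_27_0 lc_g_rc_29_3 lc_g_rc_6_3 lc_g_Cert_tree lc_g_rc_27_0 lc_g_rc_12_1 lc_g_rc_17_3 lc_g_rc_6_1 lc_g_Cert_tree lc_g_rc_27_0 lc_g_rc_12_3 lc_g_rc_12_3 lc_g_rc_27_0 lc_g_rc_12_3 lc_g_rc_6_1 lc_g_Cert_tree lc_g_rc_27_0 lc_g_rc_21_3 lc_g_rc_27_0 lc_g_rc_12_3 lc_g_rc_6_1 lc_g_rc_6_1 lc_g_Cert_tree lc_g_rc_12_3 lc_g_rc_21_1 lc_g_rc_17_1 lc_g_rc_24_1 lc_g_Cert_tree lc_g_rc_17_1 lc_g_Cert_tree lc_g_rc_27_0 lc_g_rc_24_1 lc_g_rc_17_1) (@D3.rec (fun _ => (Cert rels S Gen.g)) lc_g_rc_17_1 lc_g_Cert_tree lc_g_Cert_tree lc_g_rc_27_0 lc_g_rc_21_1 lc_g_rc_17_3 lc_g_Cert_tree lc_g_Cert_tree lc_g_rc_6_3 lc_g_rc_27_0 lc_g_Cert_tree lc_g_rc_27_0 lc_g_rc_27_0 lc_g_rc_27_0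 lc_g_rc_12_3 lc_g_rc_29_3 lc_g_Cert_tree lc_g_rc_27_0 lc_g_rc_12_3 lc_g_rc_27_0 lc_g_rc_12_3 lc_g_rc_17_1 lc_g_rc_6_1 lc_g_rc_17_1 lc_g_rc_27_1 lc_g_rc_21_3 lc_g_rc_17_1 lc_g_rc_6_1 lc_g_rc_21_1 lc_g_Cert_tree lc_g_rc_21_1 lc_g_rc_24_3 lc_g_Cert_tree lc_g_Cert_tree lc_g_Cert_tree lc_g_rc_21_1 lc_g_rc_27_0 lc_g_rc_24_1 lc_g_rc_12_3 lc_g_rc_29_3) (@D3.rec (fun _ => (Cert rels S Gen.g)) lc_g_Cert_tree lc_g_rc_12_1 lc_g_rc_17_3 lc_g_rc_12_3 lc_g_rc_31_2 lc_g_rc_27_1 lc_g_rc_27_0 lc_g_rc_12_1 lc_g_rc_12_3 lc_g_rc_29_3 lc_g_rc_12_1 lc_g_rc_24_1 lc_g_rc_21_3 lc_g_rc_12_5 lc_g_rc_27_0 lc_g_rc_6_3 lc_g_rc_17_3 lc_g_rc_27_0 lc_g_rc_12_3 lc_g_rc_12_3 lc_g_rc_29_1 lc_g_rc_12_1 lc_g_Cert_tree lc_g_rc_17_1 lc_g_Cert_tree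 lc_g_Cert_tree lc_g_rc_17_1 lc_g_Cert_tree lc_g_Cert_tree lc_g_rc_27_0 lc_g_rc_17_1 lc_g_Cert_tree lc_g_Cert_tree lc_g_rc_27_0 lc_g_rc_27_0 lc_g_rc_27_0 lc_g_rc_12_3 lc_g_rc_27_0 lc_g_rc_27_0 lc_g_rc_12_3) (@D3.rec (fun _ => (Cert rels S Gen.g)) lc_g_rc_12_3 lc_g_rc_29_3 lc_g_rc_17_1 lc_g_rc_29_3 lc_g_rc_12_3 lc_g_rc_6_1 lc_g_rc_17_1 lc_g_rc_6_1 lc_g_rc_21_3 lc_g_rc_6_1 lc_g_rc_29_1 lc_g_rc_21_1 lc_g_rc_6_1 lc_g_rc_27_0 lc_g_rc_12_3 lc_g_Cert_tree lc_g_rc_6_1 lc_g_rc_26_3 lc_g_rc_24_1 lc_g_rc_27_1 lc_g_Cert_tree lc_g_Cert_tree lc_g_Cert_tree lc_g_rc_6_3 lc_g_rc_27_0 lc_g_Cert_tree lc_g_Cert_tree lc_g_rc_27_0 lc_g_rc_27_0 lc_g_rc_29_3 lc_g_rc_12_5 lc_g_rc_17_1 lc_g_Cert_tree lc_g_rc_29_1 lc_g_rc_27_0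 lc_g_Cert_tree lc_g_rc_29_1 lc_g_rc_29_3 lc_g_rc_29_1 lc_g_Cert_tree) (@D3.rec (fun _ => (Cert rels S Gen.g)) lc_g_Cert_tree lc_g_rc_29_1 lc_g_rc_27_0 lc_g_rc_24_1 lc_g_rc_29_1 lc_g_rc_27_0 lc_g_Cert_tree lc_g_rc_27_0 lc_g_rc_27_0 lc_g_rc_26_5 lc_g_rc_12_3 lc_g_Cert_tree lc_g_rc_27_0 lc_g_rc_12_3 lc_g_Cert_tree lc_g_Cert_tree lc_g_rc_6_3 lc_g_rc_27_0 lc_g_rc_12_3 lc_g_Cert_tree lc_g_rc_27_0 lc_g_rc_27_0 lc_g_rc_29_3 lc_g_rc_6_3 lc_g_rc_27_0 lc_g_rc_27_0 lc_g_rc_29_3 lc_g_rc_6_3 lc_g_rc_27_0 lc_g_rc_6_1 lc_g_rc_12_3 lc_g_Cert_tree lc_g_Cert_tree lc_g_rc_27_0 lc_g_rc_27_0 lc_g_rc_6_1 lc_g_rc_12_3 lc_g_Cert_tree lc_g_rc_6_3 lc_g_rc_27_0) (@D3.rec (fun _ => (Cert rels S Gen.g)) lc_g_Cert_tree lc_g_rc_12_3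 lc_g_Cert_tree lc_g_rc_27_0 lc_g_rc_12_3 lc_g_rc_6_1 lc_g_rc_29_1 lc_g_rc_27_0 lc_g_rc_12_3 lc_g_rc_29_3 lc_g_rc_29_3 lc_g_Cert_tree lc_g_Cert_tree lc_g_rc_12_3 lc_g_Cert_tree lc_g_Cert_tree lc_g_rc_27_0 lc_g_rc_6_1 lc_g_rc_17_1 lc_g_Cert_tree lc_g_Cert_tree lc_g_rc_27_0 lc_g_rc_6_1 lc_g_Cert_tree lc_g_rc_29_1 lc_g_rc_27_0 lc_g_rc_6_3 lc_g_rc_27_0 lc_g_rc_27_1 lc_g_rc_12_3 lc_g_rc_12_1 lc_g_Cert_tree lc_g_rc_6_3 lc_g_rc_27_0 lc_g_Cert_tree lc_g_rc_27_0 lc_g_rc_17_1 lc_g_rc_6_3 lc_g_Cert_tree lc_g_Cert_tree) (@D3.rec (fun _ => (Cert rels S Gen.g)) lc_g_Cert_tree lc_g_rc_27_0 lc_g_Cert_tree lc_g_rc_27_0 lc_g_rc_27_0 lc_g_rc_6_1 lc_g_Cert_tree lc_g_rc_27_0 lc_g_rc_12_3 lc_g_rc_6_1 lc_g_rc_27_0 lc_g_rc_12_3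 lc_g_rc_29_3 lc_g_Cert_tree lc_g_rc_12_3 lc_g_rc_6_1 lc_g_rc_17_1 lc_g_Cert_tree lc_g_Cert_tree lc_g_Cert_tree lc_g_Cert_tree lc_g_rc_27_0 lc_g_Cert_tree lc_g_Cert_tree lc_g_rc_27_0 lc_g_rc_17_3 lc_g_rc_29_1 lc_g_Cert_tree lc_g_rc_6_1 lc_g_Cert_tree lc_g_rc_27_0 lc_g_rc_27_0 lc_g_rc_17_3 lc_g_rc_12_3 lc_g_rc_6_1 lc_g_rc_29_1 lc_g_Cert_tree lc_g_rc_27_0 lc_g_Cert_tree lc_g_rc_27_0) (@D3.rec (fun _ => (Cert rels S Gen.g)) lc_g_rc_12_3 lc_g_Cert_tree lc_g_Cert_tree lc_g_rc_27_0 lc_g_Cert_tree lc_g_rc_12_3 lc_g_rc_29_1 lc_g_rc_31_5 lc_g_rc_27_0 lc_g_rc_29_3 lc_g_rc_17_1 lc_g_rc_29_3 lc_g_Cert_tree lc_g_rc_29_1 lc_g_Cert_tree lc_g_rc_27_0 lc_g_rc_12_3 lc_g_rc_6_1 lc_g_rc_17_1 lc_g_Cert_tree lc_g_rc_12_3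 lc_g_rc_29_3 lc_g_rc_21_1 lc_g_rc_29_3 lc_g_Cert_tree lc_g_Cert_tree lc_g_Cert_tree lc_g_rc_27_0 lc_g_rc_27_0 lc_g_rc_12_3 lc_g_rc_29_3 lc_g_rc_31_11 lc_g_Cert_tree lc_g_rc_27_0 lc_g_Cert_tree lc_g_rc_27_0 lc_g_rc_12_3 lc_g_rc_6_1 lc_g_rc_6_1 lc_g_rc_17_1) (@D3.rec (fun _ => (Cert rels S Gen.g)) lc_g_rc_6_3 lc_g_rc_12_1 lc_g_rc_29_1 lc_g_rc_21_1 lc_g_rc_26_3 lc_g_Cert_tree lc_g_rc_27_0 lc_g_Cert_tree lc_g_rc_12_1 lc_g_rc_27_0 lc_g_rc_24_1 lc_g_Cert_tree lc_g_Cert_tree lc_g_rc_27_0 lc_g_rc_24_1 lc_g_Cert_tree lc_g_rc_27_0 lc_g_rc_12_3 lc_g_Cert_tree lc_g_Cert_tree lc_g_rc_27_0 lc_g_rc_6_1 lc_g_rc_29_3 lc_g_rc_17_1 lc_g_rc_29_3 lc_g_Cert_tree lc_g_Cert_tree lc_g_rc_6_1 lc_g_rc_29_1 lc_g_rc_21_1 lc_g_Cert_tree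 lc_g_rc_27_0 lc_g_Cert_tree lc_g_rc_29_3 lc_g_Cert_tree lc_g_rc_27_0 lc_g_rc_12_3 lc_g_rc_6_1 lc_g_rc_29_1 lc_g_Cert_tree) (@D3.rec (fun _ => (Cert rels S Gen.g)) lc_g_rc_17_1 lc_g_rc_24_1 lc_g_Cert_tree lc_g_rc_27_0 lc_g_rc_29_1 lc_g_Cert_tree lc_g_rc_27_0 lc_g_rc_12_3 lc_g_Cert_tree lc_g_Cert_tree lc_g_rc_27_0 lc_g_Cert_tree lc_g_rc_27_0 lc_g_rc_6_1 lc_g_Cert_tree lc_g_rc_29_1 lc_g_rc_17_1 lc_g_rc_24_1 lc_g_Cert_tree lc_g_rc_29_3 lc_g_rc_17_1 lc_g_rc_24_1 lc_g_rc_17_1 lc_g_Cert_tree lc_g_rc_17_3 lc_g_rc_17_1 lc_g_rc_29_3 lc_g_rc_17_1 lc_g_rc_27_0 lc_g_rc_29_3 lc_g_rc_27_0 lc_g_rc_29_1 lc_g_rc_27_0 lc_g_rc_12_3 lc_g_rc_6_1 lc_g_rc_17_1 lc_g_Cert_tree lc_g_rc_29_3 lc_g_Cert_tree lc_g_Cert_tree) (@D3.rec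 (fun _ => (Cert rels S Gen.g)) lc_g_Cert_tree lc_g_rc_27_0 lc_g_rc_27_0 lc_g_Cert_tree lc_g_rc_29_1 lc_g_Cert_tree lc_g_rc_27_0 lc_g_rc_12_3 lc_g_rc_29_3 lc_g_rc_17_1 lc_g_rc_29_3 lc_g_Cert_tree lc_g_rc_6_1 lc_g_rc_29_1 lc_g_rc_21_1 lc_g_Cert_tree lc_g_rc_27_0 lc_g_rc_12_5 lc_g_rc_29_3 lc_g_rc_29_3 lc_g_rc_24_1 lc_g_rc_29_3 lc_g_Cert_tree lc_g_rc_29_1 lc_g_Cert_tree lc_g_rc_27_0 lc_g_rc_12_5 lc_g_Cert_tree lc_g_rc_27_0 lc_g_Cert_tree lc_g_rc_27_0 lc_g_rc_6_1 lc_g_rc_27_0 lc_g_rc_29_3 lc_g_rc_27_0 lc_g_rc_27_0 lc_g_rc_29_1 lc_g_rc_29_1 lc_g_rc_27_0 lc_g_rc_27_0) (@D3.rec (fun _ => (Cert rels S Gen.g)) lc_g_rc_12_3 lc_g_rc_6_1 lc_g_rc_17_1 lc_g_rc_24_3 lc_g_rc_29_1 lc_g_rc_17_1 lc_g_Cert_tree lc_g_Cert_tree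 lc_g_Cert_tree lc_g_rc_27_0 lc_g_rc_27_0 lc_g_rc_12_3 lc_g_Cert_tree lc_g_rc_27_0 lc_g_rc_21_3 lc_g_rc_17_1 lc_g_rc_29_3 lc_g_rc_17_1 lc_g_rc_29_3 lc_g_rc_12_3 lc_g_rc_6_1 lc_g_rc_6_1 lc_g_rc_29_1 lc_g_rc_21_1 lc_g_rc_17_3 lc_g_rc_27_0 lc_g_rc_29_1 lc_g_Cert_tree lc_g_rc_17_1 lc_g_rc_17_1 lc_g_Cert_tree lc_g_rc_27_0 lc_g_rc_29_1 lc_g_Cert_tree lc_g_rc_27_0 lc_g_rc_12_3 lc_g_rc_12_5 lc_g_Cert_tree lc_g_rc_27_0 lc_g_Cert_tree) (@D3.rec (fun _ => (Cert rels S Gen.g)) lc_g_rc_27_0 lc_g_rc_6_1 lc_g_rc_6_3 lc_g_rc_27_0 lc_g_rc_27_0 lc_g_rc_12_3 lc_g_rc_29_3 lc_g_rc_6_3 lc_g_Cert_tree lc_g_rc_27_0 lc_g_rc_21_1 lc_g_rc_26_3 lc_g_rc_26_7 lc_g_rc_12_1 lc_g_Cert_tree lc_g_rc_27_0 lc_g_rc_27_0 lc_g_rc_6_1 lc_g_Cert_tree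 lc_g_Cert_tree lc_g_rc_29_3 lc_g_rc_21_1 lc_g_rc_29_3 lc_g_rc_27_1 lc_g_Cert_tree lc_g_Cert_tree lc_g_rc_27_0 lc_g_rc_17_3 lc_g_Cert_tree lc_g_rc_12_1 lc_g_rc_27_0 lc_g_Cert_tree lc_g_rc_6_1 lc_g_rc_29_1 lc_g_rc_12_3 lc_g_rc_17_1 lc_g_rc_24_1 lc_g_Cert_tree lc_g_rc_27_0 lc_g_rc_12_3) (@D3.rec (fun _ => (Cert rels S Gen.g)) lc_g_rc_27_0 lc_g_rc_24_3 lc_g_Cert_tree lc_g_rc_27_0 lc_g_rc_6_1 lc_g_rc_12_3 lc_g_rc_6_1 lc_g_rc_29_1 lc_g_Cert_tree lc_g_rc_29_1 lc_g_Cert_tree lc_g_rc_27_0 lc_g_rc_12_3 lc_g_rc_21_1 lc_g_Cert_tree lc_g_rc_27_0 lc_g_rc_12_3 lc_g_Cert_tree lc_g_rc_29_1 lc_g_Cert_tree lc_g_rc_27_0 lc_g_rc_12_3 lc_g_rc_6_1 lc_g_rc_17_1 lc_g_Cert_tree lc_g_rc_6_3 lc_g_Cert_tree lc_g_rc_31_2 lc_g_rc_27_0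 lc_g_Cert_tree lc_g_Cert_tree lc_g_rc_27_0 lc_g_rc_21_3 lc_g_rc_29_1 lc_g_Cert_tree lc_g_rc_27_0 lc_g_rc_6_1 lc_g_Cert_tree lc_g_rc_17_3 lc_g_rc_21_1) (@D3.rec (fun _ => (Cert rels S Gen.g)) lc_g_Cert_tree lc_g_Cert_tree lc_g_rc_26_7 lc_g_rc_27_0 lc_g_rc_29_1 lc_g_Cert_tree lc_g_rc_17_1 lc_g_rc_12_3 lc_g_rc_21_1 lc_g_Cert_tree lc_g_rc_26_1 lc_g_rc_6_1 lc_g_rc_27_0 lc_g_rc_24_1 lc_g_Cert_tree lc_g_rc_17_1 lc_g_Cert_tree lc_g_rc_27_0 lc_g_Cert_tree lc_g_Cert_tree lc_g_Cert_tree lc_g_rc_27_0 lc_g_rc_27_0 lc_g_rc_21_1 lc_g_rc_17_1 lc_g_Cert_tree lc_g_Cert_tree lc_g_rc_27_0 lc_g_rc_17_3 lc_g_rc_21_1 lc_g_rc_27_1 lc_g_rc_6_3 lc_g_Cert_tree lc_g_rc_21_1 lc_g_rc_27_0 lc_g_rc_29_3 lc_g_rc_24_1 lc_g_Cert_tree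 lc_g_Cert_tree lc_g_rc_17_1) (@D3.rec (fun _ => (Cert rels S Gen.g)) lc_g_rc_27_0 lc_g_rc_17_1 lc_g_Cert_tree lc_g_rc_12_3 lc_g_Cert_tree lc_g_rc_27_0 lc_g_rc_12_3 lc_g_rc_31_2 lc_g_rc_27_0 lc_g_rc_12_3 lc_g_rc_29_3 lc_g_rc_6_1 lc_g_Cert_tree lc_g_Cert_tree lc_g_rc_27_0 lc_g_Cert_tree lc_g_rc_12_3 lc_g_Cert_tree lc_g_Cert_tree lc_g_rc_27_0 lc_g_rc_24_3 lc_g_rc_17_1 lc_g_Cert_tree lc_g_Cert_tree lc_g_rc_27_0 lc_g_rc_24_3 lc_g_rc_27_0 lc_g_rc_17_1 lc_g_rc_29_1 lc_g_rc_24_1 lc_g_rc_12_1 lc_g_rc_12_5 lc_g_rc_27_0 lc_g_rc_12_3 lc_g_rc_12_3 lc_g_rc_12_5 lc_g_rc_29_3 lc_g_Cert_tree lc_g_rc_29_1 lc_g_Cert_tree) (@D3.rec (fun _ => (Cert rels S Gen.g)) lc_g_rc_27_0 lc_g_rc_12_3 lc_g_rc_6_1 lc_g_rc_17_1 lc_g_Cert_tree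 lc_g_Cert_tree lc_g_rc_29_3 lc_g_rc_21_1 lc_g_rc_29_3 lc_g_Cert_tree lc_g_Cert_tree lc_g_Cert_tree lc_g_rc_27_0 lc_g_rc_29_1 lc_g_Cert_tree lc_g_Cert_tree lc_g_rc_27_0 lc_g_Cert_tree lc_g_rc_29_1 lc_g_Cert_tree lc_g_Cert_tree lc_g_rc_27_0 lc_g_rc_12_3 lc_g_rc_29_3 lc_g_rc_17_1 lc_g_rc_29_3 lc_g_rc_26_5 lc_g_rc_6_1 lc_g_rc_29_1 lc_g_rc_21_1 lc_g_Cert_tree lc_g_rc_27_0 lc_g_rc_6_3 lc_g_Cert_tree lc_g_Cert_tree lc_g_rc_27_0 lc_g_Cert_tree lc_g_rc_29_3 lc_g_rc_17_1 lc_g_rc_24_1)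
def ce_g_6 : D2 → D3 → (Cert rels S Gen.g) := @D2.rec (fun _ => D3 → (Cert rels S Gen.g)) (@D3.rec (fun _ => (Cert rels S Gen.g)) lc_g_rc_29_3 lc_g_Cert_tree lc_g_rc_29_1 lc_g_Cert_tree lc_g_rc_27_0 lc_g_rc_12_1 lc_g_Cert_tree lc_g_rc_27_0 lc_g_Cert_tree lc_g_rc_27_0 lc_g_rc_6_1 lc_g_Cert_tree lc_g_rc_27_0 lc_g_rc_17_3 lc_g_Cert_tree lc_g_rc_27_0 lc_g_rc_12_3 lc_g_Cert_tree lc_g_Cert_tree lc_g_rc_27_0 lc_g_rc_12_3 lc_g_rc_6_1 lc_g_Cert_tree lc_g_Cert_tree lc_g_rc_27_0 lc_g_rc_17_1 lc_g_rc_6_1 lc_g_rc_29_1 lc_g_Cert_tree lc_g_rc_17_1 lc_g_rc_24_1 lc_g_Cert_tree lc_g_Cert_tree lc_g_rc_27_0 lc_g_rc_12_3 lc_g_rc_6_3 lc_g_rc_27_0 lc_g_rc_27_0 lc_g_rc_12_3 lc_g_rc_29_3) (@D3.rec (fun _ => (Cert rels S Gen.g))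 lc_g_Cert_tree lc_g_rc_17_1 lc_g_rc_27_0 lc_g_Cert_tree lc_g_Cert_tree lc_g_rc_27_0 lc_g_rc_12_3 lc_g_rc_29_1 lc_g_rc_21_1 lc_g_rc_12_1 lc_g_Cert_tree lc_g_Cert_tree lc_g_rc_27_0 lc_g_rc_27_0 lc_g_rc_12_3 lc_g_rc_6_1 lc_g_rc_29_3 lc_g_rc_29_3 lc_g_Cert_tree lc_g_rc_6_3 lc_g_Cert_tree lc_g_rc_27_0 lc_g_rc_6_3 lc_g_rc_27_0 lc_g_rc_12_1 lc_g_rc_27_0 lc_g_rc_29_3 lc_g_Cert_tree lc_g_rc_17_1 lc_g_rc_27_0 lc_g_rc_17_1 lc_g_rc_6_1 lc_g_rc_29_1 lc_g_Cert_tree lc_g_rc_17_1 lc_g_rc_21_1 lc_g_rc_27_0 lc_g_rc_21_1 lc_g_rc_17_1 lc_g_Cert_tree) (@D3.rec (fun _ => (Cert rels S Gen.g)) lc_g_Cert_tree lc_g_Cert_tree lc_g_rc_27_0 lc_g_rc_29_1 lc_g_rc_27_0 lc_g_rc_12_3 lc_g_rc_6_1 lc_g_rc_17_1 lc_g_Cert_tree lc_g_Cert_tree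 lc_g_Cert_tree lc_g_rc_6_3 lc_g_rc_27_0 lc_g_Cert_tree lc_g_Cert_tree lc_g_Cert_tree lc_g_rc_27_0 lc_g_rc_27_0 lc_g_rc_12_3 lc_g_rc_29_3 lc_g_rc_6_1 lc_g_Cert_tree lc_g_rc_12_3 lc_g_rc_6_1 lc_g_rc_17_1 lc_g_Cert_tree lc_g_Cert_tree lc_g_rc_29_1 lc_g_rc_27_0 lc_g_rc_24_1 lc_g_Cert_tree lc_g_rc_6_3 lc_g_rc_27_0 lc_g_Cert_tree lc_g_Cert_tree lc_g_Cert_tree lc_g_rc_27_0 lc_g_Cert_tree lc_g_rc_27_0 lc_g_rc_29_3) (@D3.rec (fun _ => (Cert rels S Gen.g)) lc_g_Cert_tree lc_g_rc_27_0 lc_g_Cert_tree lc_g_Cert_tree lc_g_Cert_tree lc_g_rc_27_0 lc_g_Cert_tree lc_g_rc_27_0 lc_g_rc_6_1 lc_g_Cert_tree lc_g_Cert_tree lc_g_rc_6_3 lc_g_rc_27_0 lc_g_Cert_tree lc_g_Cert_tree lc_g_Cert_tree lc_g_rc_27_0 lc_g_rc_27_0 lc_g_rc_29_3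 lc_g_rc_21_3 lc_g_Cert_tree lc_g_rc_6_3 lc_g_rc_27_0 lc_g_Cert_tree lc_g_Cert_tree lc_g_Cert_tree lc_g_rc_27_0 lc_g_rc_27_0 lc_g_rc_29_3 lc_g_Cert_tree lc_g_rc_27_0 lc_g_rc_17_1 lc_g_rc_12_1 lc_g_rc_17_1 lc_g_rc_27_0 lc_g_rc_12_3 lc_g_rc_17_1 lc_g_rc_21_3 lc_g_Cert_tree lc_g_rc_12_3) (@D3.rec (fun _ => (Cert rels S Gen.g)) lc_g_rc_6_3 lc_g_rc_12_1 lc_g_rc_6_1 lc_g_rc_27_0 lc_g_rc_12_3 lc_g_rc_29_1 lc_g_Cert_tree lc_g_Cert_tree lc_g_Cert_tree lc_g_rc_27_0 lc_g_rc_27_0 lc_g_rc_12_1 lc_g_Cert_tree lc_g_Cert_tree lc_g_Cert_tree lc_g_rc_27_0 lc_g_rc_29_1 lc_g_Cert_tree lc_g_rc_27_0 lc_g_rc_27_0 lc_g_rc_12_3 lc_g_rc_6_1 lc_g_rc_17_1 lc_g_Cert_tree lc_g_rc_31_5 lc_g_rc_29_3 lc_g_rc_21_1 lc_g_rc_29_3 lc_g_rc_26_5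 lc_g_Cert_tree lc_g_rc_6_1 lc_g_rc_29_1 lc_g_rc_26_3 lc_g_rc_6_3 lc_g_Cert_tree lc_g_rc_27_0 lc_g_rc_17_1 lc_g_rc_6_1 lc_g_rc_21_3 lc_g_Cert_tree) (@D3.rec (fun _ => (Cert rels S Gen.g)) lc_g_rc_27_0 lc_g_rc_27_0 lc_g_rc_6_1 lc_g_rc_6_3 lc_g_rc_6_3 lc_g_rc_6_3 lc_g_rc_27_0 lc_g_rc_29_3 lc_g_rc_17_1 lc_g_rc_29_3 lc_g_rc_29_3 lc_g_rc_29_3 lc_g_Cert_tree lc_g_Cert_tree lc_g_rc_27_0 lc_g_rc_12_3 lc_g_rc_29_1 lc_g_Cert_tree lc_g_rc_27_0 lc_g_rc_17_1 lc_g_Cert_tree lc_g_Cert_tree lc_g_rc_27_0 lc_g_Cert_tree lc_g_Cert_tree lc_g_rc_27_0 lc_g_rc_6_1 lc_g_rc_12_3 lc_g_rc_17_1 lc_g_rc_6_1 lc_g_rc_29_1 lc_g_rc_27_0 lc_g_rc_12_3 lc_g_rc_27_0 lc_g_rc_12_3 lc_g_rc_26_3 lc_g_rc_26_3 lc_g_rc_17_1 lc_g_rc_12_3 lc_g_rc_21_3)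 (@D3.rec (fun _ => (Cert rels S Gen.g)) lc_g_rc_6_1 lc_g_rc_24_1 lc_g_rc_17_1 lc_g_rc_29_1 lc_g_rc_21_1 lc_g_rc_27_0 lc_g_Cert_tree lc_g_rc_27_0 lc_g_rc_29_3 lc_g_rc_12_3 lc_g_rc_6_1 lc_g_rc_6_1 lc_g_Cert_tree lc_g_rc_12_3 lc_g_Cert_tree lc_g_Cert_tree lc_g_Cert_tree lc_g_rc_27_0 lc_g_rc_17_1 lc_g_rc_29_1 lc_g_rc_27_0 lc_g_rc_6_1 lc_g_rc_6_1 lc_g_rc_12_1 lc_g_rc_29_3 lc_g_rc_21_1 lc_g_Cert_tree lc_g_rc_29_1 lc_g_Cert_tree lc_g_Cert_tree lc_g_rc_24_3 lc_g_rc_27_0 lc_g_rc_6_1 lc_g_rc_21_1 lc_g_rc_24_1 lc_g_rc_27_0 lc_g_rc_6_1 lc_g_rc_21_1 lc_g_rc_6_1 lc_g_rc_12_3) (@D3.rec (fun _ => (Cert rels S Gen.g)) lc_g_Cert_tree lc_g_rc_27_0 lc_g_rc_17_1 lc_g_rc_27_0 lc_g_rc_31_2 lc_g_rc_17_1 lc_g_Cert_tree lc_g_rc_12_3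 lc_g_rc_6_1 lc_g_rc_17_1 lc_g_Cert_tree lc_g_rc_6_1 lc_g_rc_21_1 lc_g_rc_21_1 lc_g_rc_27_0 lc_g_rc_27_0 lc_g_Cert_tree lc_g_Cert_tree lc_g_rc_6_3 lc_g_rc_27_0 lc_g_Cert_tree lc_g_rc_12_3 lc_g_Cert_tree lc_g_rc_27_0 lc_g_Cert_tree lc_g_rc_27_0 lc_g_rc_27_0 lc_g_rc_12_3 lc_g_rc_6_1 lc_g_rc_12_3 lc_g_rc_29_3 lc_g_rc_29_3 lc_g_Cert_tree lc_g_rc_12_3 lc_g_rc_6_1 lc_g_Cert_tree lc_g_rc_29_1 lc_g_rc_27_0 lc_g_Cert_tree lc_g_rc_12_3) (@D3.rec (fun _ => (Cert rels S Gen.g)) lc_g_rc_27_0 lc_g_rc_12_3 lc_g_rc_6_1 lc_g_rc_17_1 lc_g_Cert_tree lc_g_rc_6_1 lc_g_rc_17_1 lc_g_Cert_tree lc_g_Cert_tree lc_g_rc_29_1 lc_g_rc_27_0 lc_g_Cert_tree lc_g_rc_27_0 lc_g_rc_12_3 lc_g_rc_21_1 lc_g_rc_12_5 lc_g_Cert_tree lc_g_rc_6_3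 lc_g_rc_27_0 lc_g_rc_29_3 lc_g_rc_6_1 lc_g_rc_12_1 lc_g_Cert_tree lc_g_Cert_tree lc_g_rc_27_0 lc_g_Cert_tree lc_g_rc_27_0 lc_g_rc_6_1 lc_g_rc_29_1 lc_g_rc_27_0 lc_g_rc_12_3 lc_g_rc_12_3 lc_g_rc_6_3 lc_g_rc_21_3 lc_g_Cert_tree lc_g_rc_27_0 lc_g_rc_6_1 lc_g_rc_21_1 lc_g_Cert_tree lc_g_rc_21_1) (@D3.rec (fun _ => (Cert rels S Gen.g)) lc_g_Cert_tree lc_g_Cert_tree lc_g_rc_21_3 lc_g_rc_27_0 lc_g_rc_6_3 lc_g_rc_24_1 lc_g_rc_27_0 lc_g_rc_12_3 lc_g_Cert_tree lc_g_rc_27_0 lc_g_Cert_tree lc_g_Cert_tree lc_g_rc_27_0 lc_g_rc_12_5 lc_g_rc_12_3 lc_g_rc_6_1 lc_g_Cert_tree lc_g_Cert_tree lc_g_rc_12_1 lc_g_Cert_tree lc_g_rc_27_0 lc_g_Cert_tree lc_g_rc_27_0 lc_g_Cert_tree lc_g_rc_27_0 lc_g_Cert_tree lc_g_Cert_tree lc_g_rc_27_0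 lc_g_rc_27_0 lc_g_rc_12_3 lc_g_Cert_tree lc_g_Cert_tree lc_g_rc_27_0 lc_g_rc_27_0 lc_g_rc_12_3 lc_g_rc_6_1 lc_g_rc_17_1 lc_g_rc_29_3 lc_g_rc_17_1 lc_g_rc_29_3) (@D3.rec (fun _ => (Cert rels S Gen.g)) lc_g_rc_12_3 lc_g_rc_27_0 lc_g_rc_12_3 lc_g_rc_27_1 lc_g_Cert_tree lc_g_rc_12_3 lc_g_rc_6_1 lc_g_rc_17_1 lc_g_rc_21_1 lc_g_rc_6_1 lc_g_rc_29_1 lc_g_rc_21_1 lc_g_Cert_tree lc_g_rc_27_0 lc_g_rc_21_1 lc_g_Cert_tree lc_g_rc_6_1 lc_g_rc_17_1 lc_g_rc_24_1 lc_g_rc_6_1 lc_g_rc_17_1 lc_g_rc_24_1 lc_g_Cert_tree lc_g_Cert_tree lc_g_rc_27_0 lc_g_rc_21_3 lc_g_rc_21_1 lc_g_rc_6_3 lc_g_rc_27_0 lc_g_rc_6_3 lc_g_rc_29_1 lc_g_rc_6_3 lc_g_rc_17_1 lc_g_Cert_tree lc_g_rc_6_3 lc_g_rc_27_0 lc_g_rc_12_3 lc_g_rc_29_3 lc_g_rc_12_3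 lc_g_Cert_tree) (@D3.rec (fun _ => (Cert rels S Gen.g)) lc_g_rc_27_0 lc_g_Cert_tree lc_g_rc_27_0 lc_g_rc_29_1 lc_g_Cert_tree lc_g_rc_27_0 lc_g_rc_21_1 lc_g_Cert_tree lc_g_rc_6_3 lc_g_rc_27_0 lc_g_rc_24_3 lc_g_rc_12_3 lc_g_Cert_tree lc_g_rc_27_0 lc_g_rc_17_1 lc_g_Cert_tree lc_g_rc_27_0 lc_g_rc_6_1 lc_g_rc_6_3 lc_g_Cert_tree lc_g_rc_24_1 lc_g_rc_17_3 lc_g_Cert_tree lc_g_rc_27_0 lc_g_rc_12_3 lc_g_rc_12_3 lc_g_rc_27_0 lc_g_Cert_tree lc_g_rc_27_0 lc_g_rc_27_0 lc_g_rc_27_0 lc_g_rc_12_3 lc_g_rc_26_5 lc_g_rc_12_3 lc_g_rc_6_1 lc_g_Cert_tree lc_g_rc_6_3 lc_g_rc_12_3 lc_g_rc_12_3 lc_g_rc_6_1) (@D3.rec (fun _ => (Cert rels S Gen.g)) lc_g_rc_17_1 lc_g_rc_29_3 lc_g_rc_6_1 lc_g_rc_17_1 lc_g_Cert_tree lc_g_Cert_tree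 lc_g_rc_6_1 lc_g_rc_21_1 lc_g_rc_29_3 lc_g_Cert_tree lc_g_rc_6_1 lc_g_rc_17_1 lc_g_rc_12_3 lc_g_rc_6_1 lc_g_rc_12_5 lc_g_rc_12_1 lc_g_rc_24_3 lc_g_rc_29_3 lc_g_rc_29_1 lc_g_rc_12_3 lc_g_rc_29_1 lc_g_rc_21_3 lc_g_Cert_tree lc_g_rc_27_0 lc_g_Cert_tree lc_g_Cert_tree lc_g_Cert_tree lc_g_rc_27_0 lc_g_rc_17_1 lc_g_rc_6_1 lc_g_rc_29_1 lc_g_Cert_tree lc_g_rc_24_1 lc_g_Cert_tree lc_g_rc_29_1 lc_g_Cert_tree lc_g_rc_27_0 lc_g_rc_21_1 lc_g_rc_6_1 lc_g_rc_27_0) (@D3.rec (fun _ => (Cert rels S Gen.g)) lc_g_rc_6_1 lc_g_Cert_tree lc_g_rc_29_1 lc_g_rc_24_1 lc_g_Cert_tree lc_g_rc_21_1 lc_g_Cert_tree lc_g_Cert_tree lc_g_Cert_tree lc_g_rc_27_0 lc_g_rc_6_1 lc_g_rc_12_3 lc_g_rc_17_1 lc_g_rc_17_1 lc_g_Cert_tree lc_g_Cert_tree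 lc_g_rc_27_0 lc_g_rc_17_3 lc_g_rc_29_3 lc_g_rc_29_1 lc_g_rc_31_8 lc_g_Cert_tree lc_g_rc_6_3 lc_g_rc_21_1 lc_g_rc_6_3 lc_g_rc_17_1 lc_g_Cert_tree lc_g_rc_27_0 lc_g_rc_29_3 lc_g_rc_26_7 lc_g_rc_17_3 lc_g_rc_27_0 lc_g_rc_17_3 lc_g_rc_17_1 lc_g_rc_24_1 lc_g_rc_12_5 lc_g_rc_27_0 lc_g_rc_6_3 lc_g_rc_6_3 lc_g_rc_29_3) (@D3.rec (fun _ => (Cert rels S Gen.g)) lc_g_rc_27_0 lc_g_rc_12_3 lc_g_rc_6_1 lc_g_rc_24_1 lc_g_rc_6_3 lc_g_rc_27_0 lc_g_Cert_tree lc_g_Cert_tree lc_g_Cert_tree lc_g_rc_27_0 lc_g_rc_17_3 lc_g_Cert_tree lc_g_rc_27_0 lc_g_rc_21_3 lc_g_rc_27_0 lc_g_rc_12_3 lc_g_rc_6_1 lc_g_Cert_tree lc_g_rc_26_3 lc_g_rc_26_7 lc_g_rc_12_1 lc_g_rc_27_0 lc_g_rc_17_1 lc_g_rc_6_1 lc_g_rc_27_0 lc_g_rc_12_3 lc_g_rc_17_1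 lc_g_rc_12_3 lc_g_rc_29_3 lc_g_rc_17_1 lc_g_rc_29_3 lc_g_rc_24_1 lc_g_rc_17_1 lc_g_rc_29_1 lc_g_rc_27_0 lc_g_Cert_tree lc_g_rc_17_3 lc_g_rc_17_3 lc_g_rc_31_5 lc_g_rc_29_3) (@D3.rec (fun _ => (Cert rels S Gen.g)) lc_g_Cert_tree lc_g_rc_29_1 lc_g_Cert_tree lc_g_rc_27_0 lc_g_rc_29_1 lc_g_Cert_tree lc_g_rc_17_3 lc_g_rc_27_0 lc_g_rc_12_3 lc_g_rc_6_1 lc_g_Cert_tree lc_g_Cert_tree lc_g_Cert_tree lc_g_rc_27_0 lc_g_rc_12_5 lc_g_Cert_tree lc_g_rc_27_0 lc_g_Cert_tree lc_g_Cert_tree lc_g_Cert_tree lc_g_rc_27_0 lc_g_rc_27_0 lc_g_rc_17_1 lc_g_rc_27_0 lc_g_Cert_tree lc_g_rc_27_0 lc_g_rc_17_3 lc_g_rc_6_3 lc_g_rc_27_0 lc_g_rc_12_3 lc_g_rc_12_3 lc_g_rc_12_3 lc_g_rc_12_3 lc_g_rc_29_3 lc_g_Cert_tree lc_g_rc_24_1 lc_g_rc_6_3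 lc_g_rc_6_3 lc_g_rc_29_1 lc_g_rc_17_1) (@D3.rec (fun _ => (Cert rels S Gen.g)) lc_g_Cert_tree lc_g_rc_27_0 lc_g_rc_27_0 lc_g_rc_29_3 lc_g_rc_29_3 lc_g_rc_29_3 lc_g_rc_29_3 lc_g_rc_27_0 lc_g_rc_29_1 lc_g_rc_24_3 lc_g_Cert_tree lc_g_rc_12_3 lc_g_Cert_tree lc_g_rc_6_3 lc_g_Cert_tree lc_g_rc_27_0 lc_g_rc_26_3 lc_g_rc_17_1 lc_g_rc_12_1 lc_g_Cert_tree lc_g_rc_27_0 lc_g_rc_12_3 lc_g_rc_21_1 lc_g_Cert_tree lc_g_rc_27_0 lc_g_rc_12_3 lc_g_rc_12_3 lc_g_rc_24_1 lc_g_rc_24_3 lc_g_rc_29_1 lc_g_Cert_tree lc_g_rc_27_0 lc_g_rc_12_3 lc_g_rc_29_3 lc_g_rc_17_1 lc_g_rc_29_3 lc_g_Cert_tree lc_g_rc_12_3 lc_g_rc_29_1 lc_g_Cert_tree) (@D3.rec (fun _ => (Cert rels S Gen.g)) lc_g_rc_27_0 lc_g_rc_12_3 lc_g_rc_12_1 lc_g_rc_17_1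 lc_g_Cert_tree lc_g_rc_12_3 lc_g_rc_29_3 lc_g_rc_21_1 lc_g_rc_29_3 lc_g_rc_31_8 lc_g_rc_29_1 lc_g_Cert_tree lc_g_rc_27_0 lc_g_rc_31_2 lc_g_Cert_tree lc_g_rc_6_3 lc_g_rc_27_0 lc_g_Cert_tree lc_g_rc_27_0 lc_g_rc_6_1 lc_g_rc_27_0 lc_g_rc_12_3 lc_g_rc_29_3 lc_g_Cert_tree lc_g_rc_12_3 lc_g_Cert_tree lc_g_Cert_tree lc_g_rc_27_0 lc_g_rc_6_1 lc_g_rc_17_1 lc_g_rc_29_3 lc_g_Cert_tree lc_g_Cert_tree lc_g_rc_27_0 lc_g_Cert_tree lc_g_rc_27_0 lc_g_rc_6_1 lc_g_Cert_tree lc_g_rc_6_1 lc_g_rc_29_1) (@D3.rec (fun _ => (Cert rels S Gen.g)) lc_g_rc_21_1 lc_g_Cert_tree lc_g_rc_27_0 lc_g_rc_6_3 lc_g_rc_27_0 lc_g_Cert_tree lc_g_Cert_tree lc_g_rc_27_0 lc_g_rc_26_5 lc_g_Cert_tree lc_g_Cert_tree lc_g_rc_27_0 lc_g_rc_12_3 lc_g_rc_6_1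 lc_g_rc_12_3 lc_g_rc_27_0 lc_g_rc_12_1 lc_g_rc_6_1 lc_g_rc_29_1 lc_g_rc_27_0 lc_g_rc_29_1 lc_g_rc_26_7 lc_g_Cert_tree lc_g_Cert_tree lc_g_rc_27_0 lc_g_rc_12_1 lc_g_rc_21_3 lc_g_rc_17_1 lc_g_rc_29_1 lc_g_rc_31_11 lc_g_rc_27_0 lc_g_rc_12_3 lc_g_rc_6_1 lc_g_rc_17_1 lc_g_rc_12_3 lc_g_rc_17_1 lc_g_rc_6_1 lc_g_rc_29_1 lc_g_rc_29_3 lc_g_Cert_tree) (@D3.rec (fun _ => (Cert rels S Gen.g)) lc_g_Cert_tree lc_g_rc_27_0 lc_g_Cert_tree lc_g_Cert_tree lc_g_rc_27_0 lc_g_rc_17_3 lc_g_rc_29_3 lc_g_rc_17_1 lc_g_rc_29_3 lc_g_Cert_tree lc_g_rc_6_1 lc_g_rc_29_1 lc_g_rc_21_1 lc_g_Cert_tree lc_g_rc_27_0 lc_g_Cert_tree lc_g_Cert_tree lc_g_rc_27_0 lc_g_rc_17_1 lc_g_rc_24_1 lc_g_rc_29_3 lc_g_Cert_tree lc_g_rc_29_1 lc_g_Cert_tree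 lc_g_rc_27_0 lc_g_rc_12_5 lc_g_Cert_tree lc_g_rc_27_0 lc_g_Cert_tree lc_g_rc_27_0 lc_g_rc_6_1 lc_g_rc_27_0 lc_g_rc_24_1 lc_g_Cert_tree lc_g_Cert_tree lc_g_Cert_tree lc_g_rc_27_0 lc_g_rc_17_1 lc_g_rc_29_1 lc_g_Cert_tree) (@D3.rec (fun _ => (Cert rels S Gen.g)) lc_g_rc_27_0 lc_g_rc_27_0 lc_g_rc_12_3 lc_g_rc_17_1 lc_g_rc_24_3 lc_g_Cert_tree lc_g_rc_29_3 lc_g_rc_21_1 lc_g_rc_29_3 lc_g_rc_27_0 lc_g_Cert_tree lc_g_rc_6_1 lc_g_rc_29_1 lc_g_rc_17_1 lc_g_rc_24_1 lc_g_Cert_tree lc_g_Cert_tree lc_g_rc_27_0 lc_g_rc_6_1 lc_g_rc_27_0 lc_g_rc_26_5 lc_g_Cert_tree lc_g_Cert_tree lc_g_Cert_tree lc_g_rc_27_0 lc_g_rc_17_1 lc_g_rc_29_3 lc_g_rc_21_1 lc_g_rc_6_1 lc_g_rc_29_3 lc_g_Cert_tree lc_g_Cert_tree lc_g_rc_27_0 lc_g_rc_12_3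 lc_g_rc_29_1 lc_g_Cert_tree lc_g_rc_27_0 lc_g_rc_6_1 lc_g_Cert_tree lc_g_Cert_tree) (@D3.rec (fun _ => (Cert rels S Gen.g)) lc_g_rc_27_0 lc_g_Cert_tree lc_g_Cert_tree lc_g_rc_27_0 lc_g_rc_12_3 lc_g_rc_6_1 lc_g_rc_31_8 lc_g_rc_27_0 lc_g_rc_12_3 lc_g_rc_29_3 lc_g_rc_21_3 lc_g_Cert_tree lc_g_rc_27_0 lc_g_rc_27_0 lc_g_rc_12_3 lc_g_rc_6_1 lc_g_rc_17_1 lc_g_rc_12_1 lc_g_Cert_tree lc_g_Cert_tree lc_g_rc_27_0 lc_g_rc_27_0 lc_g_rc_12_3 lc_g_rc_17_1 lc_g_rc_12_3 lc_g_rc_17_3 lc_g_Cert_tree lc_g_Cert_tree lc_g_rc_29_3 lc_g_rc_21_1 lc_g_rc_29_3 lc_g_Cert_tree lc_g_Cert_tree lc_g_Cert_tree lc_g_rc_27_0 lc_g_rc_12_1 lc_g_rc_27_0 lc_g_Cert_tree lc_g_rc_6_1 lc_g_rc_29_1) (@D3.rec (fun _ => (Cert rels S Gen.g)) lc_g_rc_6_1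 lc_g_rc_17_1 lc_g_rc_24_1 lc_g_Cert_tree lc_g_Cert_tree lc_g_rc_27_0 lc_g_rc_12_3 lc_g_Cert_tree lc_g_rc_27_0 lc_g_rc_29_3 lc_g_rc_24_1 lc_g_rc_17_3 lc_g_rc_27_0 lc_g_rc_29_1 lc_g_Cert_tree lc_g_rc_29_1 lc_g_Cert_tree lc_g_rc_27_0 lc_g_rc_29_1 lc_g_rc_21_1 lc_g_rc_29_1 lc_g_rc_17_3 lc_g_Cert_tree lc_g_rc_27_0 lc_g_Cert_tree lc_g_rc_27_0 lc_g_rc_12_3 lc_g_Cert_tree lc_g_rc_29_1 lc_g_Cert_tree lc_g_rc_27_0 lc_g_rc_12_3 lc_g_rc_6_1 lc_g_rc_17_1 lc_g_Cert_tree lc_g_Cert_tree lc_g_rc_27_0 lc_g_Cert_tree lc_g_Cert_tree lc_g_rc_27_0) (@D3.rec (fun _ => (Cert rels S Gen.g)) lc_g_rc_12_3 lc_g_Cert_tree lc_g_Cert_tree lc_g_rc_27_0 lc_g_rc_12_3 lc_g_rc_6_1 lc_g_Cert_tree lc_g_rc_12_3 lc_g_rc_17_1 lc_g_Cert_tree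 lc_g_rc_27_0 lc_g_Cert_tree lc_g_Cert_tree lc_g_rc_27_0 lc_g_rc_27_0 lc_g_rc_12_3 lc_g_rc_6_1 lc_g_rc_6_3 lc_g_rc_6_1 lc_g_rc_17_1 lc_g_rc_29_3 lc_g_rc_29_3 lc_g_rc_6_3 lc_g_rc_27_0 lc_g_Cert_tree lc_g_Cert_tree lc_g_rc_27_0 lc_g_rc_27_0 lc_g_rc_12_3 lc_g_rc_29_3 lc_g_Cert_tree lc_g_rc_21_1 lc_g_rc_27_0 lc_g_rc_27_0 lc_g_rc_12_3 lc_g_rc_6_1 lc_g_rc_17_1 lc_g_Cert_tree lc_g_rc_12_1 lc_g_rc_6_1) (@D3.rec (fun _ => (Cert rels S Gen.g)) lc_g_rc_29_1 lc_g_rc_21_1 lc_g_rc_17_1 lc_g_Cert_tree lc_g_Cert_tree lc_g_Cert_tree lc_g_Cert_tree lc_g_rc_27_0 lc_g_Cert_tree lc_g_rc_27_0 lc_g_rc_27_0 lc_g_rc_12_3 lc_g_rc_17_1 lc_g_rc_21_1 lc_g_rc_6_1 lc_g_rc_29_3 lc_g_rc_29_3 lc_g_Cert_tree lc_g_Cert_tree lc_g_rc_12_3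 lc_g_Cert_tree lc_g_Cert_tree lc_g_rc_27_0 lc_g_rc_29_1 lc_g_Cert_tree lc_g_rc_12_1 lc_g_rc_27_0 lc_g_Cert_tree lc_g_rc_29_3 lc_g_rc_17_1 lc_g_rc_24_1 lc_g_rc_29_3 lc_g_Cert_tree lc_g_rc_29_1 lc_g_Cert_tree lc_g_rc_27_0 lc_g_Cert_tree lc_g_rc_27_0 lc_g_Cert_tree lc_g_rc_27_0) (@D3.rec (fun _ => (Cert rels S Gen.g)) lc_g_rc_6_1 lc_g_Cert_tree lc_g_rc_27_1 lc_g_rc_27_0 lc_g_Cert_tree lc_g_Cert_tree lc_g_rc_27_1 lc_g_rc_27_0 lc_g_rc_27_0 lc_g_rc_29_3 lc_g_Cert_tree lc_g_Cert_tree lc_g_Cert_tree lc_g_rc_27_0 lc_g_rc_17_1 lc_g_rc_6_1 lc_g_rc_29_1 lc_g_Cert_tree lc_g_rc_6_1 lc_g_Cert_tree lc_g_rc_21_1 lc_g_rc_17_1 lc_g_Cert_tree lc_g_Cert_tree lc_g_rc_27_0 lc_g_rc_12_3 lc_g_rc_6_1 lc_g_rc_17_1 lc_g_rc_27_0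 lc_g_rc_29_1 lc_g_rc_6_1 lc_g_rc_29_1 lc_g_Cert_tree lc_g_rc_12_1 lc_g_Cert_tree lc_g_rc_27_0 lc_g_Cert_tree lc_g_rc_27_0 lc_g_rc_6_1 lc_g_rc_26_3)
def ce_g_7 : D2 → D3 → (Cert rels S Gen.g) := @D2.rec (fun _ => D3 → (Cert rels S Gen.g)) (@D3.rec (fun _ => (Cert rels S Gen.g)) lc_g_Cert_tree lc_g_rc_27_0 lc_g_rc_6_1 lc_g_rc_6_3 lc_g_rc_27_0 lc_g_rc_21_3 lc_g_Cert_tree lc_g_rc_27_0 lc_g_rc_6_3 lc_g_rc_27_0 lc_g_rc_29_3 lc_g_Cert_tree lc_g_rc_17_1 lc_g_rc_6_3 lc_g_rc_29_1 lc_g_Cert_tree lc_g_Cert_tree lc_g_Cert_tree lc_g_rc_27_0 lc_g_rc_12_1 lc_g_rc_29_1 lc_g_Cert_tree lc_g_rc_27_0 lc_g_Cert_tree lc_g_Cert_tree lc_g_rc_31_14 lc_g_Cert_tree lc_g_rc_27_0 lc_g_rc_24_1 lc_g_rc_29_3 lc_g_rc_17_3 lc_g_rc_6_1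 lc_g_rc_27_0 lc_g_Cert_tree lc_g_rc_27_0 lc_g_rc_29_1 lc_g_rc_27_0 lc_g_rc_12_3 lc_g_Cert_tree lc_g_rc_12_3) (@D3.rec (fun _ => (Cert rels S Gen.g)) lc_g_rc_6_1 lc_g_rc_17_1 lc_g_Cert_tree lc_g_rc_29_1 lc_g_Cert_tree lc_g_rc_12_1 lc_g_rc_27_0 lc_g_Cert_tree lc_g_rc_29_1 lc_g_Cert_tree lc_g_Cert_tree lc_g_rc_27_0 lc_g_rc_12_3 lc_g_rc_29_3 lc_g_rc_17_1 lc_g_rc_29_3 lc_g_rc_6_1 lc_g_rc_29_1 lc_g_rc_21_1 lc_g_Cert_tree lc_g_rc_27_0 lc_g_Cert_tree lc_g_rc_26_3 lc_g_rc_27_0 lc_g_Cert_tree lc_g_Cert_tree lc_g_rc_17_3 lc_g_rc_27_0 lc_g_rc_27_0 lc_g_rc_12_3 lc_g_Cert_tree lc_g_Cert_tree lc_g_Cert_tree lc_g_rc_27_0 lc_g_Cert_tree lc_g_Cert_tree lc_g_rc_27_0 lc_g_rc_12_3 lc_g_rc_17_1 lc_g_Cert_tree) (@D3.rec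 (fun _ => (Cert rels S Gen.g)) lc_g_Cert_tree lc_g_Cert_tree lc_g_rc_27_0 lc_g_rc_27_0 lc_g_rc_6_1 lc_g_Cert_tree lc_g_rc_6_3 lc_g_Cert_tree lc_g_rc_27_0 lc_g_Cert_tree lc_g_rc_6_1 lc_g_rc_29_1 lc_g_Cert_tree lc_g_rc_27_0 lc_g_Cert_tree lc_g_Cert_tree lc_g_rc_27_0 lc_g_rc_12_3 lc_g_Cert_tree lc_g_rc_29_1 lc_g_Cert_tree lc_g_Cert_tree lc_g_Cert_tree lc_g_rc_27_0 lc_g_rc_17_1 lc_g_rc_24_1 lc_g_Cert_tree lc_g_Cert_tree lc_g_rc_6_3 lc_g_rc_27_0 lc_g_Cert_tree lc_g_Cert_tree lc_g_Cert_tree lc_g_rc_27_0 lc_g_rc_27_0 lc_g_rc_29_3 lc_g_Cert_tree lc_g_Cert_tree lc_g_Cert_tree lc_g_rc_27_0) (@D3.rec (fun _ => (Cert rels S Gen.g)) lc_g_rc_6_1 lc_g_Cert_tree lc_g_rc_27_0 lc_g_rc_27_0 lc_g_rc_6_1 lc_g_rc_6_1 lc_g_rc_6_3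 lc_g_Cert_tree lc_g_Cert_tree lc_g_Cert_tree lc_g_rc_29_1 lc_g_Cert_tree lc_g_Cert_tree lc_g_Cert_tree lc_g_rc_27_0 lc_g_rc_17_1 lc_g_rc_29_3 lc_g_Cert_tree lc_g_Cert_tree lc_g_rc_6_3 lc_g_rc_27_0 lc_g_Cert_tree lc_g_Cert_tree lc_g_Cert_tree lc_g_rc_27_0 lc_g_rc_27_0 lc_g_rc_29_3 lc_g_Cert_tree lc_g_Cert_tree lc_g_Cert_tree lc_g_rc_27_0 lc_g_rc_12_3 lc_g_rc_17_1 lc_g_Cert_tree lc_g_rc_17_1 lc_g_rc_12_3 lc_g_rc_17_1 lc_g_Cert_tree lc_g_rc_17_1 lc_g_rc_21_3) (@D3.rec (fun _ => (Cert rels S Gen.g)) lc_g_rc_6_3 lc_g_rc_27_0 lc_g_Cert_tree lc_g_rc_27_0 lc_g_rc_21_1 lc_g_rc_17_3 lc_g_rc_6_3 lc_g_Cert_tree lc_g_rc_27_0 lc_g_rc_6_1 lc_g_rc_21_1 lc_g_rc_17_1 lc_g_rc_12_1 lc_g_rc_12_1 lc_g_rc_29_1 lc_g_rc_27_0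 lc_g_rc_6_3 lc_g_Cert_tree lc_g_rc_27_0 lc_g_rc_27_0 lc_g_rc_6_1 lc_g_rc_24_3 lc_g_rc_27_0 lc_g_rc_12_3 lc_g_rc_24_1 lc_g_rc_27_0 lc_g_rc_21_3 lc_g_rc_21_1 lc_g_rc_21_1 lc_g_Cert_tree lc_g_rc_27_0 lc_g_rc_12_3 lc_g_rc_29_1 lc_g_rc_6_1 lc_g_rc_12_3 lc_g_rc_17_1 lc_g_rc_6_1 lc_g_rc_29_1 lc_g_rc_12_5 lc_g_rc_17_1) (@D3.rec (fun _ => (Cert rels S Gen.g)) lc_g_rc_29_1 lc_g_Cert_tree lc_g_rc_27_0 lc_g_rc_17_1 lc_g_rc_17_1 lc_g_rc_12_3 lc_g_rc_12_3 lc_g_rc_27_0 lc_g_rc_17_1 lc_g_rc_29_3 lc_g_rc_24_1 lc_g_rc_29_3 lc_g_rc_27_1 lc_g_rc_29_1 lc_g_Cert_tree lc_g_rc_27_0 lc_g_rc_6_1 lc_g_rc_12_5 lc_g_rc_27_0 lc_g_rc_29_1 lc_g_Cert_tree lc_g_rc_27_0 lc_g_Cert_tree lc_g_rc_27_0 lc_g_rc_26_5 lc_g_rc_29_3 lc_g_rc_27_0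 lc_g_rc_12_3 lc_g_rc_6_1 lc_g_rc_31_5 lc_g_rc_12_1 lc_g_rc_6_1 lc_g_rc_21_3 lc_g_rc_17_1 lc_g_rc_21_1 lc_g_rc_12_3 lc_g_rc_6_1 lc_g_rc_29_1 lc_g_rc_6_3 lc_g_rc_17_1) (@D3.rec (fun _ => (Cert rels S Gen.g)) lc_g_Cert_tree lc_g_Cert_tree lc_g_rc_27_0 lc_g_rc_27_0 lc_g_rc_26_5 lc_g_rc_21_1 lc_g_rc_27_0 lc_g_rc_26_3 lc_g_rc_21_1 lc_g_Cert_tree lc_g_rc_6_3 lc_g_rc_27_0 lc_g_rc_29_1 lc_g_Cert_tree lc_g_Cert_tree lc_g_rc_27_0 lc_g_rc_27_0 lc_g_rc_29_3 lc_g_rc_17_1 lc_g_rc_24_1 lc_g_rc_6_3 lc_g_rc_12_3 lc_g_rc_17_1 lc_g_rc_21_1 lc_g_rc_21_1 lc_g_rc_17_1 lc_g_rc_17_3 lc_g_rc_27_0 lc_g_Cert_tree lc_g_rc_29_3 lc_g_rc_17_1 lc_g_rc_24_1 lc_g_rc_29_3 lc_g_rc_29_1 lc_g_rc_31_5 lc_g_Cert_tree lc_g_rc_21_3 lc_g_rc_17_1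 lc_g_rc_27_0 lc_g_rc_17_1) (@D3.rec (fun _ => (Cert rels S Gen.g)) lc_g_rc_6_1 lc_g_rc_29_1 lc_g_Cert_tree lc_g_Cert_tree lc_g_Cert_tree lc_g_Cert_tree lc_g_rc_27_0 lc_g_rc_27_0 lc_g_rc_12_3 lc_g_rc_17_1 lc_g_rc_12_1 lc_g_rc_12_5 lc_g_rc_6_3 lc_g_rc_12_1 lc_g_rc_6_3 lc_g_rc_6_3 lc_g_rc_27_0 lc_g_rc_29_1 lc_g_Cert_tree lc_g_rc_29_3 lc_g_rc_27_0 lc_g_rc_27_0 lc_g_rc_29_3 lc_g_rc_17_1 lc_g_rc_12_3 lc_g_rc_24_1 lc_g_Cert_tree lc_g_Cert_tree lc_g_rc_27_0 lc_g_Cert_tree lc_g_rc_27_0 lc_g_rc_17_1 lc_g_rc_6_1 lc_g_Cert_tree lc_g_rc_29_1 lc_g_Cert_tree lc_g_Cert_tree lc_g_rc_27_0 lc_g_rc_12_3 lc_g_rc_6_1) (@D3.rec (fun _ => (Cert rels S Gen.g)) lc_g_rc_17_1 lc_g_Cert_tree lc_g_rc_17_1 lc_g_rc_27_0 lc_g_Cert_tree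 lc_g_Cert_tree lc_g_rc_27_0 lc_g_rc_12_3 lc_g_rc_27_0 lc_g_rc_27_0 lc_g_rc_12_3 lc_g_rc_6_1 lc_g_rc_24_3 lc_g_rc_27_1 lc_g_rc_27_1 lc_g_rc_17_1 lc_g_rc_21_1 lc_g_rc_12_3 lc_g_rc_12_3 lc_g_rc_27_0 lc_g_rc_12_3 lc_g_rc_6_1 lc_g_rc_12_3 lc_g_rc_6_1 lc_g_rc_17_1 lc_g_Cert_tree lc_g_Cert_tree lc_g_rc_6_3 lc_g_rc_6_1 lc_g_rc_21_1 lc_g_rc_29_3 lc_g_rc_29_3 lc_g_Cert_tree lc_g_Cert_tree lc_g_rc_6_3 lc_g_rc_27_0 lc_g_rc_12_3 lc_g_rc_21_3 lc_g_Cert_tree lc_g_Cert_tree) (@D3.rec (fun _ => (Cert rels S Gen.g)) lc_g_Cert_tree lc_g_rc_27_0 lc_g_Cert_tree lc_g_rc_27_0 lc_g_rc_27_0 lc_g_rc_12_3 lc_g_rc_6_1 lc_g_rc_12_3 lc_g_rc_29_3 lc_g_rc_17_1 lc_g_rc_27_0 lc_g_rc_12_3 lc_g_rc_6_1 lc_g_Cert_tree lc_g_rc_31_8 lc_g_rc_6_1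 lc_g_rc_6_3 lc_g_rc_21_1 lc_g_rc_26_5 lc_g_rc_27_0 lc_g_rc_17_1 lc_g_rc_6_1 lc_g_rc_6_1 lc_g_rc_29_1 lc_g_rc_17_1 lc_g_rc_24_1 lc_g_rc_6_3 lc_g_Cert_tree lc_g_Cert_tree lc_g_rc_27_0 lc_g_rc_12_3 lc_g_rc_27_0 lc_g_rc_12_3 lc_g_rc_17_1 lc_g_rc_6_1 lc_g_rc_12_3 lc_g_rc_12_3 lc_g_rc_6_1 lc_g_rc_6_1 lc_g_rc_17_1) (@D3.rec (fun _ => (Cert rels S Gen.g)) lc_g_rc_6_1 lc_g_Cert_tree lc_g_Cert_tree lc_g_rc_21_1 lc_g_Cert_tree lc_g_rc_26_1 lc_g_rc_27_0 lc_g_rc_12_1 lc_g_rc_12_1 lc_g_Cert_tree lc_g_rc_27_0 lc_g_rc_6_3 lc_g_rc_6_1 lc_g_rc_17_1 lc_g_rc_12_3 lc_g_Cert_tree lc_g_rc_29_1 lc_g_rc_17_1 lc_g_Cert_tree lc_g_rc_27_0 lc_g_Cert_tree lc_g_rc_27_0 lc_g_rc_17_3 lc_g_rc_12_3 lc_g_Cert_tree lc_g_rc_17_1 lc_g_rc_17_1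 lc_g_rc_27_0 lc_g_Cert_tree lc_g_Cert_tree lc_g_Cert_tree lc_g_rc_27_0 lc_g_rc_17_1 lc_g_rc_29_3 lc_g_Cert_tree lc_g_rc_21_1 lc_g_rc_17_1 lc_g_rc_6_1 lc_g_rc_29_3 lc_g_Cert_tree) (@D3.rec (fun _ => (Cert rels S Gen.g)) lc_g_Cert_tree lc_g_Cert_tree lc_g_rc_27_0 lc_g_rc_29_1 lc_g_rc_12_5 lc_g_rc_27_0 lc_g_rc_21_3 lc_g_rc_27_0 lc_g_rc_21_1 lc_g_Cert_tree lc_g_rc_27_0 lc_g_rc_12_3 lc_g_rc_6_1 lc_g_Cert_tree lc_g_rc_6_1 lc_g_rc_27_0 lc_g_Cert_tree lc_g_rc_29_1 lc_g_Cert_tree lc_g_rc_27_0 lc_g_rc_6_3 lc_g_rc_6_1 lc_g_Cert_tree lc_g_rc_12_3 lc_g_rc_17_1 lc_g_Cert_tree lc_g_Cert_tree lc_g_rc_6_3 lc_g_rc_27_0 lc_g_Cert_tree lc_g_Cert_tree lc_g_Cert_tree lc_g_rc_27_0 lc_g_Cert_tree lc_g_rc_27_0 lc_g_rc_29_3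 lc_g_Cert_tree lc_g_rc_17_1 lc_g_rc_6_3 lc_g_rc_29_1) (@D3.rec (fun _ => (Cert rels S Gen.g)) lc_g_rc_12_1 lc_g_rc_27_0 lc_g_rc_6_1 lc_g_Cert_tree lc_g_Cert_tree lc_g_Cert_tree lc_g_Cert_tree lc_g_rc_27_0 lc_g_rc_24_1 lc_g_rc_29_1 lc_g_rc_21_1 lc_g_Cert_tree lc_g_rc_27_0 lc_g_rc_27_0 lc_g_rc_12_3 lc_g_rc_6_1 lc_g_rc_17_1 lc_g_Cert_tree lc_g_rc_6_1 lc_g_rc_21_1 lc_g_rc_17_1 lc_g_rc_27_0 lc_g_rc_17_1 lc_g_rc_24_3 lc_g_rc_27_0 lc_g_rc_29_3 lc_g_Cert_tree lc_g_rc_27_0 lc_g_Cert_tree lc_g_Cert_tree lc_g_rc_27_0 lc_g_rc_26_7 lc_g_Cert_tree lc_g_rc_26_3 lc_g_Cert_tree lc_g_rc_27_0 lc_g_rc_6_1 lc_g_Cert_tree lc_g_Cert_tree lc_g_rc_6_3) (@D3.rec (fun _ => (Cert rels S Gen.g)) lc_g_rc_27_0 lc_g_Cert_tree lc_g_rc_21_1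 lc_g_rc_12_3 lc_g_Cert_tree lc_g_Cert_tree lc_g_rc_27_0 lc_g_Cert_tree lc_g_rc_27_0 lc_g_rc_6_3 lc_g_rc_27_0 lc_g_rc_6_1 lc_g_rc_29_1 lc_g_rc_12_1 lc_g_rc_6_1 lc_g_rc_21_1 lc_g_Cert_tree lc_g_Cert_tree lc_g_rc_27_0 lc_g_rc_6_1 lc_g_Cert_tree lc_g_rc_27_0 lc_g_rc_17_3 lc_g_rc_27_0 lc_g_rc_27_0 lc_g_rc_17_1 lc_g_rc_21_1 lc_g_rc_29_1 lc_g_rc_12_5 lc_g_Cert_tree lc_g_rc_27_0 lc_g_rc_12_3 lc_g_rc_29_1 lc_g_rc_6_3 lc_g_Cert_tree lc_g_rc_29_1 lc_g_Cert_tree lc_g_rc_27_0 lc_g_rc_6_3 lc_g_Cert_tree) (@D3.rec (fun _ => (Cert rels S Gen.g)) lc_g_rc_27_0 lc_g_rc_31_2 lc_g_rc_6_3 lc_g_rc_6_1 lc_g_rc_27_0 lc_g_rc_12_3 lc_g_Cert_tree lc_g_rc_12_3 lc_g_rc_17_1 lc_g_rc_6_1 lc_g_rc_26_5 lc_g_rc_29_1 lc_g_rc_6_3 lc_g_rc_24_3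 lc_g_rc_27_0 lc_g_Cert_tree lc_g_rc_29_1 lc_g_rc_21_1 lc_g_rc_24_1 lc_g_rc_12_3 lc_g_rc_29_3 lc_g_rc_17_1 lc_g_rc_6_1 lc_g_rc_26_1 lc_g_rc_21_1 lc_g_Cert_tree lc_g_rc_27_0 lc_g_rc_6_3 lc_g_Cert_tree lc_g_rc_21_3 lc_g_rc_6_1 lc_g_rc_27_0 lc_g_rc_26_3 lc_g_Cert_tree lc_g_rc_12_5 lc_g_rc_27_0 lc_g_rc_29_1 lc_g_Cert_tree lc_g_Cert_tree lc_g_rc_27_0) (@D3.rec (fun _ => (Cert rels S Gen.g)) lc_g_rc_27_0 lc_g_rc_27_1 lc_g_rc_6_1 lc_g_rc_12_3 lc_g_Cert_tree lc_g_rc_29_3 lc_g_rc_21_1 lc_g_rc_29_3 lc_g_rc_6_1 lc_g_rc_29_1 lc_g_rc_17_1 lc_g_rc_24_1 lc_g_rc_6_1 lc_g_Cert_tree lc_g_rc_27_0 lc_g_rc_12_3 lc_g_rc_29_1 lc_g_rc_6_3 lc_g_rc_29_1 lc_g_rc_17_3 lc_g_rc_27_0 lc_g_rc_6_1 lc_g_rc_21_3 lc_g_rc_12_3 lc_g_rc_17_1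 lc_g_rc_12_1 lc_g_rc_17_1 lc_g_rc_6_3 lc_g_rc_27_0 lc_g_rc_29_3 lc_g_Cert_tree lc_g_Cert_tree lc_g_rc_27_0 lc_g_rc_27_0 lc_g_rc_12_3 lc_g_rc_29_3 lc_g_rc_27_0 lc_g_rc_29_3 lc_g_Cert_tree lc_g_rc_21_1) (@D3.rec (fun _ => (Cert rels S Gen.g)) lc_g_Cert_tree lc_g_Cert_tree lc_g_Cert_tree lc_g_rc_27_0 lc_g_Cert_tree lc_g_rc_27_0 lc_g_rc_29_3 lc_g_rc_6_1 lc_g_rc_31_8 lc_g_Cert_tree lc_g_Cert_tree lc_g_rc_27_0 lc_g_rc_12_1 lc_g_rc_29_1 lc_g_rc_27_0 lc_g_Cert_tree lc_g_rc_6_1 lc_g_Cert_tree lc_g_rc_27_0 lc_g_rc_27_0 lc_g_rc_27_0 lc_g_rc_27_0 lc_g_rc_6_1 lc_g_rc_27_0 lc_g_rc_6_1 lc_g_rc_17_1 lc_g_Cert_tree lc_g_rc_27_0 lc_g_rc_12_3 lc_g_rc_6_1 lc_g_rc_17_1 lc_g_rc_27_1 lc_g_rc_12_3 lc_g_rc_17_3 lc_g_rc_27_0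 lc_g_rc_29_1 lc_g_rc_17_3 lc_g_rc_6_3 lc_g_rc_27_0 lc_g_Cert_tree) (@D3.rec (fun _ => (Cert rels S Gen.g)) lc_g_Cert_tree lc_g_rc_27_0 lc_g_rc_27_0 lc_g_rc_27_0 lc_g_rc_29_3 lc_g_Cert_tree lc_g_rc_17_1 lc_g_Cert_tree lc_g_Cert_tree lc_g_rc_27_0 lc_g_Cert_tree lc_g_Cert_tree lc_g_rc_6_3 lc_g_rc_27_0 lc_g_rc_12_3 lc_g_rc_12_3 lc_g_Cert_tree lc_g_Cert_tree lc_g_rc_27_0 lc_g_Cert_tree lc_g_rc_27_0 lc_g_rc_27_0 lc_g_rc_6_1 lc_g_rc_12_3 lc_g_Cert_tree lc_g_Cert_tree lc_g_rc_6_3 lc_g_rc_27_0 lc_g_Cert_tree lc_g_Cert_tree lc_g_rc_27_0 lc_g_rc_27_0 lc_g_rc_29_3 lc_g_rc_21_1 lc_g_rc_12_3 lc_g_rc_21_1 lc_g_Cert_tree lc_g_rc_12_3 lc_g_rc_21_1 lc_g_rc_6_3) (@D3.rec (fun _ => (Cert rels S Gen.g)) lc_g_rc_27_0 lc_g_rc_29_3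 lc_g_rc_6_3 lc_g_rc_24_1 lc_g_rc_27_0 lc_g_rc_21_1 lc_g_Cert_tree lc_g_rc_29_1 lc_g_Cert_tree lc_g_rc_27_0 lc_g_rc_26_1 lc_g_rc_12_5 lc_g_rc_27_0 lc_g_rc_29_3 lc_g_rc_12_1 lc_g_rc_6_3 lc_g_rc_27_0 lc_g_rc_26_3 lc_g_Cert_tree lc_g_rc_12_1 lc_g_rc_27_0 lc_g_rc_27_0 lc_g_rc_29_3 lc_g_Cert_tree lc_g_rc_17_1 lc_g_Cert_tree lc_g_Cert_tree lc_g_rc_27_0 lc_g_rc_12_5 lc_g_Cert_tree lc_g_rc_6_3 lc_g_rc_27_0 lc_g_rc_17_1 lc_g_rc_12_3 lc_g_rc_31_5 lc_g_rc_12_1 lc_g_Cert_tree lc_g_Cert_tree lc_g_rc_27_0 lc_g_rc_27_0) (@D3.rec (fun _ => (Cert rels S Gen.g)) lc_g_rc_6_1 lc_g_rc_12_3 lc_g_Cert_tree lc_g_Cert_tree lc_g_rc_6_3 lc_g_rc_27_0 lc_g_Cert_tree lc_g_Cert_tree lc_g_rc_27_0 lc_g_rc_27_0 lc_g_rc_29_3 lc_g_Cert_tree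 lc_g_rc_12_3 lc_g_rc_17_1 lc_g_rc_24_3 lc_g_rc_21_3 lc_g_rc_27_0 lc_g_rc_17_1 lc_g_rc_21_3 lc_g_rc_6_3 lc_g_Cert_tree lc_g_Cert_tree lc_g_Cert_tree lc_g_rc_27_0 lc_g_rc_21_1 lc_g_rc_27_0 lc_g_rc_12_3 lc_g_Cert_tree lc_g_rc_6_3 lc_g_rc_27_0 lc_g_rc_12_3 lc_g_Cert_tree lc_g_rc_27_0 lc_g_rc_27_0 lc_g_rc_29_3 lc_g_Cert_tree lc_g_Cert_tree lc_g_rc_27_0 lc_g_Cert_tree lc_g_Cert_tree) (@D3.rec (fun _ => (Cert rels S Gen.g)) lc_g_rc_26_3 lc_g_rc_27_0 lc_g_rc_29_1 lc_g_rc_12_3 lc_g_Cert_tree lc_g_Cert_tree lc_g_rc_21_1 lc_g_rc_27_0 lc_g_rc_12_3 lc_g_Cert_tree lc_g_rc_27_0 lc_g_rc_27_0 lc_g_rc_17_1 lc_g_rc_29_3 lc_g_rc_26_7 lc_g_Cert_tree lc_g_rc_26_5 lc_g_rc_6_1 lc_g_Cert_tree lc_g_rc_12_1 lc_g_rc_27_0 lc_g_rc_17_1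 lc_g_Cert_tree lc_g_rc_17_1 lc_g_Cert_tree lc_g_rc_17_3 lc_g_Cert_tree lc_g_rc_27_0 lc_g_rc_17_1 lc_g_rc_17_1 lc_g_rc_17_3 lc_g_rc_21_3 lc_g_rc_6_3 lc_g_rc_27_0 lc_g_Cert_tree lc_g_rc_26_1 lc_g_rc_27_0 lc_g_rc_27_0 lc_g_rc_29_3 lc_g_rc_17_1) (@D3.rec (fun _ => (Cert rels S Gen.g)) lc_g_rc_6_3 lc_g_rc_29_1 lc_g_rc_29_1 lc_g_rc_6_1 lc_g_Cert_tree lc_g_rc_21_3 lc_g_Cert_tree lc_g_rc_17_1 lc_g_rc_27_0 lc_g_rc_26_5 lc_g_rc_12_1 lc_g_rc_27_0 lc_g_rc_29_3 lc_g_rc_6_1 lc_g_rc_6_3 lc_g_rc_29_1 lc_g_rc_6_3 lc_g_rc_21_1 lc_g_rc_6_3 lc_g_rc_26_7 lc_g_rc_27_0 lc_g_rc_17_3 lc_g_rc_24_1 lc_g_rc_6_1 lc_g_rc_6_3 lc_g_rc_29_3 lc_g_rc_6_1 lc_g_rc_12_1 lc_g_rc_6_1 lc_g_rc_21_3 lc_g_Cert_tree lc_g_Cert_tree lc_g_rc_29_1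 lc_g_rc_6_3 lc_g_rc_21_3 lc_g_rc_29_3 lc_g_rc_12_1 lc_g_rc_29_3 lc_g_Cert_tree lc_g_rc_6_3) (@D3.rec (fun _ => (Cert rels S Gen.g)) lc_g_rc_12_1 lc_g_Cert_tree lc_g_rc_27_0 lc_g_rc_12_3 lc_g_rc_17_1 lc_g_Cert_tree lc_g_rc_31_11 lc_g_rc_17_3 lc_g_rc_17_3 lc_g_rc_27_0 lc_g_rc_27_0 lc_g_rc_12_3 lc_g_rc_24_3 lc_g_rc_6_1 lc_g_rc_17_3 lc_g_Cert_tree lc_g_rc_27_0 lc_g_rc_17_1 lc_g_Cert_tree lc_g_rc_27_0 lc_g_rc_6_1 lc_g_rc_12_5 lc_g_rc_29_3 lc_g_rc_6_1 lc_g_rc_21_1 lc_g_rc_29_1 lc_g_Cert_tree lc_g_rc_27_0 lc_g_Cert_tree lc_g_rc_6_1 lc_g_rc_17_1 lc_g_rc_24_1 lc_g_Cert_tree lc_g_Cert_tree lc_g_rc_27_0 lc_g_rc_12_3 lc_g_Cert_tree lc_g_Cert_tree lc_g_rc_6_1 lc_g_rc_27_0) (@D3.rec (fun _ => (Cert rels S Gen.g))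 lc_g_rc_6_1 lc_g_rc_6_3 lc_g_rc_27_0 lc_g_rc_12_3 lc_g_Cert_tree lc_g_rc_27_0 lc_g_rc_29_3 lc_g_rc_17_1 lc_g_rc_24_3 lc_g_rc_31_2 lc_g_rc_27_0 lc_g_Cert_tree lc_g_rc_6_3 lc_g_rc_27_0 lc_g_Cert_tree lc_g_rc_27_0 lc_g_rc_27_0 lc_g_rc_29_3 lc_g_Cert_tree lc_g_rc_12_3 lc_g_Cert_tree lc_g_rc_27_0 lc_g_rc_12_5 lc_g_Cert_tree lc_g_Cert_tree lc_g_rc_12_3 lc_g_rc_29_1 lc_g_rc_6_3 lc_g_rc_27_0 lc_g_rc_12_3 lc_g_rc_29_3 lc_g_rc_17_1 lc_g_rc_29_3 lc_g_Cert_tree lc_g_rc_12_3 lc_g_rc_6_1 lc_g_rc_17_1 lc_g_Cert_tree lc_g_Cert_tree lc_g_Cert_tree) (@D3.rec (fun _ => (Cert rels S Gen.g)) lc_g_Cert_tree lc_g_rc_27_0 lc_g_rc_27_0 lc_g_rc_27_0 lc_g_rc_6_1 lc_g_rc_29_1 lc_g_rc_6_3 lc_g_rc_27_0 lc_g_rc_12_3 lc_g_Cert_tree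 lc_g_Cert_tree lc_g_rc_12_3 lc_g_rc_6_3 lc_g_rc_6_1 lc_g_Cert_tree lc_g_rc_27_0 lc_g_rc_6_1 lc_g_rc_6_1 lc_g_rc_21_1 lc_g_rc_27_0 lc_g_rc_6_3 lc_g_rc_27_0 lc_g_rc_29_3 lc_g_rc_17_1 lc_g_rc_29_3 lc_g_rc_26_5 lc_g_rc_6_1 lc_g_rc_29_1 lc_g_rc_21_1 lc_g_rc_6_1 lc_g_rc_27_0 lc_g_rc_27_1 lc_g_Cert_tree lc_g_rc_29_1 lc_g_rc_17_3 lc_g_rc_27_0 lc_g_rc_12_1 lc_g_rc_17_3 lc_g_rc_27_0 lc_g_rc_29_1) (@D3.rec (fun _ => (Cert rels S Gen.g)) lc_g_rc_27_0 lc_g_rc_6_1 lc_g_rc_27_0 lc_g_rc_12_3 lc_g_rc_21_1 lc_g_rc_29_1 lc_g_rc_17_1 lc_g_rc_12_1 lc_g_rc_29_1 lc_g_rc_6_1 lc_g_rc_27_0 lc_g_rc_17_1 lc_g_rc_6_1 lc_g_rc_27_0 lc_g_rc_26_3 lc_g_rc_17_3 lc_g_rc_27_0 lc_g_rc_6_1 lc_g_rc_17_1 lc_g_Cert_tree lc_g_rc_29_1 lc_g_Cert_tree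 lc_g_rc_27_0 lc_g_rc_29_3 lc_g_rc_17_1 lc_g_rc_29_3 lc_g_Cert_tree lc_g_Cert_tree lc_g_rc_27_0 lc_g_rc_12_3 lc_g_rc_27_0 lc_g_rc_6_1 lc_g_rc_24_1 lc_g_rc_12_1 lc_g_rc_29_1 lc_g_rc_12_3 lc_g_rc_31_2 lc_g_rc_27_0 lc_g_rc_21_1 lc_g_rc_21_1)
def ce_g_8 : D2 → D3 → (Cert rels S Gen.g) := @D2.rec (fun _ => D3 → (Cert rels S Gen.g)) (@D3.rec (fun _ => (Cert rels S Gen.g)) lc_g_Cert_tree lc_g_Cert_tree lc_g_rc_27_0 lc_g_rc_21_1 lc_g_rc_21_3 lc_g_rc_21_1 lc_g_rc_29_1 lc_g_Cert_tree lc_g_rc_27_0 lc_g_rc_29_3 lc_g_rc_21_1 lc_g_rc_29_3 lc_g_rc_27_0 lc_g_Cert_tree lc_g_Cert_tree lc_g_rc_27_0 lc_g_rc_12_3 lc_g_rc_27_0 lc_g_rc_6_1 lc_g_rc_12_3 lc_g_rc_21_1 lc_g_Cert_tree lc_g_rc_24_1 lc_g_rc_29_1 lc_g_rc_21_1 lc_g_rc_21_3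 lc_g_rc_27_0 lc_g_rc_12_3 lc_g_rc_27_0 lc_g_rc_17_1 lc_g_rc_29_1 lc_g_rc_6_3 lc_g_rc_27_0 lc_g_rc_12_3 lc_g_rc_29_3 lc_g_rc_17_1 lc_g_rc_29_3 lc_g_rc_12_3 lc_g_Cert_tree lc_g_rc_29_1) (@D3.rec (fun _ => (Cert rels S Gen.g)) lc_g_Cert_tree lc_g_rc_27_0 lc_g_rc_12_3 lc_g_rc_6_1 lc_g_rc_17_1 lc_g_Cert_tree lc_g_rc_12_3 lc_g_rc_29_3 lc_g_rc_21_1 lc_g_rc_29_3 lc_g_Cert_tree lc_g_Cert_tree lc_g_Cert_tree lc_g_rc_27_0 lc_g_Cert_tree lc_g_rc_27_0 lc_g_rc_27_0 lc_g_rc_12_3 lc_g_rc_6_1 lc_g_rc_6_1 lc_g_Cert_tree lc_g_rc_6_1 lc_g_rc_29_1 lc_g_rc_6_3 lc_g_Cert_tree lc_g_rc_27_0 lc_g_Cert_tree lc_g_rc_27_0 lc_g_rc_27_0 lc_g_Cert_tree lc_g_Cert_tree lc_g_rc_27_0 lc_g_rc_12_3 lc_g_Cert_tree lc_g_rc_27_0 lc_g_rc_12_3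 lc_g_rc_6_1 lc_g_rc_29_3 lc_g_rc_17_1 lc_g_rc_29_3) (@D3.rec (fun _ => (Cert rels S Gen.g)) lc_g_Cert_tree lc_g_Cert_tree lc_g_rc_6_1 lc_g_rc_29_1 lc_g_rc_21_1 lc_g_Cert_tree lc_g_rc_27_0 lc_g_rc_6_3 lc_g_rc_6_3 lc_g_rc_6_1 lc_g_rc_29_1 lc_g_Cert_tree lc_g_rc_29_1 lc_g_Cert_tree lc_g_Cert_tree lc_g_rc_27_0 lc_g_rc_29_1 lc_g_Cert_tree lc_g_rc_27_0 lc_g_rc_12_3 lc_g_Cert_tree lc_g_Cert_tree lc_g_rc_27_0 lc_g_Cert_tree lc_g_rc_27_0 lc_g_rc_6_1 lc_g_rc_27_0 lc_g_rc_12_3 lc_g_rc_6_1 lc_g_Cert_tree lc_g_rc_6_3 lc_g_rc_6_1 lc_g_Cert_tree lc_g_Cert_tree lc_g_rc_27_0 lc_g_rc_6_1 lc_g_rc_6_3 lc_g_rc_17_1 lc_g_rc_27_0 lc_g_rc_6_3) (@D3.rec (fun _ => (Cert rels S Gen.g)) lc_g_rc_27_0 lc_g_rc_21_3 lc_g_rc_12_3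 lc_g_rc_27_0 lc_g_rc_29_3 lc_g_rc_27_0 lc_g_rc_12_3 lc_g_rc_29_1 lc_g_rc_29_3 lc_g_rc_12_3 lc_g_rc_6_1 lc_g_rc_29_1 lc_g_rc_27_0 lc_g_rc_12_3 lc_g_rc_29_3 lc_g_rc_17_1 lc_g_rc_29_3 lc_g_rc_6_1 lc_g_rc_29_1 lc_g_rc_21_1 lc_g_Cert_tree lc_g_rc_27_0 lc_g_rc_17_1 lc_g_rc_17_1 lc_g_Cert_tree lc_g_rc_29_1 lc_g_Cert_tree lc_g_rc_27_0 lc_g_Cert_tree lc_g_rc_27_0 lc_g_Cert_tree lc_g_rc_27_0 lc_g_rc_6_1 lc_g_rc_27_0 lc_g_rc_12_3 lc_g_rc_27_1 lc_g_rc_29_1 lc_g_rc_31_5 lc_g_rc_27_0 lc_g_rc_12_3) (@D3.rec (fun _ => (Cert rels S Gen.g)) lc_g_rc_6_1 lc_g_rc_17_1 lc_g_rc_12_3 lc_g_rc_12_3 lc_g_rc_21_1 lc_g_Cert_tree lc_g_rc_27_0 lc_g_rc_31_8 lc_g_rc_29_1 lc_g_rc_17_1 lc_g_rc_6_3 lc_g_rc_6_3 lc_g_Cert_tree lc_g_rc_27_0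 lc_g_rc_27_0 lc_g_rc_12_3 lc_g_rc_27_0 lc_g_Cert_tree lc_g_rc_27_0 lc_g_rc_17_1 lc_g_rc_17_1 lc_g_rc_21_1 lc_g_rc_27_0 lc_g_rc_12_3 lc_g_rc_29_3 lc_g_rc_29_3 lc_g_rc_12_3 lc_g_rc_29_3 lc_g_rc_21_1 lc_g_rc_29_3 lc_g_rc_24_3 lc_g_Cert_tree lc_g_Cert_tree lc_g_rc_27_0 lc_g_rc_21_1 lc_g_Cert_tree lc_g_rc_24_3 lc_g_rc_27_0 lc_g_rc_29_1 lc_g_rc_6_3) (@D3.rec (fun _ => (Cert rels S Gen.g)) lc_g_rc_24_1 lc_g_rc_31_11 lc_g_rc_27_0 lc_g_rc_12_3 lc_g_rc_17_1 lc_g_Cert_tree lc_g_rc_21_3 lc_g_rc_24_3 lc_g_rc_17_1 lc_g_rc_12_1 lc_g_rc_27_0 lc_g_rc_29_1 lc_g_rc_12_3 lc_g_rc_29_1 lc_g_rc_27_0 lc_g_rc_12_3 lc_g_rc_29_1 lc_g_rc_6_3 lc_g_rc_27_0 lc_g_rc_12_3 lc_g_rc_6_1 lc_g_rc_17_1 lc_g_rc_21_1 lc_g_Cert_tree lc_g_Cert_tree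 lc_g_rc_6_1 lc_g_rc_27_0 lc_g_rc_27_0 lc_g_Cert_tree lc_g_Cert_tree lc_g_rc_27_0 lc_g_rc_6_1 lc_g_Cert_tree lc_g_Cert_tree lc_g_Cert_tree lc_g_rc_27_0 lc_g_rc_27_0 lc_g_rc_12_3 lc_g_rc_6_1 lc_g_rc_31_2) (@D3.rec (fun _ => (Cert rels S Gen.g)) lc_g_rc_29_1 lc_g_rc_27_0 lc_g_rc_6_3 lc_g_rc_12_3 lc_g_rc_12_3 lc_g_rc_24_1 lc_g_rc_12_3 lc_g_rc_12_3 lc_g_rc_21_1 lc_g_rc_27_0 lc_g_rc_6_1 lc_g_rc_12_3 lc_g_rc_27_0 lc_g_rc_12_3 lc_g_rc_6_1 lc_g_rc_12_1 lc_g_rc_12_1 lc_g_rc_31_8 lc_g_rc_6_1 lc_g_rc_12_1 lc_g_rc_6_1 lc_g_rc_17_1 lc_g_rc_17_1 lc_g_rc_6_3 lc_g_rc_27_0 lc_g_rc_6_3 lc_g_rc_12_3 lc_g_rc_27_0 lc_g_rc_21_1 lc_g_rc_6_3 lc_g_rc_27_0 lc_g_Cert_tree lc_g_rc_12_3 lc_g_Cert_tree lc_g_rc_27_0 lc_g_rc_12_3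 lc_g_rc_6_1 lc_g_rc_29_1 lc_g_Cert_tree lc_g_rc_27_0) (@D3.rec (fun _ => (Cert rels S Gen.g)) lc_g_rc_12_3 lc_g_rc_29_3 lc_g_rc_17_1 lc_g_rc_29_3 lc_g_Cert_tree lc_g_Cert_tree lc_g_Cert_tree lc_g_rc_27_0 lc_g_rc_6_1 lc_g_rc_17_1 lc_g_Cert_tree lc_g_Cert_tree lc_g_Cert_tree lc_g_rc_27_0 lc_g_rc_27_0 lc_g_rc_6_1 lc_g_Cert_tree lc_g_rc_6_1 lc_g_rc_29_1 lc_g_rc_17_3 lc_g_rc_27_0 lc_g_Cert_tree lc_g_rc_6_3 lc_g_rc_27_0 lc_g_rc_21_1 lc_g_rc_31_5 lc_g_rc_6_3 lc_g_Cert_tree lc_g_rc_12_3 lc_g_rc_6_1 lc_g_rc_17_1 lc_g_Cert_tree lc_g_rc_6_3 lc_g_Cert_tree lc_g_Cert_tree lc_g_Cert_tree lc_g_rc_27_0 lc_g_rc_6_3 lc_g_Cert_tree lc_g_rc_31_2) (@D3.rec (fun _ => (Cert rels S Gen.g)) lc_g_rc_27_0 lc_g_rc_29_1 lc_g_Cert_tree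 lc_g_rc_27_0 lc_g_rc_12_3 lc_g_rc_29_3 lc_g_rc_17_1 lc_g_rc_29_3 lc_g_Cert_tree lc_g_rc_6_1 lc_g_rc_29_1 lc_g_rc_17_3 lc_g_rc_27_0 lc_g_rc_6_3 lc_g_rc_6_1 lc_g_rc_6_3 lc_g_rc_27_0 lc_g_rc_29_3 lc_g_rc_24_1 lc_g_rc_29_3 lc_g_Cert_tree lc_g_rc_29_1 lc_g_rc_6_1 lc_g_rc_27_0 lc_g_rc_12_5 lc_g_Cert_tree lc_g_rc_27_0 lc_g_rc_27_0 lc_g_rc_6_1 lc_g_Cert_tree lc_g_rc_27_0 lc_g_rc_12_3 lc_g_rc_12_3 lc_g_rc_29_3 lc_g_rc_17_1 lc_g_rc_29_3 lc_g_Cert_tree lc_g_Cert_tree lc_g_rc_29_1 lc_g_rc_6_3) (@D3.rec (fun _ => (Cert rels S Gen.g)) lc_g_rc_27_0 lc_g_rc_21_3 lc_g_rc_12_5 lc_g_Cert_tree lc_g_rc_21_1 lc_g_rc_29_1 lc_g_rc_6_3 lc_g_rc_27_0 lc_g_rc_12_3 lc_g_Cert_tree lc_g_rc_27_0 lc_g_rc_27_0 lc_g_rc_6_1 lc_g_Cert_tree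 lc_g_rc_6_3 lc_g_rc_27_0 lc_g_Cert_tree lc_g_Cert_tree lc_g_Cert_tree lc_g_rc_27_0 lc_g_rc_27_0 lc_g_rc_12_3 lc_g_rc_29_3 lc_g_Cert_tree lc_g_Cert_tree lc_g_rc_27_0 lc_g_Cert_tree lc_g_rc_27_0 lc_g_rc_12_3 lc_g_rc_6_1 lc_g_rc_17_1 lc_g_rc_12_1 lc_g_rc_27_0 lc_g_rc_12_3 lc_g_rc_6_1 lc_g_rc_29_3 lc_g_rc_12_3 lc_g_rc_29_3 lc_g_Cert_tree lc_g_Cert_tree) (@D3.rec (fun _ => (Cert rels S Gen.g)) lc_g_rc_6_1 lc_g_rc_21_1 lc_g_rc_29_3 lc_g_Cert_tree lc_g_Cert_tree lc_g_Cert_tree lc_g_rc_27_0 lc_g_Cert_tree lc_g_Cert_tree lc_g_rc_6_3 lc_g_rc_27_0 lc_g_Cert_tree lc_g_rc_6_1 lc_g_rc_29_1 lc_g_rc_12_3 lc_g_rc_24_1 lc_g_rc_6_3 lc_g_rc_12_3 lc_g_Cert_tree lc_g_rc_6_3 lc_g_rc_27_0 lc_g_Cert_tree lc_g_Cert_tree lc_g_Cert_tree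 lc_g_rc_27_0 lc_g_Cert_tree lc_g_rc_27_0 lc_g_rc_29_3 lc_g_Cert_tree lc_g_Cert_tree lc_g_rc_27_0 lc_g_rc_12_1 lc_g_rc_29_1 lc_g_Cert_tree lc_g_rc_29_1 lc_g_Cert_tree lc_g_rc_27_0 lc_g_Cert_tree lc_g_Cert_tree lc_g_rc_27_0) (@D3.rec (fun _ => (Cert rels S Gen.g)) lc_g_rc_29_1 lc_g_Cert_tree lc_g_rc_27_0 lc_g_rc_12_3 lc_g_Cert_tree lc_g_rc_6_3 lc_g_rc_29_3 lc_g_rc_27_0 lc_g_rc_12_3 lc_g_rc_6_1 lc_g_rc_17_1 lc_g_Cert_tree lc_g_Cert_tree lc_g_rc_29_3 lc_g_Cert_tree lc_g_rc_27_0 lc_g_rc_12_1 lc_g_Cert_tree lc_g_rc_27_0 lc_g_rc_6_3 lc_g_rc_29_1 lc_g_rc_27_0 lc_g_Cert_tree lc_g_Cert_tree lc_g_rc_27_0 lc_g_Cert_tree lc_g_rc_6_3 lc_g_rc_27_0 lc_g_Cert_tree lc_g_Cert_tree lc_g_Cert_tree lc_g_rc_27_0 lc_g_rc_27_0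 lc_g_rc_29_3 lc_g_rc_12_3 lc_g_rc_6_1 lc_g_rc_6_1 lc_g_rc_17_1 lc_g_Cert_tree lc_g_Cert_tree) (@D3.rec (fun _ => (Cert rels S Gen.g)) lc_g_rc_24_1 lc_g_rc_6_1 lc_g_rc_29_1 lc_g_rc_12_3 lc_g_Cert_tree lc_g_Cert_tree lc_g_rc_27_0 lc_g_Cert_tree lc_g_rc_27_0 lc_g_Cert_tree lc_g_rc_6_1 lc_g_rc_17_1 lc_g_rc_24_1 lc_g_Cert_tree lc_g_Cert_tree lc_g_Cert_tree lc_g_rc_27_0 lc_g_rc_6_1 lc_g_Cert_tree lc_g_rc_17_1 lc_g_Cert_tree lc_g_rc_27_0 lc_g_Cert_tree lc_g_rc_6_3 lc_g_rc_27_0 lc_g_rc_29_3 lc_g_rc_29_3 lc_g_Cert_tree lc_g_rc_27_0 lc_g_rc_27_0 lc_g_rc_29_3 lc_g_Cert_tree lc_g_rc_27_0 lc_g_Cert_tree lc_g_Cert_tree lc_g_rc_27_0 lc_g_rc_12_3 lc_g_rc_6_1 lc_g_Cert_tree lc_g_rc_27_0) (@D3.rec (fun _ => (Cert rels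 S Gen.g)) lc_g_Cert_tree lc_g_rc_27_0 lc_g_rc_12_3 lc_g_rc_6_1 lc_g_rc_6_1 lc_g_Cert_tree lc_g_rc_12_3 lc_g_rc_21_1 lc_g_rc_17_1 lc_g_rc_24_1 lc_g_Cert_tree lc_g_Cert_tree lc_g_Cert_tree lc_g_rc_27_0 lc_g_rc_26_3 lc_g_Cert_tree lc_g_rc_17_1 lc_g_Cert_tree lc_g_rc_27_0 lc_g_rc_27_0 lc_g_rc_6_1 lc_g_rc_12_3 lc_g_rc_17_1 lc_g_Cert_tree lc_g_rc_21_1 lc_g_Cert_tree lc_g_rc_12_5 lc_g_Cert_tree lc_g_rc_29_1 lc_g_rc_27_0 lc_g_rc_24_1 lc_g_rc_6_1 lc_g_rc_29_1 lc_g_Cert_tree lc_g_rc_27_0 lc_g_rc_12_3 lc_g_rc_17_1 lc_g_Cert_tree lc_g_rc_17_1 lc_g_Cert_tree) (@D3.rec (fun _ => (Cert rels S Gen.g)) lc_g_rc_29_1 lc_g_rc_29_3 lc_g_rc_17_1 lc_g_rc_17_1 lc_g_rc_6_3 lc_g_rc_27_0 lc_g_rc_29_1 lc_g_rc_31_8 lc_g_rc_12_3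 lc_g_rc_27_0 lc_g_rc_12_3 lc_g_rc_6_1 lc_g_rc_31_8 lc_g_rc_24_3 lc_g_rc_31_5 lc_g_rc_29_3 lc_g_rc_17_1 lc_g_rc_12_1 lc_g_rc_17_3 lc_g_rc_27_0 lc_g_rc_29_1 lc_g_Cert_tree lc_g_rc_12_1 lc_g_rc_27_0 lc_g_rc_27_0 lc_g_rc_26_5 lc_g_rc_12_3 lc_g_rc_27_0 lc_g_rc_6_3 lc_g_rc_24_3 lc_g_rc_27_0 lc_g_rc_29_1 lc_g_rc_31_2 lc_g_rc_17_1 lc_g_rc_27_0 lc_g_rc_27_0 lc_g_rc_27_0 lc_g_rc_27_0 lc_g_rc_6_3 lc_g_rc_6_1) (@D3.rec (fun _ => (Cert rels S Gen.g)) lc_g_rc_17_1 lc_g_Cert_tree lc_g_rc_12_3 lc_g_rc_29_1 lc_g_Cert_tree lc_g_rc_27_0 lc_g_Cert_tree lc_g_rc_17_1 lc_g_rc_17_3 lc_g_rc_6_1 lc_g_rc_27_1 lc_g_rc_6_1 lc_g_rc_29_3 lc_g_rc_29_3 lc_g_rc_31_11 lc_g_Cert_tree lc_g_Cert_tree lc_g_rc_27_0 lc_g_rc_12_3 lc_g_rc_29_1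 lc_g_rc_17_1 lc_g_rc_29_3 lc_g_Cert_tree lc_g_rc_27_0 lc_g_rc_17_1 lc_g_rc_31_8 lc_g_rc_29_1 lc_g_rc_6_3 lc_g_rc_27_0 lc_g_rc_12_3 lc_g_rc_12_3 lc_g_rc_6_3 lc_g_rc_27_0 lc_g_Cert_tree lc_g_rc_27_0 lc_g_rc_27_0 lc_g_rc_21_1 lc_g_rc_6_1 lc_g_rc_31_11 lc_g_rc_6_1) (@D3.rec (fun _ => (Cert rels S Gen.g)) lc_g_rc_17_1 lc_g_rc_29_3 lc_g_rc_29_3 lc_g_Cert_tree lc_g_rc_27_0 lc_g_rc_27_0 lc_g_rc_12_3 lc_g_rc_29_3 lc_g_rc_27_0 lc_g_rc_12_3 lc_g_rc_6_1 lc_g_rc_17_1 lc_g_Cert_tree lc_g_rc_27_0 lc_g_rc_17_1 lc_g_rc_29_1 lc_g_rc_12_5 lc_g_rc_17_1 lc_g_rc_12_3 lc_g_rc_17_1 lc_g_rc_6_1 lc_g_rc_17_1 lc_g_rc_21_3 lc_g_rc_21_1 lc_g_rc_29_3 lc_g_rc_12_3 lc_g_rc_29_3 lc_g_Cert_tree lc_g_Cert_tree lc_g_Cert_tree lc_g_rc_27_0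 lc_g_rc_21_1 lc_g_Cert_tree lc_g_rc_12_1 lc_g_rc_27_0 lc_g_Cert_tree lc_g_rc_31_11 lc_g_rc_29_1 lc_g_rc_21_1 lc_g_rc_27_0) (@D3.rec (fun _ => (Cert rels S Gen.g)) lc_g_rc_12_5 lc_g_rc_27_0 lc_g_rc_27_0 lc_g_rc_6_1 lc_g_rc_27_1 lc_g_rc_27_0 lc_g_rc_27_0 lc_g_rc_29_3 lc_g_rc_17_1 lc_g_Cert_tree lc_g_rc_27_0 lc_g_rc_6_1 lc_g_rc_27_0 lc_g_rc_29_3 lc_g_rc_6_3 lc_g_rc_27_0 lc_g_rc_27_0 lc_g_rc_27_0 lc_g_rc_6_3 lc_g_rc_27_0 lc_g_rc_24_1 lc_g_rc_29_3 lc_g_Cert_tree lc_g_rc_27_0 lc_g_rc_6_1 lc_g_rc_26_3 lc_g_rc_21_1 lc_g_rc_27_0 lc_g_rc_6_1 lc_g_rc_6_3 lc_g_Cert_tree lc_g_Cert_tree lc_g_rc_27_0 lc_g_rc_29_3 lc_g_rc_29_1 lc_g_Cert_tree lc_g_Cert_tree lc_g_Cert_tree lc_g_rc_27_0 lc_g_rc_12_1) (@D3.rec (fun _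 => (Cert rels S Gen.g)) lc_g_rc_6_3 lc_g_rc_17_1 lc_g_rc_27_0 lc_g_rc_26_7 lc_g_rc_27_0 lc_g_rc_29_1 lc_g_rc_26_1 lc_g_rc_29_1 lc_g_Cert_tree lc_g_rc_29_1 lc_g_rc_27_0 lc_g_rc_12_3 lc_g_rc_6_1 lc_g_rc_17_1 lc_g_Cert_tree lc_g_rc_6_3 lc_g_Cert_tree lc_g_rc_21_1 lc_g_rc_27_0 lc_g_rc_29_3 lc_g_rc_17_1 lc_g_rc_29_3 lc_g_rc_17_1 lc_g_rc_29_1 lc_g_rc_6_1 lc_g_rc_27_0 lc_g_rc_6_3 lc_g_rc_27_0 lc_g_rc_6_1 lc_g_rc_27_0 lc_g_rc_17_1 lc_g_rc_6_1 lc_g_rc_29_1 lc_g_rc_27_0 lc_g_rc_6_3 lc_g_rc_27_0 lc_g_Cert_tree lc_g_Cert_tree lc_g_rc_27_0 lc_g_rc_27_0) (@D3.rec (fun _ => (Cert rels S Gen.g)) lc_g_rc_29_3 lc_g_rc_12_5 lc_g_rc_12_3 lc_g_rc_27_0 lc_g_rc_12_3 lc_g_rc_12_3 lc_g_Cert_tree lc_g_rc_27_0 lc_g_rc_27_0 lc_g_rc_12_3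 lc_g_rc_6_1 lc_g_rc_27_0 lc_g_rc_12_3 lc_g_rc_6_1 lc_g_rc_17_1 lc_g_Cert_tree lc_g_rc_12_3 lc_g_Cert_tree lc_g_rc_27_0 lc_g_rc_17_1 lc_g_rc_6_1 lc_g_rc_29_1 lc_g_Cert_tree lc_g_rc_17_1 lc_g_rc_29_1 lc_g_Cert_tree lc_g_rc_27_0 lc_g_rc_29_1 lc_g_rc_27_0 lc_g_rc_12_3 lc_g_rc_27_0 lc_g_rc_6_1 lc_g_Cert_tree lc_g_rc_21_3 lc_g_rc_27_0 lc_g_rc_6_1 lc_g_Cert_tree lc_g_rc_17_1 lc_g_Cert_tree lc_g_rc_17_1) (@D3.rec (fun _ => (Cert rels S Gen.g)) lc_g_rc_6_3 lc_g_rc_27_0 lc_g_rc_17_1 lc_g_rc_27_0 lc_g_rc_29_3 lc_g_Cert_tree lc_g_Cert_tree lc_g_rc_27_0 lc_g_rc_6_3 lc_g_rc_27_0 lc_g_rc_17_3 lc_g_Cert_tree lc_g_rc_27_0 lc_g_rc_27_0 lc_g_rc_29_3 lc_g_rc_24_1 lc_g_rc_31_11 lc_g_rc_24_1 lc_g_rc_12_3 lc_g_Cert_tree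 lc_g_rc_6_1 lc_g_Cert_tree lc_g_rc_6_1 lc_g_rc_27_0 lc_g_rc_6_1 lc_g_rc_12_5 lc_g_rc_6_1 lc_g_rc_12_3 lc_g_rc_12_3 lc_g_rc_27_0 lc_g_rc_12_3 lc_g_rc_12_3 lc_g_rc_21_1 lc_g_rc_12_1 lc_g_rc_21_3 lc_g_rc_27_0 lc_g_rc_12_3 lc_g_rc_21_1 lc_g_rc_21_3 lc_g_rc_12_3) (@D3.rec (fun _ => (Cert rels S Gen.g)) lc_g_rc_6_1 lc_g_rc_29_3 lc_g_rc_29_3 lc_g_Cert_tree lc_g_rc_29_1 lc_g_rc_27_0 lc_g_rc_6_1 lc_g_rc_21_1 lc_g_Cert_tree lc_g_rc_24_1 lc_g_rc_29_1 lc_g_rc_17_1 lc_g_Cert_tree lc_g_rc_17_1 lc_g_rc_6_3 lc_g_rc_27_0 lc_g_rc_17_1 lc_g_rc_27_0 lc_g_rc_29_3 lc_g_rc_17_1 lc_g_rc_17_1 lc_g_rc_12_1 lc_g_rc_21_1 lc_g_rc_27_0 lc_g_rc_27_0 lc_g_rc_27_0 lc_g_rc_17_3 lc_g_Cert_tree lc_g_rc_27_0 lc_g_rc_27_0 lc_g_rc_24_1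 lc_g_rc_12_3 lc_g_rc_27_0 lc_g_rc_21_1 lc_g_rc_12_3 lc_g_rc_6_1 lc_g_rc_27_0 lc_g_rc_12_3 lc_g_rc_12_3 lc_g_rc_21_1) (@D3.rec (fun _ => (Cert rels S Gen.g)) lc_g_Cert_tree lc_g_rc_6_1 lc_g_rc_31_11 lc_g_rc_6_1 lc_g_rc_24_1 lc_g_rc_17_3 lc_g_Cert_tree lc_g_rc_26_7 lc_g_rc_27_0 lc_g_rc_24_1 lc_g_rc_26_5 lc_g_rc_27_0 lc_g_rc_12_1 lc_g_rc_29_1 lc_g_Cert_tree lc_g_rc_27_1 lc_g_rc_27_0 lc_g_Cert_tree lc_g_rc_27_0 lc_g_rc_24_1 lc_g_rc_27_0 lc_g_rc_29_3 lc_g_rc_12_3 lc_g_rc_29_3 lc_g_rc_6_1 lc_g_rc_27_0 lc_g_rc_17_3 lc_g_rc_12_3 lc_g_rc_12_5 lc_g_rc_21_3 lc_g_rc_12_3 lc_g_rc_12_3 lc_g_rc_31_11 lc_g_rc_12_5 lc_g_rc_27_0 lc_g_rc_27_0 lc_g_rc_12_3 lc_g_rc_6_1 lc_g_rc_31_5 lc_g_rc_29_1) (@D3.rec (fun _ => (Cert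 rels S Gen.g)) lc_g_rc_12_3 lc_g_Cert_tree lc_g_rc_12_3 lc_g_rc_17_1 lc_g_rc_27_0 lc_g_rc_17_1 lc_g_rc_6_3 lc_g_rc_27_0 lc_g_Cert_tree lc_g_rc_29_1 lc_g_Cert_tree lc_g_rc_6_3 lc_g_rc_27_0 lc_g_rc_17_1 lc_g_rc_17_1 lc_g_Cert_tree lc_g_rc_27_0 lc_g_rc_27_0 lc_g_rc_21_3 lc_g_rc_27_0 lc_g_rc_27_0 lc_g_rc_12_3 lc_g_rc_21_1 lc_g_rc_12_3 lc_g_rc_6_1 lc_g_rc_17_1 lc_g_Cert_tree lc_g_rc_12_3 lc_g_rc_12_3 lc_g_rc_6_1 lc_g_rc_6_1 lc_g_rc_17_1 lc_g_rc_12_1 lc_g_rc_31_5 lc_g_rc_6_1 lc_g_rc_21_1 lc_g_rc_12_3 lc_g_rc_17_1 lc_g_rc_6_1 lc_g_rc_12_1) (@D3.rec (fun _ => (Cert rels S Gen.g)) lc_g_rc_21_1 lc_g_rc_12_1 lc_g_rc_17_1 lc_g_rc_24_1 lc_g_rc_12_1 lc_g_rc_6_3 lc_g_rc_12_3 lc_g_rc_12_3 lc_g_Cert_tree lc_g_rc_12_3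 lc_g_rc_6_3 lc_g_rc_27_0 lc_g_rc_6_1 lc_g_rc_12_3 lc_g_rc_26_3 lc_g_rc_24_1 lc_g_Cert_tree lc_g_rc_27_0 lc_g_rc_24_3 lc_g_rc_21_3 lc_g_rc_27_0 lc_g_rc_29_1 lc_g_rc_6_3 lc_g_rc_27_0 lc_g_rc_6_3 lc_g_rc_12_3 lc_g_Cert_tree lc_g_rc_27_0 lc_g_rc_27_0 lc_g_rc_6_1 lc_g_rc_31_8 lc_g_rc_12_1 lc_g_rc_21_1 lc_g_rc_21_3 lc_g_rc_12_5 lc_g_rc_27_0 lc_g_rc_6_3 lc_g_rc_12_5 lc_g_rc_12_1 lc_g_rc_27_0) (@D3.rec (fun _ => (Cert rels S Gen.g)) lc_g_rc_21_1 lc_g_rc_17_3 lc_g_rc_29_1 lc_g_Cert_tree lc_g_rc_27_0 lc_g_Cert_tree lc_g_rc_27_0 lc_g_rc_12_3 lc_g_rc_29_1 lc_g_rc_17_3 lc_g_Cert_tree lc_g_rc_27_0 lc_g_rc_12_3 lc_g_rc_21_1 lc_g_rc_26_5 lc_g_rc_6_1 lc_g_Cert_tree lc_g_rc_27_0 lc_g_rc_12_3 lc_g_rc_6_1 lc_g_rc_12_1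 lc_g_rc_6_1 lc_g_rc_27_0 lc_g_rc_29_3 lc_g_rc_6_3 lc_g_rc_27_0 lc_g_rc_12_3 lc_g_rc_31_5 lc_g_rc_17_1 lc_g_rc_29_3 lc_g_rc_27_0 lc_g_rc_6_1 lc_g_rc_6_1 lc_g_rc_12_3 lc_g_rc_12_3 lc_g_Cert_tree lc_g_Cert_tree lc_g_rc_27_0 lc_g_rc_27_0 lc_g_rc_17_1)
def ce_g_9 : D2 → D3 → (Cert rels S Gen.g) := @D2.rec (fun _ => D3 → (Cert rels S Gen.g)) (@D3.rec (fun _ => (Cert rels S Gen.g)) lc_g_rc_12_3 lc_g_rc_12_3 lc_g_rc_29_3 lc_g_rc_12_1 lc_g_rc_29_3 lc_g_Cert_tree lc_g_Cert_tree lc_g_rc_27_0 lc_g_rc_24_1 lc_g_rc_12_3 lc_g_Cert_tree lc_g_rc_27_0 lc_g_rc_17_1 lc_g_rc_12_5 lc_g_rc_29_1 lc_g_rc_27_0 lc_g_rc_12_3 lc_g_rc_29_3 lc_g_rc_29_3 lc_g_Cert_tree lc_g_rc_12_3 lc_g_rc_6_1 lc_g_rc_17_1 lc_g_Cert_tree lc_g_Cert_tree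 lc_g_Cert_tree lc_g_Cert_tree lc_g_rc_27_0 lc_g_rc_27_0 lc_g_rc_21_3 lc_g_Cert_tree lc_g_rc_27_0 lc_g_rc_24_1 lc_g_rc_27_0 lc_g_rc_6_1 lc_g_rc_6_1 lc_g_rc_29_1 lc_g_rc_21_1 lc_g_rc_17_3 lc_g_rc_27_0) (@D3.rec (fun _ => (Cert rels S Gen.g)) lc_g_Cert_tree lc_g_rc_27_0 lc_g_rc_12_3 lc_g_Cert_tree lc_g_rc_12_5 lc_g_rc_27_0 lc_g_Cert_tree lc_g_rc_12_3 lc_g_rc_17_1 lc_g_rc_17_1 lc_g_rc_21_1 lc_g_rc_6_3 lc_g_rc_27_0 lc_g_rc_27_0 lc_g_rc_12_5 lc_g_rc_6_3 lc_g_rc_27_0 lc_g_Cert_tree lc_g_rc_27_0 lc_g_rc_27_0 lc_g_rc_6_1 lc_g_rc_27_0 lc_g_rc_29_1 lc_g_rc_12_3 lc_g_rc_12_3 lc_g_rc_27_0 lc_g_rc_12_3 lc_g_rc_29_3 lc_g_rc_12_3 lc_g_rc_12_3 lc_g_rc_6_1 lc_g_rc_17_1 lc_g_Cert_tree lc_g_Cert_tree lc_g_Cert_tree lc_g_Cert_tree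 lc_g_rc_27_0 lc_g_rc_29_3 lc_g_rc_17_1 lc_g_rc_29_3) (@D3.rec (fun _ => (Cert rels S Gen.g)) lc_g_rc_6_1 lc_g_rc_12_3 lc_g_rc_29_1 lc_g_rc_17_1 lc_g_Cert_tree lc_g_rc_27_0 lc_g_rc_29_1 lc_g_rc_21_1 lc_g_rc_27_0 lc_g_rc_12_1 lc_g_Cert_tree lc_g_rc_27_0 lc_g_Cert_tree lc_g_rc_27_0 lc_g_rc_6_1 lc_g_rc_6_1 lc_g_Cert_tree lc_g_rc_27_0 lc_g_rc_27_0 lc_g_rc_17_3 lc_g_rc_21_1 lc_g_rc_6_1 lc_g_rc_29_1 lc_g_Cert_tree lc_g_rc_27_0 lc_g_rc_27_0 lc_g_rc_6_1 lc_g_rc_12_3 lc_g_rc_6_1 lc_g_rc_12_3 lc_g_rc_24_3 lc_g_rc_12_3 lc_g_rc_27_1 lc_g_rc_27_0 lc_g_rc_26_7 lc_g_rc_27_0 lc_g_rc_12_3 lc_g_rc_12_1 lc_g_rc_29_1 lc_g_rc_17_1) (@D3.rec (fun _ => (Cert rels S Gen.g)) lc_g_rc_12_1 lc_g_Cert_tree lc_g_rc_27_0 lc_g_rc_6_1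 lc_g_rc_27_0 lc_g_rc_6_1 lc_g_rc_26_3 lc_g_Cert_tree lc_g_rc_27_0 lc_g_rc_17_1 lc_g_Cert_tree lc_g_rc_27_1 lc_g_rc_21_1 lc_g_rc_27_0 lc_g_Cert_tree lc_g_rc_29_1 lc_g_Cert_tree lc_g_Cert_tree lc_g_rc_27_0 lc_g_rc_12_3 lc_g_rc_29_3 lc_g_rc_17_1 lc_g_rc_29_3 lc_g_Cert_tree lc_g_rc_6_1 lc_g_rc_29_1 lc_g_rc_21_1 lc_g_Cert_tree lc_g_rc_27_0 lc_g_rc_12_5 lc_g_rc_6_1 lc_g_rc_29_3 lc_g_rc_17_1 lc_g_rc_24_1 lc_g_rc_29_3 lc_g_Cert_tree lc_g_rc_29_1 lc_g_Cert_tree lc_g_rc_27_0 lc_g_rc_12_5) (@D3.rec (fun _ => (Cert rels S Gen.g)) lc_g_Cert_tree lc_g_rc_27_0 lc_g_Cert_tree lc_g_rc_27_0 lc_g_rc_6_1 lc_g_rc_12_3 lc_g_rc_31_8 lc_g_rc_24_1 lc_g_rc_27_0 lc_g_rc_12_3 lc_g_Cert_tree lc_g_rc_26_3 lc_g_rc_27_0 lc_g_rc_6_1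 lc_g_rc_17_1 lc_g_rc_29_3 lc_g_rc_12_3 lc_g_Cert_tree lc_g_rc_29_1 lc_g_rc_21_1 lc_g_rc_12_1 lc_g_rc_12_5 lc_g_rc_12_3 lc_g_rc_17_1 lc_g_rc_24_1 lc_g_rc_26_3 lc_g_rc_6_3 lc_g_rc_17_3 lc_g_rc_27_0 lc_g_rc_12_3 lc_g_rc_12_1 lc_g_rc_27_0 lc_g_rc_12_1 lc_g_rc_6_3 lc_g_rc_27_0 lc_g_rc_27_0 lc_g_rc_12_3 lc_g_rc_29_3 lc_g_rc_21_1 lc_g_Cert_tree) (@D3.rec (fun _ => (Cert rels S Gen.g)) lc_g_Cert_tree lc_g_rc_27_0 lc_g_rc_24_1 lc_g_rc_26_3 lc_g_rc_26_7 lc_g_rc_12_1 lc_g_Cert_tree lc_g_rc_27_0 lc_g_rc_27_0 lc_g_rc_6_1 lc_g_Cert_tree lc_g_Cert_tree lc_g_rc_29_3 lc_g_rc_21_1 lc_g_rc_29_3 lc_g_rc_12_1 lc_g_rc_29_1 lc_g_Cert_tree lc_g_rc_27_0 lc_g_rc_17_3 lc_g_Cert_tree lc_g_rc_12_3 lc_g_rc_27_0 lc_g_Cert_tree lc_g_rc_6_1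 lc_g_rc_29_1 lc_g_rc_17_1 lc_g_rc_24_1 lc_g_Cert_tree lc_g_rc_27_0 lc_g_rc_12_3 lc_g_rc_27_0 lc_g_rc_21_3 lc_g_Cert_tree lc_g_rc_27_0 lc_g_rc_6_1 lc_g_rc_12_3 lc_g_rc_17_1 lc_g_rc_6_1 lc_g_rc_29_1) (@D3.rec (fun _ => (Cert rels S Gen.g)) lc_g_Cert_tree lc_g_rc_29_1 lc_g_Cert_tree lc_g_rc_27_0 lc_g_rc_17_1 lc_g_Cert_tree lc_g_Cert_tree lc_g_rc_27_0 lc_g_rc_24_1 lc_g_rc_6_1 lc_g_rc_29_1 lc_g_Cert_tree lc_g_rc_27_0 lc_g_rc_12_3 lc_g_rc_12_3 lc_g_rc_17_1 lc_g_rc_6_1 lc_g_rc_6_3 lc_g_Cert_tree lc_g_rc_31_2 lc_g_rc_27_0 lc_g_Cert_tree lc_g_Cert_tree lc_g_rc_27_0 lc_g_Cert_tree lc_g_Cert_tree lc_g_rc_27_0 lc_g_rc_6_1 lc_g_Cert_tree lc_g_Cert_tree lc_g_Cert_tree lc_g_rc_26_7 lc_g_rc_27_0 lc_g_rc_29_1 lc_g_Cert_tree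 lc_g_rc_17_1 lc_g_Cert_tree lc_g_Cert_tree lc_g_Cert_tree lc_g_rc_27_0) (@D3.rec (fun _ => (Cert rels S Gen.g)) lc_g_rc_29_3 lc_g_Cert_tree lc_g_rc_17_1 lc_g_Cert_tree lc_g_rc_12_5 lc_g_Cert_tree lc_g_rc_29_1 lc_g_rc_27_0 lc_g_rc_17_3 lc_g_Cert_tree lc_g_rc_29_1 lc_g_rc_29_3 lc_g_rc_12_5 lc_g_rc_17_1 lc_g_rc_12_3 lc_g_rc_24_1 lc_g_rc_29_3 lc_g_rc_17_1 lc_g_rc_29_3 lc_g_rc_29_1 lc_g_rc_21_1 lc_g_rc_12_1 lc_g_rc_27_0 lc_g_rc_29_1 lc_g_rc_12_3 lc_g_rc_27_0 lc_g_rc_27_0 lc_g_rc_21_3 lc_g_rc_27_0 lc_g_rc_6_1 lc_g_rc_27_0 lc_g_rc_29_1 lc_g_rc_27_0 lc_g_rc_12_3 lc_g_rc_29_3 lc_g_rc_17_1 lc_g_rc_29_3 lc_g_Cert_tree lc_g_rc_29_3 lc_g_rc_21_1) (@D3.rec (fun _ => (Cert rels S Gen.g)) lc_g_rc_29_3 lc_g_rc_29_1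 lc_g_Cert_tree lc_g_rc_27_0 lc_g_rc_12_1 lc_g_rc_6_1 lc_g_rc_29_1 lc_g_rc_12_3 lc_g_rc_17_3 lc_g_Cert_tree lc_g_rc_27_0 lc_g_rc_6_1 lc_g_rc_12_1 lc_g_rc_29_3 lc_g_rc_29_3 lc_g_Cert_tree lc_g_rc_29_1 lc_g_rc_12_5 lc_g_rc_27_0 lc_g_rc_12_3 lc_g_rc_29_1 lc_g_rc_12_3 lc_g_rc_27_0 lc_g_rc_29_1 lc_g_rc_17_1 lc_g_rc_29_3 lc_g_Cert_tree lc_g_Cert_tree lc_g_rc_27_0 lc_g_Cert_tree lc_g_Cert_tree lc_g_rc_27_0 lc_g_rc_6_1 lc_g_rc_31_8 lc_g_rc_12_3 lc_g_rc_6_1 lc_g_rc_17_1 lc_g_rc_29_3 lc_g_rc_27_1 lc_g_rc_6_1) (@D3.rec (fun _ => (Cert rels S Gen.g)) lc_g_rc_29_1 lc_g_rc_17_1 lc_g_rc_6_1 lc_g_rc_24_1 lc_g_rc_6_3 lc_g_rc_27_0 lc_g_rc_12_1 lc_g_Cert_tree lc_g_rc_27_0 lc_g_rc_27_0 lc_g_rc_29_1 lc_g_rc_12_1 lc_g_rc_27_0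 lc_g_rc_12_3 lc_g_rc_6_1 lc_g_rc_26_1 lc_g_rc_12_3 lc_g_rc_6_1 lc_g_rc_21_1 lc_g_rc_29_3 lc_g_rc_12_1 lc_g_rc_6_1 lc_g_rc_17_1 lc_g_Cert_tree lc_g_rc_6_1 lc_g_rc_29_1 lc_g_rc_27_1 lc_g_rc_24_1 lc_g_rc_21_1 lc_g_rc_12_3 lc_g_rc_12_3 lc_g_rc_27_0 lc_g_rc_6_3 lc_g_rc_6_3 lc_g_rc_26_3 lc_g_rc_27_0 lc_g_rc_6_1 lc_g_rc_17_1 lc_g_rc_17_1 lc_g_rc_27_0) (@D3.rec (fun _ => (Cert rels S Gen.g)) lc_g_rc_12_3 lc_g_rc_12_1 lc_g_rc_17_1 lc_g_Cert_tree lc_g_Cert_tree lc_g_rc_27_0 lc_g_Cert_tree lc_g_Cert_tree lc_g_rc_27_0 lc_g_rc_17_1 lc_g_rc_6_3 lc_g_rc_29_3 lc_g_rc_6_1 lc_g_rc_6_3 lc_g_rc_27_0 lc_g_rc_6_1 lc_g_rc_31_5 lc_g_Cert_tree lc_g_rc_29_1 lc_g_rc_29_3 lc_g_rc_17_1 lc_g_Cert_tree lc_g_rc_27_0 lc_g_rc_6_1 lc_g_rc_6_1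 lc_g_rc_12_3 lc_g_Cert_tree lc_g_Cert_tree lc_g_rc_27_0 lc_g_rc_29_1 lc_g_Cert_tree lc_g_rc_12_1 lc_g_rc_27_0 lc_g_Cert_tree lc_g_rc_29_3 lc_g_rc_17_1 lc_g_rc_24_1 lc_g_rc_29_3 lc_g_rc_12_3 lc_g_rc_29_1) (@D3.rec (fun _ => (Cert rels S Gen.g)) lc_g_rc_17_3 lc_g_rc_27_0 lc_g_rc_27_0 lc_g_rc_27_0 lc_g_rc_27_1 lc_g_Cert_tree lc_g_rc_12_3 lc_g_rc_27_0 lc_g_Cert_tree lc_g_Cert_tree lc_g_Cert_tree lc_g_rc_27_0 lc_g_rc_17_1 lc_g_rc_6_1 lc_g_rc_29_1 lc_g_rc_17_1 lc_g_Cert_tree lc_g_rc_21_1 lc_g_rc_17_1 lc_g_Cert_tree lc_g_rc_27_0 lc_g_rc_12_3 lc_g_rc_26_3 lc_g_rc_17_1 lc_g_rc_27_0 lc_g_Cert_tree lc_g_rc_27_0 lc_g_rc_12_3 lc_g_rc_29_1 lc_g_Cert_tree lc_g_rc_12_1 lc_g_rc_27_0 lc_g_Cert_tree lc_g_rc_27_0 lc_g_rc_12_3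 lc_g_rc_21_3 lc_g_rc_21_1 lc_g_rc_27_0 lc_g_rc_12_3 lc_g_rc_6_1) (@D3.rec (fun _ => (Cert rels S Gen.g)) lc_g_rc_17_1 lc_g_Cert_tree lc_g_rc_12_3 lc_g_Cert_tree lc_g_rc_26_1 lc_g_rc_27_0 lc_g_Cert_tree lc_g_rc_29_1 lc_g_Cert_tree lc_g_Cert_tree lc_g_rc_27_0 lc_g_rc_17_3 lc_g_rc_29_3 lc_g_rc_17_1 lc_g_rc_6_3 lc_g_rc_17_3 lc_g_rc_27_0 lc_g_Cert_tree lc_g_rc_6_1 lc_g_rc_6_3 lc_g_rc_27_0 lc_g_Cert_tree lc_g_rc_24_3 lc_g_rc_6_3 lc_g_rc_27_0 lc_g_rc_6_1 lc_g_Cert_tree lc_g_rc_27_0 lc_g_rc_12_3 lc_g_rc_12_1 lc_g_rc_29_1 lc_g_rc_29_1 lc_g_rc_27_0 lc_g_rc_6_1 lc_g_Cert_tree lc_g_rc_29_1 lc_g_Cert_tree lc_g_rc_27_0 lc_g_rc_6_3 lc_g_rc_6_3) (@D3.rec (fun _ => (Cert rels S Gen.g)) lc_g_rc_27_1 lc_g_rc_27_0 lc_g_rc_21_3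 lc_g_rc_27_0 lc_g_rc_29_3 lc_g_Cert_tree lc_g_Cert_tree lc_g_rc_12_1 lc_g_rc_27_0 lc_g_Cert_tree lc_g_rc_27_0 lc_g_rc_26_1 lc_g_Cert_tree lc_g_Cert_tree lc_g_Cert_tree lc_g_rc_27_0 lc_g_rc_26_3 lc_g_Cert_tree lc_g_rc_27_0 lc_g_rc_31_8 lc_g_Cert_tree lc_g_rc_27_0 lc_g_Cert_tree lc_g_rc_27_0 lc_g_rc_27_0 lc_g_Cert_tree lc_g_rc_21_1 lc_g_rc_12_3 lc_g_Cert_tree lc_g_Cert_tree lc_g_Cert_tree lc_g_rc_27_0 lc_g_rc_27_0 lc_g_rc_29_1 lc_g_rc_24_1 lc_g_rc_29_1 lc_g_rc_12_1 lc_g_rc_6_3 lc_g_rc_21_1 lc_g_rc_24_1) (@D3.rec (fun _ => (Cert rels S Gen.g)) lc_g_rc_27_0 lc_g_rc_29_3 lc_g_Cert_tree lc_g_Cert_tree lc_g_rc_27_0 lc_g_rc_12_3 lc_g_Cert_tree lc_g_rc_21_1 lc_g_rc_27_0 lc_g_rc_17_1 lc_g_Cert_tree lc_g_rc_27_0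 lc_g_rc_17_1 lc_g_rc_12_1 lc_g_Cert_tree lc_g_rc_27_0 lc_g_rc_12_3 lc_g_rc_17_1 lc_g_rc_29_3 lc_g_rc_6_1 lc_g_rc_12_3 lc_g_rc_6_3 lc_g_rc_12_1 lc_g_rc_6_1 lc_g_rc_31_2 lc_g_rc_6_3 lc_g_rc_27_0 lc_g_rc_6_1 lc_g_rc_27_0 lc_g_rc_12_3 lc_g_rc_29_3 lc_g_Cert_tree lc_g_Cert_tree lc_g_rc_27_0 lc_g_rc_6_1 lc_g_rc_17_1 lc_g_rc_29_3 lc_g_rc_12_1 lc_g_Cert_tree lc_g_rc_27_0) (@D3.rec (fun _ => (Cert rels S Gen.g)) lc_g_Cert_tree lc_g_rc_27_0 lc_g_rc_26_5 lc_g_rc_21_1 lc_g_rc_6_1 lc_g_rc_29_1 lc_g_rc_21_1 lc_g_Cert_tree lc_g_rc_27_0 lc_g_rc_27_0 lc_g_rc_29_1 lc_g_rc_12_3 lc_g_rc_6_1 lc_g_rc_12_1 lc_g_rc_12_3 lc_g_rc_6_1 lc_g_rc_17_1 lc_g_rc_12_3 lc_g_rc_6_1 lc_g_rc_29_1 lc_g_rc_29_3 lc_g_Cert_tree lc_g_Cert_tree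 lc_g_rc_27_0 lc_g_rc_27_1 lc_g_rc_29_1 lc_g_Cert_tree lc_g_rc_6_3 lc_g_rc_27_0 lc_g_rc_29_3 lc_g_rc_17_1 lc_g_rc_29_3 lc_g_rc_26_5 lc_g_rc_6_1 lc_g_rc_29_1 lc_g_rc_21_1 lc_g_Cert_tree lc_g_rc_27_0 lc_g_Cert_tree lc_g_Cert_tree) (@D3.rec (fun _ => (Cert rels S Gen.g)) lc_g_rc_27_0 lc_g_rc_24_3 lc_g_rc_29_3 lc_g_rc_17_1 lc_g_rc_24_1 lc_g_rc_29_3 lc_g_rc_29_1 lc_g_Cert_tree lc_g_rc_27_0 lc_g_rc_12_1 lc_g_Cert_tree lc_g_rc_27_0 lc_g_Cert_tree lc_g_rc_27_0 lc_g_rc_6_1 lc_g_rc_29_1 lc_g_Cert_tree lc_g_Cert_tree lc_g_Cert_tree lc_g_rc_27_0 lc_g_rc_27_0 lc_g_rc_12_1 lc_g_Cert_tree lc_g_Cert_tree lc_g_Cert_tree lc_g_rc_27_0 lc_g_rc_17_1 lc_g_rc_29_1 lc_g_Cert_tree lc_g_Cert_tree lc_g_Cert_tree lc_g_rc_27_0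 lc_g_rc_27_0 lc_g_rc_12_3 lc_g_rc_6_1 lc_g_rc_17_1 lc_g_Cert_tree lc_g_rc_31_5 lc_g_rc_29_3 lc_g_rc_21_1) (@D3.rec (fun _ => (Cert rels S Gen.g)) lc_g_rc_29_3 lc_g_rc_26_5 lc_g_Cert_tree lc_g_rc_6_1 lc_g_rc_29_1 lc_g_rc_17_1 lc_g_rc_12_1 lc_g_Cert_tree lc_g_rc_27_0 lc_g_rc_17_1 lc_g_rc_6_1 lc_g_Cert_tree lc_g_Cert_tree lc_g_rc_27_0 lc_g_rc_27_0 lc_g_rc_6_1 lc_g_rc_6_3 lc_g_Cert_tree lc_g_rc_6_3 lc_g_rc_27_0 lc_g_rc_17_1 lc_g_rc_29_3 lc_g_rc_12_3 lc_g_rc_21_1 lc_g_rc_17_1 lc_g_rc_6_1 lc_g_rc_29_3 lc_g_Cert_tree lc_g_Cert_tree lc_g_Cert_tree lc_g_rc_27_0 lc_g_rc_12_3 lc_g_rc_29_1 lc_g_Cert_tree lc_g_rc_27_0 lc_g_rc_17_1 lc_g_Cert_tree lc_g_Cert_tree lc_g_rc_27_0 lc_g_Cert_tree) (@D3.rec (fun _ => (Cert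 rels S Gen.g)) lc_g_Cert_tree lc_g_rc_27_0 lc_g_rc_6_1 lc_g_rc_27_0 lc_g_rc_12_3 lc_g_rc_6_1 lc_g_rc_27_0 lc_g_rc_12_3 lc_g_rc_29_1 lc_g_rc_17_1 lc_g_rc_12_1 lc_g_Cert_tree lc_g_Cert_tree lc_g_rc_27_0 lc_g_rc_27_0 lc_g_rc_12_3 lc_g_rc_6_1 lc_g_rc_17_3 lc_g_rc_12_3 lc_g_rc_6_3 lc_g_Cert_tree lc_g_rc_27_0 lc_g_rc_12_1 lc_g_rc_27_0 lc_g_rc_6_1 lc_g_rc_29_1 lc_g_rc_29_1 lc_g_rc_21_1 lc_g_Cert_tree lc_g_rc_27_0 lc_g_Cert_tree lc_g_rc_17_1 lc_g_rc_29_3 lc_g_rc_12_5 lc_g_Cert_tree lc_g_rc_27_0 lc_g_rc_27_0 lc_g_rc_12_3 lc_g_rc_6_1 lc_g_rc_17_1) (@D3.rec (fun _ => (Cert rels S Gen.g)) lc_g_Cert_tree lc_g_rc_29_1 lc_g_rc_6_3 lc_g_rc_27_0 lc_g_rc_12_3 lc_g_Cert_tree lc_g_Cert_tree lc_g_rc_27_0 lc_g_rc_27_0 lc_g_rc_12_3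 lc_g_rc_26_3 lc_g_rc_26_3 lc_g_rc_17_1 lc_g_rc_12_3 lc_g_Cert_tree lc_g_rc_27_0 lc_g_Cert_tree lc_g_rc_27_0 lc_g_rc_12_3 lc_g_rc_17_1 lc_g_rc_12_3 lc_g_rc_6_1 lc_g_rc_29_3 lc_g_rc_17_1 lc_g_rc_29_3 lc_g_Cert_tree lc_g_rc_12_3 lc_g_Cert_tree lc_g_Cert_tree lc_g_Cert_tree lc_g_rc_27_0 lc_g_rc_17_1 lc_g_rc_27_0 lc_g_rc_6_1 lc_g_rc_29_3 lc_g_rc_6_3 lc_g_rc_27_0 lc_g_Cert_tree lc_g_Cert_tree lc_g_rc_17_1) (@D3.rec (fun _ => (Cert rels S Gen.g)) lc_g_rc_6_3 lc_g_rc_29_1 lc_g_Cert_tree lc_g_Cert_tree lc_g_rc_24_1 lc_g_rc_27_0 lc_g_rc_6_1 lc_g_rc_17_1 lc_g_rc_29_3 lc_g_rc_21_1 lc_g_Cert_tree lc_g_Cert_tree lc_g_rc_27_0 lc_g_rc_21_1 lc_g_rc_27_0 lc_g_rc_29_1 lc_g_Cert_tree lc_g_rc_27_0 lc_g_rc_12_3 lc_g_Cert_tree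 lc_g_rc_12_3 lc_g_rc_6_1 lc_g_rc_17_1 lc_g_Cert_tree lc_g_rc_6_1 lc_g_rc_24_1 lc_g_rc_27_0 lc_g_Cert_tree lc_g_rc_27_0 lc_g_Cert_tree lc_g_Cert_tree lc_g_rc_6_3 lc_g_rc_27_0 lc_g_Cert_tree lc_g_rc_12_3 lc_g_Cert_tree lc_g_Cert_tree lc_g_Cert_tree lc_g_rc_27_0 lc_g_Cert_tree) (@D3.rec (fun _ => (Cert rels S Gen.g)) lc_g_rc_27_0 lc_g_rc_27_0 lc_g_rc_6_1 lc_g_rc_12_3 lc_g_rc_29_3 lc_g_rc_29_3 lc_g_Cert_tree lc_g_Cert_tree lc_g_rc_29_1 lc_g_rc_27_0 lc_g_rc_6_1 lc_g_rc_17_1 lc_g_Cert_tree lc_g_Cert_tree lc_g_rc_6_1 lc_g_rc_29_1 lc_g_rc_21_1 lc_g_Cert_tree lc_g_rc_27_0 lc_g_Cert_tree lc_g_rc_27_0 lc_g_rc_12_3 lc_g_rc_24_1 lc_g_rc_24_1 lc_g_Cert_tree lc_g_Cert_tree lc_g_rc_6_3 lc_g_rc_27_0 lc_g_rc_29_3 lc_g_rc_6_1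 lc_g_rc_12_5 lc_g_rc_17_3 lc_g_Cert_tree lc_g_rc_27_0 lc_g_Cert_tree lc_g_rc_27_0 lc_g_rc_27_0 lc_g_rc_6_1 lc_g_rc_29_1 lc_g_rc_27_0) (@D3.rec (fun _ => (Cert rels S Gen.g)) lc_g_rc_12_3 lc_g_rc_12_3 lc_g_Cert_tree lc_g_rc_27_0 lc_g_rc_6_1 lc_g_rc_6_3 lc_g_Cert_tree lc_g_rc_27_0 lc_g_Cert_tree lc_g_Cert_tree lc_g_rc_27_0 lc_g_Cert_tree lc_g_rc_27_0 lc_g_rc_6_1 lc_g_rc_21_3 lc_g_rc_27_0 lc_g_Cert_tree lc_g_Cert_tree lc_g_rc_27_0 lc_g_Cert_tree lc_g_Cert_tree lc_g_rc_6_3 lc_g_rc_27_0 lc_g_rc_17_1 lc_g_rc_6_3 lc_g_Cert_tree lc_g_Cert_tree lc_g_Cert_tree lc_g_rc_27_0 lc_g_Cert_tree lc_g_rc_27_0 lc_g_rc_27_0 lc_g_rc_6_1 lc_g_rc_12_3 lc_g_Cert_tree lc_g_rc_17_3 lc_g_rc_29_3 lc_g_Cert_tree lc_g_rc_24_3 lc_g_rc_6_3)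 (@D3.rec (fun _ => (Cert rels S Gen.g)) lc_g_rc_27_0 lc_g_Cert_tree lc_g_rc_17_1 lc_g_Cert_tree lc_g_Cert_tree lc_g_Cert_tree lc_g_rc_27_0 lc_g_Cert_tree lc_g_rc_27_0 lc_g_rc_27_0 lc_g_rc_6_1 lc_g_rc_12_3 lc_g_Cert_tree lc_g_Cert_tree lc_g_rc_27_0 lc_g_rc_21_1 lc_g_rc_17_1 lc_g_rc_17_1 lc_g_rc_26_1 lc_g_Cert_tree lc_g_rc_27_0 lc_g_Cert_tree lc_g_rc_27_0 lc_g_Cert_tree lc_g_rc_27_0 lc_g_rc_27_0 lc_g_rc_12_3 lc_g_rc_17_1 lc_g_Cert_tree lc_g_rc_27_0 lc_g_Cert_tree lc_g_Cert_tree lc_g_rc_27_0 lc_g_rc_27_0 lc_g_rc_27_0 lc_g_rc_12_3 lc_g_rc_12_3 lc_g_rc_6_3 lc_g_rc_6_1 lc_g_rc_29_1) (@D3.rec (fun _ => (Cert rels S Gen.g)) lc_g_Cert_tree lc_g_rc_27_0 lc_g_rc_17_1 lc_g_rc_17_1 lc_g_rc_29_3 lc_g_rc_29_3 lc_g_rc_17_1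 lc_g_rc_31_11 lc_g_rc_26_5 lc_g_Cert_tree lc_g_rc_6_1 lc_g_rc_27_0 lc_g_rc_29_1 lc_g_Cert_tree lc_g_rc_21_3 lc_g_rc_17_1 lc_g_rc_27_0 lc_g_rc_12_3 lc_g_rc_21_1 lc_g_rc_6_3 lc_g_rc_24_1 lc_g_rc_21_3 lc_g_rc_12_5 lc_g_rc_27_0 lc_g_rc_6_1 lc_g_rc_21_1 lc_g_rc_27_1 lc_g_rc_26_7 lc_g_rc_29_3 lc_g_rc_21_1 lc_g_rc_29_3 lc_g_rc_6_1 lc_g_rc_12_3 lc_g_rc_17_1 lc_g_rc_17_3 lc_g_rc_26_3 lc_g_rc_27_0 lc_g_rc_27_0 lc_g_rc_6_1 lc_g_rc_17_1) (@D3.rec (fun _ => (Cert rels S Gen.g)) lc_g_Cert_tree lc_g_rc_29_1 lc_g_rc_27_0 lc_g_rc_12_3 lc_g_rc_6_3 lc_g_rc_31_5 lc_g_rc_27_0 lc_g_rc_27_0 lc_g_rc_12_3 lc_g_rc_27_0 lc_g_rc_27_0 lc_g_rc_6_1 lc_g_Cert_tree lc_g_rc_12_3 lc_g_rc_29_3 lc_g_rc_12_3 lc_g_rc_29_1 lc_g_rc_17_1 lc_g_rc_21_1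 lc_g_rc_17_1 lc_g_rc_29_1 lc_g_rc_12_3 lc_g_rc_17_1 lc_g_rc_17_1 lc_g_rc_24_3 lc_g_Cert_tree lc_g_rc_27_0 lc_g_rc_6_1 lc_g_rc_6_1 lc_g_Cert_tree lc_g_rc_31_8 lc_g_rc_21_3 lc_g_rc_27_0 lc_g_rc_17_1 lc_g_rc_6_3 lc_g_rc_29_1 lc_g_Cert_tree lc_g_rc_27_0 lc_g_rc_31_2 lc_g_Cert_tree)
def ce_g_10 : D2 → D3 → (Cert rels S Gen.g) := @D2.rec (fun _ => D3 → (Cert rels S Gen.g)) (@D3.rec (fun _ => (Cert rels S Gen.g)) lc_g_rc_27_0 lc_g_Cert_tree lc_g_rc_27_0 lc_g_rc_6_1 lc_g_rc_26_5 lc_g_rc_17_1 lc_g_rc_12_3 lc_g_rc_12_3 lc_g_rc_27_0 lc_g_Cert_tree lc_g_Cert_tree lc_g_rc_29_3 lc_g_rc_27_0 lc_g_rc_6_1 lc_g_rc_27_0 lc_g_rc_21_1 lc_g_rc_6_1 lc_g_rc_29_3 lc_g_rc_12_3 lc_g_rc_24_1 lc_g_rc_24_1 lc_g_rc_27_0 lc_g_rc_31_2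 lc_g_rc_17_1 lc_g_rc_21_3 lc_g_rc_6_1 lc_g_rc_17_3 lc_g_rc_17_3 lc_g_rc_27_0 lc_g_rc_29_3 lc_g_rc_17_1 lc_g_rc_29_3 lc_g_rc_24_3 lc_g_rc_12_3 lc_g_rc_29_1 lc_g_rc_21_1 lc_g_Cert_tree lc_g_rc_27_0 lc_g_rc_17_1 lc_g_rc_12_5) (@D3.rec (fun _ => (Cert rels S Gen.g)) lc_g_rc_17_3 lc_g_rc_12_3 lc_g_Cert_tree lc_g_rc_27_0 lc_g_rc_6_3 lc_g_rc_27_0 lc_g_rc_12_3 lc_g_rc_27_0 lc_g_rc_29_1 lc_g_Cert_tree lc_g_rc_27_0 lc_g_rc_6_1 lc_g_rc_27_0 lc_g_rc_12_3 lc_g_rc_6_1 lc_g_rc_12_3 lc_g_rc_6_1 lc_g_rc_21_1 lc_g_rc_12_3 lc_g_rc_6_1 lc_g_rc_12_3 lc_g_rc_6_3 lc_g_rc_27_0 lc_g_rc_6_1 lc_g_Cert_tree lc_g_Cert_tree lc_g_rc_27_0 lc_g_rc_12_3 lc_g_Cert_tree lc_g_rc_27_0 lc_g_rc_29_3 lc_g_rc_29_3 lc_g_rc_6_1 lc_g_rc_17_1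 lc_g_Cert_tree lc_g_rc_6_1 lc_g_rc_29_1 lc_g_rc_27_0 lc_g_Cert_tree lc_g_rc_29_1) (@D3.rec (fun _ => (Cert rels S Gen.g)) lc_g_rc_21_1 lc_g_rc_27_0 lc_g_rc_17_3 lc_g_rc_27_0 lc_g_rc_12_3 lc_g_rc_12_3 lc_g_rc_27_0 lc_g_rc_12_3 lc_g_rc_29_3 lc_g_rc_17_1 lc_g_rc_29_3 lc_g_rc_12_3 lc_g_rc_12_3 lc_g_rc_17_1 lc_g_rc_6_3 lc_g_rc_27_0 lc_g_rc_29_3 lc_g_rc_29_1 lc_g_rc_29_1 lc_g_rc_12_1 lc_g_rc_6_3 lc_g_rc_27_0 lc_g_Cert_tree lc_g_rc_27_0 lc_g_rc_6_1 lc_g_rc_29_3 lc_g_rc_27_0 lc_g_rc_12_3 lc_g_rc_6_3 lc_g_rc_24_3 lc_g_rc_26_3 lc_g_rc_17_3 lc_g_rc_12_3 lc_g_rc_21_3 lc_g_rc_12_3 lc_g_Cert_tree lc_g_rc_27_0 lc_g_Cert_tree lc_g_rc_21_1 lc_g_rc_21_1) (@D3.rec (fun _ => (Cert rels S Gen.g)) lc_g_rc_29_1 lc_g_rc_27_0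 lc_g_Cert_tree lc_g_rc_24_1 lc_g_rc_27_0 lc_g_rc_6_1 lc_g_rc_27_0 lc_g_rc_6_1 lc_g_rc_12_3 lc_g_rc_24_1 lc_g_rc_17_1 lc_g_rc_12_3 lc_g_rc_27_0 lc_g_rc_6_1 lc_g_rc_29_1 lc_g_Cert_tree lc_g_rc_27_0 lc_g_rc_6_3 lc_g_rc_27_0 lc_g_rc_29_3 lc_g_rc_29_3 lc_g_rc_29_1 lc_g_rc_27_0 lc_g_rc_27_0 lc_g_rc_27_0 lc_g_Cert_tree lc_g_rc_27_0 lc_g_rc_27_0 lc_g_Cert_tree lc_g_Cert_tree lc_g_rc_27_0 lc_g_rc_27_0 lc_g_rc_12_3 lc_g_rc_17_1 lc_g_rc_27_0 lc_g_rc_27_0 lc_g_rc_12_3 lc_g_rc_6_1 lc_g_rc_6_1 lc_g_rc_17_1) (@D3.rec (fun _ => (Cert rels S Gen.g)) lc_g_rc_29_3 lc_g_rc_12_3 lc_g_rc_12_3 lc_g_rc_29_3 lc_g_rc_21_1 lc_g_rc_29_3 lc_g_rc_17_1 lc_g_rc_12_3 lc_g_rc_17_1 lc_g_rc_12_1 lc_g_rc_27_0 lc_g_rc_6_1 lc_g_rc_17_1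 lc_g_rc_6_1 lc_g_rc_29_1 lc_g_rc_6_3 lc_g_rc_17_1 lc_g_rc_17_1 lc_g_rc_6_1 lc_g_rc_29_1 lc_g_rc_17_1 lc_g_rc_24_1 lc_g_Cert_tree lc_g_rc_27_0 lc_g_rc_24_1 lc_g_rc_24_1 lc_g_Cert_tree lc_g_rc_24_1 lc_g_rc_27_0 lc_g_rc_6_1 lc_g_rc_29_3 lc_g_rc_17_1 lc_g_rc_6_1 lc_g_rc_17_1 lc_g_rc_29_1 lc_g_rc_27_0 lc_g_rc_27_0 lc_g_rc_6_1 lc_g_rc_27_1 lc_g_rc_29_3) (@D3.rec (fun _ => (Cert rels S Gen.g)) lc_g_rc_6_3 lc_g_rc_29_1 lc_g_rc_17_1 lc_g_rc_6_1 lc_g_rc_12_5 lc_g_rc_27_0 lc_g_rc_6_3 lc_g_rc_29_3 lc_g_rc_6_1 lc_g_rc_21_3 lc_g_rc_27_0 lc_g_rc_12_1 lc_g_Cert_tree lc_g_rc_27_0 lc_g_rc_17_1 lc_g_rc_29_1 lc_g_Cert_tree lc_g_rc_27_0 lc_g_rc_6_3 lc_g_rc_6_3 lc_g_rc_27_0 lc_g_rc_21_1 lc_g_rc_12_3 lc_g_rc_24_3 lc_g_rc_6_3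 lc_g_rc_21_3 lc_g_rc_27_0 lc_g_rc_17_1 lc_g_rc_21_1 lc_g_Cert_tree lc_g_Cert_tree lc_g_rc_27_0 lc_g_rc_6_1 lc_g_rc_17_3 lc_g_rc_29_1 lc_g_rc_24_1 lc_g_rc_27_0 lc_g_Cert_tree lc_g_rc_27_0 lc_g_rc_12_3) (@D3.rec (fun _ => (Cert rels S Gen.g)) lc_g_rc_6_1 lc_g_rc_17_1 lc_g_rc_12_1 lc_g_rc_6_1 lc_g_rc_17_1 lc_g_rc_6_3 lc_g_Cert_tree lc_g_rc_27_0 lc_g_rc_12_3 lc_g_rc_12_3 lc_g_rc_12_3 lc_g_rc_6_1 lc_g_rc_24_1 lc_g_Cert_tree lc_g_rc_27_0 lc_g_rc_6_1 lc_g_rc_12_3 lc_g_rc_6_3 lc_g_rc_27_0 lc_g_rc_26_1 lc_g_rc_17_3 lc_g_rc_27_0 lc_g_rc_12_3 lc_g_rc_24_1 lc_g_rc_29_1 lc_g_rc_27_0 lc_g_rc_31_2 lc_g_rc_6_1 lc_g_rc_21_1 lc_g_rc_6_1 lc_g_rc_6_1 lc_g_rc_21_1 lc_g_rc_6_1 lc_g_rc_29_1 lc_g_rc_21_1 lc_g_rc_21_1 lc_g_rc_17_1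 lc_g_rc_24_3 lc_g_rc_12_3 lc_g_rc_29_1) (@D3.rec (fun _ => (Cert rels S Gen.g)) lc_g_rc_27_0 lc_g_rc_27_0 lc_g_rc_27_0 lc_g_rc_27_0 lc_g_Cert_tree lc_g_rc_27_0 lc_g_rc_21_1 lc_g_rc_6_1 lc_g_rc_26_1 lc_g_rc_6_3 lc_g_rc_29_3 lc_g_rc_27_0 lc_g_rc_27_0 lc_g_rc_12_1 lc_g_rc_27_0 lc_g_rc_31_5 lc_g_rc_6_3 lc_g_rc_26_1 lc_g_rc_29_3 lc_g_rc_27_0 lc_g_rc_6_1 lc_g_rc_29_1 lc_g_rc_17_3 lc_g_rc_21_1 lc_g_rc_27_0 lc_g_rc_27_0 lc_g_Cert_tree lc_g_Cert_tree lc_g_rc_6_3 lc_g_rc_27_0 lc_g_Cert_tree lc_g_rc_27_0 lc_g_rc_27_0 lc_g_rc_29_3 lc_g_rc_17_3 lc_g_rc_17_3 lc_g_rc_17_1 lc_g_rc_21_1 lc_g_Cert_tree lc_g_Cert_tree) (@D3.rec (fun _ => (Cert rels S Gen.g)) lc_g_rc_17_3 lc_g_rc_27_0 lc_g_rc_27_0 lc_g_rc_6_1 lc_g_rc_29_3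 lc_g_rc_29_1 lc_g_rc_6_1 lc_g_rc_21_1 lc_g_rc_24_3 lc_g_rc_12_3 lc_g_rc_27_0 lc_g_rc_21_1 lc_g_rc_21_1 lc_g_rc_27_1 lc_g_rc_12_3 lc_g_rc_17_3 lc_g_rc_27_0 lc_g_rc_24_1 lc_g_rc_24_1 lc_g_rc_24_3 lc_g_rc_31_2 lc_g_rc_29_1 lc_g_rc_17_1 lc_g_rc_27_0 lc_g_Cert_tree lc_g_rc_6_1 lc_g_rc_6_1 lc_g_rc_6_1 lc_g_Cert_tree lc_g_rc_6_1 lc_g_rc_24_1 lc_g_rc_24_1 lc_g_rc_6_1 lc_g_rc_29_1 lc_g_Cert_tree lc_g_rc_27_0 lc_g_rc_21_1 lc_g_rc_29_1 lc_g_rc_27_0 lc_g_rc_27_0) (@D3.rec (fun _ => (Cert rels S Gen.g)) lc_g_rc_27_0 lc_g_rc_24_3 lc_g_rc_24_1 lc_g_rc_29_3 lc_g_rc_6_3 lc_g_rc_27_0 lc_g_rc_27_1 lc_g_rc_17_1 lc_g_rc_12_3 lc_g_rc_29_3 lc_g_rc_21_1 lc_g_rc_17_1 lc_g_rc_12_3 lc_g_rc_24_3 lc_g_rc_17_1 lc_g_rc_27_1 lc_g_rc_29_3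 lc_g_rc_12_3 lc_g_rc_6_1 lc_g_rc_12_1 lc_g_Cert_tree lc_g_rc_17_1 lc_g_rc_21_1 lc_g_rc_27_0 lc_g_rc_17_3 lc_g_rc_21_1 lc_g_rc_6_1 lc_g_rc_29_3 lc_g_Cert_tree lc_g_rc_29_3 lc_g_rc_17_1 lc_g_rc_27_0 lc_g_rc_17_1 lc_g_rc_29_3 lc_g_rc_27_0 lc_g_rc_6_3 lc_g_Cert_tree lc_g_rc_27_0 lc_g_rc_21_1 lc_g_rc_17_3) (@D3.rec (fun _ => (Cert rels S Gen.g)) lc_g_rc_12_3 lc_g_rc_31_5 lc_g_rc_17_1 lc_g_rc_29_1 lc_g_rc_27_0 lc_g_rc_27_0 lc_g_rc_27_0 lc_g_rc_21_3 lc_g_rc_27_0 lc_g_rc_12_3 lc_g_rc_27_0 lc_g_rc_27_0 lc_g_rc_27_0 lc_g_rc_6_1 lc_g_rc_12_3 lc_g_rc_6_3 lc_g_rc_27_0 lc_g_rc_6_1 lc_g_rc_12_3 lc_g_rc_12_3 lc_g_rc_21_3 lc_g_rc_17_1 lc_g_rc_12_1 lc_g_rc_6_1 lc_g_rc_17_1 lc_g_rc_12_1 lc_g_rc_29_3 lc_g_Cert_tree lc_g_rc_27_0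 lc_g_rc_6_3 lc_g_rc_31_5 lc_g_rc_6_3 lc_g_Cert_tree lc_g_rc_27_0 lc_g_rc_6_1 lc_g_rc_31_11 lc_g_rc_29_1 lc_g_rc_21_3 lc_g_rc_12_3 lc_g_rc_12_3) (@D3.rec (fun _ => (Cert rels S Gen.g)) lc_g_rc_6_1 lc_g_rc_21_1 lc_g_Cert_tree lc_g_rc_27_0 lc_g_rc_6_3 lc_g_rc_29_3 lc_g_rc_27_0 lc_g_rc_6_3 lc_g_Cert_tree lc_g_rc_27_0 lc_g_rc_6_1 lc_g_rc_21_1 lc_g_rc_17_1 lc_g_rc_12_1 lc_g_rc_27_0 lc_g_rc_17_1 lc_g_rc_21_1 lc_g_rc_12_1 lc_g_rc_27_0 lc_g_rc_12_3 lc_g_rc_6_1 lc_g_rc_6_1 lc_g_rc_12_3 lc_g_rc_24_1 lc_g_rc_29_3 lc_g_rc_29_1 lc_g_rc_24_3 lc_g_rc_12_3 lc_g_rc_29_1 lc_g_Cert_tree lc_g_rc_27_0 lc_g_rc_12_3 lc_g_rc_12_1 lc_g_rc_17_1 lc_g_Cert_tree lc_g_rc_24_1 lc_g_rc_29_3 lc_g_rc_21_1 lc_g_rc_29_3 lc_g_rc_31_8)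 (@D3.rec (fun _ => (Cert rels S Gen.g)) lc_g_rc_29_1 lc_g_Cert_tree lc_g_rc_27_0 lc_g_rc_29_1 lc_g_rc_27_0 lc_g_rc_17_1 lc_g_rc_17_1 lc_g_rc_21_1 lc_g_rc_12_3 lc_g_rc_27_0 lc_g_rc_29_3 lc_g_rc_29_3 lc_g_rc_27_1 lc_g_rc_29_1 lc_g_Cert_tree lc_g_rc_27_0 lc_g_rc_6_1 lc_g_rc_31_2 lc_g_rc_6_3 lc_g_rc_27_0 lc_g_rc_21_1 lc_g_rc_27_0 lc_g_rc_12_3 lc_g_rc_6_1 lc_g_rc_6_1 lc_g_rc_12_3 lc_g_rc_17_1 lc_g_rc_12_3 lc_g_Cert_tree lc_g_rc_21_1 lc_g_rc_27_0 lc_g_rc_6_1 lc_g_rc_6_1 lc_g_rc_6_3 lc_g_Cert_tree lc_g_rc_27_0 lc_g_Cert_tree lc_g_rc_27_0 lc_g_rc_6_1 lc_g_rc_29_3) (@D3.rec (fun _ => (Cert rels S Gen.g)) lc_g_rc_21_1 lc_g_rc_29_3 lc_g_rc_21_1 lc_g_rc_27_0 lc_g_Cert_tree lc_g_rc_27_0 lc_g_rc_6_1 lc_g_Cert_tree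 lc_g_Cert_tree lc_g_rc_27_0 lc_g_rc_12_3 lc_g_rc_6_1 lc_g_rc_6_1 lc_g_rc_27_0 lc_g_rc_6_1 lc_g_rc_29_1 lc_g_rc_27_0 lc_g_rc_17_1 lc_g_rc_24_1 lc_g_Cert_tree lc_g_Cert_tree lc_g_rc_27_0 lc_g_rc_27_0 lc_g_Cert_tree lc_g_rc_27_0 lc_g_rc_24_1 lc_g_rc_29_3 lc_g_Cert_tree lc_g_rc_27_0 lc_g_rc_27_0 lc_g_rc_12_3 lc_g_rc_6_1 lc_g_rc_31_5 lc_g_rc_12_1 lc_g_rc_12_3 lc_g_rc_24_1 lc_g_rc_29_1 lc_g_rc_6_3 lc_g_rc_17_1 lc_g_rc_26_3) (@D3.rec (fun _ => (Cert rels S Gen.g)) lc_g_Cert_tree lc_g_Cert_tree lc_g_Cert_tree lc_g_rc_27_0 lc_g_rc_27_0 lc_g_rc_26_5 lc_g_rc_21_1 lc_g_rc_29_3 lc_g_rc_6_1 lc_g_rc_17_1 lc_g_rc_12_3 lc_g_rc_6_1 lc_g_rc_21_1 lc_g_rc_17_1 lc_g_rc_6_1 lc_g_rc_17_3 lc_g_rc_29_1 lc_g_rc_29_3 lc_g_Cert_tree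 lc_g_rc_27_0 lc_g_rc_27_0 lc_g_rc_21_1 lc_g_rc_27_0 lc_g_rc_27_0 lc_g_rc_29_1 lc_g_rc_24_1 lc_g_rc_17_1 lc_g_Cert_tree lc_g_rc_29_3 lc_g_rc_21_1 lc_g_rc_29_3 lc_g_Cert_tree lc_g_rc_27_0 lc_g_Cert_tree lc_g_rc_6_1 lc_g_rc_29_1 lc_g_rc_17_1 lc_g_rc_24_1 lc_g_Cert_tree lc_g_Cert_tree) (@D3.rec (fun _ => (Cert rels S Gen.g)) lc_g_rc_27_0 lc_g_rc_6_1 lc_g_Cert_tree lc_g_rc_27_0 lc_g_rc_27_0 lc_g_rc_26_5 lc_g_rc_29_3 lc_g_rc_26_5 lc_g_rc_6_3 lc_g_rc_17_3 lc_g_rc_27_0 lc_g_rc_27_1 lc_g_rc_29_1 lc_g_Cert_tree lc_g_rc_27_0 lc_g_rc_17_1 lc_g_rc_6_1 lc_g_Cert_tree lc_g_Cert_tree lc_g_rc_27_0 lc_g_Cert_tree lc_g_Cert_tree lc_g_rc_27_0 lc_g_rc_12_3 lc_g_rc_6_1 lc_g_rc_31_8 lc_g_rc_6_3 lc_g_rc_27_0 lc_g_rc_6_3 lc_g_rc_27_0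 lc_g_rc_27_0 lc_g_rc_29_3 lc_g_rc_27_0 lc_g_rc_12_3 lc_g_rc_12_3 lc_g_rc_17_1 lc_g_rc_21_1 lc_g_rc_21_1 lc_g_rc_17_1 lc_g_rc_17_3) (@D3.rec (fun _ => (Cert rels S Gen.g)) lc_g_rc_27_0 lc_g_Cert_tree lc_g_rc_29_3 lc_g_rc_17_1 lc_g_rc_24_1 lc_g_rc_29_3 lc_g_rc_29_1 lc_g_Cert_tree lc_g_Cert_tree lc_g_rc_24_1 lc_g_rc_27_0 lc_g_rc_17_1 lc_g_rc_6_1 lc_g_rc_29_1 lc_g_Cert_tree lc_g_rc_21_1 lc_g_rc_17_1 lc_g_Cert_tree lc_g_Cert_tree lc_g_Cert_tree lc_g_rc_27_0 lc_g_rc_27_0 lc_g_rc_12_3 lc_g_rc_17_1 lc_g_rc_6_3 lc_g_rc_27_0 lc_g_rc_29_1 lc_g_rc_27_0 lc_g_rc_27_0 lc_g_rc_29_3 lc_g_rc_29_3 lc_g_rc_6_1 lc_g_Cert_tree lc_g_Cert_tree lc_g_rc_27_0 lc_g_Cert_tree lc_g_rc_27_0 lc_g_rc_17_1 lc_g_rc_6_1 lc_g_Cert_tree)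 (@D3.rec (fun _ => (Cert rels S Gen.g)) lc_g_rc_29_1 lc_g_Cert_tree lc_g_Cert_tree lc_g_rc_27_0 lc_g_rc_12_3 lc_g_rc_17_1 lc_g_Cert_tree lc_g_rc_17_1 lc_g_rc_27_0 lc_g_Cert_tree lc_g_Cert_tree lc_g_rc_27_0 lc_g_rc_12_3 lc_g_Cert_tree lc_g_Cert_tree lc_g_rc_27_0 lc_g_rc_27_0 lc_g_rc_12_3 lc_g_rc_6_1 lc_g_rc_24_1 lc_g_rc_17_3 lc_g_rc_27_1 lc_g_rc_6_3 lc_g_rc_6_1 lc_g_rc_17_1 lc_g_rc_29_3 lc_g_rc_29_3 lc_g_rc_17_1 lc_g_rc_27_0 lc_g_rc_12_3 lc_g_rc_12_3 lc_g_rc_27_1 lc_g_rc_17_1 lc_g_rc_12_1 lc_g_rc_12_1 lc_g_rc_6_1 lc_g_rc_29_1 lc_g_rc_21_1 lc_g_rc_17_1 lc_g_Cert_tree) (@D3.rec (fun _ => (Cert rels S Gen.g)) lc_g_Cert_tree lc_g_rc_27_0 lc_g_rc_27_0 lc_g_rc_12_3 lc_g_rc_12_3 lc_g_rc_17_1 lc_g_rc_21_1 lc_g_rc_12_3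 lc_g_rc_12_3 lc_g_rc_12_5 lc_g_rc_26_3 lc_g_Cert_tree lc_g_Cert_tree lc_g_rc_27_0 lc_g_rc_29_1 lc_g_Cert_tree lc_g_rc_12_1 lc_g_rc_27_0 lc_g_Cert_tree lc_g_rc_29_3 lc_g_rc_17_1 lc_g_rc_24_1 lc_g_rc_29_3 lc_g_rc_29_3 lc_g_rc_29_1 lc_g_Cert_tree lc_g_rc_27_0 lc_g_Cert_tree lc_g_rc_27_0 lc_g_Cert_tree lc_g_rc_27_0 lc_g_rc_6_1 lc_g_rc_27_0 lc_g_rc_6_1 lc_g_Cert_tree lc_g_Cert_tree lc_g_Cert_tree lc_g_rc_27_0 lc_g_rc_6_1 lc_g_rc_29_1) (@D3.rec (fun _ => (Cert rels S Gen.g)) lc_g_Cert_tree lc_g_rc_6_1 lc_g_Cert_tree lc_g_rc_17_1 lc_g_Cert_tree lc_g_Cert_tree lc_g_Cert_tree lc_g_rc_27_0 lc_g_rc_27_0 lc_g_rc_12_3 lc_g_rc_6_1 lc_g_rc_17_1 lc_g_rc_27_0 lc_g_rc_26_3 lc_g_Cert_tree lc_g_rc_27_0 lc_g_rc_21_1 lc_g_rc_17_1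 lc_g_rc_6_1 lc_g_rc_26_5 lc_g_rc_12_3 lc_g_Cert_tree lc_g_Cert_tree lc_g_rc_27_0 lc_g_rc_6_1 lc_g_rc_29_1 lc_g_Cert_tree lc_g_rc_27_0 lc_g_rc_12_3 lc_g_rc_29_3 lc_g_Cert_tree lc_g_rc_12_5 lc_g_Cert_tree lc_g_Cert_tree lc_g_Cert_tree lc_g_rc_27_0 lc_g_rc_12_3 lc_g_Cert_tree lc_g_rc_27_0 lc_g_rc_12_3) (@D3.rec (fun _ => (Cert rels S Gen.g)) lc_g_rc_12_3 lc_g_rc_17_1 lc_g_rc_6_3 lc_g_rc_29_1 lc_g_Cert_tree lc_g_rc_12_1 lc_g_rc_27_0 lc_g_Cert_tree lc_g_rc_29_1 lc_g_Cert_tree lc_g_Cert_tree lc_g_rc_27_0 lc_g_rc_12_3 lc_g_rc_29_3 lc_g_rc_17_1 lc_g_rc_29_3 lc_g_rc_6_1 lc_g_rc_29_1 lc_g_rc_21_1 lc_g_Cert_tree lc_g_rc_27_0 lc_g_rc_27_0 lc_g_rc_12_3 lc_g_Cert_tree lc_g_Cert_tree lc_g_Cert_tree lc_g_rc_27_0 lc_g_Cert_tree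 lc_g_rc_27_0 lc_g_rc_12_3 lc_g_rc_17_1 lc_g_rc_29_3 lc_g_Cert_tree lc_g_rc_27_0 lc_g_rc_27_0 lc_g_rc_12_3 lc_g_rc_6_1 lc_g_rc_12_5 lc_g_rc_29_3 lc_g_rc_6_3) (@D3.rec (fun _ => (Cert rels S Gen.g)) lc_g_Cert_tree lc_g_rc_27_0 lc_g_rc_17_1 lc_g_rc_27_0 lc_g_rc_12_3 lc_g_rc_12_3 lc_g_rc_27_0 lc_g_rc_27_0 lc_g_rc_12_3 lc_g_rc_17_1 lc_g_rc_12_3 lc_g_rc_6_1 lc_g_rc_17_1 lc_g_Cert_tree lc_g_Cert_tree lc_g_rc_6_3 lc_g_rc_6_1 lc_g_rc_21_1 lc_g_rc_29_3 lc_g_rc_29_3 lc_g_rc_12_3 lc_g_rc_27_0 lc_g_rc_27_0 lc_g_rc_12_3 lc_g_rc_29_3 lc_g_rc_12_3 lc_g_rc_29_3 lc_g_rc_17_1 lc_g_rc_12_3 lc_g_rc_27_0 lc_g_rc_31_11 lc_g_rc_12_3 lc_g_rc_6_1 lc_g_rc_17_1 lc_g_Cert_tree lc_g_rc_27_1 lc_g_rc_6_1 lc_g_rc_26_1 lc_g_rc_21_1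 lc_g_rc_26_5) (@D3.rec (fun _ => (Cert rels S Gen.g)) lc_g_rc_27_0 lc_g_rc_17_1 lc_g_rc_6_1 lc_g_rc_6_1 lc_g_rc_29_1 lc_g_rc_17_1 lc_g_rc_24_1 lc_g_rc_21_1 lc_g_Cert_tree lc_g_Cert_tree lc_g_rc_6_3 lc_g_rc_27_0 lc_g_Cert_tree lc_g_Cert_tree lc_g_Cert_tree lc_g_rc_27_0 lc_g_rc_27_0 lc_g_rc_27_0 lc_g_rc_12_3 lc_g_rc_29_3 lc_g_rc_27_0 lc_g_rc_12_3 lc_g_rc_12_3 lc_g_rc_29_3 lc_g_rc_29_3 lc_g_rc_12_3 lc_g_Cert_tree lc_g_rc_21_1 lc_g_Cert_tree lc_g_Cert_tree lc_g_rc_27_0 lc_g_rc_12_1 lc_g_rc_12_1 lc_g_Cert_tree lc_g_rc_27_0 lc_g_rc_29_1 lc_g_rc_17_1 lc_g_Cert_tree lc_g_rc_27_0 lc_g_Cert_tree) (@D3.rec (fun _ => (Cert rels S Gen.g)) lc_g_rc_27_0 lc_g_rc_17_3 lc_g_rc_12_3 lc_g_Cert_tree lc_g_Cert_tree lc_g_rc_17_1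 lc_g_rc_27_0 lc_g_Cert_tree lc_g_Cert_tree lc_g_Cert_tree lc_g_rc_27_0 lc_g_rc_17_1 lc_g_rc_29_3 lc_g_Cert_tree lc_g_rc_21_1 lc_g_rc_17_1 lc_g_rc_6_1 lc_g_rc_29_3 lc_g_Cert_tree lc_g_Cert_tree lc_g_Cert_tree lc_g_rc_27_0 lc_g_rc_29_1 lc_g_Cert_tree lc_g_rc_27_0 lc_g_Cert_tree lc_g_rc_27_0 lc_g_Cert_tree lc_g_Cert_tree lc_g_rc_27_0 lc_g_rc_12_3 lc_g_rc_6_1 lc_g_Cert_tree lc_g_Cert_tree lc_g_rc_6_1 lc_g_rc_27_0 lc_g_Cert_tree lc_g_Cert_tree lc_g_Cert_tree lc_g_rc_27_0) (@D3.rec (fun _ => (Cert rels S Gen.g)) lc_g_rc_21_1 lc_g_rc_21_1 lc_g_rc_27_0 lc_g_Cert_tree lc_g_rc_12_3 lc_g_rc_17_1 lc_g_Cert_tree lc_g_Cert_tree lc_g_rc_6_3 lc_g_rc_27_0 lc_g_Cert_tree lc_g_Cert_tree lc_g_Cert_tree lc_g_rc_27_0 lc_g_Cert_tree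 lc_g_rc_27_0 lc_g_rc_29_3 lc_g_Cert_tree lc_g_rc_17_1 lc_g_rc_6_3 lc_g_rc_29_1 lc_g_Cert_tree lc_g_rc_12_1 lc_g_rc_27_0 lc_g_rc_6_1 lc_g_Cert_tree lc_g_Cert_tree lc_g_Cert_tree lc_g_Cert_tree lc_g_rc_27_0 lc_g_rc_24_1 lc_g_rc_29_3 lc_g_rc_21_1 lc_g_Cert_tree lc_g_Cert_tree lc_g_rc_27_0 lc_g_rc_27_0 lc_g_rc_12_3 lc_g_rc_6_1 lc_g_rc_17_1) (@D3.rec (fun _ => (Cert rels S Gen.g)) lc_g_Cert_tree lc_g_rc_6_1 lc_g_rc_17_1 lc_g_rc_26_3 lc_g_Cert_tree lc_g_rc_21_3 lc_g_rc_27_0 lc_g_rc_29_3 lc_g_Cert_tree lc_g_rc_27_0 lc_g_rc_17_1 lc_g_Cert_tree lc_g_Cert_tree lc_g_rc_27_0 lc_g_rc_26_7 lc_g_Cert_tree lc_g_rc_26_3 lc_g_Cert_tree lc_g_rc_27_0 lc_g_rc_6_1 lc_g_Cert_tree lc_g_rc_21_3 lc_g_rc_6_3 lc_g_rc_27_0 lc_g_rc_29_3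 lc_g_rc_29_1 lc_g_rc_12_1 lc_g_rc_6_1 lc_g_rc_6_3 lc_g_rc_27_0 lc_g_rc_24_1 lc_g_Cert_tree lc_g_Cert_tree lc_g_Cert_tree lc_g_rc_27_0 lc_g_rc_6_1 lc_g_Cert_tree lc_g_rc_27_0 lc_g_Cert_tree lc_g_rc_27_0)
def ce_g_11 : D2 → D3 → (Cert rels S Gen.g) := @D2.rec (fun _ => D3 → (Cert rels S Gen.g)) (@D3.rec (fun _ => (Cert rels S Gen.g)) lc_g_rc_27_0 lc_g_rc_17_1 lc_g_rc_24_1 lc_g_rc_29_1 lc_g_Cert_tree lc_g_Cert_tree lc_g_rc_27_0 lc_g_rc_27_1 lc_g_Cert_tree lc_g_rc_6_3 lc_g_rc_27_0 lc_g_Cert_tree lc_g_rc_31_14 lc_g_rc_6_3 lc_g_rc_27_0 lc_g_rc_12_3 lc_g_rc_6_1 lc_g_rc_27_0 lc_g_rc_29_3 lc_g_rc_24_1 lc_g_rc_6_1 lc_g_rc_24_1 lc_g_rc_29_1 lc_g_rc_27_0 lc_g_rc_12_3 lc_g_Cert_tree lc_g_rc_12_3 lc_g_rc_6_1 lc_g_rc_17_1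 lc_g_Cert_tree lc_g_rc_29_1 lc_g_rc_6_3 lc_g_rc_24_3 lc_g_rc_27_0 lc_g_rc_29_3 lc_g_rc_17_1 lc_g_rc_6_1 lc_g_rc_26_1 lc_g_rc_21_1 lc_g_Cert_tree) (@D3.rec (fun _ => (Cert rels S Gen.g)) lc_g_rc_27_0 lc_g_rc_6_3 lc_g_Cert_tree lc_g_Cert_tree lc_g_rc_6_1 lc_g_rc_27_0 lc_g_rc_26_3 lc_g_Cert_tree lc_g_rc_12_5 lc_g_rc_27_0 lc_g_rc_17_1 lc_g_rc_29_1 lc_g_Cert_tree lc_g_rc_29_1 lc_g_Cert_tree lc_g_rc_27_0 lc_g_rc_27_0 lc_g_rc_12_3 lc_g_rc_6_1 lc_g_rc_17_1 lc_g_Cert_tree lc_g_rc_29_3 lc_g_rc_21_1 lc_g_rc_29_3 lc_g_rc_6_1 lc_g_rc_29_1 lc_g_rc_12_3 lc_g_rc_24_1 lc_g_Cert_tree lc_g_Cert_tree lc_g_rc_27_0 lc_g_Cert_tree lc_g_rc_21_3 lc_g_rc_29_1 lc_g_rc_27_0 lc_g_rc_6_3 lc_g_Cert_tree lc_g_rc_17_3 lc_g_rc_27_0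 lc_g_rc_21_1) (@D3.rec (fun _ => (Cert rels S Gen.g)) lc_g_rc_21_1 lc_g_rc_27_0 lc_g_rc_12_3 lc_g_rc_12_3 lc_g_rc_17_1 lc_g_rc_12_1 lc_g_Cert_tree lc_g_rc_6_3 lc_g_rc_27_0 lc_g_Cert_tree lc_g_Cert_tree lc_g_Cert_tree lc_g_rc_27_0 lc_g_rc_27_0 lc_g_rc_12_3 lc_g_rc_29_3 lc_g_rc_29_3 lc_g_Cert_tree lc_g_rc_27_0 lc_g_rc_27_0 lc_g_rc_12_3 lc_g_rc_29_3 lc_g_Cert_tree lc_g_rc_21_1 lc_g_Cert_tree lc_g_Cert_tree lc_g_Cert_tree lc_g_Cert_tree lc_g_rc_27_0 lc_g_Cert_tree lc_g_rc_27_0 lc_g_Cert_tree lc_g_rc_27_0 lc_g_rc_12_3 lc_g_rc_17_1 lc_g_rc_6_1 lc_g_Cert_tree lc_g_Cert_tree lc_g_Cert_tree lc_g_rc_27_0) (@D3.rec (fun _ => (Cert rels S Gen.g)) lc_g_rc_12_1 lc_g_rc_27_0 lc_g_rc_27_0 lc_g_rc_29_1 lc_g_rc_27_0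 lc_g_rc_12_3 lc_g_rc_27_0 lc_g_rc_27_0 lc_g_rc_12_1 lc_g_rc_6_1 lc_g_rc_17_1 lc_g_rc_27_1 lc_g_Cert_tree lc_g_rc_24_1 lc_g_rc_27_0 lc_g_rc_29_1 lc_g_Cert_tree lc_g_rc_6_3 lc_g_rc_27_0 lc_g_Cert_tree lc_g_Cert_tree lc_g_Cert_tree lc_g_rc_27_0 lc_g_rc_27_0 lc_g_rc_29_3 lc_g_Cert_tree lc_g_rc_17_1 lc_g_Cert_tree lc_g_Cert_tree lc_g_rc_27_0 lc_g_Cert_tree lc_g_Cert_tree lc_g_rc_6_3 lc_g_rc_27_0 lc_g_rc_12_3 lc_g_rc_12_3 lc_g_Cert_tree lc_g_Cert_tree lc_g_Cert_tree lc_g_rc_27_0) (@D3.rec (fun _ => (Cert rels S Gen.g)) lc_g_Cert_tree lc_g_rc_27_0 lc_g_rc_27_0 lc_g_rc_6_1 lc_g_rc_12_3 lc_g_Cert_tree lc_g_Cert_tree lc_g_Cert_tree lc_g_rc_6_3 lc_g_rc_27_0 lc_g_Cert_tree lc_g_rc_27_0 lc_g_rc_27_0 lc_g_rc_29_3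 lc_g_rc_12_1 lc_g_rc_27_0 lc_g_rc_6_1 lc_g_Cert_tree lc_g_rc_12_3 lc_g_rc_6_3 lc_g_rc_27_0 lc_g_rc_29_1 lc_g_Cert_tree lc_g_rc_27_0 lc_g_Cert_tree lc_g_Cert_tree lc_g_rc_27_0 lc_g_rc_29_1 lc_g_Cert_tree lc_g_rc_6_3 lc_g_rc_27_0 lc_g_Cert_tree lc_g_Cert_tree lc_g_Cert_tree lc_g_rc_27_0 lc_g_rc_27_0 lc_g_rc_29_3 lc_g_Cert_tree lc_g_rc_17_1 lc_g_Cert_tree) (@D3.rec (fun _ => (Cert rels S Gen.g)) lc_g_Cert_tree lc_g_rc_27_0 lc_g_Cert_tree lc_g_Cert_tree lc_g_rc_6_3 lc_g_rc_27_0 lc_g_rc_17_1 lc_g_rc_12_3 lc_g_Cert_tree lc_g_Cert_tree lc_g_Cert_tree lc_g_rc_27_0 lc_g_Cert_tree lc_g_rc_27_0 lc_g_rc_27_0 lc_g_rc_6_1 lc_g_rc_24_1 lc_g_Cert_tree lc_g_Cert_tree lc_g_Cert_tree lc_g_rc_6_3 lc_g_rc_27_0 lc_g_Cert_tree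 lc_g_rc_27_0 lc_g_rc_27_0 lc_g_rc_29_3 lc_g_rc_17_1 lc_g_Cert_tree lc_g_Cert_tree lc_g_Cert_tree lc_g_Cert_tree lc_g_rc_27_0 lc_g_rc_17_1 lc_g_rc_17_1 lc_g_Cert_tree lc_g_Cert_tree lc_g_Cert_tree lc_g_Cert_tree lc_g_rc_27_0 lc_g_rc_17_1) (@D3.rec (fun _ => (Cert rels S Gen.g)) lc_g_rc_27_0 lc_g_rc_12_1 lc_g_rc_6_3 lc_g_rc_27_0 lc_g_rc_12_3 lc_g_rc_24_1 lc_g_rc_21_1 lc_g_rc_12_1 lc_g_rc_21_1 lc_g_rc_27_0 lc_g_rc_21_1 lc_g_rc_12_3 lc_g_Cert_tree lc_g_Cert_tree lc_g_rc_27_0 lc_g_rc_12_3 lc_g_rc_21_1 lc_g_rc_29_1 lc_g_rc_27_0 lc_g_rc_29_3 lc_g_rc_17_1 lc_g_rc_12_3 lc_g_rc_29_3 lc_g_rc_29_3 lc_g_rc_29_3 lc_g_rc_6_3 lc_g_rc_21_1 lc_g_Cert_tree lc_g_rc_27_0 lc_g_rc_27_0 lc_g_rc_27_0 lc_g_rc_21_1 lc_g_rc_17_1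 lc_g_rc_12_3 lc_g_rc_6_1 lc_g_rc_17_1 lc_g_rc_31_5 lc_g_rc_21_1 lc_g_rc_12_3 lc_g_rc_29_1) (@D3.rec (fun _ => (Cert rels S Gen.g)) lc_g_rc_6_3 lc_g_rc_12_3 lc_g_Cert_tree lc_g_rc_27_0 lc_g_Cert_tree lc_g_rc_27_0 lc_g_rc_29_3 lc_g_rc_27_0 lc_g_rc_6_3 lc_g_rc_21_1 lc_g_rc_27_0 lc_g_rc_27_0 lc_g_rc_12_3 lc_g_rc_21_3 lc_g_rc_24_1 lc_g_rc_21_1 lc_g_rc_17_1 lc_g_rc_17_1 lc_g_rc_24_1 lc_g_rc_26_5 lc_g_rc_26_7 lc_g_rc_21_3 lc_g_rc_12_1 lc_g_rc_27_0 lc_g_rc_17_1 lc_g_rc_29_3 lc_g_rc_6_1 lc_g_rc_29_3 lc_g_rc_21_1 lc_g_rc_17_1 lc_g_rc_12_1 lc_g_rc_21_3 lc_g_rc_27_0 lc_g_rc_24_1 lc_g_rc_12_5 lc_g_rc_6_1 lc_g_rc_6_3 lc_g_rc_29_1 lc_g_Cert_tree lc_g_Cert_tree) (@D3.rec (fun _ => (Cert rels S Gen.g)) lc_g_rc_27_0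 lc_g_rc_27_0 lc_g_Cert_tree lc_g_rc_27_0 lc_g_Cert_tree lc_g_rc_27_0 lc_g_rc_12_3 lc_g_rc_12_3 lc_g_rc_29_1 lc_g_rc_6_3 lc_g_rc_29_1 lc_g_rc_12_3 lc_g_rc_21_1 lc_g_rc_27_0 lc_g_rc_29_3 lc_g_rc_31_8 lc_g_rc_17_1 lc_g_rc_27_0 lc_g_Cert_tree lc_g_rc_27_0 lc_g_Cert_tree lc_g_Cert_tree lc_g_rc_27_0 lc_g_rc_12_3 lc_g_Cert_tree lc_g_rc_6_1 lc_g_rc_27_0 lc_g_rc_17_1 lc_g_rc_29_1 lc_g_rc_27_0 lc_g_rc_27_0 lc_g_rc_12_3 lc_g_rc_6_1 lc_g_rc_12_1 lc_g_rc_29_1 lc_g_rc_17_1 lc_g_Cert_tree lc_g_rc_27_0 lc_g_rc_12_3 lc_g_rc_27_0) (@D3.rec (fun _ => (Cert rels S Gen.g)) lc_g_rc_27_0 lc_g_rc_12_3 lc_g_rc_29_1 lc_g_rc_24_1 lc_g_rc_17_1 lc_g_rc_12_3 lc_g_rc_6_1 lc_g_rc_17_1 lc_g_rc_21_1 lc_g_rc_21_1 lc_g_rc_29_3 lc_g_rc_29_1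 lc_g_rc_24_3 lc_g_rc_21_1 lc_g_rc_29_3 lc_g_rc_17_1 lc_g_rc_29_3 lc_g_rc_12_3 lc_g_rc_6_1 lc_g_rc_17_1 lc_g_Cert_tree lc_g_Cert_tree lc_g_rc_29_1 lc_g_rc_17_1 lc_g_rc_12_1 lc_g_rc_31_8 lc_g_rc_6_1 lc_g_rc_29_1 lc_g_rc_21_1 lc_g_rc_6_1 lc_g_rc_27_0 lc_g_rc_6_3 lc_g_rc_27_0 lc_g_rc_6_1 lc_g_rc_17_1 lc_g_rc_24_1 lc_g_rc_29_3 lc_g_rc_12_3 lc_g_rc_29_3 lc_g_rc_6_3) (@D3.rec (fun _ => (Cert rels S Gen.g)) lc_g_rc_27_0 lc_g_rc_6_3 lc_g_rc_27_0 lc_g_rc_12_3 lc_g_rc_6_1 lc_g_rc_17_1 lc_g_rc_27_0 lc_g_rc_27_0 lc_g_rc_17_3 lc_g_rc_27_0 lc_g_rc_27_0 lc_g_rc_6_1 lc_g_rc_27_0 lc_g_rc_12_3 lc_g_rc_6_1 lc_g_rc_12_3 lc_g_rc_29_3 lc_g_rc_12_1 lc_g_rc_12_3 lc_g_rc_6_1 lc_g_rc_21_1 lc_g_rc_6_1 lc_g_Cert_tree lc_g_rc_27_1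 lc_g_rc_26_1 lc_g_rc_27_0 lc_g_rc_27_1 lc_g_rc_26_7 lc_g_rc_12_1 lc_g_rc_27_0 lc_g_rc_21_3 lc_g_rc_24_1 lc_g_rc_21_1 lc_g_rc_6_1 lc_g_rc_6_1 lc_g_rc_29_1 lc_g_rc_6_1 lc_g_rc_12_1 lc_g_rc_17_1 lc_g_rc_17_1) (@D3.rec (fun _ => (Cert rels S Gen.g)) lc_g_rc_6_3 lc_g_rc_12_1 lc_g_rc_27_0 lc_g_rc_27_0 lc_g_rc_12_3 lc_g_rc_17_1 lc_g_rc_24_3 lc_g_rc_12_3 lc_g_rc_12_3 lc_g_rc_12_1 lc_g_rc_6_1 lc_g_rc_12_1 lc_g_rc_6_1 lc_g_Cert_tree lc_g_rc_24_1 lc_g_Cert_tree lc_g_rc_26_1 lc_g_rc_27_0 lc_g_rc_12_1 lc_g_Cert_tree lc_g_rc_6_3 lc_g_rc_27_0 lc_g_rc_6_1 lc_g_rc_17_1 lc_g_rc_27_0 lc_g_rc_12_3 lc_g_rc_27_0 lc_g_rc_29_1 lc_g_rc_12_3 lc_g_rc_27_0 lc_g_rc_6_1 lc_g_rc_12_3 lc_g_rc_17_1 lc_g_rc_29_1 lc_g_rc_12_1 lc_g_rc_27_0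 lc_g_rc_29_1 lc_g_rc_17_1 lc_g_rc_27_0 lc_g_rc_21_3) (@D3.rec (fun _ => (Cert rels S Gen.g)) lc_g_rc_24_3 lc_g_rc_27_0 lc_g_rc_12_3 lc_g_rc_17_1 lc_g_rc_31_8 lc_g_rc_17_1 lc_g_rc_24_3 lc_g_rc_17_1 lc_g_Cert_tree lc_g_rc_27_0 lc_g_rc_17_1 lc_g_rc_12_3 lc_g_rc_12_1 lc_g_rc_27_0 lc_g_Cert_tree lc_g_Cert_tree lc_g_Cert_tree lc_g_rc_27_0 lc_g_rc_27_0 lc_g_rc_17_1 lc_g_Cert_tree lc_g_Cert_tree lc_g_rc_6_3 lc_g_rc_27_0 lc_g_rc_24_1 lc_g_rc_21_1 lc_g_rc_6_1 lc_g_Cert_tree lc_g_Cert_tree lc_g_Cert_tree lc_g_rc_27_0 lc_g_rc_6_1 lc_g_rc_21_1 lc_g_rc_27_0 lc_g_rc_6_1 lc_g_rc_27_0 lc_g_rc_6_1 lc_g_rc_31_5 lc_g_rc_12_3 lc_g_rc_24_1) (@D3.rec (fun _ => (Cert rels S Gen.g)) lc_g_rc_12_3 lc_g_rc_27_0 lc_g_rc_27_0 lc_g_rc_17_1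 lc_g_rc_12_3 lc_g_rc_27_0 lc_g_rc_17_1 lc_g_rc_6_3 lc_g_rc_27_0 lc_g_rc_6_3 lc_g_rc_6_1 lc_g_rc_27_0 lc_g_rc_12_3 lc_g_Cert_tree lc_g_Cert_tree lc_g_rc_31_2 lc_g_rc_27_0 lc_g_rc_21_1 lc_g_Cert_tree lc_g_rc_27_0 lc_g_Cert_tree lc_g_rc_27_0 lc_g_rc_12_3 lc_g_rc_12_1 lc_g_Cert_tree lc_g_rc_27_0 lc_g_Cert_tree lc_g_rc_27_0 lc_g_rc_27_0 lc_g_rc_21_1 lc_g_Cert_tree lc_g_rc_27_0 lc_g_Cert_tree lc_g_Cert_tree lc_g_Cert_tree lc_g_rc_27_0 lc_g_rc_21_1 lc_g_rc_6_3 lc_g_rc_27_1 lc_g_rc_31_5) (@D3.rec (fun _ => (Cert rels S Gen.g)) lc_g_rc_6_1 lc_g_Cert_tree lc_g_Cert_tree lc_g_Cert_tree lc_g_rc_6_3 lc_g_rc_27_0 lc_g_Cert_tree lc_g_Cert_tree lc_g_Cert_tree lc_g_rc_27_0 lc_g_Cert_tree lc_g_Cert_tree lc_g_rc_27_0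 lc_g_rc_27_0 lc_g_rc_29_3 lc_g_rc_24_1 lc_g_rc_6_3 lc_g_rc_17_1 lc_g_Cert_tree lc_g_rc_27_0 lc_g_rc_12_3 lc_g_rc_12_3 lc_g_rc_21_1 lc_g_rc_17_1 lc_g_rc_6_1 lc_g_rc_29_1 lc_g_rc_21_1 lc_g_Cert_tree lc_g_rc_27_0 lc_g_rc_12_3 lc_g_rc_6_1 lc_g_rc_29_1 lc_g_Cert_tree lc_g_Cert_tree lc_g_Cert_tree lc_g_rc_27_0 lc_g_rc_6_1 lc_g_rc_6_3 lc_g_rc_6_3 lc_g_rc_27_0) (@D3.rec (fun _ => (Cert rels S Gen.g)) lc_g_rc_26_1 lc_g_rc_27_0 lc_g_rc_27_0 lc_g_rc_12_1 lc_g_rc_26_3 lc_g_rc_12_3 lc_g_rc_27_0 lc_g_rc_26_3 lc_g_rc_6_1 lc_g_Cert_tree lc_g_rc_27_0 lc_g_rc_12_3 lc_g_rc_6_3 lc_g_rc_27_0 lc_g_rc_6_3 lc_g_rc_27_0 lc_g_Cert_tree lc_g_rc_6_3 lc_g_Cert_tree lc_g_rc_27_0 lc_g_rc_17_1 lc_g_rc_29_3 lc_g_rc_27_0 lc_g_rc_27_0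 lc_g_rc_6_1 lc_g_rc_6_3 lc_g_rc_27_0 lc_g_rc_6_1 lc_g_rc_29_1 lc_g_rc_6_1 lc_g_rc_12_3 lc_g_rc_6_1 lc_g_rc_21_1 lc_g_rc_17_1 lc_g_Cert_tree lc_g_rc_27_0 lc_g_rc_6_1 lc_g_rc_27_0 lc_g_rc_27_0 lc_g_rc_6_1) (@D3.rec (fun _ => (Cert rels S Gen.g)) lc_g_rc_6_1 lc_g_rc_27_0 lc_g_rc_24_1 lc_g_rc_21_1 lc_g_rc_31_8 lc_g_rc_29_1 lc_g_Cert_tree lc_g_rc_29_1 lc_g_rc_6_3 lc_g_rc_27_0 lc_g_rc_17_1 lc_g_rc_17_1 lc_g_rc_29_1 lc_g_Cert_tree lc_g_rc_12_1 lc_g_rc_27_0 lc_g_Cert_tree lc_g_rc_27_0 lc_g_rc_12_3 lc_g_rc_6_3 lc_g_rc_27_0 lc_g_rc_31_8 lc_g_Cert_tree lc_g_rc_12_3 lc_g_rc_17_1 lc_g_rc_29_1 lc_g_rc_26_5 lc_g_rc_29_1 lc_g_rc_6_1 lc_g_rc_21_1 lc_g_rc_27_0 lc_g_rc_29_1 lc_g_rc_17_1 lc_g_rc_6_1 lc_g_Cert_tree lc_g_rc_27_0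 lc_g_rc_29_1 lc_g_rc_12_3 lc_g_rc_6_1 lc_g_rc_29_3) (@D3.rec (fun _ => (Cert rels S Gen.g)) lc_g_rc_12_3 lc_g_rc_29_3 lc_g_rc_29_3 lc_g_rc_21_1 lc_g_rc_26_1 lc_g_rc_17_1 lc_g_rc_24_1 lc_g_rc_26_3 lc_g_rc_17_3 lc_g_rc_27_0 lc_g_rc_6_1 lc_g_rc_6_3 lc_g_rc_29_1 lc_g_rc_17_1 lc_g_rc_27_0 lc_g_rc_24_1 lc_g_rc_12_1 lc_g_rc_29_1 lc_g_rc_27_1 lc_g_rc_29_3 lc_g_Cert_tree lc_g_rc_21_1 lc_g_rc_27_0 lc_g_rc_29_3 lc_g_rc_6_3 lc_g_Cert_tree lc_g_Cert_tree lc_g_rc_27_0 lc_g_Cert_tree lc_g_rc_27_0 lc_g_rc_12_3 lc_g_rc_12_3 lc_g_rc_6_1 lc_g_Cert_tree lc_g_rc_12_1 lc_g_rc_17_1 lc_g_rc_29_1 lc_g_rc_29_1 lc_g_Cert_tree lc_g_rc_27_0) (@D3.rec (fun _ => (Cert rels S Gen.g)) lc_g_rc_6_1 lc_g_rc_17_1 lc_g_rc_29_3 lc_g_Cert_tree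 lc_g_rc_29_3 lc_g_rc_6_1 lc_g_rc_27_0 lc_g_rc_12_3 lc_g_rc_21_1 lc_g_rc_12_3 lc_g_rc_17_1 lc_g_rc_6_1 lc_g_rc_21_3 lc_g_rc_12_3 lc_g_rc_29_1 lc_g_rc_21_1 lc_g_rc_6_3 lc_g_rc_6_3 lc_g_rc_17_1 lc_g_rc_6_3 lc_g_rc_26_3 lc_g_rc_6_1 lc_g_rc_29_1 lc_g_Cert_tree lc_g_rc_27_0 lc_g_rc_27_0 lc_g_rc_6_1 lc_g_rc_6_1 lc_g_rc_21_1 lc_g_rc_27_0 lc_g_rc_24_1 lc_g_Cert_tree lc_g_Cert_tree lc_g_rc_6_3 lc_g_rc_27_0 lc_g_Cert_tree lc_g_Cert_tree lc_g_rc_27_0 lc_g_rc_27_0 lc_g_rc_29_3) (@D3.rec (fun _ => (Cert rels S Gen.g)) lc_g_rc_17_3 lc_g_rc_27_0 lc_g_rc_6_1 lc_g_rc_29_1 lc_g_rc_31_8 lc_g_rc_12_3 lc_g_rc_29_1 lc_g_Cert_tree lc_g_rc_27_0 lc_g_Cert_tree lc_g_rc_27_0 lc_g_rc_6_1 lc_g_rc_6_1 lc_g_rc_27_0 lc_g_rc_27_0 lc_g_rc_12_1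 lc_g_rc_24_1 lc_g_rc_27_0 lc_g_rc_12_3 lc_g_rc_6_1 lc_g_rc_31_2 lc_g_rc_6_1 lc_g_rc_6_1 lc_g_rc_21_1 lc_g_rc_17_1 lc_g_rc_24_1 lc_g_rc_17_3 lc_g_Cert_tree lc_g_Cert_tree lc_g_rc_27_0 lc_g_rc_24_1 lc_g_rc_27_0 lc_g_Cert_tree lc_g_rc_6_3 lc_g_rc_27_0 lc_g_Cert_tree lc_g_Cert_tree lc_g_Cert_tree lc_g_rc_27_0 lc_g_rc_12_1) (@D3.rec (fun _ => (Cert rels S Gen.g)) lc_g_rc_27_0 lc_g_rc_12_3 lc_g_Cert_tree lc_g_Cert_tree lc_g_Cert_tree lc_g_rc_27_0 lc_g_rc_6_3 lc_g_rc_27_0 lc_g_rc_17_1 lc_g_Cert_tree lc_g_rc_27_0 lc_g_Cert_tree lc_g_rc_27_0 lc_g_rc_12_3 lc_g_rc_17_1 lc_g_rc_27_0 lc_g_rc_6_1 lc_g_rc_12_3 lc_g_rc_12_3 lc_g_rc_17_1 lc_g_rc_24_3 lc_g_rc_29_1 lc_g_Cert_tree lc_g_rc_27_0 lc_g_rc_21_3 lc_g_rc_6_3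 lc_g_rc_27_0 lc_g_rc_24_1 lc_g_Cert_tree lc_g_rc_27_0 lc_g_rc_27_0 lc_g_rc_6_1 lc_g_rc_24_3 lc_g_rc_12_3 lc_g_rc_27_0 lc_g_rc_21_1 lc_g_rc_24_1 lc_g_Cert_tree lc_g_rc_31_8 lc_g_rc_12_5) (@D3.rec (fun _ => (Cert rels S Gen.g)) lc_g_rc_27_0 lc_g_rc_17_1 lc_g_rc_6_1 lc_g_rc_27_0 lc_g_rc_26_1 lc_g_rc_12_1 lc_g_rc_26_3 lc_g_rc_26_3 lc_g_rc_17_1 lc_g_rc_12_1 lc_g_rc_27_0 lc_g_Cert_tree lc_g_rc_6_1 lc_g_rc_27_0 lc_g_rc_6_1 lc_g_rc_17_1 lc_g_rc_29_1 lc_g_rc_27_0 lc_g_rc_27_0 lc_g_rc_12_3 lc_g_rc_6_1 lc_g_rc_17_3 lc_g_rc_6_1 lc_g_rc_12_5 lc_g_rc_17_1 lc_g_rc_6_3 lc_g_rc_27_0 lc_g_rc_17_1 lc_g_rc_31_5 lc_g_rc_6_3 lc_g_rc_12_1 lc_g_Cert_tree lc_g_rc_26_1 lc_g_rc_27_0 lc_g_rc_27_0 lc_g_rc_6_1 lc_g_rc_12_3 lc_g_rc_12_1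 lc_g_rc_29_3 lc_g_rc_17_1) (@D3.rec (fun _ => (Cert rels S Gen.g)) lc_g_rc_29_3 lc_g_rc_17_3 lc_g_rc_27_0 lc_g_rc_24_1 lc_g_rc_6_3 lc_g_rc_27_0 lc_g_Cert_tree lc_g_rc_6_3 lc_g_rc_27_0 lc_g_rc_27_0 lc_g_rc_6_1 lc_g_rc_24_1 lc_g_rc_29_1 lc_g_rc_27_0 lc_g_rc_21_1 lc_g_rc_27_0 lc_g_rc_21_3 lc_g_rc_17_1 lc_g_rc_21_1 lc_g_rc_24_1 lc_g_rc_6_3 lc_g_rc_27_0 lc_g_rc_12_3 lc_g_Cert_tree lc_g_rc_27_0 lc_g_rc_27_0 lc_g_rc_29_3 lc_g_rc_12_3 lc_g_rc_27_0 lc_g_rc_31_5 lc_g_rc_17_1 lc_g_rc_21_3 lc_g_rc_27_0 lc_g_Cert_tree lc_g_rc_27_0 lc_g_rc_27_0 lc_g_rc_12_3 lc_g_rc_6_1 lc_g_Cert_tree lc_g_rc_29_1) (@D3.rec (fun _ => (Cert rels S Gen.g)) lc_g_rc_27_0 lc_g_rc_29_1 lc_g_rc_26_3 lc_g_rc_27_0 lc_g_rc_31_5 lc_g_rc_12_1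 lc_g_Cert_tree lc_g_rc_27_0 lc_g_Cert_tree lc_g_rc_24_1 lc_g_rc_27_0 lc_g_rc_12_3 lc_g_rc_17_1 lc_g_rc_29_3 lc_g_rc_27_0 lc_g_rc_6_1 lc_g_rc_27_0 lc_g_Cert_tree lc_g_rc_12_5 lc_g_rc_27_0 lc_g_rc_6_1 lc_g_rc_27_0 lc_g_rc_6_3 lc_g_rc_17_1 lc_g_rc_27_0 lc_g_rc_17_1 lc_g_rc_6_3 lc_g_rc_27_0 lc_g_rc_12_1 lc_g_rc_17_3 lc_g_rc_17_1 lc_g_rc_27_0 lc_g_rc_29_3 lc_g_rc_21_1 lc_g_rc_29_1 lc_g_rc_21_1 lc_g_rc_17_3 lc_g_rc_27_0 lc_g_rc_29_3 lc_g_rc_6_1) (@D3.rec (fun _ => (Cert rels S Gen.g)) lc_g_rc_17_1 lc_g_rc_6_1 lc_g_rc_6_3 lc_g_rc_29_1 lc_g_rc_6_1 lc_g_rc_31_5 lc_g_rc_27_0 lc_g_rc_24_1 lc_g_Cert_tree lc_g_rc_17_1 lc_g_rc_27_0 lc_g_rc_17_1 lc_g_rc_29_3 lc_g_rc_6_3 lc_g_rc_31_8 lc_g_rc_29_1 lc_g_rc_12_1 lc_g_rc_6_1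 lc_g_rc_12_1 lc_g_rc_6_1 lc_g_rc_12_3 lc_g_rc_26_7 lc_g_rc_17_1 lc_g_rc_31_8 lc_g_rc_6_1 lc_g_rc_6_3 lc_g_rc_12_3 lc_g_rc_21_1 lc_g_rc_29_3 lc_g_rc_29_1 lc_g_rc_17_1 lc_g_rc_12_3 lc_g_rc_29_1 lc_g_rc_29_1 lc_g_rc_12_1 lc_g_rc_27_0 lc_g_rc_29_1 lc_g_rc_12_1 lc_g_rc_31_8 lc_g_rc_27_0) (@D3.rec (fun _ => (Cert rels S Gen.g)) lc_g_rc_12_1 lc_g_rc_29_1 lc_g_rc_6_1 lc_g_rc_6_3 lc_g_rc_29_3 lc_g_rc_21_1 lc_g_rc_29_1 lc_g_rc_6_3 lc_g_rc_6_1 lc_g_rc_17_1 lc_g_rc_27_0 lc_g_rc_6_1 lc_g_rc_6_3 lc_g_rc_12_1 lc_g_rc_27_0 lc_g_rc_12_3 lc_g_rc_21_1 lc_g_rc_26_5 lc_g_rc_29_1 lc_g_rc_27_0 lc_g_rc_27_0 lc_g_rc_21_1 lc_g_rc_12_1 lc_g_rc_27_0 lc_g_rc_12_3 lc_g_rc_6_3 lc_g_rc_17_3 lc_g_rc_27_0 lc_g_rc_12_3 lc_g_Cert_tree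 lc_g_rc_27_0 lc_g_rc_12_3 lc_g_rc_12_1 lc_g_rc_12_3 lc_g_rc_31_5 lc_g_rc_27_0 lc_g_Cert_tree lc_g_rc_6_1 lc_g_rc_17_1 lc_g_rc_24_1)
def ce_g_12 : D2 → D3 → (Cert rels S Gen.g) := @D2.rec (fun _ => D3 → (Cert rels S Gen.g)) (@D3.rec (fun _ => (Cert rels S Gen.g)) lc_g_rc_6_3 lc_g_rc_12_1 lc_g_rc_27_0 lc_g_rc_17_1 lc_g_Cert_tree lc_g_Cert_tree lc_g_rc_27_0 lc_g_rc_6_1 lc_g_rc_6_1 lc_g_rc_17_1 lc_g_Cert_tree lc_g_rc_12_1 lc_g_rc_27_0 lc_g_rc_27_0 lc_g_rc_12_1 lc_g_rc_27_0 lc_g_Cert_tree lc_g_rc_27_0 lc_g_rc_6_3 lc_g_rc_17_1 lc_g_rc_21_3 lc_g_rc_31_2 lc_g_rc_27_0 lc_g_rc_6_3 lc_g_rc_27_0 lc_g_rc_27_0 lc_g_rc_6_1 lc_g_rc_6_3 lc_g_rc_6_1 lc_g_Cert_tree lc_g_Cert_tree lc_g_rc_27_0 lc_g_rc_12_5 lc_g_rc_12_3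 lc_g_Cert_tree lc_g_Cert_tree lc_g_rc_27_0 lc_g_rc_6_1 lc_g_rc_27_1 lc_g_rc_21_3) (@D3.rec (fun _ => (Cert rels S Gen.g)) lc_g_rc_27_0 lc_g_rc_27_0 lc_g_rc_29_3 lc_g_rc_12_3 lc_g_rc_6_1 lc_g_rc_17_1 lc_g_Cert_tree lc_g_Cert_tree lc_g_Cert_tree lc_g_Cert_tree lc_g_rc_27_0 lc_g_rc_29_3 lc_g_rc_17_1 lc_g_rc_29_3 lc_g_rc_26_5 lc_g_rc_6_1 lc_g_rc_29_1 lc_g_rc_21_1 lc_g_rc_6_1 lc_g_rc_27_0 lc_g_rc_29_1 lc_g_rc_17_3 lc_g_rc_27_0 lc_g_rc_12_1 lc_g_rc_17_3 lc_g_rc_27_0 lc_g_Cert_tree lc_g_rc_27_0 lc_g_rc_6_1 lc_g_rc_12_3 lc_g_rc_12_3 lc_g_Cert_tree lc_g_rc_12_3 lc_g_rc_24_1 lc_g_rc_12_3 lc_g_rc_29_1 lc_g_rc_17_1 lc_g_rc_12_1 lc_g_rc_29_1 lc_g_rc_6_1) (@D3.rec (fun _ => (Cert rels S Gen.g)) lc_g_rc_27_0 lc_g_rc_6_3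 lc_g_rc_17_3 lc_g_rc_27_0 lc_g_rc_6_1 lc_g_rc_17_1 lc_g_Cert_tree lc_g_rc_27_0 lc_g_rc_12_3 lc_g_rc_12_1 lc_g_rc_12_3 lc_g_rc_6_1 lc_g_rc_17_1 lc_g_rc_12_1 lc_g_rc_24_1 lc_g_rc_27_0 lc_g_rc_6_1 lc_g_rc_6_1 lc_g_rc_17_1 lc_g_Cert_tree lc_g_rc_6_1 lc_g_rc_12_3 lc_g_rc_17_1 lc_g_rc_26_5 lc_g_rc_12_3 lc_g_rc_6_1 lc_g_rc_6_1 lc_g_rc_6_1 lc_g_rc_6_1 lc_g_rc_6_1 lc_g_rc_6_1 lc_g_rc_17_1 lc_g_rc_27_0 lc_g_rc_27_0 lc_g_rc_29_3 lc_g_rc_27_0 lc_g_rc_27_0 lc_g_rc_24_1 lc_g_rc_29_1 lc_g_rc_27_0) (@D3.rec (fun _ => (Cert rels S Gen.g)) lc_g_rc_27_0 lc_g_rc_21_1 lc_g_rc_21_1 lc_g_rc_27_0 lc_g_rc_29_3 lc_g_rc_21_1 lc_g_rc_27_0 lc_g_rc_27_0 lc_g_rc_12_3 lc_g_rc_12_3 lc_g_rc_31_2 lc_g_rc_17_1 lc_g_rc_27_0 lc_g_rc_29_1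 lc_g_rc_21_1 lc_g_rc_12_3 lc_g_rc_17_1 lc_g_rc_12_3 lc_g_rc_29_1 lc_g_rc_29_3 lc_g_rc_29_3 lc_g_rc_27_0 lc_g_rc_29_1 lc_g_rc_27_0 lc_g_rc_12_3 lc_g_rc_29_3 lc_g_rc_17_1 lc_g_rc_29_3 lc_g_rc_6_1 lc_g_rc_29_1 lc_g_Cert_tree lc_g_rc_27_0 lc_g_rc_31_8 lc_g_rc_29_3 lc_g_rc_29_3 lc_g_Cert_tree lc_g_rc_29_1 lc_g_Cert_tree lc_g_rc_27_0 lc_g_Cert_tree) (@D3.rec (fun _ => (Cert rels S Gen.g)) lc_g_rc_27_0 lc_g_rc_27_0 lc_g_rc_6_1 lc_g_rc_27_0 lc_g_rc_12_3 lc_g_rc_12_3 lc_g_rc_29_3 lc_g_rc_29_3 lc_g_Cert_tree lc_g_rc_12_1 lc_g_rc_29_1 lc_g_rc_27_0 lc_g_rc_12_5 lc_g_rc_21_3 lc_g_Cert_tree lc_g_rc_29_1 lc_g_rc_27_0 lc_g_rc_12_3 lc_g_rc_12_1 lc_g_rc_27_0 lc_g_rc_6_1 lc_g_rc_12_3 lc_g_Cert_tree lc_g_rc_27_0 lc_g_Cert_tree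 lc_g_rc_27_0 lc_g_rc_17_1 lc_g_rc_17_1 lc_g_rc_12_1 lc_g_rc_27_0 lc_g_rc_12_3 lc_g_rc_6_1 lc_g_rc_29_3 lc_g_rc_29_3 lc_g_rc_29_3 lc_g_rc_21_1 lc_g_rc_29_3 lc_g_rc_31_8 lc_g_rc_27_0 lc_g_rc_31_5) (@D3.rec (fun _ => (Cert rels S Gen.g)) lc_g_Cert_tree lc_g_rc_6_1 lc_g_rc_27_0 lc_g_rc_6_1 lc_g_rc_29_1 lc_g_rc_17_1 lc_g_rc_24_1 lc_g_Cert_tree lc_g_rc_27_0 lc_g_rc_21_1 lc_g_rc_17_1 lc_g_rc_12_1 lc_g_Cert_tree lc_g_rc_17_1 lc_g_rc_29_1 lc_g_rc_17_1 lc_g_rc_12_1 lc_g_rc_27_0 lc_g_rc_29_1 lc_g_Cert_tree lc_g_rc_27_0 lc_g_rc_29_1 lc_g_rc_27_0 lc_g_rc_29_1 lc_g_Cert_tree lc_g_rc_27_0 lc_g_rc_12_3 lc_g_rc_24_1 lc_g_rc_29_1 lc_g_Cert_tree lc_g_rc_21_1 lc_g_rc_27_0 lc_g_Cert_tree lc_g_rc_27_0 lc_g_Cert_tree lc_g_Cert_tree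 lc_g_rc_27_0 lc_g_rc_6_1 lc_g_rc_31_8 lc_g_rc_12_3) (@D3.rec (fun _ => (Cert rels S Gen.g)) lc_g_rc_6_1 lc_g_rc_17_1 lc_g_Cert_tree lc_g_rc_21_3 lc_g_rc_29_1 lc_g_rc_27_0 lc_g_rc_12_3 lc_g_Cert_tree lc_g_Cert_tree lc_g_rc_27_0 lc_g_rc_21_1 lc_g_rc_27_0 lc_g_rc_6_1 lc_g_rc_29_3 lc_g_rc_17_1 lc_g_rc_29_3 lc_g_rc_29_3 lc_g_rc_21_1 lc_g_rc_29_3 lc_g_rc_29_1 lc_g_rc_29_3 lc_g_rc_27_0 lc_g_rc_29_1 lc_g_rc_12_1 lc_g_rc_27_0 lc_g_rc_29_1 lc_g_rc_21_3 lc_g_rc_27_0 lc_g_rc_27_0 lc_g_rc_27_0 lc_g_rc_6_1 lc_g_rc_21_1 lc_g_rc_17_1 lc_g_Cert_tree lc_g_rc_27_0 lc_g_rc_17_3 lc_g_rc_24_1 lc_g_rc_27_0 lc_g_rc_6_1 lc_g_rc_26_5) (@D3.rec (fun _ => (Cert rels S Gen.g)) lc_g_rc_27_0 lc_g_rc_12_3 lc_g_rc_27_0 lc_g_rc_12_3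 lc_g_rc_6_1 lc_g_rc_12_3 lc_g_Cert_tree lc_g_rc_24_1 lc_g_rc_6_3 lc_g_rc_21_1 lc_g_rc_17_1 lc_g_Cert_tree lc_g_rc_27_0 lc_g_rc_27_0 lc_g_rc_24_3 lc_g_rc_12_3 lc_g_rc_24_3 lc_g_rc_27_0 lc_g_rc_6_3 lc_g_rc_6_1 lc_g_rc_31_11 lc_g_rc_12_3 lc_g_rc_17_1 lc_g_rc_21_1 lc_g_rc_27_0 lc_g_rc_21_3 lc_g_rc_17_1 lc_g_rc_12_1 lc_g_rc_12_3 lc_g_rc_17_1 lc_g_rc_12_3 lc_g_rc_12_3 lc_g_rc_6_3 lc_g_rc_12_3 lc_g_rc_6_1 lc_g_rc_17_1 lc_g_rc_6_1 lc_g_rc_6_1 lc_g_rc_17_1 lc_g_rc_17_3) (@D3.rec (fun _ => (Cert rels S Gen.g)) lc_g_rc_27_0 lc_g_rc_6_1 lc_g_rc_27_0 lc_g_Cert_tree lc_g_rc_27_0 lc_g_rc_27_0 lc_g_rc_12_3 lc_g_rc_12_3 lc_g_rc_27_0 lc_g_rc_27_0 lc_g_rc_27_0 lc_g_rc_6_1 lc_g_Cert_tree lc_g_rc_6_1 lc_g_rc_12_3 lc_g_rc_12_3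 lc_g_rc_12_3 lc_g_rc_12_3 lc_g_rc_12_3 lc_g_rc_17_1 lc_g_rc_12_1 lc_g_rc_27_0 lc_g_rc_27_1 lc_g_rc_29_1 lc_g_Cert_tree lc_g_rc_27_0 lc_g_rc_12_3 lc_g_rc_29_3 lc_g_rc_17_1 lc_g_rc_29_3 lc_g_Cert_tree lc_g_rc_27_0 lc_g_rc_12_3 lc_g_rc_6_1 lc_g_rc_31_8 lc_g_rc_24_1 lc_g_rc_29_3 lc_g_rc_27_0 lc_g_rc_12_1 lc_g_rc_17_3) (@D3.rec (fun _ => (Cert rels S Gen.g)) lc_g_rc_27_0 lc_g_Cert_tree lc_g_Cert_tree lc_g_rc_27_0 lc_g_Cert_tree lc_g_rc_27_0 lc_g_rc_6_1 lc_g_Cert_tree lc_g_rc_6_1 lc_g_rc_29_1 lc_g_rc_21_1 lc_g_Cert_tree lc_g_rc_27_0 lc_g_rc_24_1 lc_g_Cert_tree lc_g_rc_27_1 lc_g_rc_27_0 lc_g_rc_27_0 lc_g_rc_24_1 lc_g_rc_6_3 lc_g_rc_6_3 lc_g_rc_24_1 lc_g_rc_27_0 lc_g_rc_29_1 lc_g_rc_24_1 lc_g_rc_27_0 lc_g_rc_29_1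 lc_g_rc_6_3 lc_g_Cert_tree lc_g_rc_27_0 lc_g_rc_29_3 lc_g_rc_17_1 lc_g_rc_29_3 lc_g_Cert_tree lc_g_rc_6_1 lc_g_rc_29_1 lc_g_rc_12_5 lc_g_Cert_tree lc_g_rc_27_0 lc_g_rc_21_1) (@D3.rec (fun _ => (Cert rels S Gen.g)) lc_g_rc_12_3 lc_g_Cert_tree lc_g_rc_29_1 lc_g_Cert_tree lc_g_rc_27_0 lc_g_rc_12_5 lc_g_Cert_tree lc_g_rc_27_0 lc_g_rc_31_14 lc_g_rc_27_0 lc_g_rc_6_1 lc_g_rc_21_3 lc_g_rc_27_0 lc_g_rc_27_0 lc_g_rc_12_3 lc_g_rc_6_1 lc_g_rc_17_1 lc_g_Cert_tree lc_g_rc_12_3 lc_g_rc_6_3 lc_g_Cert_tree lc_g_rc_27_0 lc_g_rc_12_3 lc_g_rc_17_1 lc_g_rc_21_1 lc_g_rc_6_1 lc_g_rc_21_1 lc_g_rc_6_1 lc_g_rc_29_3 lc_g_Cert_tree lc_g_Cert_tree lc_g_Cert_tree lc_g_rc_27_0 lc_g_rc_12_3 lc_g_rc_24_1 lc_g_rc_17_1 lc_g_rc_27_0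 lc_g_Cert_tree lc_g_rc_27_0 lc_g_rc_24_1) (@D3.rec (fun _ => (Cert rels S Gen.g)) lc_g_rc_31_8 lc_g_rc_27_0 lc_g_rc_12_3 lc_g_rc_6_1 lc_g_rc_17_1 lc_g_rc_12_1 lc_g_rc_29_1 lc_g_Cert_tree lc_g_Cert_tree lc_g_Cert_tree lc_g_Cert_tree lc_g_rc_27_0 lc_g_Cert_tree lc_g_rc_26_7 lc_g_rc_27_0 lc_g_rc_12_3 lc_g_rc_12_3 lc_g_rc_24_1 lc_g_Cert_tree lc_g_rc_21_3 lc_g_Cert_tree lc_g_rc_27_0 lc_g_rc_12_1 lc_g_Cert_tree lc_g_rc_12_3 lc_g_rc_6_1 lc_g_rc_17_1 lc_g_Cert_tree lc_g_Cert_tree lc_g_Cert_tree lc_g_rc_27_0 lc_g_rc_6_3 lc_g_Cert_tree lc_g_Cert_tree lc_g_rc_6_3 lc_g_rc_27_0 lc_g_rc_12_3 lc_g_Cert_tree lc_g_rc_6_3 lc_g_rc_27_0) (@D3.rec (fun _ => (Cert rels S Gen.g)) lc_g_rc_29_1 lc_g_Cert_tree lc_g_Cert_tree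 lc_g_rc_27_0 lc_g_rc_27_0 lc_g_rc_24_1 lc_g_rc_6_1 lc_g_rc_6_1 lc_g_rc_17_1 lc_g_rc_29_3 lc_g_rc_29_3 lc_g_Cert_tree lc_g_Cert_tree lc_g_rc_27_0 lc_g_rc_27_0 lc_g_rc_12_3 lc_g_rc_6_1 lc_g_rc_27_0 lc_g_rc_12_3 lc_g_rc_6_1 lc_g_rc_17_1 lc_g_Cert_tree lc_g_rc_24_1 lc_g_rc_17_1 lc_g_rc_29_1 lc_g_rc_21_1 lc_g_rc_17_1 lc_g_rc_12_3 lc_g_rc_24_1 lc_g_rc_29_3 lc_g_rc_17_1 lc_g_rc_29_3 lc_g_Cert_tree lc_g_rc_24_1 lc_g_rc_29_3 lc_g_rc_12_3 lc_g_rc_29_3 lc_g_Cert_tree lc_g_Cert_tree lc_g_Cert_tree) (@D3.rec (fun _ => (Cert rels S Gen.g)) lc_g_rc_27_0 lc_g_rc_27_1 lc_g_Cert_tree lc_g_rc_12_1 lc_g_rc_27_0 lc_g_Cert_tree lc_g_rc_6_1 lc_g_rc_24_1 lc_g_rc_29_3 lc_g_rc_12_3 lc_g_rc_29_1 lc_g_rc_24_1 lc_g_rc_27_0 lc_g_rc_12_5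 lc_g_rc_27_0 lc_g_Cert_tree lc_g_rc_27_0 lc_g_rc_6_1 lc_g_rc_27_1 lc_g_rc_27_0 lc_g_rc_27_0 lc_g_rc_29_3 lc_g_rc_17_1 lc_g_Cert_tree lc_g_rc_27_0 lc_g_rc_29_3 lc_g_rc_29_1 lc_g_rc_6_1 lc_g_rc_27_0 lc_g_Cert_tree lc_g_rc_6_3 lc_g_rc_27_0 lc_g_rc_24_1 lc_g_Cert_tree lc_g_rc_6_3 lc_g_rc_27_0 lc_g_rc_17_3 lc_g_rc_24_3 lc_g_Cert_tree lc_g_rc_27_0) (@D3.rec (fun _ => (Cert rels S Gen.g)) lc_g_Cert_tree lc_g_rc_27_0 lc_g_rc_6_1 lc_g_rc_26_3 lc_g_rc_24_1 lc_g_rc_27_0 lc_g_rc_6_3 lc_g_Cert_tree lc_g_rc_27_0 lc_g_Cert_tree lc_g_rc_27_0 lc_g_rc_6_1 lc_g_rc_29_1 lc_g_Cert_tree lc_g_Cert_tree lc_g_Cert_tree lc_g_rc_27_0 lc_g_rc_12_1 lc_g_rc_6_3 lc_g_Cert_tree lc_g_rc_27_0 lc_g_Cert_tree lc_g_rc_27_0 lc_g_rc_29_1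 lc_g_Cert_tree lc_g_rc_27_0 lc_g_rc_12_3 lc_g_Cert_tree lc_g_rc_29_1 lc_g_Cert_tree lc_g_rc_27_0 lc_g_rc_12_3 lc_g_rc_6_1 lc_g_rc_17_1 lc_g_Cert_tree lc_g_rc_6_3 lc_g_Cert_tree lc_g_rc_24_1 lc_g_rc_27_0 lc_g_rc_29_3) (@D3.rec (fun _ => (Cert rels S Gen.g)) lc_g_rc_12_3 lc_g_rc_29_3 lc_g_rc_17_1 lc_g_rc_29_3 lc_g_rc_17_1 lc_g_rc_29_1 lc_g_rc_21_1 lc_g_rc_31_2 lc_g_rc_27_0 lc_g_rc_26_3 lc_g_rc_27_0 lc_g_rc_6_1 lc_g_rc_27_0 lc_g_rc_12_5 lc_g_rc_12_1 lc_g_rc_6_1 lc_g_rc_27_0 lc_g_rc_29_1 lc_g_rc_27_0 lc_g_rc_27_0 lc_g_rc_6_1 lc_g_rc_21_1 lc_g_rc_6_3 lc_g_rc_27_0 lc_g_rc_12_3 lc_g_rc_27_0 lc_g_rc_27_0 lc_g_rc_27_0 lc_g_rc_6_1 lc_g_rc_12_3 lc_g_rc_12_3 lc_g_rc_6_1 lc_g_rc_17_1 lc_g_Cert_tree lc_g_rc_21_1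 lc_g_rc_24_1 lc_g_rc_6_1 lc_g_rc_29_1 lc_g_rc_21_1 lc_g_Cert_tree) (@D3.rec (fun _ => (Cert rels S Gen.g)) lc_g_Cert_tree lc_g_rc_27_0 lc_g_Cert_tree lc_g_Cert_tree lc_g_rc_27_0 lc_g_rc_6_1 lc_g_rc_29_1 lc_g_Cert_tree lc_g_rc_17_1 lc_g_rc_12_3 lc_g_Cert_tree lc_g_Cert_tree lc_g_rc_27_0 lc_g_rc_29_1 lc_g_rc_27_0 lc_g_rc_12_3 lc_g_rc_27_0 lc_g_rc_6_1 lc_g_Cert_tree lc_g_Cert_tree lc_g_rc_27_0 lc_g_rc_6_1 lc_g_Cert_tree lc_g_rc_17_1 lc_g_Cert_tree lc_g_Cert_tree lc_g_rc_6_3 lc_g_rc_27_0 lc_g_Cert_tree lc_g_rc_21_1 lc_g_Cert_tree lc_g_rc_27_0 lc_g_rc_27_0 lc_g_rc_29_3 lc_g_Cert_tree lc_g_Cert_tree lc_g_Cert_tree lc_g_rc_27_0 lc_g_rc_27_0 lc_g_rc_29_3) (@D3.rec (fun _ => (Cert rels S Gen.g)) lc_g_rc_24_3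 lc_g_rc_6_3 lc_g_rc_27_0 lc_g_rc_24_1 lc_g_rc_17_3 lc_g_rc_24_3 lc_g_rc_27_0 lc_g_rc_6_1 lc_g_rc_12_3 lc_g_Cert_tree lc_g_rc_12_3 lc_g_Cert_tree lc_g_rc_27_0 lc_g_rc_12_3 lc_g_rc_6_1 lc_g_Cert_tree lc_g_rc_27_0 lc_g_Cert_tree lc_g_rc_27_0 lc_g_rc_12_3 lc_g_rc_6_1 lc_g_rc_6_1 lc_g_rc_17_1 lc_g_Cert_tree lc_g_Cert_tree lc_g_rc_27_0 lc_g_rc_12_3 lc_g_Cert_tree lc_g_Cert_tree lc_g_rc_27_0 lc_g_rc_12_3 lc_g_rc_6_1 lc_g_rc_29_3 lc_g_rc_29_3 lc_g_Cert_tree lc_g_rc_29_1 lc_g_rc_27_0 lc_g_rc_6_1 lc_g_rc_12_3 lc_g_Cert_tree) (@D3.rec (fun _ => (Cert rels S Gen.g)) lc_g_rc_24_1 lc_g_Cert_tree lc_g_rc_17_1 lc_g_Cert_tree lc_g_Cert_tree lc_g_rc_6_3 lc_g_rc_27_0 lc_g_Cert_tree lc_g_rc_21_1 lc_g_Cert_tree lc_g_rc_27_0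 lc_g_rc_27_0 lc_g_rc_29_3 lc_g_Cert_tree lc_g_Cert_tree lc_g_Cert_tree lc_g_rc_27_0 lc_g_rc_27_0 lc_g_rc_12_3 lc_g_rc_6_1 lc_g_rc_12_3 lc_g_rc_17_1 lc_g_Cert_tree lc_g_Cert_tree lc_g_Cert_tree lc_g_Cert_tree lc_g_rc_27_0 lc_g_rc_24_1 lc_g_Cert_tree lc_g_Cert_tree lc_g_rc_27_0 lc_g_rc_6_3 lc_g_rc_29_1 lc_g_Cert_tree lc_g_Cert_tree lc_g_rc_29_3 lc_g_rc_27_0 lc_g_rc_29_1 lc_g_rc_12_3 lc_g_rc_27_0) (@D3.rec (fun _ => (Cert rels S Gen.g)) lc_g_rc_12_3 lc_g_rc_17_1 lc_g_Cert_tree lc_g_Cert_tree lc_g_Cert_tree lc_g_rc_6_3 lc_g_rc_27_0 lc_g_rc_17_1 lc_g_Cert_tree lc_g_Cert_tree lc_g_rc_27_0 lc_g_rc_29_1 lc_g_rc_29_3 lc_g_rc_29_3 lc_g_rc_6_1 lc_g_rc_27_0 lc_g_rc_6_1 lc_g_rc_6_3 lc_g_rc_17_1 lc_g_rc_6_1 lc_g_rc_29_1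 lc_g_rc_6_1 lc_g_rc_27_0 lc_g_rc_21_1 lc_g_rc_6_3 lc_g_Cert_tree lc_g_rc_27_0 lc_g_rc_29_3 lc_g_rc_27_0 lc_g_rc_12_3 lc_g_rc_31_11 lc_g_rc_12_1 lc_g_rc_29_1 lc_g_rc_27_0 lc_g_rc_27_0 lc_g_rc_6_1 lc_g_rc_17_1 lc_g_rc_17_1 lc_g_rc_21_1 lc_g_rc_6_1) (@D3.rec (fun _ => (Cert rels S Gen.g)) lc_g_rc_6_1 lc_g_rc_27_0 lc_g_rc_17_1 lc_g_rc_6_3 lc_g_rc_27_0 lc_g_rc_12_3 lc_g_rc_12_3 lc_g_rc_17_1 lc_g_rc_12_1 lc_g_rc_6_1 lc_g_rc_27_0 lc_g_rc_12_3 lc_g_rc_21_1 lc_g_rc_12_3 lc_g_rc_29_3 lc_g_rc_17_1 lc_g_rc_29_3 lc_g_rc_12_3 lc_g_rc_12_3 lc_g_rc_6_1 lc_g_rc_17_1 lc_g_rc_21_3 lc_g_rc_12_3 lc_g_rc_29_1 lc_g_rc_17_3 lc_g_rc_27_0 lc_g_rc_12_1 lc_g_rc_12_5 lc_g_rc_27_1 lc_g_rc_6_1 lc_g_rc_17_1 lc_g_rc_24_1 lc_g_rc_29_3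 lc_g_rc_6_1 lc_g_rc_12_5 lc_g_rc_6_1 lc_g_rc_17_1 lc_g_rc_6_1 lc_g_rc_31_8 lc_g_rc_29_1) (@D3.rec (fun _ => (Cert rels S Gen.g)) lc_g_Cert_tree lc_g_rc_27_0 lc_g_rc_12_1 lc_g_Cert_tree lc_g_rc_27_0 lc_g_rc_27_0 lc_g_rc_6_1 lc_g_rc_6_3 lc_g_rc_6_1 lc_g_rc_6_1 lc_g_rc_17_1 lc_g_rc_27_0 lc_g_rc_6_3 lc_g_rc_27_0 lc_g_rc_6_1 lc_g_rc_21_1 lc_g_rc_21_1 lc_g_Cert_tree lc_g_rc_17_1 lc_g_rc_12_3 lc_g_rc_12_1 lc_g_rc_6_3 lc_g_rc_6_1 lc_g_rc_27_0 lc_g_rc_6_1 lc_g_rc_6_3 lc_g_rc_12_1 lc_g_rc_27_0 lc_g_rc_17_1 lc_g_rc_6_3 lc_g_Cert_tree lc_g_rc_31_8 lc_g_rc_27_0 lc_g_rc_29_1 lc_g_rc_24_3 lc_g_rc_27_0 lc_g_rc_21_1 lc_g_rc_31_8 lc_g_Cert_tree lc_g_rc_24_3) (@D3.rec (fun _ => (Cert rels S Gen.g)) lc_g_rc_29_3 lc_g_rc_27_0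 lc_g_rc_12_1 lc_g_rc_27_0 lc_g_rc_27_0 lc_g_rc_6_1 lc_g_rc_17_1 lc_g_rc_6_1 lc_g_rc_29_1 lc_g_rc_26_1 lc_g_rc_29_1 lc_g_rc_29_1 lc_g_rc_17_1 lc_g_rc_27_0 lc_g_rc_29_3 lc_g_rc_17_1 lc_g_rc_29_3 lc_g_rc_21_1 lc_g_rc_6_1 lc_g_rc_29_1 lc_g_rc_27_0 lc_g_rc_17_1 lc_g_Cert_tree lc_g_rc_26_1 lc_g_rc_27_0 lc_g_rc_12_1 lc_g_Cert_tree lc_g_rc_12_3 lc_g_rc_27_0 lc_g_rc_27_0 lc_g_rc_21_1 lc_g_rc_12_3 lc_g_Cert_tree lc_g_rc_29_1 lc_g_rc_17_1 lc_g_rc_12_3 lc_g_rc_17_1 lc_g_rc_27_0 lc_g_rc_12_3 lc_g_rc_27_0) (@D3.rec (fun _ => (Cert rels S Gen.g)) lc_g_rc_12_3 lc_g_rc_24_1 lc_g_Cert_tree lc_g_rc_27_0 lc_g_rc_17_1 lc_g_rc_27_0 lc_g_rc_6_1 lc_g_rc_12_3 lc_g_rc_29_3 lc_g_rc_12_3 lc_g_rc_24_3 lc_g_rc_27_0 lc_g_rc_31_8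 lc_g_rc_29_3 lc_g_rc_29_1 lc_g_rc_27_0 lc_g_rc_12_3 lc_g_rc_27_1 lc_g_rc_31_5 lc_g_rc_12_3 lc_g_rc_12_1 lc_g_rc_27_0 lc_g_rc_24_1 lc_g_rc_6_1 lc_g_rc_12_3 lc_g_Cert_tree lc_g_rc_27_0 lc_g_rc_31_5 lc_g_rc_21_3 lc_g_rc_27_0 lc_g_rc_17_1 lc_g_rc_6_1 lc_g_rc_17_3 lc_g_rc_12_3 lc_g_rc_12_3 lc_g_Cert_tree lc_g_Cert_tree lc_g_rc_27_0 lc_g_rc_27_0 lc_g_rc_6_3) (@D3.rec (fun _ => (Cert rels S Gen.g)) lc_g_rc_17_3 lc_g_rc_27_0 lc_g_rc_21_1 lc_g_rc_12_3 lc_g_Cert_tree lc_g_rc_17_1 lc_g_rc_29_1 lc_g_rc_12_1 lc_g_rc_27_0 lc_g_rc_12_1 lc_g_rc_6_1 lc_g_rc_27_0 lc_g_rc_6_1 lc_g_rc_12_3 lc_g_rc_12_3 lc_g_rc_24_1 lc_g_rc_12_1 lc_g_rc_26_5 lc_g_rc_21_1 lc_g_rc_21_3 lc_g_rc_12_3 lc_g_rc_6_1 lc_g_rc_17_1 lc_g_rc_29_3 lc_g_rc_21_1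 lc_g_rc_21_1 lc_g_rc_29_3 lc_g_rc_29_3 lc_g_Cert_tree lc_g_rc_27_0 lc_g_rc_6_1 lc_g_rc_31_5 lc_g_rc_12_1 lc_g_rc_29_1 lc_g_rc_21_3 lc_g_rc_27_0 lc_g_rc_17_1 lc_g_rc_6_3 lc_g_rc_6_1 lc_g_Cert_tree) (@D3.rec (fun _ => (Cert rels S Gen.g)) lc_g_rc_24_3 lc_g_rc_27_0 lc_g_rc_17_1 lc_g_Cert_tree lc_g_rc_12_3 lc_g_rc_12_3 lc_g_Cert_tree lc_g_rc_17_1 lc_g_rc_17_1 lc_g_rc_17_1 lc_g_rc_12_1 lc_g_rc_12_1 lc_g_rc_27_0 lc_g_rc_12_3 lc_g_rc_6_1 lc_g_rc_21_1 lc_g_rc_24_1 lc_g_rc_29_3 lc_g_rc_12_3 lc_g_rc_12_3 lc_g_rc_6_1 lc_g_rc_27_0 lc_g_rc_6_1 lc_g_rc_21_1 lc_g_rc_17_1 lc_g_rc_17_3 lc_g_Cert_tree lc_g_rc_27_0 lc_g_rc_29_3 lc_g_rc_17_3 lc_g_rc_29_3 lc_g_rc_31_11 lc_g_rc_6_3 lc_g_rc_17_1 lc_g_rc_29_1 lc_g_rc_29_1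 lc_g_rc_27_0 lc_g_rc_21_1 lc_g_rc_27_0 lc_g_rc_29_3)
def ce_g_13 : D2 → D3 → (Cert rels S Gen.g) := @D2.rec (fun _ => D3 → (Cert rels S Gen.g)) (@D3.rec (fun _ => (Cert rels S Gen.g)) lc_g_rc_31_8 lc_g_rc_12_3 lc_g_rc_12_5 lc_g_rc_17_1 lc_g_rc_29_1 lc_g_rc_21_1 lc_g_rc_29_1 lc_g_rc_21_3 lc_g_rc_27_0 lc_g_rc_12_1 lc_g_rc_12_3 lc_g_rc_21_1 lc_g_rc_12_3 lc_g_rc_21_3 lc_g_rc_12_1 lc_g_rc_12_3 lc_g_rc_6_1 lc_g_rc_27_0 lc_g_rc_29_1 lc_g_rc_6_3 lc_g_rc_27_0 lc_g_rc_17_1 lc_g_rc_17_1 lc_g_rc_27_0 lc_g_rc_12_3 lc_g_rc_12_3 lc_g_rc_12_3 lc_g_rc_6_1 lc_g_rc_17_1 lc_g_rc_6_1 lc_g_rc_26_1 lc_g_rc_21_1 lc_g_rc_12_3 lc_g_rc_27_0 lc_g_rc_29_1 lc_g_rc_24_1 lc_g_rc_17_1 lc_g_rc_29_1 lc_g_rc_17_1 lc_g_rc_6_1) (@D3.rec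 (fun _ => (Cert rels S Gen.g)) lc_g_rc_6_3 lc_g_rc_27_1 lc_g_rc_27_0 lc_g_rc_29_3 lc_g_rc_6_1 lc_g_rc_27_0 lc_g_rc_21_1 lc_g_rc_12_3 lc_g_rc_24_1 lc_g_rc_29_1 lc_g_rc_24_1 lc_g_rc_12_3 lc_g_rc_27_1 lc_g_rc_6_1 lc_g_Cert_tree lc_g_rc_27_0 lc_g_rc_24_3 lc_g_rc_21_1 lc_g_rc_24_1 lc_g_rc_12_1 lc_g_rc_31_11 lc_g_rc_21_1 lc_g_rc_27_0 lc_g_rc_27_0 lc_g_rc_6_3 lc_g_rc_27_0 lc_g_rc_12_3 lc_g_rc_12_1 lc_g_rc_27_0 lc_g_rc_31_5 lc_g_rc_21_3 lc_g_rc_6_1 lc_g_rc_12_1 lc_g_rc_21_1 lc_g_rc_21_1 lc_g_rc_21_1 lc_g_rc_24_1 lc_g_rc_29_3 lc_g_rc_12_1 lc_g_rc_29_3) (@D3.rec (fun _ => (Cert rels S Gen.g)) lc_g_Cert_tree lc_g_Cert_tree lc_g_rc_27_0 lc_g_rc_27_0 lc_g_rc_29_3 lc_g_rc_17_1 lc_g_rc_17_1 lc_g_rc_29_3 lc_g_rc_29_1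 lc_g_rc_21_1 lc_g_rc_29_3 lc_g_Cert_tree lc_g_rc_27_0 lc_g_Cert_tree lc_g_rc_27_0 lc_g_rc_24_1 lc_g_rc_17_1 lc_g_Cert_tree lc_g_rc_27_0 lc_g_rc_21_1 lc_g_rc_12_5 lc_g_rc_12_3 lc_g_rc_6_1 lc_g_rc_17_1 lc_g_rc_6_3 lc_g_Cert_tree lc_g_rc_21_3 lc_g_Cert_tree lc_g_rc_27_0 lc_g_rc_29_3 lc_g_rc_17_1 lc_g_rc_29_3 lc_g_rc_6_1 lc_g_rc_12_3 lc_g_rc_29_1 lc_g_rc_21_1 lc_g_Cert_tree lc_g_rc_27_0 lc_g_rc_29_1 lc_g_Cert_tree) (@D3.rec (fun _ => (Cert rels S Gen.g)) lc_g_rc_27_0 lc_g_rc_12_1 lc_g_Cert_tree lc_g_rc_27_0 lc_g_Cert_tree lc_g_rc_27_0 lc_g_rc_6_1 lc_g_rc_27_0 lc_g_rc_12_3 lc_g_rc_12_5 lc_g_rc_6_3 lc_g_rc_27_0 lc_g_rc_12_3 lc_g_rc_17_1 lc_g_rc_12_1 lc_g_Cert_tree lc_g_rc_27_0 lc_g_rc_6_1 lc_g_rc_6_1 lc_g_Cert_tree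 lc_g_rc_27_0 lc_g_rc_17_1 lc_g_Cert_tree lc_g_rc_27_0 lc_g_rc_6_1 lc_g_rc_21_1 lc_g_rc_21_1 lc_g_rc_12_3 lc_g_rc_12_3 lc_g_rc_17_1 lc_g_rc_17_1 lc_g_rc_12_3 lc_g_rc_6_1 lc_g_rc_17_1 lc_g_rc_6_1 lc_g_rc_21_1 lc_g_rc_17_1 lc_g_rc_29_3 lc_g_rc_17_1 lc_g_rc_29_3) (@D3.rec (fun _ => (Cert rels S Gen.g)) lc_g_rc_27_0 lc_g_rc_31_2 lc_g_rc_29_1 lc_g_rc_17_1 lc_g_rc_17_3 lc_g_rc_27_0 lc_g_rc_29_1 lc_g_rc_6_1 lc_g_rc_27_0 lc_g_rc_12_1 lc_g_rc_12_1 lc_g_rc_27_0 lc_g_rc_21_3 lc_g_rc_27_0 lc_g_rc_6_1 lc_g_rc_6_3 lc_g_rc_6_1 lc_g_rc_27_0 lc_g_rc_27_0 lc_g_rc_27_0 lc_g_rc_17_1 lc_g_rc_27_0 lc_g_rc_6_1 lc_g_rc_21_1 lc_g_rc_27_0 lc_g_rc_21_1 lc_g_rc_12_3 lc_g_rc_6_1 lc_g_rc_17_1 lc_g_rc_17_1 lc_g_rc_26_5 lc_g_rc_6_1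 lc_g_rc_17_1 lc_g_rc_27_0 lc_g_rc_6_1 lc_g_rc_6_1 lc_g_rc_27_0 lc_g_rc_26_5 lc_g_rc_27_0 lc_g_rc_6_3) (@D3.rec (fun _ => (Cert rels S Gen.g)) lc_g_rc_17_1 lc_g_Cert_tree lc_g_rc_27_0 lc_g_rc_17_1 lc_g_rc_29_1 lc_g_Cert_tree lc_g_Cert_tree lc_g_rc_27_0 lc_g_rc_27_0 lc_g_rc_12_3 lc_g_rc_29_3 lc_g_rc_17_1 lc_g_rc_29_3 lc_g_rc_31_5 lc_g_rc_29_3 lc_g_rc_21_1 lc_g_rc_29_3 lc_g_rc_29_1 lc_g_Cert_tree lc_g_rc_27_0 lc_g_rc_12_1 lc_g_rc_6_1 lc_g_rc_29_1 lc_g_Cert_tree lc_g_rc_27_0 lc_g_rc_12_3 lc_g_rc_6_1 lc_g_rc_12_1 lc_g_rc_17_1 lc_g_rc_29_3 lc_g_rc_12_3 lc_g_rc_17_1 lc_g_rc_6_1 lc_g_rc_29_3 lc_g_Cert_tree lc_g_rc_29_1 lc_g_rc_12_5 lc_g_rc_27_0 lc_g_rc_24_1 lc_g_rc_29_1) (@D3.rec (fun _ => (Cert rels S Gen.g))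 lc_g_Cert_tree lc_g_rc_27_0 lc_g_rc_6_1 lc_g_rc_17_1 lc_g_rc_6_1 lc_g_Cert_tree lc_g_Cert_tree lc_g_rc_27_0 lc_g_rc_27_0 lc_g_rc_6_1 lc_g_rc_31_8 lc_g_rc_12_3 lc_g_rc_26_3 lc_g_rc_27_0 lc_g_rc_21_1 lc_g_rc_31_2 lc_g_rc_29_1 lc_g_rc_27_0 lc_g_rc_17_1 lc_g_rc_26_3 lc_g_rc_6_3 lc_g_rc_29_1 lc_g_rc_21_1 lc_g_rc_17_1 lc_g_rc_6_1 lc_g_rc_6_1 lc_g_rc_17_1 lc_g_rc_6_3 lc_g_rc_29_3 lc_g_rc_6_1 lc_g_Cert_tree lc_g_rc_27_0 lc_g_rc_27_0 lc_g_rc_24_1 lc_g_rc_6_1 lc_g_rc_31_5 lc_g_Cert_tree lc_g_rc_29_1 lc_g_rc_27_1 lc_g_rc_24_1) (@D3.rec (fun _ => (Cert rels S Gen.g)) lc_g_Cert_tree lc_g_rc_27_0 lc_g_rc_12_3 lc_g_rc_17_1 lc_g_rc_6_1 lc_g_Cert_tree lc_g_Cert_tree lc_g_Cert_tree lc_g_rc_27_0 lc_g_Cert_tree lc_g_rc_27_0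 lc_g_Cert_tree lc_g_rc_29_3 lc_g_rc_17_1 lc_g_rc_24_1 lc_g_rc_29_3 lc_g_rc_12_3 lc_g_rc_24_1 lc_g_Cert_tree lc_g_rc_27_0 lc_g_rc_24_1 lc_g_Cert_tree lc_g_rc_17_1 lc_g_rc_27_0 lc_g_Cert_tree lc_g_rc_27_0 lc_g_rc_17_1 lc_g_rc_6_1 lc_g_rc_29_1 lc_g_rc_17_1 lc_g_Cert_tree lc_g_rc_17_1 lc_g_Cert_tree lc_g_Cert_tree lc_g_rc_27_0 lc_g_rc_12_3 lc_g_rc_17_1 lc_g_rc_27_0 lc_g_Cert_tree lc_g_rc_27_0) (@D3.rec (fun _ => (Cert rels S Gen.g)) lc_g_rc_17_1 lc_g_rc_6_3 lc_g_rc_29_1 lc_g_Cert_tree lc_g_Cert_tree lc_g_rc_24_1 lc_g_rc_27_0 lc_g_Cert_tree lc_g_rc_27_0 lc_g_rc_21_1 lc_g_Cert_tree lc_g_Cert_tree lc_g_rc_27_0 lc_g_rc_27_0 lc_g_rc_24_3 lc_g_rc_6_1 lc_g_rc_24_1 lc_g_Cert_tree lc_g_rc_6_1 lc_g_rc_31_5 lc_g_Cert_tree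 lc_g_rc_29_1 lc_g_rc_6_3 lc_g_Cert_tree lc_g_rc_27_0 lc_g_rc_17_3 lc_g_rc_24_1 lc_g_rc_21_1 lc_g_rc_17_1 lc_g_Cert_tree lc_g_Cert_tree lc_g_rc_12_5 lc_g_rc_27_0 lc_g_Cert_tree lc_g_rc_27_0 lc_g_Cert_tree lc_g_Cert_tree lc_g_rc_27_0 lc_g_rc_12_3 lc_g_Cert_tree) (@D3.rec (fun _ => (Cert rels S Gen.g)) lc_g_Cert_tree lc_g_rc_27_0 lc_g_rc_27_0 lc_g_rc_6_1 lc_g_Cert_tree lc_g_Cert_tree lc_g_rc_27_0 lc_g_rc_27_1 lc_g_Cert_tree lc_g_rc_27_1 lc_g_rc_27_0 lc_g_Cert_tree lc_g_Cert_tree lc_g_rc_26_7 lc_g_rc_27_0 lc_g_rc_29_3 lc_g_Cert_tree lc_g_Cert_tree lc_g_Cert_tree lc_g_rc_27_0 lc_g_Cert_tree lc_g_Cert_tree lc_g_rc_21_1 lc_g_rc_27_0 lc_g_Cert_tree lc_g_rc_26_1 lc_g_rc_24_1 lc_g_rc_27_0 lc_g_rc_27_0 lc_g_Cert_tree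 lc_g_Cert_tree lc_g_Cert_tree lc_g_rc_27_0 lc_g_Cert_tree lc_g_Cert_tree lc_g_rc_27_0 lc_g_rc_12_5 lc_g_rc_31_2 lc_g_Cert_tree lc_g_Cert_tree) (@D3.rec (fun _ => (Cert rels S Gen.g)) lc_g_rc_29_1 lc_g_rc_27_0 lc_g_Cert_tree lc_g_Cert_tree lc_g_rc_27_0 lc_g_rc_29_1 lc_g_rc_29_3 lc_g_rc_29_3 lc_g_rc_12_5 lc_g_rc_6_1 lc_g_rc_17_1 lc_g_rc_24_1 lc_g_rc_21_1 lc_g_rc_17_1 lc_g_rc_24_1 lc_g_rc_12_3 lc_g_rc_6_1 lc_g_rc_6_1 lc_g_rc_27_0 lc_g_rc_29_3 lc_g_rc_29_3 lc_g_rc_31_11 lc_g_rc_29_1 lc_g_rc_12_1 lc_g_rc_29_1 lc_g_rc_27_0 lc_g_rc_12_5 lc_g_rc_31_5 lc_g_Cert_tree lc_g_rc_17_1 lc_g_rc_17_3 lc_g_rc_29_1 lc_g_Cert_tree lc_g_rc_17_1 lc_g_rc_12_3 lc_g_rc_6_1 lc_g_rc_6_1 lc_g_rc_27_0 lc_g_rc_12_3 lc_g_Cert_tree)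 (@D3.rec (fun _ => (Cert rels S Gen.g)) lc_g_rc_27_0 lc_g_rc_29_1 lc_g_rc_6_1 lc_g_rc_29_1 lc_g_rc_17_1 lc_g_Cert_tree lc_g_rc_6_1 lc_g_rc_12_1 lc_g_rc_12_5 lc_g_rc_27_0 lc_g_rc_6_3 lc_g_rc_6_3 lc_g_rc_27_0 lc_g_rc_12_3 lc_g_rc_17_1 lc_g_rc_27_0 lc_g_rc_27_0 lc_g_rc_21_1 lc_g_rc_24_3 lc_g_rc_6_1 lc_g_Cert_tree lc_g_rc_17_1 lc_g_rc_12_3 lc_g_rc_29_1 lc_g_rc_12_1 lc_g_rc_27_0 lc_g_rc_24_1 lc_g_rc_24_1 lc_g_rc_17_1 lc_g_rc_12_3 lc_g_rc_6_1 lc_g_rc_24_1 lc_g_rc_21_3 lc_g_Cert_tree lc_g_rc_21_1 lc_g_rc_17_3 lc_g_Cert_tree lc_g_rc_12_1 lc_g_rc_27_0 lc_g_rc_6_1) (@D3.rec (fun _ => (Cert rels S Gen.g)) lc_g_rc_17_1 lc_g_rc_17_1 lc_g_rc_12_3 lc_g_rc_6_1 lc_g_rc_24_1 lc_g_rc_17_1 lc_g_rc_17_1 lc_g_rc_29_1 lc_g_rc_12_1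 lc_g_rc_21_1 lc_g_rc_29_1 lc_g_rc_12_3 lc_g_rc_31_11 lc_g_rc_21_1 lc_g_rc_6_3 lc_g_rc_12_1 lc_g_Cert_tree lc_g_rc_27_0 lc_g_Cert_tree lc_g_rc_27_0 lc_g_rc_17_1 lc_g_Cert_tree lc_g_rc_27_0 lc_g_rc_27_0 lc_g_rc_21_1 lc_g_rc_12_3 lc_g_rc_6_1 lc_g_rc_21_1 lc_g_rc_12_1 lc_g_rc_17_1 lc_g_rc_27_0 lc_g_rc_6_1 lc_g_rc_29_3 lc_g_rc_21_1 lc_g_Cert_tree lc_g_rc_27_0 lc_g_rc_6_1 lc_g_rc_12_3 lc_g_Cert_tree lc_g_rc_27_0) (@D3.rec (fun _ => (Cert rels S Gen.g)) lc_g_rc_27_0 lc_g_rc_6_1 lc_g_rc_12_1 lc_g_rc_26_3 lc_g_rc_27_0 lc_g_rc_12_1 lc_g_rc_31_2 lc_g_rc_6_1 lc_g_rc_27_0 lc_g_rc_17_1 lc_g_rc_29_3 lc_g_rc_21_1 lc_g_rc_17_1 lc_g_rc_29_3 lc_g_rc_29_3 lc_g_rc_12_3 lc_g_rc_21_1 lc_g_rc_6_3 lc_g_Cert_tree lc_g_rc_27_0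 lc_g_rc_12_1 lc_g_rc_6_3 lc_g_rc_6_3 lc_g_rc_27_0 lc_g_rc_12_3 lc_g_rc_31_5 lc_g_rc_27_0 lc_g_rc_27_0 lc_g_rc_29_3 lc_g_rc_17_1 lc_g_rc_29_1 lc_g_rc_29_1 lc_g_rc_26_5 lc_g_Cert_tree lc_g_rc_27_0 lc_g_rc_24_1 lc_g_rc_21_1 lc_g_rc_27_0 lc_g_rc_6_1 lc_g_rc_12_3) (@D3.rec (fun _ => (Cert rels S Gen.g)) lc_g_rc_21_1 lc_g_rc_17_1 lc_g_rc_6_3 lc_g_rc_27_0 lc_g_rc_12_3 lc_g_rc_6_1 lc_g_rc_27_0 lc_g_rc_6_1 lc_g_rc_29_1 lc_g_Cert_tree lc_g_rc_27_0 lc_g_rc_12_1 lc_g_rc_17_3 lc_g_rc_24_1 lc_g_rc_12_3 lc_g_rc_6_1 lc_g_rc_29_1 lc_g_rc_27_0 lc_g_rc_12_5 lc_g_rc_12_3 lc_g_rc_27_0 lc_g_rc_12_3 lc_g_rc_27_0 lc_g_rc_12_1 lc_g_rc_29_1 lc_g_rc_6_1 lc_g_Cert_tree lc_g_rc_27_0 lc_g_rc_27_0 lc_g_rc_12_3 lc_g_rc_27_0 lc_g_rc_6_1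 lc_g_rc_29_1 lc_g_rc_27_1 lc_g_rc_6_3 lc_g_rc_27_1 lc_g_rc_27_0 lc_g_rc_24_3 lc_g_rc_21_3 lc_g_rc_29_3) (@D3.rec (fun _ => (Cert rels S Gen.g)) lc_g_rc_6_1 lc_g_rc_27_0 lc_g_rc_12_1 lc_g_rc_6_1 lc_g_rc_12_1 lc_g_rc_6_1 lc_g_rc_29_1 lc_g_rc_29_1 lc_g_rc_6_1 lc_g_rc_12_3 lc_g_Cert_tree lc_g_rc_27_0 lc_g_rc_27_0 lc_g_rc_27_1 lc_g_rc_12_1 lc_g_rc_6_1 lc_g_Cert_tree lc_g_rc_12_5 lc_g_rc_21_1 lc_g_rc_27_1 lc_g_rc_27_0 lc_g_rc_21_1 lc_g_rc_27_0 lc_g_rc_29_3 lc_g_rc_27_0 lc_g_rc_27_0 lc_g_rc_12_5 lc_g_Cert_tree lc_g_rc_6_3 lc_g_rc_27_0 lc_g_rc_21_1 lc_g_rc_27_0 lc_g_rc_27_0 lc_g_rc_26_3 lc_g_rc_27_0 lc_g_Cert_tree lc_g_rc_27_0 lc_g_rc_12_3 lc_g_rc_27_0 lc_g_rc_12_1) (@D3.rec (fun _ => (Cert rels S Gen.g))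 lc_g_rc_12_1 lc_g_rc_12_3 lc_g_rc_12_1 lc_g_rc_27_0 lc_g_rc_21_1 lc_g_rc_24_1 lc_g_rc_12_3 lc_g_rc_12_1 lc_g_Cert_tree lc_g_rc_27_0 lc_g_Cert_tree lc_g_rc_27_0 lc_g_rc_27_0 lc_g_rc_12_3 lc_g_rc_29_1 lc_g_rc_29_1 lc_g_rc_12_1 lc_g_rc_24_1 lc_g_rc_29_3 lc_g_rc_29_3 lc_g_Cert_tree lc_g_rc_12_3 lc_g_rc_21_3 lc_g_rc_17_1 lc_g_rc_27_0 lc_g_rc_26_3 lc_g_Cert_tree lc_g_rc_27_0 lc_g_rc_12_3 lc_g_rc_12_3 lc_g_rc_12_3 lc_g_rc_24_1 lc_g_rc_27_0 lc_g_rc_21_1 lc_g_Cert_tree lc_g_Cert_tree lc_g_rc_27_0 lc_g_rc_21_1 lc_g_rc_17_1 lc_g_Cert_tree) (@D3.rec (fun _ => (Cert rels S Gen.g)) lc_g_rc_27_0 lc_g_rc_12_3 lc_g_rc_17_1 lc_g_rc_21_1 lc_g_rc_29_3 lc_g_rc_12_1 lc_g_rc_6_1 lc_g_rc_21_1 lc_g_rc_6_1 lc_g_rc_6_1 lc_g_rc_12_3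 lc_g_rc_17_1 lc_g_rc_12_3 lc_g_Cert_tree lc_g_rc_27_0 lc_g_Cert_tree lc_g_rc_27_0 lc_g_rc_6_1 lc_g_rc_29_3 lc_g_rc_21_1 lc_g_rc_29_3 lc_g_Cert_tree lc_g_rc_27_0 lc_g_Cert_tree lc_g_rc_27_0 lc_g_rc_12_3 lc_g_rc_6_1 lc_g_rc_6_1 lc_g_rc_29_1 lc_g_rc_24_1 lc_g_Cert_tree lc_g_Cert_tree lc_g_rc_27_0 lc_g_Cert_tree lc_g_rc_29_1 lc_g_Cert_tree lc_g_rc_6_1 lc_g_rc_17_1 lc_g_rc_12_3 lc_g_rc_6_1) (@D3.rec (fun _ => (Cert rels S Gen.g)) lc_g_rc_12_1 lc_g_rc_6_1 lc_g_rc_17_3 lc_g_rc_29_1 lc_g_rc_29_1 lc_g_Cert_tree lc_g_Cert_tree lc_g_rc_27_0 lc_g_rc_27_0 lc_g_rc_12_1 lc_g_rc_27_0 lc_g_rc_27_0 lc_g_rc_12_3 lc_g_rc_29_3 lc_g_rc_21_1 lc_g_rc_29_3 lc_g_rc_26_5 lc_g_Cert_tree lc_g_rc_6_1 lc_g_rc_29_1 lc_g_rc_17_1 lc_g_rc_24_1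 lc_g_Cert_tree lc_g_Cert_tree lc_g_rc_27_0 lc_g_Cert_tree lc_g_Cert_tree lc_g_rc_27_0 lc_g_rc_27_0 lc_g_rc_6_1 lc_g_rc_17_1 lc_g_rc_29_3 lc_g_rc_12_3 lc_g_rc_29_1 lc_g_Cert_tree lc_g_rc_27_0 lc_g_rc_17_1 lc_g_Cert_tree lc_g_Cert_tree lc_g_rc_27_0) (@D3.rec (fun _ => (Cert rels S Gen.g)) lc_g_Cert_tree lc_g_Cert_tree lc_g_rc_27_0 lc_g_rc_12_3 lc_g_rc_6_1 lc_g_rc_29_1 lc_g_Cert_tree lc_g_rc_27_0 lc_g_Cert_tree lc_g_Cert_tree lc_g_Cert_tree lc_g_rc_27_0 lc_g_rc_27_0 lc_g_rc_12_3 lc_g_rc_17_1 lc_g_Cert_tree lc_g_rc_27_0 lc_g_Cert_tree lc_g_Cert_tree lc_g_Cert_tree lc_g_rc_27_0 lc_g_rc_27_0 lc_g_rc_12_1 lc_g_rc_17_1 lc_g_Cert_tree lc_g_Cert_tree lc_g_Cert_tree lc_g_rc_27_0 lc_g_rc_27_0 lc_g_Cert_tree lc_g_rc_27_0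 lc_g_rc_12_3 lc_g_rc_12_3 lc_g_rc_6_1 lc_g_rc_17_1 lc_g_Cert_tree lc_g_rc_6_3 lc_g_rc_6_1 lc_g_rc_29_1 lc_g_Cert_tree) (@D3.rec (fun _ => (Cert rels S Gen.g)) lc_g_rc_27_0 lc_g_rc_17_1 lc_g_rc_17_1 lc_g_rc_29_3 lc_g_rc_17_1 lc_g_rc_29_3 lc_g_rc_17_1 lc_g_rc_31_11 lc_g_rc_26_5 lc_g_Cert_tree lc_g_rc_27_1 lc_g_rc_27_0 lc_g_rc_17_1 lc_g_rc_29_1 lc_g_Cert_tree lc_g_rc_21_1 lc_g_Cert_tree lc_g_rc_6_3 lc_g_rc_27_0 lc_g_rc_12_3 lc_g_rc_21_1 lc_g_rc_12_5 lc_g_rc_6_3 lc_g_rc_21_3 lc_g_rc_6_1 lc_g_Cert_tree lc_g_rc_27_0 lc_g_rc_12_5 lc_g_rc_27_0 lc_g_rc_6_1 lc_g_rc_6_3 lc_g_rc_27_1 lc_g_rc_21_3 lc_g_rc_26_7 lc_g_rc_21_1 lc_g_rc_27_0 lc_g_rc_29_3 lc_g_rc_21_1 lc_g_rc_17_1 lc_g_rc_21_3) (@D3.rec (fun _ => (Cert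 rels S Gen.g)) lc_g_rc_12_3 lc_g_rc_12_3 lc_g_Cert_tree lc_g_rc_29_3 lc_g_rc_21_1 lc_g_rc_6_1 lc_g_Cert_tree lc_g_rc_21_1 lc_g_Cert_tree lc_g_Cert_tree lc_g_rc_27_0 lc_g_rc_17_3 lc_g_rc_26_3 lc_g_rc_27_0 lc_g_rc_27_0 lc_g_rc_6_1 lc_g_rc_17_1 lc_g_Cert_tree lc_g_rc_29_1 lc_g_Cert_tree lc_g_rc_27_0 lc_g_rc_12_3 lc_g_rc_31_11 lc_g_rc_21_1 lc_g_rc_6_3 lc_g_rc_31_5 lc_g_rc_27_0 lc_g_Cert_tree lc_g_rc_27_0 lc_g_rc_12_3 lc_g_Cert_tree lc_g_rc_27_0 lc_g_rc_27_0 lc_g_rc_6_1 lc_g_Cert_tree lc_g_rc_17_1 lc_g_rc_24_3 lc_g_rc_12_3 lc_g_rc_29_1 lc_g_rc_26_5) (@D3.rec (fun _ => (Cert rels S Gen.g)) lc_g_rc_17_1 lc_g_Cert_tree lc_g_Cert_tree lc_g_Cert_tree lc_g_rc_27_0 lc_g_Cert_tree lc_g_rc_27_0 lc_g_rc_12_3 lc_g_rc_12_3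 lc_g_rc_17_1 lc_g_rc_21_1 lc_g_rc_12_3 lc_g_rc_6_1 lc_g_rc_27_1 lc_g_rc_12_5 lc_g_rc_27_0 lc_g_rc_6_1 lc_g_rc_17_1 lc_g_rc_29_3 lc_g_rc_29_1 lc_g_rc_26_3 lc_g_rc_29_1 lc_g_rc_27_0 lc_g_rc_31_11 lc_g_rc_6_1 lc_g_rc_6_3 lc_g_rc_27_0 lc_g_rc_17_1 lc_g_rc_17_1 lc_g_Cert_tree lc_g_Cert_tree lc_g_Cert_tree lc_g_rc_27_0 lc_g_rc_12_3 lc_g_rc_12_3 lc_g_rc_6_1 lc_g_rc_17_1 lc_g_Cert_tree lc_g_rc_27_0 lc_g_rc_12_3) (@D3.rec (fun _ => (Cert rels S Gen.g)) lc_g_rc_29_3 lc_g_Cert_tree lc_g_Cert_tree lc_g_Cert_tree lc_g_rc_27_0 lc_g_Cert_tree lc_g_rc_27_0 lc_g_rc_12_3 lc_g_rc_12_3 lc_g_rc_26_3 lc_g_rc_17_1 lc_g_rc_27_1 lc_g_rc_17_1 lc_g_rc_29_1 lc_g_rc_17_1 lc_g_Cert_tree lc_g_rc_27_0 lc_g_rc_12_3 lc_g_Cert_tree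 lc_g_rc_27_0 lc_g_rc_12_3 lc_g_rc_17_1 lc_g_rc_6_1 lc_g_rc_12_3 lc_g_Cert_tree lc_g_rc_6_1 lc_g_rc_17_1 lc_g_Cert_tree lc_g_rc_12_3 lc_g_rc_29_3 lc_g_rc_21_1 lc_g_rc_29_3 lc_g_Cert_tree lc_g_Cert_tree lc_g_Cert_tree lc_g_rc_27_0 lc_g_rc_17_1 lc_g_rc_6_3 lc_g_rc_29_1 lc_g_Cert_tree) (@D3.rec (fun _ => (Cert rels S Gen.g)) lc_g_rc_27_0 lc_g_rc_31_2 lc_g_Cert_tree lc_g_rc_27_0 lc_g_rc_27_0 lc_g_rc_6_1 lc_g_rc_26_5 lc_g_rc_21_1 lc_g_Cert_tree lc_g_rc_27_0 lc_g_rc_6_3 lc_g_rc_17_1 lc_g_Cert_tree lc_g_rc_27_0 lc_g_rc_21_1 lc_g_rc_6_3 lc_g_Cert_tree lc_g_rc_17_1 lc_g_Cert_tree lc_g_rc_17_3 lc_g_rc_27_0 lc_g_rc_6_1 lc_g_rc_27_0 lc_g_rc_6_1 lc_g_rc_17_1 lc_g_rc_17_1 lc_g_rc_12_3 lc_g_rc_24_1 lc_g_Cert_tree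 lc_g_Cert_tree lc_g_rc_27_0 lc_g_Cert_tree lc_g_Cert_tree lc_g_rc_27_0 lc_g_rc_29_1 lc_g_rc_6_3 lc_g_rc_21_1 lc_g_Cert_tree lc_g_rc_29_1 lc_g_Cert_tree) (@D3.rec (fun _ => (Cert rels S Gen.g)) lc_g_rc_27_0 lc_g_rc_12_3 lc_g_rc_6_1 lc_g_rc_17_1 lc_g_Cert_tree lc_g_rc_17_3 lc_g_rc_27_0 lc_g_rc_29_3 lc_g_rc_17_1 lc_g_rc_29_3 lc_g_rc_21_3 lc_g_rc_12_3 lc_g_rc_29_1 lc_g_Cert_tree lc_g_rc_27_0 lc_g_rc_17_1 lc_g_rc_17_3 lc_g_rc_27_0 lc_g_rc_12_3 lc_g_Cert_tree lc_g_Cert_tree lc_g_Cert_tree lc_g_rc_6_3 lc_g_rc_27_0 lc_g_rc_6_3 lc_g_rc_27_0 lc_g_rc_12_3 lc_g_rc_27_0 lc_g_rc_29_1 lc_g_Cert_tree lc_g_rc_27_0 lc_g_Cert_tree lc_g_rc_27_0 lc_g_rc_27_0 lc_g_rc_12_3 lc_g_rc_6_1 lc_g_rc_27_0 lc_g_rc_6_1 lc_g_rc_12_3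 lc_g_Cert_tree)
def ce_g_14 : D2 → D3 → (Cert rels S Gen.g) := @D2.rec (fun _ => D3 → (Cert rels S Gen.g)) (@D3.rec (fun _ => (Cert rels S Gen.g)) lc_g_rc_6_1 lc_g_rc_12_3 lc_g_rc_6_3 lc_g_rc_27_0 lc_g_Cert_tree lc_g_rc_27_0 lc_g_rc_12_3 lc_g_Cert_tree lc_g_rc_6_1 lc_g_rc_21_1 lc_g_Cert_tree lc_g_rc_27_0 lc_g_Cert_tree lc_g_Cert_tree lc_g_rc_27_0 lc_g_Cert_tree lc_g_rc_6_1 lc_g_rc_29_1 lc_g_rc_17_1 lc_g_rc_24_1 lc_g_Cert_tree lc_g_rc_17_3 lc_g_rc_27_0 lc_g_rc_12_3 lc_g_rc_27_0 lc_g_rc_29_3 lc_g_rc_17_1 lc_g_rc_29_3 lc_g_rc_24_1 lc_g_rc_12_3 lc_g_rc_21_1 lc_g_rc_17_3 lc_g_rc_17_3 lc_g_rc_6_3 lc_g_rc_27_0 lc_g_rc_6_3 lc_g_rc_27_0 lc_g_rc_29_3 lc_g_rc_29_1 lc_g_rc_6_1) (@D3.rec (fun _ => (Cert rels S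 Gen.g)) lc_g_rc_12_1 lc_g_Cert_tree lc_g_rc_17_1 lc_g_Cert_tree lc_g_Cert_tree lc_g_rc_27_0 lc_g_rc_6_1 lc_g_rc_27_0 lc_g_rc_6_1 lc_g_rc_12_3 lc_g_rc_6_3 lc_g_rc_21_3 lc_g_rc_26_3 lc_g_Cert_tree lc_g_rc_12_3 lc_g_Cert_tree lc_g_rc_27_0 lc_g_Cert_tree lc_g_rc_12_3 lc_g_rc_17_1 lc_g_Cert_tree lc_g_rc_27_0 lc_g_rc_17_3 lc_g_Cert_tree lc_g_rc_21_1 lc_g_rc_27_0 lc_g_Cert_tree lc_g_rc_27_0 lc_g_Cert_tree lc_g_rc_27_0 lc_g_rc_12_3 lc_g_rc_6_1 lc_g_Cert_tree lc_g_rc_29_3 lc_g_rc_29_1 lc_g_Cert_tree lc_g_rc_27_0 lc_g_rc_27_0 lc_g_Cert_tree lc_g_Cert_tree) (@D3.rec (fun _ => (Cert rels S Gen.g)) lc_g_rc_6_3 lc_g_rc_27_0 lc_g_rc_27_0 lc_g_rc_21_1 lc_g_rc_12_3 lc_g_rc_29_1 lc_g_rc_24_1 lc_g_Cert_tree lc_g_Cert_tree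 lc_g_rc_27_0 lc_g_Cert_tree lc_g_Cert_tree lc_g_rc_27_0 lc_g_rc_17_3 lc_g_rc_27_0 lc_g_rc_12_3 lc_g_rc_6_1 lc_g_rc_27_0 lc_g_rc_24_1 lc_g_rc_12_3 lc_g_Cert_tree lc_g_rc_6_1 lc_g_rc_6_1 lc_g_rc_29_1 lc_g_rc_12_1 lc_g_rc_27_0 lc_g_rc_29_3 lc_g_rc_17_3 lc_g_rc_6_3 lc_g_rc_6_3 lc_g_rc_27_0 lc_g_rc_6_3 lc_g_Cert_tree lc_g_rc_21_1 lc_g_Cert_tree lc_g_rc_27_0 lc_g_rc_24_3 lc_g_Cert_tree lc_g_rc_27_0 lc_g_rc_21_3) (@D3.rec (fun _ => (Cert rels S Gen.g)) lc_g_Cert_tree lc_g_rc_27_0 lc_g_Cert_tree lc_g_rc_27_0 lc_g_rc_21_1 lc_g_rc_6_1 lc_g_rc_27_0 lc_g_rc_6_1 lc_g_rc_12_3 lc_g_Cert_tree lc_g_rc_29_3 lc_g_rc_17_1 lc_g_rc_29_3 lc_g_rc_31_8 lc_g_rc_27_0 lc_g_Cert_tree lc_g_rc_27_0 lc_g_rc_24_1 lc_g_rc_6_1 lc_g_rc_12_3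 lc_g_rc_27_0 lc_g_rc_27_0 lc_g_rc_12_3 lc_g_rc_27_0 lc_g_rc_6_1 lc_g_rc_17_1 lc_g_rc_27_0 lc_g_rc_27_0 lc_g_rc_27_0 lc_g_rc_12_3 lc_g_rc_6_1 lc_g_rc_27_0 lc_g_rc_17_3 lc_g_rc_12_3 lc_g_Cert_tree lc_g_rc_27_0 lc_g_rc_27_0 lc_g_rc_27_0 lc_g_rc_12_3 lc_g_rc_29_3) (@D3.rec (fun _ => (Cert rels S Gen.g)) lc_g_rc_21_1 lc_g_rc_12_3 lc_g_rc_24_1 lc_g_rc_12_3 lc_g_rc_24_1 lc_g_rc_6_1 lc_g_rc_17_1 lc_g_rc_24_1 lc_g_rc_17_1 lc_g_rc_12_3 lc_g_rc_17_1 lc_g_rc_27_0 lc_g_rc_12_3 lc_g_rc_27_0 lc_g_rc_12_3 lc_g_rc_12_3 lc_g_rc_12_3 lc_g_rc_6_3 lc_g_rc_27_0 lc_g_rc_17_1 lc_g_rc_29_1 lc_g_rc_17_1 lc_g_rc_24_1 lc_g_rc_6_1 lc_g_rc_12_1 lc_g_rc_21_1 lc_g_Cert_tree lc_g_rc_27_0 lc_g_rc_31_8 lc_g_rc_24_1 lc_g_rc_27_0 lc_g_rc_27_1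 lc_g_rc_17_1 lc_g_rc_27_0 lc_g_rc_17_1 lc_g_rc_27_0 lc_g_rc_27_0 lc_g_rc_12_3 lc_g_rc_17_1 lc_g_rc_31_8) (@D3.rec (fun _ => (Cert rels S Gen.g)) lc_g_rc_21_1 lc_g_Cert_tree lc_g_rc_12_1 lc_g_rc_27_0 lc_g_rc_29_1 lc_g_rc_27_0 lc_g_rc_17_1 lc_g_rc_24_1 lc_g_rc_24_1 lc_g_rc_24_1 lc_g_rc_6_1 lc_g_rc_17_3 lc_g_rc_21_1 lc_g_rc_21_1 lc_g_rc_29_3 lc_g_rc_6_1 lc_g_rc_29_1 lc_g_rc_29_3 lc_g_rc_17_3 lc_g_rc_27_0 lc_g_rc_12_3 lc_g_rc_27_0 lc_g_rc_12_3 lc_g_rc_6_1 lc_g_rc_27_0 lc_g_rc_12_3 lc_g_rc_6_1 lc_g_rc_21_3 lc_g_rc_12_3 lc_g_rc_12_3 lc_g_rc_12_1 lc_g_rc_12_3 lc_g_rc_21_1 lc_g_Cert_tree lc_g_rc_12_1 lc_g_rc_27_0 lc_g_rc_27_0 lc_g_rc_6_1 lc_g_rc_17_1 lc_g_rc_12_3) (@D3.rec (fun _ => (Cert rels S Gen.g)) lc_g_rc_27_0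 lc_g_rc_6_1 lc_g_rc_29_1 lc_g_rc_21_1 lc_g_rc_27_0 lc_g_rc_17_3 lc_g_rc_27_0 lc_g_rc_12_3 lc_g_rc_6_3 lc_g_rc_12_3 lc_g_rc_17_1 lc_g_rc_12_3 lc_g_rc_29_3 lc_g_rc_21_1 lc_g_rc_29_3 lc_g_rc_31_2 lc_g_rc_6_1 lc_g_rc_21_1 lc_g_rc_6_1 lc_g_rc_29_3 lc_g_rc_27_0 lc_g_rc_12_3 lc_g_rc_6_3 lc_g_rc_24_3 lc_g_rc_6_1 lc_g_rc_12_3 lc_g_rc_12_1 lc_g_rc_21_3 lc_g_rc_27_0 lc_g_rc_6_1 lc_g_rc_17_3 lc_g_rc_27_0 lc_g_rc_21_1 lc_g_rc_6_1 lc_g_rc_27_0 lc_g_rc_24_3 lc_g_rc_6_1 lc_g_rc_17_1 lc_g_rc_12_3 lc_g_rc_6_1) (@D3.rec (fun _ => (Cert rels S Gen.g)) lc_g_rc_29_1 lc_g_rc_12_1 lc_g_rc_27_0 lc_g_rc_27_0 lc_g_rc_24_3 lc_g_rc_27_0 lc_g_rc_27_0 lc_g_rc_12_3 lc_g_rc_17_1 lc_g_rc_17_1 lc_g_rc_6_1 lc_g_rc_6_1 lc_g_rc_17_1 lc_g_rc_29_3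 lc_g_rc_17_1 lc_g_rc_24_1 lc_g_rc_29_3 lc_g_rc_24_1 lc_g_rc_21_1 lc_g_rc_17_1 lc_g_rc_27_1 lc_g_rc_6_1 lc_g_rc_6_3 lc_g_rc_6_1 lc_g_rc_6_1 lc_g_rc_29_1 lc_g_rc_6_3 lc_g_rc_21_1 lc_g_rc_17_1 lc_g_rc_12_3 lc_g_Cert_tree lc_g_rc_27_0 lc_g_rc_12_1 lc_g_rc_17_3 lc_g_rc_27_0 lc_g_rc_29_3 lc_g_rc_27_0 lc_g_rc_17_1 lc_g_rc_12_3 lc_g_rc_12_1) (@D3.rec (fun _ => (Cert rels S Gen.g)) lc_g_rc_6_1 lc_g_rc_24_3 lc_g_rc_17_1 lc_g_rc_27_0 lc_g_rc_12_3 lc_g_rc_29_1 lc_g_rc_29_3 lc_g_rc_21_1 lc_g_rc_27_0 lc_g_rc_6_1 lc_g_rc_6_3 lc_g_rc_21_1 lc_g_rc_17_1 lc_g_rc_21_3 lc_g_rc_6_3 lc_g_rc_21_1 lc_g_rc_29_1 lc_g_Cert_tree lc_g_rc_27_0 lc_g_rc_27_0 lc_g_rc_6_1 lc_g_rc_27_0 lc_g_rc_12_3 lc_g_rc_29_3 lc_g_rc_26_5 lc_g_rc_27_0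 lc_g_rc_27_0 lc_g_rc_21_1 lc_g_rc_17_1 lc_g_rc_31_5 lc_g_rc_12_3 lc_g_rc_12_3 lc_g_rc_12_1 lc_g_rc_12_1 lc_g_rc_26_5 lc_g_rc_17_1 lc_g_rc_21_1 lc_g_rc_17_1 lc_g_rc_12_3 lc_g_rc_24_1) (@D3.rec (fun _ => (Cert rels S Gen.g)) lc_g_rc_12_3 lc_g_rc_29_3 lc_g_rc_26_3 lc_g_rc_27_0 lc_g_rc_24_1 lc_g_rc_29_1 lc_g_rc_6_1 lc_g_rc_17_1 lc_g_rc_17_1 lc_g_rc_12_1 lc_g_rc_24_3 lc_g_Cert_tree lc_g_rc_29_3 lc_g_rc_27_0 lc_g_rc_17_3 lc_g_rc_27_0 lc_g_rc_12_3 lc_g_rc_12_3 lc_g_rc_27_0 lc_g_Cert_tree lc_g_rc_17_3 lc_g_rc_24_1 lc_g_rc_17_1 lc_g_rc_12_3 lc_g_rc_12_1 lc_g_rc_27_0 lc_g_rc_27_0 lc_g_rc_12_3 lc_g_rc_27_0 lc_g_rc_29_1 lc_g_Cert_tree lc_g_rc_27_1 lc_g_rc_21_1 lc_g_rc_21_1 lc_g_rc_24_1 lc_g_rc_12_1 lc_g_rc_12_1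 lc_g_rc_12_3 lc_g_rc_21_1 lc_g_Cert_tree) (@D3.rec (fun _ => (Cert rels S Gen.g)) lc_g_rc_27_0 lc_g_rc_29_1 lc_g_rc_29_3 lc_g_rc_27_0 lc_g_rc_6_1 lc_g_rc_27_0 lc_g_rc_17_3 lc_g_rc_24_1 lc_g_rc_12_3 lc_g_rc_12_3 lc_g_rc_24_1 lc_g_rc_27_0 lc_g_rc_24_1 lc_g_rc_21_1 lc_g_rc_31_5 lc_g_rc_27_0 lc_g_rc_26_5 lc_g_rc_12_1 lc_g_rc_21_3 lc_g_rc_17_3 lc_g_rc_24_1 lc_g_rc_27_0 lc_g_rc_17_1 lc_g_rc_21_1 lc_g_rc_17_1 lc_g_rc_17_3 lc_g_rc_27_1 lc_g_rc_6_3 lc_g_rc_6_3 lc_g_rc_12_3 lc_g_rc_27_0 lc_g_rc_12_3 lc_g_rc_21_1 lc_g_rc_17_1 lc_g_rc_6_1 lc_g_rc_12_3 lc_g_rc_12_3 lc_g_rc_12_3 lc_g_rc_17_1 lc_g_rc_21_1) (@D3.rec (fun _ => (Cert rels S Gen.g)) lc_g_rc_12_1 lc_g_rc_17_1 lc_g_rc_6_1 lc_g_rc_12_3 lc_g_rc_17_1 lc_g_rc_31_8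 lc_g_rc_6_1 lc_g_rc_17_1 lc_g_rc_17_1 lc_g_rc_12_1 lc_g_rc_17_1 lc_g_rc_31_5 lc_g_rc_27_0 lc_g_rc_17_1 lc_g_rc_17_1 lc_g_rc_27_0 lc_g_rc_17_1 lc_g_rc_17_1 lc_g_rc_17_1 lc_g_rc_12_1 lc_g_rc_6_3 lc_g_rc_21_3 lc_g_rc_27_0 lc_g_rc_6_3 lc_g_Cert_tree lc_g_rc_27_0 lc_g_rc_17_3 lc_g_rc_26_3 lc_g_rc_24_1 lc_g_rc_21_1 lc_g_rc_12_1 lc_g_rc_21_1 lc_g_rc_6_3 lc_g_rc_17_1 lc_g_Cert_tree lc_g_rc_29_1 lc_g_Cert_tree lc_g_Cert_tree lc_g_rc_27_0 lc_g_rc_12_3) (@D3.rec (fun _ => (Cert rels S Gen.g)) lc_g_rc_17_1 lc_g_rc_17_1 lc_g_rc_21_1 lc_g_Cert_tree lc_g_rc_27_0 lc_g_rc_6_1 lc_g_rc_12_3 lc_g_rc_29_3 lc_g_rc_17_1 lc_g_rc_24_1 lc_g_rc_29_3 lc_g_Cert_tree lc_g_rc_27_1 lc_g_rc_29_1 lc_g_Cert_tree lc_g_rc_27_0 lc_g_rc_6_1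 lc_g_rc_21_1 lc_g_rc_21_1 lc_g_rc_21_1 lc_g_rc_21_1 lc_g_rc_12_3 lc_g_rc_21_1 lc_g_rc_29_1 lc_g_Cert_tree lc_g_Cert_tree lc_g_rc_27_0 lc_g_rc_17_1 lc_g_rc_21_1 lc_g_rc_12_3 lc_g_rc_21_1 lc_g_rc_6_1 lc_g_rc_17_1 lc_g_rc_21_1 lc_g_rc_6_1 lc_g_rc_17_1 lc_g_rc_27_0 lc_g_rc_29_1 lc_g_rc_17_1 lc_g_rc_27_0) (@D3.rec (fun _ => (Cert rels S Gen.g)) lc_g_Cert_tree lc_g_rc_27_0 lc_g_rc_12_3 lc_g_rc_6_1 lc_g_rc_29_3 lc_g_rc_6_3 lc_g_rc_29_3 lc_g_rc_12_3 lc_g_Cert_tree lc_g_rc_27_0 lc_g_rc_12_3 lc_g_rc_27_0 lc_g_rc_27_0 lc_g_rc_12_3 lc_g_rc_6_1 lc_g_rc_6_1 lc_g_rc_6_1 lc_g_Cert_tree lc_g_rc_21_3 lc_g_rc_29_1 lc_g_Cert_tree lc_g_rc_24_1 lc_g_rc_21_3 lc_g_Cert_tree lc_g_rc_27_0 lc_g_rc_29_1 lc_g_rc_27_0 lc_g_rc_6_1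 lc_g_rc_27_0 lc_g_rc_6_1 lc_g_rc_27_1 lc_g_rc_29_3 lc_g_rc_27_0 lc_g_rc_12_3 lc_g_rc_17_1 lc_g_rc_12_3 lc_g_rc_21_1 lc_g_rc_17_1 lc_g_rc_26_1 lc_g_rc_21_1) (@D3.rec (fun _ => (Cert rels S Gen.g)) lc_g_rc_24_1 lc_g_rc_6_3 lc_g_rc_12_3 lc_g_rc_27_0 lc_g_rc_29_1 lc_g_rc_31_8 lc_g_rc_27_0 lc_g_rc_6_3 lc_g_rc_27_0 lc_g_rc_17_3 lc_g_rc_27_0 lc_g_rc_26_5 lc_g_rc_21_1 lc_g_rc_21_3 lc_g_rc_21_1 lc_g_rc_6_1 lc_g_rc_17_1 lc_g_Cert_tree lc_g_rc_21_1 lc_g_rc_17_1 lc_g_rc_24_1 lc_g_rc_6_1 lc_g_rc_29_1 lc_g_rc_17_1 lc_g_Cert_tree lc_g_rc_21_1 lc_g_rc_21_1 lc_g_rc_29_3 lc_g_rc_27_0 lc_g_rc_12_3 lc_g_rc_6_1 lc_g_rc_12_3 lc_g_rc_24_3 lc_g_rc_24_1 lc_g_rc_6_1 lc_g_Cert_tree lc_g_rc_27_0 lc_g_Cert_tree lc_g_rc_29_3 lc_g_rc_17_1)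 (@D3.rec (fun _ => (Cert rels S Gen.g)) lc_g_rc_24_1 lc_g_rc_29_3 lc_g_Cert_tree lc_g_Cert_tree lc_g_rc_27_0 lc_g_Cert_tree lc_g_Cert_tree lc_g_Cert_tree lc_g_rc_27_0 lc_g_rc_6_1 lc_g_rc_29_1 lc_g_Cert_tree lc_g_Cert_tree lc_g_rc_17_1 lc_g_Cert_tree lc_g_Cert_tree lc_g_Cert_tree lc_g_rc_27_0 lc_g_rc_6_3 lc_g_rc_27_0 lc_g_rc_12_3 lc_g_rc_17_1 lc_g_Cert_tree lc_g_rc_27_0 lc_g_rc_6_1 lc_g_rc_26_7 lc_g_rc_6_1 lc_g_rc_17_1 lc_g_rc_21_1 lc_g_rc_17_1 lc_g_rc_6_1 lc_g_Cert_tree lc_g_rc_29_1 lc_g_Cert_tree lc_g_Cert_tree lc_g_rc_27_0 lc_g_rc_17_3 lc_g_Cert_tree lc_g_rc_6_1 lc_g_rc_6_3) (@D3.rec (fun _ => (Cert rels S Gen.g)) lc_g_Cert_tree lc_g_Cert_tree lc_g_rc_27_0 lc_g_Cert_tree lc_g_rc_27_0 lc_g_rc_12_3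 lc_g_Cert_tree lc_g_Cert_tree lc_g_rc_27_0 lc_g_rc_27_0 lc_g_rc_12_3 lc_g_rc_6_1 lc_g_rc_29_1 lc_g_rc_29_3 lc_g_Cert_tree lc_g_rc_27_1 lc_g_rc_12_3 lc_g_rc_12_3 lc_g_rc_17_1 lc_g_rc_17_1 lc_g_rc_21_3 lc_g_rc_21_1 lc_g_rc_17_1 lc_g_rc_17_1 lc_g_rc_24_1 lc_g_rc_26_5 lc_g_rc_26_7 lc_g_rc_21_1 lc_g_Cert_tree lc_g_rc_29_3 lc_g_rc_27_0 lc_g_rc_17_1 lc_g_rc_29_3 lc_g_rc_17_1 lc_g_rc_21_1 lc_g_rc_17_1 lc_g_rc_6_1 lc_g_rc_29_3 lc_g_rc_29_1 lc_g_rc_17_1) (@D3.rec (fun _ => (Cert rels S Gen.g)) lc_g_rc_12_1 lc_g_Cert_tree lc_g_rc_27_0 lc_g_Cert_tree lc_g_rc_24_3 lc_g_rc_6_1 lc_g_rc_27_0 lc_g_rc_6_1 lc_g_Cert_tree lc_g_rc_17_1 lc_g_rc_6_3 lc_g_rc_29_1 lc_g_Cert_tree lc_g_Cert_tree lc_g_rc_27_0 lc_g_rc_24_1 lc_g_rc_29_3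 lc_g_rc_21_1 lc_g_Cert_tree lc_g_Cert_tree lc_g_rc_27_0 lc_g_Cert_tree lc_g_rc_27_0 lc_g_rc_17_3 lc_g_rc_27_0 lc_g_rc_6_3 lc_g_rc_12_3 lc_g_rc_29_1 lc_g_rc_6_3 lc_g_rc_31_8 lc_g_rc_6_1 lc_g_rc_6_1 lc_g_rc_17_3 lc_g_rc_27_0 lc_g_Cert_tree lc_g_rc_27_0 lc_g_Cert_tree lc_g_Cert_tree lc_g_rc_27_0 lc_g_rc_12_3) (@D3.rec (fun _ => (Cert rels S Gen.g)) lc_g_rc_21_1 lc_g_Cert_tree lc_g_rc_6_1 lc_g_rc_27_0 lc_g_rc_17_1 lc_g_rc_29_1 lc_g_rc_17_3 lc_g_rc_29_1 lc_g_Cert_tree lc_g_rc_27_0 lc_g_rc_27_0 lc_g_rc_12_3 lc_g_rc_6_1 lc_g_rc_12_1 lc_g_rc_21_1 lc_g_rc_24_1 lc_g_Cert_tree lc_g_Cert_tree lc_g_rc_21_1 lc_g_rc_27_0 lc_g_rc_12_3 lc_g_Cert_tree lc_g_Cert_tree lc_g_rc_27_0 lc_g_rc_27_0 lc_g_rc_12_3 lc_g_rc_29_1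 lc_g_rc_27_0 lc_g_Cert_tree lc_g_rc_27_0 lc_g_Cert_tree lc_g_rc_27_0 lc_g_rc_29_3 lc_g_rc_17_1 lc_g_rc_12_3 lc_g_rc_6_1 lc_g_rc_17_1 lc_g_rc_21_1 lc_g_rc_27_1 lc_g_rc_29_3) (@D3.rec (fun _ => (Cert rels S Gen.g)) lc_g_rc_29_1 lc_g_rc_27_1 lc_g_rc_6_3 lc_g_rc_6_1 lc_g_rc_21_1 lc_g_rc_29_3 lc_g_rc_29_3 lc_g_rc_12_3 lc_g_rc_17_1 lc_g_rc_21_1 lc_g_rc_24_3 lc_g_rc_17_1 lc_g_rc_24_1 lc_g_rc_21_1 lc_g_rc_12_1 lc_g_rc_6_1 lc_g_rc_29_1 lc_g_rc_17_1 lc_g_rc_24_1 lc_g_rc_21_1 lc_g_Cert_tree lc_g_rc_27_0 lc_g_rc_27_0 lc_g_rc_12_3 lc_g_rc_24_1 lc_g_rc_31_11 lc_g_rc_12_1 lc_g_rc_17_1 lc_g_rc_6_3 lc_g_rc_17_1 lc_g_rc_24_1 lc_g_rc_21_1 lc_g_rc_17_1 lc_g_rc_12_1 lc_g_rc_17_1 lc_g_rc_12_3 lc_g_rc_21_1 lc_g_rc_6_1 lc_g_rc_24_1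 lc_g_Cert_tree) (@D3.rec (fun _ => (Cert rels S Gen.g)) lc_g_rc_27_0 lc_g_Cert_tree lc_g_rc_27_0 lc_g_rc_29_1 lc_g_Cert_tree lc_g_Cert_tree lc_g_rc_27_0 lc_g_rc_27_0 lc_g_rc_6_3 lc_g_Cert_tree lc_g_rc_29_3 lc_g_rc_27_0 lc_g_rc_29_3 lc_g_Cert_tree lc_g_rc_17_1 lc_g_rc_29_3 lc_g_rc_29_3 lc_g_rc_29_3 lc_g_rc_29_1 lc_g_rc_29_3 lc_g_rc_29_1 lc_g_Cert_tree lc_g_rc_27_0 lc_g_rc_29_3 lc_g_Cert_tree lc_g_rc_27_0 lc_g_Cert_tree lc_g_Cert_tree lc_g_rc_27_0 lc_g_rc_17_1 lc_g_rc_6_1 lc_g_rc_17_1 lc_g_rc_31_2 lc_g_Cert_tree lc_g_rc_6_3 lc_g_rc_27_0 lc_g_Cert_tree lc_g_Cert_tree lc_g_Cert_tree lc_g_rc_27_0) (@D3.rec (fun _ => (Cert rels S Gen.g)) lc_g_rc_6_1 lc_g_rc_27_0 lc_g_rc_29_3 lc_g_rc_29_1 lc_g_Cert_tree lc_g_Cert_tree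 lc_g_Cert_tree lc_g_rc_27_0 lc_g_rc_6_1 lc_g_rc_21_3 lc_g_Cert_tree lc_g_rc_29_1 lc_g_rc_27_0 lc_g_rc_21_1 lc_g_Cert_tree lc_g_Cert_tree lc_g_rc_27_0 lc_g_Cert_tree lc_g_rc_27_0 lc_g_rc_17_3 lc_g_rc_27_0 lc_g_rc_6_3 lc_g_rc_12_3 lc_g_rc_29_1 lc_g_rc_17_1 lc_g_rc_12_1 lc_g_rc_29_1 lc_g_rc_17_1 lc_g_rc_26_3 lc_g_Cert_tree lc_g_rc_27_0 lc_g_rc_26_5 lc_g_rc_6_1 lc_g_rc_12_1 lc_g_rc_6_1 lc_g_rc_12_5 lc_g_Cert_tree lc_g_rc_27_0 lc_g_Cert_tree lc_g_rc_27_0) (@D3.rec (fun _ => (Cert rels S Gen.g)) lc_g_rc_29_1 lc_g_Cert_tree lc_g_Cert_tree lc_g_rc_27_0 lc_g_rc_12_3 lc_g_rc_12_1 lc_g_rc_12_5 lc_g_rc_6_1 lc_g_rc_27_0 lc_g_rc_6_3 lc_g_rc_12_1 lc_g_Cert_tree lc_g_rc_27_0 lc_g_Cert_tree lc_g_rc_27_0 lc_g_rc_17_1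 lc_g_rc_27_0 lc_g_rc_17_1 lc_g_Cert_tree lc_g_Cert_tree lc_g_rc_27_0 lc_g_rc_12_3 lc_g_rc_17_1 lc_g_rc_6_1 lc_g_rc_29_1 lc_g_rc_21_1 lc_g_rc_6_3 lc_g_rc_29_1 lc_g_Cert_tree lc_g_Cert_tree lc_g_rc_17_1 lc_g_rc_27_0 lc_g_Cert_tree lc_g_Cert_tree lc_g_rc_6_1 lc_g_rc_27_0 lc_g_rc_29_1 lc_g_rc_21_1 lc_g_Cert_tree lc_g_rc_27_0) (@D3.rec (fun _ => (Cert rels S Gen.g)) lc_g_rc_27_0 lc_g_rc_12_3 lc_g_rc_29_1 lc_g_rc_12_3 lc_g_rc_29_3 lc_g_rc_21_1 lc_g_rc_29_3 lc_g_Cert_tree lc_g_rc_6_1 lc_g_rc_29_1 lc_g_rc_12_3 lc_g_rc_26_7 lc_g_rc_12_3 lc_g_rc_6_3 lc_g_rc_27_0 lc_g_rc_17_1 lc_g_rc_6_1 lc_g_Cert_tree lc_g_rc_6_3 lc_g_rc_27_0 lc_g_Cert_tree lc_g_Cert_tree lc_g_Cert_tree lc_g_rc_27_0 lc_g_rc_27_0 lc_g_rc_12_3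 lc_g_rc_29_3 lc_g_rc_27_0 lc_g_rc_12_3 lc_g_rc_6_1 lc_g_rc_17_1 lc_g_rc_29_3 lc_g_rc_21_1 lc_g_rc_29_1 lc_g_rc_29_3 lc_g_rc_21_3 lc_g_Cert_tree lc_g_rc_27_0 lc_g_rc_31_2 lc_g_rc_29_3) (@D3.rec (fun _ => (Cert rels S Gen.g)) lc_g_rc_12_3 lc_g_rc_6_1 lc_g_rc_17_1 lc_g_rc_21_1 lc_g_rc_29_1 lc_g_rc_6_1 lc_g_rc_29_1 lc_g_rc_29_3 lc_g_rc_6_3 lc_g_rc_6_3 lc_g_rc_27_0 lc_g_rc_21_1 lc_g_rc_12_3 lc_g_rc_21_1 lc_g_rc_29_3 lc_g_rc_17_1 lc_g_rc_29_3 lc_g_rc_12_3 lc_g_rc_21_1 lc_g_rc_6_1 lc_g_rc_17_1 lc_g_Cert_tree lc_g_Cert_tree lc_g_rc_29_1 lc_g_rc_17_1 lc_g_rc_12_1 lc_g_rc_27_0 lc_g_rc_6_1 lc_g_rc_29_1 lc_g_rc_21_1 lc_g_rc_6_1 lc_g_rc_27_0 lc_g_rc_6_3 lc_g_rc_27_0 lc_g_rc_6_3 lc_g_rc_6_1 lc_g_rc_17_1 lc_g_rc_24_1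 lc_g_rc_29_3 lc_g_rc_12_3) (@D3.rec (fun _ => (Cert rels S Gen.g)) lc_g_rc_29_3 lc_g_rc_6_1 lc_g_rc_17_1 lc_g_rc_24_1 lc_g_rc_12_3 lc_g_rc_12_3 lc_g_rc_29_3 lc_g_rc_17_1 lc_g_rc_12_1 lc_g_rc_12_3 lc_g_rc_6_1 lc_g_rc_21_1 lc_g_rc_6_1 lc_g_rc_12_5 lc_g_rc_12_3 lc_g_rc_6_1 lc_g_rc_6_3 lc_g_rc_21_1 lc_g_rc_17_3 lc_g_rc_27_0 lc_g_rc_24_3 lc_g_rc_24_1 lc_g_rc_6_1 lc_g_rc_24_1 lc_g_rc_17_1 lc_g_rc_24_1 lc_g_rc_26_5 lc_g_rc_21_1 lc_g_rc_6_1 lc_g_rc_17_1 lc_g_rc_6_1 lc_g_rc_29_1 lc_g_rc_6_1 lc_g_Cert_tree lc_g_rc_21_1 lc_g_rc_17_1 lc_g_rc_6_3 lc_g_rc_6_3 lc_g_Cert_tree lc_g_rc_12_1)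
def ce_g_15 : D2 → D3 → (Cert rels S Gen.g) := @D2.rec (fun _ => D3 → (Cert rels S Gen.g)) (@D3.rec (fun _ => (Cert rels S Gen.g)) lc_g_rc_27_0 lc_g_rc_6_3 lc_g_rc_27_0 lc_g_rc_29_1 lc_g_rc_27_0 lc_g_rc_27_0 lc_g_rc_27_0 lc_g_rc_12_3 lc_g_rc_6_1 lc_g_rc_12_3 lc_g_rc_17_1 lc_g_rc_21_3 lc_g_rc_12_3 lc_g_rc_12_3 lc_g_rc_6_1 lc_g_rc_29_1 lc_g_rc_21_1 lc_g_Cert_tree lc_g_Cert_tree lc_g_rc_27_0 lc_g_rc_29_1 lc_g_rc_12_3 lc_g_rc_17_3 lc_g_rc_27_0 lc_g_Cert_tree lc_g_rc_27_0 lc_g_rc_17_3 lc_g_rc_12_3 lc_g_rc_12_1 lc_g_rc_27_0 lc_g_rc_29_1 lc_g_rc_6_1 lc_g_rc_27_0 lc_g_rc_17_3 lc_g_rc_27_0 lc_g_rc_12_3 lc_g_rc_17_1 lc_g_rc_31_8 lc_g_rc_21_1 lc_g_rc_27_1) (@D3.rec (fun _ => (Cert rels S Gen.g)) lc_g_Cert_tree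 lc_g_Cert_tree lc_g_rc_27_0 lc_g_rc_17_3 lc_g_rc_21_1 lc_g_rc_21_1 lc_g_rc_27_0 lc_g_rc_12_3 lc_g_Cert_tree lc_g_rc_27_0 lc_g_Cert_tree lc_g_Cert_tree lc_g_Cert_tree lc_g_rc_27_0 lc_g_rc_27_0 lc_g_rc_17_1 lc_g_rc_17_1 lc_g_Cert_tree lc_g_Cert_tree lc_g_Cert_tree lc_g_Cert_tree lc_g_rc_27_0 lc_g_rc_24_1 lc_g_rc_21_1 lc_g_rc_6_1 lc_g_Cert_tree lc_g_Cert_tree lc_g_Cert_tree lc_g_Cert_tree lc_g_rc_27_0 lc_g_rc_6_1 lc_g_rc_21_1 lc_g_rc_27_0 lc_g_rc_21_3 lc_g_rc_27_0 lc_g_rc_6_1 lc_g_rc_29_1 lc_g_rc_27_0 lc_g_rc_12_3 lc_g_Cert_tree) (@D3.rec (fun _ => (Cert rels S Gen.g)) lc_g_rc_24_3 lc_g_rc_27_0 lc_g_rc_12_3 lc_g_Cert_tree lc_g_rc_27_0 lc_g_rc_27_0 lc_g_rc_21_1 lc_g_rc_6_1 lc_g_rc_24_1 lc_g_rc_12_3 lc_g_Cert_tree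 lc_g_rc_24_1 lc_g_rc_27_0 lc_g_rc_21_1 lc_g_rc_27_0 lc_g_rc_17_1 lc_g_rc_6_3 lc_g_Cert_tree lc_g_rc_27_0 lc_g_rc_21_1 lc_g_Cert_tree lc_g_rc_27_0 lc_g_rc_6_1 lc_g_rc_27_0 lc_g_rc_12_3 lc_g_rc_21_1 lc_g_Cert_tree lc_g_rc_12_3 lc_g_Cert_tree lc_g_rc_31_2 lc_g_rc_27_0 lc_g_rc_27_0 lc_g_Cert_tree lc_g_rc_27_0 lc_g_Cert_tree lc_g_rc_6_3 lc_g_rc_27_0 lc_g_rc_12_3 lc_g_Cert_tree lc_g_Cert_tree) (@D3.rec (fun _ => (Cert rels S Gen.g)) lc_g_rc_6_3 lc_g_rc_27_0 lc_g_Cert_tree lc_g_rc_27_0 lc_g_Cert_tree lc_g_rc_27_0 lc_g_rc_6_1 lc_g_rc_27_0 lc_g_rc_12_5 lc_g_rc_12_1 lc_g_rc_29_1 lc_g_rc_27_0 lc_g_rc_21_1 lc_g_rc_6_3 lc_g_Cert_tree lc_g_Cert_tree lc_g_rc_27_0 lc_g_rc_12_1 lc_g_rc_31_5 lc_g_rc_6_1 lc_g_rc_6_1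 lc_g_rc_17_1 lc_g_Cert_tree lc_g_Cert_tree lc_g_rc_6_3 lc_g_rc_27_0 lc_g_Cert_tree lc_g_Cert_tree lc_g_Cert_tree lc_g_rc_27_0 lc_g_Cert_tree lc_g_Cert_tree lc_g_rc_27_0 lc_g_rc_21_1 lc_g_rc_27_0 lc_g_rc_29_3 lc_g_rc_24_1 lc_g_rc_6_3 lc_g_rc_17_1 lc_g_rc_17_1) (@D3.rec (fun _ => (Cert rels S Gen.g)) lc_g_rc_21_3 lc_g_rc_6_3 lc_g_rc_27_0 lc_g_rc_27_0 lc_g_rc_12_3 lc_g_rc_12_3 lc_g_rc_6_1 lc_g_rc_17_1 lc_g_Cert_tree lc_g_rc_6_1 lc_g_rc_29_1 lc_g_Cert_tree lc_g_rc_27_0 lc_g_rc_12_3 lc_g_rc_31_2 lc_g_rc_6_1 lc_g_rc_21_1 lc_g_rc_27_0 lc_g_rc_29_1 lc_g_Cert_tree lc_g_Cert_tree lc_g_Cert_tree lc_g_rc_27_0 lc_g_rc_26_7 lc_g_Cert_tree lc_g_rc_6_3 lc_g_rc_6_3 lc_g_rc_27_0 lc_g_rc_17_1 lc_g_rc_27_0 lc_g_rc_27_0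 lc_g_rc_12_1 lc_g_rc_26_3 lc_g_rc_12_3 lc_g_rc_27_0 lc_g_rc_26_3 lc_g_Cert_tree lc_g_Cert_tree lc_g_rc_27_0 lc_g_rc_12_3) (@D3.rec (fun _ => (Cert rels S Gen.g)) lc_g_rc_6_1 lc_g_rc_6_3 lc_g_Cert_tree lc_g_rc_27_0 lc_g_rc_21_3 lc_g_rc_29_1 lc_g_rc_17_1 lc_g_rc_6_1 lc_g_rc_12_3 lc_g_rc_24_1 lc_g_rc_21_1 lc_g_rc_17_1 lc_g_rc_21_3 lc_g_rc_27_0 lc_g_rc_24_1 lc_g_rc_17_3 lc_g_rc_27_0 lc_g_Cert_tree lc_g_rc_27_0 lc_g_rc_27_0 lc_g_rc_6_1 lc_g_rc_6_1 lc_g_Cert_tree lc_g_rc_27_0 lc_g_Cert_tree lc_g_rc_26_1 lc_g_rc_27_0 lc_g_rc_21_1 lc_g_rc_24_1 lc_g_rc_6_3 lc_g_rc_29_1 lc_g_Cert_tree lc_g_Cert_tree lc_g_Cert_tree lc_g_rc_27_0 lc_g_rc_27_0 lc_g_rc_29_3 lc_g_rc_17_1 lc_g_rc_17_1 lc_g_rc_29_1) (@D3.rec (fun _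 => (Cert rels S Gen.g)) lc_g_rc_27_0 lc_g_rc_29_3 lc_g_rc_27_0 lc_g_rc_29_3 lc_g_rc_6_1 lc_g_rc_6_1 lc_g_Cert_tree lc_g_rc_12_3 lc_g_rc_6_1 lc_g_rc_12_3 lc_g_rc_6_3 lc_g_Cert_tree lc_g_rc_6_3 lc_g_rc_27_0 lc_g_rc_29_3 lc_g_rc_17_1 lc_g_rc_6_1 lc_g_rc_26_1 lc_g_rc_21_1 lc_g_Cert_tree lc_g_rc_27_0 lc_g_rc_17_1 lc_g_rc_29_1 lc_g_rc_6_1 lc_g_rc_29_3 lc_g_rc_21_1 lc_g_rc_26_1 lc_g_rc_17_1 lc_g_rc_17_3 lc_g_rc_26_3 lc_g_rc_27_0 lc_g_rc_6_1 lc_g_rc_6_3 lc_g_rc_6_3 lc_g_Cert_tree lc_g_rc_17_1 lc_g_rc_27_0 lc_g_Cert_tree lc_g_rc_24_3 lc_g_rc_21_1) (@D3.rec (fun _ => (Cert rels S Gen.g)) lc_g_rc_27_0 lc_g_rc_24_1 lc_g_rc_26_3 lc_g_rc_27_1 lc_g_rc_12_5 lc_g_rc_27_0 lc_g_rc_29_3 lc_g_rc_12_1 lc_g_rc_21_3 lc_g_rc_17_3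 lc_g_Cert_tree lc_g_rc_27_0 lc_g_rc_6_3 lc_g_Cert_tree lc_g_rc_27_0 lc_g_rc_12_3 lc_g_rc_12_3 lc_g_rc_6_1 lc_g_rc_17_1 lc_g_Cert_tree lc_g_rc_24_1 lc_g_rc_24_1 lc_g_rc_29_1 lc_g_rc_21_1 lc_g_Cert_tree lc_g_rc_27_0 lc_g_rc_29_3 lc_g_rc_29_3 lc_g_rc_17_1 lc_g_rc_12_3 lc_g_rc_12_3 lc_g_rc_29_1 lc_g_Cert_tree lc_g_rc_12_3 lc_g_rc_17_3 lc_g_rc_6_1 lc_g_rc_17_1 lc_g_rc_27_0 lc_g_rc_27_0 lc_g_rc_12_3) (@D3.rec (fun _ => (Cert rels S Gen.g)) lc_g_rc_24_1 lc_g_rc_29_1 lc_g_rc_27_0 lc_g_rc_29_1 lc_g_rc_12_3 lc_g_rc_12_3 lc_g_rc_6_3 lc_g_rc_27_1 lc_g_rc_21_1 lc_g_rc_21_1 lc_g_rc_27_0 lc_g_rc_24_3 lc_g_rc_12_3 lc_g_rc_29_3 lc_g_rc_24_3 lc_g_rc_12_3 lc_g_rc_29_1 lc_g_rc_21_1 lc_g_rc_12_1 lc_g_rc_6_3 lc_g_Cert_tree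 lc_g_rc_6_3 lc_g_rc_27_0 lc_g_rc_21_3 lc_g_rc_29_3 lc_g_Cert_tree lc_g_Cert_tree lc_g_rc_27_0 lc_g_Cert_tree lc_g_rc_27_0 lc_g_rc_27_0 lc_g_rc_12_3 lc_g_rc_6_1 lc_g_rc_6_1 lc_g_rc_29_1 lc_g_rc_29_3 lc_g_rc_12_3 lc_g_Cert_tree lc_g_rc_27_0 lc_g_rc_31_11) (@D3.rec (fun _ => (Cert rels S Gen.g)) lc_g_rc_17_1 lc_g_Cert_tree lc_g_rc_29_3 lc_g_rc_27_0 lc_g_rc_17_1 lc_g_rc_24_1 lc_g_Cert_tree lc_g_Cert_tree lc_g_rc_6_3 lc_g_rc_6_3 lc_g_rc_27_0 lc_g_Cert_tree lc_g_Cert_tree lc_g_Cert_tree lc_g_rc_27_0 lc_g_rc_21_3 lc_g_Cert_tree lc_g_rc_27_0 lc_g_rc_27_0 lc_g_rc_12_3 lc_g_rc_29_3 lc_g_Cert_tree lc_g_rc_27_0 lc_g_rc_29_1 lc_g_Cert_tree lc_g_rc_27_0 lc_g_rc_12_3 lc_g_rc_6_1 lc_g_rc_29_3 lc_g_rc_12_1 lc_g_Cert_tree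 lc_g_Cert_tree lc_g_Cert_tree lc_g_rc_27_0 lc_g_Cert_tree lc_g_rc_27_0 lc_g_rc_27_0 lc_g_rc_6_1 lc_g_rc_6_1 lc_g_rc_29_3) (@D3.rec (fun _ => (Cert rels S Gen.g)) lc_g_rc_12_3 lc_g_rc_6_1 lc_g_rc_17_1 lc_g_rc_12_1 lc_g_rc_6_1 lc_g_rc_17_1 lc_g_Cert_tree lc_g_rc_24_3 lc_g_rc_26_7 lc_g_rc_27_0 lc_g_rc_29_3 lc_g_Cert_tree lc_g_rc_21_1 lc_g_rc_6_3 lc_g_rc_27_0 lc_g_rc_29_1 lc_g_Cert_tree lc_g_Cert_tree lc_g_Cert_tree lc_g_rc_27_0 lc_g_rc_6_3 lc_g_rc_27_0 lc_g_rc_27_0 lc_g_rc_6_1 lc_g_Cert_tree lc_g_Cert_tree lc_g_Cert_tree lc_g_rc_27_0 lc_g_Cert_tree lc_g_Cert_tree lc_g_Cert_tree lc_g_rc_27_0 lc_g_rc_12_1 lc_g_rc_27_0 lc_g_rc_17_1 lc_g_Cert_tree lc_g_Cert_tree lc_g_Cert_tree lc_g_rc_29_3 lc_g_rc_27_0) (@D3.rec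 (fun _ => (Cert rels S Gen.g)) lc_g_rc_6_3 lc_g_rc_27_0 lc_g_rc_12_3 lc_g_rc_12_3 lc_g_rc_17_1 lc_g_Cert_tree lc_g_Cert_tree lc_g_Cert_tree lc_g_rc_27_0 lc_g_Cert_tree lc_g_Cert_tree lc_g_rc_27_0 lc_g_rc_17_3 lc_g_rc_27_0 lc_g_rc_12_3 lc_g_rc_29_3 lc_g_rc_27_0 lc_g_rc_6_1 lc_g_rc_12_3 lc_g_Cert_tree lc_g_rc_17_1 lc_g_rc_21_3 lc_g_rc_29_1 lc_g_Cert_tree lc_g_rc_27_0 lc_g_Cert_tree lc_g_Cert_tree lc_g_rc_27_0 lc_g_rc_6_3 lc_g_rc_27_0 lc_g_Cert_tree lc_g_rc_12_3 lc_g_rc_27_0 lc_g_rc_6_1 lc_g_rc_12_3 lc_g_Cert_tree lc_g_Cert_tree lc_g_rc_29_1 lc_g_Cert_tree lc_g_rc_27_0) (@D3.rec (fun _ => (Cert rels S Gen.g)) lc_g_rc_17_1 lc_g_rc_27_0 lc_g_rc_12_1 lc_g_rc_26_1 lc_g_rc_24_1 lc_g_rc_27_0 lc_g_rc_27_0 lc_g_Cert_tree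 lc_g_rc_21_1 lc_g_rc_6_3 lc_g_rc_27_0 lc_g_Cert_tree lc_g_rc_17_3 lc_g_Cert_tree lc_g_Cert_tree lc_g_rc_27_0 lc_g_rc_21_1 lc_g_rc_27_0 lc_g_rc_27_0 lc_g_rc_6_1 lc_g_Cert_tree lc_g_Cert_tree lc_g_Cert_tree lc_g_rc_27_0 lc_g_Cert_tree lc_g_rc_21_1 lc_g_Cert_tree lc_g_rc_27_0 lc_g_rc_27_0 lc_g_rc_12_3 lc_g_rc_6_1 lc_g_Cert_tree lc_g_Cert_tree lc_g_Cert_tree lc_g_rc_29_1 lc_g_rc_27_0 lc_g_rc_6_3 lc_g_rc_27_0 lc_g_rc_21_1 lc_g_rc_12_3) (@D3.rec (fun _ => (Cert rels S Gen.g)) lc_g_rc_17_1 lc_g_Cert_tree lc_g_Cert_tree lc_g_Cert_tree lc_g_rc_27_0 lc_g_rc_12_1 lc_g_Cert_tree lc_g_rc_27_0 lc_g_Cert_tree lc_g_rc_27_0 lc_g_rc_12_3 lc_g_rc_29_3 lc_g_rc_27_0 lc_g_rc_6_1 lc_g_rc_24_3 lc_g_Cert_tree lc_g_rc_29_3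 lc_g_rc_24_1 lc_g_rc_29_3 lc_g_rc_17_3 lc_g_rc_27_0 lc_g_Cert_tree lc_g_Cert_tree lc_g_rc_27_0 lc_g_rc_6_3 lc_g_rc_27_0 lc_g_Cert_tree lc_g_rc_29_3 lc_g_rc_27_0 lc_g_rc_6_1 lc_g_rc_12_3 lc_g_Cert_tree lc_g_rc_17_3 lc_g_rc_21_1 lc_g_Cert_tree lc_g_Cert_tree lc_g_rc_27_0 lc_g_Cert_tree lc_g_Cert_tree lc_g_rc_6_3) (@D3.rec (fun _ => (Cert rels S Gen.g)) lc_g_rc_27_0 lc_g_Cert_tree lc_g_Cert_tree lc_g_Cert_tree lc_g_rc_27_0 lc_g_rc_27_0 lc_g_rc_29_3 lc_g_Cert_tree lc_g_rc_21_1 lc_g_Cert_tree lc_g_rc_17_1 lc_g_rc_27_0 lc_g_rc_29_3 lc_g_Cert_tree lc_g_rc_6_3 lc_g_rc_27_0 lc_g_Cert_tree lc_g_Cert_tree lc_g_Cert_tree lc_g_rc_27_0 lc_g_rc_27_0 lc_g_rc_29_3 lc_g_rc_29_3 lc_g_rc_29_3 lc_g_Cert_tree lc_g_rc_27_0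 lc_g_rc_27_0 lc_g_rc_24_1 lc_g_rc_6_1 lc_g_rc_17_1 lc_g_rc_6_3 lc_g_rc_6_3 lc_g_rc_21_3 lc_g_rc_27_0 lc_g_rc_26_5 lc_g_rc_31_5 lc_g_rc_24_1 lc_g_rc_21_1 lc_g_rc_26_1 lc_g_rc_6_3) (@D3.rec (fun _ => (Cert rels S Gen.g)) lc_g_rc_27_0 lc_g_rc_29_3 lc_g_Cert_tree lc_g_rc_27_0 lc_g_rc_12_3 lc_g_rc_17_1 lc_g_rc_26_5 lc_g_rc_21_1 lc_g_rc_17_1 lc_g_rc_17_1 lc_g_rc_24_1 lc_g_rc_26_3 lc_g_rc_24_1 lc_g_rc_21_1 lc_g_rc_21_3 lc_g_rc_21_1 lc_g_rc_31_5 lc_g_rc_21_1 lc_g_rc_24_1 lc_g_rc_12_5 lc_g_rc_6_1 lc_g_Cert_tree lc_g_Cert_tree lc_g_rc_12_3 lc_g_rc_27_0 lc_g_rc_27_0 lc_g_rc_27_0 lc_g_rc_12_3 lc_g_Cert_tree lc_g_rc_27_0 lc_g_rc_12_3 lc_g_rc_6_1 lc_g_rc_17_1 lc_g_rc_12_1 lc_g_rc_29_1 lc_g_rc_27_0 lc_g_rc_27_0 lc_g_rc_29_1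 lc_g_rc_24_3 lc_g_rc_27_0) (@D3.rec (fun _ => (Cert rels S Gen.g)) lc_g_rc_27_0 lc_g_rc_12_3 lc_g_Cert_tree lc_g_rc_27_0 lc_g_rc_12_3 lc_g_rc_6_1 lc_g_rc_29_1 lc_g_rc_21_1 lc_g_rc_29_1 lc_g_rc_27_0 lc_g_rc_12_3 lc_g_rc_12_3 lc_g_rc_6_1 lc_g_rc_12_1 lc_g_rc_21_1 lc_g_rc_6_1 lc_g_rc_26_1 lc_g_rc_21_3 lc_g_rc_17_1 lc_g_rc_6_1 lc_g_rc_21_1 lc_g_rc_12_3 lc_g_rc_17_1 lc_g_rc_31_2 lc_g_rc_24_1 lc_g_rc_6_1 lc_g_rc_21_1 lc_g_rc_6_1 lc_g_rc_21_1 lc_g_Cert_tree lc_g_rc_27_0 lc_g_rc_29_3 lc_g_rc_31_5 lc_g_rc_6_1 lc_g_rc_6_3 lc_g_rc_27_0 lc_g_rc_17_3 lc_g_rc_27_0 lc_g_rc_31_2 lc_g_rc_31_11) (@D3.rec (fun _ => (Cert rels S Gen.g)) lc_g_rc_6_1 lc_g_rc_17_1 lc_g_rc_29_3 lc_g_rc_21_1 lc_g_rc_12_1 lc_g_rc_29_3 lc_g_rc_6_1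 lc_g_rc_21_1 lc_g_rc_6_1 lc_g_rc_17_1 lc_g_rc_12_3 lc_g_rc_29_3 lc_g_rc_12_3 lc_g_rc_24_1 lc_g_rc_24_1 lc_g_rc_27_0 lc_g_rc_17_1 lc_g_rc_17_1 lc_g_rc_21_1 lc_g_rc_21_1 lc_g_rc_12_1 lc_g_rc_12_1 lc_g_rc_21_3 lc_g_rc_29_1 lc_g_rc_12_3 lc_g_rc_12_1 lc_g_rc_21_1 lc_g_rc_21_1 lc_g_rc_17_1 lc_g_rc_21_1 lc_g_rc_12_1 lc_g_rc_17_1 lc_g_rc_24_1 lc_g_Cert_tree lc_g_rc_6_3 lc_g_rc_27_0 lc_g_rc_6_1 lc_g_rc_17_1 lc_g_rc_27_0 lc_g_rc_29_1) (@D3.rec (fun _ => (Cert rels S Gen.g)) lc_g_rc_27_0 lc_g_rc_29_1 lc_g_rc_6_1 lc_g_rc_21_1 lc_g_rc_29_1 lc_g_rc_12_3 lc_g_rc_29_1 lc_g_rc_17_1 lc_g_rc_27_0 lc_g_rc_12_3 lc_g_rc_17_1 lc_g_rc_12_1 lc_g_Cert_tree lc_g_rc_27_0 lc_g_rc_6_1 lc_g_rc_27_0 lc_g_rc_27_0 lc_g_rc_21_1 lc_g_Cert_tree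 lc_g_rc_27_0 lc_g_Cert_tree lc_g_rc_6_3 lc_g_rc_27_0 lc_g_rc_12_1 lc_g_rc_12_3 lc_g_rc_24_1 lc_g_rc_17_1 lc_g_rc_6_1 lc_g_Cert_tree lc_g_rc_27_0 lc_g_Cert_tree lc_g_rc_27_0 lc_g_rc_27_0 lc_g_rc_6_1 lc_g_rc_6_1 lc_g_rc_29_3 lc_g_rc_29_3 lc_g_rc_6_1 lc_g_rc_6_1 lc_g_rc_27_0) (@D3.rec (fun _ => (Cert rels S Gen.g)) lc_g_rc_27_0 lc_g_rc_24_1 lc_g_rc_27_0 lc_g_rc_27_0 lc_g_rc_12_1 lc_g_rc_12_1 lc_g_rc_6_1 lc_g_rc_6_3 lc_g_rc_27_0 lc_g_rc_27_0 lc_g_rc_21_3 lc_g_rc_26_3 lc_g_rc_27_0 lc_g_rc_29_1 lc_g_Cert_tree lc_g_rc_6_3 lc_g_rc_27_0 lc_g_Cert_tree lc_g_Cert_tree lc_g_rc_27_0 lc_g_rc_27_0 lc_g_rc_29_3 lc_g_rc_17_1 lc_g_rc_6_3 lc_g_rc_29_1 lc_g_rc_12_1 lc_g_rc_31_8 lc_g_rc_17_1 lc_g_rc_27_0 lc_g_rc_12_1 lc_g_Cert_tree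 lc_g_rc_6_3 lc_g_rc_27_0 lc_g_Cert_tree lc_g_rc_6_3 lc_g_rc_27_0 lc_g_Cert_tree lc_g_rc_27_0 lc_g_Cert_tree lc_g_Cert_tree) (@D3.rec (fun _ => (Cert rels S Gen.g)) lc_g_rc_27_0 lc_g_rc_27_0 lc_g_rc_6_1 lc_g_Cert_tree lc_g_rc_27_0 lc_g_rc_27_0 lc_g_rc_6_1 lc_g_rc_6_1 lc_g_rc_6_1 lc_g_rc_21_1 lc_g_rc_21_1 lc_g_rc_27_0 lc_g_rc_12_3 lc_g_rc_24_1 lc_g_rc_17_1 lc_g_rc_12_1 lc_g_rc_6_1 lc_g_rc_29_1 lc_g_rc_17_1 lc_g_Cert_tree lc_g_rc_27_0 lc_g_rc_6_1 lc_g_Cert_tree lc_g_Cert_tree lc_g_rc_27_0 lc_g_rc_12_5 lc_g_Cert_tree lc_g_rc_27_0 lc_g_rc_17_1 lc_g_rc_27_0 lc_g_rc_6_1 lc_g_rc_17_1 lc_g_rc_21_1 lc_g_rc_6_1 lc_g_rc_12_3 lc_g_rc_6_3 lc_g_rc_6_1 lc_g_rc_27_0 lc_g_rc_12_3 lc_g_rc_6_1) (@D3.rec (fun _ => (Cert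 rels S Gen.g)) lc_g_rc_6_3 lc_g_rc_27_0 lc_g_rc_6_3 lc_g_rc_27_0 lc_g_rc_29_1 lc_g_rc_6_1 lc_g_rc_29_3 lc_g_rc_27_0 lc_g_rc_27_0 lc_g_rc_17_1 lc_g_rc_12_1 lc_g_rc_12_1 lc_g_rc_24_1 lc_g_rc_12_3 lc_g_Cert_tree lc_g_rc_27_0 lc_g_rc_29_3 lc_g_rc_17_3 lc_g_rc_27_0 lc_g_rc_27_0 lc_g_rc_31_8 lc_g_rc_6_3 lc_g_rc_6_1 lc_g_rc_21_1 lc_g_rc_27_0 lc_g_rc_29_1 lc_g_rc_12_5 lc_g_rc_27_0 lc_g_rc_29_3 lc_g_rc_27_0 lc_g_rc_31_11 lc_g_rc_21_1 lc_g_rc_17_1 lc_g_rc_12_1 lc_g_rc_29_3 lc_g_rc_12_3 lc_g_rc_12_1 lc_g_rc_27_0 lc_g_rc_21_1 lc_g_rc_6_3) (@D3.rec (fun _ => (Cert rels S Gen.g)) lc_g_rc_6_3 lc_g_Cert_tree lc_g_Cert_tree lc_g_rc_27_0 lc_g_rc_27_0 lc_g_rc_12_3 lc_g_Cert_tree lc_g_rc_27_0 lc_g_rc_12_3 lc_g_rc_12_3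 lc_g_rc_6_1 lc_g_Cert_tree lc_g_rc_29_1 lc_g_rc_27_0 lc_g_rc_27_0 lc_g_rc_27_0 lc_g_rc_12_3 lc_g_rc_12_3 lc_g_rc_24_1 lc_g_rc_21_1 lc_g_rc_6_3 lc_g_rc_6_1 lc_g_rc_6_1 lc_g_rc_27_0 lc_g_rc_6_1 lc_g_rc_17_3 lc_g_rc_17_1 lc_g_rc_17_3 lc_g_rc_27_0 lc_g_Cert_tree lc_g_rc_6_3 lc_g_rc_27_0 lc_g_Cert_tree lc_g_rc_27_0 lc_g_rc_27_0 lc_g_rc_6_1 lc_g_rc_21_3 lc_g_rc_21_1 lc_g_rc_21_1 lc_g_rc_31_11) (@D3.rec (fun _ => (Cert rels S Gen.g)) lc_g_rc_12_3 lc_g_rc_29_1 lc_g_rc_12_1 lc_g_rc_6_3 lc_g_rc_27_0 lc_g_rc_29_1 lc_g_rc_27_0 lc_g_rc_6_1 lc_g_rc_6_3 lc_g_rc_31_5 lc_g_Cert_tree lc_g_rc_27_0 lc_g_Cert_tree lc_g_rc_27_0 lc_g_rc_6_3 lc_g_rc_27_0 lc_g_rc_31_2 lc_g_rc_27_0 lc_g_rc_27_0 lc_g_rc_27_0 lc_g_rc_17_1 lc_g_rc_29_3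 lc_g_rc_17_1 lc_g_rc_27_0 lc_g_Cert_tree lc_g_rc_27_0 lc_g_Cert_tree lc_g_rc_27_0 lc_g_Cert_tree lc_g_rc_27_0 lc_g_rc_12_3 lc_g_Cert_tree lc_g_rc_27_0 lc_g_rc_12_3 lc_g_rc_17_1 lc_g_rc_12_3 lc_g_rc_12_3 lc_g_rc_17_1 lc_g_rc_27_0 lc_g_rc_6_1) (@D3.rec (fun _ => (Cert rels S Gen.g)) lc_g_rc_21_1 lc_g_rc_12_1 lc_g_rc_27_0 lc_g_rc_6_1 lc_g_rc_27_0 lc_g_rc_26_3 lc_g_rc_21_1 lc_g_rc_26_3 lc_g_rc_17_1 lc_g_rc_6_1 lc_g_rc_27_0 lc_g_rc_21_1 lc_g_rc_12_1 lc_g_rc_12_3 lc_g_rc_21_1 lc_g_rc_29_1 lc_g_rc_21_1 lc_g_rc_17_1 lc_g_rc_17_1 lc_g_rc_12_1 lc_g_rc_6_1 lc_g_rc_21_1 lc_g_rc_17_1 lc_g_rc_31_5 lc_g_rc_6_3 lc_g_rc_29_1 lc_g_rc_17_1 lc_g_Cert_tree lc_g_rc_26_1 lc_g_rc_27_0 lc_g_rc_12_3 lc_g_rc_17_1 lc_g_rc_6_1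 lc_g_rc_6_1 lc_g_rc_17_1 lc_g_rc_12_5 lc_g_rc_27_0 lc_g_rc_12_1 lc_g_rc_17_1 lc_g_rc_17_1) (@D3.rec (fun _ => (Cert rels S Gen.g)) lc_g_rc_31_8 lc_g_rc_12_3 lc_g_rc_27_0 lc_g_rc_27_0 lc_g_rc_6_1 lc_g_Cert_tree lc_g_rc_29_1 lc_g_rc_27_0 lc_g_rc_12_3 lc_g_rc_12_3 lc_g_rc_31_5 lc_g_Cert_tree lc_g_rc_27_0 lc_g_rc_12_3 lc_g_Cert_tree lc_g_rc_24_1 lc_g_rc_27_0 lc_g_rc_12_3 lc_g_rc_21_1 lc_g_rc_6_1 lc_g_rc_12_3 lc_g_rc_27_0 lc_g_rc_17_1 lc_g_rc_27_1 lc_g_rc_12_1 lc_g_rc_17_1 lc_g_rc_17_1 lc_g_rc_6_3 lc_g_rc_29_1 lc_g_rc_31_5 lc_g_rc_24_3 lc_g_Cert_tree lc_g_rc_21_1 lc_g_rc_27_0 lc_g_rc_17_1 lc_g_rc_29_3 lc_g_rc_31_8 lc_g_rc_6_1 lc_g_rc_12_1 lc_g_rc_12_3)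
def ce_g_16 : D2 → D3 → (Cert rels S Gen.g) := @D2.rec (fun _ => D3 → (Cert rels S Gen.g)) (@D3.rec (fun _ => (Cert rels S Gen.g)) lc_g_rc_29_1 lc_g_rc_6_3 lc_g_rc_12_3 lc_g_rc_17_1 lc_g_rc_29_1 lc_g_rc_31_8 lc_g_rc_17_1 lc_g_rc_12_1 lc_g_rc_6_1 lc_g_rc_29_1 lc_g_rc_6_1 lc_g_rc_12_1 lc_g_rc_12_3 lc_g_rc_29_1 lc_g_rc_6_1 lc_g_rc_17_1 lc_g_rc_17_1 lc_g_rc_21_1 lc_g_rc_12_3 lc_g_rc_24_1 lc_g_rc_21_3 lc_g_rc_31_8 lc_g_rc_27_0 lc_g_rc_17_3 lc_g_rc_21_3 lc_g_Cert_tree lc_g_rc_27_0 lc_g_rc_6_1 lc_g_rc_17_1 lc_g_Cert_tree lc_g_Cert_tree lc_g_rc_27_0 lc_g_rc_27_0 lc_g_rc_12_1 lc_g_rc_6_1 lc_g_rc_21_1 lc_g_rc_12_1 lc_g_rc_27_0 lc_g_rc_27_0 lc_g_rc_17_3) (@D3.rec (fun _ => (Cert rels S Gen.g)) lc_g_rc_21_1 lc_g_rc_6_1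 lc_g_Cert_tree lc_g_Cert_tree lc_g_rc_27_0 lc_g_Cert_tree lc_g_rc_27_0 lc_g_rc_21_1 lc_g_rc_21_1 lc_g_rc_17_1 lc_g_rc_17_3 lc_g_rc_12_3 lc_g_Cert_tree lc_g_rc_27_0 lc_g_rc_27_0 lc_g_rc_12_3 lc_g_rc_29_3 lc_g_rc_17_1 lc_g_rc_29_3 lc_g_rc_29_3 lc_g_rc_6_1 lc_g_rc_29_1 lc_g_rc_21_1 lc_g_Cert_tree lc_g_rc_27_0 lc_g_rc_29_1 lc_g_Cert_tree lc_g_rc_27_0 lc_g_rc_12_1 lc_g_Cert_tree lc_g_rc_27_0 lc_g_rc_21_3 lc_g_rc_27_0 lc_g_rc_6_1 lc_g_rc_12_3 lc_g_rc_6_1 lc_g_rc_17_1 lc_g_rc_12_1 lc_g_rc_21_1 lc_g_rc_21_1) (@D3.rec (fun _ => (Cert rels S Gen.g)) lc_g_rc_6_1 lc_g_rc_6_1 lc_g_rc_17_1 lc_g_Cert_tree lc_g_rc_21_1 lc_g_rc_27_0 lc_g_rc_17_1 lc_g_rc_29_1 lc_g_Cert_tree lc_g_rc_27_0 lc_g_rc_17_1 lc_g_rc_6_1 lc_g_rc_12_3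 lc_g_Cert_tree lc_g_rc_27_1 lc_g_rc_21_1 lc_g_rc_6_1 lc_g_rc_17_1 lc_g_rc_21_1 lc_g_rc_27_0 lc_g_rc_29_1 lc_g_rc_29_3 lc_g_rc_29_1 lc_g_rc_27_0 lc_g_rc_17_1 lc_g_rc_17_1 lc_g_rc_12_3 lc_g_rc_24_1 lc_g_rc_17_1 lc_g_rc_21_1 lc_g_rc_6_1 lc_g_rc_17_1 lc_g_rc_12_3 lc_g_rc_29_3 lc_g_rc_17_1 lc_g_rc_29_3 lc_g_rc_29_3 lc_g_rc_29_3 lc_g_rc_29_1 lc_g_rc_27_0) (@D3.rec (fun _ => (Cert rels S Gen.g)) lc_g_Cert_tree lc_g_rc_29_1 lc_g_rc_12_1 lc_g_rc_27_0 lc_g_rc_29_1 lc_g_rc_27_0 lc_g_rc_27_0 lc_g_rc_6_1 lc_g_rc_12_3 lc_g_rc_17_1 lc_g_rc_12_1 lc_g_rc_6_1 lc_g_rc_27_0 lc_g_rc_6_1 lc_g_rc_17_1 lc_g_rc_27_0 lc_g_rc_12_3 lc_g_rc_24_1 lc_g_rc_27_0 lc_g_rc_26_5 lc_g_rc_27_0 lc_g_rc_21_1 lc_g_rc_27_1 lc_g_rc_12_3 lc_g_rc_29_3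 lc_g_rc_17_1 lc_g_rc_29_3 lc_g_rc_12_3 lc_g_rc_29_3 lc_g_rc_17_1 lc_g_rc_24_1 lc_g_rc_29_3 lc_g_rc_6_3 lc_g_rc_6_3 lc_g_Cert_tree lc_g_rc_6_1 lc_g_rc_27_0 lc_g_rc_29_1 lc_g_rc_17_1 lc_g_Cert_tree) (@D3.rec (fun _ => (Cert rels S Gen.g)) lc_g_rc_31_11 lc_g_rc_27_0 lc_g_rc_12_3 lc_g_rc_6_1 lc_g_Cert_tree lc_g_rc_27_0 lc_g_rc_17_1 lc_g_rc_21_1 lc_g_rc_21_1 lc_g_rc_12_3 lc_g_rc_29_1 lc_g_rc_12_3 lc_g_rc_27_0 lc_g_rc_17_3 lc_g_rc_29_1 lc_g_Cert_tree lc_g_rc_6_3 lc_g_rc_27_0 lc_g_rc_12_3 lc_g_rc_17_1 lc_g_Cert_tree lc_g_rc_17_1 lc_g_rc_27_0 lc_g_rc_27_0 lc_g_Cert_tree lc_g_rc_27_0 lc_g_rc_27_0 lc_g_rc_6_1 lc_g_rc_27_0 lc_g_rc_12_3 lc_g_rc_17_1 lc_g_rc_6_1 lc_g_rc_29_1 lc_g_rc_6_1 lc_g_Cert_tree lc_g_rc_27_0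 lc_g_Cert_tree lc_g_rc_17_1 lc_g_Cert_tree lc_g_rc_27_0) (@D3.rec (fun _ => (Cert rels S Gen.g)) lc_g_rc_31_5 lc_g_rc_27_0 lc_g_rc_6_1 lc_g_rc_12_3 lc_g_rc_6_1 lc_g_rc_12_3 lc_g_rc_6_1 lc_g_Cert_tree lc_g_rc_27_0 lc_g_rc_27_0 lc_g_rc_12_1 lc_g_rc_17_3 lc_g_rc_12_3 lc_g_rc_24_1 lc_g_rc_6_1 lc_g_rc_27_0 lc_g_rc_17_1 lc_g_rc_17_3 lc_g_rc_27_0 lc_g_rc_12_3 lc_g_rc_6_1 lc_g_rc_17_1 lc_g_rc_12_1 lc_g_rc_17_1 lc_g_rc_26_5 lc_g_rc_6_1 lc_g_rc_17_1 lc_g_rc_17_1 lc_g_Cert_tree lc_g_rc_27_0 lc_g_rc_27_0 lc_g_rc_12_1 lc_g_rc_29_1 lc_g_Cert_tree lc_g_rc_27_0 lc_g_rc_12_3 lc_g_rc_6_1 lc_g_rc_17_1 lc_g_rc_21_1 lc_g_rc_29_3) (@D3.rec (fun _ => (Cert rels S Gen.g)) lc_g_rc_21_1 lc_g_rc_29_3 lc_g_rc_21_1 lc_g_rc_12_1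 lc_g_Cert_tree lc_g_rc_27_0 lc_g_rc_26_3 lc_g_rc_21_1 lc_g_rc_27_0 lc_g_Cert_tree lc_g_rc_27_0 lc_g_rc_6_1 lc_g_rc_17_3 lc_g_Cert_tree lc_g_rc_27_0 lc_g_rc_12_3 lc_g_rc_6_1 lc_g_rc_27_0 lc_g_rc_21_1 lc_g_rc_27_0 lc_g_rc_21_1 lc_g_rc_29_1 lc_g_rc_21_1 lc_g_rc_29_1 lc_g_rc_21_3 lc_g_rc_21_3 lc_g_Cert_tree lc_g_rc_27_0 lc_g_Cert_tree lc_g_rc_27_0 lc_g_rc_6_3 lc_g_rc_24_1 lc_g_rc_6_3 lc_g_rc_27_0 lc_g_rc_21_1 lc_g_rc_21_1 lc_g_rc_29_3 lc_g_Cert_tree lc_g_rc_27_0 lc_g_Cert_tree) (@D3.rec (fun _ => (Cert rels S Gen.g)) lc_g_rc_29_1 lc_g_rc_12_5 lc_g_rc_27_0 lc_g_rc_6_1 lc_g_rc_24_1 lc_g_rc_24_1 lc_g_rc_27_0 lc_g_rc_27_1 lc_g_rc_27_0 lc_g_rc_17_1 lc_g_rc_6_1 lc_g_rc_29_3 lc_g_rc_27_0 lc_g_rc_12_3 lc_g_rc_12_5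 lc_g_rc_31_8 lc_g_rc_6_3 lc_g_rc_6_1 lc_g_rc_17_1 lc_g_Cert_tree lc_g_rc_6_1 lc_g_rc_29_1 lc_g_rc_6_1 lc_g_rc_27_0 lc_g_rc_24_1 lc_g_rc_6_3 lc_g_rc_24_3 lc_g_Cert_tree lc_g_rc_27_0 lc_g_rc_6_1 lc_g_rc_17_3 lc_g_Cert_tree lc_g_Cert_tree lc_g_Cert_tree lc_g_rc_27_0 lc_g_rc_29_1 lc_g_rc_27_0 lc_g_rc_27_0 lc_g_rc_6_1 lc_g_rc_17_1) (@D3.rec (fun _ => (Cert rels S Gen.g)) lc_g_rc_17_1 lc_g_rc_24_1 lc_g_rc_21_1 lc_g_rc_17_1 lc_g_rc_27_0 lc_g_rc_17_1 lc_g_rc_12_3 lc_g_rc_6_1 lc_g_rc_17_1 lc_g_rc_6_1 lc_g_rc_6_1 lc_g_rc_21_1 lc_g_rc_17_1 lc_g_rc_27_1 lc_g_Cert_tree lc_g_rc_12_1 lc_g_rc_27_0 lc_g_rc_29_1 lc_g_rc_17_3 lc_g_rc_27_0 lc_g_Cert_tree lc_g_rc_27_0 lc_g_Cert_tree lc_g_rc_27_0 lc_g_rc_6_1 lc_g_rc_27_1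 lc_g_rc_27_0 lc_g_rc_29_3 lc_g_rc_6_1 lc_g_rc_6_1 lc_g_rc_27_0 lc_g_rc_21_1 lc_g_rc_29_1 lc_g_Cert_tree lc_g_rc_27_0 lc_g_rc_17_1 lc_g_Cert_tree lc_g_rc_27_0 lc_g_rc_6_3 lc_g_Cert_tree) (@D3.rec (fun _ => (Cert rels S Gen.g)) lc_g_rc_24_1 lc_g_rc_27_0 lc_g_rc_29_3 lc_g_rc_17_1 lc_g_rc_29_3 lc_g_rc_6_1 lc_g_rc_29_1 lc_g_rc_12_5 lc_g_Cert_tree lc_g_rc_27_0 lc_g_rc_6_3 lc_g_rc_27_0 lc_g_rc_27_0 lc_g_rc_24_3 lc_g_rc_29_1 lc_g_rc_27_0 lc_g_rc_21_1 lc_g_rc_6_3 lc_g_rc_27_0 lc_g_rc_21_1 lc_g_rc_27_0 lc_g_rc_6_3 lc_g_rc_27_0 lc_g_rc_27_0 lc_g_rc_24_1 lc_g_rc_6_1 lc_g_rc_12_3 lc_g_rc_17_1 lc_g_rc_12_1 lc_g_rc_21_1 lc_g_rc_6_1 lc_g_rc_27_0 lc_g_rc_27_0 lc_g_rc_12_3 lc_g_rc_21_1 lc_g_rc_12_3 lc_g_rc_29_3 lc_g_rc_17_1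 lc_g_rc_29_3 lc_g_rc_6_1) (@D3.rec (fun _ => (Cert rels S Gen.g)) lc_g_rc_12_3 lc_g_rc_6_1 lc_g_rc_17_1 lc_g_rc_21_3 lc_g_rc_12_3 lc_g_rc_29_1 lc_g_rc_21_1 lc_g_rc_17_3 lc_g_rc_27_0 lc_g_rc_21_1 lc_g_rc_12_1 lc_g_rc_17_1 lc_g_rc_12_5 lc_g_rc_21_1 lc_g_rc_6_1 lc_g_rc_6_1 lc_g_rc_17_1 lc_g_rc_24_1 lc_g_rc_24_3 lc_g_rc_24_1 lc_g_rc_29_3 lc_g_rc_21_1 lc_g_rc_29_3 lc_g_Cert_tree lc_g_Cert_tree lc_g_Cert_tree lc_g_rc_27_0 lc_g_rc_6_1 lc_g_rc_24_1 lc_g_rc_29_3 lc_g_rc_17_1 lc_g_rc_12_3 lc_g_rc_29_3 lc_g_rc_31_8 lc_g_rc_29_1 lc_g_Cert_tree lc_g_rc_27_0 lc_g_rc_12_1 lc_g_Cert_tree lc_g_rc_27_0) (@D3.rec (fun _ => (Cert rels S Gen.g)) lc_g_Cert_tree lc_g_rc_27_0 lc_g_rc_6_1 lc_g_rc_6_3 lc_g_rc_6_1 lc_g_Cert_tree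 lc_g_rc_17_1 lc_g_rc_27_0 lc_g_rc_6_3 lc_g_Cert_tree lc_g_rc_27_0 lc_g_rc_12_3 lc_g_rc_6_1 lc_g_rc_24_1 lc_g_rc_24_1 lc_g_rc_24_1 lc_g_Cert_tree lc_g_rc_21_1 lc_g_rc_17_3 lc_g_rc_27_0 lc_g_rc_17_1 lc_g_rc_12_3 lc_g_rc_12_1 lc_g_rc_21_1 lc_g_Cert_tree lc_g_Cert_tree lc_g_rc_27_0 lc_g_rc_24_3 lc_g_rc_6_3 lc_g_rc_27_0 lc_g_rc_21_1 lc_g_rc_27_0 lc_g_rc_21_1 lc_g_rc_24_3 lc_g_Cert_tree lc_g_rc_27_0 lc_g_rc_6_1 lc_g_rc_12_1 lc_g_rc_27_0 lc_g_rc_17_1) (@D3.rec (fun _ => (Cert rels S Gen.g)) lc_g_rc_24_1 lc_g_Cert_tree lc_g_rc_17_1 lc_g_rc_27_0 lc_g_rc_21_1 lc_g_rc_29_1 lc_g_rc_24_1 lc_g_rc_27_0 lc_g_rc_24_1 lc_g_rc_31_8 lc_g_rc_26_7 lc_g_rc_21_3 lc_g_rc_6_3 lc_g_rc_27_0 lc_g_rc_12_1 lc_g_rc_27_0 lc_g_Cert_tree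 lc_g_rc_27_0 lc_g_rc_6_1 lc_g_rc_6_3 lc_g_Cert_tree lc_g_rc_21_1 lc_g_rc_27_0 lc_g_rc_6_1 lc_g_rc_29_1 lc_g_Cert_tree lc_g_rc_27_0 lc_g_rc_12_3 lc_g_rc_6_3 lc_g_rc_29_1 lc_g_rc_29_3 lc_g_rc_27_0 lc_g_rc_12_3 lc_g_Cert_tree lc_g_rc_17_1 lc_g_rc_27_0 lc_g_rc_29_1 lc_g_rc_26_3 lc_g_rc_27_0 lc_g_rc_12_3) (@D3.rec (fun _ => (Cert rels S Gen.g)) lc_g_rc_29_3 lc_g_rc_17_1 lc_g_rc_29_3 lc_g_rc_6_1 lc_g_rc_6_1 lc_g_rc_29_1 lc_g_rc_21_1 lc_g_rc_27_0 lc_g_rc_17_1 lc_g_rc_29_3 lc_g_Cert_tree lc_g_rc_26_1 lc_g_rc_27_0 lc_g_rc_12_1 lc_g_rc_17_1 lc_g_rc_6_1 lc_g_rc_6_1 lc_g_rc_21_1 lc_g_rc_6_1 lc_g_rc_6_1 lc_g_rc_29_3 lc_g_rc_12_1 lc_g_rc_29_1 lc_g_rc_21_1 lc_g_rc_17_1 lc_g_rc_21_1 lc_g_rc_12_3 lc_g_rc_21_1 lc_g_rc_6_3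 lc_g_rc_12_3 lc_g_rc_12_3 lc_g_rc_29_1 lc_g_rc_24_1 lc_g_rc_6_1 lc_g_rc_12_1 lc_g_rc_12_1 lc_g_Cert_tree lc_g_rc_27_0 lc_g_rc_6_3 lc_g_rc_6_3) (@D3.rec (fun _ => (Cert rels S Gen.g)) lc_g_rc_29_1 lc_g_Cert_tree lc_g_rc_29_1 lc_g_rc_21_1 lc_g_rc_27_0 lc_g_rc_29_1 lc_g_Cert_tree lc_g_rc_27_0 lc_g_rc_12_3 lc_g_Cert_tree lc_g_rc_27_0 lc_g_Cert_tree lc_g_rc_27_0 lc_g_rc_6_1 lc_g_rc_6_1 lc_g_rc_29_1 lc_g_rc_29_1 lc_g_rc_12_3 lc_g_rc_21_3 lc_g_rc_27_0 lc_g_rc_17_1 lc_g_rc_21_3 lc_g_rc_6_3 lc_g_Cert_tree lc_g_rc_27_0 lc_g_rc_29_1 lc_g_rc_27_0 lc_g_rc_12_3 lc_g_rc_12_3 lc_g_rc_31_5 lc_g_rc_12_3 lc_g_rc_27_0 lc_g_rc_24_3 lc_g_rc_27_0 lc_g_rc_6_1 lc_g_Cert_tree lc_g_Cert_tree lc_g_rc_27_0 lc_g_Cert_tree lc_g_rc_24_1)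 (@D3.rec (fun _ => (Cert rels S Gen.g)) lc_g_rc_27_0 lc_g_Cert_tree lc_g_rc_21_1 lc_g_rc_6_3 lc_g_rc_27_0 lc_g_rc_6_1 lc_g_rc_17_1 lc_g_Cert_tree lc_g_rc_29_1 lc_g_Cert_tree lc_g_rc_27_0 lc_g_rc_27_0 lc_g_rc_6_1 lc_g_rc_12_3 lc_g_Cert_tree lc_g_rc_17_1 lc_g_rc_6_3 lc_g_rc_27_0 lc_g_rc_17_1 lc_g_rc_27_0 lc_g_rc_27_0 lc_g_rc_29_3 lc_g_rc_31_8 lc_g_rc_24_1 lc_g_Cert_tree lc_g_rc_12_3 lc_g_Cert_tree lc_g_rc_29_1 lc_g_rc_27_0 lc_g_rc_17_1 lc_g_rc_6_3 lc_g_rc_27_0 lc_g_rc_12_3 lc_g_rc_6_1 lc_g_rc_17_1 lc_g_rc_6_1 lc_g_rc_27_0 lc_g_rc_12_3 lc_g_rc_27_0 lc_g_rc_21_1) (@D3.rec (fun _ => (Cert rels S Gen.g)) lc_g_rc_6_1 lc_g_rc_29_3 lc_g_rc_17_1 lc_g_rc_29_3 lc_g_Cert_tree lc_g_rc_6_1 lc_g_rc_29_1 lc_g_rc_21_1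 lc_g_Cert_tree lc_g_rc_27_0 lc_g_Cert_tree lc_g_rc_27_0 lc_g_rc_12_3 lc_g_rc_6_1 lc_g_rc_17_1 lc_g_rc_29_3 lc_g_Cert_tree lc_g_rc_27_0 lc_g_rc_27_0 lc_g_rc_12_3 lc_g_rc_6_1 lc_g_rc_29_3 lc_g_rc_29_3 lc_g_rc_12_3 lc_g_rc_27_0 lc_g_rc_12_3 lc_g_rc_12_3 lc_g_rc_29_1 lc_g_rc_24_1 lc_g_Cert_tree lc_g_rc_27_0 lc_g_Cert_tree lc_g_Cert_tree lc_g_rc_27_0 lc_g_Cert_tree lc_g_rc_17_3 lc_g_rc_27_0 lc_g_Cert_tree lc_g_rc_21_1 lc_g_rc_6_3) (@D3.rec (fun _ => (Cert rels S Gen.g)) lc_g_rc_27_0 lc_g_rc_17_1 lc_g_rc_12_3 lc_g_Cert_tree lc_g_rc_29_3 lc_g_Cert_tree lc_g_rc_27_0 lc_g_rc_27_0 lc_g_rc_6_1 lc_g_Cert_tree lc_g_Cert_tree lc_g_Cert_tree lc_g_rc_6_3 lc_g_rc_27_0 lc_g_rc_17_1 lc_g_rc_27_0 lc_g_rc_27_0 lc_g_rc_29_3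 lc_g_rc_12_3 lc_g_rc_17_1 lc_g_rc_12_3 lc_g_rc_17_1 lc_g_Cert_tree lc_g_rc_27_0 lc_g_Cert_tree lc_g_rc_17_3 lc_g_rc_27_0 lc_g_Cert_tree lc_g_rc_29_1 lc_g_rc_27_0 lc_g_rc_27_0 lc_g_Cert_tree lc_g_rc_6_3 lc_g_rc_27_0 lc_g_rc_27_0 lc_g_rc_29_3 lc_g_rc_6_3 lc_g_rc_6_3 lc_g_rc_29_1 lc_g_rc_29_1) (@D3.rec (fun _ => (Cert rels S Gen.g)) lc_g_rc_21_3 lc_g_Cert_tree lc_g_rc_29_3 lc_g_rc_27_0 lc_g_rc_29_3 lc_g_rc_27_0 lc_g_rc_6_1 lc_g_rc_17_1 lc_g_rc_12_3 lc_g_rc_17_1 lc_g_rc_26_7 lc_g_rc_27_0 lc_g_rc_29_3 lc_g_rc_27_1 lc_g_rc_27_0 lc_g_Cert_tree lc_g_rc_12_3 lc_g_rc_27_0 lc_g_rc_29_3 lc_g_Cert_tree lc_g_rc_6_3 lc_g_rc_27_0 lc_g_rc_27_0 lc_g_rc_29_3 lc_g_rc_29_1 lc_g_rc_29_1 lc_g_rc_29_1 lc_g_rc_29_3 lc_g_rc_6_1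 lc_g_rc_6_1 lc_g_rc_17_1 lc_g_rc_12_3 lc_g_rc_12_3 lc_g_rc_27_0 lc_g_rc_12_1 lc_g_rc_17_1 lc_g_rc_24_1 lc_g_rc_12_3 lc_g_rc_12_3 lc_g_rc_24_1) (@D3.rec (fun _ => (Cert rels S Gen.g)) lc_g_rc_29_1 lc_g_rc_6_1 lc_g_rc_17_1 lc_g_rc_21_3 lc_g_rc_29_3 lc_g_rc_29_1 lc_g_rc_27_0 lc_g_rc_17_1 lc_g_rc_27_0 lc_g_rc_6_1 lc_g_rc_6_1 lc_g_rc_31_8 lc_g_rc_29_1 lc_g_rc_27_0 lc_g_rc_6_1 lc_g_rc_12_1 lc_g_rc_6_1 lc_g_rc_27_0 lc_g_rc_27_0 lc_g_rc_21_1 lc_g_rc_29_3 lc_g_rc_27_0 lc_g_rc_29_1 lc_g_rc_6_1 lc_g_rc_6_1 lc_g_rc_29_3 lc_g_rc_27_0 lc_g_rc_29_1 lc_g_rc_29_1 lc_g_rc_27_0 lc_g_rc_12_3 lc_g_rc_17_1 lc_g_rc_24_1 lc_g_rc_6_3 lc_g_rc_17_3 lc_g_rc_27_0 lc_g_rc_29_1 lc_g_rc_27_0 lc_g_rc_21_1 lc_g_rc_17_1) (@D3.rec (fun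 _ => (Cert rels S Gen.g)) lc_g_rc_12_3 lc_g_rc_6_3 lc_g_rc_26_5 lc_g_rc_12_1 lc_g_rc_27_0 lc_g_rc_17_1 lc_g_rc_12_3 lc_g_rc_17_1 lc_g_rc_6_1 lc_g_rc_17_1 lc_g_rc_21_1 lc_g_rc_17_3 lc_g_rc_27_0 lc_g_rc_27_0 lc_g_rc_31_11 lc_g_rc_24_1 lc_g_rc_6_1 lc_g_rc_17_1 lc_g_rc_24_1 lc_g_rc_17_3 lc_g_rc_27_0 lc_g_rc_17_1 lc_g_rc_26_5 lc_g_rc_12_1 lc_g_rc_21_1 lc_g_rc_17_1 lc_g_rc_21_1 lc_g_rc_27_0 lc_g_rc_17_1 lc_g_rc_17_3 lc_g_rc_27_0 lc_g_rc_21_1 lc_g_rc_27_0 lc_g_rc_6_3 lc_g_Cert_tree lc_g_rc_27_0 lc_g_rc_17_1 lc_g_rc_6_1 lc_g_rc_17_1 lc_g_Cert_tree) (@D3.rec (fun _ => (Cert rels S Gen.g)) lc_g_rc_12_1 lc_g_rc_24_1 lc_g_rc_17_3 lc_g_rc_27_0 lc_g_rc_17_1 lc_g_rc_12_3 lc_g_rc_17_1 lc_g_rc_31_8 lc_g_rc_27_1 lc_g_rc_21_1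 lc_g_rc_21_3 lc_g_rc_12_1 lc_g_rc_24_1 lc_g_rc_17_1 lc_g_rc_12_3 lc_g_rc_31_11 lc_g_rc_17_1 lc_g_rc_12_1 lc_g_rc_12_1 lc_g_rc_12_1 lc_g_rc_29_1 lc_g_rc_27_0 lc_g_rc_12_3 lc_g_rc_12_3 lc_g_rc_12_3 lc_g_rc_17_1 lc_g_rc_24_1 lc_g_rc_12_3 lc_g_rc_29_3 lc_g_rc_29_1 lc_g_rc_21_1 lc_g_rc_29_3 lc_g_Cert_tree lc_g_rc_27_0 lc_g_Cert_tree lc_g_rc_27_0 lc_g_rc_29_1 lc_g_rc_12_5 lc_g_rc_27_0 lc_g_rc_27_0) (@D3.rec (fun _ => (Cert rels S Gen.g)) lc_g_rc_24_1 lc_g_rc_21_1 lc_g_Cert_tree lc_g_rc_27_0 lc_g_rc_17_1 lc_g_rc_12_5 lc_g_rc_12_1 lc_g_rc_6_1 lc_g_rc_21_1 lc_g_rc_17_1 lc_g_rc_27_0 lc_g_rc_6_3 lc_g_rc_12_3 lc_g_rc_27_0 lc_g_rc_29_3 lc_g_rc_29_1 lc_g_Cert_tree lc_g_rc_27_0 lc_g_rc_27_0 lc_g_rc_27_0 lc_g_rc_27_0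 lc_g_rc_17_1 lc_g_rc_12_3 lc_g_rc_6_1 lc_g_rc_17_1 lc_g_rc_21_1 lc_g_rc_17_1 lc_g_rc_27_0 lc_g_rc_26_5 lc_g_rc_6_1 lc_g_Cert_tree lc_g_rc_27_0 lc_g_rc_17_3 lc_g_rc_27_0 lc_g_rc_17_1 lc_g_rc_17_1 lc_g_rc_21_1 lc_g_rc_21_1 lc_g_rc_17_3 lc_g_rc_6_1) (@D3.rec (fun _ => (Cert rels S Gen.g)) lc_g_Cert_tree lc_g_rc_12_3 lc_g_Cert_tree lc_g_rc_27_0 lc_g_rc_31_11 lc_g_rc_17_1 lc_g_Cert_tree lc_g_rc_27_0 lc_g_Cert_tree lc_g_rc_27_0 lc_g_rc_12_3 lc_g_rc_12_3 lc_g_rc_29_3 lc_g_rc_17_1 lc_g_rc_29_3 lc_g_rc_6_1 lc_g_rc_29_3 lc_g_rc_29_3 lc_g_rc_31_11 lc_g_rc_29_1 lc_g_rc_31_11 lc_g_Cert_tree lc_g_rc_27_0 lc_g_rc_12_5 lc_g_rc_12_1 lc_g_Cert_tree lc_g_rc_29_1 lc_g_Cert_tree lc_g_rc_27_0 lc_g_rc_12_3 lc_g_rc_17_1 lc_g_rc_12_1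 lc_g_rc_12_3 lc_g_rc_17_1 lc_g_rc_12_3 lc_g_rc_29_3 lc_g_rc_21_1 lc_g_rc_6_1 lc_g_Cert_tree lc_g_Cert_tree) (@D3.rec (fun _ => (Cert rels S Gen.g)) lc_g_rc_29_1 lc_g_Cert_tree lc_g_rc_27_0 lc_g_rc_29_1 lc_g_rc_29_1 lc_g_rc_27_0 lc_g_rc_24_1 lc_g_rc_6_1 lc_g_Cert_tree lc_g_rc_21_1 lc_g_rc_6_1 lc_g_rc_12_1 lc_g_rc_17_1 lc_g_rc_27_0 lc_g_rc_27_0 lc_g_rc_12_3 lc_g_rc_6_1 lc_g_rc_27_1 lc_g_rc_29_1 lc_g_rc_17_1 lc_g_rc_31_2 lc_g_rc_12_3 lc_g_rc_6_3 lc_g_rc_26_5 lc_g_rc_21_1 lc_g_rc_21_1 lc_g_rc_12_3 lc_g_rc_6_1 lc_g_Cert_tree lc_g_rc_27_0 lc_g_rc_12_3 lc_g_rc_6_1 lc_g_rc_17_1 lc_g_rc_21_3 lc_g_rc_12_1 lc_g_rc_17_1 lc_g_rc_6_1 lc_g_rc_27_0 lc_g_rc_21_1 lc_g_rc_21_1) (@D3.rec (fun _ => (Cert rels S Gen.g))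 lc_g_Cert_tree lc_g_rc_27_0 lc_g_rc_12_3 lc_g_rc_17_1 lc_g_rc_29_3 lc_g_rc_29_3 lc_g_Cert_tree lc_g_rc_12_3 lc_g_rc_17_1 lc_g_rc_12_1 lc_g_rc_27_0 lc_g_Cert_tree lc_g_rc_27_0 lc_g_Cert_tree lc_g_rc_27_0 lc_g_rc_6_1 lc_g_rc_12_1 lc_g_Cert_tree lc_g_rc_27_0 lc_g_rc_12_1 lc_g_rc_12_3 lc_g_rc_6_1 lc_g_rc_27_0 lc_g_rc_17_1 lc_g_rc_29_3 lc_g_rc_17_1 lc_g_rc_17_1 lc_g_rc_29_3 lc_g_rc_21_1 lc_g_rc_12_3 lc_g_rc_29_1 lc_g_rc_26_1 lc_g_rc_27_0 lc_g_rc_6_3 lc_g_Cert_tree lc_g_rc_21_1 lc_g_rc_27_0 lc_g_rc_27_0 lc_g_rc_29_1 lc_g_rc_17_1)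
def ce_g_17 : D2 → D3 → (Cert rels S Gen.g) := @D2.rec (fun _ => D3 → (Cert rels S Gen.g)) (@D3.rec (fun _ => (Cert rels S Gen.g)) lc_g_rc_26_1 lc_g_rc_29_1 lc_g_rc_21_1 lc_g_rc_6_3 lc_g_rc_17_3 lc_g_Cert_tree lc_g_rc_27_0 lc_g_rc_21_1 lc_g_Cert_tree lc_g_Cert_tree lc_g_rc_27_0 lc_g_rc_27_0 lc_g_rc_12_3 lc_g_rc_6_1 lc_g_rc_12_3 lc_g_rc_21_3 lc_g_rc_21_1 lc_g_rc_24_1 lc_g_rc_6_3 lc_g_rc_27_0 lc_g_rc_12_5 lc_g_rc_6_3 lc_g_Cert_tree lc_g_Cert_tree lc_g_rc_21_1 lc_g_rc_27_0 lc_g_rc_6_1 lc_g_rc_27_0 lc_g_rc_21_1 lc_g_rc_6_1 lc_g_rc_17_1 lc_g_rc_27_0 lc_g_rc_12_3 lc_g_Cert_tree lc_g_Cert_tree lc_g_rc_27_0 lc_g_rc_29_1 lc_g_rc_27_0 lc_g_rc_6_3 lc_g_rc_21_1) (@D3.rec (fun _ => (Cert rels S Gen.g)) lc_g_Cert_tree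 lc_g_rc_6_1 lc_g_rc_29_1 lc_g_rc_21_1 lc_g_rc_27_0 lc_g_rc_6_1 lc_g_rc_6_1 lc_g_rc_17_1 lc_g_rc_12_3 lc_g_rc_17_1 lc_g_rc_12_1 lc_g_rc_27_0 lc_g_rc_17_1 lc_g_rc_29_1 lc_g_Cert_tree lc_g_rc_6_3 lc_g_rc_27_0 lc_g_rc_21_1 lc_g_rc_29_1 lc_g_rc_6_1 lc_g_rc_21_1 lc_g_rc_27_0 lc_g_rc_6_1 lc_g_rc_21_1 lc_g_rc_27_0 lc_g_rc_27_0 lc_g_rc_29_1 lc_g_Cert_tree lc_g_rc_27_0 lc_g_rc_27_0 lc_g_rc_21_1 lc_g_Cert_tree lc_g_Cert_tree lc_g_rc_6_3 lc_g_rc_27_0 lc_g_Cert_tree lc_g_rc_27_0 lc_g_rc_12_3 lc_g_rc_17_1 lc_g_rc_6_1) (@D3.rec (fun _ => (Cert rels S Gen.g)) lc_g_rc_6_3 lc_g_rc_12_3 lc_g_Cert_tree lc_g_rc_27_0 lc_g_rc_6_1 lc_g_rc_27_0 lc_g_rc_12_1 lc_g_Cert_tree lc_g_rc_24_3 lc_g_rc_29_1 lc_g_rc_27_0 lc_g_rc_17_1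 lc_g_Cert_tree lc_g_Cert_tree lc_g_rc_17_1 lc_g_rc_27_0 lc_g_rc_27_0 lc_g_rc_29_3 lc_g_Cert_tree lc_g_Cert_tree lc_g_rc_6_3 lc_g_rc_27_0 lc_g_rc_24_3 lc_g_rc_27_0 lc_g_rc_27_0 lc_g_rc_29_3 lc_g_rc_27_0 lc_g_Cert_tree lc_g_rc_27_0 lc_g_rc_31_11 lc_g_Cert_tree lc_g_rc_17_1 lc_g_rc_6_1 lc_g_rc_27_0 lc_g_rc_12_3 lc_g_Cert_tree lc_g_rc_6_3 lc_g_rc_27_0 lc_g_rc_17_1 lc_g_rc_27_0) (@D3.rec (fun _ => (Cert rels S Gen.g)) lc_g_rc_27_0 lc_g_rc_29_3 lc_g_Cert_tree lc_g_rc_6_3 lc_g_rc_27_0 lc_g_rc_27_0 lc_g_rc_29_3 lc_g_rc_17_1 lc_g_rc_21_1 lc_g_rc_31_5 lc_g_rc_29_1 lc_g_Cert_tree lc_g_rc_31_2 lc_g_rc_29_1 lc_g_rc_27_0 lc_g_rc_29_1 lc_g_rc_27_0 lc_g_Cert_tree lc_g_rc_6_3 lc_g_rc_27_0 lc_g_rc_27_0 lc_g_rc_29_3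 lc_g_rc_29_1 lc_g_rc_29_1 lc_g_rc_29_3 lc_g_rc_31_11 lc_g_rc_17_1 lc_g_rc_21_1 lc_g_rc_12_1 lc_g_rc_17_1 lc_g_rc_6_1 lc_g_rc_6_1 lc_g_rc_29_3 lc_g_rc_21_1 lc_g_rc_21_1 lc_g_rc_27_0 lc_g_rc_6_3 lc_g_rc_27_0 lc_g_rc_12_3 lc_g_rc_6_1) (@D3.rec (fun _ => (Cert rels S Gen.g)) lc_g_rc_27_0 lc_g_rc_27_0 lc_g_rc_24_3 lc_g_rc_21_1 lc_g_rc_12_3 lc_g_rc_12_3 lc_g_rc_12_1 lc_g_rc_12_3 lc_g_rc_12_1 lc_g_rc_27_0 lc_g_rc_31_5 lc_g_rc_27_0 lc_g_rc_29_1 lc_g_rc_27_1 lc_g_rc_6_1 lc_g_rc_27_0 lc_g_rc_24_1 lc_g_rc_21_1 lc_g_rc_21_1 lc_g_Cert_tree lc_g_rc_27_0 lc_g_rc_17_1 lc_g_rc_21_1 lc_g_rc_27_1 lc_g_rc_27_0 lc_g_rc_17_1 lc_g_rc_24_1 lc_g_rc_31_8 lc_g_rc_24_1 lc_g_rc_31_5 lc_g_rc_12_1 lc_g_rc_12_1 lc_g_rc_31_8 lc_g_rc_27_0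 lc_g_rc_27_0 lc_g_Cert_tree lc_g_rc_27_0 lc_g_rc_24_1 lc_g_rc_24_1 lc_g_rc_24_1) (@D3.rec (fun _ => (Cert rels S Gen.g)) lc_g_Cert_tree lc_g_rc_27_0 lc_g_rc_21_1 lc_g_rc_27_0 lc_g_rc_12_3 lc_g_rc_17_1 lc_g_rc_24_1 lc_g_rc_21_1 lc_g_rc_29_3 lc_g_rc_29_1 lc_g_rc_27_1 lc_g_rc_27_0 lc_g_rc_6_1 lc_g_rc_12_3 lc_g_rc_21_1 lc_g_rc_29_1 lc_g_rc_12_3 lc_g_Cert_tree lc_g_rc_27_0 lc_g_rc_24_1 lc_g_rc_6_3 lc_g_rc_21_1 lc_g_rc_17_1 lc_g_rc_27_0 lc_g_rc_12_1 lc_g_rc_12_5 lc_g_rc_24_1 lc_g_rc_6_1 lc_g_rc_12_1 lc_g_rc_6_1 lc_g_Cert_tree lc_g_rc_27_0 lc_g_rc_12_3 lc_g_rc_29_1 lc_g_rc_6_3 lc_g_rc_21_1 lc_g_rc_6_1 lc_g_rc_12_1 lc_g_rc_6_1 lc_g_rc_12_1) (@D3.rec (fun _ => (Cert rels S Gen.g)) lc_g_rc_6_1 lc_g_rc_29_1 lc_g_rc_17_1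 lc_g_rc_27_0 lc_g_rc_21_1 lc_g_rc_27_0 lc_g_rc_12_3 lc_g_rc_17_3 lc_g_rc_21_1 lc_g_rc_12_1 lc_g_rc_12_5 lc_g_rc_27_0 lc_g_rc_27_0 lc_g_rc_12_3 lc_g_rc_6_1 lc_g_rc_12_3 lc_g_rc_21_3 lc_g_rc_12_1 lc_g_rc_12_1 lc_g_rc_27_0 lc_g_rc_27_0 lc_g_rc_21_1 lc_g_rc_24_1 lc_g_rc_29_3 lc_g_rc_27_0 lc_g_rc_24_1 lc_g_rc_26_3 lc_g_rc_27_0 lc_g_rc_12_3 lc_g_rc_12_3 lc_g_rc_24_1 lc_g_rc_27_0 lc_g_Cert_tree lc_g_rc_27_0 lc_g_rc_24_1 lc_g_rc_21_1 lc_g_Cert_tree lc_g_rc_27_0 lc_g_rc_12_3 lc_g_rc_17_1) (@D3.rec (fun _ => (Cert rels S Gen.g)) lc_g_rc_21_1 lc_g_rc_24_1 lc_g_rc_29_3 lc_g_rc_17_1 lc_g_rc_17_1 lc_g_rc_6_1 lc_g_rc_21_1 lc_g_rc_6_1 lc_g_rc_17_1 lc_g_rc_21_1 lc_g_rc_6_1 lc_g_rc_17_1 lc_g_Cert_tree lc_g_rc_27_0 lc_g_rc_12_1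 lc_g_rc_12_1 lc_g_rc_27_0 lc_g_rc_12_3 lc_g_rc_21_1 lc_g_rc_29_3 lc_g_rc_17_1 lc_g_rc_24_1 lc_g_rc_6_3 lc_g_rc_12_3 lc_g_Cert_tree lc_g_rc_27_0 lc_g_rc_27_0 lc_g_rc_17_1 lc_g_rc_6_1 lc_g_rc_6_1 lc_g_rc_6_1 lc_g_rc_6_3 lc_g_rc_6_1 lc_g_rc_29_1 lc_g_Cert_tree lc_g_rc_12_1 lc_g_rc_27_0 lc_g_rc_29_1 lc_g_rc_27_0 lc_g_rc_6_1) (@D3.rec (fun _ => (Cert rels S Gen.g)) lc_g_Cert_tree lc_g_rc_12_1 lc_g_rc_27_0 lc_g_rc_6_3 lc_g_rc_21_3 lc_g_rc_29_3 lc_g_rc_27_0 lc_g_rc_6_1 lc_g_rc_6_1 lc_g_rc_17_1 lc_g_rc_26_7 lc_g_rc_21_1 lc_g_rc_17_1 lc_g_rc_12_1 lc_g_rc_29_1 lc_g_rc_17_1 lc_g_Cert_tree lc_g_rc_29_3 lc_g_rc_12_1 lc_g_rc_17_1 lc_g_Cert_tree lc_g_Cert_tree lc_g_rc_27_0 lc_g_rc_27_0 lc_g_rc_12_3 lc_g_rc_17_1 lc_g_rc_17_1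 lc_g_rc_17_3 lc_g_rc_29_3 lc_g_rc_17_1 lc_g_rc_24_1 lc_g_rc_29_3 lc_g_Cert_tree lc_g_Cert_tree lc_g_rc_26_5 lc_g_Cert_tree lc_g_rc_12_1 lc_g_rc_17_1 lc_g_rc_27_0 lc_g_rc_6_1) (@D3.rec (fun _ => (Cert rels S Gen.g)) lc_g_rc_29_1 lc_g_Cert_tree lc_g_Cert_tree lc_g_Cert_tree lc_g_rc_21_3 lc_g_rc_27_0 lc_g_rc_6_3 lc_g_rc_27_0 lc_g_rc_12_3 lc_g_Cert_tree lc_g_rc_21_3 lc_g_rc_27_0 lc_g_Cert_tree lc_g_rc_27_0 lc_g_rc_6_1 lc_g_rc_17_1 lc_g_rc_29_1 lc_g_rc_29_1 lc_g_Cert_tree lc_g_Cert_tree lc_g_rc_27_0 lc_g_rc_12_3 lc_g_rc_24_3 lc_g_rc_21_1 lc_g_rc_6_3 lc_g_rc_21_3 lc_g_rc_24_3 lc_g_rc_27_0 lc_g_rc_12_5 lc_g_rc_27_0 lc_g_rc_12_3 lc_g_rc_27_0 lc_g_rc_27_0 lc_g_rc_17_1 lc_g_rc_6_1 lc_g_rc_29_1 lc_g_rc_29_3 lc_g_Cert_tree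 lc_g_rc_6_3 lc_g_rc_27_0) (@D3.rec (fun _ => (Cert rels S Gen.g)) lc_g_rc_12_3 lc_g_rc_6_1 lc_g_Cert_tree lc_g_rc_27_0 lc_g_rc_27_0 lc_g_rc_27_0 lc_g_rc_6_1 lc_g_rc_21_1 lc_g_rc_27_0 lc_g_rc_17_1 lc_g_rc_27_0 lc_g_rc_27_0 lc_g_rc_27_0 lc_g_rc_12_1 lc_g_rc_27_0 lc_g_rc_27_0 lc_g_rc_27_0 lc_g_rc_12_3 lc_g_rc_17_1 lc_g_rc_27_1 lc_g_rc_27_0 lc_g_rc_12_3 lc_g_rc_21_1 lc_g_rc_17_1 lc_g_Cert_tree lc_g_rc_21_1 lc_g_rc_17_1 lc_g_rc_6_3 lc_g_rc_6_1 lc_g_rc_29_1 lc_g_Cert_tree lc_g_rc_27_0 lc_g_rc_6_1 lc_g_rc_27_0 lc_g_rc_21_1 lc_g_rc_12_1 lc_g_rc_17_1 lc_g_rc_21_1 lc_g_rc_6_1 lc_g_rc_21_1) (@D3.rec (fun _ => (Cert rels S Gen.g)) lc_g_rc_31_11 lc_g_rc_6_1 lc_g_rc_26_5 lc_g_Cert_tree lc_g_rc_27_0 lc_g_rc_12_1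 lc_g_rc_6_3 lc_g_rc_27_0 lc_g_rc_29_3 lc_g_rc_27_0 lc_g_rc_12_3 lc_g_rc_29_3 lc_g_rc_17_1 lc_g_rc_6_3 lc_g_rc_12_3 lc_g_rc_6_3 lc_g_rc_12_1 lc_g_Cert_tree lc_g_rc_24_3 lc_g_rc_21_1 lc_g_rc_27_0 lc_g_rc_6_1 lc_g_rc_29_1 lc_g_rc_24_1 lc_g_rc_21_1 lc_g_rc_24_1 lc_g_rc_29_3 lc_g_rc_6_1 lc_g_rc_29_1 lc_g_rc_29_3 lc_g_Cert_tree lc_g_Cert_tree lc_g_rc_27_0 lc_g_Cert_tree lc_g_rc_6_1 lc_g_Cert_tree lc_g_Cert_tree lc_g_Cert_tree lc_g_rc_27_0 lc_g_rc_21_1) (@D3.rec (fun _ => (Cert rels S Gen.g)) lc_g_rc_21_3 lc_g_rc_27_1 lc_g_Cert_tree lc_g_rc_27_0 lc_g_rc_27_0 lc_g_rc_6_1 lc_g_rc_12_3 lc_g_rc_17_1 lc_g_rc_21_1 lc_g_rc_27_0 lc_g_rc_17_1 lc_g_rc_29_1 lc_g_rc_27_0 lc_g_rc_12_3 lc_g_rc_6_3 lc_g_rc_31_5 lc_g_rc_29_1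 lc_g_rc_12_3 lc_g_rc_27_0 lc_g_rc_12_3 lc_g_rc_27_0 lc_g_rc_17_1 lc_g_rc_6_3 lc_g_rc_27_0 lc_g_rc_26_1 lc_g_rc_21_1 lc_g_rc_26_5 lc_g_Cert_tree lc_g_rc_27_0 lc_g_rc_26_3 lc_g_rc_27_0 lc_g_rc_27_0 lc_g_rc_12_3 lc_g_rc_27_0 lc_g_rc_12_3 lc_g_rc_6_1 lc_g_rc_17_1 lc_g_Cert_tree lc_g_rc_17_1 lc_g_rc_24_1) (@D3.rec (fun _ => (Cert rels S Gen.g)) lc_g_rc_21_1 lc_g_rc_29_3 lc_g_rc_27_0 lc_g_rc_6_1 lc_g_rc_17_1 lc_g_rc_27_0 lc_g_rc_24_3 lc_g_rc_17_3 lc_g_rc_6_1 lc_g_rc_29_3 lc_g_rc_29_1 lc_g_rc_6_3 lc_g_rc_12_3 lc_g_rc_27_1 lc_g_rc_6_1 lc_g_rc_6_1 lc_g_Cert_tree lc_g_rc_29_3 lc_g_rc_17_1 lc_g_Cert_tree lc_g_Cert_tree lc_g_Cert_tree lc_g_rc_27_0 lc_g_rc_24_3 lc_g_rc_27_0 lc_g_rc_17_1 lc_g_rc_27_0 lc_g_rc_12_3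 lc_g_rc_12_1 lc_g_rc_17_1 lc_g_rc_17_1 lc_g_rc_6_1 lc_g_Cert_tree lc_g_rc_27_0 lc_g_rc_29_3 lc_g_rc_27_0 lc_g_Cert_tree lc_g_rc_27_0 lc_g_rc_27_0 lc_g_rc_12_3) (@D3.rec (fun _ => (Cert rels S Gen.g)) lc_g_rc_26_5 lc_g_rc_27_0 lc_g_rc_6_1 lc_g_rc_17_1 lc_g_rc_6_1 lc_g_Cert_tree lc_g_rc_21_1 lc_g_rc_17_1 lc_g_rc_31_5 lc_g_rc_12_3 lc_g_rc_29_1 lc_g_rc_17_1 lc_g_rc_21_1 lc_g_rc_27_0 lc_g_rc_12_3 lc_g_rc_6_1 lc_g_rc_17_1 lc_g_rc_27_0 lc_g_rc_21_1 lc_g_rc_6_1 lc_g_rc_6_1 lc_g_rc_12_3 lc_g_Cert_tree lc_g_rc_29_1 lc_g_rc_17_1 lc_g_rc_29_1 lc_g_rc_12_3 lc_g_rc_17_3 lc_g_rc_27_0 lc_g_rc_31_8 lc_g_rc_6_1 lc_g_rc_21_1 lc_g_rc_27_0 lc_g_rc_21_1 lc_g_rc_17_1 lc_g_rc_12_5 lc_g_Cert_tree lc_g_rc_6_1 lc_g_rc_17_1 lc_g_rc_24_1)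 (@D3.rec (fun _ => (Cert rels S Gen.g)) lc_g_rc_6_1 lc_g_rc_12_3 lc_g_rc_29_1 lc_g_rc_6_3 lc_g_rc_27_0 lc_g_rc_27_1 lc_g_rc_27_0 lc_g_rc_27_0 lc_g_rc_6_1 lc_g_rc_27_0 lc_g_rc_27_0 lc_g_rc_17_1 lc_g_rc_31_8 lc_g_rc_27_0 lc_g_rc_6_3 lc_g_rc_17_1 lc_g_rc_24_3 lc_g_Cert_tree lc_g_rc_27_0 lc_g_rc_29_3 lc_g_rc_6_3 lc_g_Cert_tree lc_g_Cert_tree lc_g_Cert_tree lc_g_rc_27_0 lc_g_rc_12_5 lc_g_rc_12_5 lc_g_rc_12_3 lc_g_rc_27_0 lc_g_rc_6_1 lc_g_rc_21_1 lc_g_rc_17_1 lc_g_rc_6_1 lc_g_rc_12_3 lc_g_rc_24_1 lc_g_Cert_tree lc_g_rc_27_0 lc_g_Cert_tree lc_g_Cert_tree lc_g_rc_27_0) (@D3.rec (fun _ => (Cert rels S Gen.g)) lc_g_rc_21_1 lc_g_Cert_tree lc_g_rc_27_0 lc_g_rc_6_3 lc_g_rc_27_0 lc_g_rc_6_1 lc_g_rc_24_3 lc_g_rc_29_1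 lc_g_rc_6_3 lc_g_rc_21_1 lc_g_rc_21_1 lc_g_Cert_tree lc_g_rc_27_0 lc_g_rc_21_1 lc_g_rc_29_1 lc_g_rc_29_1 lc_g_rc_12_3 lc_g_rc_27_0 lc_g_rc_12_3 lc_g_rc_29_3 lc_g_rc_17_1 lc_g_rc_29_3 lc_g_rc_21_1 lc_g_rc_29_1 lc_g_rc_29_1 lc_g_rc_27_0 lc_g_rc_29_3 lc_g_rc_29_1 lc_g_rc_27_0 lc_g_rc_12_3 lc_g_rc_12_3 lc_g_rc_27_0 lc_g_rc_21_1 lc_g_rc_27_0 lc_g_rc_29_1 lc_g_rc_27_0 lc_g_rc_12_3 lc_g_rc_12_3 lc_g_rc_29_1 lc_g_rc_17_1) (@D3.rec (fun _ => (Cert rels S Gen.g)) lc_g_rc_6_1 lc_g_rc_27_0 lc_g_rc_12_3 lc_g_rc_21_1 lc_g_rc_27_0 lc_g_rc_12_3 lc_g_rc_6_1 lc_g_rc_12_3 lc_g_rc_6_1 lc_g_Cert_tree lc_g_Cert_tree lc_g_rc_12_3 lc_g_rc_12_3 lc_g_rc_6_1 lc_g_rc_26_7 lc_g_rc_29_1 lc_g_Cert_tree lc_g_rc_27_0 lc_g_rc_21_3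 lc_g_rc_27_0 lc_g_rc_6_1 lc_g_rc_17_1 lc_g_rc_12_3 lc_g_Cert_tree lc_g_rc_27_0 lc_g_rc_27_1 lc_g_rc_6_1 lc_g_rc_17_1 lc_g_rc_24_1 lc_g_rc_17_1 lc_g_rc_24_1 lc_g_rc_27_0 lc_g_rc_12_3 lc_g_Cert_tree lc_g_rc_29_1 lc_g_rc_27_0 lc_g_rc_27_0 lc_g_rc_12_3 lc_g_Cert_tree lc_g_Cert_tree) (@D3.rec (fun _ => (Cert rels S Gen.g)) lc_g_rc_27_0 lc_g_rc_17_3 lc_g_rc_12_3 lc_g_rc_17_1 lc_g_Cert_tree lc_g_rc_27_0 lc_g_rc_12_3 lc_g_rc_29_3 lc_g_rc_17_1 lc_g_rc_29_3 lc_g_rc_29_3 lc_g_rc_29_3 lc_g_rc_21_1 lc_g_rc_21_1 lc_g_rc_17_1 lc_g_rc_21_1 lc_g_rc_17_1 lc_g_rc_17_1 lc_g_Cert_tree lc_g_rc_6_1 lc_g_rc_29_1 lc_g_rc_17_1 lc_g_rc_26_5 lc_g_rc_21_1 lc_g_rc_29_1 lc_g_rc_27_0 lc_g_rc_17_1 lc_g_Cert_tree lc_g_rc_27_0 lc_g_Cert_tree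 lc_g_rc_27_0 lc_g_rc_12_3 lc_g_Cert_tree lc_g_rc_12_3 lc_g_rc_6_3 lc_g_rc_6_1 lc_g_rc_17_1 lc_g_Cert_tree lc_g_rc_12_3 lc_g_rc_17_1) (@D3.rec (fun _ => (Cert rels S Gen.g)) lc_g_rc_27_0 lc_g_rc_27_0 lc_g_rc_6_1 lc_g_rc_17_3 lc_g_rc_27_0 lc_g_rc_17_1 lc_g_rc_24_1 lc_g_rc_12_3 lc_g_rc_21_1 lc_g_rc_17_3 lc_g_Cert_tree lc_g_rc_27_0 lc_g_rc_21_1 lc_g_rc_17_1 lc_g_rc_12_3 lc_g_rc_12_1 lc_g_rc_17_1 lc_g_rc_27_0 lc_g_rc_21_1 lc_g_Cert_tree lc_g_Cert_tree lc_g_rc_27_0 lc_g_rc_27_0 lc_g_rc_6_1 lc_g_Cert_tree lc_g_rc_29_1 lc_g_Cert_tree lc_g_rc_27_0 lc_g_rc_29_1 lc_g_rc_27_0 lc_g_rc_27_0 lc_g_rc_27_0 lc_g_rc_12_3 lc_g_rc_17_1 lc_g_rc_29_1 lc_g_rc_12_5 lc_g_rc_21_1 lc_g_rc_6_1 lc_g_rc_27_0 lc_g_rc_27_0) (@D3.rec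 (fun _ => (Cert rels S Gen.g)) lc_g_rc_12_3 lc_g_rc_29_3 lc_g_rc_29_1 lc_g_rc_27_0 lc_g_rc_27_0 lc_g_rc_12_3 lc_g_rc_6_1 lc_g_rc_12_3 lc_g_rc_29_3 lc_g_rc_29_3 lc_g_Cert_tree lc_g_rc_12_3 lc_g_rc_6_1 lc_g_rc_6_1 lc_g_rc_29_1 lc_g_Cert_tree lc_g_rc_27_0 lc_g_rc_21_1 lc_g_rc_17_1 lc_g_rc_6_3 lc_g_Cert_tree lc_g_Cert_tree lc_g_rc_17_3 lc_g_rc_27_0 lc_g_rc_17_1 lc_g_rc_27_0 lc_g_rc_24_3 lc_g_Cert_tree lc_g_rc_27_0 lc_g_rc_29_3 lc_g_rc_21_1 lc_g_rc_21_3 lc_g_Cert_tree lc_g_rc_27_0 lc_g_rc_6_1 lc_g_rc_29_1 lc_g_rc_27_0 lc_g_rc_12_3 lc_g_rc_21_1 lc_g_rc_12_3) (@D3.rec (fun _ => (Cert rels S Gen.g)) lc_g_rc_29_3 lc_g_rc_17_1 lc_g_rc_29_3 lc_g_rc_31_8 lc_g_rc_27_0 lc_g_rc_21_1 lc_g_rc_27_0 lc_g_rc_24_1 lc_g_rc_12_3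 lc_g_rc_27_0 lc_g_rc_12_3 lc_g_rc_12_3 lc_g_rc_17_1 lc_g_rc_12_1 lc_g_rc_21_1 lc_g_rc_27_0 lc_g_rc_17_3 lc_g_rc_27_0 lc_g_rc_21_1 lc_g_rc_6_1 lc_g_rc_12_1 lc_g_rc_12_3 lc_g_rc_12_1 lc_g_rc_27_0 lc_g_rc_21_1 lc_g_rc_12_3 lc_g_rc_12_3 lc_g_rc_6_3 lc_g_rc_6_1 lc_g_rc_21_3 lc_g_rc_12_1 lc_g_rc_24_1 lc_g_rc_21_1 lc_g_rc_12_3 lc_g_rc_12_1 lc_g_rc_29_1 lc_g_rc_17_1 lc_g_rc_17_1 lc_g_rc_12_3 lc_g_rc_6_1) (@D3.rec (fun _ => (Cert rels S Gen.g)) lc_g_rc_17_1 lc_g_rc_21_1 lc_g_rc_17_1 lc_g_rc_6_1 lc_g_rc_6_3 lc_g_rc_24_1 lc_g_rc_21_1 lc_g_rc_12_3 lc_g_rc_27_0 lc_g_rc_12_1 lc_g_rc_6_1 lc_g_rc_29_1 lc_g_rc_12_3 lc_g_rc_29_1 lc_g_rc_26_1 lc_g_rc_6_3 lc_g_rc_17_1 lc_g_rc_27_0 lc_g_rc_6_1 lc_g_Cert_tree lc_g_rc_27_0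 lc_g_rc_24_1 lc_g_rc_12_1 lc_g_rc_17_1 lc_g_rc_6_1 lc_g_rc_12_1 lc_g_rc_17_1 lc_g_rc_12_1 lc_g_Cert_tree lc_g_rc_27_0 lc_g_rc_12_3 lc_g_rc_27_0 lc_g_rc_27_1 lc_g_rc_27_0 lc_g_rc_24_1 lc_g_rc_27_0 lc_g_rc_12_3 lc_g_rc_17_1 lc_g_rc_24_3 lc_g_rc_17_1) (@D3.rec (fun _ => (Cert rels S Gen.g)) lc_g_rc_17_1 lc_g_rc_21_1 lc_g_rc_17_1 lc_g_rc_17_1 lc_g_rc_21_1 lc_g_rc_17_1 lc_g_rc_12_1 lc_g_rc_17_1 lc_g_rc_17_1 lc_g_rc_21_1 lc_g_rc_17_1 lc_g_rc_21_3 lc_g_rc_27_0 lc_g_rc_21_1 lc_g_rc_24_1 lc_g_rc_12_1 lc_g_rc_21_1 lc_g_rc_12_3 lc_g_rc_27_0 lc_g_rc_6_3 lc_g_rc_27_0 lc_g_rc_27_0 lc_g_rc_12_3 lc_g_rc_6_1 lc_g_rc_12_3 lc_g_Cert_tree lc_g_rc_21_1 lc_g_rc_12_1 lc_g_rc_24_1 lc_g_rc_24_3 lc_g_rc_27_0 lc_g_rc_6_1 lc_g_rc_12_3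 lc_g_rc_6_3 lc_g_rc_6_1 lc_g_rc_29_3 lc_g_rc_29_3 lc_g_Cert_tree lc_g_rc_6_3 lc_g_rc_17_3) (@D3.rec (fun _ => (Cert rels S Gen.g)) lc_g_rc_27_0 lc_g_rc_21_1 lc_g_Cert_tree lc_g_rc_29_1 lc_g_rc_27_0 lc_g_rc_17_1 lc_g_rc_6_1 lc_g_rc_6_1 lc_g_rc_6_1 lc_g_rc_17_1 lc_g_rc_17_1 lc_g_rc_12_3 lc_g_rc_6_3 lc_g_rc_6_3 lc_g_Cert_tree lc_g_Cert_tree lc_g_rc_27_0 lc_g_rc_27_0 lc_g_rc_6_1 lc_g_rc_17_1 lc_g_rc_6_1 lc_g_rc_17_1 lc_g_rc_6_1 lc_g_rc_21_1 lc_g_rc_6_1 lc_g_rc_21_1 lc_g_rc_17_1 lc_g_rc_12_3 lc_g_rc_27_0 lc_g_rc_12_3 lc_g_rc_6_1 lc_g_rc_24_1 lc_g_Cert_tree lc_g_rc_24_1 lc_g_rc_12_3 lc_g_rc_6_1 lc_g_rc_27_0 lc_g_rc_12_3 lc_g_rc_29_1 lc_g_rc_17_1) (@D3.rec (fun _ => (Cert rels S Gen.g)) lc_g_rc_12_3 lc_g_rc_12_3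 lc_g_rc_12_5 lc_g_rc_17_1 lc_g_rc_6_1 lc_g_rc_29_3 lc_g_rc_27_0 lc_g_rc_29_1 lc_g_Cert_tree lc_g_Cert_tree lc_g_rc_27_0 lc_g_Cert_tree lc_g_Cert_tree lc_g_rc_29_1 lc_g_Cert_tree lc_g_rc_27_0 lc_g_Cert_tree lc_g_rc_24_1 lc_g_rc_12_3 lc_g_rc_17_1 lc_g_rc_21_1 lc_g_rc_12_3 lc_g_rc_29_1 lc_g_rc_17_1 lc_g_rc_21_1 lc_g_rc_17_1 lc_g_rc_17_1 lc_g_rc_12_3 lc_g_rc_12_1 lc_g_rc_29_1 lc_g_rc_12_3 lc_g_rc_21_1 lc_g_rc_6_1 lc_g_rc_17_1 lc_g_rc_29_1 lc_g_rc_17_1 lc_g_rc_24_1 lc_g_rc_6_1 lc_g_Cert_tree lc_g_rc_21_1)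
def ce_g_18 : D2 → D3 → (Cert rels S Gen.g) := @D2.rec (fun _ => D3 → (Cert rels S Gen.g)) (@D3.rec (fun _ => (Cert rels S Gen.g)) lc_g_rc_12_3 lc_g_Cert_tree lc_g_rc_24_3 lc_g_rc_27_0 lc_g_rc_6_1 lc_g_rc_12_3 lc_g_rc_17_1 lc_g_rc_24_1 lc_g_rc_29_1 lc_g_rc_12_1 lc_g_rc_21_1 lc_g_rc_21_1 lc_g_rc_6_1 lc_g_Cert_tree lc_g_rc_27_0 lc_g_rc_24_1 lc_g_Cert_tree lc_g_rc_24_1 lc_g_rc_12_3 lc_g_rc_6_1 lc_g_rc_27_1 lc_g_rc_12_3 lc_g_rc_17_1 lc_g_rc_12_3 lc_g_rc_27_0 lc_g_rc_21_1 lc_g_rc_17_1 lc_g_rc_12_5 lc_g_rc_27_0 lc_g_rc_29_3 lc_g_Cert_tree lc_g_rc_17_1 lc_g_rc_29_3 lc_g_rc_29_3 lc_g_rc_21_3 lc_g_rc_27_1 lc_g_rc_27_0 lc_g_Cert_tree lc_g_rc_6_3 lc_g_rc_27_0) (@D3.rec (fun _ => (Cert rels S Gen.g)) lc_g_rc_12_3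 lc_g_rc_27_0 lc_g_Cert_tree lc_g_Cert_tree lc_g_rc_27_0 lc_g_rc_27_1 lc_g_rc_27_0 lc_g_rc_6_1 lc_g_rc_29_1 lc_g_rc_21_3 lc_g_rc_6_3 lc_g_rc_27_0 lc_g_Cert_tree lc_g_rc_12_1 lc_g_rc_27_0 lc_g_Cert_tree lc_g_rc_21_1 lc_g_rc_27_0 lc_g_Cert_tree lc_g_rc_27_0 lc_g_rc_6_3 lc_g_Cert_tree lc_g_rc_27_0 lc_g_rc_12_3 lc_g_Cert_tree lc_g_rc_12_3 lc_g_rc_27_0 lc_g_rc_6_3 lc_g_rc_31_5 lc_g_rc_27_1 lc_g_rc_27_0 lc_g_rc_6_1 lc_g_Cert_tree lc_g_rc_17_1 lc_g_Cert_tree lc_g_rc_6_1 lc_g_rc_6_3 lc_g_rc_12_3 lc_g_rc_29_3 lc_g_rc_27_0) (@D3.rec (fun _ => (Cert rels S Gen.g)) lc_g_rc_29_1 lc_g_Cert_tree lc_g_Cert_tree lc_g_rc_27_0 lc_g_rc_27_0 lc_g_rc_21_1 lc_g_rc_29_1 lc_g_rc_27_1 lc_g_rc_29_1 lc_g_rc_31_2 lc_g_rc_27_0 lc_g_rc_24_3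 lc_g_rc_6_3 lc_g_rc_6_3 lc_g_Cert_tree lc_g_rc_27_0 lc_g_rc_27_0 lc_g_rc_12_3 lc_g_rc_29_3 lc_g_rc_27_0 lc_g_rc_12_3 lc_g_rc_6_1 lc_g_Cert_tree lc_g_Cert_tree lc_g_Cert_tree lc_g_rc_27_0 lc_g_rc_27_0 lc_g_rc_12_3 lc_g_rc_29_3 lc_g_rc_17_3 lc_g_rc_6_1 lc_g_rc_6_1 lc_g_rc_17_1 lc_g_rc_6_1 lc_g_Cert_tree lc_g_Cert_tree lc_g_Cert_tree lc_g_Cert_tree lc_g_Cert_tree lc_g_rc_27_0) (@D3.rec (fun _ => (Cert rels S Gen.g)) lc_g_rc_17_1 lc_g_rc_21_1 lc_g_rc_17_1 lc_g_rc_24_1 lc_g_rc_21_1 lc_g_rc_6_1 lc_g_rc_21_1 lc_g_rc_17_1 lc_g_rc_17_1 lc_g_rc_24_1 lc_g_rc_26_7 lc_g_rc_17_3 lc_g_rc_24_3 lc_g_rc_12_1 lc_g_rc_27_0 lc_g_Cert_tree lc_g_rc_17_1 lc_g_rc_6_1 lc_g_rc_24_1 lc_g_rc_21_1 lc_g_rc_6_1 lc_g_rc_12_3 lc_g_rc_31_11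 lc_g_rc_21_1 lc_g_rc_17_1 lc_g_rc_27_0 lc_g_rc_12_1 lc_g_rc_21_3 lc_g_rc_27_0 lc_g_rc_21_1 lc_g_rc_21_1 lc_g_rc_12_3 lc_g_rc_27_0 lc_g_rc_6_3 lc_g_rc_17_1 lc_g_Cert_tree lc_g_Cert_tree lc_g_rc_6_3 lc_g_rc_27_0 lc_g_rc_27_0) (@D3.rec (fun _ => (Cert rels S Gen.g)) lc_g_rc_6_3 lc_g_Cert_tree lc_g_rc_29_1 lc_g_Cert_tree lc_g_rc_27_0 lc_g_rc_24_3 lc_g_rc_12_1 lc_g_rc_27_0 lc_g_rc_17_1 lc_g_rc_17_3 lc_g_rc_27_0 lc_g_rc_6_3 lc_g_rc_21_1 lc_g_rc_29_1 lc_g_rc_12_1 lc_g_rc_29_1 lc_g_rc_6_1 lc_g_rc_6_1 lc_g_Cert_tree lc_g_rc_27_0 lc_g_rc_12_3 lc_g_rc_21_3 lc_g_Cert_tree lc_g_rc_27_0 lc_g_rc_27_0 lc_g_rc_12_3 lc_g_rc_21_3 lc_g_Cert_tree lc_g_rc_6_1 lc_g_rc_27_0 lc_g_rc_21_3 lc_g_rc_17_1 lc_g_rc_17_1 lc_g_rc_6_3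 lc_g_rc_29_3 lc_g_rc_27_0 lc_g_rc_21_3 lc_g_rc_12_3 lc_g_rc_6_1 lc_g_rc_17_1) (@D3.rec (fun _ => (Cert rels S Gen.g)) lc_g_rc_6_1 lc_g_Cert_tree lc_g_rc_6_3 lc_g_rc_27_0 lc_g_rc_27_0 lc_g_rc_12_3 lc_g_Cert_tree lc_g_rc_27_0 lc_g_rc_27_0 lc_g_rc_17_1 lc_g_rc_12_3 lc_g_rc_17_1 lc_g_rc_6_1 lc_g_rc_21_1 lc_g_rc_6_1 lc_g_rc_27_0 lc_g_rc_29_3 lc_g_rc_27_0 lc_g_rc_29_3 lc_g_rc_17_1 lc_g_rc_29_1 lc_g_rc_29_3 lc_g_rc_27_0 lc_g_rc_21_3 lc_g_rc_17_1 lc_g_rc_26_1 lc_g_rc_24_1 lc_g_rc_6_1 lc_g_rc_17_1 lc_g_rc_31_2 lc_g_rc_21_1 lc_g_rc_12_3 lc_g_rc_6_1 lc_g_rc_17_1 lc_g_rc_24_1 lc_g_rc_29_3 lc_g_rc_12_3 lc_g_rc_29_3 lc_g_rc_6_1 lc_g_rc_17_1) (@D3.rec (fun _ => (Cert rels S Gen.g)) lc_g_rc_21_1 lc_g_rc_6_1 lc_g_rc_21_1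 lc_g_rc_12_3 lc_g_rc_12_5 lc_g_rc_27_0 lc_g_rc_17_1 lc_g_rc_17_1 lc_g_rc_29_1 lc_g_rc_24_1 lc_g_rc_29_1 lc_g_rc_29_1 lc_g_Cert_tree lc_g_rc_12_5 lc_g_rc_6_3 lc_g_rc_21_1 lc_g_rc_12_1 lc_g_rc_29_1 lc_g_rc_27_0 lc_g_rc_17_1 lc_g_rc_26_5 lc_g_rc_17_1 lc_g_rc_21_1 lc_g_rc_6_3 lc_g_rc_21_1 lc_g_rc_21_1 lc_g_rc_24_1 lc_g_rc_21_1 lc_g_Cert_tree lc_g_rc_21_1 lc_g_rc_17_1 lc_g_rc_12_3 lc_g_rc_24_1 lc_g_rc_6_1 lc_g_rc_6_1 lc_g_rc_6_1 lc_g_rc_27_0 lc_g_Cert_tree lc_g_Cert_tree lc_g_rc_27_0) (@D3.rec (fun _ => (Cert rels S Gen.g)) lc_g_rc_24_1 lc_g_rc_6_3 lc_g_Cert_tree lc_g_rc_29_3 lc_g_rc_27_0 lc_g_rc_24_1 lc_g_rc_26_5 lc_g_rc_17_1 lc_g_rc_27_0 lc_g_rc_12_3 lc_g_rc_6_3 lc_g_rc_29_1 lc_g_rc_21_1 lc_g_Cert_tree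 lc_g_rc_29_3 lc_g_rc_27_0 lc_g_Cert_tree lc_g_rc_27_0 lc_g_rc_21_1 lc_g_rc_6_1 lc_g_rc_12_3 lc_g_rc_29_3 lc_g_rc_29_1 lc_g_rc_17_1 lc_g_Cert_tree lc_g_rc_29_1 lc_g_rc_29_3 lc_g_rc_12_3 lc_g_rc_12_1 lc_g_rc_27_0 lc_g_rc_27_1 lc_g_rc_6_1 lc_g_rc_27_0 lc_g_rc_27_0 lc_g_rc_17_1 lc_g_rc_27_0 lc_g_rc_27_0 lc_g_rc_6_1 lc_g_rc_27_0 lc_g_rc_12_1) (@D3.rec (fun _ => (Cert rels S Gen.g)) lc_g_rc_21_1 lc_g_Cert_tree lc_g_rc_6_3 lc_g_rc_27_0 lc_g_rc_6_1 lc_g_Cert_tree lc_g_rc_21_1 lc_g_rc_27_0 lc_g_Cert_tree lc_g_rc_27_0 lc_g_rc_21_1 lc_g_rc_27_0 lc_g_rc_6_1 lc_g_rc_6_1 lc_g_rc_12_3 lc_g_rc_17_3 lc_g_Cert_tree lc_g_Cert_tree lc_g_rc_6_3 lc_g_rc_27_0 lc_g_Cert_tree lc_g_rc_27_0 lc_g_Cert_tree lc_g_rc_27_0 lc_g_rc_12_5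 lc_g_rc_6_1 lc_g_rc_17_3 lc_g_rc_21_3 lc_g_rc_31_11 lc_g_Cert_tree lc_g_rc_29_1 lc_g_rc_27_0 lc_g_rc_6_3 lc_g_rc_17_1 lc_g_Cert_tree lc_g_Cert_tree lc_g_rc_27_0 lc_g_rc_31_2 lc_g_rc_12_1 lc_g_rc_27_0) (@D3.rec (fun _ => (Cert rels S Gen.g)) lc_g_rc_17_1 lc_g_rc_17_3 lc_g_rc_27_0 lc_g_rc_6_3 lc_g_rc_21_1 lc_g_rc_17_1 lc_g_rc_12_3 lc_g_rc_29_1 lc_g_rc_21_1 lc_g_rc_6_1 lc_g_Cert_tree lc_g_Cert_tree lc_g_rc_26_3 lc_g_rc_17_3 lc_g_rc_21_1 lc_g_rc_27_0 lc_g_rc_12_3 lc_g_rc_29_3 lc_g_rc_12_5 lc_g_rc_29_1 lc_g_rc_12_3 lc_g_rc_6_1 lc_g_rc_12_3 lc_g_Cert_tree lc_g_Cert_tree lc_g_rc_27_0 lc_g_Cert_tree lc_g_Cert_tree lc_g_rc_27_0 lc_g_rc_12_3 lc_g_rc_21_3 lc_g_rc_12_1 lc_g_rc_17_3 lc_g_rc_27_0 lc_g_rc_27_0 lc_g_rc_29_1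 lc_g_rc_29_1 lc_g_rc_17_3 lc_g_rc_6_1 lc_g_rc_6_3) (@D3.rec (fun _ => (Cert rels S Gen.g)) lc_g_rc_17_1 lc_g_rc_12_3 lc_g_rc_27_0 lc_g_rc_12_5 lc_g_rc_27_0 lc_g_rc_24_1 lc_g_rc_21_1 lc_g_rc_21_1 lc_g_rc_21_3 lc_g_Cert_tree lc_g_rc_27_0 lc_g_rc_27_0 lc_g_rc_12_3 lc_g_rc_12_3 lc_g_rc_21_1 lc_g_rc_29_1 lc_g_rc_17_1 lc_g_rc_17_1 lc_g_rc_21_1 lc_g_rc_6_3 lc_g_Cert_tree lc_g_Cert_tree lc_g_rc_6_1 lc_g_rc_27_0 lc_g_rc_17_3 lc_g_rc_6_3 lc_g_rc_12_3 lc_g_rc_27_0 lc_g_rc_12_3 lc_g_Cert_tree lc_g_rc_27_0 lc_g_rc_12_1 lc_g_Cert_tree lc_g_rc_6_1 lc_g_rc_27_0 lc_g_rc_21_1 lc_g_rc_27_0 lc_g_rc_21_1 lc_g_rc_12_3 lc_g_rc_29_1) (@D3.rec (fun _ => (Cert rels S Gen.g)) lc_g_rc_17_1 lc_g_rc_12_3 lc_g_rc_29_1 lc_g_rc_12_3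 lc_g_rc_21_3 lc_g_rc_6_1 lc_g_rc_29_3 lc_g_rc_17_1 lc_g_rc_29_1 lc_g_rc_27_0 lc_g_rc_29_1 lc_g_rc_21_1 lc_g_rc_12_3 lc_g_rc_12_1 lc_g_rc_24_1 lc_g_rc_21_1 lc_g_rc_12_1 lc_g_rc_17_3 lc_g_Cert_tree lc_g_rc_6_3 lc_g_rc_27_0 lc_g_rc_29_1 lc_g_Cert_tree lc_g_Cert_tree lc_g_rc_27_0 lc_g_Cert_tree lc_g_rc_27_0 lc_g_rc_27_0 lc_g_rc_12_3 lc_g_rc_6_1 lc_g_rc_12_3 lc_g_rc_17_1 lc_g_rc_17_3 lc_g_rc_12_3 lc_g_rc_6_1 lc_g_rc_12_3 lc_g_rc_6_3 lc_g_rc_6_1 lc_g_rc_29_3 lc_g_rc_21_1) (@D3.rec (fun _ => (Cert rels S Gen.g)) lc_g_rc_29_3 lc_g_rc_17_1 lc_g_rc_26_5 lc_g_rc_17_3 lc_g_rc_29_1 lc_g_rc_29_3 lc_g_rc_24_1 lc_g_Cert_tree lc_g_rc_27_0 lc_g_rc_29_1 lc_g_rc_6_1 lc_g_rc_31_5 lc_g_rc_29_3 lc_g_rc_6_1 lc_g_rc_12_3 lc_g_rc_17_1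 lc_g_rc_24_1 lc_g_rc_29_1 lc_g_rc_29_3 lc_g_rc_6_1 lc_g_rc_6_1 lc_g_rc_29_1 lc_g_rc_29_3 lc_g_rc_17_1 lc_g_rc_17_3 lc_g_rc_29_3 lc_g_rc_17_1 lc_g_rc_29_3 lc_g_rc_6_1 lc_g_rc_21_1 lc_g_rc_6_1 lc_g_Cert_tree lc_g_rc_29_1 lc_g_rc_6_3 lc_g_rc_12_1 lc_g_rc_29_1 lc_g_rc_17_3 lc_g_rc_27_0 lc_g_rc_17_3 lc_g_rc_27_0) (@D3.rec (fun _ => (Cert rels S Gen.g)) lc_g_rc_21_1 lc_g_rc_17_1 lc_g_rc_24_1 lc_g_rc_6_1 lc_g_rc_6_3 lc_g_rc_24_1 lc_g_rc_17_1 lc_g_rc_6_1 lc_g_rc_17_1 lc_g_rc_21_1 lc_g_rc_17_1 lc_g_rc_17_1 lc_g_rc_29_3 lc_g_rc_12_3 lc_g_rc_12_1 lc_g_rc_6_1 lc_g_rc_29_3 lc_g_rc_6_1 lc_g_rc_21_1 lc_g_rc_27_0 lc_g_rc_6_1 lc_g_rc_21_1 lc_g_rc_6_1 lc_g_rc_21_1 lc_g_rc_12_1 lc_g_rc_6_1 lc_g_rc_17_1 lc_g_rc_24_1 lc_g_rc_6_1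 lc_g_rc_17_1 lc_g_rc_21_1 lc_g_rc_6_1 lc_g_rc_21_1 lc_g_rc_6_1 lc_g_rc_17_1 lc_g_rc_24_1 lc_g_rc_21_1 lc_g_rc_12_1 lc_g_rc_17_3 lc_g_rc_17_3) (@D3.rec (fun _ => (Cert rels S Gen.g)) lc_g_rc_17_1 lc_g_rc_6_3 lc_g_rc_24_1 lc_g_Cert_tree lc_g_rc_17_1 lc_g_rc_17_1 lc_g_rc_29_1 lc_g_rc_6_1 lc_g_rc_17_3 lc_g_rc_31_2 lc_g_rc_12_3 lc_g_rc_21_1 lc_g_rc_27_0 lc_g_rc_29_3 lc_g_rc_17_1 lc_g_rc_21_1 lc_g_rc_17_1 lc_g_rc_21_1 lc_g_rc_21_1 lc_g_Cert_tree lc_g_rc_27_0 lc_g_rc_12_3 lc_g_rc_24_1 lc_g_rc_6_1 lc_g_rc_12_1 lc_g_rc_6_3 lc_g_rc_17_3 lc_g_rc_27_0 lc_g_rc_27_0 lc_g_rc_29_1 lc_g_rc_12_3 lc_g_rc_21_1 lc_g_rc_24_1 lc_g_rc_27_0 lc_g_rc_17_1 lc_g_rc_31_8 lc_g_rc_29_1 lc_g_rc_17_1 lc_g_rc_24_1 lc_g_rc_6_1) (@D3.rec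 (fun _ => (Cert rels S Gen.g)) lc_g_rc_17_1 lc_g_rc_21_1 lc_g_rc_21_1 lc_g_rc_17_3 lc_g_rc_21_1 lc_g_Cert_tree lc_g_rc_27_0 lc_g_rc_27_0 lc_g_rc_12_3 lc_g_rc_21_3 lc_g_rc_24_1 lc_g_rc_17_1 lc_g_rc_12_3 lc_g_rc_12_1 lc_g_rc_12_1 lc_g_rc_27_0 lc_g_rc_31_5 lc_g_rc_27_0 lc_g_rc_6_1 lc_g_rc_27_0 lc_g_rc_27_0 lc_g_Cert_tree lc_g_rc_21_1 lc_g_rc_6_3 lc_g_rc_27_0 lc_g_Cert_tree lc_g_Cert_tree lc_g_rc_27_0 lc_g_rc_17_1 lc_g_rc_21_1 lc_g_rc_27_0 lc_g_rc_24_1 lc_g_rc_27_0 lc_g_rc_29_3 lc_g_rc_24_1 lc_g_rc_17_1 lc_g_rc_21_1 lc_g_rc_17_1 lc_g_rc_29_1 lc_g_rc_21_3) (@D3.rec (fun _ => (Cert rels S Gen.g)) lc_g_rc_27_0 lc_g_Cert_tree lc_g_rc_6_3 lc_g_rc_27_0 lc_g_rc_31_2 lc_g_Cert_tree lc_g_rc_27_0 lc_g_rc_17_1 lc_g_rc_27_0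 lc_g_rc_6_1 lc_g_rc_6_1 lc_g_rc_27_0 lc_g_rc_12_3 lc_g_rc_29_3 lc_g_rc_27_0 lc_g_rc_12_3 lc_g_rc_12_3 lc_g_rc_29_3 lc_g_rc_6_1 lc_g_rc_21_1 lc_g_rc_27_0 lc_g_rc_6_1 lc_g_rc_21_1 lc_g_rc_21_1 lc_g_rc_6_1 lc_g_rc_27_0 lc_g_rc_21_1 lc_g_rc_27_0 lc_g_rc_12_3 lc_g_Cert_tree lc_g_rc_27_0 lc_g_rc_27_0 lc_g_rc_31_2 lc_g_rc_12_1 lc_g_rc_24_1 lc_g_Cert_tree lc_g_rc_27_0 lc_g_rc_6_3 lc_g_rc_27_0 lc_g_rc_12_3) (@D3.rec (fun _ => (Cert rels S Gen.g)) lc_g_rc_17_1 lc_g_rc_17_1 lc_g_rc_29_1 lc_g_rc_27_0 lc_g_Cert_tree lc_g_rc_17_3 lc_g_rc_27_0 lc_g_rc_17_3 lc_g_rc_17_1 lc_g_rc_17_1 lc_g_rc_27_0 lc_g_rc_6_1 lc_g_Cert_tree lc_g_rc_27_0 lc_g_rc_6_3 lc_g_rc_12_3 lc_g_rc_6_1 lc_g_rc_21_1 lc_g_rc_29_1 lc_g_rc_29_3 lc_g_rc_21_1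 lc_g_rc_27_0 lc_g_rc_27_0 lc_g_rc_31_5 lc_g_rc_12_1 lc_g_rc_17_1 lc_g_rc_29_1 lc_g_rc_21_1 lc_g_rc_17_1 lc_g_rc_17_1 lc_g_Cert_tree lc_g_rc_6_3 lc_g_rc_27_0 lc_g_rc_27_0 lc_g_rc_6_3 lc_g_Cert_tree lc_g_rc_21_1 lc_g_rc_27_0 lc_g_Cert_tree lc_g_rc_21_3) (@D3.rec (fun _ => (Cert rels S Gen.g)) lc_g_rc_27_0 lc_g_rc_27_0 lc_g_rc_6_1 lc_g_rc_27_0 lc_g_rc_17_1 lc_g_rc_27_0 lc_g_rc_6_1 lc_g_rc_12_3 lc_g_rc_17_1 lc_g_rc_21_1 lc_g_rc_17_1 lc_g_rc_17_1 lc_g_rc_21_3 lc_g_rc_17_3 lc_g_rc_12_3 lc_g_rc_24_1 lc_g_rc_17_1 lc_g_rc_24_3 lc_g_rc_6_1 lc_g_rc_29_1 lc_g_rc_21_1 lc_g_Cert_tree lc_g_rc_27_0 lc_g_rc_29_1 lc_g_rc_27_0 lc_g_rc_29_1 lc_g_rc_17_1 lc_g_rc_17_3 lc_g_rc_27_0 lc_g_rc_27_0 lc_g_rc_27_0 lc_g_rc_27_0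 lc_g_rc_12_1 lc_g_rc_12_1 lc_g_rc_26_3 lc_g_Cert_tree lc_g_rc_27_0 lc_g_rc_21_1 lc_g_rc_24_1 lc_g_rc_12_3) (@D3.rec (fun _ => (Cert rels S Gen.g)) lc_g_rc_21_1 lc_g_rc_6_3 lc_g_rc_26_3 lc_g_rc_17_1 lc_g_Cert_tree lc_g_rc_27_0 lc_g_rc_27_0 lc_g_rc_12_3 lc_g_rc_6_1 lc_g_rc_6_1 lc_g_rc_6_3 lc_g_rc_21_3 lc_g_rc_27_0 lc_g_rc_21_1 lc_g_rc_12_3 lc_g_rc_17_1 lc_g_rc_21_1 lc_g_rc_24_1 lc_g_rc_17_1 lc_g_rc_24_1 lc_g_rc_21_1 lc_g_rc_21_1 lc_g_rc_17_3 lc_g_rc_27_0 lc_g_rc_12_1 lc_g_rc_21_1 lc_g_rc_17_1 lc_g_Cert_tree lc_g_rc_24_3 lc_g_rc_27_0 lc_g_rc_12_1 lc_g_rc_12_3 lc_g_rc_17_1 lc_g_rc_27_0 lc_g_rc_21_1 lc_g_rc_17_1 lc_g_rc_6_3 lc_g_rc_29_1 lc_g_rc_12_1 lc_g_rc_12_5) (@D3.rec (fun _ => (Cert rels S Gen.g))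 lc_g_rc_27_0 lc_g_rc_12_1 lc_g_rc_27_0 lc_g_rc_17_3 lc_g_rc_27_0 lc_g_rc_21_1 lc_g_rc_21_1 lc_g_rc_17_1 lc_g_rc_21_1 lc_g_rc_12_1 lc_g_rc_24_1 lc_g_rc_27_0 lc_g_rc_6_1 lc_g_rc_17_1 lc_g_rc_12_1 lc_g_rc_27_0 lc_g_rc_12_3 lc_g_rc_6_1 lc_g_rc_21_1 lc_g_rc_6_1 lc_g_rc_17_1 lc_g_rc_27_0 lc_g_rc_29_3 lc_g_rc_21_1 lc_g_rc_6_3 lc_g_rc_17_1 lc_g_rc_21_1 lc_g_rc_17_1 lc_g_rc_6_3 lc_g_Cert_tree lc_g_rc_31_11 lc_g_rc_21_1 lc_g_rc_27_0 lc_g_rc_24_1 lc_g_rc_17_1 lc_g_Cert_tree lc_g_rc_17_1 lc_g_rc_27_0 lc_g_rc_21_1 lc_g_rc_29_1) (@D3.rec (fun _ => (Cert rels S Gen.g)) lc_g_rc_29_3 lc_g_rc_21_1 lc_g_rc_24_1 lc_g_rc_17_3 lc_g_rc_21_1 lc_g_rc_24_1 lc_g_Cert_tree lc_g_rc_27_0 lc_g_rc_29_1 lc_g_rc_27_0 lc_g_rc_21_1 lc_g_rc_21_1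 lc_g_rc_27_0 lc_g_rc_29_1 lc_g_rc_27_1 lc_g_rc_21_3 lc_g_rc_21_3 lc_g_rc_17_1 lc_g_rc_6_3 lc_g_rc_21_1 lc_g_rc_6_1 lc_g_rc_29_1 lc_g_rc_21_1 lc_g_rc_6_3 lc_g_rc_27_0 lc_g_rc_27_0 lc_g_rc_12_1 lc_g_rc_12_3 lc_g_rc_27_0 lc_g_rc_12_1 lc_g_rc_6_1 lc_g_rc_21_3 lc_g_rc_12_3 lc_g_rc_12_3 lc_g_rc_21_1 lc_g_rc_24_1 lc_g_rc_12_3 lc_g_rc_21_1 lc_g_rc_21_1 lc_g_rc_24_3) (@D3.rec (fun _ => (Cert rels S Gen.g)) lc_g_rc_12_3 lc_g_rc_24_1 lc_g_rc_6_3 lc_g_rc_6_3 lc_g_rc_27_0 lc_g_rc_24_3 lc_g_rc_29_1 lc_g_rc_29_3 lc_g_rc_17_1 lc_g_Cert_tree lc_g_Cert_tree lc_g_rc_27_0 lc_g_rc_17_3 lc_g_rc_27_0 lc_g_rc_29_3 lc_g_rc_27_0 lc_g_rc_6_1 lc_g_rc_17_1 lc_g_rc_21_1 lc_g_rc_17_1 lc_g_rc_29_1 lc_g_rc_29_1 lc_g_rc_27_0 lc_g_rc_29_3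 lc_g_Cert_tree lc_g_rc_27_0 lc_g_rc_17_1 lc_g_rc_29_1 lc_g_rc_24_3 lc_g_rc_17_1 lc_g_rc_27_0 lc_g_rc_24_3 lc_g_rc_6_3 lc_g_rc_27_0 lc_g_rc_6_3 lc_g_rc_12_3 lc_g_Cert_tree lc_g_rc_12_3 lc_g_rc_27_0 lc_g_rc_21_3) (@D3.rec (fun _ => (Cert rels S Gen.g)) lc_g_Cert_tree lc_g_rc_27_0 lc_g_rc_27_0 lc_g_rc_6_1 lc_g_rc_21_3 lc_g_rc_27_0 lc_g_rc_12_3 lc_g_rc_6_1 lc_g_Cert_tree lc_g_rc_27_0 lc_g_rc_12_3 lc_g_rc_17_1 lc_g_rc_27_0 lc_g_rc_21_1 lc_g_rc_17_1 lc_g_Cert_tree lc_g_rc_17_3 lc_g_rc_27_0 lc_g_Cert_tree lc_g_rc_27_0 lc_g_Cert_tree lc_g_rc_27_0 lc_g_rc_6_1 lc_g_rc_27_0 lc_g_rc_6_1 lc_g_rc_24_1 lc_g_rc_21_1 lc_g_rc_6_1 lc_g_rc_27_0 lc_g_rc_12_1 lc_g_rc_24_3 lc_g_rc_17_1 lc_g_rc_29_1 lc_g_rc_27_0 lc_g_rc_29_1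 lc_g_rc_24_3 lc_g_rc_29_3 lc_g_rc_12_3 lc_g_rc_27_0 lc_g_Cert_tree) (@D3.rec (fun _ => (Cert rels S Gen.g)) lc_g_rc_17_1 lc_g_rc_27_0 lc_g_rc_27_0 lc_g_rc_29_3 lc_g_Cert_tree lc_g_rc_6_3 lc_g_rc_27_0 lc_g_Cert_tree lc_g_rc_27_0 lc_g_rc_27_0 lc_g_rc_29_3 lc_g_rc_6_3 lc_g_rc_21_1 lc_g_rc_29_1 lc_g_rc_27_0 lc_g_rc_27_0 lc_g_rc_12_1 lc_g_rc_27_0 lc_g_rc_21_1 lc_g_Cert_tree lc_g_Cert_tree lc_g_Cert_tree lc_g_rc_21_1 lc_g_rc_27_0 lc_g_Cert_tree lc_g_rc_29_1 lc_g_rc_27_0 lc_g_rc_12_1 lc_g_rc_6_3 lc_g_rc_27_0 lc_g_rc_21_1 lc_g_rc_12_3 lc_g_rc_12_3 lc_g_rc_17_1 lc_g_rc_17_1 lc_g_rc_21_1 lc_g_rc_24_3 lc_g_rc_6_3 lc_g_rc_29_3 lc_g_rc_27_0) (@D3.rec (fun _ => (Cert rels S Gen.g)) lc_g_rc_17_1 lc_g_rc_6_1 lc_g_rc_27_0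 lc_g_rc_27_0 lc_g_rc_12_3 lc_g_rc_29_3 lc_g_rc_27_0 lc_g_rc_27_0 lc_g_rc_12_3 lc_g_rc_6_1 lc_g_rc_17_1 lc_g_rc_29_3 lc_g_rc_21_1 lc_g_rc_12_3 lc_g_rc_12_3 lc_g_rc_21_1 lc_g_rc_29_1 lc_g_rc_12_3 lc_g_rc_27_0 lc_g_rc_17_1 lc_g_Cert_tree lc_g_rc_27_0 lc_g_Cert_tree lc_g_rc_27_0 lc_g_rc_27_0 lc_g_rc_12_3 lc_g_rc_21_1 lc_g_rc_31_8 lc_g_rc_6_3 lc_g_rc_27_0 lc_g_rc_29_1 lc_g_rc_27_0 lc_g_rc_12_3 lc_g_rc_12_3 lc_g_rc_6_1 lc_g_rc_21_1 lc_g_rc_29_1 lc_g_Cert_tree lc_g_rc_27_0 lc_g_rc_27_0)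
def ce_g_19 : D2 → D3 → (Cert rels S Gen.g) := @D2.rec (fun _ => D3 → (Cert rels S Gen.g)) (@D3.rec (fun _ => (Cert rels S Gen.g)) lc_g_rc_27_0 lc_g_rc_6_3 lc_g_rc_12_5 lc_g_rc_12_3 lc_g_Cert_tree lc_g_rc_6_3 lc_g_rc_29_1 lc_g_rc_27_0 lc_g_Cert_tree lc_g_rc_17_1 lc_g_Cert_tree lc_g_rc_27_0 lc_g_Cert_tree lc_g_rc_21_3 lc_g_rc_17_1 lc_g_rc_27_0 lc_g_rc_27_0 lc_g_rc_29_3 lc_g_rc_6_3 lc_g_rc_6_3 lc_g_rc_27_0 lc_g_Cert_tree lc_g_rc_27_0 lc_g_rc_27_0 lc_g_rc_29_3 lc_g_Cert_tree lc_g_rc_6_1 lc_g_rc_29_3 lc_g_rc_27_0 lc_g_rc_12_3 lc_g_rc_27_0 lc_g_rc_12_3 lc_g_rc_6_1 lc_g_Cert_tree lc_g_rc_29_1 lc_g_Cert_tree lc_g_rc_17_1 lc_g_rc_27_0 lc_g_rc_17_1 lc_g_rc_29_1) (@D3.rec (fun _ => (Cert rels S Gen.g)) lc_g_rc_27_0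 lc_g_rc_21_3 lc_g_rc_6_3 lc_g_rc_27_0 lc_g_Cert_tree lc_g_rc_31_11 lc_g_rc_6_1 lc_g_rc_17_1 lc_g_rc_17_1 lc_g_rc_21_1 lc_g_rc_12_1 lc_g_rc_6_1 lc_g_rc_17_3 lc_g_rc_27_0 lc_g_rc_12_1 lc_g_rc_12_1 lc_g_rc_27_0 lc_g_rc_6_1 lc_g_rc_27_0 lc_g_rc_29_3 lc_g_rc_21_3 lc_g_rc_12_1 lc_g_rc_27_0 lc_g_rc_6_1 lc_g_rc_27_0 lc_g_rc_17_1 lc_g_Cert_tree lc_g_rc_21_1 lc_g_rc_12_3 lc_g_rc_12_1 lc_g_rc_17_1 lc_g_rc_12_5 lc_g_rc_27_0 lc_g_rc_6_1 lc_g_rc_21_1 lc_g_rc_6_1 lc_g_rc_24_3 lc_g_rc_27_0 lc_g_rc_21_1 lc_g_rc_27_0) (@D3.rec (fun _ => (Cert rels S Gen.g)) lc_g_rc_26_5 lc_g_rc_21_1 lc_g_rc_26_3 lc_g_rc_27_0 lc_g_rc_17_1 lc_g_rc_12_1 lc_g_rc_12_3 lc_g_rc_21_1 lc_g_rc_6_1 lc_g_rc_17_1 lc_g_rc_27_1 lc_g_rc_29_1 lc_g_rc_27_0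 lc_g_rc_6_1 lc_g_Cert_tree lc_g_rc_6_3 lc_g_rc_27_0 lc_g_rc_27_0 lc_g_rc_29_3 lc_g_rc_27_0 lc_g_rc_6_3 lc_g_rc_27_0 lc_g_rc_6_3 lc_g_rc_12_3 lc_g_Cert_tree lc_g_rc_29_1 lc_g_rc_27_0 lc_g_Cert_tree lc_g_rc_27_0 lc_g_rc_27_0 lc_g_rc_6_1 lc_g_rc_12_3 lc_g_rc_27_0 lc_g_rc_17_3 lc_g_rc_27_1 lc_g_rc_27_0 lc_g_rc_29_3 lc_g_rc_21_1 lc_g_rc_6_3 lc_g_rc_27_0) (@D3.rec (fun _ => (Cert rels S Gen.g)) lc_g_Cert_tree lc_g_rc_31_8 lc_g_Cert_tree lc_g_rc_6_3 lc_g_rc_27_0 lc_g_rc_21_3 lc_g_rc_27_0 lc_g_rc_27_0 lc_g_rc_6_1 lc_g_rc_24_1 lc_g_rc_29_1 lc_g_rc_27_0 lc_g_rc_21_1 lc_g_rc_27_0 lc_g_rc_24_1 lc_g_rc_26_3 lc_g_rc_21_1 lc_g_rc_24_1 lc_g_rc_12_3 lc_g_rc_6_1 lc_g_Cert_tree lc_g_rc_12_3 lc_g_rc_27_0 lc_g_rc_27_0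 lc_g_rc_12_3 lc_g_rc_6_1 lc_g_rc_17_1 lc_g_rc_27_0 lc_g_rc_12_3 lc_g_rc_27_0 lc_g_rc_6_1 lc_g_rc_6_1 lc_g_rc_12_3 lc_g_rc_6_1 lc_g_rc_12_1 lc_g_rc_21_1 lc_g_rc_21_1 lc_g_rc_6_1 lc_g_rc_21_3 lc_g_rc_12_3) (@D3.rec (fun _ => (Cert rels S Gen.g)) lc_g_rc_24_1 lc_g_rc_24_1 lc_g_rc_17_3 lc_g_rc_27_0 lc_g_rc_17_1 lc_g_rc_6_3 lc_g_rc_12_3 lc_g_rc_24_1 lc_g_rc_21_3 lc_g_rc_12_3 lc_g_rc_12_1 lc_g_rc_24_1 lc_g_rc_27_0 lc_g_rc_29_1 lc_g_rc_17_1 lc_g_rc_6_3 lc_g_rc_27_0 lc_g_Cert_tree lc_g_rc_27_0 lc_g_rc_17_3 lc_g_rc_6_3 lc_g_rc_27_0 lc_g_rc_12_1 lc_g_rc_12_3 lc_g_rc_6_1 lc_g_Cert_tree lc_g_rc_27_0 lc_g_rc_27_0 lc_g_rc_6_1 lc_g_rc_12_1 lc_g_rc_12_1 lc_g_rc_17_3 lc_g_rc_17_1 lc_g_rc_6_3 lc_g_Cert_tree lc_g_rc_6_3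 lc_g_rc_27_0 lc_g_rc_17_1 lc_g_rc_27_0 lc_g_rc_27_0) (@D3.rec (fun _ => (Cert rels S Gen.g)) lc_g_rc_6_1 lc_g_rc_12_1 lc_g_rc_21_1 lc_g_rc_12_1 lc_g_Cert_tree lc_g_rc_6_3 lc_g_rc_27_0 lc_g_rc_6_3 lc_g_rc_27_0 lc_g_rc_21_3 lc_g_rc_27_0 lc_g_Cert_tree lc_g_rc_27_0 lc_g_rc_27_0 lc_g_rc_6_1 lc_g_rc_27_0 lc_g_rc_6_1 lc_g_rc_6_1 lc_g_rc_12_3 lc_g_rc_12_1 lc_g_rc_27_0 lc_g_rc_24_1 lc_g_rc_27_0 lc_g_rc_27_0 lc_g_rc_6_1 lc_g_rc_27_0 lc_g_rc_12_3 lc_g_rc_6_1 lc_g_rc_12_1 lc_g_rc_12_3 lc_g_rc_12_3 lc_g_rc_27_0 lc_g_rc_29_3 lc_g_rc_17_1 lc_g_rc_12_1 lc_g_rc_12_3 lc_g_rc_21_1 lc_g_rc_6_3 lc_g_Cert_tree lc_g_Cert_tree) (@D3.rec (fun _ => (Cert rels S Gen.g)) lc_g_rc_27_0 lc_g_rc_27_0 lc_g_rc_12_3 lc_g_rc_27_0 lc_g_rc_12_3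 lc_g_rc_12_3 lc_g_rc_29_1 lc_g_rc_27_0 lc_g_rc_6_1 lc_g_rc_21_1 lc_g_rc_6_3 lc_g_rc_27_0 lc_g_rc_27_0 lc_g_rc_6_1 lc_g_rc_24_1 lc_g_rc_12_3 lc_g_rc_12_1 lc_g_rc_21_1 lc_g_Cert_tree lc_g_rc_27_0 lc_g_rc_31_5 lc_g_rc_27_0 lc_g_rc_6_1 lc_g_rc_6_1 lc_g_rc_21_1 lc_g_Cert_tree lc_g_rc_27_0 lc_g_rc_17_3 lc_g_rc_27_0 lc_g_Cert_tree lc_g_rc_27_0 lc_g_rc_12_3 lc_g_rc_6_1 lc_g_rc_24_3 lc_g_rc_27_0 lc_g_rc_21_1 lc_g_rc_21_1 lc_g_rc_31_8 lc_g_rc_26_3 lc_g_rc_24_1) (@D3.rec (fun _ => (Cert rels S Gen.g)) lc_g_rc_17_1 lc_g_rc_21_1 lc_g_rc_29_1 lc_g_rc_21_3 lc_g_rc_21_1 lc_g_rc_12_1 lc_g_rc_12_1 lc_g_rc_6_1 lc_g_rc_21_1 lc_g_rc_17_1 lc_g_rc_12_1 lc_g_rc_6_1 lc_g_Cert_tree lc_g_rc_21_1 lc_g_rc_29_3 lc_g_rc_26_1 lc_g_rc_27_0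 lc_g_rc_12_3 lc_g_rc_21_1 lc_g_rc_6_1 lc_g_Cert_tree lc_g_rc_29_1 lc_g_rc_27_0 lc_g_rc_12_3 lc_g_rc_12_3 lc_g_Cert_tree lc_g_rc_27_0 lc_g_rc_12_3 lc_g_Cert_tree lc_g_rc_6_3 lc_g_rc_27_0 lc_g_rc_21_1 lc_g_rc_17_1 lc_g_rc_6_1 lc_g_rc_12_3 lc_g_rc_21_1 lc_g_rc_6_3 lc_g_rc_6_3 lc_g_rc_6_3 lc_g_Cert_tree) (@D3.rec (fun _ => (Cert rels S Gen.g)) lc_g_rc_17_1 lc_g_rc_27_0 lc_g_rc_21_1 lc_g_rc_17_1 lc_g_rc_12_1 lc_g_rc_12_3 lc_g_rc_21_1 lc_g_rc_17_1 lc_g_rc_17_1 lc_g_rc_17_1 lc_g_rc_21_1 lc_g_rc_21_1 lc_g_Cert_tree lc_g_rc_27_0 lc_g_rc_21_1 lc_g_rc_27_0 lc_g_rc_27_0 lc_g_rc_12_1 lc_g_rc_21_1 lc_g_rc_17_1 lc_g_rc_6_3 lc_g_rc_17_1 lc_g_rc_27_0 lc_g_Cert_tree lc_g_rc_27_0 lc_g_rc_29_1 lc_g_rc_21_3 lc_g_rc_27_0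 lc_g_rc_12_3 lc_g_rc_24_1 lc_g_rc_27_0 lc_g_rc_12_3 lc_g_rc_12_1 lc_g_rc_12_1 lc_g_rc_12_3 lc_g_rc_21_3 lc_g_rc_17_1 lc_g_rc_27_0 lc_g_rc_21_1 lc_g_rc_21_1) (@D3.rec (fun _ => (Cert rels S Gen.g)) lc_g_rc_29_3 lc_g_rc_29_3 lc_g_rc_17_1 lc_g_rc_29_1 lc_g_rc_27_0 lc_g_rc_6_1 lc_g_rc_12_3 lc_g_rc_27_0 lc_g_rc_17_1 lc_g_rc_31_2 lc_g_rc_27_0 lc_g_rc_6_1 lc_g_rc_21_1 lc_g_rc_29_1 lc_g_rc_29_3 lc_g_rc_21_1 lc_g_rc_29_1 lc_g_rc_27_0 lc_g_rc_31_5 lc_g_rc_6_3 lc_g_rc_27_0 lc_g_rc_6_1 lc_g_rc_27_0 lc_g_rc_29_3 lc_g_rc_29_3 lc_g_rc_27_0 lc_g_rc_17_1 lc_g_rc_21_1 lc_g_rc_17_1 lc_g_rc_17_1 lc_g_rc_21_1 lc_g_rc_6_3 lc_g_rc_29_3 lc_g_rc_17_1 lc_g_rc_29_3 lc_g_rc_6_1 lc_g_rc_12_3 lc_g_rc_29_1 lc_g_Cert_tree lc_g_rc_27_0)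 (@D3.rec (fun _ => (Cert rels S Gen.g)) lc_g_rc_6_1 lc_g_rc_12_1 lc_g_rc_21_1 lc_g_rc_21_1 lc_g_rc_17_1 lc_g_rc_21_1 lc_g_rc_29_3 lc_g_rc_17_1 lc_g_rc_24_1 lc_g_rc_17_1 lc_g_rc_31_8 lc_g_rc_12_3 lc_g_rc_17_1 lc_g_rc_29_3 lc_g_rc_21_1 lc_g_rc_6_1 lc_g_rc_27_0 lc_g_rc_26_1 lc_g_Cert_tree lc_g_rc_27_0 lc_g_rc_12_3 lc_g_rc_27_0 lc_g_rc_21_1 lc_g_rc_17_1 lc_g_rc_29_1 lc_g_rc_21_1 lc_g_rc_17_1 lc_g_rc_21_1 lc_g_rc_17_3 lc_g_rc_6_3 lc_g_rc_27_0 lc_g_rc_21_1 lc_g_rc_21_1 lc_g_rc_27_0 lc_g_rc_27_0 lc_g_rc_17_1 lc_g_rc_29_3 lc_g_rc_21_1 lc_g_rc_6_1 lc_g_rc_12_1) (@D3.rec (fun _ => (Cert rels S Gen.g)) lc_g_rc_27_0 lc_g_rc_27_0 lc_g_rc_6_3 lc_g_rc_27_0 lc_g_rc_17_1 lc_g_rc_24_1 lc_g_rc_17_1 lc_g_rc_6_3 lc_g_rc_17_1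 lc_g_rc_27_0 lc_g_rc_21_1 lc_g_rc_31_5 lc_g_rc_12_3 lc_g_rc_27_0 lc_g_rc_27_0 lc_g_rc_17_1 lc_g_rc_17_1 lc_g_rc_29_3 lc_g_rc_17_1 lc_g_rc_27_0 lc_g_rc_27_0 lc_g_rc_12_3 lc_g_rc_27_0 lc_g_rc_12_3 lc_g_rc_6_1 lc_g_rc_6_1 lc_g_rc_12_3 lc_g_rc_29_1 lc_g_rc_17_1 lc_g_rc_24_1 lc_g_Cert_tree lc_g_rc_29_1 lc_g_rc_27_0 lc_g_rc_12_3 lc_g_rc_27_0 lc_g_rc_24_1 lc_g_rc_12_3 lc_g_rc_17_1 lc_g_rc_21_1 lc_g_rc_6_1) (@D3.rec (fun _ => (Cert rels S Gen.g)) lc_g_Cert_tree lc_g_rc_27_0 lc_g_rc_21_1 lc_g_rc_27_0 lc_g_rc_6_1 lc_g_rc_17_3 lc_g_rc_6_1 lc_g_rc_6_1 lc_g_rc_17_1 lc_g_rc_17_1 lc_g_rc_12_3 lc_g_rc_12_3 lc_g_rc_21_1 lc_g_rc_6_1 lc_g_rc_29_1 lc_g_rc_27_0 lc_g_rc_29_1 lc_g_rc_6_1 lc_g_rc_17_3 lc_g_rc_17_1 lc_g_rc_17_1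 lc_g_rc_12_1 lc_g_rc_29_1 lc_g_Cert_tree lc_g_rc_27_0 lc_g_rc_24_1 lc_g_rc_12_3 lc_g_rc_6_3 lc_g_rc_24_3 lc_g_Cert_tree lc_g_rc_27_0 lc_g_Cert_tree lc_g_rc_27_0 lc_g_rc_27_0 lc_g_rc_27_0 lc_g_rc_6_1 lc_g_rc_21_1 lc_g_rc_17_1 lc_g_rc_21_1 lc_g_rc_24_1) (@D3.rec (fun _ => (Cert rels S Gen.g)) lc_g_rc_6_3 lc_g_rc_27_0 lc_g_rc_6_1 lc_g_rc_21_1 lc_g_rc_6_1 lc_g_rc_6_1 lc_g_rc_6_3 lc_g_rc_21_3 lc_g_rc_12_1 lc_g_rc_12_3 lc_g_rc_6_3 lc_g_Cert_tree lc_g_rc_27_0 lc_g_rc_27_0 lc_g_rc_29_1 lc_g_rc_6_1 lc_g_rc_21_3 lc_g_rc_27_0 lc_g_Cert_tree lc_g_rc_27_0 lc_g_rc_12_3 lc_g_rc_17_1 lc_g_rc_29_1 lc_g_Cert_tree lc_g_rc_27_0 lc_g_rc_27_1 lc_g_rc_17_3 lc_g_rc_12_1 lc_g_rc_27_0 lc_g_rc_12_3 lc_g_rc_17_1 lc_g_Cert_tree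 lc_g_rc_24_1 lc_g_rc_27_0 lc_g_rc_29_3 lc_g_Cert_tree lc_g_rc_29_1 lc_g_rc_24_1 lc_g_rc_12_3 lc_g_rc_29_3) (@D3.rec (fun _ => (Cert rels S Gen.g)) lc_g_rc_29_1 lc_g_rc_27_0 lc_g_rc_24_1 lc_g_rc_12_1 lc_g_rc_29_1 lc_g_rc_17_1 lc_g_rc_6_1 lc_g_rc_12_3 lc_g_rc_24_1 lc_g_rc_12_3 lc_g_rc_6_1 lc_g_rc_17_1 lc_g_rc_12_3 lc_g_rc_12_3 lc_g_rc_21_1 lc_g_rc_21_1 lc_g_rc_17_1 lc_g_rc_17_1 lc_g_rc_6_1 lc_g_rc_6_1 lc_g_rc_12_1 lc_g_rc_21_1 lc_g_rc_17_1 lc_g_rc_17_1 lc_g_rc_27_1 lc_g_rc_6_1 lc_g_rc_17_1 lc_g_rc_29_3 lc_g_rc_6_1 lc_g_rc_17_1 lc_g_rc_29_3 lc_g_rc_12_3 lc_g_rc_12_1 lc_g_rc_29_1 lc_g_rc_6_3 lc_g_rc_27_0 lc_g_rc_27_0 lc_g_rc_27_0 lc_g_rc_6_1 lc_g_rc_6_1) (@D3.rec (fun _ => (Cert rels S Gen.g)) lc_g_rc_17_1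 lc_g_rc_29_3 lc_g_rc_21_1 lc_g_rc_29_1 lc_g_Cert_tree lc_g_rc_27_0 lc_g_rc_17_1 lc_g_Cert_tree lc_g_rc_27_0 lc_g_rc_27_0 lc_g_rc_6_1 lc_g_rc_21_1 lc_g_rc_6_1 lc_g_Cert_tree lc_g_rc_24_3 lc_g_rc_21_1 lc_g_rc_27_0 lc_g_rc_31_8 lc_g_rc_6_3 lc_g_rc_17_3 lc_g_rc_27_0 lc_g_rc_6_1 lc_g_rc_17_1 lc_g_rc_24_1 lc_g_rc_29_1 lc_g_Cert_tree lc_g_rc_27_0 lc_g_rc_17_1 lc_g_rc_12_3 lc_g_Cert_tree lc_g_rc_27_0 lc_g_rc_27_0 lc_g_rc_27_0 lc_g_rc_12_3 lc_g_rc_12_1 lc_g_rc_6_3 lc_g_rc_21_1 lc_g_rc_27_0 lc_g_rc_24_1 lc_g_rc_17_1) (@D3.rec (fun _ => (Cert rels S Gen.g)) lc_g_rc_21_1 lc_g_rc_27_0 lc_g_rc_17_1 lc_g_rc_17_3 lc_g_rc_6_3 lc_g_rc_27_0 lc_g_rc_6_1 lc_g_rc_27_0 lc_g_rc_12_3 lc_g_rc_21_1 lc_g_rc_12_3 lc_g_rc_6_1 lc_g_rc_27_0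 lc_g_rc_6_1 lc_g_rc_21_1 lc_g_rc_6_1 lc_g_rc_6_1 lc_g_rc_6_1 lc_g_rc_21_1 lc_g_rc_29_1 lc_g_rc_12_3 lc_g_Cert_tree lc_g_rc_26_1 lc_g_rc_27_0 lc_g_rc_31_2 lc_g_rc_6_1 lc_g_rc_17_1 lc_g_rc_12_3 lc_g_rc_17_1 lc_g_rc_12_3 lc_g_rc_6_1 lc_g_rc_6_1 lc_g_rc_6_1 lc_g_rc_6_1 lc_g_rc_17_1 lc_g_rc_24_1 lc_g_Cert_tree lc_g_rc_27_0 lc_g_rc_12_3 lc_g_Cert_tree) (@D3.rec (fun _ => (Cert rels S Gen.g)) lc_g_rc_27_0 lc_g_rc_17_1 lc_g_rc_29_1 lc_g_rc_12_1 lc_g_rc_27_0 lc_g_rc_12_3 lc_g_rc_27_0 lc_g_rc_31_5 lc_g_rc_27_0 lc_g_rc_6_1 lc_g_rc_29_1 lc_g_rc_17_1 lc_g_rc_6_1 lc_g_rc_12_1 lc_g_rc_27_0 lc_g_rc_12_3 lc_g_rc_29_3 lc_g_Cert_tree lc_g_rc_27_0 lc_g_rc_27_0 lc_g_rc_29_3 lc_g_rc_12_3 lc_g_rc_17_1 lc_g_rc_27_0 lc_g_rc_29_3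 lc_g_rc_6_3 lc_g_rc_27_0 lc_g_rc_6_1 lc_g_rc_21_1 lc_g_Cert_tree lc_g_Cert_tree lc_g_rc_27_0 lc_g_rc_29_1 lc_g_Cert_tree lc_g_rc_27_0 lc_g_rc_12_3 lc_g_rc_6_1 lc_g_rc_6_1 lc_g_rc_17_1 lc_g_rc_21_3) (@D3.rec (fun _ => (Cert rels S Gen.g)) lc_g_Cert_tree lc_g_rc_27_1 lc_g_rc_27_0 lc_g_rc_17_1 lc_g_rc_12_1 lc_g_rc_31_11 lc_g_rc_29_3 lc_g_rc_6_3 lc_g_rc_27_0 lc_g_rc_17_1 lc_g_rc_29_1 lc_g_rc_24_1 lc_g_rc_27_0 lc_g_rc_24_1 lc_g_rc_17_1 lc_g_rc_26_5 lc_g_rc_29_3 lc_g_rc_17_1 lc_g_rc_29_3 lc_g_rc_12_3 lc_g_rc_29_3 lc_g_rc_21_1 lc_g_rc_29_3 lc_g_rc_27_0 lc_g_rc_29_1 lc_g_rc_12_3 lc_g_Cert_tree lc_g_rc_27_0 lc_g_rc_27_0 lc_g_rc_12_3 lc_g_rc_21_1 lc_g_rc_27_0 lc_g_rc_29_3 lc_g_rc_27_0 lc_g_rc_27_0 lc_g_rc_26_1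 lc_g_rc_27_0 lc_g_rc_27_0 lc_g_rc_17_1 lc_g_rc_6_1) (@D3.rec (fun _ => (Cert rels S Gen.g)) lc_g_rc_17_1 lc_g_rc_27_0 lc_g_rc_24_3 lc_g_rc_6_3 lc_g_rc_27_0 lc_g_rc_6_1 lc_g_rc_12_3 lc_g_Cert_tree lc_g_Cert_tree lc_g_rc_27_0 lc_g_rc_29_1 lc_g_rc_17_1 lc_g_rc_27_0 lc_g_rc_31_2 lc_g_rc_6_1 lc_g_rc_6_3 lc_g_Cert_tree lc_g_rc_27_0 lc_g_Cert_tree lc_g_rc_6_3 lc_g_rc_27_0 lc_g_rc_27_0 lc_g_rc_12_3 lc_g_rc_12_3 lc_g_rc_21_1 lc_g_rc_27_0 lc_g_rc_21_1 lc_g_rc_29_1 lc_g_rc_27_0 lc_g_rc_21_3 lc_g_rc_21_1 lc_g_rc_17_1 lc_g_rc_27_0 lc_g_rc_17_1 lc_g_rc_21_3 lc_g_rc_27_0 lc_g_rc_12_1 lc_g_rc_31_11 lc_g_rc_6_3 lc_g_rc_29_1) (@D3.rec (fun _ => (Cert rels S Gen.g)) lc_g_rc_29_1 lc_g_rc_29_1 lc_g_rc_6_1 lc_g_rc_29_1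 lc_g_rc_6_1 lc_g_rc_12_1 lc_g_rc_29_3 lc_g_rc_27_0 lc_g_rc_6_1 lc_g_rc_12_3 lc_g_rc_17_1 lc_g_rc_21_1 lc_g_rc_29_1 lc_g_rc_21_1 lc_g_rc_21_3 lc_g_rc_29_3 lc_g_rc_6_3 lc_g_rc_27_0 lc_g_rc_17_1 lc_g_rc_6_3 lc_g_rc_27_0 lc_g_rc_12_3 lc_g_rc_12_3 lc_g_rc_29_1 lc_g_rc_29_1 lc_g_rc_6_1 lc_g_rc_12_3 lc_g_rc_17_1 lc_g_rc_17_1 lc_g_rc_31_11 lc_g_rc_31_8 lc_g_rc_17_1 lc_g_rc_27_0 lc_g_rc_21_1 lc_g_rc_27_0 lc_g_rc_17_1 lc_g_rc_17_1 lc_g_rc_21_1 lc_g_rc_17_1 lc_g_rc_29_1) (@D3.rec (fun _ => (Cert rels S Gen.g)) lc_g_rc_21_1 lc_g_rc_27_0 lc_g_rc_27_0 lc_g_rc_27_0 lc_g_rc_17_1 lc_g_rc_6_1 lc_g_rc_6_1 lc_g_rc_17_1 lc_g_rc_17_3 lc_g_rc_27_0 lc_g_rc_12_3 lc_g_rc_6_1 lc_g_rc_21_1 lc_g_rc_21_1 lc_g_rc_17_1 lc_g_rc_21_1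 lc_g_rc_6_1 lc_g_Cert_tree lc_g_rc_27_0 lc_g_rc_27_0 lc_g_rc_29_3 lc_g_rc_21_1 lc_g_rc_27_0 lc_g_rc_6_1 lc_g_rc_27_0 lc_g_rc_12_3 lc_g_rc_27_0 lc_g_rc_12_3 lc_g_rc_6_1 lc_g_rc_17_1 lc_g_rc_31_8 lc_g_rc_17_1 lc_g_rc_21_1 lc_g_rc_29_3 lc_g_rc_29_3 lc_g_rc_29_1 lc_g_rc_6_1 lc_g_rc_6_1 lc_g_Cert_tree lc_g_rc_12_3) (@D3.rec (fun _ => (Cert rels S Gen.g)) lc_g_rc_27_0 lc_g_rc_29_3 lc_g_rc_21_3 lc_g_rc_27_0 lc_g_rc_6_3 lc_g_rc_27_0 lc_g_rc_12_3 lc_g_rc_6_1 lc_g_rc_6_3 lc_g_rc_17_1 lc_g_rc_24_1 lc_g_rc_21_1 lc_g_Cert_tree lc_g_rc_6_1 lc_g_Cert_tree lc_g_Cert_tree lc_g_Cert_tree lc_g_rc_27_0 lc_g_Cert_tree lc_g_rc_27_0 lc_g_rc_29_1 lc_g_rc_27_0 lc_g_rc_6_3 lc_g_rc_27_0 lc_g_rc_17_1 lc_g_rc_21_1 lc_g_rc_27_1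 lc_g_rc_12_3 lc_g_rc_12_3 lc_g_rc_17_3 lc_g_rc_12_3 lc_g_rc_12_1 lc_g_rc_6_1 lc_g_rc_24_1 lc_g_rc_6_1 lc_g_rc_27_0 lc_g_rc_12_3 lc_g_rc_17_1 lc_g_rc_29_1 lc_g_rc_27_0) (@D3.rec (fun _ => (Cert rels S Gen.g)) lc_g_rc_21_1 lc_g_rc_6_1 lc_g_rc_29_3 lc_g_rc_29_3 lc_g_rc_17_1 lc_g_rc_12_1 lc_g_rc_27_0 lc_g_rc_6_1 lc_g_Cert_tree lc_g_rc_27_0 lc_g_rc_27_0 lc_g_rc_27_0 lc_g_rc_17_1 lc_g_rc_17_1 lc_g_rc_17_1 lc_g_rc_6_1 lc_g_rc_29_1 lc_g_rc_12_3 lc_g_rc_27_0 lc_g_rc_12_1 lc_g_rc_26_1 lc_g_rc_26_3 lc_g_rc_24_3 lc_g_rc_12_1 lc_g_rc_27_0 lc_g_rc_6_1 lc_g_rc_12_1 lc_g_rc_27_0 lc_g_rc_27_0 lc_g_rc_6_1 lc_g_rc_17_1 lc_g_rc_21_3 lc_g_rc_6_3 lc_g_Cert_tree lc_g_rc_27_0 lc_g_rc_27_0 lc_g_rc_21_1 lc_g_Cert_tree lc_g_rc_27_0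 lc_g_rc_29_1) (@D3.rec (fun _ => (Cert rels S Gen.g)) lc_g_rc_27_0 lc_g_rc_6_3 lc_g_rc_12_1 lc_g_rc_6_1 lc_g_rc_27_0 lc_g_rc_21_1 lc_g_rc_12_3 lc_g_rc_17_1 lc_g_Cert_tree lc_g_rc_27_0 lc_g_rc_17_1 lc_g_rc_29_1 lc_g_rc_21_3 lc_g_rc_27_0 lc_g_rc_27_0 lc_g_rc_27_0 lc_g_rc_12_3 lc_g_rc_17_1 lc_g_rc_27_0 lc_g_rc_31_2 lc_g_rc_17_1 lc_g_rc_6_1 lc_g_rc_12_3 lc_g_rc_21_3 lc_g_rc_27_0 lc_g_rc_12_3 lc_g_rc_27_0 lc_g_rc_6_1 lc_g_Cert_tree lc_g_rc_17_1 lc_g_rc_27_0 lc_g_rc_21_3 lc_g_rc_27_0 lc_g_Cert_tree lc_g_rc_27_0 lc_g_rc_24_1 lc_g_rc_27_0 lc_g_rc_12_3 lc_g_rc_27_0 lc_g_rc_27_0) (@D3.rec (fun _ => (Cert rels S Gen.g)) lc_g_Cert_tree lc_g_rc_21_1 lc_g_rc_27_0 lc_g_rc_17_1 lc_g_rc_12_3 lc_g_rc_12_3 lc_g_rc_17_1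 lc_g_rc_27_0 lc_g_rc_17_1 lc_g_rc_17_3 lc_g_rc_27_0 lc_g_rc_12_1 lc_g_rc_31_11 lc_g_rc_21_1 lc_g_rc_6_1 lc_g_rc_6_1 lc_g_rc_29_1 lc_g_rc_6_1 lc_g_rc_31_5 lc_g_Cert_tree lc_g_rc_29_1 lc_g_rc_27_0 lc_g_rc_6_1 lc_g_rc_12_3 lc_g_rc_6_3 lc_g_rc_27_0 lc_g_rc_12_3 lc_g_rc_12_3 lc_g_rc_29_1 lc_g_rc_29_3 lc_g_rc_21_1 lc_g_rc_24_1 lc_g_rc_27_0 lc_g_rc_29_3 lc_g_rc_21_1 lc_g_rc_29_3 lc_g_rc_31_8 lc_g_rc_17_3 lc_g_rc_27_0 lc_g_rc_27_0)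
def ce_g_20 : D2 → D3 → (Cert rels S Gen.g) := @D2.rec (fun _ => D3 → (Cert rels S Gen.g)) (@D3.rec (fun _ => (Cert rels S Gen.g)) lc_g_rc_6_1 lc_g_rc_21_1 lc_g_rc_24_1 lc_g_rc_29_3 lc_g_rc_29_1 lc_g_rc_21_1 lc_g_rc_17_3 lc_g_rc_27_0 lc_g_rc_29_1 lc_g_rc_12_5 lc_g_rc_24_1 lc_g_rc_21_1 lc_g_rc_6_1 lc_g_rc_27_0 lc_g_rc_31_5 lc_g_rc_6_1 lc_g_rc_17_1 lc_g_rc_6_1 lc_g_rc_6_3 lc_g_rc_12_3 lc_g_rc_12_1 lc_g_rc_12_3 lc_g_rc_21_1 lc_g_rc_27_0 lc_g_rc_24_1 lc_g_rc_27_0 lc_g_rc_29_3 lc_g_rc_6_1 lc_g_rc_24_1 lc_g_rc_17_1 lc_g_rc_24_1 lc_g_rc_27_0 lc_g_rc_17_1 lc_g_rc_6_1 lc_g_rc_29_1 lc_g_Cert_tree lc_g_rc_6_1 lc_g_rc_27_0 lc_g_rc_6_1 lc_g_rc_17_1) (@D3.rec (fun _ => (Cert rels S Gen.g)) lc_g_rc_31_5 lc_g_rc_29_1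 lc_g_rc_27_0 lc_g_rc_21_1 lc_g_rc_6_1 lc_g_rc_27_0 lc_g_rc_6_1 lc_g_rc_12_5 lc_g_rc_12_3 lc_g_rc_24_1 lc_g_rc_29_3 lc_g_rc_27_0 lc_g_rc_6_1 lc_g_rc_24_1 lc_g_rc_29_1 lc_g_rc_12_1 lc_g_rc_21_1 lc_g_Cert_tree lc_g_rc_27_0 lc_g_rc_17_1 lc_g_rc_21_1 lc_g_Cert_tree lc_g_rc_27_0 lc_g_rc_27_0 lc_g_rc_12_3 lc_g_rc_12_3 lc_g_rc_6_1 lc_g_rc_24_3 lc_g_rc_17_1 lc_g_rc_6_1 lc_g_rc_29_3 lc_g_rc_17_1 lc_g_rc_21_1 lc_g_rc_27_0 lc_g_rc_27_0 lc_g_rc_17_1 lc_g_rc_27_0 lc_g_rc_24_3 lc_g_rc_12_3 lc_g_rc_27_0) (@D3.rec (fun _ => (Cert rels S Gen.g)) lc_g_rc_17_1 lc_g_rc_27_0 lc_g_rc_27_0 lc_g_rc_6_1 lc_g_rc_27_0 lc_g_rc_21_1 lc_g_rc_27_0 lc_g_rc_17_3 lc_g_rc_21_1 lc_g_rc_31_8 lc_g_rc_27_0 lc_g_rc_12_3 lc_g_rc_17_1 lc_g_rc_29_1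 lc_g_rc_27_0 lc_g_rc_27_0 lc_g_rc_29_1 lc_g_rc_24_1 lc_g_rc_24_1 lc_g_rc_6_1 lc_g_rc_17_1 lc_g_rc_12_3 lc_g_rc_12_3 lc_g_Cert_tree lc_g_rc_6_3 lc_g_rc_29_3 lc_g_rc_6_1 lc_g_rc_12_1 lc_g_rc_27_0 lc_g_rc_27_0 lc_g_rc_12_3 lc_g_rc_17_1 lc_g_rc_12_3 lc_g_rc_17_1 lc_g_rc_12_3 lc_g_rc_12_3 lc_g_rc_6_1 lc_g_rc_17_1 lc_g_rc_29_3 lc_g_rc_27_0) (@D3.rec (fun _ => (Cert rels S Gen.g)) lc_g_rc_6_3 lc_g_rc_12_3 lc_g_rc_24_1 lc_g_rc_17_1 lc_g_Cert_tree lc_g_rc_21_1 lc_g_rc_6_1 lc_g_rc_29_1 lc_g_Cert_tree lc_g_rc_27_0 lc_g_rc_17_1 lc_g_rc_29_1 lc_g_rc_6_1 lc_g_rc_27_0 lc_g_rc_17_1 lc_g_rc_31_11 lc_g_rc_6_1 lc_g_rc_27_0 lc_g_rc_29_1 lc_g_rc_17_1 lc_g_rc_27_0 lc_g_rc_21_1 lc_g_rc_6_1 lc_g_Cert_tree lc_g_Cert_tree lc_g_rc_27_0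 lc_g_Cert_tree lc_g_rc_27_0 lc_g_rc_31_5 lc_g_rc_27_0 lc_g_Cert_tree lc_g_Cert_tree lc_g_rc_6_3 lc_g_rc_27_0 lc_g_rc_12_5 lc_g_Cert_tree lc_g_rc_27_0 lc_g_rc_27_0 lc_g_rc_12_3 lc_g_rc_6_1) (@D3.rec (fun _ => (Cert rels S Gen.g)) lc_g_rc_27_0 lc_g_rc_31_5 lc_g_rc_6_1 lc_g_rc_17_3 lc_g_rc_12_3 lc_g_rc_12_3 lc_g_rc_29_1 lc_g_rc_17_1 lc_g_rc_17_3 lc_g_rc_27_0 lc_g_rc_12_3 lc_g_rc_12_3 lc_g_rc_29_3 lc_g_rc_17_1 lc_g_rc_29_3 lc_g_rc_12_3 lc_g_rc_17_1 lc_g_rc_6_1 lc_g_rc_6_3 lc_g_rc_29_1 lc_g_rc_12_5 lc_g_rc_29_1 lc_g_Cert_tree lc_g_rc_27_0 lc_g_rc_6_1 lc_g_rc_6_1 lc_g_rc_21_1 lc_g_rc_17_1 lc_g_rc_27_0 lc_g_rc_29_3 lc_g_rc_17_1 lc_g_Cert_tree lc_g_rc_21_1 lc_g_rc_27_1 lc_g_rc_24_1 lc_g_rc_27_0 lc_g_rc_31_11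 lc_g_Cert_tree lc_g_rc_29_1 lc_g_Cert_tree) (@D3.rec (fun _ => (Cert rels S Gen.g)) lc_g_rc_27_0 lc_g_rc_6_3 lc_g_Cert_tree lc_g_rc_17_3 lc_g_rc_27_0 lc_g_rc_27_1 lc_g_Cert_tree lc_g_rc_27_0 lc_g_rc_27_0 lc_g_rc_6_1 lc_g_rc_17_1 lc_g_rc_6_1 lc_g_rc_6_3 lc_g_rc_12_3 lc_g_rc_27_0 lc_g_rc_27_0 lc_g_rc_12_3 lc_g_rc_12_3 lc_g_rc_27_0 lc_g_rc_29_3 lc_g_rc_6_1 lc_g_rc_6_3 lc_g_rc_29_3 lc_g_rc_29_1 lc_g_rc_21_1 lc_g_rc_27_0 lc_g_rc_17_1 lc_g_rc_17_1 lc_g_rc_12_1 lc_g_rc_12_3 lc_g_rc_6_1 lc_g_rc_6_1 lc_g_rc_6_1 lc_g_rc_6_1 lc_g_rc_21_3 lc_g_rc_29_1 lc_g_rc_17_1 lc_g_rc_29_1 lc_g_rc_21_1 lc_g_rc_17_3) (@D3.rec (fun _ => (Cert rels S Gen.g)) lc_g_rc_27_0 lc_g_rc_29_1 lc_g_rc_21_3 lc_g_rc_12_3 lc_g_rc_17_1 lc_g_rc_12_3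 lc_g_rc_6_1 lc_g_rc_17_1 lc_g_rc_24_1 lc_g_rc_17_1 lc_g_rc_17_3 lc_g_rc_12_1 lc_g_rc_17_1 lc_g_rc_27_0 lc_g_rc_17_1 lc_g_rc_31_8 lc_g_rc_12_3 lc_g_rc_24_1 lc_g_rc_27_0 lc_g_Cert_tree lc_g_rc_27_0 lc_g_Cert_tree lc_g_rc_27_0 lc_g_rc_27_0 lc_g_rc_6_1 lc_g_rc_17_1 lc_g_rc_21_1 lc_g_rc_6_1 lc_g_rc_6_1 lc_g_rc_6_3 lc_g_rc_29_1 lc_g_rc_27_0 lc_g_rc_24_1 lc_g_Cert_tree lc_g_rc_27_0 lc_g_rc_12_3 lc_g_rc_27_0 lc_g_rc_6_1 lc_g_rc_27_0 lc_g_rc_12_3) (@D3.rec (fun _ => (Cert rels S Gen.g)) lc_g_rc_12_3 lc_g_rc_6_1 lc_g_rc_17_3 lc_g_rc_21_1 lc_g_rc_29_1 lc_g_rc_29_1 lc_g_Cert_tree lc_g_rc_27_0 lc_g_rc_21_1 lc_g_rc_17_1 lc_g_rc_6_1 lc_g_rc_17_1 lc_g_rc_12_3 lc_g_rc_12_3 lc_g_rc_12_3 lc_g_rc_21_3 lc_g_rc_12_1 lc_g_rc_21_1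 lc_g_rc_17_1 lc_g_rc_6_1 lc_g_rc_6_1 lc_g_rc_12_5 lc_g_rc_12_3 lc_g_rc_6_1 lc_g_rc_17_1 lc_g_rc_17_1 lc_g_rc_21_1 lc_g_rc_6_1 lc_g_Cert_tree lc_g_rc_12_3 lc_g_rc_6_1 lc_g_rc_17_1 lc_g_Cert_tree lc_g_rc_29_1 lc_g_rc_12_1 lc_g_rc_27_0 lc_g_Cert_tree lc_g_Cert_tree lc_g_rc_27_0 lc_g_rc_21_1) (@D3.rec (fun _ => (Cert rels S Gen.g)) lc_g_rc_17_1 lc_g_rc_27_0 lc_g_rc_6_1 lc_g_rc_17_1 lc_g_rc_27_0 lc_g_rc_17_1 lc_g_rc_21_1 lc_g_rc_6_1 lc_g_rc_12_3 lc_g_rc_17_1 lc_g_rc_17_1 lc_g_rc_27_0 lc_g_rc_12_3 lc_g_rc_21_1 lc_g_rc_6_3 lc_g_rc_27_0 lc_g_rc_27_0 lc_g_rc_29_3 lc_g_rc_21_3 lc_g_Cert_tree lc_g_rc_27_0 lc_g_rc_6_1 lc_g_rc_21_1 lc_g_rc_29_3 lc_g_rc_21_1 lc_g_rc_29_3 lc_g_rc_12_5 lc_g_Cert_tree lc_g_rc_29_3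 lc_g_Cert_tree lc_g_rc_27_0 lc_g_rc_6_1 lc_g_rc_6_1 lc_g_rc_17_1 lc_g_rc_21_1 lc_g_rc_12_3 lc_g_rc_12_3 lc_g_rc_29_3 lc_g_rc_31_8 lc_g_Cert_tree) (@D3.rec (fun _ => (Cert rels S Gen.g)) lc_g_rc_21_3 lc_g_rc_27_0 lc_g_rc_12_3 lc_g_rc_27_0 lc_g_rc_12_3 lc_g_rc_6_1 lc_g_rc_6_1 lc_g_rc_12_1 lc_g_rc_12_1 lc_g_Cert_tree lc_g_rc_17_3 lc_g_rc_27_0 lc_g_rc_6_1 lc_g_rc_17_1 lc_g_rc_12_5 lc_g_rc_27_0 lc_g_rc_27_1 lc_g_rc_24_1 lc_g_rc_21_1 lc_g_rc_6_1 lc_g_rc_27_0 lc_g_rc_6_3 lc_g_rc_17_1 lc_g_rc_31_5 lc_g_Cert_tree lc_g_Cert_tree lc_g_rc_27_0 lc_g_rc_27_0 lc_g_rc_6_1 lc_g_rc_12_3 lc_g_Cert_tree lc_g_rc_27_0 lc_g_rc_29_1 lc_g_rc_6_3 lc_g_rc_27_0 lc_g_rc_12_3 lc_g_rc_12_3 lc_g_rc_17_1 lc_g_rc_21_3 lc_g_rc_12_3)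 (@D3.rec (fun _ => (Cert rels S Gen.g)) lc_g_rc_12_3 lc_g_rc_17_1 lc_g_rc_21_1 lc_g_rc_12_3 lc_g_rc_21_1 lc_g_rc_6_1 lc_g_rc_17_1 lc_g_rc_21_1 lc_g_rc_6_1 lc_g_rc_29_3 lc_g_rc_6_3 lc_g_Cert_tree lc_g_rc_27_0 lc_g_Cert_tree lc_g_rc_27_0 lc_g_rc_6_3 lc_g_rc_21_3 lc_g_rc_17_3 lc_g_rc_27_0 lc_g_rc_27_0 lc_g_rc_6_3 lc_g_rc_12_1 lc_g_rc_27_0 lc_g_rc_6_1 lc_g_Cert_tree lc_g_rc_29_1 lc_g_rc_27_0 lc_g_rc_17_1 lc_g_rc_12_3 lc_g_rc_21_1 lc_g_rc_17_1 lc_g_rc_21_1 lc_g_rc_29_1 lc_g_rc_21_1 lc_g_rc_29_3 lc_g_rc_21_1 lc_g_rc_24_1 lc_g_rc_17_1 lc_g_rc_6_3 lc_g_rc_21_1) (@D3.rec (fun _ => (Cert rels S Gen.g)) lc_g_rc_12_3 lc_g_rc_21_1 lc_g_rc_17_1 lc_g_rc_17_1 lc_g_rc_6_1 lc_g_rc_17_1 lc_g_rc_24_1 lc_g_rc_17_1 lc_g_rc_12_3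 lc_g_rc_21_1 lc_g_rc_6_1 lc_g_rc_12_1 lc_g_rc_24_1 lc_g_rc_17_1 lc_g_rc_27_0 lc_g_rc_24_1 lc_g_rc_21_1 lc_g_rc_17_3 lc_g_rc_27_0 lc_g_rc_27_0 lc_g_rc_17_1 lc_g_rc_17_1 lc_g_rc_17_3 lc_g_rc_21_3 lc_g_rc_17_1 lc_g_rc_17_3 lc_g_rc_6_1 lc_g_rc_17_1 lc_g_Cert_tree lc_g_rc_17_1 lc_g_rc_27_0 lc_g_rc_6_1 lc_g_rc_27_0 lc_g_rc_12_3 lc_g_rc_21_1 lc_g_rc_6_3 lc_g_Cert_tree lc_g_rc_27_0 lc_g_rc_21_1 lc_g_rc_6_1) (@D3.rec (fun _ => (Cert rels S Gen.g)) lc_g_rc_29_3 lc_g_rc_27_0 lc_g_rc_6_3 lc_g_rc_17_1 lc_g_rc_21_1 lc_g_rc_6_1 lc_g_rc_17_1 lc_g_rc_17_1 lc_g_rc_21_1 lc_g_rc_27_0 lc_g_rc_21_3 lc_g_rc_27_0 lc_g_rc_17_1 lc_g_rc_17_1 lc_g_rc_21_1 lc_g_rc_6_1 lc_g_rc_21_1 lc_g_rc_17_1 lc_g_rc_17_1 lc_g_rc_12_1 lc_g_rc_27_0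 lc_g_rc_12_3 lc_g_rc_12_1 lc_g_rc_29_1 lc_g_rc_21_1 lc_g_rc_17_1 lc_g_rc_6_1 lc_g_rc_31_8 lc_g_rc_17_1 lc_g_rc_29_1 lc_g_rc_17_1 lc_g_rc_12_5 lc_g_rc_6_3 lc_g_rc_27_0 lc_g_rc_27_0 lc_g_rc_27_0 lc_g_rc_6_3 lc_g_rc_27_0 lc_g_rc_21_3 lc_g_rc_27_0) (@D3.rec (fun _ => (Cert rels S Gen.g)) lc_g_rc_29_1 lc_g_rc_31_8 lc_g_rc_27_0 lc_g_rc_21_1 lc_g_rc_17_1 lc_g_rc_29_1 lc_g_rc_21_1 lc_g_rc_24_1 lc_g_rc_21_1 lc_g_rc_27_0 lc_g_rc_6_1 lc_g_rc_17_1 lc_g_rc_24_1 lc_g_rc_17_1 lc_g_rc_21_1 lc_g_rc_24_1 lc_g_rc_26_5 lc_g_rc_17_1 lc_g_rc_27_0 lc_g_rc_12_3 lc_g_rc_27_0 lc_g_rc_24_3 lc_g_rc_12_3 lc_g_rc_17_1 lc_g_rc_21_1 lc_g_rc_21_1 lc_g_rc_17_3 lc_g_rc_17_1 lc_g_rc_29_1 lc_g_rc_27_0 lc_g_rc_21_1 lc_g_rc_27_0 lc_g_rc_21_1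 lc_g_rc_6_1 lc_g_rc_12_1 lc_g_rc_6_1 lc_g_rc_27_0 lc_g_rc_27_0 lc_g_rc_6_3 lc_g_rc_17_1) (@D3.rec (fun _ => (Cert rels S Gen.g)) lc_g_rc_27_0 lc_g_rc_6_1 lc_g_rc_21_1 lc_g_rc_6_1 lc_g_rc_17_1 lc_g_rc_17_3 lc_g_rc_27_0 lc_g_rc_12_3 lc_g_rc_27_0 lc_g_rc_27_0 lc_g_rc_29_3 lc_g_rc_29_1 lc_g_rc_24_1 lc_g_rc_6_1 lc_g_rc_27_0 lc_g_rc_12_3 lc_g_rc_27_0 lc_g_rc_21_1 lc_g_rc_29_3 lc_g_rc_24_1 lc_g_rc_27_0 lc_g_rc_12_3 lc_g_rc_6_3 lc_g_rc_6_1 lc_g_rc_27_0 lc_g_rc_24_3 lc_g_rc_6_1 lc_g_rc_27_0 lc_g_rc_12_3 lc_g_rc_29_1 lc_g_rc_17_1 lc_g_rc_27_1 lc_g_Cert_tree lc_g_rc_24_1 lc_g_rc_27_0 lc_g_rc_29_3 lc_g_rc_12_1 lc_g_rc_29_1 lc_g_rc_17_1 lc_g_rc_27_1) (@D3.rec (fun _ => (Cert rels S Gen.g)) lc_g_rc_27_0 lc_g_rc_21_1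 lc_g_rc_27_0 lc_g_rc_24_1 lc_g_rc_6_1 lc_g_rc_27_0 lc_g_rc_27_0 lc_g_rc_12_3 lc_g_rc_6_1 lc_g_rc_6_1 lc_g_rc_12_1 lc_g_rc_26_5 lc_g_rc_12_3 lc_g_rc_21_1 lc_g_rc_27_0 lc_g_rc_29_3 lc_g_rc_24_1 lc_g_rc_17_1 lc_g_rc_27_0 lc_g_rc_6_3 lc_g_rc_27_0 lc_g_rc_27_0 lc_g_rc_12_3 lc_g_rc_26_1 lc_g_rc_6_1 lc_g_rc_12_3 lc_g_rc_17_1 lc_g_rc_6_1 lc_g_rc_6_1 lc_g_Cert_tree lc_g_rc_31_8 lc_g_rc_17_1 lc_g_rc_21_3 lc_g_Cert_tree lc_g_Cert_tree lc_g_rc_27_0 lc_g_rc_31_5 lc_g_rc_31_8 lc_g_rc_27_0 lc_g_rc_27_0) (@D3.rec (fun _ => (Cert rels S Gen.g)) lc_g_rc_17_3 lc_g_rc_27_0 lc_g_rc_27_0 lc_g_rc_17_1 lc_g_rc_29_3 lc_g_rc_17_1 lc_g_rc_24_1 lc_g_rc_12_3 lc_g_rc_26_3 lc_g_rc_17_1 lc_g_rc_21_1 lc_g_rc_17_1 lc_g_rc_24_1 lc_g_rc_12_1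 lc_g_rc_21_1 lc_g_rc_29_3 lc_g_rc_27_0 lc_g_rc_12_3 lc_g_rc_12_3 lc_g_rc_24_1 lc_g_rc_17_1 lc_g_rc_6_1 lc_g_rc_21_1 lc_g_rc_17_1 lc_g_rc_21_1 lc_g_rc_27_0 lc_g_rc_17_1 lc_g_Cert_tree lc_g_rc_12_3 lc_g_rc_27_0 lc_g_rc_27_0 lc_g_Cert_tree lc_g_rc_24_3 lc_g_Cert_tree lc_g_rc_27_0 lc_g_Cert_tree lc_g_rc_27_1 lc_g_rc_12_1 lc_g_rc_27_0 lc_g_rc_17_1) (@D3.rec (fun _ => (Cert rels S Gen.g)) lc_g_rc_17_1 lc_g_rc_12_3 lc_g_rc_6_1 lc_g_rc_17_1 lc_g_rc_29_1 lc_g_rc_24_1 lc_g_rc_21_1 lc_g_rc_17_1 lc_g_rc_27_0 lc_g_rc_27_0 lc_g_rc_12_3 lc_g_rc_17_1 lc_g_rc_21_1 lc_g_rc_12_3 lc_g_rc_24_1 lc_g_rc_27_0 lc_g_rc_6_1 lc_g_rc_12_3 lc_g_rc_6_1 lc_g_rc_6_1 lc_g_rc_31_11 lc_g_rc_6_1 lc_g_rc_17_1 lc_g_rc_12_3 lc_g_rc_17_3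 lc_g_rc_27_0 lc_g_rc_12_3 lc_g_rc_27_0 lc_g_rc_12_3 lc_g_rc_6_1 lc_g_rc_17_1 lc_g_rc_27_0 lc_g_rc_6_1 lc_g_rc_29_3 lc_g_rc_29_1 lc_g_rc_17_1 lc_g_rc_24_3 lc_g_rc_31_11 lc_g_rc_29_1 lc_g_rc_12_3) (@D3.rec (fun _ => (Cert rels S Gen.g)) lc_g_rc_21_3 lc_g_rc_24_1 lc_g_rc_6_1 lc_g_rc_29_1 lc_g_rc_21_1 lc_g_rc_6_1 lc_g_rc_21_1 lc_g_rc_12_3 lc_g_rc_12_3 lc_g_Cert_tree lc_g_rc_6_1 lc_g_rc_12_1 lc_g_rc_6_1 lc_g_rc_17_1 lc_g_rc_17_1 lc_g_rc_12_1 lc_g_rc_21_1 lc_g_rc_26_1 lc_g_rc_17_1 lc_g_rc_17_1 lc_g_rc_6_1 lc_g_rc_12_3 lc_g_rc_17_3 lc_g_rc_17_3 lc_g_rc_12_1 lc_g_rc_12_1 lc_g_rc_29_3 lc_g_rc_6_3 lc_g_rc_31_8 lc_g_rc_27_0 lc_g_rc_12_1 lc_g_rc_31_8 lc_g_rc_17_1 lc_g_rc_21_1 lc_g_rc_21_1 lc_g_rc_17_1 lc_g_Cert_tree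 lc_g_rc_27_0 lc_g_rc_21_1 lc_g_rc_12_3) (@D3.rec (fun _ => (Cert rels S Gen.g)) lc_g_rc_6_1 lc_g_rc_17_1 lc_g_rc_6_1 lc_g_rc_27_0 lc_g_rc_27_0 lc_g_rc_12_1 lc_g_rc_6_3 lc_g_rc_29_1 lc_g_rc_17_3 lc_g_rc_31_11 lc_g_rc_29_3 lc_g_rc_27_0 lc_g_rc_24_1 lc_g_rc_6_1 lc_g_rc_17_1 lc_g_rc_6_3 lc_g_rc_29_1 lc_g_rc_31_8 lc_g_rc_27_1 lc_g_rc_29_3 lc_g_rc_27_0 lc_g_rc_27_0 lc_g_rc_17_1 lc_g_rc_21_1 lc_g_rc_17_1 lc_g_rc_29_1 lc_g_rc_17_1 lc_g_Cert_tree lc_g_rc_6_1 lc_g_rc_29_1 lc_g_rc_6_3 lc_g_rc_27_0 lc_g_rc_12_1 lc_g_rc_29_1 lc_g_rc_12_3 lc_g_rc_6_1 lc_g_rc_21_1 lc_g_rc_24_1 lc_g_rc_17_1 lc_g_rc_12_1) (@D3.rec (fun _ => (Cert rels S Gen.g)) lc_g_rc_21_1 lc_g_rc_21_1 lc_g_rc_6_3 lc_g_rc_27_0 lc_g_rc_24_1 lc_g_rc_24_1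 lc_g_rc_27_0 lc_g_rc_31_11 lc_g_rc_17_1 lc_g_rc_21_3 lc_g_rc_27_0 lc_g_rc_6_1 lc_g_rc_21_1 lc_g_rc_21_1 lc_g_rc_6_1 lc_g_rc_6_1 lc_g_rc_17_1 lc_g_rc_6_1 lc_g_Cert_tree lc_g_rc_6_3 lc_g_rc_27_0 lc_g_rc_27_0 lc_g_Cert_tree lc_g_rc_6_3 lc_g_rc_27_0 lc_g_rc_26_5 lc_g_rc_24_3 lc_g_rc_27_0 lc_g_rc_17_3 lc_g_rc_17_3 lc_g_rc_17_3 lc_g_rc_17_3 lc_g_rc_6_1 lc_g_rc_6_3 lc_g_rc_29_1 lc_g_rc_27_0 lc_g_rc_6_3 lc_g_rc_6_1 lc_g_rc_29_3 lc_g_rc_21_3) (@D3.rec (fun _ => (Cert rels S Gen.g)) lc_g_Cert_tree lc_g_rc_24_1 lc_g_rc_27_0 lc_g_rc_27_0 lc_g_rc_17_1 lc_g_rc_6_1 lc_g_rc_21_3 lc_g_rc_21_1 lc_g_rc_21_1 lc_g_rc_6_1 lc_g_rc_17_1 lc_g_rc_27_0 lc_g_rc_17_1 lc_g_rc_6_1 lc_g_rc_29_1 lc_g_rc_24_1 lc_g_rc_6_3 lc_g_rc_27_0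 lc_g_rc_31_8 lc_g_rc_27_0 lc_g_rc_17_3 lc_g_rc_29_1 lc_g_rc_24_3 lc_g_rc_6_1 lc_g_rc_17_1 lc_g_rc_17_1 lc_g_rc_12_1 lc_g_rc_27_0 lc_g_rc_17_3 lc_g_rc_6_3 lc_g_rc_27_0 lc_g_rc_21_1 lc_g_rc_17_1 lc_g_rc_17_1 lc_g_rc_27_0 lc_g_rc_27_0 lc_g_rc_17_1 lc_g_rc_6_3 lc_g_rc_24_3 lc_g_rc_29_3) (@D3.rec (fun _ => (Cert rels S Gen.g)) lc_g_rc_21_1 lc_g_rc_21_1 lc_g_rc_17_1 lc_g_rc_21_1 lc_g_Cert_tree lc_g_rc_27_0 lc_g_rc_12_3 lc_g_rc_17_1 lc_g_rc_12_3 lc_g_rc_17_1 lc_g_rc_24_1 lc_g_Cert_tree lc_g_Cert_tree lc_g_rc_27_0 lc_g_rc_21_1 lc_g_rc_24_3 lc_g_rc_6_1 lc_g_rc_27_0 lc_g_rc_12_3 lc_g_rc_21_3 lc_g_Cert_tree lc_g_rc_27_0 lc_g_rc_12_1 lc_g_rc_6_1 lc_g_rc_27_0 lc_g_rc_29_1 lc_g_rc_17_1 lc_g_rc_12_3 lc_g_rc_17_1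 lc_g_rc_17_1 lc_g_rc_17_1 lc_g_rc_29_1 lc_g_rc_12_1 lc_g_rc_6_1 lc_g_rc_24_1 lc_g_rc_17_1 lc_g_rc_12_1 lc_g_rc_17_3 lc_g_rc_17_3 lc_g_rc_6_3) (@D3.rec (fun _ => (Cert rels S Gen.g)) lc_g_rc_27_0 lc_g_rc_21_3 lc_g_Cert_tree lc_g_rc_27_0 lc_g_rc_27_0 lc_g_rc_27_0 lc_g_rc_12_3 lc_g_rc_6_1 lc_g_rc_12_3 lc_g_rc_21_1 lc_g_rc_21_1 lc_g_rc_12_3 lc_g_rc_12_1 lc_g_rc_6_1 lc_g_rc_6_3 lc_g_rc_29_1 lc_g_rc_21_1 lc_g_rc_29_3 lc_g_rc_24_1 lc_g_rc_21_1 lc_g_rc_6_1 lc_g_rc_17_3 lc_g_rc_17_3 lc_g_rc_29_1 lc_g_rc_29_3 lc_g_rc_24_1 lc_g_rc_27_0 lc_g_rc_29_1 lc_g_rc_21_1 lc_g_rc_6_1 lc_g_rc_12_3 lc_g_rc_29_1 lc_g_rc_29_3 lc_g_rc_6_1 lc_g_rc_21_1 lc_g_rc_17_1 lc_g_rc_17_1 lc_g_rc_24_3 lc_g_rc_12_3 lc_g_rc_12_1) (@D3.rec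 (fun _ => (Cert rels S Gen.g)) lc_g_rc_24_1 lc_g_rc_27_0 lc_g_rc_29_1 lc_g_rc_17_1 lc_g_rc_17_1 lc_g_rc_17_1 lc_g_Cert_tree lc_g_rc_17_1 lc_g_rc_17_1 lc_g_rc_21_1 lc_g_rc_17_1 lc_g_rc_17_1 lc_g_rc_17_1 lc_g_rc_6_1 lc_g_rc_6_1 lc_g_rc_17_1 lc_g_rc_17_1 lc_g_rc_17_1 lc_g_rc_24_1 lc_g_rc_6_1 lc_g_rc_17_1 lc_g_rc_17_1 lc_g_rc_17_1 lc_g_rc_21_1 lc_g_rc_12_3 lc_g_Cert_tree lc_g_rc_27_0 lc_g_rc_17_1 lc_g_rc_12_1 lc_g_rc_6_1 lc_g_rc_17_1 lc_g_rc_21_1 lc_g_rc_17_1 lc_g_Cert_tree lc_g_rc_27_0 lc_g_rc_29_1 lc_g_rc_17_1 lc_g_rc_21_1 lc_g_rc_17_1 lc_g_rc_24_1) (@D3.rec (fun _ => (Cert rels S Gen.g)) lc_g_rc_29_1 lc_g_rc_17_3 lc_g_rc_27_0 lc_g_rc_12_3 lc_g_rc_21_3 lc_g_rc_21_3 lc_g_rc_6_3 lc_g_rc_21_1 lc_g_rc_27_0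 lc_g_rc_31_2 lc_g_rc_21_1 lc_g_rc_27_0 lc_g_rc_17_1 lc_g_rc_27_0 lc_g_rc_6_1 lc_g_rc_12_3 lc_g_rc_17_1 lc_g_rc_24_1 lc_g_rc_21_1 lc_g_rc_17_1 lc_g_rc_27_0 lc_g_rc_12_3 lc_g_rc_27_0 lc_g_rc_17_1 lc_g_rc_21_3 lc_g_rc_12_3 lc_g_rc_21_1 lc_g_rc_6_3 lc_g_rc_12_3 lc_g_rc_27_0 lc_g_rc_29_1 lc_g_rc_27_0 lc_g_rc_6_1 lc_g_rc_29_3 lc_g_rc_29_1 lc_g_rc_6_3 lc_g_rc_27_0 lc_g_rc_12_1 lc_g_rc_17_1 lc_g_rc_12_1)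
def ce_g_21 : D2 → D3 → (Cert rels S Gen.g) := @D2.rec (fun _ => D3 → (Cert rels S Gen.g)) (@D3.rec (fun _ => (Cert rels S Gen.g)) lc_g_rc_29_1 lc_g_rc_12_3 lc_g_rc_27_0 lc_g_rc_29_1 lc_g_rc_29_3 lc_g_rc_21_1 lc_g_rc_6_1 lc_g_rc_21_1 lc_g_rc_21_1 lc_g_rc_27_0 lc_g_rc_21_1 lc_g_rc_12_3 lc_g_rc_21_1 lc_g_rc_27_0 lc_g_rc_27_0 lc_g_rc_21_1 lc_g_rc_21_1 lc_g_rc_17_1 lc_g_rc_6_3 lc_g_rc_17_3 lc_g_rc_6_1 lc_g_rc_21_1 lc_g_rc_29_1 lc_g_rc_21_3 lc_g_rc_27_0 lc_g_rc_6_1 lc_g_rc_26_3 lc_g_rc_27_0 lc_g_rc_12_1 lc_g_rc_6_3 lc_g_rc_17_1 lc_g_rc_27_0 lc_g_rc_12_3 lc_g_rc_21_1 lc_g_rc_6_1 lc_g_rc_17_3 lc_g_rc_31_5 lc_g_rc_6_1 lc_g_rc_21_3 lc_g_rc_17_1) (@D3.rec (fun _ => (Cert rels S Gen.g)) lc_g_rc_27_0 lc_g_rc_24_1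 lc_g_rc_21_1 lc_g_rc_24_3 lc_g_rc_6_1 lc_g_rc_21_1 lc_g_rc_17_1 lc_g_rc_12_3 lc_g_rc_17_1 lc_g_rc_6_1 lc_g_rc_17_1 lc_g_rc_17_1 lc_g_rc_21_1 lc_g_rc_27_0 lc_g_rc_24_1 lc_g_rc_27_0 lc_g_rc_12_3 lc_g_rc_24_1 lc_g_rc_21_1 lc_g_rc_24_1 lc_g_rc_21_1 lc_g_Cert_tree lc_g_rc_27_0 lc_g_rc_17_1 lc_g_rc_21_1 lc_g_rc_21_1 lc_g_rc_6_1 lc_g_rc_29_1 lc_g_rc_17_1 lc_g_rc_21_1 lc_g_rc_17_1 lc_g_rc_29_1 lc_g_rc_17_1 lc_g_rc_21_3 lc_g_rc_27_0 lc_g_rc_27_0 lc_g_rc_29_3 lc_g_rc_29_1 lc_g_rc_17_1 lc_g_rc_29_3) (@D3.rec (fun _ => (Cert rels S Gen.g)) lc_g_rc_17_1 lc_g_rc_29_1 lc_g_rc_27_0 lc_g_rc_21_1 lc_g_rc_24_1 lc_g_rc_12_3 lc_g_rc_21_3 lc_g_rc_12_1 lc_g_rc_27_0 lc_g_rc_24_1 lc_g_rc_27_0 lc_g_rc_17_1 lc_g_rc_27_0 lc_g_rc_21_1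 lc_g_rc_27_0 lc_g_rc_21_1 lc_g_rc_27_0 lc_g_rc_27_0 lc_g_rc_6_1 lc_g_rc_21_1 lc_g_rc_21_1 lc_g_rc_21_1 lc_g_rc_21_1 lc_g_rc_29_3 lc_g_rc_6_1 lc_g_rc_12_3 lc_g_rc_29_3 lc_g_rc_27_0 lc_g_rc_31_11 lc_g_rc_27_0 lc_g_rc_12_3 lc_g_rc_27_0 lc_g_rc_21_1 lc_g_rc_12_3 lc_g_rc_21_1 lc_g_rc_17_1 lc_g_rc_17_1 lc_g_rc_27_0 lc_g_rc_27_0 lc_g_rc_17_3) (@D3.rec (fun _ => (Cert rels S Gen.g)) lc_g_rc_27_0 lc_g_rc_12_3 lc_g_rc_17_1 lc_g_rc_27_0 lc_g_rc_12_3 lc_g_rc_24_1 lc_g_rc_17_1 lc_g_rc_6_1 lc_g_rc_17_1 lc_g_rc_6_3 lc_g_rc_17_3 lc_g_rc_12_1 lc_g_rc_21_1 lc_g_rc_27_0 lc_g_rc_27_0 lc_g_rc_17_1 lc_g_rc_27_0 lc_g_rc_12_3 lc_g_rc_27_0 lc_g_rc_6_1 lc_g_rc_12_3 lc_g_rc_6_1 lc_g_rc_27_0 lc_g_rc_27_0 lc_g_rc_27_0 lc_g_rc_17_1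 lc_g_rc_12_3 lc_g_rc_6_3 lc_g_rc_17_3 lc_g_rc_27_0 lc_g_rc_6_1 lc_g_rc_24_3 lc_g_rc_27_0 lc_g_rc_17_1 lc_g_rc_17_1 lc_g_rc_27_0 lc_g_rc_6_1 lc_g_rc_17_1 lc_g_rc_27_0 lc_g_rc_6_1) (@D3.rec (fun _ => (Cert rels S Gen.g)) lc_g_rc_21_1 lc_g_rc_17_1 lc_g_rc_6_3 lc_g_rc_27_0 lc_g_rc_17_1 lc_g_rc_17_1 lc_g_rc_21_1 lc_g_rc_6_1 lc_g_rc_6_1 lc_g_rc_27_0 lc_g_rc_21_1 lc_g_rc_6_1 lc_g_rc_17_1 lc_g_rc_17_1 lc_g_rc_17_1 lc_g_rc_27_0 lc_g_rc_12_3 lc_g_rc_12_3 lc_g_rc_12_3 lc_g_rc_12_3 lc_g_rc_24_3 lc_g_rc_12_3 lc_g_rc_6_1 lc_g_rc_6_1 lc_g_rc_6_3 lc_g_rc_21_1 lc_g_rc_27_0 lc_g_rc_27_0 lc_g_rc_12_3 lc_g_rc_17_1 lc_g_rc_6_3 lc_g_rc_6_1 lc_g_rc_24_1 lc_g_rc_21_1 lc_g_rc_17_1 lc_g_rc_31_8 lc_g_rc_29_1 lc_g_rc_6_3 lc_g_rc_27_0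 lc_g_rc_21_1) (@D3.rec (fun _ => (Cert rels S Gen.g)) lc_g_rc_27_0 lc_g_rc_21_1 lc_g_rc_24_3 lc_g_rc_12_3 lc_g_rc_12_3 lc_g_rc_27_0 lc_g_rc_12_3 lc_g_rc_21_1 lc_g_rc_6_3 lc_g_rc_27_0 lc_g_rc_17_1 lc_g_rc_12_1 lc_g_rc_12_3 lc_g_rc_27_0 lc_g_rc_21_1 lc_g_rc_17_1 lc_g_rc_21_1 lc_g_rc_27_0 lc_g_rc_21_1 lc_g_rc_21_1 lc_g_rc_17_1 lc_g_rc_27_0 lc_g_rc_17_1 lc_g_rc_27_0 lc_g_rc_12_3 lc_g_rc_21_1 lc_g_rc_27_0 lc_g_rc_27_0 lc_g_rc_12_3 lc_g_rc_12_3 lc_g_rc_27_0 lc_g_rc_6_1 lc_g_rc_24_1 lc_g_rc_17_3 lc_g_rc_27_0 lc_g_rc_6_1 lc_g_Cert_tree lc_g_rc_27_0 lc_g_rc_21_1 lc_g_rc_6_1) (@D3.rec (fun _ => (Cert rels S Gen.g)) lc_g_rc_6_3 lc_g_rc_12_3 lc_g_rc_17_1 lc_g_rc_24_1 lc_g_rc_17_1 lc_g_rc_24_1 lc_g_rc_17_1 lc_g_rc_21_1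 lc_g_rc_21_3 lc_g_rc_17_3 lc_g_rc_17_1 lc_g_rc_6_1 lc_g_rc_31_8 lc_g_rc_27_0 lc_g_rc_12_1 lc_g_rc_17_1 lc_g_rc_24_1 lc_g_Cert_tree lc_g_rc_17_1 lc_g_rc_27_0 lc_g_rc_12_3 lc_g_rc_21_1 lc_g_Cert_tree lc_g_rc_27_0 lc_g_rc_21_1 lc_g_rc_12_1 lc_g_rc_17_1 lc_g_rc_27_0 lc_g_rc_12_3 lc_g_rc_17_1 lc_g_Cert_tree lc_g_rc_6_1 lc_g_rc_12_3 lc_g_rc_17_1 lc_g_rc_12_1 lc_g_Cert_tree lc_g_rc_29_1 lc_g_rc_12_3 lc_g_rc_27_0 lc_g_rc_6_1) (@D3.rec (fun _ => (Cert rels S Gen.g)) lc_g_rc_17_1 lc_g_rc_17_3 lc_g_rc_17_1 lc_g_rc_29_3 lc_g_rc_21_1 lc_g_rc_29_3 lc_g_rc_27_0 lc_g_rc_17_1 lc_g_rc_21_1 lc_g_rc_29_1 lc_g_rc_27_0 lc_g_rc_17_3 lc_g_rc_12_1 lc_g_rc_6_3 lc_g_rc_12_1 lc_g_rc_6_1 lc_g_rc_17_1 lc_g_rc_17_1 lc_g_rc_21_3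 lc_g_rc_12_1 lc_g_rc_17_1 lc_g_rc_12_3 lc_g_rc_17_1 lc_g_Cert_tree lc_g_rc_21_1 lc_g_rc_24_1 lc_g_rc_31_2 lc_g_rc_6_1 lc_g_rc_21_1 lc_g_rc_27_0 lc_g_rc_12_3 lc_g_rc_12_1 lc_g_rc_6_1 lc_g_rc_12_3 lc_g_rc_27_0 lc_g_rc_29_1 lc_g_rc_27_0 lc_g_rc_26_1 lc_g_rc_17_1 lc_g_rc_6_1) (@D3.rec (fun _ => (Cert rels S Gen.g)) lc_g_rc_17_1 lc_g_rc_17_1 lc_g_rc_17_1 lc_g_rc_17_3 lc_g_rc_17_1 lc_g_rc_17_1 lc_g_rc_17_1 lc_g_rc_6_1 lc_g_rc_12_3 lc_g_rc_27_1 lc_g_rc_6_1 lc_g_rc_17_1 lc_g_rc_6_1 lc_g_rc_6_3 lc_g_rc_6_1 lc_g_rc_12_1 lc_g_rc_6_1 lc_g_rc_29_1 lc_g_Cert_tree lc_g_rc_27_0 lc_g_rc_12_3 lc_g_rc_6_1 lc_g_rc_21_1 lc_g_rc_24_1 lc_g_rc_21_1 lc_g_rc_27_0 lc_g_rc_12_3 lc_g_rc_6_1 lc_g_rc_31_5 lc_g_rc_27_1 lc_g_rc_12_1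 lc_g_rc_29_3 lc_g_rc_21_1 lc_g_rc_12_3 lc_g_rc_31_5 lc_g_rc_17_1 lc_g_rc_17_1 lc_g_rc_27_0 lc_g_rc_17_1 lc_g_rc_17_1) (@D3.rec (fun _ => (Cert rels S Gen.g)) lc_g_rc_27_0 lc_g_rc_27_0 lc_g_rc_12_1 lc_g_rc_6_1 lc_g_rc_29_1 lc_g_rc_17_1 lc_g_rc_12_3 lc_g_rc_6_1 lc_g_rc_21_1 lc_g_rc_21_1 lc_g_rc_21_1 lc_g_rc_6_3 lc_g_rc_6_3 lc_g_rc_12_3 lc_g_rc_21_1 lc_g_rc_27_0 lc_g_rc_12_3 lc_g_rc_29_3 lc_g_rc_24_1 lc_g_rc_27_0 lc_g_rc_21_1 lc_g_rc_6_3 lc_g_rc_21_1 lc_g_rc_27_0 lc_g_rc_24_1 lc_g_rc_12_1 lc_g_rc_6_3 lc_g_rc_6_1 lc_g_rc_12_3 lc_g_rc_6_1 lc_g_rc_27_0 lc_g_rc_21_3 lc_g_rc_27_0 lc_g_rc_21_1 lc_g_rc_17_1 lc_g_rc_6_1 lc_g_rc_17_1 lc_g_rc_31_11 lc_g_rc_21_1 lc_g_rc_17_1) (@D3.rec (fun _ => (Cert rels S Gen.g))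 lc_g_rc_12_1 lc_g_rc_17_1 lc_g_rc_21_1 lc_g_rc_21_3 lc_g_rc_29_1 lc_g_rc_27_0 lc_g_rc_27_0 lc_g_rc_6_1 lc_g_rc_27_0 lc_g_rc_24_1 lc_g_rc_17_1 lc_g_rc_29_1 lc_g_rc_27_0 lc_g_rc_24_1 lc_g_rc_27_0 lc_g_rc_27_0 lc_g_rc_17_1 lc_g_rc_21_1 lc_g_rc_12_1 lc_g_rc_12_3 lc_g_rc_6_1 lc_g_rc_6_1 lc_g_rc_17_1 lc_g_rc_27_0 lc_g_rc_17_1 lc_g_rc_27_0 lc_g_rc_27_0 lc_g_rc_17_1 lc_g_rc_27_0 lc_g_rc_27_0 lc_g_rc_12_3 lc_g_rc_6_3 lc_g_rc_27_0 lc_g_rc_12_1 lc_g_rc_27_0 lc_g_rc_21_1 lc_g_rc_12_3 lc_g_rc_27_0 lc_g_rc_31_5 lc_g_rc_17_1) (@D3.rec (fun _ => (Cert rels S Gen.g)) lc_g_rc_6_1 lc_g_rc_27_0 lc_g_rc_29_3 lc_g_rc_29_3 lc_g_rc_12_3 lc_g_rc_26_5 lc_g_rc_26_1 lc_g_rc_27_0 lc_g_rc_24_1 lc_g_rc_21_1 lc_g_rc_17_1 lc_g_rc_29_1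 lc_g_rc_27_0 lc_g_rc_21_1 lc_g_rc_27_0 lc_g_rc_12_3 lc_g_rc_6_1 lc_g_rc_17_3 lc_g_rc_27_0 lc_g_rc_21_1 lc_g_rc_27_0 lc_g_rc_12_3 lc_g_rc_6_1 lc_g_rc_6_1 lc_g_rc_29_1 lc_g_rc_29_1 lc_g_rc_29_3 lc_g_rc_29_1 lc_g_rc_31_5 lc_g_rc_29_1 lc_g_rc_6_1 lc_g_rc_12_1 lc_g_rc_12_3 lc_g_rc_29_1 lc_g_rc_12_3 lc_g_rc_29_3 lc_g_rc_6_1 lc_g_rc_29_1 lc_g_rc_12_3 lc_g_rc_17_1) (@D3.rec (fun _ => (Cert rels S Gen.g)) lc_g_Cert_tree lc_g_rc_17_1 lc_g_rc_6_1 lc_g_rc_17_3 lc_g_rc_27_0 lc_g_rc_12_3 lc_g_rc_29_3 lc_g_rc_21_1 lc_g_rc_6_1 lc_g_rc_12_3 lc_g_rc_21_3 lc_g_rc_12_3 lc_g_rc_29_1 lc_g_rc_17_1 lc_g_rc_6_1 lc_g_rc_24_3 lc_g_rc_6_3 lc_g_rc_29_1 lc_g_rc_27_0 lc_g_Cert_tree lc_g_rc_27_0 lc_g_rc_12_3 lc_g_rc_21_1 lc_g_rc_21_3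 lc_g_rc_27_0 lc_g_rc_12_1 lc_g_rc_27_0 lc_g_rc_27_0 lc_g_rc_27_0 lc_g_Cert_tree lc_g_rc_6_1 lc_g_rc_21_1 lc_g_rc_6_1 lc_g_rc_27_0 lc_g_rc_17_1 lc_g_rc_6_1 lc_g_rc_29_1 lc_g_rc_12_1 lc_g_rc_6_1 lc_g_rc_27_0) (@D3.rec (fun _ => (Cert rels S Gen.g)) lc_g_rc_27_0 lc_g_rc_27_0 lc_g_rc_21_1 lc_g_rc_31_8 lc_g_rc_17_1 lc_g_rc_21_3 lc_g_rc_17_1 lc_g_rc_27_0 lc_g_rc_12_3 lc_g_rc_27_0 lc_g_rc_17_1 lc_g_rc_21_1 lc_g_rc_27_0 lc_g_rc_12_3 lc_g_rc_6_1 lc_g_rc_29_1 lc_g_rc_6_1 lc_g_rc_29_1 lc_g_rc_12_1 lc_g_rc_31_5 lc_g_rc_29_1 lc_g_rc_27_0 lc_g_rc_12_3 lc_g_rc_21_1 lc_g_rc_17_1 lc_g_rc_27_0 lc_g_rc_6_1 lc_g_rc_12_3 lc_g_rc_21_1 lc_g_rc_17_3 lc_g_rc_12_1 lc_g_rc_27_0 lc_g_rc_27_0 lc_g_rc_12_3 lc_g_rc_6_1 lc_g_rc_6_1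 lc_g_rc_12_1 lc_g_rc_6_1 lc_g_rc_6_3 lc_g_rc_21_1) (@D3.rec (fun _ => (Cert rels S Gen.g)) lc_g_rc_12_1 lc_g_rc_6_3 lc_g_rc_6_1 lc_g_rc_27_0 lc_g_rc_12_3 lc_g_rc_12_3 lc_g_rc_17_1 lc_g_rc_29_3 lc_g_rc_17_1 lc_g_rc_29_3 lc_g_rc_29_3 lc_g_rc_17_1 lc_g_rc_17_1 lc_g_rc_21_1 lc_g_rc_6_1 lc_g_rc_29_1 lc_g_Cert_tree lc_g_rc_27_0 lc_g_rc_17_1 lc_g_Cert_tree lc_g_rc_29_1 lc_g_rc_27_0 lc_g_rc_31_11 lc_g_rc_21_1 lc_g_rc_21_3 lc_g_rc_24_1 lc_g_rc_27_0 lc_g_Cert_tree lc_g_rc_27_0 lc_g_rc_27_0 lc_g_rc_17_1 lc_g_rc_27_0 lc_g_rc_27_0 lc_g_rc_24_1 lc_g_rc_27_0 lc_g_rc_17_1 lc_g_rc_12_3 lc_g_rc_26_1 lc_g_rc_17_1 lc_g_rc_17_1) (@D3.rec (fun _ => (Cert rels S Gen.g)) lc_g_rc_17_1 lc_g_rc_29_3 lc_g_rc_21_1 lc_g_rc_29_3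 lc_g_rc_17_1 lc_g_rc_29_1 lc_g_rc_29_1 lc_g_rc_27_0 lc_g_rc_6_1 lc_g_rc_12_3 lc_g_rc_27_0 lc_g_rc_6_1 lc_g_rc_27_0 lc_g_rc_6_1 lc_g_rc_27_0 lc_g_rc_12_1 lc_g_rc_27_0 lc_g_rc_6_1 lc_g_rc_27_0 lc_g_rc_27_0 lc_g_rc_17_1 lc_g_rc_21_1 lc_g_rc_17_1 lc_g_rc_6_1 lc_g_rc_12_3 lc_g_rc_29_3 lc_g_rc_12_3 lc_g_rc_24_1 lc_g_rc_17_1 lc_g_rc_21_1 lc_g_rc_21_1 lc_g_rc_12_1 lc_g_rc_21_1 lc_g_rc_21_1 lc_g_rc_27_0 lc_g_rc_27_0 lc_g_rc_31_8 lc_g_rc_21_1 lc_g_rc_27_0 lc_g_rc_12_3) (@D3.rec (fun _ => (Cert rels S Gen.g)) lc_g_rc_24_1 lc_g_rc_17_1 lc_g_rc_21_1 lc_g_rc_21_3 lc_g_rc_21_1 lc_g_rc_27_0 lc_g_rc_12_1 lc_g_rc_6_1 lc_g_rc_12_1 lc_g_rc_24_1 lc_g_rc_17_1 lc_g_rc_24_1 lc_g_rc_21_1 lc_g_rc_24_1 lc_g_rc_6_1 lc_g_rc_21_3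 lc_g_rc_12_1 lc_g_rc_27_0 lc_g_rc_6_1 lc_g_rc_17_1 lc_g_rc_29_1 lc_g_rc_27_0 lc_g_rc_29_1 lc_g_rc_27_0 lc_g_rc_27_0 lc_g_rc_12_3 lc_g_rc_17_1 lc_g_rc_12_3 lc_g_rc_6_1 lc_g_rc_21_1 lc_g_rc_24_1 lc_g_rc_12_3 lc_g_rc_27_0 lc_g_rc_17_1 lc_g_rc_31_2 lc_g_rc_27_0 lc_g_rc_12_3 lc_g_rc_27_0 lc_g_rc_31_5 lc_g_rc_17_3) (@D3.rec (fun _ => (Cert rels S Gen.g)) lc_g_rc_27_0 lc_g_rc_12_3 lc_g_rc_6_1 lc_g_rc_6_1 lc_g_rc_12_1 lc_g_rc_6_1 lc_g_rc_27_0 lc_g_rc_27_0 lc_g_rc_12_3 lc_g_rc_29_1 lc_g_rc_17_3 lc_g_rc_27_0 lc_g_rc_27_0 lc_g_rc_12_3 lc_g_rc_27_0 lc_g_rc_29_1 lc_g_rc_6_1 lc_g_rc_27_0 lc_g_rc_17_1 lc_g_rc_17_1 lc_g_rc_17_1 lc_g_rc_21_1 lc_g_rc_12_3 lc_g_rc_21_3 lc_g_rc_27_0 lc_g_rc_27_0 lc_g_rc_12_3 lc_g_rc_17_1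 lc_g_rc_27_0 lc_g_rc_17_1 lc_g_rc_21_1 lc_g_rc_17_1 lc_g_rc_21_1 lc_g_rc_17_1 lc_g_rc_17_1 lc_g_rc_31_11 lc_g_Cert_tree lc_g_rc_17_1 lc_g_rc_12_1 lc_g_rc_12_3) (@D3.rec (fun _ => (Cert rels S Gen.g)) lc_g_rc_6_1 lc_g_rc_17_3 lc_g_rc_27_0 lc_g_rc_12_3 lc_g_rc_27_0 lc_g_rc_6_1 lc_g_rc_21_1 lc_g_rc_24_1 lc_g_rc_6_1 lc_g_rc_24_1 lc_g_rc_17_1 lc_g_rc_17_1 lc_g_rc_31_11 lc_g_rc_21_1 lc_g_rc_24_1 lc_g_rc_31_5 lc_g_rc_21_1 lc_g_rc_24_1 lc_g_rc_17_1 lc_g_rc_17_1 lc_g_rc_6_1 lc_g_rc_12_3 lc_g_rc_17_1 lc_g_rc_17_1 lc_g_rc_21_1 lc_g_rc_17_1 lc_g_rc_6_1 lc_g_rc_21_1 lc_g_rc_6_1 lc_g_rc_12_3 lc_g_rc_27_0 lc_g_rc_6_1 lc_g_rc_17_1 lc_g_rc_6_3 lc_g_rc_24_1 lc_g_rc_12_1 lc_g_rc_17_3 lc_g_rc_27_0 lc_g_rc_12_3 lc_g_Cert_tree)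 (@D3.rec (fun _ => (Cert rels S Gen.g)) lc_g_rc_27_0 lc_g_rc_17_1 lc_g_rc_27_0 lc_g_rc_24_1 lc_g_rc_29_3 lc_g_rc_21_1 lc_g_rc_29_3 lc_g_rc_6_1 lc_g_rc_24_1 lc_g_rc_17_1 lc_g_rc_6_1 lc_g_rc_27_0 lc_g_rc_21_1 lc_g_rc_12_3 lc_g_rc_27_0 lc_g_rc_31_8 lc_g_rc_27_0 lc_g_rc_27_0 lc_g_rc_17_3 lc_g_rc_24_1 lc_g_rc_17_1 lc_g_rc_12_3 lc_g_rc_21_1 lc_g_rc_26_5 lc_g_rc_21_1 lc_g_rc_6_1 lc_g_rc_29_1 lc_g_rc_12_5 lc_g_rc_21_1 lc_g_rc_17_1 lc_g_rc_6_1 lc_g_rc_24_1 lc_g_rc_6_1 lc_g_rc_29_1 lc_g_rc_27_0 lc_g_rc_21_1 lc_g_rc_17_3 lc_g_rc_17_1 lc_g_rc_17_1 lc_g_rc_24_1) (@D3.rec (fun _ => (Cert rels S Gen.g)) lc_g_rc_27_0 lc_g_rc_17_1 lc_g_rc_21_1 lc_g_rc_17_1 lc_g_rc_12_1 lc_g_rc_12_3 lc_g_rc_24_1 lc_g_rc_29_1 lc_g_rc_17_1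 lc_g_rc_17_1 lc_g_rc_29_1 lc_g_rc_27_1 lc_g_rc_6_1 lc_g_Cert_tree lc_g_rc_6_1 lc_g_rc_21_1 lc_g_rc_29_1 lc_g_rc_27_0 lc_g_rc_29_1 lc_g_rc_12_3 lc_g_rc_17_1 lc_g_rc_6_1 lc_g_rc_17_1 lc_g_rc_21_3 lc_g_rc_24_1 lc_g_rc_6_1 lc_g_rc_26_3 lc_g_rc_6_1 lc_g_rc_6_1 lc_g_rc_21_1 lc_g_rc_27_0 lc_g_rc_21_1 lc_g_rc_31_8 lc_g_rc_27_0 lc_g_rc_17_1 lc_g_rc_17_1 lc_g_rc_6_1 lc_g_rc_29_1 lc_g_rc_6_1 lc_g_rc_12_3) (@D3.rec (fun _ => (Cert rels S Gen.g)) lc_g_rc_27_0 lc_g_rc_21_1 lc_g_rc_6_1 lc_g_rc_21_3 lc_g_rc_6_1 lc_g_rc_21_1 lc_g_rc_24_1 lc_g_rc_21_1 lc_g_rc_12_3 lc_g_rc_17_1 lc_g_rc_26_5 lc_g_rc_17_1 lc_g_rc_12_3 lc_g_rc_17_3 lc_g_rc_27_0 lc_g_rc_17_1 lc_g_rc_31_5 lc_g_rc_27_0 lc_g_rc_6_1 lc_g_rc_27_0 lc_g_rc_21_1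 lc_g_rc_27_0 lc_g_rc_12_3 lc_g_rc_17_1 lc_g_rc_21_1 lc_g_rc_17_1 lc_g_rc_27_0 lc_g_rc_12_3 lc_g_rc_24_1 lc_g_rc_24_1 lc_g_rc_12_3 lc_g_rc_29_1 lc_g_rc_24_1 lc_g_rc_17_1 lc_g_rc_21_1 lc_g_rc_29_1 lc_g_rc_6_1 lc_g_rc_6_1 lc_g_rc_17_3 lc_g_rc_21_1) (@D3.rec (fun _ => (Cert rels S Gen.g)) lc_g_rc_27_0 lc_g_rc_17_1 lc_g_rc_26_5 lc_g_rc_17_1 lc_g_rc_27_0 lc_g_rc_21_1 lc_g_rc_17_1 lc_g_rc_27_0 lc_g_rc_31_5 lc_g_rc_24_1 lc_g_rc_24_1 lc_g_rc_6_1 lc_g_rc_12_3 lc_g_rc_27_1 lc_g_rc_21_1 lc_g_rc_24_1 lc_g_rc_17_1 lc_g_rc_17_1 lc_g_rc_21_1 lc_g_rc_17_1 lc_g_rc_21_1 lc_g_rc_31_8 lc_g_rc_27_0 lc_g_rc_29_3 lc_g_rc_21_1 lc_g_rc_12_3 lc_g_rc_24_1 lc_g_rc_17_1 lc_g_rc_17_1 lc_g_rc_6_3 lc_g_rc_29_3 lc_g_rc_27_0 lc_g_rc_12_3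 lc_g_rc_29_1 lc_g_rc_12_1 lc_g_rc_21_1 lc_g_rc_21_3 lc_g_rc_29_1 lc_g_rc_12_1 lc_g_rc_6_1) (@D3.rec (fun _ => (Cert rels S Gen.g)) lc_g_rc_17_1 lc_g_rc_27_0 lc_g_rc_12_3 lc_g_rc_17_1 lc_g_rc_6_1 lc_g_rc_27_0 lc_g_rc_21_1 lc_g_rc_6_1 lc_g_rc_31_8 lc_g_rc_17_3 lc_g_rc_27_0 lc_g_rc_17_1 lc_g_rc_6_1 lc_g_rc_17_1 lc_g_rc_29_1 lc_g_rc_21_1 lc_g_rc_27_0 lc_g_rc_6_1 lc_g_rc_12_3 lc_g_rc_6_3 lc_g_rc_21_1 lc_g_Cert_tree lc_g_rc_27_0 lc_g_rc_31_2 lc_g_rc_31_11 lc_g_rc_12_3 lc_g_rc_12_3 lc_g_rc_6_1 lc_g_rc_6_3 lc_g_rc_12_3 lc_g_rc_21_1 lc_g_rc_12_3 lc_g_rc_17_1 lc_g_rc_27_0 lc_g_rc_12_3 lc_g_rc_21_1 lc_g_rc_12_3 lc_g_rc_24_1 lc_g_rc_12_1 lc_g_rc_12_3) (@D3.rec (fun _ => (Cert rels S Gen.g)) lc_g_rc_12_3 lc_g_rc_12_1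 lc_g_rc_12_3 lc_g_rc_31_5 lc_g_rc_17_1 lc_g_rc_6_1 lc_g_rc_17_1 lc_g_rc_12_3 lc_g_rc_17_1 lc_g_rc_29_1 lc_g_rc_31_8 lc_g_rc_6_1 lc_g_rc_12_3 lc_g_rc_12_1 lc_g_rc_27_0 lc_g_rc_24_1 lc_g_rc_12_1 lc_g_rc_29_1 lc_g_rc_21_1 lc_g_rc_12_3 lc_g_rc_17_1 lc_g_rc_27_0 lc_g_rc_24_1 lc_g_rc_27_0 lc_g_rc_31_5 lc_g_rc_21_1 lc_g_rc_12_3 lc_g_rc_12_3 lc_g_rc_6_1 lc_g_rc_6_1 lc_g_rc_12_3 lc_g_rc_12_3 lc_g_rc_6_1 lc_g_rc_17_1 lc_g_rc_24_1 lc_g_rc_29_3 lc_g_rc_17_1 lc_g_rc_29_1 lc_g_rc_27_0 lc_g_rc_27_0) (@D3.rec (fun _ => (Cert rels S Gen.g)) lc_g_rc_6_1 lc_g_rc_6_1 lc_g_rc_27_0 lc_g_rc_31_2 lc_g_rc_12_3 lc_g_rc_17_1 lc_g_rc_31_8 lc_g_rc_17_1 lc_g_rc_12_3 lc_g_rc_6_1 lc_g_rc_6_1 lc_g_rc_12_3 lc_g_rc_24_1 lc_g_rc_31_5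 lc_g_rc_31_11 lc_g_rc_27_0 lc_g_rc_21_1 lc_g_rc_17_1 lc_g_rc_27_0 lc_g_rc_12_1 lc_g_rc_27_0 lc_g_rc_6_1 lc_g_rc_17_1 lc_g_rc_24_1 lc_g_rc_29_1 lc_g_rc_27_0 lc_g_rc_6_1 lc_g_rc_24_1 lc_g_rc_26_5 lc_g_rc_12_3 lc_g_rc_6_1 lc_g_rc_27_0 lc_g_rc_24_1 lc_g_rc_31_5 lc_g_rc_12_3 lc_g_rc_6_1 lc_g_rc_27_0 lc_g_rc_31_2 lc_g_rc_17_1 lc_g_rc_17_1)
def ce_g : Pt → (Cert rels S Gen.g) := @Pt.rec (fun _ => (Cert rels S Gen.g)) (@D1.rec (fun _ => D2 → D3 → (Cert rels S Gen.g)) ce_g_0 ce_g_1 ce_g_2 ce_g_3 ce_g_4 ce_g_5 ce_g_6 ce_g_7 ce_g_8 ce_g_9 ce_g_10 ce_g_11 ce_g_12 ce_g_13 ce_g_14 ce_g_15 ce_g_16 ce_g_17 ce_g_18 ce_g_19 ce_g_20 ce_g_21)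
def isSeed_g (p : Pt) : Bool := false

end

end Cfsg.Agent.Helper28.S1681
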