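import Cfsg.Agent.Lib.Helper28.S1681.Tree

set_option autoImplicit false
set_option maxRecDepth 100000
set_option linter.all false

namespace Cfsg.Agent.Helper28.S1681

open Cfsg.Agent.Helper28
open Cfsg.Spor.Suz (Gen)

noncomputable section

def lv_a_0 : D2 → D3 → Nat := @D2.rec (fun _ => D3 → Nat) (@D3.rec (fun _ => Nat) 1 3 4 5 0 5 1 2 2 3 6 0 2 2 2 3 3 3 3 2 3 1 2 2 3 3 3 3 3 0 0 4 4 4 4 4 4 2 3 0) (@D3.rec (fun _ => Nat) 0 2 2 2 3 3 3 3 12 2 70 3 0 4 4 4 4 4 4 0 0 1 9 8 1 71 9 5 5 5 5 5 5 60 2 43 3 2 3 0) (@D3.rec (fun _ => Nat) 0 1 2 2 1 2 2 3 3 3 3 13 11 0 4 4 4 4 4 4 10 2 72 3 10 8 72 14 1 2 2 2 3 5 5 5 5 5 5 0) (@D3.rec (fun _ => Nat) 0 0 0 1 2 9 1 2 10 6 11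 10 6 71 71 6 6 6 61 2 44 3 9 6 6 57 2 42 3 59 0 44 0 0 0 1 2 2 1 2) (@D3.rec (fun _ => Nat) 2 2 2 3 2 2 3 63 4 4 4 4 4 4 12 12 1 2 2 2 3 5 5 5 5 5 5 0 2 0 3 12 2 72 3 12 4 9 73 5) (@D3.rec (fun _ => Nat) 10 6 2 2 2 2 3 3 3 3 3 3 58 2 52 3 6 6 6 0 0 9 6 6 0 0 1 2 2 1 2 2 1 2 10 1 2 11 7 2) (@D3.rec (fun _ => Nat) 3 11 5 7 2 3 12 4 11 11 72 73 10 7 7 60 2 45 3 63 0 45 0 0 9 9 58 2 43 3 56 0 43 0 57 1 2 51 1 2) (@D3.rec (fun _ => Nat) 1 2 2 1 2 2 2 2 3 2 2 3 3 3 64 60 5 5 5 5 5 5 13 13 2 2 2 2 3 3 3 3 3 3 0 2 0 3 6 6) (@D3.rec (fun _ => Nat) 6 0 2 0 3 9 6 6 0 2 0 3 1 2 64 0 1 2 57 0 12 5 10 74 6 11 10 5 11 73 6 12 7 7 3 3 3 3 3 3) (@D3.rec (fun _ => Nat) 4 4 4 63 2 67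 3 7 4 4 55 2 53 3 55 0 52 0 10 7 7 0 0 1 59 2 1 66 2 0 9 9 0 0 1 2 2 1 2 2) (@D3.rec (fun _ => Nat) 2 2 3 3 2 2 3 3 8 2 3 12 6 8 2 3 13 5 3 4 11 0 6 3 4 12 0 5 66 11 13 42 74 75 0 11 10 10 59 2) (@D3.rec (fun _ => Nat) 44 3 62 0 46 0 1 1 1 2 3 0 2 0 3 59 57 0 44 44 0 54 1 2 52 1 2 54 0 2 3 53 0 2 3 2 2 3 3 2) (@D3.rec (fun _ => Nat) 2 3 3 3 0 3 0 14 14 65 65 61 6 6 6 9 6 6 3 3 3 3 3 3 66 56 4 4 4 64 2 75 3 8 4 4 0 2 0 3) (@D3.rec (fun _ => Nat) 1 2 3 57 1 2 4 65 10 7 7 0 2 0 3 1 65 66 0 1 76 60 0 0 9 9 0 2 0 3 1 2 62 0 1 2 56 0 62 2) (@D3.rec (fun _ => Nat) 3 60 0 4 1 2 43 2 3 54 0 3 1 2 14 6 12 74 7 13 12 6 0 11 77 7 0 12 8 8 8 4 4 4 6 4 4 8 5 5) (@D3.rec (fun _ =>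 Nat) 65 2 69 3 0 0 0 8 8 8 56 2 52 3 56 0 53 0 57 1 114 54 1 114 0 11 10 10 0 0 1 58 2 1 70 2 2 2 1 2) (@D3.rec (fun _ => Nat) 3 0 0 1 2 2 1 2 2 2 2 3 3 2 2 3 3 65 3 3 4 111 0 38 3 3 4 103 0 3 4 4 12 0 7 3 4 4 13 0) (@D3.rec (fun _ => Nat) 6 4 13 0 7 1 55 112 4 14 113 6 1 54 102 67 63 67 11 13 42 43 43 74 75 1 2 2 3 11 11 0 2 0 3 60 58 0 45 45) (@D3.rec (fun _ => Nat) 0 1 1 0 0 0 2 2 0 2 0 3 1 2 2 0 1 2 2 0 60 58 55 1 2 45 45 51 1 2 55 0 2 3 54 0 2 3 56 1) (@D3.rec (fun _ => Nat) 2 0 3 4 53 1 2 0 3 4 3 3 4 4 0 3 3 4 4 0 26 1 56 47 1 55 66 66 62 62 10 7 7 0 9 9 4 4 4 67) (@D3.rec (fun _ => Nat) 57 6 4 4 63 53 8 5 5 66 2 75 3 70 59 77 67 0 5 9 9 0 2 0 3 1 2 4 58 1 2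 5 62 2 3 4 54 2 3 5) (@D3.rec (fun _ => Nat) 61 0 11 10 10 0 2 0 3 1 65 66 0 1 76 60 0 63 65 0 1 2 44 76 0 1 2 1 2 3 0 2 0 3 1 2 63 0 1 2) (@D3.rec (fun _ => Nat) 57 0 59 2 3 59 0 5 1 2 44 2 3 55 0 4 1 2 3 4 62 0 5 1 108 2 113 3 4 56 0 4 1 117 2 113 14 12 7 0) (@D3.rec (fun _ => Nat) 12 74 75 8 0 13 7 115 1 113 13 8 104 1 103 14 9 9 9 9 8 5 5 0 7 7 7 0 9 8 8 59 2 64 3 0 0 1 2 1) (@D3.rec (fun _ => Nat) 2 1 2 2 3 7 9 9 9 0 2 0 3 55 0 52 0 58 1 112 55 1 112 57 54 1 2 2 3 11 11 0 0 1 2 2 1 2 2 2) (@D3.rec (fun _ => Nat) 60 2 72 0 2 2 0 2 0 3 1 2 2 1 2 2 2 2 3 3 2 2 3 3 62 3 3 4 4 4 0 39 3 3 4 4 4 0 4 111)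
def lv_a_1 : D2 → D3 → Nat := @D2.rec (fun _ => D3 → Nat) (@D3.rec (fun _ => Nat) 110 1 4 101 103 1 4 4 0 5 14 14 0 8 1 52 107 4 4 0 5 13 15 0 7 1 51 102 0 8 1 114 117 111 7 104 68 63 64 13) (@D3.rec (fun _ => Nat) 13 43 45 44 76 75 0 2 2 2 3 3 3 0 2 0 3 0 2 0 3 1 2 2 0 1 2 2 0 61 59 1 2 46 46 1 2 0 0 1) (@D3.rec (fun _ => Nat) 2 1 2 1 2 2 3 0 0 1 2 3 0 1 2 4 0 0 2 2 3 3 0 4 1 2 2 0 2 2 3 3 0 3 1 2 2 61 59 0) (@D3.rec (fun _ => Nat) 54 0 2 3 46 46 0 53 0 2 3 57 1 2 0 3 4 4 54 1 2 0 3 4 4 56 2 104 107 1 27 4 55 2 109 115 1 47 4 4) (@D3.rec (fun _ => Nat) 4 28 0 5 0 1 53 4 4 46 0 5 0 1 52 112 112 63 0 63 0 11 10 10 1 2 3 0 0 8 5 5 68 58 0 7 7 64 54 0) (@D3.rec (fun _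 => Nat) 77 8 8 66 2 77 3 66 59 77 67 1 2 2 3 82 6 6 0 2 0 3 1 2 5 58 1 2 6 63 2 3 5 55 2 3 6 63 56 3) (@D3.rec (fun _ => Nat) 4 57 54 3 4 61 1 2 2 3 11 11 0 2 0 3 1 2 63 0 1 2 61 0 64 67 67 0 1 2 45 76 76 0 1 2 1 2 2 1) (@D3.rec (fun _ => Nat) 2 2 0 2 2 0 2 0 3 1 2 2 0 1 2 2 0 60 2 3 62 0 6 1 2 45 2 3 59 0 5 1 2 3 4 4 62 0 6 1) (@D3.rec (fun _ => Nat) 110 2 3 3 4 4 57 0 5 1 115 2 3 4 62 112 111 1 115 4 59 104 105 1 113 0 14 8 8 0 1 113 14 14 0 75 8 9 0 1) (@D3.rec (fun _ => Nat) 103 13 15 114 102 10 0 10 0 9 8 8 1 2 2 3 9 8 8 0 0 1 2 3 10 9 9 0 2 0 3 65 0 73 0 1 2 1 2 2) (@D3.rec (fun _ => Nat) 2 2 2 2 3 3 0 2 0 3 81 8 8 9 9 0 2 0 3 1 2 2 0 1 2 2 0 57 1 2 54 1 2 58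 58 114 53 55 114 0) (@D3.rec (fun _ => Nat) 2 2 2 3 3 3 0 2 0 3 0 0 1 2 2 1 2 2 2 2 3 3 2 2 3 3 64 65 1 86 2 3 0 0 1 2 3 0 1 2) (@D3.rec (fun _ => Nat) 4 0 0 2 2 3 3 4 0 2 2 3 3 3 0 3 3 6 4 4 0 0 3 3 6 4 4 0 63 4 4 4 0 4 5 5 106 0 1 41) (@D3.rec (fun _ => Nat) 4 4 4 0 4 5 5 101 0 1 112 103 0 5 1 2 2 3 6 16 0 9 0 9 1 2 54 110 56 0 5 1 2 2 3 6 15 0 9 0) (@D3.rec (fun _ => Nat) 8 1 2 54 102 55 1 112 64 64 64 13 0 45 45 46 74 0 1 2 72 2 3 3 3 3 0 0 4 4 4 0 2 0 3 1 2 3 0 1) (@D3.rec (fun _ => Nat) 2 4 0 1 2 2 0 1 2 2 0 0 2 2 3 3 0 4 1 2 2 0 2 2 3 3 0 3 1 2 2 62 62 0 0 2 3 47 47 0) (@D3.rec (fun _ => Nat) 0 2 3 1 2 1 2 2 2 2 2 2 3 3 3 0 2 0 3 1 2 2 1 2 2 0 2 3 4 0 1 2 2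 0 2 3 5 0 1 2) (@D3.rec (fun _ => Nat) 2 1 77 2 3 0 3 3 0 4 4 4 0 5 1 2 4 0 0 2 2 3 3 3 1 85 2 3 0 3 3 0 4 4 4 0 4 1 2 3) (@D3.rec (fun _ => Nat) 0 0 2 2 3 3 4 60 0 1 2 2 56 1 2 0 3 7 4 47 0 1 2 2 53 1 2 0 3 8 4 59 57 2 102 3 1 2 27 4) (@D3.rec (fun _ => Nat) 4 0 5 5 51 56 2 110 3 1 2 48 4 4 0 6 5 109 115 0 5 30 1 2 2 0 1 2 53 58 105 5 47 1 2 109 0 1 2 55) (@D3.rec (fun _ => Nat) 35 0 1 2 2 3 1 2 2 3 11 11 0 0 0 2 2 0 2 0 3 1 2 1 2 77 8 8 65 55 1 2 3 0 0 65 55 1 2 2) (@D3.rec (fun _ => Nat) 3 78 78 0 2 0 3 69 6 60 78 7 64 78 2 2 2 3 3 3 3 0 2 0 3 82 82 0 2 0 3 1 2 2 0 1 2 2 0 2) (@D3.rec (fun _ => Nat) 3 6 58 2 3 7 64 57 3 4 4 6 58 55 3 4 4 7 61 58 4 58 55 4 63 0 2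 2 2 75 3 3 0 2 0 3 0 2 0 3) (@D3.rec (fun _ => Nat) 1 2 2 0 1 2 2 0 61 2 3 65 0 7 1 2 46 2 3 61 0 6 1 2 68 1 2 2 3 77 1 2 2 3 2 2 1 2 3 0) (@D3.rec (fun _ => Nat) 0 1 2 3 0 1 2 4 0 0 2 2 3 3 0 4 1 2 2 0 2 2 3 3 0 3 1 2 2 61 0 3 6 4 65 0 7 1 2 2) (@D3.rec (fun _ => Nat) 3 46 0 3 6 4 58 0 7 1 2 2 3 4 4 0 4 5 62 62 0 7 1 57 58 108 3 4 113 4 4 0 4 5 58 57 0 6 1 54)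
def lv_a_2 : D2 → D3 → Nat := @D2.rec (fun _ => D3 → Nat) (@D3.rec (fun _ => Nat) 34 116 3 4 111 1 2 2 3 12 9 0 114 1 2 111 0 16 1 2 2 3 75 9 0 102 1 2 101 0 15 0 1 2 2 3 1 79 2 3) (@D3.rec (fun _ => Nat) 10 9 9 0 0 86 2 2 2 3 81 3 3 0 2 0 3 9 9 0 0 1 2 1 2 2 2 0 2 0 3 10 10 0 2 0 3 1 2 2) (@D3.rec (fun _ => Nat) 0 1 2 2 0 59 1 2 66 1 2 2 3 2 3 3 3 0 0 0 2 0 3 1 2 3 0 1 2 4 0 81 81 0 0 0 2 0 3 1) (@D3.rec (fun _ => Nat) 2 2 0 1 2 2 0 0 2 2 3 3 0 4 1 2 2 0 2 2 3 3 0 3 1 2 2 5 57 2 3 5 54 2 3 0 4 58 104 0) (@D3.rec (fun _ => Nat) 4 52 112 1 76 2 3 3 3 3 0 0 4 4 0 2 0 3 1 2 3 0 1 2 4 0 1 2 2 1 2 2 0 2 2 3 3 4 0 2) (@D3.rec (fun _ => Nat) 2 3 3 3 0 3 3 4 61 0 0 3 3 4 68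 0 0 60 0 74 2 2 87 87 63 2 89 3 1 56 2 1 90 2 0 2 3 4 0 1) (@D3.rec (fun _ => Nat) 2 2 0 2 3 5 0 1 2 2 1 2 3 76 3 3 0 11 4 4 0 5 0 1 2 3 84 3 3 0 11 4 4 0 4 0 1 2 2 3) (@D3.rec (fun _ => Nat) 4 4 0 0 5 7 5 0 1 2 1 2 2 3 4 4 0 0 5 7 5 0 1 2 64 90 5 5 1 2 2 2 3 7 5 96 111 0 109 1) (@D3.rec (fun _ => Nat) 2 41 94 5 5 1 2 2 2 3 7 5 101 101 0 103 1 2 1 98 97 2 6 0 2 2 2 92 93 3 2 0 3 13 16 0 10 1 2 2) (@D3.rec (fun _ => Nat) 0 1 2 103 2 3 59 107 1 101 2 103 6 0 2 2 2 109 3 107 0 2 3 76 17 0 10 1 2 2 0 1 2 103 2 3 56 102 65 0) (@D3.rec (fun _ => Nat) 65 65 0 1 2 3 45 0 45 46 0 1 2 3 2 2 2 3 3 3 74 74 0 2 0 3 0 4 4 4 0 0 1 2 2 1 2 2 5 5) (@D3.rec (fun _ => Nat) 73 2 92 3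 1 2 4 0 1 2 5 0 83 2 3 4 0 1 2 2 85 2 3 5 0 1 2 2 71 2 2 3 3 0 5 1 2 2 79 2) (@D3.rec (fun _ => Nat) 2 3 3 0 4 1 2 2 1 75 2 3 0 3 3 0 4 4 4 0 5 1 2 4 0 0 2 2 3 3 3 1 83 2 3 0 3 3 0 4) (@D3.rec (fun _ => Nat) 4 4 0 4 1 2 3 0 0 2 2 3 3 4 0 63 1 2 1 2 0 3 62 4 0 48 1 2 1 2 0 3 70 4 2 3 2 3 65 63) (@D3.rec (fun _ => Nat) 3 3 3 0 0 4 4 4 4 63 2 77 3 1 2 3 0 1 2 4 0 0 2 2 3 3 4 0 2 2 3 3 3 1 81 57 3 0 3 4) (@D3.rec (fun _ => Nat) 4 5 62 1 2 4 0 2 2 3 3 3 1 91 2 89 0 3 4 4 6 93 1 2 3 0 2 2 3 3 4 2 2 76 77 77 77 2 0 3) (@D3.rec (fun _ => Nat) 1 2 2 3 4 4 4 0 1 2 2 9 5 5 5 0 6 1 2 6 0 0 2 3 5 0 1 2 2 1 2 2 2 0 3 3 6 4 4 4) (@D3.rec (fun _ => Nat) 4 0 2 2 84 85 85 85 0 2 3 1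 2 2 3 4 4 4 0 1 2 8 9 5 5 5 0 5 1 2 5 0 0 2 3 4 0 1 2 2) (@D3.rec (fun _ => Nat) 1 2 2 2 0 3 3 7 12 4 4 5 0 0 1 2 0 2 2 3 3 5 56 2 0 3 1 2 2 3 4 0 6 0 1 2 0 2 2 3) (@D3.rec (fun _ => Nat) 3 6 55 2 0 3 1 2 2 3 4 0 7 0 59 3 102 4 109 2 5 31 0 5 1 2 2 2 2 8 6 0 54 3 110 4 116 2 5 46) (@D3.rec (fun _ => Nat) 0 5 1 2 103 2 99 9 6 1 110 0 30 118 2 2 0 106 1 2 117 110 2 9 59 0 47 107 2 0 1 2 106 109 2 8 57 1 2 3) (@D3.rec (fun _ => Nat) 85 2 2 2 13 3 3 2 3 0 2 2 2 73 3 3 0 2 0 3 0 0 1 2 1 2 1 79 2 3 0 0 1 3 0 1 4 0 0 2) (@D3.rec (fun _ => Nat) 4 0 2 3 78 78 0 0 66 56 94 2 2 0 2 0 3 1 2 2 1 2 2 66 56 77 2 2 2 91 95 0 2 0 3 0 2 0 3 1) (@D3.rec (fun _ => Nat) 2 2 0 1 2 2 0 66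 7 62 78 8 66 93 96 100 3 3 3 3 95 99 11 4 102 97 91 95 0 2 0 3 1 2 3 0 1 2 4 0) (@D3.rec (fun _ => Nat) 0 2 0 3 1 86 2 0 1 90 2 0 96 2 2 3 3 0 4 1 2 2 104 2 2 3 3 0 3 1 2 2 0 3 6 4 7 0 57 0) (@D3.rec (fun _ => Nat) 3 6 4 8 0 63 59 58 4 4 91 4 100 7 57 58 56 56 4 4 95 4 97 7 63 63 1 2 2 3 3 3 0 0 75 75 0 2 0 3)
def lv_a_3 : D2 → D3 → Nat := @D2.rec (fun _ => D3 → Nat) (@D3.rec (fun _ => Nat) 1 2 3 0 1 2 4 0 1 72 2 0 1 80 2 0 0 2 2 3 3 0 4 1 2 2 0 2 2 3 3 0 3 1 2 2 62 0 3 4) (@D3.rec (fun _ => Nat) 65 0 8 1 2 2 3 47 0 3 4 63 0 7 1 2 2 3 0 67 2 3 3 4 0 79 2 3 3 4 76 75 2 2 0 2 0 3 1 2) (@D3.rec (fun _ => Nat) 2 1 2 2 0 2 100 4 0 1 2 2 0 2 105 5 0 1 2 2 1 2 2 3 64 3 3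 0 4 4 0 5 1 2 4 0 0 2 2 3) (@D3.rec (fun _ => Nat) 3 3 1 2 2 3 60 3 3 0 4 4 0 4 1 116 3 0 0 2 2 113 3 4 0 62 1 2 2 3 4 97 5 6 65 0 8 1 2 2) (@D3.rec (fun _ => Nat) 0 2 3 0 3 7 4 0 47 1 2 2 3 4 97 5 6 58 0 7 1 2 2 0 2 3 0 3 8 4 0 5 1 2 2 2 3 7 5 6) (@D3.rec (fun _ => Nat) 64 0 10 110 109 1 2 110 4 0 5 105 0 5 1 2 2 2 2 7 5 6 59 0 8 102 110 1 2 115 4 0 6 113 0 2 2 2 85 3) (@D3.rec (fun _ => Nat) 3 2 0 3 14 0 1 2 2 114 2 3 113 1 2 2 3 16 0 2 2 2 89 3 3 0 2 3 75 0 1 2 2 102 2 11 101 1 2 2) (@D3.rec (fun _ => Nat) 3 17 1 2 3 2 2 2 80 3 3 2 3 80 2 2 81 81 0 2 0 3 10 10 0 0 1 2 1 2 82 87 87 3 3 3 99 96 4 82) (@D3.rec (fun _ => Nat) 4 4 83 83 91 2 95 3 1 3 0 1 4 0 0 0 1 2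 2 1 2 2 86 2 4 90 2 3 0 0 1 2 3 0 1 2 4 0 82 2) (@D3.rec (fun _ => Nat) 90 3 1 84 2 0 1 84 2 0 0 2 2 3 3 0 4 1 2 2 0 2 2 3 3 0 3 1 2 2 61 2 3 75 2 3 3 4 3 4) (@D3.rec (fun _ => Nat) 90 94 1 60 2 1 90 2 1 100 4 0 1 99 5 0 96 2 3 4 0 1 2 2 97 2 3 5 0 1 2 2 86 96 1 86 2 1 100 2) (@D3.rec (fun _ => Nat) 1 96 2 0 1 104 2 0 98 2 2 98 3 0 5 1 2 2 103 2 2 104 3 0 4 1 2 2 1 87 2 100 102 3 3 0 4 4 4 5) (@D3.rec (fun _ => Nat) 1 2 4 0 0 2 2 3 3 3 1 88 107 3 108 3 3 0 4 4 4 4 1 2 3 0 0 2 2 3 3 4 97 5 0 3 6 4 99 5) (@D3.rec (fun _ => Nat) 0 3 7 4 1 2 100 95 2 6 64 0 5 1 2 98 2 97 6 67 0 6 2 2 76 76 62 2 85 3 0 4 4 0 0 1 59 2 1 92) (@D3.rec (fun _ => Nat) 2 74 2 95 3 1 2 4 0 1 2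 5 0 0 2 3 4 0 1 2 2 0 2 3 5 0 1 2 2 73 2 2 3 3 5 81 2 2 3 3) (@D3.rec (fun _ => Nat) 4 1 2 3 77 3 3 0 4 4 4 0 5 0 1 2 3 85 3 3 0 4 4 4 0 4 0 1 2 2 3 4 0 63 0 1 2 1 2 2) (@D3.rec (fun _ => Nat) 3 4 0 71 0 1 2 1 2 2 3 60 1 2 2 3 67 15 14 0 2 0 3 61 12 91 13 15 2 64 15 2 88 1 2 17 12 0 3 12) (@D3.rec (fun _ => Nat) 4 5 0 1 2 4 13 2 2 3 3 3 1 2 12 12 0 3 12 4 6 0 1 2 3 12 2 2 3 3 4 2 2 2 11 3 78 79 78 4) (@D3.rec (fun _ => Nat) 4 0 1 2 2 0 10 12 5 0 6 1 6 0 1 2 15 2 2 12 2 3 86 86 87 4 4 0 1 2 12 0 10 12 5 0 5 1 5 0) (@D3.rec (fun _ => Nat) 1 2 12 75 2 2 2 3 3 3 3 2 0 3 5 0 1 2 1 92 93 99 8 6 0 0 1 2 98 81 2 5 83 2 2 2 3 3 3 3) (@D3.rec (fun _ => Nat) 0 2 3 5 0 1 2 1 96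 98 8 6 0 0 1 106 102 86 2 6 92 64 99 0 0 2 2 2 2 3 95 3 3 90 3 2 0 3 6 8) (@D3.rec (fun _ => Nat) 98 65 106 0 1 2 2 111 2 3 97 41 100 0 0 2 2 2 2 3 3 105 3 3 109 0 2 3 6 8 102 68 101 0 1 2 99 103 2 53) (@D3.rec (fun _ => Nat) 0 2 95 95 1 92 97 92 3 3 0 91 91 92 0 0 1 2 4 0 16 0 1 2 2 0 0 2 2 3 3 0 3 1 2 2 2 3 112 0) (@D3.rec (fun _ => Nat) 3 9 4 59 0 110 0 2 104 102 1 96 102 2 99 3 0 106 109 0 111 1 2 3 0 0 77 0 1 2 2 0 0 2 2 3 3 0 4 1) (@D3.rec (fun _ => Nat) 2 2 2 3 103 0 3 11 4 56 0 102 0 70 1 2 90 3 66 66 103 1 2 0 2 2 2 3 0 45 1 2 2 94 46 46 96 1 2 0) (@D3.rec (fun _ => Nat) 2 2 2 3 3 3 3 0 0 86 93 98 64 2 78 3 0 2 0 3 1 2 3 0 1 2 4 0 1 2 2 3 5 5 0 0 1 2 2 1)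
def lv_a_4 : D2 → D3 → Nat := @D2.rec (fun _ => D3 → Nat) (@D3.rec (fun _ => Nat) 2 2 80 2 2 3 3 4 87 2 2 3 3 3 74 2 93 3 73 74 0 93 93 0 83 2 92 5 0 1 2 2 87 2 94 6 0 1 2 2) (@D3.rec (fun _ => Nat) 60 83 0 3 4 4 5 62 1 2 4 85 2 2 3 3 3 87 85 0 3 4 4 6 88 1 2 3 84 2 2 3 3 4 74 74 93 3 3 0) (@D3.rec (fun _ => Nat) 6 87 4 95 6 1 2 4 0 85 2 2 3 3 3 82 82 98 3 3 0 6 99 4 86 5 1 2 3 0 85 2 2 3 3 4 2 2 74 76) (@D3.rec (fun _ => Nat) 76 76 2 0 3 1 72 2 3 4 4 4 0 1 2 2 0 4 5 5 5 0 6 1 6 0 0 2 3 5 0 1 2 2 1 2 2 2 0 3) (@D3.rec (fun _ => Nat) 3 6 4 4 4 4 0 2 2 82 84 84 84 0 2 3 1 80 2 3 4 4 4 0 1 2 8 0 4 5 5 5 0 5 1 5 0 0 2 3) (@D3.rec (fun _ => Nat) 4 0 1 2 2 1 2 2 2 0 3 3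 7 4 4 4 5 0 1 2 2 0 2 5 2 0 3 1 2 2 3 4 0 62 1 2 2 0 2 6) (@D3.rec (fun _ => Nat) 2 0 3 1 2 2 3 4 0 69 67 3 4 62 3 4 4 4 4 4 95 104 1 2 10 1 2 10 84 81 5 5 5 97 95 64 2 78 3 62) (@D3.rec (fun _ => Nat) 63 0 78 77 0 16 2 3 4 13 1 2 8 12 2 3 5 13 1 2 5 1 83 16 13 0 3 3 10 4 4 61 5 1 88 12 14 0 3 3) (@D3.rec (fun _ => Nat) 7 4 4 94 4 2 0 83 2 3 1 2 2 3 4 4 65 10 5 6 6 62 62 62 14 2 3 5 1 82 11 0 3 3 4 4 4 94 4 14) (@D3.rec (fun _ => Nat) 2 0 91 2 3 1 2 2 3 4 4 98 10 5 6 7 95 95 95 13 2 3 4 1 86 12 0 3 3 4 4 4 63 5 11 14 13 76 78 79) (@D3.rec (fun _ => Nat) 2 0 3 13 1 2 13 9 2 2 2 3 3 3 3 2 0 3 92 5 5 5 0 1 2 2 13 2 2 3 3 12 10 94 6 0 9 0 7 1) (@D3.rec (fun _ => Nat) 93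 94 0 0 2 3 7 0 1 2 2 1 2 13 7 0 3 4 4 6 0 1 2 3 2 2 3 3 4 2 2 2 0 111 3 3 6 8 1 2) (@D3.rec (fun _ => Nat) 2 3 4 4 4 100 8 0 10 5 5 5 5 0 1 2 12 13 16 84 86 87 0 2 3 1 2 12 13 2 2 2 3 3 3 3 0 2 3 97) (@D3.rec (fun _ => Nat) 5 5 5 0 1 2 2 16 2 3 10 12 10 101 6 0 7 0 6 1 95 94 0 0 2 3 7 0 1 2 2 1 2 8 12 0 3 13 4 5) (@D3.rec (fun _ => Nat) 0 1 2 4 2 2 3 3 3 2 2 2 0 107 3 112 9 9 1 2 2 3 4 4 102 9 0 11 13 5 6 0 1 2 14 1 2 0 2 1) (@D3.rec (fun _ => Nat) 87 2 88 3 3 92 4 89 6 0 82 3 1 2 2 3 10 4 5 2 2 2 5 3 3 3 2 3 1 2 2 3 9 1 2 0 2 1 91 2) (@D3.rec (fun _ => Nat) 87 3 3 97 4 93 8 0 82 3 1 2 2 3 11 4 6 2 2 2 5 3 3 3 2 3 1 2 2 3 10 1 94 98 4 104 114 8 109 4) (@D3.rec (fun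 _ => Nat) 0 4 29 1 2 2 3 6 96 2 2 2 2 3 3 3 3 3 100 102 7 1 99 4 110 114 9 115 4 0 4 48 1 2 2 3 6 100 2 2) (@D3.rec (fun _ => Nat) 3 3 3 103 104 8 118 0 1 2 119 30 116 118 0 0 1 2 100 0 2 3 117 119 113 0 12 58 116 1 2 101 47 107 107 0 1 2 0 2) (@D3.rec (fun _ => Nat) 3 108 108 112 0 10 57 113 2 2 2 3 3 3 13 13 2 3 104 104 1 77 2 2 3 3 3 0 0 75 75 0 2 0 3 1 3 0 1 4) (@D3.rec (fun _ => Nat) 0 1 72 2 1 80 2 2 4 2 3 2 2 2 3 1 2 1 2 0 0 1 2 2 0 0 1 2 2 1 2 0 0 1 2 0 0 0 0 1) (@D3.rec (fun _ => Nat) 2 2 1 2 2 67 57 0 0 1 2 3 1 2 4 94 2 2 3 3 4 104 2 2 3 3 3 67 57 96 100 0 2 0 3 1 2 3 0 1) (@D3.rec (fun _ => Nat) 2 4 0 1 73 2 0 1 81 2 0 93 2 2 3 3 0 4 1 2 2 106 2 2 3 3 0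 3 1 2 2 68 8 0 62 82 9 0 66 2) (@D3.rec (fun _ => Nat) 3 4 83 12 12 5 91 96 91 2 93 3 91 95 1 103 4 0 1 100 5 0 0 2 4 0 1 2 2 0 2 5 0 1 2 2 1 94 2 112) (@D3.rec (fun _ => Nat) 1 98 2 112 2 86 0 5 1 116 96 2 90 0 4 1 117 103 94 98 3 3 101 4 4 0 5 1 2 4 0 0 2 2 101 3 3 106 105 3) (@D3.rec (fun _ => Nat) 3 99 4 4 0 4 1 2 3 0 0 2 2 99 3 4 1 98 4 97 5 6 8 0 1 2 59 1 99 4 96 5 7 9 0 1 2 66 60 99)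
def lv_a_5 : D2 → D3 → Nat := @D2.rec (fun _ => D3 → Nat) (@D3.rec (fun _ => Nat) 94 7 5 0 0 58 57 98 97 7 5 0 0 63 2 2 2 3 3 0 2 0 3 0 0 1 2 2 1 2 2 0 0 1 75 4 0 1 83 5) (@D3.rec (fun _ => Nat) 0 0 2 3 4 0 1 2 2 0 2 3 5 0 1 2 2 0 2 75 0 5 1 86 2 0 2 83 0 4 1 84 2 1 2 2 3 66 3 3) (@D3.rec (fun _ => Nat) 0 4 4 0 5 1 2 4 0 0 2 2 3 3 3 1 2 2 3 62 3 3 0 4 4 0 4 1 2 3 0 0 2 2 3 3 4 79 63 1) (@D3.rec (fun _ => Nat) 2 2 3 4 67 0 9 1 2 2 0 2 3 0 3 7 4 95 48 1 2 2 3 4 63 0 8 1 2 2 0 2 3 0 3 8 4 1 2 2) (@D3.rec (fun _ => Nat) 67 76 3 4 4 0 5 1 2 2 81 77 3 4 4 0 6 0 0 1 97 3 0 1 102 4 0 0 2 2 3 4 0 2 2 3 3 1 65 65) (@D3.rec (fun _ => Nat) 2 100 5 0 1 107 4 0 2 2 115 3 3 1 92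 2 96 114 6 0 1 117 3 0 2 2 118 3 4 2 2 2 65 3 3 3 2 0 3 99) (@D3.rec (fun _ => Nat) 66 66 4 4 0 1 2 2 5 0 6 1 2 6 0 0 2 113 115 0 1 2 2 1 108 2 2 0 3 3 18 111 0 2 2 2 61 3 3 3) (@D3.rec (fun _ => Nat) 0 2 3 99 62 64 4 4 0 1 2 8 5 0 5 1 2 5 0 0 0 1 2 2 1 100 2 2 0 3 16 112 0 1 82 2 3 63 2 2) (@D3.rec (fun _ => Nat) 2 3 96 2 3 104 99 98 8 6 100 0 9 1 106 103 96 97 2 2 3 3 0 5 1 2 0 3 7 4 1 2 2 3 4 0 6 1 93 2) (@D3.rec (fun _ => Nat) 3 48 2 2 2 3 104 2 3 97 101 97 8 6 101 0 8 1 109 107 99 101 2 2 3 3 0 6 1 2 0 3 8 4 1 2 2 3 4 0) (@D3.rec (fun _ => Nat) 7 1 2 2 6 92 2 2 2 2 3 3 3 2 0 3 6 7 97 64 97 111 1 106 104 0 102 2 3 0 6 0 1 2 2 2 2 8 1 2) (@D3.rec (fun _ => Nat)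 2 6 96 2 2 2 2 3 3 101 6 7 99 59 110 1 99 103 0 100 2 3 0 7 0 1 2 2 2 2 9 1 2 2 3 3 0 87 100 0) (@D3.rec (fun _ => Nat) 0 1 2 4 0 1 102 102 98 2 2 3 104 3 114 0 3 13 4 115 113 115 2 2 2 3 3 3 2 3 1 2 2 3 3 0 91 107 1 0) (@D3.rec (fun _ => Nat) 112 1 103 115 2 2 3 101 110 108 0 14 107 109 111 2 2 2 3 3 3 2 3 2 2 2 3 3 3 91 90 5 80 80 2 3 0 0 80 80) (@D3.rec (fun _ => Nat) 98 98 0 2 0 3 1 3 0 1 4 0 84 87 1 82 2 1 86 2 83 2 4 88 2 3 82 82 98 98 64 4 4 4 96 98 100 102 6 85) (@D3.rec (fun _ => Nat) 5 5 82 82 2 3 89 2 93 3 4 0 5 0 0 1 2 2 0 1 2 2 1 2 2 1 2 2 88 2 2 3 5 92 2 2 3 4 87 87) (@D3.rec (fun _ => Nat) 0 92 88 67 0 63 1 60 81 1 86 81 98 2 3 4 0 1 2 2 97 2 3 5 0 1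 2 2 82 87 92 82 0 2 84 82 0 82 1 85) (@D3.rec (fun _ => Nat) 2 0 2 86 86 0 80 1 84 2 1 87 2 102 102 3 3 0 4 4 4 5 1 2 4 0 0 2 2 3 3 3 1 86 104 3 106 3 3 0) (@D3.rec (fun _ => Nat) 4 4 4 4 1 2 3 0 0 2 2 3 3 4 0 3 7 4 0 3 8 4 4 0 5 4 0 6 93 96 2 2 5 0 1 102 2 6 0 1) (@D3.rec (fun _ => Nat) 105 2 98 57 3 4 5 0 1 2 4 0 2 2 3 3 3 97 88 3 4 6 0 1 2 3 0 2 2 3 3 4 87 98 2 87 2 100 2 96) (@D3.rec (fun _ => Nat) 0 1 2 2 2 104 0 1 2 2 3 0 96 96 103 6 1 2 4 0 102 2 2 3 3 3 3 0 103 103 108 5 1 2 3 0 102 2 2 3) (@D3.rec (fun _ => Nat) 3 4 2 89 2 88 3 4 4 4 0 1 92 2 5 98 5 6 0 0 2 3 5 0 1 2 2 1 82 100 98 0 3 3 56 4 4 4 4 0) (@D3.rec (fun _ => Nat) 2 88 54 2 3 4 4 4 0 1 55 8 5 112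 5 5 0 0 2 3 4 0 1 2 2 1 87 98 100 0 3 3 87 4 4 4 5 0 92 7) (@D3.rec (fun _ => Nat) 1 2 2 2 4 0 6 99 7 1 110 108 2 4 0 7 2 2 3 3 95 3 97 6 1 2 2 106 7 2 2 3 3 3 103 99 6 1 2 106) (@D3.rec (fun _ => Nat) 2 8 16 15 60 2 85 3 60 13 91 14 1 2 3 0 0 1 2 2 1 2 2 15 2 61 57 16 2 88 84 74 75 0 96 96 0 85 2 3) (@D3.rec (fun _ => Nat) 5 0 1 2 2 89 2 3 6 0 1 2 2 1 2 18 13 0 3 4 4 5 0 1 2 4 14 2 2 3 3 3 1 2 13 13 0 3 4 4)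
def lv_a_6 : D2 → D3 → Nat := @D2.rec (fun _ => D3 → Nat) (@D3.rec (fun _ => Nat) 6 0 1 2 3 13 2 2 3 3 4 76 76 91 3 3 0 6 90 4 97 6 0 84 84 93 3 3 0 6 92 4 86 5 0 2 2 2 12 3) (@D3.rec (fun _ => Nat) 76 76 76 4 4 4 0 1 84 84 4 5 5 5 0 6 1 6 0 1 2 16 2 2 13 2 3 84 84 84 4 4 4 0 1 84 85 4 5 5) (@D3.rec (fun _ => Nat) 5 0 5 1 5 0 1 2 13 76 2 2 2 3 3 3 3 2 0 3 1 2 0 1 2 2 83 2 5 84 2 2 2 3 3 3 3 0 2 3) (@D3.rec (fun _ => Nat) 1 2 0 1 2 2 86 2 6 86 2 2 2 3 3 3 3 2 3 85 2 2 2 3 3 3 3 2 3 15 13 15 15 1 64 85 1 88 87 14) (@D3.rec (fun _ => Nat) 14 13 13 14 13 2 11 99 17 14 2 3 1 2 11 2 4 11 6 6 0 1 2 2 12 2 3 5 13 0 3 3 113 119 4 4 2 87 104 14) (@D3.rec (fun _ => Nat) 14 2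 3 1 2 2 89 4 11 6 7 0 1 2 2 12 2 3 4 12 0 3 3 113 118 4 5 13 90 14 77 78 91 5 0 1 89 2 10 2) (@D3.rec (fun _ => Nat) 2 89 86 1 92 97 12 11 7 0 7 1 0 0 0 1 2 2 2 3 12 13 12 57 85 86 55 5 0 1 54 2 10 2 87 82 1 97 98 12) (@D3.rec (fun _ => Nat) 11 7 0 6 1 0 0 0 1 2 2 2 3 13 11 77 3 3 3 3 80 0 4 4 4 4 2 0 3 0 1 4 0 0 1 83 2 3 70 0) (@D3.rec (fun _ => Nat) 9 0 1 2 2 1 2 96 83 2 105 81 81 0 85 3 3 3 3 0 87 4 4 4 4 0 2 3 1 3 0 0 0 1 88 2 4 50 0 9) (@D3.rec (fun _ => Nat) 0 1 2 2 1 107 102 90 88 88 0 90 100 65 0 1 2 1 95 102 2 3 3 3 3 4 94 4 97 98 87 92 4 2 0 3 110 1 2 4) (@D3.rec (fun _ => Nat) 106 7 96 100 98 0 1 2 2 2 2 3 3 3 109 0 3 55 4 94 98 42 0 1 2 1 109 2 110 3 3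 3 3 4 4 105 102 105 106 4) (@D3.rec (fun _ => Nat) 107 0 108 1 2 3 7 100 102 102 0 1 2 101 2 3 104 4 105 0 56 1 89 97 0 0 2 71 92 105 2 0 3 96 1 101 91 0 99 1) (@D3.rec (fun _ => Nat) 108 99 1 108 105 0 2 115 119 0 1 2 0 1 2 2 100 2 2 104 3 0 1 2 1 108 99 2 112 3 3 0 4 105 1 107 3 108 2 2) (@D3.rec (fun _ => Nat) 4 0 3 4 0 103 1 2 2 3 4 0 9 62 0 1 2 1 101 101 0 0 2 51 96 101 0 2 3 103 1 112 108 0 1 114 114 0 2 105) (@D3.rec (fun _ => Nat) 117 0 1 2 1 108 0 1 2 2 112 2 2 108 3 0 1 2 1 104 2 102 106 3 3 0 4 112 1 106 4 114 2 2 3 0 3 4 0 103) (@D3.rec (fun _ => Nat) 1 2 2 2 4 0 10 58 0 1 2 1 79 2 67 2 2 100 77 98 3 2 3 67 0 2 97 1 88 0 0 102 1 89 2 46 2 2 100 85) (@D3.rec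 (fun _ => Nat) 3 99 2 3 47 0 2 102 1 94 0 104 0 1 2 11 1 2 11 65 2 79 3 63 64 0 79 78 0 1 2 4 0 1 2 5 0 17 2 3) (@D3.rec (fun _ => Nat) 4 14 1 2 8 13 2 3 5 14 1 2 5 9 2 2 2 3 3 97 2 87 3 0 0 1 2 2 1 2 2 81 2 2 3 3 5 87 2 2) (@D3.rec (fun _ => Nat) 3 3 4 16 83 87 3 3 10 4 93 4 61 5 88 15 94 3 3 7 4 96 4 87 4 75 0 94 0 74 74 96 1 2 94 94 88 1 2 85) (@D3.rec (fun _ => Nat) 63 85 5 92 6 0 1 2 4 85 2 2 3 3 3 87 87 85 5 97 7 0 1 2 3 86 2 2 3 3 4 2 3 1 80 2 3 4 4 4) (@D3.rec (fun _ => Nat) 10 6 62 62 62 15 2 3 5 12 0 3 3 4 4 4 86 4 15 2 3 1 88 2 3 4 4 4 6 7 88 88 88 14 2 3 4 13 0 3) (@D3.rec (fun _ => Nat) 3 4 4 4 63 5 12 2 0 3 92 88 94 4 0 1 2 2 0 5 7 95 98 7 96 98 0 0 2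 3 5 0 1 2 2 83 85 0 3 3) (@D3.rec (fun _ => Nat) 8 7 4 4 87 4 0 0 2 3 98 98 98 4 0 1 2 9 0 5 7 97 87 6 86 87 0 0 2 3 4 0 1 2 2 85 87 0 3 3) (@D3.rec (fun _ => Nat) 7 8 4 4 94 5 0 15 14 75 75 77 77 77 2 0 3 14 1 2 14 9 2 2 84 74 73 2 0 3 86 5 5 5 0 1 2 2 14 2) (@D3.rec (fun _ => Nat) 2 3 3 1 2 92 2 3 7 5 86 89 9 0 7 1 69 0 0 0 1 2 2 1 2 14 7 0 3 4 4 6 0 1 2 3 2 2 3 3) (@D3.rec (fun _ => Nat) 4 2 2 2 0 3 3 3 6 8 1 2 2 3 4 4 4 101 8 0 5 5 5 5 5 0 1 2 13 14 17 83 83 85 85 85 0 2 3 1)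
def lv_a_7 : D2 → D3 → Nat := @D2.rec (fun _ => D3 → Nat) (@D3.rec (fun _ => Nat) 2 13 14 2 2 88 81 83 0 2 3 96 5 5 5 0 1 2 2 17 2 3 10 1 2 106 2 3 7 5 99 97 7 0 6 1 78 0 0 0) (@D3.rec (fun _ => Nat) 1 2 2 1 2 8 13 0 3 4 4 5 0 1 2 4 2 2 3 3 3 2 2 2 0 3 3 3 9 9 1 2 2 3 4 4 4 102 9 0) (@D3.rec (fun _ => Nat) 6 5 5 5 6 0 1 2 15 84 2 2 3 64 1 84 2 0 85 3 1 2 2 3 9 4 5 2 2 2 5 3 3 3 2 3 1 2 2 3) (@D3.rec (fun _ => Nat) 91 2 2 3 79 1 89 2 0 80 3 1 2 2 3 10 4 6 2 2 2 5 3 3 3 2 3 1 2 2 3 67 4 0 7 63 4 0 8 5) (@D3.rec (fun _ => Nat) 5 5 79 99 86 103 2 92 11 2 108 11 83 85 81 81 84 97 95 2 3 65 2 79 3 64 98 78 103 63 62 90 1 97 79 78 91 1 102 16) (@D3.rec (fun _ => Nat) 3 4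 5 13 2 3 10 8 16 3 4 6 12 2 3 7 7 86 85 1 91 58 4 4 57 113 5 61 6 61 58 68 88 1 101 100 4 4 94 108) (@D3.rec (fun _ => Nat) 5 94 5 94 91 1 97 64 11 2 2 2 99 83 99 3 2 3 5 66 13 62 62 62 64 62 108 7 112 3 4 4 6 0 55 1 2 59 2 4) (@D3.rec (fun _ => Nat) 4 4 0 5 5 96 5 96 0 13 1 106 93 11 2 2 2 100 96 3 98 2 3 5 100 13 95 95 95 95 95 107 8 111 3 4 4 5 0 88) (@D3.rec (fun _ => Nat) 1 2 2 91 4 4 4 0 5 5 63 6 63 0 12 16 85 0 100 99 0 97 0 1 2 2 83 13 2 3 13 11 3 3 3 3 0 92 76 78) (@D3.rec (fun _ => Nat) 4 4 4 4 2 0 3 61 1 2 6 0 1 2 62 2 2 3 3 57 15 66 3 3 4 4 4 0 11 13 103 96 105 100 1 2 100 104 1 93) (@D3.rec (fun _ => Nat) 92 0 0 0 1 102 2 1 2 60 62 0 3 90 4 0 1 2 2 2 113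 3 59 2 0 3 13 95 1 2 82 2 4 4 0 11 5 6 7 0) (@D3.rec (fun _ => Nat) 1 2 2 2 3 4 3 3 109 4 112 66 5 81 3 3 1 109 86 2 111 110 0 65 48 5 2 2 2 109 3 109 3 106 2 3 0 5 5 5) (@D3.rec (fun _ => Nat) 100 100 8 1 2 2 2 3 13 11 6 6 7 6 0 1 2 2 2 110 110 59 15 0 105 111 0 100 1 2 2 90 0 2 3 12 15 3 3 3) (@D3.rec (fun _ => Nat) 3 0 97 84 88 4 4 4 4 0 2 3 1 2 51 6 0 1 2 50 2 2 106 3 95 14 85 3 4 4 10 0 11 13 105 102 105 99 1 2) (@D3.rec (fun _ => Nat) 103 101 1 95 96 0 0 103 1 103 2 1 2 53 50 44 3 94 4 0 1 2 2 2 113 3 90 2 0 109 55 14 1 2 2 89 4 0 12 6) (@D3.rec (fun _ => Nat) 6 0 1 2 2 2 3 5 3 3 113 4 114 93 4 83 3 1 108 2 65 109 52 0 82 6 2 2 2 108 3 3 110 2 102 3 5 102 102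 11) (@D3.rec (fun _ => Nat) 1 2 2 3 13 12 7 7 0 1 2 2 2 107 111 88 2 1 2 2 87 86 59 90 4 90 92 94 0 1 2 60 111 84 116 4 2 2 2 110) (@D3.rec (fun _ => Nat) 3 112 114 2 3 113 9 6 81 6 4 3 3 3 97 83 4 4 6 4 4 2 3 58 0 2 2 2 3 3 3 2 3 96 2 1 2 2 91 89) (@D3.rec (fun _ => Nat) 90 89 4 94 96 96 0 1 2 48 112 112 82 4 2 2 2 111 3 114 113 2 3 114 10 7 7 70 4 3 3 3 49 98 4 4 6 4 4 2) (@D3.rec (fun _ => Nat) 3 0 91 2 2 2 3 3 3 2 3 0 112 104 118 116 114 11 0 5 1 110 2 3 6 31 107 2 2 2 111 110 3 2 3 106 96 95 3 3) (@D3.rec (fun _ => Nat) 3 3 3 104 108 4 4 4 4 4 4 103 110 104 94 0 116 110 114 114 114 12 0 5 1 111 2 3 6 46 102 2 2 2 103 3 104 2 3 104) (@D3.rec (fun _ => Nat) 104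 3 3 3 103 108 4 112 103 100 4 101 113 118 120 1 2 0 2 112 117 119 113 118 118 109 1 2 1 2 2 0 2 3 102 1 2 110 0 3) (@D3.rec (fun _ => Nat) 4 4 117 115 117 0 0 1 2 113 60 116 115 2 110 101 108 116 109 109 1 2 111 2 3 1 2 117 0 3 4 4 108 114 108 120 0 1 118 2) (@D3.rec (fun _ => Nat) 59 115 115 102 104 2 3 104 104 106 104 2 2 2 3 3 2 3 0 0 1 2 1 2 77 85 1 75 4 0 1 83 5 0 0 1 2 2 0 1) (@D3.rec (fun _ => Nat) 2 2 2 75 5 2 83 4 0 0 0 0 17 19 21 2 97 24 2 103 1 13 1 2 4 13 2 2 106 106 3 1 12 1 2 3 12 2 2 118) (@D3.rec (fun _ => Nat) 116 4 2 11 90 1 2 2 1 112 11 2 12 97 1 2 16 1 116 12 1 85 3 1 92 4 96 2 2 86 3 4 104 2 2 91 3 3 68 58)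
def lv_a_8 : D2 → D3 → Nat := @D2.rec (fun _ => D3 → Nat) (@D3.rec (fun _ => Nat) 1 85 2 1 89 2 2 88 4 2 97 5 96 94 3 3 87 4 5 104 104 95 3 3 100 4 4 110 2 3 1 73 4 0 1 83 5 0 97 2) (@D3.rec (fun _ => Nat) 3 4 0 1 2 2 99 2 3 5 0 1 2 2 93 2 74 0 5 1 2 106 2 82 0 4 1 2 95 95 3 3 101 4 4 0 5 1 2 4) (@D3.rec (fun _ => Nat) 102 0 2 2 3 3 3 106 105 3 3 97 4 4 0 4 1 2 3 101 0 2 2 3 3 4 9 0 1 2 64 10 0 1 2 68 5 83 83 91) (@D3.rec (fun _ => Nat) 95 96 100 93 97 103 97 1 100 104 1 1 99 0 1 2 4 2 2 106 3 3 1 111 0 1 2 3 2 2 109 3 4 2 110 97 2 112 93 103) (@D3.rec (fun _ => Nat) 1 119 104 108 117 106 95 114 1 116 105 99 118 101 101 103 98 4 4 87 103 103 5 0 1 6 101 2 105 5 0 1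 2 2 1 2 2 101 3 103) (@D3.rec (fun _ => Nat) 103 103 4 110 97 103 4 4 57 101 97 5 0 1 5 105 2 101 4 0 1 2 2 1 2 97 2 3 101 100 97 5 104 100 97 97 6 0 1 106) (@D3.rec (fun _ => Nat) 2 5 105 98 98 6 0 1 98 2 6 99 7 98 1 104 1 105 98 60 97 8 99 1 101 1 103 98 65 3 3 85 95 0 2 0 3 1 95 3) (@D3.rec (fun _ => Nat) 0 1 105 4 0 1 2 2 1 2 2 0 2 2 3 4 0 2 2 3 3 1 76 2 1 86 2 0 0 1 2 2 0 0 1 2 2 1 66 66) (@D3.rec (fun _ => Nat) 98 3 103 5 0 1 112 4 0 2 2 3 3 1 92 90 91 3 115 6 0 1 110 3 0 2 2 3 4 1 2 0 0 1 86 4 0 0 2 84) (@D3.rec (fun _ => Nat) 3 1 2 0 0 1 84 3 0 0 2 86 4 2 2 2 65 3 3 3 2 0 3 69 66 68 4 4 0 1 2 2 5 0 6 1 2 6 0 0) (@D3.rec (fun _ => Nat) 2 3 113 0 1 2 2 1 107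 2 2 0 3 3 19 4 4 0 2 2 2 61 3 3 3 0 2 3 67 64 66 4 4 0 1 2 8 5 0 5) (@D3.rec (fun _ => Nat) 1 2 5 0 0 2 116 112 0 1 2 2 1 100 2 2 0 3 3 17 111 4 0 79 81 2 2 2 75 3 3 3 2 3 0 10 1 2 2 0) (@D3.rec (fun _ => Nat) 99 2 2 3 3 0 5 1 2 0 3 8 4 1 2 2 3 4 0 6 90 92 2 2 2 83 3 3 3 2 3 0 9 1 2 2 0 101 2 2) (@D3.rec (fun _ => Nat) 3 3 0 6 1 2 0 3 9 4 1 2 2 3 4 0 7 2 2 3 100 77 4 0 6 0 1 2 2 116 8 2 2 3 116 78 4 0 7 0) (@D3.rec (fun _ => Nat) 1 2 118 9 1 19 1 17 92 97 13 1 100 17 99 112 14 1 99 19 1 95 17 18 3 16 109 1 107 24 17 3 18 105 2 66 66 6 104 1) (@D3.rec (fun _ => Nat) 2 2 105 1 2 11 115 3 105 12 2 93 91 7 107 1 2 2 99 1 2 12 110 3 111 11 3 3 3 89 20 65 67 4 96 2 103 3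 13 1) (@D3.rec (fun _ => Nat) 86 13 9 97 97 2 0 3 5 0 1 96 2 107 2 2 99 3 0 7 1 106 0 0 2 3 7 0 1 2 2 1 2 18 86 0 0 1 2 3) (@D3.rec (fun _ => Nat) 2 2 115 4 2 2 107 18 1 2 103 1 12 3 3 3 21 104 63 65 4 104 115 2 3 1 58 12 12 99 101 0 2 3 5 0 1 105 2 88) (@D3.rec (fun _ => Nat) 2 108 10 0 6 1 108 0 0 2 7 0 1 2 2 1 2 58 20 1 68 4 2 2 114 3 2 2 102 16 1 113 1 11 2 2 84 84 84 2) (@D3.rec (fun _ => Nat) 3 3 107 102 0 106 102 99 2 99 3 8 101 1 103 105 98 98 105 98 3 3 0 4 4 0 6 1 3 103 2 4 1 2 2 4 0 7 5 2) (@D3.rec (fun _ => Nat) 2 2 3 2 3 1 2 2 2 2 97 95 95 2 3 3 108 104 107 0 99 103 100 2 3 8 103 1 107 107 108 103 107 102 3 3 0 4 4 0) (@D3.rec (fun _ => Nat) 8 1 4 105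 2 3 1 2 2 4 0 8 6 2 2 2 3 2 3 1 2 2 2 2 102 96 90 3 3 3 94 0 4 100 103 1 7 99 100 0) (@D3.rec (fun _ => Nat) 107 1 117 3 4 1 2 2 115 8 1 111 0 2 2 2 2 3 105 3 3 107 2 2 101 100 94 3 3 0 98 4 107 7 101 0 106 1 104 3) (@D3.rec (fun _ => Nat) 4 1 2 115 2 9 1 117 0 2 2 2 2 3 115 3 3 119 2 2 92 0 91 108 1 100 114 113 0 1 1 108 11 97 2 111 1 110 108 114) (@D3.rec (fun _ => Nat) 3 0 107 108 111 113 112 115 1 114 2 2 4 108 12 118 113 115 108 109 109 3 3 3 0 0 4 109 2 3 108 2 2 95 0 94 112 1 116 107) (@D3.rec (fun _ => Nat) 104 107 1 107 10 115 110 110 3 100 109 107 102 111 104 1 2 103 113 112 104 100 108 3 3 3 0 0 4 97 2 3 91 92 0 0 6 6 2 3)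
def lv_a_9 : D2 → D3 → Nat := @D2.rec (fun _ => D3 → Nat) (@D3.rec (fun _ => Nat) 104 106 1 2 2 1 2 2 103 98 103 101 98 102 1 4 0 1 5 0 0 1 2 2 0 1 2 2 84 87 85 2 81 81 5 86 2 86 89 4) (@D3.rec (fun _ => Nat) 84 87 83 83 86 85 82 83 58 87 63 5 5 99 100 7 7 91 96 2 3 2 3 103 102 5 0 6 0 0 1 2 2 0 1 2 2 1 60 4) (@D3.rec (fun _ => Nat) 11 2 2 122 3 3 1 90 3 10 2 2 116 3 4 95 2 2 3 6 100 2 2 3 5 3 115 110 87 88 3 96 112 93 89 2 9 3 1 64) (@D3.rec (fun _ => Nat) 2 94 9 10 2 3 1 86 14 65 10 62 86 98 60 3 4 4 5 0 1 2 4 0 2 2 3 3 3 99 86 3 4 4 6 0 1 2 3 0) (@D3.rec (fun _ => Nat) 2 2 3 3 4 85 82 1 99 84 86 84 84 1 83 88 101 0 2 88 1 107 82 88 88 88 1 86 86 100 0 2 86 2 89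 2 90 3 103 4) (@D3.rec (fun _ => Nat) 4 4 0 1 93 2 5 5 5 6 0 95 2 3 5 104 1 2 83 1 82 103 100 96 3 3 4 4 4 4 85 2 86 53 2 3 114 4 4 4) (@D3.rec (fun _ => Nat) 0 1 54 8 5 5 5 5 0 86 2 3 4 109 1 2 83 1 87 99 102 96 3 3 4 4 4 5 83 1 2 2 2 4 0 6 1 2 2 2) (@D3.rec (fun _ => Nat) 4 0 7 0 1 2 2 117 8 0 1 2 118 9 99 99 1 105 4 2 108 105 3 1 104 3 2 110 105 4 97 4 6 106 1 2 9 86 2 3) (@D3.rec (fun _ => Nat) 5 1 2 9 0 3 3 4 4 4 4 10 102 4 7 109 1 2 8 83 2 3 4 1 115 10 0 3 3 4 4 4 5 9 89 1 2 88 115 2) (@D3.rec (fun _ => Nat) 2 3 87 1 2 86 111 2 2 3 1 98 96 104 111 105 90 2 3 110 104 1 102 0 3 3 7 4 4 114 1 93 107 103 105 111 87 2 3 114) (@D3.rec (fun _ => Nat) 104 1 105 0 3 3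 8 4 4 114 0 11 9 5 5 1 2 2 2 92 90 6 98 98 7 97 1 2 2 1 111 86 7 0 3 4 4 6 113 1) (@D3.rec (fun _ => Nat) 2 2 58 55 82 82 80 80 1 2 2 3 4 4 4 54 0 5 5 5 5 0 1 67 10 0 10 5 5 1 2 2 59 56 6 112 104 6 106 1) (@D3.rec (fun _ => Nat) 2 2 1 85 8 86 0 3 4 4 5 113 1 2 2 92 87 88 90 87 87 1 2 2 2 4 4 4 96 0 6 5 5 6 0 1 94 9 5 2) (@D3.rec (fun _ => Nat) 2 2 112 109 111 1 2 2 2 6 2 110 1 2 2 2 3 3 3 111 4 102 95 4 95 0 2 2 3 3 3 108 103 3 3 3 107 4 104 4) (@D3.rec (fun _ => Nat) 105 105 0 2 2 3 3 101 3 105 16 14 16 17 62 4 14 89 5 15 15 15 14 14 9 2 2 95 2 90 3 1 2 2 1 2 2 17 2 2) (@D3.rec (fun _ => Nat) 3 3 5 16 2 2 3 3 4 15 61 14 86 75 96 1 2 97 91 1 2 87 19 14 91 3 6 91 6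 1 2 4 15 2 2 3 3 3 89 14) (@D3.rec (fun _ => Nat) 14 93 3 6 99 7 1 2 3 14 2 2 3 3 4 2 12 3 68 15 2 3 1 2 12 2 4 4 0 4 5 10 6 0 1 2 2 13 2 3) (@D3.rec (fun _ => Nat) 5 14 0 3 3 4 118 4 4 2 90 3 15 89 2 3 1 2 2 86 4 4 0 4 5 6 7 0 1 2 2 13 2 3 4 13 0 3 3 4) (@D3.rec (fun _ => Nat) 117 4 5 2 13 3 4 0 1 2 87 0 5 7 95 96 7 96 0 1 109 17 14 2 3 4 0 1 2 87 0 5 7 101 87 6 87 0 1 113) (@D3.rec (fun _ => Nat) 14 77 77 77 92 0 5 5 5 0 1 91 2 11 7 5 6 6 0 9 0 7 1 2 7 0 0 0 1 2 2 2 13 14 85 85 85 56 0 5) (@D3.rec (fun _ => Nat) 5 5 0 1 53 2 11 7 5 6 6 0 7 0 6 1 2 6 0 0 0 1 2 2 2 14 12 75 75 3 3 3 3 103 0 4 4 4 4 4) (@D3.rec (fun _ => Nat) 4 2 3 0 1 4 0 83 2 3 1 2 98 83 2 2 3 3 6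 81 81 0 83 83 3 3 3 3 0 103 4 4 4 4 4 4 2 3 1 3) (@D3.rec (fun _ => Nat) 0 0 87 2 4 1 2 102 86 2 2 58 3 7 88 88 0 77 88 3 3 3 3 67 0 67 4 4 4 93 4 2 3 0 0 85 87 3 3 3) (@D3.rec (fun _ => Nat) 3 0 92 75 4 4 4 4 96 2 3 0 0 17 15 16 14 87 87 87 96 99 12 102 96 2 57 3 2 2 99 3 3 12 7 0 1 92 2 2) (@D3.rec (fun _ => Nat) 111 8 13 112 3 6 89 117 15 1 113 2 4 115 113 116 5 58 106 90 106 104 92 2 3 2 2 107 3 3 88 7 0 1 89 2 2 111 9 12) (@D3.rec (fun _ => Nat) 111 3 5 61 1 2 108 4 114 111 122 6 62 91 91 0 1 2 2 91 2 108 11 14 61 104 13 8 1 0 103 1 105 1 104 1 83 3 104 2)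
def lv_a_10 : D2 → D3 → Nat := @D2.rec (fun _ => D3 → Nat) (@D3.rec (fun _ => Nat) 2 3 3 4 91 3 59 56 56 0 1 2 2 114 2 106 11 14 46 100 13 8 1 0 108 1 110 1 109 1 59 4 102 2 2 3 3 3 58 3) (@D3.rec (fun _ => Nat) 95 110 4 4 4 4 107 80 1 102 5 100 2 0 3 102 1 108 0 1 99 1 68 1 83 83 83 61 72 72 1 4 1 2 2 2 2 3 83 2) (@D3.rec (fun _ => Nat) 104 104 102 81 114 98 2 3 1 2 57 114 4 4 4 4 112 1 85 97 5 108 0 2 3 1 103 0 106 108 1 76 1 1 89 87 89 94 52 52) (@D3.rec (fun _ => Nat) 1 3 1 2 2 2 2 4 91 107 113 91 2 3 1 2 55 92 99 1 4 2 3 2 104 4 4 4 92 92 5 93 96 110 90 2 96 3 1 2) (@D3.rec (fun _ => Nat) 97 110 102 2 3 5 106 96 98 96 98 1 2 2 2 106 105 109 3 3 4 4 4 4 111 1 109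 118 114 4 116 54 97 96 1 3 2 4 2 109) (@D3.rec (fun _ => Nat) 4 4 4 103 5 107 102 107 109 104 111 1 2 109 109 2 3 4 100 104 102 109 1 2 2 111 111 107 3 4 4 105 5 105 1 116 116 97 99 101) (@D3.rec (fun _ => Nat) 1 107 100 1 111 100 71 71 104 98 110 1 4 108 3 1 104 0 10 1 113 109 0 109 1 96 0 2 112 1 104 104 101 2 2 111 3 101 113 1) (@D3.rec (fun _ => Nat) 2 97 2 106 109 98 113 4 114 1 109 103 5 0 103 108 1 116 2 118 4 1 110 111 112 109 115 2 2 2 3 3 2 3 1 2 115 114 0 1) (@D3.rec (fun _ => Nat) 116 2 2 6 101 103 111 1 1 108 110 51 51 101 101 1 111 115 116 1 115 1 119 114 0 111 1 110 0 2 121 0 11 1 110 105 110 2 2 116) (@D3.rec (fun _ => Nat) 3 108 115 1 2 112 2 104 116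 102 111 4 116 1 107 99 6 0 98 109 1 108 110 2 4 1 102 109 111 2 2 2 3 3 108 1 2 110 112 0) (@D3.rec (fun _ => Nat) 1 120 2 2 5 2 79 91 3 0 102 77 2 3 103 1 86 111 108 100 1 2 113 1 111 105 2 87 102 3 102 101 85 2 3 103 1 90 117 110) (@D3.rec (fun _ => Nat) 114 1 2 117 1 119 116 2 3 12 2 3 12 66 65 80 79 64 63 92 1 97 80 79 93 1 103 18 2 3 5 15 1 2 8 14 2 3 6 14) (@D3.rec (fun _ => Nat) 1 2 7 3 5 14 2 3 10 8 3 6 13 2 3 7 7 10 3 3 77 2 106 3 95 0 89 0 1 76 2 1 105 2 2 2 3 3 2 2) (@D3.rec (fun _ => Nat) 3 3 16 83 3 3 10 6 4 4 0 6 79 17 3 3 9 6 4 4 0 5 58 4 4 60 112 4 5 95 63 6 61 58 93 4 4 89 108 4) (@D3.rec (fun _ => Nat) 5 96 89 5 89 93 1 1 75 96 0 2 3 95 90 0 2 3 63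 87 2 3 11 93 1 2 94 16 2 3 5 85 13 0 3 3 7 4 4 0) (@D3.rec (fun _ => Nat) 4 16 87 89 2 3 7 99 1 2 103 15 2 3 4 89 14 0 3 3 9 4 4 0 5 13 2 2 78 80 2 3 5 84 64 64 62 64 62 110) (@D3.rec (fun _ => Nat) 7 114 3 4 4 6 0 1 2 60 2 4 4 4 0 5 5 5 5 89 5 89 0 14 2 2 89 91 2 3 5 92 90 90 90 87 87 109 8 113) (@D3.rec (fun _ => Nat) 3 4 4 5 0 1 2 2 91 4 4 4 0 7 5 5 5 63 6 63 0 13 15 1 2 15 10 87 94 88 0 1 2 2 77 2 2 3 3 1) (@D3.rec (fun _ => Nat) 90 2 6 0 97 100 97 95 95 95 99 1 2 2 1 2 15 7 0 3 8 4 6 0 1 2 3 2 2 3 3 4 8 10 1 2 2 3 4 4) (@D3.rec (fun _ => Nat) 0 10 0 6 8 5 87 5 87 0 1 2 14 1 2 14 15 99 98 98 0 1 2 2 79 2 3 11 1 104 2 6 0 88 89 88 102 88 88 101) (@D3.rec (fun _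 => Nat) 1 2 2 1 2 8 14 0 3 9 4 5 0 1 2 4 2 2 3 3 3 9 9 1 2 2 3 4 4 0 9 0 7 9 5 97 6 97 0 1) (@D3.rec (fun _ => Nat) 2 16 17 76 0 101 99 2 0 3 0 1 2 2 80 14 2 3 14 11 0 85 2 0 3 62 1 2 88 86 91 0 1 2 2 63 2 2 3 3) (@D3.rec (fun _ => Nat) 59 16 66 3 3 4 4 4 0 2 2 2 69 91 3 3 91 2 91 3 8 91 84 1 68 0 0 0 1 2 2 1 2 61 62 1 2 2 2 112) (@D3.rec (fun _ => Nat) 3 61 2 0 3 14 87 1 2 82 2 4 4 0 6 5 6 7 0 1 2 2 2 3 4 3 3 4 4 4 68 5 79 3 3 3 1 2 87 2) (@D3.rec (fun _ => Nat) 112 4 4 0 66 50 5 2 2 2 90 3 3 3 101 2 3 0 5 5 5 101 101 101 8 1 2 2 2 3 8 6 6 6 92 7 6 0 1 2) (@D3.rec (fun _ => Nat) 2 2 109 16 84 0 105 111 0 2 3 1 2 2 90 0 2 3 13 16 0 85 0 2 3 1 2 50 94 107 97 0 1 2 2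 51 2 2 3 3)
def lv_a_11 : D2 → D3 → Nat := @D2.rec (fun _ => D3 → Nat) (@D3.rec (fun _ => Nat) 88 15 86 3 4 4 10 0 2 2 2 76 97 3 3 100 99 2 3 8 96 93 1 72 0 0 0 1 2 2 1 2 52 49 1 2 2 2 105 3) (@D3.rec (fun _ => Nat) 92 2 0 3 56 15 1 2 2 89 4 4 0 7 117 10 6 0 1 2 2 2 3 5 3 3 4 4 4 95 4 84 3 3 3 1 2 2 65 112) (@D3.rec (fun _ => Nat) 4 115 52 0 80 6 2 2 2 90 3 3 3 2 104 3 0 5 5 5 104 104 104 9 1 2 2 2 3 9 7 6 6 107 9 7 0 1 2 2) (@D3.rec (fun _ => Nat) 2 112 86 3 67 0 2 88 59 1 2 61 85 84 85 4 2 2 2 6 3 3 3 2 3 0 8 6 79 6 4 3 3 3 99 83 6 4 4 6) (@D3.rec (fun _ => Nat) 4 4 2 3 61 0 94 2 2 2 3 3 2 3 93 3 73 0 2 87 92 1 2 49 90 86 80 4 2 2 2 6 3 3 3 2 3 0 9 7) (@D3.rec (fun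 _ => Nat) 7 70 4 3 3 3 49 107 6 4 6 8 4 4 2 3 0 94 96 2 2 2 3 3 2 3 68 0 1 2 2 3 10 69 0 1 2 2 3 11) (@D3.rec (fun _ => Nat) 81 86 95 95 84 108 108 69 86 2 3 0 0 64 63 80 79 4 6 3 111 4 10 4 7 3 110 4 9 58 5 60 115 63 7 63 61 102 93 5) (@D3.rec (fun _ => Nat) 96 114 96 6 96 96 101 3 83 83 83 101 61 67 62 64 62 64 64 64 98 112 114 99 4 4 6 7 0 1 12 2 2 3 113 86 5 5 0 1) (@D3.rec (fun _ => Nat) 2 7 96 6 96 96 0 85 1 2 3 94 94 94 100 48 101 97 97 97 97 97 97 97 111 96 113 4 4 6 6 0 1 13 2 2 3 108 88 5) (@D3.rec (fun _ => Nat) 5 0 1 2 9 65 7 65 63 0 89 1 2 16 1 2 4 0 1 2 2 82 1 110 97 84 2 2 112 61 3 83 81 3 114 4 116 0 11 4) (@D3.rec (fun _ => Nat) 4 4 4 0 1 2 63 78 98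 80 2 3 2 0 3 61 1 90 66 2 114 1 2 63 2 59 63 64 3 3 107 117 15 4 4 4 90 0 13 113) (@D3.rec (fun _ => Nat) 5 1 115 12 103 105 103 105 104 107 2 100 102 0 0 1 105 2 1 100 62 68 1 102 2 2 62 1 2 2 4 0 91 1 84 5 2 115 3 115) (@D3.rec (fun _ => Nat) 115 115 66 61 59 3 1 2 84 89 111 66 2 2 3 3 83 106 82 5 1 2 103 2 14 6 7 105 0 1 2 98 2 2 106 112 6 3 60 4) (@D3.rec (fun _ => Nat) 59 115 109 66 0 83 86 63 2 109 91 112 66 113 1 89 2 111 6 6 3 3 103 0 106 107 107 4 2 3 45 3 1 2 2 3 6 6 104 4) (@D3.rec (fun _ => Nat) 10 0 2 2 2 2 3 3 3 3 3 3 3 2 3 12 14 7 7 8 114 0 1 2 2 2 3 3 56 60 17 1 0 1 2 2 92 87 2 2) (@D3.rec (fun _ => Nat) 112 92 89 90 1 98 104 3 109 4 14 0 4 4 4 4 0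 1 2 53 86 88 102 2 3 0 2 3 1 50 53 2 107 91 1 2 52 2 95 54) (@D3.rec (fun _ => Nat) 91 3 114 16 4 4 0 13 116 12 1 113 12 105 105 105 107 106 105 2 103 99 0 103 1 103 2 1 101 101 49 2 2 49 46 46 4 0 97 1) (@D3.rec (fun _ => Nat) 61 6 2 113 3 113 117 115 95 90 49 1 114 62 91 111 51 2 2 3 3 109 91 91 1 2 2 104 15 7 106 0 1 2 102 2 2 104 107 5) (@D3.rec (fun _ => Nat) 3 82 4 63 111 106 95 0 85 87 2 108 53 60 1 109 7 7 3 3 106 107 110 4 110 2 3 4 102 3 11 0 2 2 2 3 3 3 2 3) (@D3.rec (fun _ => Nat) 12 15 8 113 0 1 2 2 2 3 3 56 88 89 2 59 94 91 104 1 119 112 2 113 110 114 3 112 114 112 114 114 115 115 112 102 104 97 7 97) (@D3.rec (fun _ => Nat) 2 3 0 5 4 5 4 4 97 6 5 5 5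 100 107 2 3 58 97 58 109 1 2 58 3 3 3 4 103 101 2 3 94 2 92 98 95 106 1 117) (@D3.rec (fun _ => Nat) 113 2 118 114 112 3 113 115 113 114 113 114 116 116 105 108 8 104 2 104 3 0 5 4 5 4 4 102 6 5 5 5 106 106 2 3 104 93 1 2) (@D3.rec (fun _ => Nat) 58 94 110 3 3 3 4 103 104 2 3 1 2 116 106 118 1 112 114 5 2 2 110 114 109 2 3 107 3 102 111 109 110 108 98 103 103 108 4 4) (@D3.rec (fun _ => Nat) 4 4 4 4 109 107 111 110 5 5 5 100 109 102 99 104 102 1 123 2 110 117 1 115 119 5 2 2 111 117 111 2 3 104 3 102 102 105 104 102) (@D3.rec (fun _ => Nat) 102 106 112 4 4 109 106 113 5 111 103 106 112 118 116 2 112 1 2 118 118 114 119 0 118 118 116 116 117 2 116 13 2 2 3 109 1 118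 118 110) (@D3.rec (fun _ => Nat) 0 3 114 4 2 102 97 1 117 114 112 4 4 5 119 117 119 116 1 110 1 111 4 2 114 114 112 117 112 109 109 115 13 2 117 116 0 3 116 4)
def lv_a_12 : D2 → D3 → Nat := @D2.rec (fun _ => D3 → Nat) (@D3.rec (fun _ => Nat) 2 112 116 1 116 112 117 4 4 5 110 116 110 114 1 114 4 2 117 104 102 106 106 3 3 2 3 19 21 1 2 2 1 2 2 18 2 99 18 2) (@D3.rec (fun _ => Nat) 111 79 78 0 1 2 2 0 1 2 2 1 2 4 14 2 2 3 106 3 1 2 3 13 2 2 3 116 4 91 78 0 87 88 0 1 2 96 1 114) (@D3.rec (fun _ => Nat) 12 1 2 90 1 116 13 19 20 91 13 2 109 0 108 96 14 2 102 0 120 19 13 17 18 2 2 12 19 12 20 2 11 86 97 96 3 106 3 2) (@D3.rec (fun _ => Nat) 84 2 84 91 96 94 94 4 89 0 107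 97 106 4 98 0 112 98 1 96 1 100 3 5 0 1 2 4 2 2 3 3 99 3 6 0 1 2 3 2) (@D3.rec (fun _ => Nat) 2 3 4 92 98 106 1 4 102 86 2 3 96 97 107 1 3 101 86 2 4 101 97 96 4 4 86 101 101 5 0 6 1 6 2 3 5 102 105 1) (@D3.rec (fun _ => Nat) 2 89 101 3 3 112 104 4 4 102 97 107 105 4 4 59 99 97 5 0 5 1 5 2 3 4 106 103 1 2 95 86 3 3 114 102 4 5 102 100) (@D3.rec (fun _ => Nat) 1 2 2 104 2 5 104 1 2 2 99 2 6 1 2 9 2 103 5 3 97 4 1 2 8 2 102 4 3 104 5 123 106 107 97 117 107 105 105 103) (@D3.rec (fun _ => Nat) 5 99 87 0 1 114 103 103 110 1 2 2 2 3 2 2 91 106 103 103 103 112 110 115 105 5 110 57 0 1 101 105 105 107 1 2 2 2 3 2) (@D3.rec (fun _ => Nat) 2 99 96 102 101 99 115 106 117 100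 99 1 106 107 98 1 116 100 102 99 116 87 95 1 2 4 0 1 2 5 0 97 14 1 87 18 104 15 1 85) (@D3.rec (fun _ => Nat) 20 0 2 2 3 3 5 0 2 2 3 3 4 1 93 19 91 3 19 1 109 85 21 3 20 2 2 1 2 97 1 114 4 87 2 2 112 3 3 1) (@D3.rec (fun _ => Nat) 2 90 1 107 3 99 2 2 109 3 4 90 98 6 0 1 2 2 102 1 2 94 111 3 103 13 95 90 7 0 1 2 2 99 1 2 85 116 3 104) (@D3.rec (fun _ => Nat) 12 2 0 1 2 93 1 0 0 1 2 2 1 2 2 20 0 2 0 1 2 88 1 0 0 1 2 2 1 2 2 18 0 3 3 3 23 70 67 67) (@D3.rec (fun _ => Nat) 74 4 4 4 2 102 3 1 85 14 9 104 71 71 2 0 3 5 0 1 98 2 104 2 2 3 3 0 7 1 2 7 0 0 2 3 7 0 1 2) (@D3.rec (fun _ => Nat) 2 1 2 18 86 0 3 117 110 0 1 2 3 2 2 3 116 4 2 2 107 20 1 2 107 4 4 1 13 3 3 3 20 68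 63 65 82 4 4 4) (@D3.rec (fun _ => Nat) 115 2 3 1 58 13 99 69 69 0 2 3 5 0 1 105 2 91 2 3 10 0 6 1 2 6 113 0 2 3 7 0 1 2 2 1 2 60 20 0) (@D3.rec (fun _ => Nat) 0 1 70 4 2 2 3 105 3 2 2 104 18 1 2 119 4 1 12 2 3 3 3 3 108 78 100 2 3 0 109 1 2 104 98 97 2 2 95 3) (@D3.rec (fun _ => Nat) 0 6 1 2 2 3 3 0 95 4 4 0 6 1 3 104 2 4 1 90 2 4 93 7 5 2 2 2 3 3 3 3 2 3 1 2 2 3 2 3) (@D3.rec (fun _ => Nat) 3 3 3 107 86 102 2 3 109 0 1 2 108 114 101 2 2 95 3 0 7 1 2 2 3 3 0 95 4 4 0 8 1 4 107 2 3 1 91 2) (@D3.rec (fun _ => Nat) 4 95 8 6 2 2 2 3 3 3 3 2 3 1 2 2 3 3 108 100 100 78 93 1 89 2 2 9 1 2 3 2 2 3 3 3 113 3 114 116) (@D3.rec (fun _ => Nat) 112 79 92 1 88 2 2 10 1 2 3 2 3 3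 112 93 109 104 108 2 2 88 8 105 2 109 13 117 113 119 109 113 2 2 59 9 99 2 116 12) (@D3.rec (fun _ => Nat) 118 110 116 4 98 96 87 88 118 9 98 100 96 0 1 101 4 108 0 1 106 102 112 2 98 3 3 99 107 1 104 0 1 1 106 3 107 106 115 1) (@D3.rec (fun _ => Nat) 2 3 100 2 2 3 4 2 112 106 101 108 1 111 1 107 2 0 69 0 5 2 115 114 4 104 105 114 114 105 101 101 101 1 57 3 104 0 0 1) (@D3.rec (fun _ => Nat) 109 103 113 2 105 4 112 108 1 108 0 1 1 110 1 2 4 114 2 2 3 2 101 104 105 0 6 104 100 2 3 87 0 1 116 104 108 106 102 107) (@D3.rec (fun _ => Nat) 102 108 98 105 100 96 4 4 0 1 103 100 112 5 1 49 103 110 103 106 2 2 3 50 1 106 118 114 6 113 3 103 109 0 115 0 2 2 3 103) (@D3.rec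 (fun _ => Nat) 107 2 3 0 100 113 1 118 106 108 100 110 103 108 112 107 104 101 4 4 0 1 106 115 110 5 1 67 111 111 54 108 2 2 3 66 1 113 114 114) (@D3.rec (fun _ => Nat) 116 7 3 110 102 111 0 0 2 2 3 106 4 92 1 107 100 105 108 100 1 100 4 2 2 3 3 113 112 1 112 2 104 105 3 3 3 115 105 109)
def lv_a_13 : D2 → D3 → Nat := @D2.rec (fun _ => D3 → Nat) (@D3.rec (fun _ => Nat) 0 100 4 1 1 104 4 2 2 3 3 115 118 1 122 2 116 119 3 3 3 119 119 119 0 102 105 1 112 105 110 114 109 101 1 114 112 1 113 106) (@D3.rec (fun _ => Nat) 111 2 2 116 115 115 111 123 105 4 117 113 1 1 5 110 113 112 1 112 98 108 107 113 105 103 109 2 103 99 107 4 105 1 1 5 116 1 2 2) (@D3.rec (fun _ => Nat)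 1 2 2 2 3 106 106 2 2 113 3 2 2 113 3 61 85 103 98 100 102 85 1 2 82 94 1 2 82 1 60 4 12 2 2 114 3 3 1 90) (@D3.rec (fun _ => Nat) 3 11 2 2 118 3 4 87 82 87 81 87 10 64 82 94 10 11 88 83 83 67 11 2 3 104 104 108 103 104 104 86 1 100 90 1 116 1 116 4) (@D3.rec (fun _ => Nat) 106 2 2 117 118 3 1 111 3 101 2 2 117 118 4 3 115 121 3 115 118 3 87 3 91 106 105 114 109 11 15 2 64 94 10 12 87 67 9 64) (@D3.rec (fun _ => Nat) 88 62 99 4 4 79 5 6 6 0 1 2 10 81 2 3 5 1 2 10 0 3 3 4 4 11 88 102 4 4 111 5 6 7 0 1 2 9 95 2) (@D3.rec (fun _ => Nat) 3 4 1 2 11 0 3 3 4 5 10 84 88 86 85 90 1 82 88 84 90 86 88 86 1 84 84 0 12 9 5 5 5 0 1 2 2 2 95 92) (@D3.rec (fun _ => Nat) 6 6 0 9 7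 0 1 2 2 95 92 0 3 4 4 6 113 2 3 58 84 84 82 82 95 96 4 4 4 55 0 5 5 5 5 0 67 11 0 11) (@D3.rec (fun _ => Nat) 5 5 5 0 1 2 2 60 57 6 6 0 7 6 120 1 2 2 86 87 0 3 4 4 5 115 2 3 94 86 85 87 87 97 97 4 4 4 88 0) (@D3.rec (fun _ => Nat) 5 5 5 6 0 96 10 96 2 2 2 3 3 3 3 109 1 2 2 3 96 2 2 2 3 110 113 3 113 1 2 2 3 1 2 3 2 2 3 3) (@D3.rec (fun _ => Nat) 3 116 1 2 3 2 3 3 119 101 6 108 105 8 110 108 115 2 7 3 6 88 2 116 112 11 1 120 106 4 4 4 0 5 119 116 115 5 0 111) (@D3.rec (fun _ => Nat) 113 2 8 3 62 115 12 1 118 115 4 4 4 0 7 116 117 119 0 2 0 3 119 2 0 3 115 103 114 111 3 4 107 116 105 1 2 111 117 4) (@D3.rec (fun _ => Nat) 4 116 6 110 5 116 102 113 114 3 4 113 122 107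 1 2 120 120 4 4 118 7 111 5 114 1 92 6 2 2 107 92 100 101 7 100 100 97 2 2) (@D3.rec (fun _ => Nat) 3 59 86 88 112 1 110 113 87 4 4 114 5 111 7 0 84 84 84 82 5 2 2 2 114 98 112 2 3 5 5 1 111 2 111 8 6 6 1 117) (@D3.rec (fun _ => Nat) 116 113 1 111 6 2 2 110 57 110 108 7 112 106 106 2 2 57 111 114 86 1 113 4 4 111 5 113 6 89 89 91 91 6 2 2 2 114 100 115) (@D3.rec (fun _ => Nat) 5 5 1 111 2 114 9 6 7 1 118 112 115 6 85 60 111 117 2 2 2 3 120 117 92 90 107 2 2 2 119 3 119 4 4 102 102 93 97 1) (@D3.rec (fun _ => Nat) 113 111 2 119 3 3 3 105 4 114 4 108 105 114 4 4 101 106 99 105 1 110 105 117 2 3 3 3 101 4 103 108 4 107 114 18 16 17 15 60) (@D3.rec (fun _ => Nat) 5 16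 16 87 6 15 17 15 16 95 0 92 0 2 2 3 3 2 2 3 3 3 3 4 4 0 6 3 3 4 4 0 5 86 61 110 90 94 0 2) (@D3.rec (fun _ => Nat) 3 91 0 2 3 85 19 16 2 3 88 11 14 2 3 5 15 0 3 3 7 4 4 0 4 91 16 16 2 3 100 7 14 2 3 4 14 0 3 3) (@D3.rec (fun _ => Nat) 9 4 4 0 5 3 15 13 4 95 68 15 2 60 3 2 2 104 95 14 3 13 98 5 1 92 94 2 5 93 7 0 0 1 2 2 90 2 2 111) (@D3.rec (fun _ => Nat) 9 14 115 3 4 6 91 115 16 1 115 2 4 4 113 5 5 117 5 59 3 87 87 4 105 15 91 95 2 3 2 2 110 109 3 94 91 105 5 1) (@D3.rec (fun _ => Nat) 96 103 2 5 102 7 0 0 1 2 2 91 2 2 113 10 13 113 3 4 5 58 113 15 1 2 115 4 4 116 7 5 118 6 62 15 1 2 2 85) (@D3.rec (fun _ => Nat) 87 1 99 98 2 8 6 0 99 99 99 0 100 1 2 17 15 16 1 2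 2 87 87 1 103 2 102 8 6 0 88 88 88 0 97 1 2 15 13 94) (@D3.rec (fun _ => Nat) 93 1 102 100 3 6 6 0 0 1 2 2 94 2 12 6 8 0 9 7 0 10 1 2 2 1 2 115 0 2 3 8 0 1 119 2 1 104 1 81) (@D3.rec (fun _ => Nat) 3 104 2 2 3 4 93 62 55 55 1 107 2 104 6 6 0 0 1 2 2 112 2 12 6 8 0 9 7 0 8 1 2 2 1 2 118 0 2 3) (@D3.rec (fun _ => Nat) 7 0 1 116 2 1 111 1 57 4 103 2 2 3 3 60 95 76 110 93 4 4 4 4 4 4 0 97 1 5 5 5 5 2 0 3 2 3 0 0)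
def lv_a_14 : D2 → D3 → Nat := @D2.rec (fun _ => D3 → Nat) (@D3.rec (fun _ => Nat) 1 99 1 68 85 85 61 85 2 3 104 104 92 83 83 0 3 3 60 4 59 94 7 0 87 1 2 60 84 116 99 4 4 4 4 4 4 0 1 101) (@D3.rec (fun _ => Nat) 5 5 5 5 0 2 3 2 3 0 0 108 1 74 1 85 87 91 92 2 3 102 105 94 86 86 0 3 61 59 107 8 0 88 1 2 58 76 73 4) (@D3.rec (fun _ => Nat) 4 4 4 69 0 1 2 91 67 69 93 95 5 80 2 0 3 2 3 0 0 1 114 1 89 68 84 81 4 4 4 4 0 92 1 2 100 77 78 100) (@D3.rec (fun _ => Nat) 5 99 0 2 110 3 2 3 0 0 1 70 70 1 113 17 15 18 16 113 111 101 62 104 59 3 3 97 97 1 69 115 113 117 8 2 115 115 59 58) (@D3.rec (fun _ => Nat) 106 93 104 92 3 3 107 107 1 75 113 112 117 9 2 113 114 63 63 93 1 2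 2 2 2 62 8 99 104 1 107 102 104 4 3 3 105 62 5 61) (@D3.rec (fun _ => Nat) 60 1 2 2 2 2 47 8 99 111 1 108 104 103 5 3 3 104 92 4 57 5 115 109 104 103 1 108 0 120 1 115 107 85 112 85 2 3 63 62) (@D3.rec (fun _ => Nat) 72 2 2 120 95 104 83 114 106 103 102 107 2 3 62 5 112 116 100 1 103 0 109 1 124 90 115 88 2 3 93 56 52 2 2 108 99 115 92 105) (@D3.rec (fun _ => Nat) 2 3 60 5 92 89 95 96 95 98 2 105 111 3 105 4 6 108 106 97 100 2 108 4 4 4 110 103 5 102 109 5 109 110 120 112 116 5 103 108) (@D3.rec (fun _ => Nat) 99 105 2 104 118 3 109 4 5 117 99 102 2 110 4 4 105 5 104 108 6 97 108 109 109 73 104 111 115 1 115 111 1 2 1 108 101 116 116 104) (@D3.rec (fun _ => Nat) 112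 116 110 101 114 1 109 2 116 121 123 109 120 114 3 3 113 115 117 118 2 116 117 1 121 119 2 114 116 101 107 116 114 53 117 116 122 119 115 1) (@D3.rec (fun _ => Nat) 2 1 122 111 1 114 111 116 117 122 108 115 108 1 111 2 114 111 109 110 118 121 3 3 105 121 118 115 2 112 113 1 118 121 2 119 123 108 98 104) (@D3.rec (fun _ => Nat) 1 2 99 103 103 101 104 114 2 118 105 103 102 104 102 106 103 104 117 99 2 118 117 3 95 13 86 3 113 13 69 99 105 18 87 3 100 105 6 0) (@D3.rec (fun _ => Nat) 15 2 3 10 8 17 104 3 108 111 7 0 14 2 3 9 9 16 3 4 4 10 15 3 4 4 7 11 0 0 100 1 2 91 1 2 2 2 3 3) (@D3.rec (fun _ => Nat) 4 102 0 3 3 4 102 0 4 4 0 7 5 0 7 1 95 87 4 4 0 7 5 0 6 1 94 101 5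 60 111 113 5 0 96 63 102 63 63 60) (@D3.rec (fun _ => Nat) 5 89 113 112 5 0 108 89 106 89 89 95 0 0 99 1 2 0 3 103 4 90 1 2 0 3 106 4 2 0 3 86 103 2 97 16 7 0 3 8) (@D3.rec (fun _ => Nat) 4 6 0 0 15 1 87 88 3 4 4 0 91 6 8 5 0 5 1 96 0 18 0 2 3 93 102 2 103 15 8 0 3 10 4 5 0 0 16 1) (@D3.rec (fun _ => Nat) 89 2 100 4 4 0 92 8 10 5 0 6 1 95 0 14 62 88 86 105 107 64 110 64 64 64 98 113 114 114 97 4 4 114 6 5 6 7 0 1) (@D3.rec (fun _ => Nat) 13 2 2 93 110 61 3 86 94 5 5 5 0 1 2 8 6 111 6 0 7 88 6 91 88 0 85 1 2 49 93 95 108 103 90 106 90 90 90 90) (@D3.rec (fun _ => Nat) 109 113 90 116 4 4 119 8 5 11 6 0 1 15 2 2 94 111 3 95 88 93 5 5 5 0 1 2 10 8 111 6 0 10 65 7 65 63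 0 89) (@D3.rec (fun _ => Nat) 1 2 15 2 3 15 12 0 95 1 2 2 2 3 3 3 3 10 4 4 0 2 88 86 93 88 1 2 94 100 100 98 102 95 100 98 98 90 100 2) (@D3.rec (fun _ => Nat) 2 109 3 2 0 3 17 9 1 2 2 89 4 118 7 6 7 0 1 2 2 3 4 99 3 3 16 111 4 0 5 8 11 2 2 2 3 3 3 3) (@D3.rec (fun _ => Nat) 97 2 3 5 0 1 2 2 10 1 2 2 113 10 7 0 7 89 6 89 89 0 96 1 2 2 113 15 2 3 14 17 98 0 1 2 2 2 3 3) (@D3.rec (fun _ => Nat) 3 9 4 11 0 2 97 92 96 94 1 2 93 89 89 88 91 101 88 88 88 96 101 2 2 102 3 2 0 3 8 16 1 2 97 2 4 114 8 10) (@D3.rec (fun _ => Nat) 6 0 1 2 2 3 5 89 3 3 15 110 4 0 4 9 11 2 2 2 3 3 3 3 2 91 3 5 0 1 2 2 9 1 2 119 11 8 0 9) (@D3.rec (fun _ => Nat) 96 7 96 96 0 90 1 2 2 111 16 17 0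 101 1 2 4 0 0 1 97 2 81 1 109 99 84 2 2 3 61 3 83 81 16 3 4 4 16 0) (@D3.rec (fun _ => Nat) 11 1 2 64 0 62 1 2 92 67 2 3 1 90 76 2 2 3 113 61 64 64 3 3 4 4 4 16 66 4 4 4 90 0 8 5 5 5 0 1)
def lv_a_15 : D2 → D3 → Nat := @D2.rec (fun _ => D3 → Nat) (@D3.rec (fun _ => Nat) 115 3 3 68 70 89 2 88 3 93 94 86 0 0 1 103 1 2 63 65 1 2 2 2 3 104 61 2 3 63 2 114 3 112 118 66 61 60 3 1) (@D3.rec (fun _ => Nat) 2 81 86 4 4 16 91 67 2 2 3 3 82 3 83 117 5 1 2 2 2 3 9 110 7 0 0 1 2 2 99 2 2 115 108 69 3 5 62 4) (@D3.rec (fun _ => Nat) 4 4 60 11 5 111 120 6 66 0 91 85 81 4 4 87 65 2 2 112 87 3 93 112 67 114 94 70 1 87 2 50 6 6 3 3 3 103 0 90) (@D3.rec (fun _ => Nat) 92 90 4 4 104 2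 3 3 1 2 2 124 6 6 105 101 103 103 4 8 8 0 2 2 2 2 64 3 3 3 104 108 3 93 2 3 12 9 103 11) (@D3.rec (fun _ => Nat) 7 94 8 105 120 0 1 2 2 2 2 3 59 62 115 19 0 103 1 0 1 96 2 90 0 86 2 2 3 92 87 88 1 100 107 3 4 4 15 0) (@D3.rec (fun _ => Nat) 16 1 2 52 0 1 2 50 52 2 3 91 1 101 83 2 2 3 101 90 53 91 3 3 4 4 4 19 88 4 4 0 7 5 12 12 0 1 115 3) (@D3.rec (fun _ => Nat) 3 76 80 95 98 92 0 0 1 104 1 2 55 51 1 2 2 2 3 103 94 2 3 50 2 107 3 108 116 95 92 50 3 1 2 61 91 4 111 56) (@D3.rec (fun _ => Nat) 15 51 2 2 3 89 89 1 2 2 2 118 10 118 7 0 0 1 2 2 102 2 2 108 107 69 3 6 80 4 4 4 63 7 5 113 119 5 95 0) (@D3.rec (fun _ => Nat) 86 85 86 4 85 96 2 2 111 3 67 53 60 112 53 97 1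 82 7 7 3 3 3 108 0 89 93 94 4 4 2 105 3 4 1 2 120 6 6 117) (@D3.rec (fun _ => Nat) 105 104 110 3 11 11 0 2 2 2 2 72 3 3 3 105 3 103 2 108 3 12 10 106 11 7 119 8 119 120 0 1 2 2 2 2 3 59 90 117) (@D3.rec (fun _ => Nat) 85 1 120 70 2 113 87 108 86 115 115 4 3 3 3 0 3 4 6 7 116 116 2 3 1 2 2 3 92 7 81 7 97 2 3 0 5 4 4 5) (@D3.rec (fun _ => Nat) 4 4 99 83 99 5 6 7 7 5 5 5 93 2 102 3 2 3 61 0 61 112 1 2 61 95 96 96 3 3 99 0 2 3 0 0 101 1 121 71) (@D3.rec (fun _ => Nat) 2 114 92 112 117 92 118 4 3 3 3 0 3 4 7 9 116 113 2 3 1 2 2 3 94 110 8 72 2 113 3 0 5 4 5 7 4 4 51 113) (@D3.rec (fun _ => Nat) 102 5 6 7 9 5 5 5 98 2 107 3 2 3 0 96 1 2 58 96 113 96 96 96 3 3 0 107 2 3 0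 0 112 69 1 2 2 96 2 2) (@D3.rec (fun _ => Nat) 2 88 129 3 3 2 3 116 70 1 2 2 97 2 2 2 90 120 3 3 2 3 1 2 1 2 64 80 4 109 12 4 110 9 60 63 102 63 63 96) (@D3.rec (fun _ => Nat) 96 104 96 98 100 5 64 4 105 64 64 114 114 114 0 1 114 13 3 117 86 0 1 119 2 2 98 0 96 98 87 1 121 102 2 101 99 95 106 99) (@D3.rec (fun _ => Nat) 97 118 113 113 0 1 115 14 3 106 90 0 1 118 2 2 65 0 65 89 1 122 95 2 18 2 112 1 122 2 84 2 2 113 3 108 113 86 117 65) (@D3.rec (fun _ => Nat) 4 118 116 116 1 13 1 64 2 64 63 1 67 105 2 59 103 93 117 111 86 110 17 5 1 2 108 109 103 103 104 105 1 103 62 68 1 102 2 103) (@D3.rec (fun _ => Nat) 102 2 2 102 1 2 2 113 115 67 3 3 4 101 109 109 85 6 2 2 3 101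 3 104 108 17 109 9 103 104 1 2 2 94 61 57 91 1 65 111) (@D3.rec (fun _ => Nat) 2 108 7 4 1 2 112 108 108 2 3 45 45 110 2 2 2 3 3 3 2 3 7 7 1 111 101 111 113 3 3 3 3 3 3 3 4 111 4 4) (@D3.rec (fun _ => Nat) 4 2 3 4 4 2 3 103 13 17 9 8 109 1 2 2 3 3 108 106 61 17 1 115 2 88 2 2 113 3 107 115 90 113 90 4 116 114 115 1) (@D3.rec (fun _ => Nat) 1 52 2 51 1 50 106 2 97 104 84 118 16 1 2 118 115 105 103 106 103 1 100 104 51 2 96 104 1 2 113 52 3 3 4 116 117 117 91 2) (@D3.rec (fun _ => Nat) 2 3 3 104 109 105 108 8 107 104 1 2 2 98 90 64 94 1 108 8 4 109 109 2 3 1 112 115 113 3 3 3 4 4 2 3 103 10 9 102) (@D3.rec (fun _ => Nat) 1 2 2 3 3 110 111 61 94 102 112 114 112 116 117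 114 104 104 102 100 1 109 108 107 5 6 5 5 6 7 106 6 6 100 107 60 99 2 96 4) (@D3.rec (fun _ => Nat) 118 122 119 97 106 115 113 113 113 114 114 106 104 105 104 1 114 110 106 5 6 5 5 6 7 104 6 6 105 108 106 93 2 103 4 107 122 118 2 111) (@D3.rec (fun _ => Nat) 102 113 115 109 108 6 5 5 102 112 109 110 113 102 7 6 6 102 111 104 111 2 117 101 114 116 106 111 6 109 113 7 113 103 106 112 121 107 114 2)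
def lv_a_16 : D2 → D3 → Nat := @D2.rec (fun _ => D3 → Nat) (@D3.rec (fun _ => Nat) 1 120 119 118 3 110 1 122 119 4 114 4 117 111 101 117 5 6 113 119 5 121 111 122 1 116 117 4 116 4 122 112 113 115 5 6 116 110 5 110) (@D3.rec (fun _ => Nat) 19 21 20 2 2 3 3 99 24 2 2 3 3 111 21 22 1 114 4 15 2 2 109 3 3 1 110 3 14 2 2 112 3 4 14 2 112 0 3 116) (@D3.rec (fun _ => Nat) 15 2 104 0 3 118 93 1 2 13 90 1 2 14 2 3 13 2 3 12 1 60 1 87 97 93 110 1 112 100 1 110 0 1 2 10 2 5 3 4) (@D3.rec (fun _ => Nat) 0 1 2 9 2 4 3 5 87 101 77 102 102 87 98 84 103 103 100 101 5 84 103 100 1 96 7 114 3 112 103 6 110 2 99 90 100 4 105 112) (@D3.rec (fun _ => Nat) 104 5 113 102 106 105 5 57 101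 106 1 96 6 103 3 110 102 5 107 2 95 97 97 4 100 110 99 6 115 104 100 2 2 97 3 6 106 108 2 2) (@D3.rec (fun _ => Nat) 97 3 7 108 2 86 2 64 107 115 103 109 101 87 1 101 2 122 3 106 105 111 59 1 105 2 118 3 102 102 107 116 2 92 5 15 1 99 19 2) (@D3.rec (fun _ => Nat) 100 6 16 1 106 21 1 19 92 3 3 19 103 106 4 0 6 1 87 23 3 3 23 107 110 4 0 5 94 94 110 85 2 97 90 109 5 93 94 0) (@D3.rec (fun _ => Nat) 3 0 4 14 2 93 89 102 4 99 87 0 3 0 5 13 104 1 115 2 2 2 89 9 104 2 115 3 93 117 126 108 1 123 2 2 2 61 10 101) (@D3.rec (fun _ => Nat) 2 112 3 85 115 118 23 1 2 15 2 3 93 1 2 20 85 1 2 3 2 2 3 3 4 2 2 22 22 1 14 22 1 2 14 2 3 89 1 2) (@D3.rec (fun _ => Nat) 60 22 1 2 4 2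 2 3 3 3 2 2 20 20 1 13 4 4 4 70 70 93 102 2 102 3 86 87 118 87 9 104 2 0 3 116 1 101 4 107) (@D3.rec (fun _ => Nat) 104 1 2 100 112 2 98 98 3 3 3 4 101 4 107 1 2 8 0 0 2 95 8 0 1 117 2 1 108 3 95 4 8 109 1 2 3 108 2 2) (@D3.rec (fun _ => Nat) 3 3 4 2 112 3 101 106 1 2 111 0 1 110 2 104 0 3 106 116 69 106 5 2 90 3 107 4 4 4 66 66 103 104 108 2 3 105 114 121) (@D3.rec (fun _ => Nat) 58 101 116 2 3 1 55 3 105 122 106 1 122 112 113 2 106 107 4 3 4 112 10 108 1 117 7 118 0 2 98 7 118 118 1 105 3 97 8 116) (@D3.rec (fun _ => Nat) 1 2 4 118 2 2 3 3 2 47 3 107 107 1 48 1 118 95 3 97 107 113 6 2 93 116 82 108 0 0 108 1 105 2 97 104 100 7 100 99) (@D3.rec (fun _ => Nat) 3 0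 93 100 7 1 2 3 104 2 2 98 3 4 4 4 96 1 102 102 94 95 5 93 7 1 50 119 112 101 104 2 92 93 51 93 93 95 6 110) (@D3.rec (fun _ => Nat) 112 3 3 3 3 103 112 97 4 4 4 2 3 0 92 2 2 2 3 114 2 3 98 107 0 106 0 1 100 2 99 108 108 8 107 103 3 0 95 101) (@D3.rec (fun _ => Nat) 8 1 2 4 110 2 2 97 3 3 4 4 98 1 106 112 97 97 5 91 9 1 69 116 111 56 111 2 95 91 68 97 97 97 7 115 97 3 3 3) (@D3.rec (fun _ => Nat) 3 94 100 98 4 4 4 2 3 0 93 2 2 2 116 3 2 3 106 112 101 120 91 93 0 2 2 91 89 89 120 93 2 2 2 3 3 3 3 0) (@D3.rec (fun _ => Nat) 97 4 4 113 4 111 118 117 111 121 97 93 0 2 2 91 91 91 114 92 2 2 2 3 3 3 98 4 114 112 108 117 104 113 113 113 102 106 99 102) (@D3.rec (fun _ => Nat)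 1 1 103 101 1 2 4 107 3 5 101 116 1 96 1 6 103 103 1 1 111 104 1 2 97 114 113 105 1 7 99 116 87 1 111 83 103 98 100 5) (@D3.rec (fun _ => Nat) 1 107 103 3 106 105 114 116 1 118 113 1 119 3 119 104 1 110 102 119 100 107 108 104 5 1 111 105 3 113 111 99 116 1 108 108 1 123 3 122) (@D3.rec (fun _ => Nat) 3 3 4 115 2 3 115 117 1 3 3 4 117 2 3 120 107 1 114 122 5 112 117 116 118 5 112 113 2 2 119 3 2 2 115 3 3 113 3 115) (@D3.rec (fun _ => Nat) 61 87 103 106 108 100 88 2 112 113 93 2 113 114 5 3 114 4 4 3 118 5 83 84 12 69 66 96 11 13 85 87 67 10 113 109 117 116 57 91) (@D3.rec (fun _ => Nat) 84 111 103 99 115 5 93 67 100 7 0 108 1 2 11 2 3 6 83 2 118 3 12 1 119 112 4 0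 5 0 108 102 116 5 102 76 98 7 0 106) (@D3.rec (fun _ => Nat) 1 2 10 2 3 5 71 2 115 122 13 1 118 117 4 0 6 0 84 86 95 104 90 88 88 103 1 95 6 6 114 1 119 2 2 2 97 104 101 93) (@D3.rec (fun _ => Nat) 10 7 0 10 1 63 0 99 1 122 119 2 2 3 3 62 84 112 94 1 117 113 85 4 4 102 5 7 114 0 3 98 60 84 84 82 82 2 3 5)
def lv_a_17 : D2 → D3 → Nat := @D2.rec (fun _ => D3 → Nat) (@D3.rec (fun _ => Nat) 5 5 57 1 104 2 100 6 6 92 89 6 0 1 122 121 114 113 1 113 6 6 119 1 120 2 2 2 82 112 113 56 10 7 0 8 1 68 0 108) (@D3.rec (fun _ => Nat) 118 2 2 3 57 56 88 89 1 115 57 120 4 4 97 5 6 115 3 94 96 88 92 87 87 2 3 5 5 5 92 1 108 92 2 6 6 87 88 7) (@D3.rec (fun _ => Nat) 0 1 89 119 119 115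 85 3 3 3 3 61 70 115 4 4 112 109 111 2 2 2 3 3 2 3 94 3 3 87 62 106 111 4 113 2 2 2 3 3) (@D3.rec (fun _ => Nat) 2 3 102 2 2 2 3 3 3 3 0 4 106 4 121 4 125 101 2 2 2 3 3 3 4 118 121 124 120 121 117 92 8 123 106 108 1 91 115 1) (@D3.rec (fun _ => Nat) 115 114 9 121 116 119 1 58 119 1 1 120 1 120 4 120 107 2 121 3 120 122 5 9 108 116 4 112 109 2 123 3 117 123 5 10 111 114 7 102) (@D3.rec (fun _ => Nat) 8 98 103 3 110 5 109 6 113 1 84 82 6 117 6 2 113 3 113 7 116 117 7 111 8 112 110 110 5 112 6 115 90 92 112 112 6 2 110 3) (@D3.rec (fun _ => Nat) 114 8 111 118 115 93 117 119 3 121 113 3 102 93 2 116 4 4 107 115 115 112 100 99 2 111 4 4 104 110 117 114 98 16 111 19 62 6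 97 16) (@D3.rec (fun _ => Nat) 18 91 7 106 15 17 97 1 117 104 1 118 3 3 101 104 4 0 3 3 111 109 4 0 4 4 5 0 7 1 96 89 4 4 5 0 6 1 95 99) (@D3.rec (fun _ => Nat) 88 85 87 61 112 103 109 88 1 2 99 3 4 4 1 2 100 3 4 4 8 19 16 2 0 3 17 0 3 8 4 6 0 122 17 1 2 88 2 4) (@D3.rec (fun _ => Nat) 4 103 8 111 104 5 1 97 100 8 16 18 0 2 3 14 0 3 10 4 5 0 106 16 1 2 2 100 4 4 100 10 113 95 6 1 96 96 4 13) (@D3.rec (fun _ => Nat) 62 102 7 17 96 2 62 3 3 98 105 95 14 98 2 90 95 99 68 94 8 0 1 2 2 1 2 90 2 2 3 10 67 115 16 112 4 6 6 115) (@D3.rec (fun _ => Nat) 117 16 16 9 2 115 5 115 6 7 60 61 4 90 90 106 7 16 105 95 2 3 3 105 112 109 88 105 2 98 105 105 75 96 9 0 1 2 2 1) (@D3.rec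 (fun _ => Nat) 2 93 2 2 3 11 75 113 15 114 4 8 11 115 17 10 2 115 5 116 8 10 63 63 2 3 91 103 2 101 99 100 0 9 0 1 2 2 98 98) (@D3.rec (fun _ => Nat) 99 101 104 1 2 102 2 0 17 2 3 89 99 2 103 103 0 104 9 0 1 2 2 89 89 89 90 101 1 2 97 2 0 14 94 2 104 104 2 119) (@D3.rec (fun _ => Nat) 3 7 116 1 118 2 1 2 96 2 2 3 13 7 0 1 2 10 0 9 1 2 2 95 2 2 101 3 62 104 2 3 107 1 2 104 108 3 61 102) (@D3.rec (fun _ => Nat) 9 109 1 117 3 107 2 119 4 4 3 5 60 58 2 109 104 114 2 3 7 112 1 112 2 1 114 2 2 13 7 0 1 2 10 0 8 1 2 2) (@D3.rec (fun _ => Nat) 94 2 2 98 3 69 113 2 103 118 1 2 107 105 3 61 107 8 105 1 112 4 103 2 112 3 5 3 4 59 112 93 5 5 5 5 0 108 1 2) (@D3.rec (fun _ => Nat)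 109 97 0 96 97 0 98 0 1 2 0 105 0 1 118 1 118 66 116 2 3 122 61 94 83 105 3 10 109 100 110 108 101 0 92 94 87 1 2 2) (@D3.rec (fun _ => Nat) 110 4 0 59 62 8 104 1 2 62 2 59 116 99 5 5 5 5 118 114 1 2 115 110 0 111 103 0 108 1 2 0 0 0 116 1 120 74 1 124) (@D3.rec (fun _ => Nat) 109 2 3 118 58 98 93 106 3 10 110 104 107 105 107 0 96 91 98 1 103 3 62 9 104 1 2 60 2 64 98 5 105 106 1 121 2 2 91 2) (@D3.rec (fun _ => Nat) 98 3 94 94 2 0 3 0 1 8 0 111 1 114 1 114 64 112 106 5 101 1 120 2 111 2 97 101 2 3 104 97 0 2 3 1 7 0 0 112) (@D3.rec (fun _ => Nat) 1 117 79 1 115 115 17 16 59 88 94 97 2 2 121 9 2 2 116 9 1 108 107 85 104 107 108 9 3 1 116 89 110 116 9 3 98 115 118 4)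 (@D3.rec (fun _ => Nat) 105 99 102 5 116 102 6 109 107 115 102 98 119 4 107 102 102 5 109 6 117 113 106 120 2 113 112 122 116 111 114 118 113 109 124 2 116 110 112 114) (@D3.rec (fun _ => Nat) 117 117 116 2 119 103 116 118 106 117 117 123 97 86 108 71 20 87 86 98 101 104 0 1 98 100 109 0 3 10 8 17 111 104 114 110 113 0 1 106) (@D3.rec (fun _ => Nat) 104 124 0 3 9 9 4 4 121 109 10 10 4 4 120 115 9 9 1 2 1 2 2 107 2 108 4 99 104 103 1 4 100 104 107 1 5 119 1 2) (@D3.rec (fun _ => Nat) 105 0 1 105 97 0 117 5 117 1 2 115 0 1 112 94 0 110 107 116 111 0 1 97 65 112 93 109 0 1 94 91 1 2 1 2 103 2 0 104)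
def lv_a_18 : D2 → D3 → Nat := @D2.rec (fun _ => D3 → Nat) (@D3.rec (fun _ => Nat) 1 89 103 99 4 87 103 106 2 0 108 1 92 95 108 4 91 105 0 1 96 85 105 94 7 1 110 86 119 4 102 7 6 7 0 1 93 1 90 2) (@D3.rec (fun _ => Nat) 81 2 89 87 87 0 2 3 5 98 1 98 92 92 93 7 108 7 0 6 1 105 96 0 97 98 1 2 2 1 101 102 0 102 100 10 1 113 118 104) (@D3.rec (fun _ => Nat) 4 108 9 11 6 0 1 96 1 2 98 92 2 91 91 91 2 95 3 5 106 1 97 94 94 94 9 116 10 0 7 1 112 95 0 102 99 1 2 2) (@D3.rec (fun _ => Nat) 88 86 5 66 111 100 4 66 117 64 98 114 116 116 99 0 5 117 9 107 7 126 0 1 2 3 117 96 96 115 103 95 94 6 105 0 1 97 2 2) (@D3.rec (fun _ => Nat) 9 0 109 0 8 1 98 117 0 91 91 0 89 1 100 2 95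 94 92 107 116 90 89 107 89 91 113 113 91 117 0 5 115 11 108 7 126 0 1 2) (@D3.rec (fun _ => Nat) 3 111 92 94 106 123 93 93 6 115 0 1 123 2 2 11 0 107 0 10 1 120 118 0 65 65 0 1 100 2 17 93 3 11 89 17 101 12 1 2) (@D3.rec (fun _ => Nat) 115 2 3 0 3 3 4 4 4 79 4 4 0 9 12 111 0 1 95 91 90 2 105 94 117 109 110 95 118 118 97 107 97 90 90 96 3 109 113 107) (@D3.rec (fun _ => Nat) 3 1 2 2 91 14 107 17 105 112 2 2 3 3 3 91 119 119 11 7 121 0 1 2 0 2 3 107 3 100 0 99 106 4 100 14 119 1 115 12) (@D3.rec (fun _ => Nat) 3 3 3 3 104 4 107 114 4 4 101 2 3 97 0 0 0 1 102 2 2 2 3 3 122 121 0 2 2 3 3 112 0 13 11 118 8 1 113 126) (@D3.rec (fun _ => Nat) 0 92 89 0 1 96 0 2 3 115 0 79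 3 10 91 16 105 17 119 1 2 2 3 78 3 3 4 4 4 97 4 0 8 15 110 112 1 103 92 92) (@D3.rec (fun _ => Nat) 2 106 95 116 108 108 100 115 106 91 105 90 96 94 99 3 104 106 104 3 1 2 95 2 12 115 115 18 111 2 2 104 3 97 3 116 7 121 0 1) (@D3.rec (fun _ => Nat) 2 100 2 3 109 3 106 0 91 116 4 94 15 109 1 107 12 3 3 3 3 107 4 106 116 4 4 2 111 3 99 91 98 0 1 108 2 2 2 3) (@D3.rec (fun _ => Nat) 3 109 107 0 2 3 113 13 14 110 8 1 117 122 0 99 99 0 1 92 96 2 3 108 112 1 98 5 2 96 1 118 1 2 99 2 98 4 83 81) (@D3.rec (fun _ => Nat) 111 3 113 65 82 19 4 4 98 9 5 16 116 97 1 11 13 2 3 65 1 66 2 113 92 3 4 110 3 6 113 95 101 99 4 4 4 86 121 4) (@D3.rec (fun _ => Nat) 5 5 18 0 5 5 5 92 1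 112 2 115 113 11 10 109 6 119 1 2 115 102 1 82 1 2 121 119 83 2 3 3 9 109 109 66 3 4 117 8) (@D3.rec (fun _ => Nat) 4 4 2 123 3 84 89 115 68 117 9 111 68 3 3 3 82 114 107 120 80 2 2 2 2 3 3 3 115 3 119 0 2 3 12 115 116 118 1 119) (@D3.rec (fun _ => Nat) 120 1 115 2 105 2 2 3 3 65 61 5 61 60 13 118 0 89 1 91 91 88 87 68 65 3 95 112 68 113 96 2 89 52 52 7 7 4 4 105) (@D3.rec (fun _ => Nat) 1 112 2 121 111 90 90 99 0 118 2 3 101 4 105 2 2 114 3 104 7 121 101 5 125 10 1 106 108 108 3 3 3 3 114 63 69 70 107 112) (@D3.rec (fun _ => Nat) 4 2 3 103 93 2 3 118 11 12 104 108 104 110 121 1 103 2 2 2 112 3 61 3 58 1 97 1 118 2 97 89 121 90 1 2 113 3 113 92) (@D3.rec (fun _ =>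 Nat) 100 4 4 8 5 17 15 99 1 16 2 3 52 1 54 2 111 3 4 114 89 3 6 101 86 99 98 4 4 4 114 4 5 5 17 0 5 1 110 2) (@D3.rec (fun _ => Nat) 114 10 10 113 14 112 1 2 115 99 1 96 1 2 118 121 91 2 3 3 6 101 73 3 4 111 5 4 2 117 115 62 91 52 112 102 10 123 52 3) (@D3.rec (fun _ => Nat) 91 2 2 2 120 3 3 119 121 117 119 117 119 1 118 116 1 122 2 107 2 2 3 3 78 90 5 64 64 8 119 0 94 1 86 85 93 84 3 54) (@D3.rec (fun _ => Nat) 95 84 8 4 4 109 1 114 125 117 92 92 0 113 120 2 3 104 5 116 2 119 7 121 105 4 11 1 103 104 105 3 3 3 3 107 71 67 67 108) (@D3.rec (fun _ => Nat) 4 108 2 3 110 2 110 3 12 13 108 123 109 111 121 1 107 2 2 2 123 3 61 3 65 85 120 110 105 115 86 4 5 5 1 98 120 2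 4 5) (@D3.rec (fun _ => Nat) 118 118 2 3 2 2 2 119 3 2 3 100 91 94 94 8 99 2 3 1 98 105 2 2 7 6 6 5 5 5 107 119 83 99 98 101 97 99 98 6) (@D3.rec (fun _ => Nat) 6 99 7 2 103 3 104 2 102 3 110 102 111 63 99 114 1 122 61 2 3 99 96 97 2 96 3 99 101 101 1 100 98 116 1 66 1 118 65 101)
def lv_a_19 : D2 → D3 → Nat := @D2.rec (fun _ => D3 → Nat) (@D3.rec (fun _ => Nat) 123 112 96 106 90 4 5 5 1 104 117 2 4 5 112 115 2 3 2 2 2 3 115 2 3 100 92 93 93 103 2 109 3 1 94 115 2 2 7 6) (@D3.rec (fun _ => Nat) 6 5 5 5 124 108 51 51 106 102 101 105 6 107 6 7 103 98 2 3 117 100 2 3 98 110 120 107 96 1 121 62 115 2 3 101 117 98 83 2) (@D3.rec (fun _ => Nat) 3 114 1 105 107 105 105 114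 1 113 75 1 74 97 98 2 2 96 98 118 3 3 121 0 88 93 95 112 112 2 3 0 106 99 2 2 105 117 3 3) (@D3.rec (fun _ => Nat) 0 125 90 92 92 118 118 2 3 0 2 2 63 98 105 116 116 1 107 88 1 121 2 2 87 1 122 104 117 115 1 115 90 1 124 2 2 91 1 117) (@D3.rec (fun _ => Nat) 86 2 121 104 3 107 114 69 118 2 109 113 105 2 4 115 108 3 3 106 103 4 102 111 106 104 101 2 94 2 3 113 111 114 3 3 3 4 4 2) (@D3.rec (fun _ => Nat) 3 113 102 4 4 4 4 4 4 5 112 5 5 2 3 2 3 101 113 2 106 89 2 120 101 3 117 114 110 2 115 119 2 4 119 116 3 3 114 4) (@D3.rec (fun _ => Nat) 104 109 106 107 105 104 2 98 112 114 4 4 2 3 101 118 2 117 114 114 114 117 109 110 105 6 6 6 6 7 7 110 110 104 113 105 106 97 117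 115) (@D3.rec (fun _ => Nat) 115 115 109 112 110 6 6 6 6 7 7 106 109 107 126 105 114 102 113 111 6 7 6 99 114 112 112 114 0 8 7 103 111 104 116 114 112 6 113 0) (@D3.rec (fun _ => Nat) 111 105 106 114 118 116 120 5 120 122 6 7 125 123 118 5 122 119 6 7 23 23 23 3 3 105 103 4 97 99 24 3 3 112 110 4 106 111 15 121) (@D3.rec (fun _ => Nat) 5 15 120 3 4 16 122 4 14 115 3 5 114 1 62 104 1 88 93 2 15 14 87 2 14 13 98 3 4 90 3 4 1 111 11 2 87 1 122 10) (@D3.rec (fun _ => Nat) 2 65 100 98 103 103 86 106 86 100 109 104 106 6 107 99 103 106 108 7 113 107 113 59 102 59 99 105 101 105 6 109 99 98 102 102 7 116 114 3) (@D3.rec (fun _ => Nat) 103 106 110 3 102 115 120 87 116 65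 116 108 109 104 94 99 19 98 105 21 4 0 108 0 1 77 0 4 0 109 0 1 77 0 96 107 109 109 110 121) (@D3.rec (fun _ => Nat) 105 94 1 120 95 1 100 14 108 104 109 111 105 89 1 113 85 1 78 15 106 103 2 124 10 104 102 3 112 4 96 108 108 2 124 11 104 100 3 112) (@D3.rec (fun _ => Nat) 4 87 2 3 15 3 9 4 93 110 2 3 22 87 2 95 3 3 4 95 93 103 2 3 14 3 9 4 89 111 2 3 60 22 2 95 3 3 4 96) (@D3.rec (fun _ => Nat) 94 95 87 120 88 85 11 107 105 120 1 122 119 105 100 106 2 119 100 4 4 7 104 5 108 2 118 122 1 114 1 115 112 1 114 3 2 114 4 4) (@D3.rec (fun _ => Nat) 96 110 108 2 3 4 107 3 3 4 5 3 112 118 115 104 109 114 2 119 113 1 119 109 1 2 96 6 3 90 90 120 111 116 114 58 106 101 105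 57) (@D3.rec (fun _ => Nat) 115 107 4 7 112 12 106 116 115 1 118 4 3 2 3 97 117 3 3 111 117 101 107 107 110 116 7 93 111 1 95 1 111 109 110 100 100 98 1 107) (@D3.rec (fun _ => Nat) 106 100 2 100 4 114 3 100 100 5 5 95 106 97 49 120 50 101 95 2 3 101 104 104 4 4 4 112 114 110 116 99 107 103 2 101 3 1 118 113) (@D3.rec (fun _ => Nat) 94 94 92 3 0 120 112 1 114 114 1 112 102 102 107 114 1 106 106 104 2 99 5 111 3 58 99 4 5 98 115 97 69 118 68 97 107 2 3 103) (@D3.rec (fun _ => Nat) 110 113 4 4 4 95 102 116 100 114 113 109 2 112 3 1 109 112 93 93 93 3 115 0 110 93 1 2 126 97 0 93 91 111 93 95 119 122 4 4) (@D3.rec (fun _ => Nat) 4 0 1 100 97 111 5 113 101 105 103 92 1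 122 0 121 94 95 115 94 94 117 120 4 115 112 107 102 110 124 119 110 110 122 122 4 3 4 3 3) (@D3.rec (fun _ => Nat) 119 3 117 105 110 105 116 88 58 117 121 86 116 12 69 67 13 83 85 125 113 105 105 106 63 110 8 0 1 105 2 110 117 2 12 3 113 92 4 115) (@D3.rec (fun _ => Nat) 12 9 112 112 1 87 123 1 110 105 113 76 110 9 0 1 122 2 108 115 2 11 115 89 89 13 10 121 121 1 59 125 1 105 108 7 121 119 2 10) (@D3.rec (fun _ => Nat) 113 9 1 69 119 1 125 62 3 3 4 113 5 103 104 114 1 2 84 6 6 2 108 93 106 90 93 90 92 1 2 118 7 117 119 2 10 120 8 1) (@D3.rec (fun _ => Nat) 73 114 1 113 61 3 114 5 99 99 117 93 6 6 2 120 87 120 90 93 88 87 1 2 112 4 4 63 73 65 65 115 112 112 91 3 3 112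 4 90) (@D3.rec (fun _ => Nat) 65 68 68 108 117 90 3 3 115 102 101 113 124 4 4 4 0 1 123 110 5 122 105 111 100 101 120 115 4 110 121 3 122 8 116 3 121 9 113 9)
def lv_a_20 : D2 → D3 → Nat := @D2.rec (fun _ => D3 → Nat) (@D3.rec (fun _ => Nat) 103 6 111 113 3 113 119 113 10 9 112 6 114 115 3 112 117 114 11 120 123 109 115 18 17 7 8 97 99 104 106 4 98 1 4 102 1 5 8 1) (@D3.rec (fun _ => Nat) 103 5 7 1 103 126 118 2 110 109 101 98 4 4 2 123 108 100 99 4 4 105 9 113 0 0 1 97 1 4 6 7 1 93 120 2 2 97 106 97) (@D3.rec (fun _ => Nat) 120 7 6 102 100 9 109 0 120 1 104 0 1 4 11 6 1 102 108 2 2 95 99 99 119 10 7 100 96 8 108 109 62 109 99 99 64 99 4 96) (@D3.rec (fun _ => Nat)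 97 0 1 2 2 121 2 2 3 3 2 3 67 11 122 120 16 88 8 118 109 97 108 107 108 75 108 3 98 103 0 1 120 2 116 2 2 3 4 2) (@D3.rec (fun _ => Nat) 3 73 12 115 95 87 3 4 4 103 111 116 1 122 4 114 1 111 2 93 2 2 3 3 104 2 3 109 1 96 107 79 3 4 4 99 115 109 1 111) (@D3.rec (fun _ => Nat) 3 111 1 111 2 92 2 2 3 4 104 2 3 103 1 102 107 116 104 4 118 118 95 2 113 3 2 102 3 111 1 2 1 111 110 97 2 2 111 3) (@D3.rec (fun _ => Nat) 68 3 102 100 109 112 3 106 112 2 108 3 110 106 60 65 118 109 3 120 114 94 2 110 4 116 112 1 2 1 110 110 96 2 2 110 3 74 3 102) (@D3.rec (fun _ => Nat) 106 115 103 112 2 103 3 113 103 60 75 114 101 0 0 1 117 121 110 105 2 116 98 1 102 121 0 1 119 0 1 119 2 2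 0 7 1 113 2 1) (@D3.rec (fun _ => Nat) 117 117 66 108 96 105 111 102 109 103 1 110 122 2 2 113 2 3 1 106 108 104 103 2 108 62 116 103 116 118 116 114 116 2 114 103 1 106 113 0) (@D3.rec (fun _ => Nat) 1 118 0 2 0 8 1 115 112 1 122 2 1 115 120 74 114 96 112 110 106 102 109 1 103 112 2 2 3 108 106 106 2 119 60 99 122 122 121 2) (@D3.rec (fun _ => Nat) 101 95 96 102 0 1 9 0 1 98 1 2 96 113 113 104 121 122 118 2 103 105 105 106 0 1 8 0 103 1 2 96 1 117 117 120 123 112 114 98) (@D3.rec (fun _ => Nat) 117 106 5 4 6 113 102 7 102 111 101 124 111 5 4 6 112 7 106 121 113 119 120 119 122 111 1 2 100 112 76 1 84 93 113 1 2 106 121 78) (@D3.rec (fun _ => Nat) 1 96 79 101 119 111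 12 110 109 121 112 9 105 2 3 2 3 106 118 108 106 114 114 2 102 1 97 99 97 1 102 101 116 119 2 114 1 96 105 96) (@D3.rec (fun _ => Nat) 1 104 102 115 113 1 99 65 94 109 1 97 91 2 3 2 3 1 101 91 91 101 87 87 125 1 95 120 94 97 91 91 118 1 94 98 106 98 82 101) (@D3.rec (fun _ => Nat) 104 7 125 1 121 96 2 82 96 2 3 1 98 100 95 95 95 107 116 108 8 113 1 112 98 109 100 98 100 1 2 2 103 106 102 100 2 2 97 1) (@D3.rec (fun _ => Nat) 93 109 99 92 106 114 7 120 1 112 112 2 93 93 2 3 108 108 104 94 94 121 117 123 8 119 1 116 95 109 106 95 101 1 2 2 101 104 100 100) (@D3.rec (fun _ => Nat) 2 2 103 90 127 122 112 114 116 119 0 123 120 116 1 111 104 114 119 1 123 2 119 112 106 118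 107 1 104 2 2 0 1 2 114 112 1 122 121 0) (@D3.rec (fun _ => Nat) 108 98 1 116 1 108 102 95 107 106 117 112 119 115 120 118 1 116 108 118 118 1 121 2 114 116 118 122 113 1 122 2 2 0 1 2 115 119 1 124) (@D3.rec (fun _ => Nat) 122 0 122 1 111 1 100 97 94 112 2 107 3 6 121 1 2 2 4 4 4 105 117 4 118 110 113 1 108 114 114 1 117 86 90 120 120 120 120 107) (@D3.rec (fun _ => Nat) 92 120 92 92 110 89 2 2 120 3 3 91 84 116 3 3 3 99 4 4 91 117 13 9 123 1 2 0 2 1 2 95 107 3 107 1 115 0 13 13) (@D3.rec (fun _ => Nat) 118 4 4 4 111 109 109 105 109 101 2 3 0 0 97 1 2 1 1 102 2 2 78 3 3 98 4 105 117 1 113 3 3 117 4 122 114 1 113 111) (@D3.rec (fun _ => Nat) 13 108 8 123 0 1 1 0 98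 1 101 100 105 3 106 113 1 113 80 80 123 2 103 3 6 117 79 79 4 4 4 117 112 4 122 110 1 113 121 116) (@D3.rec (fun _ => Nat) 94 94 116 111 116 104 98 116 96 94 120 79 2 2 116 3 97 3 94 118 3 3 104 99 4 1 2 102 2 101 106 3 119 1 112 13 13 109 4 4) (@D3.rec (fun _ => Nat) 4 111 105 112 104 2 109 3 102 100 93 102 1 111 2 2 3 3 4 113 111 1 119 3 111 111 14 111 120 127 0 1 1 95 92 104 96 3 114 111) (@D3.rec (fun _ => Nat) 113 108 2 99 113 85 107 5 99 109 116 116 112 13 3 117 4 118 102 97 113 5 5 85 1 118 115 6 125 92 2 119 2 6 125 3 11 109 4 10) (@D3.rec (fun _ => Nat) 3 83 114 69 122 126 3 3 3 3 4 102 117 119 96 1 12 115 116 119 2 3 3 114 120 123 1 70 68 112 52 8 2 112 101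 115 120 99 114 103)
def lv_a_21 : D2 → D3 → Nat := @D2.rec (fun _ => D3 → Nat) (@D3.rec (fun _ => Nat) 1 118 5 3 112 120 6 118 119 4 116 66 69 69 105 112 119 108 12 105 2 105 3 120 61 103 2 106 109 5 115 17 106 3 4 119 101 97 113 5) (@D3.rec (fun _ => Nat) 5 1 115 121 2 116 2 6 115 3 7 4 6 93 53 109 114 3 3 113 118 121 117 116 118 2 3 3 111 113 115 1 85 112 114 120 118 1 120 120) (@D3.rec (fun _ => Nat) 6 117 5 118 4 107 74 66 66 108 109 113 15 112 2 107 3 119 61 88 88 5 107 112 2 119 98 115 121 3 121 2 3 104 98 101 2 2 100 107) (@D3.rec (fun _ => Nat) 109 112 6 8 112 119 99 101 100 99 99 114 3 101 106 116 118 92 92 5 114 105 2 115 107 124 121 3 121 2 3 110 99 108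 2 2 106 119 113 113) (@D3.rec (fun _ => Nat) 6 8 112 120 53 109 101 105 98 118 3 103 106 120 120 98 119 114 122 118 117 118 1 119 118 111 88 116 116 1 99 115 122 78 119 110 1 77 119 92) (@D3.rec (fun _ => Nat) 110 119 115 1 110 2 121 2 108 4 106 104 112 102 3 119 4 4 112 5 5 5 121 117 119 4 114 109 103 105 118 110 108 7 7 111 120 122 115 104) (@D3.rec (fun _ => Nat) 111 0 105 115 114 112 7 7 111 119 128 105 109 111 0 105 119 0 7 8 100 113 0 112 105 1 2 104 113 112 0 104 116 115 0 0 1 124 120 115) (@D3.rec (fun _ => Nat) 126 0 119 116 115 7 121 120 119 7 4 96 4 113 93 83 114 105 8 99 8 107 4 96 7 4 92 7 12 11 109 97 86 105 121 107 111 120 119 114) (@D3.rec (fun _ =>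 Nat) 90 61 101 116 109 103 120 115 88 1 1 108 79 94 1 96 1 1 117 77 95 1 112 109 105 107 91 119 113 111 109 103 105 104 116 110 118 11 106 4) (@D3.rec (fun _ => Nat) 96 117 12 106 4 91 103 3 108 4 115 3 109 112 112 87 99 116 4 95 93 92 3 114 4 120 3 116 115 62 112 101 124 4 96 94 118 102 109 11) (@D3.rec (fun _ => Nat) 117 5 124 117 3 5 4 6 116 104 118 2 96 92 107 122 115 113 123 114 3 97 106 115 102 100 102 121 106 114 114 121 115 104 2 121 3 104 118 113) (@D3.rec (fun _ => Nat) 93 93 116 1 105 107 106 123 105 118 120 111 120 117 2 115 3 115 111 95 95 118 1 2 99 1 108 5 122 0 1 2 48 100 102 113 102 1 119 14) (@D3.rec (fun _ => Nat) 85 69 13 85 87 111 111 123 1 114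 119 102 2 116 121 123 4 86 14 110 113 119 1 123 117 102 2 122 119 125 13 109 101 4 108 114 2 94 2 118) (@D3.rec (fun _ => Nat) 110 108 112 92 2 72 68 68 115 113 64 70 71 121 5 106 1 106 61 123 113 122 114 123 116 108 101 91 102 102 120 110 113 0 1 111 1 95 112 118) (@D3.rec (fun _ => Nat) 1 111 1 100 108 119 119 81 99 5 5 1 112 100 2 2 3 4 111 119 3 4 121 110 120 121 107 109 4 4 1 121 2 5 3 5 90 89 4 4) (@D3.rec (fun _ => Nat) 91 123 101 5 93 2 3 4 3 80 80 4 4 93 110 105 4 94 2 3 5 3 118 97 87 120 3 107 113 101 111 120 3 122 114 97 97 121 3 108) (@D3.rec (fun _ => Nat) 118 108 115 119 3 115 102 1 124 1 119 117 117 103 1 119 0 8 1 126 2 80 1 2 113 126 111 115 119 124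 114 116 118 106 127 100 113 118 105 1) (@D3.rec (fun _ => Nat) 120 0 9 1 116 1 2 108 116 104 115 115 118 122 106 116 1 117 100 1 100 104 2 122 123 115 121 1 121 1 106 2 116 122 119 118 105 7 109 7) (@D3.rec (fun _ => Nat) 2 120 78 2 125 78 3 115 3 119 99 99 103 3 4 104 3 4 100 125 100 113 116 106 105 102 2 2 107 3 99 100 114 109 121 119 111 127 101 2) (@D3.rec (fun _ => Nat) 2 118 3 104 118 105 119 1 120 7 118 2 1 2 127 2 120 121 116 1 104 100 105 114 7 2 1 2 124 2 121 122 120 1 114 2 2 122 115 118) (@D3.rec (fun _ => Nat) 120 120 109 119 88 87 3 3 114 4 4 101 9 0 2 120 1 94 2 1 14 105 108 0 0 1 1 99 2 111 2 101 79 79 4 101 4 117 112 93) (@D3.rec (fun _ => Nat) 10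 121 1 0 1 101 98 101 101 111 123 124 126 116 104 118 80 80 3 3 120 4 102 2 120 14 104 102 100 122 119 2 4 121 118 1 98 101 112 113) (@D3.rec (fun _ => Nat) 109 120 125 86 117 127 122 113 118 4 117 68 102 105 119 112 117 108 120 122 119 115 118 121 124 127 128 121 119 97 122 104 121 1 113 118 126 1 113 123) (@D3.rec (fun _ => Nat) 1 120 123 1 122 114 123 2 120 1 124 119 1 114 1 121 119 1 117 126 122 96 97 92 126 120 96 88 118 91 61 121 113 123 105 111 108 107 105 49) (@D3.rec (fun _ => Nat) 121 66 101 124 124 1 2 51 2 105 113 103 123 86 86 126 96 101 116 102 102 125 102 123 120 111 116 122 123 125 115 121 1 111 126 6 126 3 5 122) (@D3.rec (fun _ => Nat) 127 126 124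 116 128 123 117 125 125 1 1 113 125 120 122 122 117 4 4 3 3 2 2 101 1 97 1 1 101 118 1 103 103 103 118 125 97 112 2 113)
def lv_a : Pt → Nat := @Pt.rec (fun _ => Nat) (@D1.rec (fun _ => D2 → D3 → Nat) lv_a_0 lv_a_1 lv_a_2 lv_a_3 lv_a_4 lv_a_5 lv_a_6 lv_a_7 lv_a_8 lv_a_9 lv_a_10 lv_a_11 lv_a_12 lv_a_13 lv_a_14 lv_a_15 lv_a_16 lv_a_17 lv_a_18 lv_a_19 lv_a_20 lv_a_21)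
abbrev lc_a_Cert_tree : Cert rels S Gen.a := Cert.tree
abbrev lc_a_rc_0_0 : Cert rels S Gen.a := rc_0_0
abbrev lc_a_rc_0_1 : Cert rels S Gen.a := rc_0_1
abbrev lc_a_rc_1_0 : Cert rels S Gen.a := rc_1_0
abbrev lc_a_rc_1_2 : Cert rels S Gen.a := rc_1_2
abbrev lc_a_rc_1_4 : Cert rels S Gen.a := rc_1_4
abbrev lc_a_rc_1_6 : Cert rels S Gen.a := rc_1_6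
abbrev lc_a_rc_1_8 : Cert rels S Gen.a := rc_1_8
abbrev lc_a_rc_28_0 : Cert rels S Gen.a := rc_28_0
abbrev lc_a_rc_29_0 : Cert rels S Gen.a := rc_29_0
abbrev lc_a_rc_2_0 : Cert rels S Gen.a := rc_2_0
abbrev lc_a_rc_2_2 : Cert rels S Gen.a := rc_2_2
abbrev lc_a_rc_30_0 : Cert rels S Gen.a := rc_30_0
abbrev lc_a_rc_30_12 : Cert rels S Gen.a := rc_30_12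
abbrev lc_a_rc_30_16 : Cert rels S Gen.a := rc_30_16
abbrev lc_a_rc_30_4 : Cert rels S Gen.a := rc_30_4
abbrev lc_a_rc_30_8 : Cert rels S Gen.a := rc_30_8
abbrev lc_a_rc_3_0 : Cert rels S Gen.a := rc_3_0
abbrev lc_a_rc_3_2 : Cert rels S Gen.a := rc_3_2
abbrev lc_a_rc_4_0 : Cert rels S Gen.a := rc_4_0
abbrev lc_a_rc_4_2 : Cert rels S Gen.a := rc_4_2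
abbrev lc_a_rc_5_0 : Cert rels S Gen.a := rc_5_0
abbrev lc_a_rc_5_2 : Cert rels S Gen.a := rc_5_2
abbrev lc_a_rc_6_0 : Cert rels S Gen.a := rc_6_0
abbrev lc_a_rc_6_2 : Cert rels S Gen.a := rc_6_2
abbrev lc_a_sc_0_0 : Cert rels S Gen.a := sc_0_0
def ce_a_0 : D2 → D3 → (Cert rels S Gen.a) := @D2.rec (fun _ => D3 → (Cert rels S Gen.a)) (@D3.rec (fun _ => (Cert rels S Gen.a)) lc_a_sc_0_0 lc_a_rc_29_0 lc_a_rc_3_2 lc_a_rc_28_0 lc_a_Cert_tree lc_a_rc_28_0 lc_a_rc_0_0 lc_a_rc_3_2 lc_a_rc_5_2 lc_a_rc_5_0 lc_a_rc_4_2 lc_a_Cert_tree lc_a_rc_3_2 lc_a_rc_5_2 lc_a_rc_6_2 lc_a_rc_2_2 lc_a_rc_4_2 lc_a_rc_5_2 lc_a_rc_6_2 lc_a_rc_29_0 lc_a_rc_29_0 lc_a_rc_0_0 lc_a_rc_3_2 lc_a_rc_5_2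 lc_a_rc_5_0 lc_a_rc_2_2 lc_a_rc_4_2 lc_a_rc_5_2 lc_a_rc_6_2 lc_a_Cert_tree lc_a_Cert_tree lc_a_rc_3_2 lc_a_rc_2_2 lc_a_rc_2_2 lc_a_rc_2_2 lc_a_rc_5_2 lc_a_rc_6_2 lc_a_rc_29_0 lc_a_rc_0_0 lc_a_Cert_tree) (@D3.rec (fun _ => (Cert rels S Gen.a)) lc_a_Cert_tree lc_a_rc_3_2 lc_a_rc_5_2 lc_a_rc_6_2 lc_a_rc_2_2 lc_a_rc_4_2 lc_a_rc_5_2 lc_a_rc_6_2 lc_a_rc_28_0 lc_a_rc_29_0 lc_a_rc_30_16 lc_a_rc_29_0 lc_a_Cert_tree lc_a_rc_3_2 lc_a_rc_2_2 lc_a_rc_2_2 lc_a_rc_2_2 lc_a_rc_5_2 lc_a_rc_6_2 lc_a_Cert_tree lc_a_Cert_tree lc_a_rc_0_0 lc_a_rc_5_0 lc_a_rc_29_0 lc_a_rc_0_0 lc_a_rc_0_0 lc_a_rc_0_1 lc_a_rc_4_2 lc_a_rc_3_2 lc_a_rc_3_2 lc_a_rc_3_2 lc_a_rc_2_2 lc_a_rc_2_2 lc_a_rc_6_0 lc_a_rc_29_0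 lc_a_rc_1_8 lc_a_rc_0_0 lc_a_rc_29_0 lc_a_rc_0_0 lc_a_Cert_tree) (@D3.rec (fun _ => (Cert rels S Gen.a)) lc_a_Cert_tree lc_a_rc_0_0 lc_a_rc_2_2 lc_a_rc_5_2 lc_a_rc_0_0 lc_a_rc_2_2 lc_a_rc_6_2 lc_a_rc_2_2 lc_a_rc_4_2 lc_a_rc_5_2 lc_a_rc_6_2 lc_a_rc_1_2 lc_a_rc_5_0 lc_a_Cert_tree lc_a_rc_3_2 lc_a_rc_2_2 lc_a_rc_2_2 lc_a_rc_2_2 lc_a_rc_5_2 lc_a_rc_6_2 lc_a_rc_28_0 lc_a_rc_29_0 lc_a_rc_3_2 lc_a_rc_0_0 lc_a_rc_6_2 lc_a_rc_29_0 lc_a_rc_5_2 lc_a_rc_29_0 lc_a_rc_0_0 lc_a_rc_3_2 lc_a_rc_4_2 lc_a_rc_5_2 lc_a_rc_5_0 lc_a_rc_4_2 lc_a_rc_3_2 lc_a_rc_3_2 lc_a_rc_3_2 lc_a_rc_2_2 lc_a_rc_2_2 lc_a_Cert_tree) (@D3.rec (fun _ => (Cert rels S Gen.a)) lc_a_Cert_tree lc_a_Cert_tree lc_a_Cert_tree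 lc_a_rc_0_0 lc_a_rc_2_2 lc_a_rc_29_0 lc_a_rc_0_0 lc_a_rc_2_2 lc_a_rc_0_1 lc_a_rc_1_4 lc_a_rc_28_0 lc_a_rc_29_0 lc_a_rc_1_4 lc_a_rc_3_2 lc_a_rc_5_2 lc_a_rc_4_2 lc_a_rc_4_2 lc_a_rc_4_2 lc_a_rc_3_2 lc_a_rc_29_0 lc_a_rc_3_2 lc_a_rc_0_0 lc_a_rc_29_0 lc_a_rc_3_2 lc_a_rc_3_2 lc_a_rc_6_0 lc_a_rc_29_0 lc_a_rc_1_8 lc_a_rc_0_0 lc_a_rc_1_6 lc_a_Cert_tree lc_a_rc_5_2 lc_a_Cert_tree lc_a_Cert_tree lc_a_Cert_tree lc_a_rc_0_0 lc_a_rc_2_2 lc_a_rc_5_2 lc_a_rc_0_0 lc_a_rc_2_2) (@D3.rec (fun _ => (Cert rels S Gen.a)) lc_a_rc_6_2 lc_a_rc_2_2 lc_a_rc_5_2 lc_a_rc_5_2 lc_a_rc_2_2 lc_a_rc_6_2 lc_a_rc_6_2 lc_a_rc_29_0 lc_a_rc_3_2 lc_a_rc_2_2 lc_a_rc_2_2 lc_a_rc_2_2 lc_a_rc_5_2 lc_a_rc_6_2 lc_a_rc_1_2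 lc_a_rc_5_0 lc_a_rc_0_0 lc_a_rc_3_2 lc_a_rc_4_2 lc_a_rc_5_2 lc_a_rc_5_0 lc_a_rc_4_2 lc_a_rc_3_2 lc_a_rc_3_2 lc_a_rc_3_2 lc_a_rc_2_2 lc_a_rc_2_2 lc_a_Cert_tree lc_a_rc_29_0 lc_a_Cert_tree lc_a_rc_0_0 lc_a_rc_4_2 lc_a_rc_29_0 lc_a_rc_4_2 lc_a_rc_0_0 lc_a_rc_28_0 lc_a_rc_29_0 lc_a_rc_29_0 lc_a_rc_28_0 lc_a_rc_0_1) (@D3.rec (fun _ => (Cert rels S Gen.a)) lc_a_rc_0_0 lc_a_rc_1_4 lc_a_rc_3_2 lc_a_rc_4_2 lc_a_rc_5_2 lc_a_rc_6_2 lc_a_rc_4_2 lc_a_rc_5_2 lc_a_rc_6_2 lc_a_rc_3_2 lc_a_rc_5_2 lc_a_rc_6_2 lc_a_rc_0_1 lc_a_rc_29_0 lc_a_rc_0_1 lc_a_rc_29_0 lc_a_rc_4_2 lc_a_rc_4_2 lc_a_rc_4_2 lc_a_Cert_tree lc_a_Cert_tree lc_a_rc_29_0 lc_a_rc_3_2 lc_a_rc_3_2 lc_a_Cert_tree lc_a_Cert_tree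 lc_a_rc_0_0 lc_a_rc_2_2 lc_a_rc_6_2 lc_a_rc_0_0 lc_a_rc_2_2 lc_a_rc_5_2 lc_a_rc_0_0 lc_a_rc_2_2 lc_a_rc_29_0 lc_a_rc_0_0 lc_a_rc_2_2 lc_a_rc_0_1 lc_a_rc_1_4 lc_a_rc_2_2) (@D3.rec (fun _ => (Cert rels S Gen.a)) lc_a_rc_3_2 lc_a_rc_29_0 lc_a_rc_0_0 lc_a_rc_1_4 lc_a_rc_2_2 lc_a_rc_3_2 lc_a_rc_0_1 lc_a_rc_29_0 lc_a_rc_28_0 lc_a_rc_4_2 lc_a_rc_28_0 lc_a_rc_4_2 lc_a_rc_29_0 lc_a_rc_4_2 lc_a_rc_4_2 lc_a_rc_3_0 lc_a_rc_29_0 lc_a_rc_3_0 lc_a_rc_0_0 lc_a_rc_28_0 lc_a_Cert_tree lc_a_rc_2_2 lc_a_Cert_tree lc_a_Cert_tree lc_a_rc_29_0 lc_a_rc_29_0 lc_a_rc_6_0 lc_a_rc_29_0 lc_a_rc_1_8 lc_a_rc_0_0 lc_a_rc_1_6 lc_a_Cert_tree lc_a_rc_5_2 lc_a_Cert_tree lc_a_rc_29_0 lc_a_rc_0_0 lc_a_rc_2_2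 lc_a_rc_30_12 lc_a_rc_0_0 lc_a_rc_2_2) (@D3.rec (fun _ => (Cert rels S Gen.a)) lc_a_rc_0_0 lc_a_rc_2_2 lc_a_rc_5_2 lc_a_rc_0_0 lc_a_rc_2_2 lc_a_rc_6_2 lc_a_rc_2_2 lc_a_rc_5_2 lc_a_rc_5_2 lc_a_rc_2_2 lc_a_rc_6_2 lc_a_rc_6_2 lc_a_rc_5_2 lc_a_rc_6_2 lc_a_rc_29_0 lc_a_rc_29_0 lc_a_rc_4_2 lc_a_rc_3_2 lc_a_rc_3_2 lc_a_rc_3_2 lc_a_rc_2_2 lc_a_rc_2_2 lc_a_rc_4_2 lc_a_rc_5_0 lc_a_rc_3_2 lc_a_rc_4_2 lc_a_rc_5_2 lc_a_rc_6_2 lc_a_rc_4_2 lc_a_rc_5_2 lc_a_rc_6_2 lc_a_rc_3_2 lc_a_rc_5_2 lc_a_rc_6_2 lc_a_Cert_tree lc_a_rc_29_0 lc_a_Cert_tree lc_a_rc_29_0 lc_a_rc_4_2 lc_a_rc_4_2) (@D3.rec (fun _ => (Cert rels S Gen.a)) lc_a_rc_4_2 lc_a_Cert_tree lc_a_rc_29_0 lc_a_Cert_tree lc_a_rc_0_0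 lc_a_rc_29_0 lc_a_rc_3_2 lc_a_rc_3_2 lc_a_Cert_tree lc_a_rc_29_0 lc_a_Cert_tree lc_a_rc_0_0 lc_a_rc_0_0 lc_a_rc_2_2 lc_a_rc_29_0 lc_a_Cert_tree lc_a_rc_0_0 lc_a_rc_2_2 lc_a_rc_29_0 lc_a_Cert_tree lc_a_rc_4_2 lc_a_rc_29_0 lc_a_rc_29_0 lc_a_rc_28_0 lc_a_rc_0_1 lc_a_rc_0_0 lc_a_rc_28_0 lc_a_rc_29_0 lc_a_rc_29_0 lc_a_rc_28_0 lc_a_rc_0_1 lc_a_rc_0_0 lc_a_rc_1_4 lc_a_rc_1_4 lc_a_rc_4_2 lc_a_rc_5_2 lc_a_rc_6_2 lc_a_rc_3_2 lc_a_rc_5_2 lc_a_rc_6_2) (@D3.rec (fun _ => (Cert rels S Gen.a)) lc_a_rc_3_2 lc_a_rc_5_2 lc_a_rc_6_2 lc_a_rc_28_0 lc_a_rc_29_0 lc_a_rc_29_0 lc_a_rc_0_0 lc_a_rc_28_0 lc_a_rc_3_2 lc_a_rc_3_2 lc_a_rc_0_1 lc_a_rc_29_0 lc_a_rc_0_1 lc_a_rc_0_0 lc_a_rc_0_1 lc_a_Cert_tree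 lc_a_rc_2_2 lc_a_Cert_tree lc_a_rc_29_0 lc_a_rc_4_2 lc_a_rc_4_2 lc_a_Cert_tree lc_a_Cert_tree lc_a_rc_0_0 lc_a_rc_5_0 lc_a_rc_6_2 lc_a_rc_0_0 lc_a_rc_29_0 lc_a_rc_5_2 lc_a_Cert_tree lc_a_rc_29_0 lc_a_rc_29_0 lc_a_Cert_tree lc_a_Cert_tree lc_a_rc_0_0 lc_a_rc_2_2 lc_a_rc_6_2 lc_a_rc_0_0 lc_a_rc_2_2 lc_a_rc_5_2) (@D3.rec (fun _ => (Cert rels S Gen.a)) lc_a_rc_2_2 lc_a_rc_6_2 lc_a_rc_3_2 lc_a_rc_6_2 lc_a_rc_2_2 lc_a_rc_5_2 lc_a_rc_3_2 lc_a_rc_5_2 lc_a_rc_1_4 lc_a_rc_2_2 lc_a_rc_3_2 lc_a_rc_29_0 lc_a_rc_0_0 lc_a_rc_1_4 lc_a_rc_2_2 lc_a_rc_3_2 lc_a_rc_0_1 lc_a_rc_29_0 lc_a_rc_3_2 lc_a_rc_4_2 lc_a_rc_29_0 lc_a_Cert_tree lc_a_rc_0_0 lc_a_rc_3_2 lc_a_rc_4_2 lc_a_rc_0_1 lc_a_Cert_tree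 lc_a_rc_29_0 lc_a_rc_30_8 lc_a_rc_28_0 lc_a_rc_4_2 lc_a_rc_28_0 lc_a_rc_28_0 lc_a_rc_28_0 lc_a_Cert_tree lc_a_rc_29_0 lc_a_rc_29_0 lc_a_rc_29_0 lc_a_rc_6_0 lc_a_rc_29_0) (@D3.rec (fun _ => (Cert rels S Gen.a)) lc_a_rc_1_8 lc_a_rc_0_0 lc_a_rc_29_0 lc_a_Cert_tree lc_a_rc_2_2 lc_a_Cert_tree lc_a_rc_0_0 lc_a_rc_0_0 lc_a_rc_0_0 lc_a_rc_5_2 lc_a_rc_5_0 lc_a_Cert_tree lc_a_rc_29_0 lc_a_Cert_tree lc_a_rc_0_0 lc_a_rc_6_0 lc_a_rc_1_6 lc_a_Cert_tree lc_a_rc_2_2 lc_a_rc_5_2 lc_a_Cert_tree lc_a_rc_29_0 lc_a_rc_0_0 lc_a_rc_2_2 lc_a_rc_30_12 lc_a_rc_0_0 lc_a_rc_2_2 lc_a_rc_29_0 lc_a_Cert_tree lc_a_rc_2_2 lc_a_rc_3_2 lc_a_rc_2_2 lc_a_Cert_tree lc_a_rc_2_2 lc_a_rc_3_2 lc_a_rc_2_2 lc_a_rc_5_2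 lc_a_rc_3_2 lc_a_rc_5_2 lc_a_rc_2_2) (@D3.rec (fun _ => (Cert rels S Gen.a)) lc_a_rc_6_2 lc_a_rc_3_2 lc_a_rc_6_2 lc_a_rc_5_2 lc_a_Cert_tree lc_a_rc_6_2 lc_a_Cert_tree lc_a_rc_30_12 lc_a_rc_30_8 lc_a_rc_29_0 lc_a_rc_29_0 lc_a_rc_29_0 lc_a_rc_4_2 lc_a_rc_4_2 lc_a_rc_4_2 lc_a_rc_29_0 lc_a_rc_3_2 lc_a_rc_3_2 lc_a_rc_4_2 lc_a_rc_5_2 lc_a_rc_6_2 lc_a_rc_3_2 lc_a_rc_5_2 lc_a_rc_6_2 lc_a_rc_1_2 lc_a_rc_1_2 lc_a_rc_3_2 lc_a_rc_5_2 lc_a_rc_6_2 lc_a_rc_28_0 lc_a_rc_29_0 lc_a_rc_30_16 lc_a_rc_0_0 lc_a_rc_28_0 lc_a_rc_3_2 lc_a_rc_3_2 lc_a_Cert_tree lc_a_rc_29_0 lc_a_Cert_tree lc_a_rc_0_0) (@D3.rec (fun _ => (Cert rels S Gen.a)) lc_a_rc_0_0 lc_a_rc_2_2 lc_a_rc_29_0 lc_a_rc_29_0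 lc_a_rc_0_0 lc_a_rc_2_2 lc_a_rc_0_1 lc_a_rc_29_0 lc_a_rc_29_0 lc_a_rc_4_2 lc_a_rc_4_2 lc_a_Cert_tree lc_a_rc_29_0 lc_a_Cert_tree lc_a_rc_0_0 lc_a_rc_0_0 lc_a_rc_0_0 lc_a_rc_29_0 lc_a_Cert_tree lc_a_rc_0_0 lc_a_rc_0_0 lc_a_rc_0_1 lc_a_Cert_tree lc_a_Cert_tree lc_a_rc_29_0 lc_a_rc_29_0 lc_a_Cert_tree lc_a_rc_29_0 lc_a_Cert_tree lc_a_rc_0_0 lc_a_rc_0_0 lc_a_rc_2_2 lc_a_rc_28_0 lc_a_Cert_tree lc_a_rc_0_0 lc_a_rc_2_2 lc_a_rc_29_0 lc_a_Cert_tree lc_a_rc_1_6 lc_a_rc_2_2) (@D3.rec (fun _ => (Cert rels S Gen.a)) lc_a_rc_3_2 lc_a_rc_29_0 lc_a_Cert_tree lc_a_rc_0_0 lc_a_rc_0_0 lc_a_rc_2_2 lc_a_rc_1_6 lc_a_rc_2_2 lc_a_rc_3_2 lc_a_rc_29_0 lc_a_Cert_tree lc_a_rc_29_0 lc_a_rc_0_0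 lc_a_rc_2_2 lc_a_rc_28_0 lc_a_rc_29_0 lc_a_rc_29_0 lc_a_rc_28_0 lc_a_rc_0_1 lc_a_rc_0_0 lc_a_rc_4_2 lc_a_rc_29_0 lc_a_Cert_tree lc_a_rc_29_0 lc_a_rc_29_0 lc_a_rc_0_1 lc_a_Cert_tree lc_a_rc_0_0 lc_a_rc_2_2 lc_a_rc_1_4 lc_a_rc_3_2 lc_a_rc_3_2 lc_a_rc_5_2 lc_a_rc_6_2 lc_a_rc_28_0 lc_a_rc_3_2 lc_a_rc_3_2 lc_a_rc_29_0 lc_a_rc_3_2 lc_a_rc_3_2) (@D3.rec (fun _ => (Cert rels S Gen.a)) lc_a_rc_28_0 lc_a_rc_29_0 lc_a_rc_29_0 lc_a_rc_0_0 lc_a_Cert_tree lc_a_Cert_tree lc_a_Cert_tree lc_a_rc_28_0 lc_a_rc_28_0 lc_a_rc_28_0 lc_a_rc_0_1 lc_a_rc_29_0 lc_a_rc_0_1 lc_a_rc_0_0 lc_a_rc_0_1 lc_a_Cert_tree lc_a_rc_2_2 lc_a_Cert_tree lc_a_rc_0_1 lc_a_rc_0_0 lc_a_rc_1_2 lc_a_rc_3_2 lc_a_rc_0_0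 lc_a_rc_4_0 lc_a_Cert_tree lc_a_rc_29_0 lc_a_rc_29_0 lc_a_rc_29_0 lc_a_Cert_tree lc_a_Cert_tree lc_a_rc_0_0 lc_a_rc_5_0 lc_a_rc_6_2 lc_a_rc_0_0 lc_a_rc_29_0 lc_a_rc_5_2 lc_a_rc_6_2 lc_a_rc_5_2 lc_a_rc_0_0 lc_a_rc_5_2) (@D3.rec (fun _ => (Cert rels S Gen.a)) lc_a_rc_5_0 lc_a_Cert_tree lc_a_Cert_tree lc_a_rc_0_0 lc_a_rc_2_2 lc_a_rc_6_2 lc_a_rc_0_0 lc_a_rc_2_2 lc_a_rc_5_2 lc_a_rc_2_2 lc_a_rc_6_2 lc_a_rc_3_2 lc_a_rc_6_2 lc_a_rc_2_2 lc_a_rc_5_2 lc_a_rc_3_2 lc_a_rc_5_2 lc_a_rc_1_6 lc_a_rc_3_2 lc_a_rc_6_2 lc_a_rc_4_2 lc_a_rc_28_0 lc_a_Cert_tree lc_a_Cert_tree lc_a_rc_3_2 lc_a_rc_5_2 lc_a_rc_4_2 lc_a_rc_28_0 lc_a_Cert_tree lc_a_rc_3_2 lc_a_rc_2_2 lc_a_rc_4_2 lc_a_rc_29_0 lc_a_Cert_tree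 lc_a_rc_0_0 lc_a_rc_3_2 lc_a_rc_2_2 lc_a_rc_4_2 lc_a_rc_0_1 lc_a_Cert_tree) (@D3.rec (fun _ => (Cert rels S Gen.a)) lc_a_rc_29_0 lc_a_rc_4_2 lc_a_rc_29_0 lc_a_Cert_tree lc_a_rc_0_0 lc_a_rc_0_0 lc_a_rc_2_0 lc_a_rc_28_0 lc_a_rc_4_2 lc_a_rc_0_1 lc_a_rc_30_4 lc_a_rc_29_0 lc_a_rc_0_0 lc_a_rc_29_0 lc_a_rc_28_0 lc_a_rc_3_2 lc_a_rc_30_8 lc_a_rc_6_2 lc_a_rc_4_2 lc_a_rc_28_0 lc_a_rc_28_0 lc_a_rc_4_2 lc_a_rc_5_2 lc_a_rc_28_0 lc_a_rc_28_0 lc_a_rc_0_0 lc_a_rc_3_2 lc_a_rc_5_2 lc_a_rc_5_0 lc_a_rc_29_0 lc_a_rc_29_0 lc_a_Cert_tree lc_a_rc_29_0 lc_a_Cert_tree lc_a_rc_0_0 lc_a_rc_6_0 lc_a_rc_4_2 lc_a_Cert_tree lc_a_rc_2_2 lc_a_rc_5_2) (@D3.rec (fun _ => (Cert rels S Gen.a)) lc_a_Cert_tree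 lc_a_rc_0_0 lc_a_rc_0_0 lc_a_Cert_tree lc_a_Cert_tree lc_a_Cert_tree lc_a_rc_5_2 lc_a_rc_6_2 lc_a_Cert_tree lc_a_rc_29_0 lc_a_Cert_tree lc_a_rc_29_0 lc_a_rc_0_0 lc_a_rc_2_2 lc_a_rc_6_2 lc_a_Cert_tree lc_a_rc_0_0 lc_a_rc_2_2 lc_a_rc_5_2 lc_a_Cert_tree lc_a_rc_6_0 lc_a_rc_2_2 lc_a_rc_29_0 lc_a_rc_0_0 lc_a_rc_2_2 lc_a_rc_3_2 lc_a_rc_5_2 lc_a_rc_30_16 lc_a_rc_0_0 lc_a_rc_2_2 lc_a_rc_29_0 lc_a_Cert_tree lc_a_rc_2_2 lc_a_rc_3_2 lc_a_rc_2_2 lc_a_Cert_tree lc_a_rc_2_2 lc_a_rc_3_2 lc_a_rc_29_0 lc_a_rc_0_0) (@D3.rec (fun _ => (Cert rels S Gen.a)) lc_a_rc_2_2 lc_a_Cert_tree lc_a_rc_3_2 lc_a_rc_4_2 lc_a_rc_3_2 lc_a_rc_0_0 lc_a_rc_2_2 lc_a_Cert_tree lc_a_rc_3_2 lc_a_rc_4_2 lc_a_rc_3_2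 lc_a_rc_5_2 lc_a_rc_2_2 lc_a_rc_5_2 lc_a_Cert_tree lc_a_rc_3_2 lc_a_rc_6_2 lc_a_rc_2_2 lc_a_rc_6_2 lc_a_Cert_tree lc_a_Cert_tree lc_a_rc_0_0 lc_a_rc_2_0 lc_a_rc_2_2 lc_a_rc_0_0 lc_a_rc_0_0 lc_a_rc_29_0 lc_a_rc_29_0 lc_a_rc_29_0 lc_a_rc_29_0 lc_a_rc_29_0 lc_a_rc_4_2 lc_a_rc_4_2 lc_a_Cert_tree lc_a_rc_29_0 lc_a_rc_29_0 lc_a_rc_3_2 lc_a_rc_5_2 lc_a_rc_6_2 lc_a_rc_3_2) (@D3.rec (fun _ => (Cert rels S Gen.a)) lc_a_rc_3_2 lc_a_rc_28_0 lc_a_rc_3_2 lc_a_rc_3_2 lc_a_rc_1_2 lc_a_rc_1_2 lc_a_rc_29_0 lc_a_rc_3_2 lc_a_rc_3_2 lc_a_rc_4_2 lc_a_rc_29_0 lc_a_rc_30_16 lc_a_rc_0_0 lc_a_rc_5_2 lc_a_rc_29_0 lc_a_rc_5_2 lc_a_rc_0_0 lc_a_Cert_tree lc_a_rc_28_0 lc_a_rc_28_0 lc_a_rc_28_0 lc_a_Cert_tree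 lc_a_rc_29_0 lc_a_Cert_tree lc_a_rc_0_0 lc_a_rc_0_0 lc_a_rc_2_2 lc_a_rc_29_0 lc_a_rc_29_0 lc_a_rc_0_0 lc_a_rc_2_2 lc_a_rc_0_1 lc_a_rc_29_0 lc_a_rc_2_2 lc_a_rc_3_2 lc_a_rc_29_0 lc_a_rc_5_2 lc_a_rc_2_2 lc_a_rc_3_2 lc_a_rc_0_1) (@D3.rec (fun _ => (Cert rels S Gen.a)) lc_a_rc_29_0 lc_a_Cert_tree lc_a_rc_29_0 lc_a_rc_29_0 lc_a_rc_29_0 lc_a_Cert_tree lc_a_rc_29_0 lc_a_Cert_tree lc_a_rc_0_0 lc_a_rc_0_0 lc_a_rc_4_2 lc_a_rc_29_0 lc_a_Cert_tree lc_a_rc_0_0 lc_a_rc_0_0 lc_a_rc_0_1 lc_a_Cert_tree lc_a_rc_3_2 lc_a_rc_6_2 lc_a_Cert_tree lc_a_rc_0_0 lc_a_rc_2_2 lc_a_rc_1_6 lc_a_rc_5_2 lc_a_Cert_tree lc_a_rc_0_0 lc_a_rc_2_2 lc_a_rc_0_0 lc_a_rc_5_2 lc_a_rc_5_0 lc_a_Cert_tree lc_a_rc_29_0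 lc_a_Cert_tree lc_a_rc_0_0 lc_a_rc_0_0 lc_a_rc_2_2 lc_a_rc_29_0 lc_a_Cert_tree lc_a_rc_0_0 lc_a_rc_2_2) (@D3.rec (fun _ => (Cert rels S Gen.a)) lc_a_rc_29_0 lc_a_Cert_tree lc_a_rc_1_6 lc_a_rc_2_2 lc_a_rc_3_2 lc_a_rc_29_0 lc_a_Cert_tree lc_a_rc_0_0 lc_a_rc_0_0 lc_a_rc_2_2 lc_a_rc_1_6 lc_a_rc_2_2 lc_a_rc_3_2 lc_a_rc_29_0 lc_a_Cert_tree lc_a_rc_29_0 lc_a_rc_0_0 lc_a_rc_2_2 lc_a_rc_3_2 lc_a_rc_4_2 lc_a_rc_3_2 lc_a_Cert_tree lc_a_rc_0_0 lc_a_rc_0_0 lc_a_rc_28_0 lc_a_rc_2_2 lc_a_rc_4_0 lc_a_rc_3_2 lc_a_rc_4_2 lc_a_rc_29_0 lc_a_Cert_tree lc_a_rc_29_0 lc_a_rc_0_0 lc_a_rc_28_0 lc_a_rc_2_2 lc_a_rc_1_2 lc_a_rc_28_0 lc_a_rc_28_0 lc_a_rc_29_0 lc_a_Cert_tree) (@D3.rec (fun _ =>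 (Cert rels S Gen.a)) lc_a_rc_29_0 lc_a_rc_28_0 lc_a_rc_28_0 lc_a_rc_0_1 lc_a_Cert_tree lc_a_rc_0_0 lc_a_rc_29_0 lc_a_rc_28_0 lc_a_rc_0_0 lc_a_rc_6_0 lc_a_rc_29_0 lc_a_rc_0_1 lc_a_rc_4_0 lc_a_rc_0_0 lc_a_rc_4_0 lc_a_rc_0_0 lc_a_rc_3_2 lc_a_rc_2_2 lc_a_rc_3_2 lc_a_rc_2_2 lc_a_rc_29_0 lc_a_rc_3_2 lc_a_rc_3_2 lc_a_Cert_tree lc_a_rc_28_0 lc_a_rc_28_0 lc_a_rc_28_0 lc_a_Cert_tree lc_a_rc_29_0 lc_a_rc_29_0 lc_a_rc_29_0 lc_a_rc_28_0 lc_a_rc_29_0 lc_a_rc_29_0 lc_a_rc_0_0 lc_a_Cert_tree lc_a_Cert_tree lc_a_rc_0_0 lc_a_rc_2_2 lc_a_rc_0_0) (@D3.rec (fun _ => (Cert rels S Gen.a)) lc_a_rc_2_2 lc_a_rc_0_0 lc_a_rc_3_2 lc_a_rc_5_2 lc_a_rc_5_0 lc_a_rc_28_0 lc_a_rc_29_0 lc_a_rc_28_0 lc_a_rc_28_0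 lc_a_Cert_tree lc_a_rc_29_0 lc_a_Cert_tree lc_a_rc_0_0 lc_a_rc_0_1 lc_a_Cert_tree lc_a_rc_2_2 lc_a_Cert_tree lc_a_rc_0_1 lc_a_rc_0_0 lc_a_rc_1_2 lc_a_rc_3_2 lc_a_rc_0_0 lc_a_rc_3_0 lc_a_rc_0_1 lc_a_rc_4_2 lc_a_rc_0_0 lc_a_rc_3_2 lc_a_rc_5_2 lc_a_rc_5_0 lc_a_rc_29_0 lc_a_rc_29_0 lc_a_Cert_tree lc_a_Cert_tree lc_a_rc_0_0 lc_a_rc_2_2 lc_a_rc_6_2 lc_a_rc_0_0 lc_a_rc_2_2 lc_a_rc_5_2 lc_a_rc_6_2) (@D3.rec (fun _ => (Cert rels S Gen.a)) lc_a_rc_28_0 lc_a_rc_5_2 lc_a_rc_29_0 lc_a_Cert_tree lc_a_rc_5_2 lc_a_rc_6_2 lc_a_Cert_tree lc_a_rc_29_0 lc_a_Cert_tree lc_a_rc_29_0 lc_a_rc_0_0 lc_a_rc_2_2 lc_a_rc_6_2 lc_a_rc_0_0 lc_a_rc_2_2 lc_a_rc_5_2 lc_a_rc_2_2 lc_a_rc_6_2 lc_a_rc_3_2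 lc_a_rc_6_2 lc_a_rc_2_2 lc_a_rc_5_2 lc_a_rc_3_2 lc_a_rc_5_2 lc_a_rc_1_6 lc_a_rc_3_2 lc_a_rc_6_2 lc_a_rc_2_2 lc_a_rc_4_2 lc_a_rc_6_2 lc_a_Cert_tree lc_a_rc_4_2 lc_a_rc_3_2 lc_a_rc_5_2 lc_a_rc_2_2 lc_a_rc_4_2 lc_a_rc_5_2 lc_a_Cert_tree lc_a_rc_4_2 lc_a_rc_28_0)
def ce_a_1 : D2 → D3 → (Cert rels S Gen.a) := @D2.rec (fun _ => D3 → (Cert rels S Gen.a)) (@D3.rec (fun _ => (Cert rels S Gen.a)) lc_a_rc_29_0 lc_a_rc_0_0 lc_a_rc_4_2 lc_a_rc_28_0 lc_a_rc_1_6 lc_a_rc_0_0 lc_a_rc_2_2 lc_a_rc_4_2 lc_a_Cert_tree lc_a_rc_2_2 lc_a_rc_2_2 lc_a_rc_29_0 lc_a_Cert_tree lc_a_rc_0_0 lc_a_rc_0_0 lc_a_rc_2_0 lc_a_rc_28_0 lc_a_rc_2_2 lc_a_rc_4_2 lc_a_Cert_tree lc_a_rc_2_2 lc_a_rc_2_2 lc_a_rc_0_1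 lc_a_Cert_tree lc_a_rc_29_0 lc_a_rc_0_0 lc_a_rc_29_0 lc_a_rc_28_0 lc_a_Cert_tree lc_a_rc_0_0 lc_a_rc_0_0 lc_a_rc_0_0 lc_a_rc_28_0 lc_a_rc_30_4 lc_a_rc_29_0 lc_a_rc_1_6 lc_a_rc_4_2 lc_a_rc_1_2 lc_a_rc_6_2 lc_a_rc_28_0) (@D3.rec (fun _ => (Cert rels S Gen.a)) lc_a_rc_28_0 lc_a_rc_4_2 lc_a_rc_28_0 lc_a_rc_5_2 lc_a_rc_28_0 lc_a_rc_28_0 lc_a_Cert_tree lc_a_rc_3_2 lc_a_rc_5_2 lc_a_rc_6_2 lc_a_rc_2_2 lc_a_rc_5_2 lc_a_rc_6_2 lc_a_Cert_tree lc_a_rc_29_0 lc_a_Cert_tree lc_a_rc_29_0 lc_a_Cert_tree lc_a_rc_29_0 lc_a_Cert_tree lc_a_rc_0_0 lc_a_rc_0_0 lc_a_rc_2_2 lc_a_rc_6_2 lc_a_Cert_tree lc_a_rc_0_0 lc_a_rc_2_2 lc_a_rc_5_2 lc_a_Cert_tree lc_a_rc_3_2 lc_a_rc_4_2 lc_a_rc_0_0 lc_a_rc_2_2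 lc_a_rc_3_2 lc_a_rc_5_2 lc_a_rc_0_0 lc_a_rc_2_2 lc_a_Cert_tree lc_a_Cert_tree lc_a_rc_0_0) (@D3.rec (fun _ => (Cert rels S Gen.a)) lc_a_rc_2_2 lc_a_rc_0_0 lc_a_rc_2_2 lc_a_rc_0_0 lc_a_rc_2_2 lc_a_rc_5_2 lc_a_rc_5_0 lc_a_Cert_tree lc_a_Cert_tree lc_a_rc_0_0 lc_a_rc_2_2 lc_a_rc_29_0 lc_a_Cert_tree lc_a_rc_0_0 lc_a_rc_2_2 lc_a_rc_0_1 lc_a_Cert_tree lc_a_Cert_tree lc_a_rc_2_2 lc_a_rc_6_2 lc_a_rc_3_2 lc_a_rc_6_2 lc_a_Cert_tree lc_a_rc_0_0 lc_a_rc_0_0 lc_a_rc_2_2 lc_a_rc_5_2 lc_a_Cert_tree lc_a_rc_2_2 lc_a_rc_5_2 lc_a_rc_3_2 lc_a_rc_5_2 lc_a_Cert_tree lc_a_rc_29_0 lc_a_rc_0_0 lc_a_rc_2_2 lc_a_rc_6_2 lc_a_rc_6_0 lc_a_rc_3_2 lc_a_Cert_tree) (@D3.rec (fun _ => (Cert rels S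 Gen.a)) lc_a_rc_29_0 lc_a_Cert_tree lc_a_rc_2_2 lc_a_rc_3_2 lc_a_rc_4_2 lc_a_rc_5_2 lc_a_Cert_tree lc_a_rc_2_2 lc_a_Cert_tree lc_a_rc_2_2 lc_a_rc_3_2 lc_a_rc_29_0 lc_a_rc_0_0 lc_a_rc_2_2 lc_a_Cert_tree lc_a_rc_3_2 lc_a_rc_2_2 lc_a_rc_4_2 lc_a_rc_3_2 lc_a_rc_0_0 lc_a_rc_2_2 lc_a_Cert_tree lc_a_rc_3_2 lc_a_rc_2_2 lc_a_rc_4_2 lc_a_rc_29_0 lc_a_rc_2_2 lc_a_rc_1_4 lc_a_rc_28_0 lc_a_rc_0_0 lc_a_rc_0_0 lc_a_rc_4_2 lc_a_rc_4_2 lc_a_rc_2_2 lc_a_rc_30_8 lc_a_rc_28_0 lc_a_rc_0_0 lc_a_rc_4_0 lc_a_rc_4_2 lc_a_rc_2_2) (@D3.rec (fun _ => (Cert rels S Gen.a)) lc_a_rc_5_2 lc_a_rc_4_2 lc_a_Cert_tree lc_a_rc_2_2 lc_a_Cert_tree lc_a_rc_0_0 lc_a_rc_2_0 lc_a_rc_2_2 lc_a_rc_6_2 lc_a_rc_2_2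 lc_a_Cert_tree lc_a_rc_2_2 lc_a_Cert_tree lc_a_rc_0_0 lc_a_rc_0_0 lc_a_rc_28_0 lc_a_rc_28_0 lc_a_rc_29_0 lc_a_Cert_tree lc_a_rc_29_0 lc_a_Cert_tree lc_a_rc_29_0 lc_a_rc_29_0 lc_a_rc_29_0 lc_a_rc_0_0 lc_a_rc_5_2 lc_a_rc_5_0 lc_a_Cert_tree lc_a_Cert_tree lc_a_rc_29_0 lc_a_rc_3_2 lc_a_rc_3_2 lc_a_rc_4_2 lc_a_rc_4_2 lc_a_Cert_tree lc_a_rc_28_0 lc_a_rc_28_0 lc_a_rc_1_2 lc_a_rc_1_2 lc_a_Cert_tree) (@D3.rec (fun _ => (Cert rels S Gen.a)) lc_a_rc_3_2 lc_a_rc_29_0 lc_a_rc_29_0 lc_a_rc_28_0 lc_a_rc_29_0 lc_a_rc_3_2 lc_a_rc_0_0 lc_a_rc_6_2 lc_a_rc_29_0 lc_a_rc_5_2 lc_a_rc_0_0 lc_a_rc_0_0 lc_a_rc_3_2 lc_a_rc_5_2 lc_a_rc_5_0 lc_a_rc_28_0 lc_a_rc_28_0 lc_a_rc_28_0 lc_a_Cert_tree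 lc_a_rc_29_0 lc_a_Cert_tree lc_a_rc_0_0 lc_a_rc_0_0 lc_a_rc_2_2 lc_a_rc_29_0 lc_a_rc_29_0 lc_a_rc_0_0 lc_a_rc_2_2 lc_a_rc_0_1 lc_a_rc_28_0 lc_a_rc_2_2 lc_a_rc_3_2 lc_a_rc_29_0 lc_a_rc_5_2 lc_a_rc_2_2 lc_a_rc_3_2 lc_a_rc_0_1 lc_a_rc_28_0 lc_a_rc_1_6 lc_a_rc_3_2) (@D3.rec (fun _ => (Cert rels S Gen.a)) lc_a_rc_4_2 lc_a_rc_0_0 lc_a_rc_1_6 lc_a_rc_3_2 lc_a_rc_4_2 lc_a_rc_3_2 lc_a_rc_0_0 lc_a_rc_3_2 lc_a_rc_5_2 lc_a_rc_5_0 lc_a_rc_29_0 lc_a_rc_29_0 lc_a_Cert_tree lc_a_rc_29_0 lc_a_Cert_tree lc_a_rc_0_0 lc_a_rc_0_0 lc_a_rc_2_2 lc_a_rc_29_0 lc_a_Cert_tree lc_a_rc_0_0 lc_a_rc_2_2 lc_a_rc_0_1 lc_a_Cert_tree lc_a_rc_4_2 lc_a_rc_28_0 lc_a_rc_6_2 lc_a_Cert_tree lc_a_rc_0_0 lc_a_rc_2_2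 lc_a_rc_1_6 lc_a_rc_3_2 lc_a_rc_5_2 lc_a_Cert_tree lc_a_rc_0_0 lc_a_rc_2_2 lc_a_rc_0_0 lc_a_rc_2_2 lc_a_rc_2_2 lc_a_rc_0_0) (@D3.rec (fun _ => (Cert rels S Gen.a)) lc_a_rc_2_2 lc_a_rc_2_2 lc_a_Cert_tree lc_a_rc_5_2 lc_a_rc_6_2 lc_a_Cert_tree lc_a_rc_29_0 lc_a_Cert_tree lc_a_rc_29_0 lc_a_rc_0_0 lc_a_rc_2_2 lc_a_rc_6_2 lc_a_Cert_tree lc_a_rc_0_0 lc_a_rc_2_2 lc_a_rc_5_2 lc_a_Cert_tree lc_a_rc_3_2 lc_a_rc_2_2 lc_a_rc_3_2 lc_a_rc_28_0 lc_a_Cert_tree lc_a_rc_0_0 lc_a_rc_0_0 lc_a_rc_2_2 lc_a_rc_1_6 lc_a_rc_2_2 lc_a_rc_3_2 lc_a_rc_2_2 lc_a_Cert_tree lc_a_rc_29_0 lc_a_rc_0_0 lc_a_rc_2_2 lc_a_rc_3_2 lc_a_rc_2_2 lc_a_rc_4_2 lc_a_rc_28_0 lc_a_Cert_tree lc_a_rc_0_0 lc_a_rc_0_0)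 (@D3.rec (fun _ => (Cert rels S Gen.a)) lc_a_rc_28_0 lc_a_rc_2_2 lc_a_rc_3_2 lc_a_rc_3_2 lc_a_rc_2_2 lc_a_rc_4_2 lc_a_rc_29_0 lc_a_Cert_tree lc_a_rc_29_0 lc_a_rc_0_0 lc_a_rc_28_0 lc_a_rc_2_2 lc_a_rc_3_2 lc_a_rc_4_2 lc_a_rc_4_2 lc_a_rc_5_2 lc_a_rc_28_0 lc_a_rc_0_0 lc_a_rc_4_2 lc_a_rc_4_2 lc_a_rc_3_0 lc_a_rc_1_4 lc_a_rc_28_0 lc_a_rc_0_0 lc_a_rc_1_2 lc_a_Cert_tree lc_a_rc_28_0 lc_a_rc_29_0 lc_a_rc_29_0 lc_a_Cert_tree lc_a_rc_0_0 lc_a_rc_28_0 lc_a_rc_2_2 lc_a_rc_29_0 lc_a_Cert_tree lc_a_rc_28_0 lc_a_rc_2_2 lc_a_rc_0_1 lc_a_Cert_tree lc_a_rc_0_0) (@D3.rec (fun _ => (Cert rels S Gen.a)) lc_a_rc_3_0 lc_a_rc_2_2 lc_a_rc_0_0 lc_a_rc_28_0 lc_a_rc_3_0 lc_a_rc_2_2 lc_a_Cert_tree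 lc_a_rc_3_2 lc_a_Cert_tree lc_a_rc_29_0 lc_a_rc_29_0 lc_a_rc_29_0 lc_a_rc_0_0 lc_a_rc_3_2 lc_a_rc_5_2 lc_a_rc_5_0 lc_a_rc_29_0 lc_a_rc_28_0 lc_a_rc_28_0 lc_a_Cert_tree lc_a_Cert_tree lc_a_rc_0_0 lc_a_rc_5_2 lc_a_rc_5_0 lc_a_rc_29_0 lc_a_rc_29_0 lc_a_rc_29_0 lc_a_Cert_tree lc_a_rc_29_0 lc_a_Cert_tree lc_a_rc_0_0 lc_a_rc_28_0 lc_a_Cert_tree lc_a_rc_2_2 lc_a_Cert_tree lc_a_rc_0_0 lc_a_rc_2_2 lc_a_rc_0_0 lc_a_rc_2_2 lc_a_rc_2_2) (@D3.rec (fun _ => (Cert rels S Gen.a)) lc_a_rc_2_2 lc_a_rc_3_2 lc_a_rc_5_2 lc_a_rc_6_2 lc_a_rc_5_2 lc_a_rc_6_2 lc_a_Cert_tree lc_a_rc_29_0 lc_a_Cert_tree lc_a_rc_29_0 lc_a_rc_29_0 lc_a_rc_28_0 lc_a_rc_28_0 lc_a_rc_29_0 lc_a_rc_29_0 lc_a_Cert_tree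 lc_a_rc_29_0 lc_a_Cert_tree lc_a_rc_0_0 lc_a_rc_0_0 lc_a_rc_2_2 lc_a_rc_6_2 lc_a_Cert_tree lc_a_rc_0_0 lc_a_rc_2_2 lc_a_rc_5_2 lc_a_Cert_tree lc_a_rc_0_1 lc_a_rc_0_0 lc_a_rc_2_2 lc_a_rc_3_2 lc_a_rc_0_0 lc_a_rc_2_2 lc_a_rc_2_2 lc_a_rc_0_1 lc_a_rc_5_2 lc_a_rc_5_0 lc_a_rc_4_2 lc_a_rc_3_2 lc_a_Cert_tree) (@D3.rec (fun _ => (Cert rels S Gen.a)) lc_a_rc_3_2 lc_a_rc_5_2 lc_a_rc_6_2 lc_a_rc_2_2 lc_a_rc_5_2 lc_a_rc_6_2 lc_a_Cert_tree lc_a_rc_29_0 lc_a_Cert_tree lc_a_rc_29_0 lc_a_Cert_tree lc_a_Cert_tree lc_a_rc_0_0 lc_a_rc_2_2 lc_a_rc_6_2 lc_a_rc_0_0 lc_a_rc_2_2 lc_a_rc_5_2 lc_a_rc_2_2 lc_a_rc_6_2 lc_a_rc_3_2 lc_a_rc_6_2 lc_a_rc_2_2 lc_a_rc_5_2 lc_a_rc_3_2 lc_a_rc_5_2 lc_a_rc_28_0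 lc_a_rc_2_2 lc_a_rc_0_0 lc_a_rc_1_4 lc_a_rc_5_2 lc_a_rc_5_0 lc_a_Cert_tree lc_a_Cert_tree lc_a_rc_0_0 lc_a_rc_2_2 lc_a_rc_29_0 lc_a_Cert_tree lc_a_rc_0_0 lc_a_rc_2_2) (@D3.rec (fun _ => (Cert rels S Gen.a)) lc_a_rc_0_1 lc_a_Cert_tree lc_a_Cert_tree lc_a_rc_2_2 lc_a_rc_6_2 lc_a_rc_3_2 lc_a_rc_6_2 lc_a_rc_0_0 lc_a_Cert_tree lc_a_rc_2_2 lc_a_rc_5_2 lc_a_rc_3_2 lc_a_rc_5_2 lc_a_rc_29_0 lc_a_Cert_tree lc_a_rc_3_2 lc_a_rc_6_2 lc_a_rc_28_0 lc_a_rc_4_2 lc_a_rc_6_2 lc_a_Cert_tree lc_a_Cert_tree lc_a_rc_3_2 lc_a_rc_5_2 lc_a_rc_28_0 lc_a_rc_4_2 lc_a_rc_5_2 lc_a_Cert_tree lc_a_rc_3_2 lc_a_rc_2_2 lc_a_rc_4_2 lc_a_rc_6_2 lc_a_Cert_tree lc_a_rc_28_0 lc_a_rc_2_2 lc_a_rc_2_2 lc_a_rc_28_0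 lc_a_Cert_tree lc_a_rc_0_0 lc_a_rc_28_0) (@D3.rec (fun _ => (Cert rels S Gen.a)) lc_a_rc_2_2 lc_a_rc_4_2 lc_a_rc_5_2 lc_a_Cert_tree lc_a_rc_28_0 lc_a_rc_2_2 lc_a_rc_2_2 lc_a_rc_28_0 lc_a_Cert_tree lc_a_rc_0_0 lc_a_rc_29_0 lc_a_rc_1_6 lc_a_Cert_tree lc_a_rc_2_2 lc_a_rc_0_0 lc_a_rc_4_2 lc_a_rc_5_2 lc_a_rc_5_0 lc_a_rc_3_2 lc_a_rc_2_2 lc_a_Cert_tree lc_a_rc_0_0 lc_a_Cert_tree lc_a_rc_0_0 lc_a_rc_0_0 lc_a_rc_2_2 lc_a_rc_3_2 lc_a_rc_28_0 lc_a_rc_29_0 lc_a_Cert_tree lc_a_rc_2_2 lc_a_rc_0_0 lc_a_rc_4_2 lc_a_rc_5_2 lc_a_rc_5_0 lc_a_rc_3_2 lc_a_rc_2_2 lc_a_Cert_tree lc_a_rc_2_2 lc_a_Cert_tree) (@D3.rec (fun _ => (Cert rels S Gen.a)) lc_a_rc_29_0 lc_a_rc_0_0 lc_a_rc_2_2 lc_a_rc_29_0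 lc_a_rc_28_0 lc_a_rc_0_1 lc_a_rc_0_0 lc_a_rc_0_0 lc_a_rc_4_2 lc_a_rc_2_2 lc_a_rc_6_2 lc_a_rc_28_0 lc_a_Cert_tree lc_a_rc_28_0 lc_a_rc_28_0 lc_a_rc_28_0 lc_a_rc_28_0 lc_a_Cert_tree lc_a_rc_0_0 lc_a_rc_2_2 lc_a_rc_28_0 lc_a_rc_5_2 lc_a_rc_5_0 lc_a_rc_2_2 lc_a_rc_5_2 lc_a_rc_6_2 lc_a_Cert_tree lc_a_Cert_tree lc_a_rc_3_2 lc_a_rc_2_2 lc_a_rc_2_2 lc_a_Cert_tree lc_a_rc_29_0 lc_a_Cert_tree lc_a_rc_0_0 lc_a_rc_0_0 lc_a_rc_2_2 lc_a_rc_29_0 lc_a_Cert_tree lc_a_rc_0_0) (@D3.rec (fun _ => (Cert rels S Gen.a)) lc_a_rc_2_2 lc_a_rc_0_1 lc_a_Cert_tree lc_a_rc_0_0 lc_a_rc_2_2 lc_a_rc_6_2 lc_a_Cert_tree lc_a_rc_0_0 lc_a_rc_2_2 lc_a_rc_5_2 lc_a_Cert_tree lc_a_Cert_tree lc_a_rc_2_2 lc_a_rc_6_2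 lc_a_rc_3_2 lc_a_rc_6_2 lc_a_Cert_tree lc_a_rc_0_0 lc_a_rc_0_0 lc_a_rc_2_2 lc_a_rc_5_2 lc_a_Cert_tree lc_a_rc_2_2 lc_a_rc_5_2 lc_a_rc_3_2 lc_a_rc_5_2 lc_a_Cert_tree lc_a_rc_29_0 lc_a_rc_0_0 lc_a_rc_2_2 lc_a_rc_6_2 lc_a_rc_28_0 lc_a_rc_3_2 lc_a_Cert_tree lc_a_Cert_tree lc_a_rc_2_2 lc_a_rc_3_2 lc_a_rc_2_2 lc_a_rc_4_2 lc_a_Cert_tree) (@D3.rec (fun _ => (Cert rels S Gen.a)) lc_a_Cert_tree lc_a_rc_2_2 lc_a_rc_3_2 lc_a_rc_0_0 lc_a_rc_2_2 lc_a_rc_0_0 lc_a_rc_2_2 lc_a_rc_2_2 lc_a_rc_2_2 lc_a_rc_2_2 lc_a_rc_5_2 lc_a_rc_6_2 lc_a_rc_3_2 lc_a_rc_5_2 lc_a_rc_6_2 lc_a_Cert_tree lc_a_rc_29_0 lc_a_Cert_tree lc_a_rc_29_0 lc_a_rc_0_0 lc_a_rc_2_2 lc_a_rc_6_2 lc_a_rc_0_0 lc_a_rc_2_2 lc_a_rc_5_2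 lc_a_Cert_tree lc_a_rc_2_2 lc_a_rc_3_2 lc_a_rc_29_0 lc_a_Cert_tree lc_a_rc_0_0 lc_a_rc_2_2 lc_a_rc_5_2 lc_a_Cert_tree lc_a_rc_2_2 lc_a_rc_3_2 lc_a_rc_0_1 lc_a_Cert_tree lc_a_rc_0_0 lc_a_rc_2_2) (@D3.rec (fun _ => (Cert rels S Gen.a)) lc_a_rc_6_2 lc_a_rc_0_0 lc_a_rc_28_0 lc_a_rc_5_2 lc_a_rc_5_0 lc_a_Cert_tree lc_a_rc_3_2 lc_a_rc_6_2 lc_a_Cert_tree lc_a_rc_2_2 lc_a_rc_4_2 lc_a_rc_6_2 lc_a_Cert_tree lc_a_rc_0_0 lc_a_rc_0_0 lc_a_rc_2_2 lc_a_rc_0_1 lc_a_Cert_tree lc_a_Cert_tree lc_a_rc_2_2 lc_a_rc_5_2 lc_a_rc_3_2 lc_a_rc_5_2 lc_a_rc_29_0 lc_a_rc_0_0 lc_a_rc_28_0 lc_a_rc_5_2 lc_a_rc_5_0 lc_a_Cert_tree lc_a_rc_3_2 lc_a_rc_5_2 lc_a_Cert_tree lc_a_rc_2_2 lc_a_rc_4_2 lc_a_rc_5_2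 lc_a_Cert_tree lc_a_rc_29_0 lc_a_rc_0_0 lc_a_rc_2_2 lc_a_rc_29_0) (@D3.rec (fun _ => (Cert rels S Gen.a)) lc_a_Cert_tree lc_a_Cert_tree lc_a_rc_2_2 lc_a_rc_6_2 lc_a_rc_3_2 lc_a_rc_6_2 lc_a_rc_0_0 lc_a_rc_4_2 lc_a_Cert_tree lc_a_rc_0_0 lc_a_rc_2_2 lc_a_rc_5_2 lc_a_rc_29_0 lc_a_rc_0_0 lc_a_rc_2_2 lc_a_Cert_tree lc_a_rc_3_2 lc_a_rc_28_0 lc_a_rc_4_2 lc_a_rc_5_2 lc_a_Cert_tree lc_a_rc_0_0 lc_a_rc_2_2 lc_a_rc_6_2 lc_a_rc_3_2 lc_a_rc_0_0 lc_a_rc_2_2 lc_a_Cert_tree lc_a_rc_3_2 lc_a_rc_28_0 lc_a_rc_4_2 lc_a_rc_2_2 lc_a_rc_29_0 lc_a_rc_2_2 lc_a_rc_1_4 lc_a_rc_3_2 lc_a_rc_0_0 lc_a_rc_3_2 lc_a_rc_4_2 lc_a_rc_2_2) (@D3.rec (fun _ => (Cert rels S Gen.a)) lc_a_rc_4_2 lc_a_Cert_tree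 lc_a_rc_28_0 lc_a_rc_2_2 lc_a_rc_5_2 lc_a_rc_4_2 lc_a_rc_2_2 lc_a_rc_28_0 lc_a_rc_3_2 lc_a_rc_0_0 lc_a_rc_3_2 lc_a_rc_3_0 lc_a_rc_2_2 lc_a_rc_4_2 lc_a_Cert_tree lc_a_rc_28_0 lc_a_rc_2_2 lc_a_rc_28_0 lc_a_rc_28_0 lc_a_Cert_tree lc_a_rc_2_2 lc_a_rc_2_0 lc_a_rc_0_0 lc_a_rc_5_2 lc_a_rc_6_2 lc_a_Cert_tree lc_a_rc_0_0 lc_a_rc_2_2 lc_a_rc_3_2 lc_a_rc_1_6 lc_a_rc_30_16 lc_a_rc_2_2 lc_a_rc_28_0 lc_a_rc_0_0 lc_a_rc_5_2 lc_a_rc_29_0 lc_a_Cert_tree lc_a_rc_0_0 lc_a_rc_2_2 lc_a_rc_0_0) (@D3.rec (fun _ => (Cert rels S Gen.a)) lc_a_rc_0_1 lc_a_Cert_tree lc_a_rc_0_0 lc_a_rc_3_2 lc_a_rc_5_2 lc_a_rc_5_0 lc_a_rc_0_0 lc_a_rc_3_2 lc_a_rc_5_2 lc_a_rc_5_0 lc_a_rc_29_0 lc_a_rc_29_0 lc_a_Cert_tree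 lc_a_Cert_tree lc_a_Cert_tree lc_a_rc_5_2 lc_a_rc_6_2 lc_a_Cert_tree lc_a_rc_29_0 lc_a_Cert_tree lc_a_rc_29_0 lc_a_rc_0_0 lc_a_rc_6_2 lc_a_rc_0_0 lc_a_rc_5_2 lc_a_rc_28_0 lc_a_rc_29_0 lc_a_rc_29_0 lc_a_rc_4_2 lc_a_rc_4_2 lc_a_rc_0_0 lc_a_rc_5_2 lc_a_rc_5_0 lc_a_Cert_tree lc_a_Cert_tree lc_a_rc_2_2 lc_a_rc_2_2 lc_a_rc_0_0 lc_a_rc_3_2 lc_a_rc_5_2) (@D3.rec (fun _ => (Cert rels S Gen.a)) lc_a_rc_5_0 lc_a_rc_28_0 lc_a_rc_28_0 lc_a_Cert_tree lc_a_rc_29_0 lc_a_Cert_tree lc_a_rc_0_0 lc_a_rc_28_0 lc_a_rc_29_0 lc_a_rc_29_0 lc_a_rc_28_0 lc_a_rc_0_1 lc_a_rc_0_0 lc_a_rc_28_0 lc_a_rc_3_2 lc_a_rc_5_2 lc_a_rc_6_2 lc_a_rc_2_2 lc_a_rc_4_2 lc_a_rc_5_2 lc_a_rc_6_2 lc_a_Cert_tree lc_a_rc_29_0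 lc_a_Cert_tree lc_a_rc_29_0 lc_a_rc_28_0 lc_a_rc_28_0 lc_a_Cert_tree lc_a_rc_29_0 lc_a_Cert_tree lc_a_rc_0_0 lc_a_rc_0_0 lc_a_rc_2_2 lc_a_rc_6_2 lc_a_Cert_tree lc_a_rc_0_0 lc_a_rc_2_2 lc_a_rc_5_2 lc_a_Cert_tree lc_a_rc_2_2) (@D3.rec (fun _ => (Cert rels S Gen.a)) lc_a_rc_3_2 lc_a_rc_29_0 lc_a_rc_2_2 lc_a_rc_2_2 lc_a_rc_3_2 lc_a_rc_28_0 lc_a_rc_29_0 lc_a_rc_1_6 lc_a_rc_3_2 lc_a_rc_2_2 lc_a_rc_4_2 lc_a_rc_29_0 lc_a_rc_29_0 lc_a_rc_1_6 lc_a_rc_3_2 lc_a_rc_2_2 lc_a_rc_4_2 lc_a_rc_0_1 lc_a_rc_29_0 lc_a_rc_1_6 lc_a_rc_4_2 lc_a_rc_3_0 lc_a_rc_1_6 lc_a_rc_4_2 lc_a_rc_4_2 lc_a_Cert_tree lc_a_rc_3_2 lc_a_rc_5_2 lc_a_rc_6_2 lc_a_rc_28_0 lc_a_rc_5_2 lc_a_rc_6_2 lc_a_Cert_tree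 lc_a_rc_29_0 lc_a_Cert_tree lc_a_rc_29_0 lc_a_Cert_tree lc_a_rc_29_0 lc_a_Cert_tree lc_a_rc_0_0) (@D3.rec (fun _ => (Cert rels S Gen.a)) lc_a_rc_0_0 lc_a_rc_2_2 lc_a_rc_6_2 lc_a_Cert_tree lc_a_rc_0_0 lc_a_rc_2_2 lc_a_rc_5_2 lc_a_Cert_tree lc_a_rc_4_2 lc_a_rc_2_2 lc_a_rc_3_2 lc_a_rc_29_0 lc_a_Cert_tree lc_a_rc_0_0 lc_a_rc_0_0 lc_a_rc_2_2 lc_a_rc_1_6 lc_a_rc_2_2 lc_a_rc_3_2 lc_a_rc_2_2 lc_a_Cert_tree lc_a_rc_29_0 lc_a_rc_0_0 lc_a_rc_2_2 lc_a_rc_28_0 lc_a_rc_0_0 lc_a_rc_2_2 lc_a_rc_2_2 lc_a_rc_3_2 lc_a_rc_28_0 lc_a_rc_0_0 lc_a_rc_2_2 lc_a_rc_2_2 lc_a_rc_3_2 lc_a_rc_2_2 lc_a_rc_2_2 lc_a_rc_0_0 lc_a_rc_5_2 lc_a_rc_5_0 lc_a_Cert_tree) (@D3.rec (fun _ => (Cert rels S Gen.a))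 lc_a_Cert_tree lc_a_rc_0_0 lc_a_rc_2_2 lc_a_rc_29_0 lc_a_Cert_tree lc_a_rc_0_0 lc_a_rc_2_2 lc_a_rc_0_1 lc_a_Cert_tree lc_a_Cert_tree lc_a_rc_2_2 lc_a_rc_6_2 lc_a_rc_3_2 lc_a_rc_6_2 lc_a_Cert_tree lc_a_rc_0_0 lc_a_rc_0_0 lc_a_rc_2_2 lc_a_rc_5_2 lc_a_Cert_tree lc_a_rc_2_2 lc_a_rc_5_2 lc_a_rc_3_2 lc_a_rc_5_2 lc_a_Cert_tree lc_a_rc_29_0 lc_a_rc_0_0 lc_a_rc_2_2 lc_a_rc_6_2 lc_a_rc_2_2 lc_a_Cert_tree lc_a_rc_3_2 lc_a_rc_28_0 lc_a_rc_4_2 lc_a_rc_29_0 lc_a_Cert_tree lc_a_rc_0_0 lc_a_rc_0_0 lc_a_rc_2_2 lc_a_rc_2_2) (@D3.rec (fun _ => (Cert rels S Gen.a)) lc_a_rc_3_2 lc_a_rc_2_2 lc_a_Cert_tree lc_a_rc_3_2 lc_a_rc_28_0 lc_a_rc_4_2 lc_a_rc_0_1 lc_a_Cert_tree lc_a_rc_28_0 lc_a_rc_0_0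 lc_a_rc_2_2 lc_a_rc_2_2 lc_a_rc_3_2 lc_a_rc_2_2 lc_a_rc_4_2 lc_a_Cert_tree lc_a_rc_28_0 lc_a_rc_2_2 lc_a_rc_29_0 lc_a_rc_4_2 lc_a_Cert_tree lc_a_rc_0_0 lc_a_rc_0_0 lc_a_rc_0_0 lc_a_rc_1_4 lc_a_rc_28_0 lc_a_rc_3_2 lc_a_rc_2_2 lc_a_rc_3_2 lc_a_rc_2_2 lc_a_rc_4_2 lc_a_Cert_tree lc_a_rc_28_0 lc_a_rc_2_2 lc_a_rc_0_1 lc_a_rc_29_0 lc_a_Cert_tree lc_a_rc_29_0 lc_a_rc_0_0 lc_a_rc_29_0)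
def ce_a_2 : D2 → D3 → (Cert rels S Gen.a) := @D2.rec (fun _ => D3 → (Cert rels S Gen.a)) (@D3.rec (fun _ => (Cert rels S Gen.a)) lc_a_Cert_tree lc_a_rc_28_0 lc_a_rc_3_2 lc_a_rc_2_2 lc_a_rc_1_2 lc_a_rc_0_0 lc_a_rc_4_2 lc_a_rc_5_2 lc_a_rc_5_0 lc_a_rc_28_0 lc_a_rc_29_0 lc_a_Cert_tree lc_a_rc_28_0 lc_a_rc_0_0 lc_a_rc_2_2 lc_a_rc_6_0 lc_a_Cert_tree lc_a_rc_2_2 lc_a_rc_0_0 lc_a_rc_4_2 lc_a_rc_5_2 lc_a_rc_5_0 lc_a_rc_28_0 lc_a_rc_2_2 lc_a_Cert_tree lc_a_rc_29_0 lc_a_rc_0_0 lc_a_rc_2_2 lc_a_rc_29_0 lc_a_Cert_tree lc_a_rc_2_2 lc_a_Cert_tree lc_a_rc_0_0 lc_a_rc_3_2 lc_a_rc_5_2 lc_a_rc_5_0 lc_a_rc_0_0 lc_a_rc_1_4 lc_a_rc_5_2 lc_a_rc_5_0) (@D3.rec (fun _ => (Cert rels S Gen.a))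 lc_a_rc_29_0 lc_a_rc_29_0 lc_a_rc_29_0 lc_a_Cert_tree lc_a_Cert_tree lc_a_rc_1_6 lc_a_rc_3_2 lc_a_rc_5_2 lc_a_rc_6_2 lc_a_rc_2_2 lc_a_rc_1_4 lc_a_rc_5_2 lc_a_rc_6_2 lc_a_Cert_tree lc_a_rc_29_0 lc_a_Cert_tree lc_a_rc_29_0 lc_a_rc_29_0 lc_a_rc_29_0 lc_a_Cert_tree lc_a_Cert_tree lc_a_rc_0_0 lc_a_rc_6_2 lc_a_rc_0_0 lc_a_rc_5_2 lc_a_rc_5_2 lc_a_rc_6_2 lc_a_Cert_tree lc_a_rc_29_0 lc_a_Cert_tree lc_a_rc_29_0 lc_a_rc_29_0 lc_a_rc_29_0 lc_a_Cert_tree lc_a_rc_29_0 lc_a_Cert_tree lc_a_rc_0_0 lc_a_rc_0_0 lc_a_rc_2_2 lc_a_rc_6_2) (@D3.rec (fun _ => (Cert rels S Gen.a)) lc_a_Cert_tree lc_a_rc_0_0 lc_a_rc_2_2 lc_a_rc_5_2 lc_a_Cert_tree lc_a_rc_28_0 lc_a_rc_0_0 lc_a_rc_2_2 lc_a_rc_3_2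 lc_a_rc_0_0 lc_a_rc_2_2 lc_a_rc_2_2 lc_a_rc_3_2 lc_a_rc_2_2 lc_a_rc_3_2 lc_a_rc_5_2 lc_a_rc_6_2 lc_a_Cert_tree lc_a_Cert_tree lc_a_Cert_tree lc_a_rc_29_0 lc_a_Cert_tree lc_a_rc_0_0 lc_a_rc_0_0 lc_a_rc_2_2 lc_a_rc_29_0 lc_a_Cert_tree lc_a_rc_0_0 lc_a_rc_2_2 lc_a_rc_0_1 lc_a_Cert_tree lc_a_rc_29_0 lc_a_rc_29_0 lc_a_Cert_tree lc_a_Cert_tree lc_a_Cert_tree lc_a_rc_29_0 lc_a_Cert_tree lc_a_rc_0_0 lc_a_rc_0_0) (@D3.rec (fun _ => (Cert rels S Gen.a)) lc_a_rc_2_2 lc_a_rc_6_2 lc_a_Cert_tree lc_a_rc_0_0 lc_a_rc_2_2 lc_a_rc_5_2 lc_a_Cert_tree lc_a_Cert_tree lc_a_rc_2_2 lc_a_rc_6_2 lc_a_rc_3_2 lc_a_rc_6_2 lc_a_Cert_tree lc_a_rc_0_0 lc_a_rc_0_0 lc_a_rc_2_2 lc_a_rc_5_2 lc_a_Cert_tree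 lc_a_rc_2_2 lc_a_rc_5_2 lc_a_rc_3_2 lc_a_rc_5_2 lc_a_Cert_tree lc_a_rc_29_0 lc_a_rc_0_0 lc_a_rc_2_2 lc_a_rc_6_2 lc_a_rc_0_1 lc_a_rc_0_1 lc_a_rc_2_2 lc_a_rc_3_2 lc_a_rc_0_1 lc_a_rc_4_2 lc_a_rc_2_2 lc_a_rc_3_2 lc_a_Cert_tree lc_a_rc_28_0 lc_a_rc_2_2 lc_a_rc_28_0 lc_a_Cert_tree) (@D3.rec (fun _ => (Cert rels S Gen.a)) lc_a_rc_28_0 lc_a_rc_5_0 lc_a_rc_2_2 lc_a_rc_0_0 lc_a_rc_1_6 lc_a_rc_5_2 lc_a_rc_5_0 lc_a_rc_2_2 lc_a_rc_5_2 lc_a_rc_6_2 lc_a_Cert_tree lc_a_Cert_tree lc_a_rc_2_2 lc_a_rc_2_2 lc_a_Cert_tree lc_a_rc_29_0 lc_a_Cert_tree lc_a_rc_0_0 lc_a_rc_0_0 lc_a_rc_2_2 lc_a_rc_29_0 lc_a_Cert_tree lc_a_rc_0_0 lc_a_rc_2_2 lc_a_rc_0_1 lc_a_Cert_tree lc_a_rc_0_0 lc_a_rc_2_2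 lc_a_rc_6_2 lc_a_rc_0_0 lc_a_rc_2_2 lc_a_rc_5_2 lc_a_Cert_tree lc_a_rc_2_2 lc_a_rc_6_2 lc_a_rc_3_2 lc_a_rc_6_2 lc_a_rc_0_0 lc_a_Cert_tree lc_a_rc_2_2) (@D3.rec (fun _ => (Cert rels S Gen.a)) lc_a_rc_5_2 lc_a_rc_3_2 lc_a_rc_5_2 lc_a_rc_29_0 lc_a_Cert_tree lc_a_rc_3_2 lc_a_rc_6_2 lc_a_rc_4_2 lc_a_rc_28_0 lc_a_Cert_tree lc_a_Cert_tree lc_a_rc_3_2 lc_a_rc_5_2 lc_a_rc_4_2 lc_a_rc_28_0 lc_a_Cert_tree lc_a_Cert_tree lc_a_rc_28_0 lc_a_Cert_tree lc_a_rc_3_2 lc_a_rc_5_2 lc_a_rc_6_2 lc_a_rc_5_2 lc_a_rc_6_2 lc_a_rc_28_0 lc_a_rc_29_0 lc_a_rc_29_0 lc_a_rc_29_0 lc_a_rc_0_0 lc_a_rc_5_0 lc_a_rc_6_2 lc_a_rc_0_0 lc_a_rc_29_0 lc_a_rc_5_2 lc_a_Cert_tree lc_a_rc_2_2 lc_a_rc_3_2 lc_a_rc_29_0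 lc_a_Cert_tree lc_a_rc_0_0) (@D3.rec (fun _ => (Cert rels S Gen.a)) lc_a_rc_2_2 lc_a_rc_5_2 lc_a_Cert_tree lc_a_rc_2_2 lc_a_rc_3_2 lc_a_rc_0_1 lc_a_Cert_tree lc_a_rc_0_0 lc_a_rc_2_2 lc_a_rc_6_2 lc_a_rc_0_0 lc_a_rc_5_2 lc_a_rc_5_0 lc_a_rc_4_0 lc_a_rc_3_2 lc_a_rc_6_2 lc_a_Cert_tree lc_a_rc_28_0 lc_a_rc_4_2 lc_a_rc_6_2 lc_a_Cert_tree lc_a_rc_0_0 lc_a_Cert_tree lc_a_rc_0_0 lc_a_rc_5_2 lc_a_rc_5_0 lc_a_rc_4_0 lc_a_rc_3_2 lc_a_rc_5_2 lc_a_Cert_tree lc_a_rc_28_0 lc_a_rc_4_2 lc_a_rc_5_2 lc_a_Cert_tree lc_a_rc_29_0 lc_a_Cert_tree lc_a_rc_0_0 lc_a_rc_3_2 lc_a_rc_5_2 lc_a_rc_5_0) (@D3.rec (fun _ => (Cert rels S Gen.a)) lc_a_rc_4_2 lc_a_rc_6_2 lc_a_Cert_tree lc_a_Cert_tree lc_a_rc_4_2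 lc_a_rc_28_0 lc_a_rc_6_2 lc_a_Cert_tree lc_a_rc_0_0 lc_a_rc_5_2 lc_a_rc_0_0 lc_a_rc_3_2 lc_a_rc_5_2 lc_a_rc_5_0 lc_a_rc_4_2 lc_a_rc_5_2 lc_a_Cert_tree lc_a_Cert_tree lc_a_rc_4_2 lc_a_rc_28_0 lc_a_rc_5_2 lc_a_Cert_tree lc_a_rc_0_0 lc_a_rc_6_2 lc_a_rc_28_0 lc_a_rc_28_0 lc_a_rc_2_2 lc_a_rc_2_2 lc_a_rc_0_0 lc_a_rc_3_2 lc_a_rc_4_2 lc_a_rc_5_2 lc_a_rc_5_0 lc_a_rc_4_2 lc_a_rc_28_0 lc_a_rc_28_0 lc_a_rc_28_0 lc_a_Cert_tree lc_a_rc_28_0 lc_a_rc_0_0) (@D3.rec (fun _ => (Cert rels S Gen.a)) lc_a_rc_2_2 lc_a_rc_28_0 lc_a_rc_28_0 lc_a_rc_2_2 lc_a_rc_2_2 lc_a_rc_0_0 lc_a_rc_3_2 lc_a_rc_4_2 lc_a_rc_5_2 lc_a_rc_5_0 lc_a_rc_4_2 lc_a_rc_28_0 lc_a_rc_28_0 lc_a_rc_28_0 lc_a_Cert_tree lc_a_rc_1_6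 lc_a_rc_0_0 lc_a_rc_2_2 lc_a_rc_0_0 lc_a_rc_28_0 lc_a_rc_28_0 lc_a_rc_6_2 lc_a_rc_3_2 lc_a_Cert_tree lc_a_rc_4_2 lc_a_rc_5_2 lc_a_rc_6_2 lc_a_rc_30_8 lc_a_rc_0_0 lc_a_rc_6_2 lc_a_rc_29_0 lc_a_Cert_tree lc_a_rc_29_0 lc_a_rc_28_0 lc_a_rc_3_2 lc_a_Cert_tree lc_a_rc_0_0 lc_a_rc_0_0 lc_a_rc_2_2 lc_a_rc_5_2) (@D3.rec (fun _ => (Cert rels S Gen.a)) lc_a_Cert_tree lc_a_rc_0_0 lc_a_rc_2_2 lc_a_rc_28_0 lc_a_rc_2_2 lc_a_rc_3_2 lc_a_rc_28_0 lc_a_rc_28_0 lc_a_rc_0_0 lc_a_rc_1_8 lc_a_rc_5_2 lc_a_rc_1_2 lc_a_rc_3_2 lc_a_Cert_tree lc_a_rc_4_2 lc_a_rc_5_2 lc_a_rc_6_2 lc_a_rc_28_0 lc_a_rc_5_2 lc_a_rc_28_0 lc_a_Cert_tree lc_a_rc_29_0 lc_a_rc_29_0 lc_a_rc_28_0 lc_a_rc_3_2 lc_a_Cert_tree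 lc_a_rc_2_2 lc_a_rc_0_0 lc_a_rc_2_2 lc_a_rc_6_2 lc_a_Cert_tree lc_a_rc_0_0 lc_a_rc_2_2 lc_a_rc_29_0 lc_a_rc_2_2 lc_a_rc_3_2 lc_a_rc_29_0 lc_a_rc_28_0 lc_a_rc_4_2 lc_a_Cert_tree) (@D3.rec (fun _ => (Cert rels S Gen.a)) lc_a_rc_3_2 lc_a_rc_6_2 lc_a_Cert_tree lc_a_rc_0_0 lc_a_rc_5_2 lc_a_rc_5_0 lc_a_rc_28_0 lc_a_Cert_tree lc_a_rc_28_0 lc_a_rc_28_0 lc_a_Cert_tree lc_a_rc_0_0 lc_a_rc_5_2 lc_a_rc_5_0 lc_a_rc_2_2 lc_a_rc_5_2 lc_a_rc_6_2 lc_a_rc_3_2 lc_a_rc_5_2 lc_a_rc_6_2 lc_a_rc_28_0 lc_a_rc_28_0 lc_a_Cert_tree lc_a_rc_29_0 lc_a_Cert_tree lc_a_rc_29_0 lc_a_Cert_tree lc_a_rc_3_2 lc_a_rc_2_2 lc_a_rc_2_2 lc_a_Cert_tree lc_a_Cert_tree lc_a_rc_0_0 lc_a_rc_2_2 lc_a_rc_6_2 lc_a_rc_0_0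 lc_a_rc_2_2 lc_a_rc_5_2 lc_a_rc_3_2 lc_a_rc_3_2) (@D3.rec (fun _ => (Cert rels S Gen.a)) lc_a_rc_30_16 lc_a_rc_29_0 lc_a_rc_1_8 lc_a_rc_0_0 lc_a_rc_0_0 lc_a_rc_2_2 lc_a_rc_29_0 lc_a_Cert_tree lc_a_rc_0_0 lc_a_rc_2_2 lc_a_rc_0_1 lc_a_Cert_tree lc_a_rc_29_0 lc_a_rc_2_2 lc_a_rc_3_2 lc_a_rc_29_0 lc_a_Cert_tree lc_a_rc_0_0 lc_a_rc_2_2 lc_a_rc_5_2 lc_a_rc_29_0 lc_a_rc_2_2 lc_a_rc_3_2 lc_a_rc_0_1 lc_a_Cert_tree lc_a_rc_0_0 lc_a_rc_2_2 lc_a_rc_6_2 lc_a_rc_28_0 lc_a_rc_2_2 lc_a_rc_6_2 lc_a_rc_3_2 lc_a_rc_6_2 lc_a_Cert_tree lc_a_rc_0_0 lc_a_rc_0_0 lc_a_rc_2_2 lc_a_rc_5_2 lc_a_rc_28_0 lc_a_rc_2_2) (@D3.rec (fun _ => (Cert rels S Gen.a)) lc_a_rc_5_2 lc_a_rc_3_2 lc_a_rc_5_2 lc_a_Cert_tree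 lc_a_rc_29_0 lc_a_rc_0_0 lc_a_rc_2_2 lc_a_rc_6_2 lc_a_rc_0_0 lc_a_rc_2_2 lc_a_rc_5_2 lc_a_rc_5_0 lc_a_Cert_tree lc_a_rc_3_2 lc_a_rc_6_2 lc_a_Cert_tree lc_a_rc_2_2 lc_a_rc_4_2 lc_a_rc_6_2 lc_a_Cert_tree lc_a_rc_0_0 lc_a_rc_0_0 lc_a_rc_2_2 lc_a_rc_0_1 lc_a_Cert_tree lc_a_Cert_tree lc_a_rc_2_2 lc_a_rc_5_2 lc_a_rc_3_2 lc_a_rc_5_2 lc_a_rc_29_0 lc_a_rc_0_0 lc_a_rc_2_2 lc_a_rc_5_2 lc_a_rc_5_0 lc_a_Cert_tree lc_a_rc_3_2 lc_a_rc_5_2 lc_a_Cert_tree lc_a_rc_2_2) (@D3.rec (fun _ => (Cert rels S Gen.a)) lc_a_rc_4_2 lc_a_rc_5_2 lc_a_Cert_tree lc_a_rc_29_0 lc_a_rc_0_0 lc_a_rc_2_2 lc_a_rc_29_0 lc_a_Cert_tree lc_a_Cert_tree lc_a_rc_2_2 lc_a_rc_6_2 lc_a_rc_3_2 lc_a_rc_6_2 lc_a_rc_0_0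 lc_a_Cert_tree lc_a_rc_2_2 lc_a_rc_0_0 lc_a_rc_5_2 lc_a_rc_0_0 lc_a_rc_2_2 lc_a_Cert_tree lc_a_rc_3_2 lc_a_rc_28_0 lc_a_rc_4_2 lc_a_Cert_tree lc_a_rc_2_2 lc_a_rc_0_0 lc_a_rc_6_2 lc_a_rc_0_0 lc_a_rc_2_2 lc_a_Cert_tree lc_a_rc_3_2 lc_a_rc_28_0 lc_a_rc_4_2 lc_a_rc_2_2 lc_a_rc_3_2 lc_a_rc_2_2 lc_a_rc_3_2 lc_a_rc_30_16 lc_a_rc_30_12) (@D3.rec (fun _ => (Cert rels S Gen.a)) lc_a_rc_3_2 lc_a_rc_5_2 lc_a_rc_6_2 lc_a_Cert_tree lc_a_Cert_tree lc_a_rc_2_2 lc_a_rc_4_2 lc_a_rc_5_2 lc_a_rc_6_2 lc_a_rc_29_0 lc_a_rc_29_0 lc_a_rc_29_0 lc_a_rc_0_0 lc_a_rc_0_0 lc_a_rc_2_2 lc_a_rc_29_0 lc_a_Cert_tree lc_a_rc_0_0 lc_a_rc_2_2 lc_a_rc_0_1 lc_a_Cert_tree lc_a_Cert_tree lc_a_rc_2_2 lc_a_rc_6_2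 lc_a_rc_3_2 lc_a_rc_6_2 lc_a_rc_0_0 lc_a_Cert_tree lc_a_rc_2_2 lc_a_rc_5_2 lc_a_rc_3_2 lc_a_rc_5_2 lc_a_rc_29_0 lc_a_rc_0_0 lc_a_rc_29_0 lc_a_rc_6_0 lc_a_rc_5_0 lc_a_Cert_tree lc_a_rc_3_2 lc_a_rc_2_2) (@D3.rec (fun _ => (Cert rels S Gen.a)) lc_a_rc_4_2 lc_a_rc_29_0 lc_a_rc_29_0 lc_a_rc_0_0 lc_a_rc_2_2 lc_a_rc_0_1 lc_a_Cert_tree lc_a_rc_2_2 lc_a_rc_5_2 lc_a_rc_3_2 lc_a_rc_5_2 lc_a_rc_29_0 lc_a_rc_0_0 lc_a_rc_29_0 lc_a_rc_5_2 lc_a_rc_29_0 lc_a_Cert_tree lc_a_rc_3_2 lc_a_rc_2_2 lc_a_rc_4_2 lc_a_rc_0_1 lc_a_rc_30_16 lc_a_rc_0_0 lc_a_rc_2_2 lc_a_rc_29_0 lc_a_Cert_tree lc_a_rc_2_2 lc_a_rc_6_2 lc_a_rc_3_2 lc_a_rc_6_2 lc_a_rc_0_0 lc_a_rc_5_2 lc_a_rc_6_2 lc_a_rc_0_1 lc_a_rc_28_0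 lc_a_rc_5_2 lc_a_rc_6_2 lc_a_rc_29_0 lc_a_Cert_tree lc_a_rc_29_0) (@D3.rec (fun _ => (Cert rels S Gen.a)) lc_a_rc_0_0 lc_a_rc_3_2 lc_a_rc_5_2 lc_a_rc_5_0 lc_a_rc_2_2 lc_a_rc_4_2 lc_a_rc_6_2 lc_a_Cert_tree lc_a_rc_0_0 lc_a_rc_2_2 lc_a_rc_5_2 lc_a_rc_28_0 lc_a_rc_2_2 lc_a_rc_2_2 lc_a_rc_6_2 lc_a_Cert_tree lc_a_rc_0_0 lc_a_rc_0_0 lc_a_rc_2_2 lc_a_rc_0_1 lc_a_Cert_tree lc_a_Cert_tree lc_a_rc_2_2 lc_a_rc_3_2 lc_a_rc_0_1 lc_a_Cert_tree lc_a_rc_0_0 lc_a_rc_2_2 lc_a_rc_6_2 lc_a_rc_0_0 lc_a_rc_2_2 lc_a_rc_5_2 lc_a_rc_6_2 lc_a_Cert_tree lc_a_rc_3_2 lc_a_rc_5_2 lc_a_rc_0_1 lc_a_rc_2_2 lc_a_rc_4_2 lc_a_rc_5_2) (@D3.rec (fun _ => (Cert rels S Gen.a)) lc_a_rc_29_0 lc_a_Cert_tree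 lc_a_rc_5_2 lc_a_rc_6_2 lc_a_rc_0_1 lc_a_rc_28_0 lc_a_rc_5_2 lc_a_rc_6_2 lc_a_Cert_tree lc_a_rc_29_0 lc_a_rc_29_0 lc_a_rc_0_0 lc_a_rc_3_2 lc_a_rc_5_2 lc_a_rc_5_0 lc_a_rc_2_2 lc_a_rc_4_2 lc_a_rc_5_2 lc_a_Cert_tree lc_a_rc_0_0 lc_a_rc_2_2 lc_a_rc_29_0 lc_a_rc_28_0 lc_a_rc_2_2 lc_a_rc_2_2 lc_a_rc_5_2 lc_a_Cert_tree lc_a_rc_29_0 lc_a_rc_0_0 lc_a_rc_2_2 lc_a_rc_29_0 lc_a_Cert_tree lc_a_Cert_tree lc_a_rc_2_2 lc_a_rc_3_2 lc_a_rc_29_0 lc_a_Cert_tree lc_a_rc_0_0 lc_a_rc_2_2 lc_a_rc_5_2) (@D3.rec (fun _ => (Cert rels S Gen.a)) lc_a_rc_0_0 lc_a_rc_2_2 lc_a_rc_5_2 lc_a_rc_6_2 lc_a_Cert_tree lc_a_rc_3_2 lc_a_rc_6_2 lc_a_rc_29_0 lc_a_rc_28_0 lc_a_rc_4_2 lc_a_rc_6_2 lc_a_rc_0_0 lc_a_Cert_tree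 lc_a_Cert_tree lc_a_rc_0_0 lc_a_rc_2_2 lc_a_Cert_tree lc_a_rc_2_2 lc_a_rc_5_2 lc_a_rc_3_2 lc_a_rc_5_2 lc_a_rc_29_0 lc_a_rc_29_0 lc_a_rc_2_2 lc_a_Cert_tree lc_a_rc_3_2 lc_a_rc_0_0 lc_a_rc_3_2 lc_a_rc_5_2 lc_a_rc_5_0 lc_a_rc_4_2 lc_a_Cert_tree lc_a_rc_4_2 lc_a_Cert_tree lc_a_rc_0_0 lc_a_rc_2_2 lc_a_Cert_tree lc_a_rc_2_2 lc_a_rc_6_2 lc_a_rc_3_2) (@D3.rec (fun _ => (Cert rels S Gen.a)) lc_a_rc_6_2 lc_a_rc_0_0 lc_a_rc_4_2 lc_a_rc_2_2 lc_a_Cert_tree lc_a_rc_3_2 lc_a_rc_0_0 lc_a_rc_3_2 lc_a_rc_5_2 lc_a_rc_5_0 lc_a_rc_4_2 lc_a_Cert_tree lc_a_rc_4_2 lc_a_Cert_tree lc_a_rc_2_2 lc_a_rc_3_2 lc_a_rc_1_4 lc_a_rc_2_2 lc_a_rc_28_0 lc_a_rc_3_2 lc_a_rc_0_1 lc_a_rc_2_0 lc_a_Cert_tree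 lc_a_rc_2_2 lc_a_rc_0_0 lc_a_rc_3_2 lc_a_rc_4_2 lc_a_rc_5_2 lc_a_rc_6_2 lc_a_rc_4_2 lc_a_rc_3_2 lc_a_Cert_tree lc_a_rc_5_2 lc_a_rc_3_2 lc_a_rc_28_0 lc_a_rc_2_2 lc_a_rc_28_0 lc_a_rc_3_2 lc_a_rc_0_1 lc_a_rc_28_0) (@D3.rec (fun _ => (Cert rels S Gen.a)) lc_a_Cert_tree lc_a_rc_2_2 lc_a_rc_0_0 lc_a_rc_3_2 lc_a_rc_29_0 lc_a_rc_5_2 lc_a_rc_29_0 lc_a_rc_4_2 lc_a_rc_3_2 lc_a_rc_0_0 lc_a_rc_0_0 lc_a_Cert_tree lc_a_rc_0_1 lc_a_rc_2_0 lc_a_rc_5_2 lc_a_rc_6_2 lc_a_Cert_tree lc_a_rc_0_0 lc_a_rc_0_0 lc_a_rc_2_2 lc_a_rc_2_0 lc_a_rc_28_0 lc_a_rc_2_2 lc_a_rc_28_0 lc_a_rc_28_0 lc_a_Cert_tree lc_a_rc_2_2 lc_a_rc_1_6 lc_a_rc_5_2 lc_a_Cert_tree lc_a_rc_0_0 lc_a_rc_2_2 lc_a_rc_1_4 lc_a_rc_1_6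 lc_a_rc_2_2 lc_a_rc_28_0 lc_a_rc_0_0 lc_a_rc_0_0 lc_a_rc_5_2 lc_a_rc_5_0) (@D3.rec (fun _ => (Cert rels S Gen.a)) lc_a_rc_28_0 lc_a_rc_3_2 lc_a_rc_5_2 lc_a_rc_6_2 lc_a_rc_28_0 lc_a_rc_5_2 lc_a_rc_6_2 lc_a_rc_29_0 lc_a_rc_29_0 lc_a_Cert_tree lc_a_rc_3_2 lc_a_rc_5_2 lc_a_rc_6_2 lc_a_rc_1_4 lc_a_rc_5_2 lc_a_rc_6_2 lc_a_Cert_tree lc_a_rc_29_0 lc_a_Cert_tree lc_a_rc_29_0 lc_a_Cert_tree lc_a_Cert_tree lc_a_rc_0_0 lc_a_rc_6_2 lc_a_rc_0_0 lc_a_rc_5_2 lc_a_rc_0_0 lc_a_rc_0_0 lc_a_rc_5_2 lc_a_rc_5_0 lc_a_Cert_tree lc_a_Cert_tree lc_a_rc_0_0 lc_a_rc_29_0 lc_a_Cert_tree lc_a_rc_0_0 lc_a_rc_0_1 lc_a_Cert_tree lc_a_Cert_tree lc_a_rc_6_2) (@D3.rec (fun _ => (Cert rels S Gen.a)) lc_a_rc_0_0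 lc_a_Cert_tree lc_a_rc_5_2 lc_a_rc_29_0 lc_a_rc_5_2 lc_a_rc_6_2 lc_a_Cert_tree lc_a_Cert_tree lc_a_rc_4_2 lc_a_rc_4_2 lc_a_rc_5_2 lc_a_rc_5_2 lc_a_rc_6_2 lc_a_Cert_tree lc_a_rc_29_0 lc_a_Cert_tree lc_a_rc_29_0 lc_a_rc_0_0 lc_a_rc_2_2 lc_a_rc_6_2 lc_a_rc_0_0 lc_a_rc_2_2 lc_a_rc_5_2 lc_a_rc_3_2 lc_a_rc_3_2 lc_a_rc_2_2 lc_a_rc_3_2 lc_a_rc_5_2 lc_a_rc_6_2 lc_a_rc_28_0 lc_a_rc_28_0 lc_a_Cert_tree lc_a_rc_29_0 lc_a_Cert_tree lc_a_rc_29_0 lc_a_Cert_tree lc_a_rc_29_0 lc_a_Cert_tree lc_a_rc_0_0 lc_a_rc_0_0) (@D3.rec (fun _ => (Cert rels S Gen.a)) lc_a_rc_2_2 lc_a_rc_6_2 lc_a_Cert_tree lc_a_rc_0_0 lc_a_rc_2_2 lc_a_rc_5_2 lc_a_Cert_tree lc_a_rc_28_0 lc_a_rc_29_0 lc_a_rc_2_2 lc_a_rc_28_0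 lc_a_rc_0_1 lc_a_rc_0_0 lc_a_rc_5_2 lc_a_rc_28_0 lc_a_rc_29_0 lc_a_rc_2_2 lc_a_rc_4_2 lc_a_rc_5_2 lc_a_rc_6_2 lc_a_rc_28_0 lc_a_rc_28_0 lc_a_rc_28_0 lc_a_rc_2_2 lc_a_rc_28_0 lc_a_rc_28_0 lc_a_rc_0_0 lc_a_rc_0_0 lc_a_Cert_tree lc_a_rc_29_0 lc_a_Cert_tree lc_a_rc_0_0 lc_a_rc_0_0 lc_a_rc_2_2 lc_a_rc_29_0 lc_a_Cert_tree lc_a_rc_0_0 lc_a_rc_2_2 lc_a_rc_0_1 lc_a_Cert_tree) (@D3.rec (fun _ => (Cert rels S Gen.a)) lc_a_Cert_tree lc_a_rc_29_0 lc_a_Cert_tree lc_a_rc_0_0 lc_a_rc_0_0 lc_a_rc_3_2 lc_a_rc_6_2 lc_a_Cert_tree lc_a_rc_0_0 lc_a_rc_3_2 lc_a_rc_5_2 lc_a_Cert_tree lc_a_rc_1_6 lc_a_rc_2_2 lc_a_rc_6_2 lc_a_rc_3_2 lc_a_rc_6_2 lc_a_Cert_tree lc_a_rc_0_0 lc_a_rc_0_0 lc_a_rc_2_2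 lc_a_rc_5_2 lc_a_rc_1_6 lc_a_rc_2_2 lc_a_rc_5_2 lc_a_rc_3_2 lc_a_rc_5_2 lc_a_Cert_tree lc_a_rc_29_0 lc_a_rc_0_0 lc_a_rc_2_2 lc_a_rc_6_2 lc_a_Cert_tree lc_a_rc_3_2 lc_a_rc_28_0 lc_a_rc_4_2 lc_a_rc_29_0 lc_a_Cert_tree lc_a_rc_28_0 lc_a_Cert_tree) (@D3.rec (fun _ => (Cert rels S Gen.a)) lc_a_rc_3_2 lc_a_rc_28_0 lc_a_rc_4_2 lc_a_rc_28_0 lc_a_Cert_tree lc_a_rc_28_0 lc_a_rc_1_6 lc_a_rc_6_2 lc_a_rc_2_2 lc_a_rc_4_2 lc_a_rc_0_1 lc_a_rc_28_0 lc_a_rc_0_1 lc_a_rc_29_0 lc_a_rc_28_0 lc_a_rc_0_0 lc_a_rc_1_6 lc_a_rc_5_2 lc_a_rc_2_2 lc_a_rc_4_2 lc_a_rc_0_1 lc_a_rc_28_0 lc_a_rc_1_6 lc_a_rc_2_2 lc_a_rc_28_0 lc_a_rc_4_2 lc_a_rc_0_0 lc_a_rc_3_2 lc_a_rc_5_2 lc_a_rc_5_0 lc_a_rc_5_2 lc_a_rc_6_2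 lc_a_Cert_tree lc_a_Cert_tree lc_a_rc_0_0 lc_a_rc_0_0 lc_a_Cert_tree lc_a_rc_29_0 lc_a_Cert_tree lc_a_rc_0_0)
def ce_a_3 : D2 → D3 → (Cert rels S Gen.a) := @D2.rec (fun _ => D3 → (Cert rels S Gen.a)) (@D3.rec (fun _ => (Cert rels S Gen.a)) lc_a_rc_0_0 lc_a_rc_2_2 lc_a_rc_29_0 lc_a_Cert_tree lc_a_rc_0_0 lc_a_rc_2_2 lc_a_rc_0_1 lc_a_Cert_tree lc_a_rc_0_0 lc_a_rc_0_0 lc_a_rc_6_2 lc_a_Cert_tree lc_a_rc_0_0 lc_a_rc_0_0 lc_a_rc_5_2 lc_a_Cert_tree lc_a_Cert_tree lc_a_rc_2_2 lc_a_rc_6_2 lc_a_rc_3_2 lc_a_rc_6_2 lc_a_Cert_tree lc_a_rc_0_0 lc_a_rc_0_0 lc_a_rc_2_2 lc_a_rc_5_2 lc_a_Cert_tree lc_a_rc_2_2 lc_a_rc_5_2 lc_a_rc_3_2 lc_a_rc_5_2 lc_a_Cert_tree lc_a_rc_29_0 lc_a_rc_0_0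 lc_a_rc_2_2 lc_a_rc_6_2 lc_a_rc_2_2 lc_a_Cert_tree lc_a_rc_3_2 lc_a_rc_4_2) (@D3.rec (fun _ => (Cert rels S Gen.a)) lc_a_rc_29_0 lc_a_Cert_tree lc_a_rc_0_0 lc_a_rc_0_0 lc_a_rc_2_2 lc_a_rc_2_2 lc_a_rc_3_2 lc_a_rc_2_2 lc_a_Cert_tree lc_a_rc_3_2 lc_a_rc_4_2 lc_a_rc_3_2 lc_a_Cert_tree lc_a_rc_29_0 lc_a_rc_0_0 lc_a_rc_2_2 lc_a_rc_2_2 lc_a_rc_3_2 lc_a_Cert_tree lc_a_rc_28_0 lc_a_rc_2_2 lc_a_rc_3_2 lc_a_rc_3_2 lc_a_rc_2_2 lc_a_Cert_tree lc_a_rc_28_0 lc_a_rc_2_2 lc_a_rc_3_2 lc_a_rc_3_2 lc_a_rc_2_2 lc_a_rc_30_16 lc_a_rc_30_12 lc_a_rc_5_2 lc_a_rc_6_2 lc_a_Cert_tree lc_a_rc_29_0 lc_a_Cert_tree lc_a_rc_29_0 lc_a_rc_0_0 lc_a_rc_2_2) (@D3.rec (fun _ => (Cert rels S Gen.a)) lc_a_rc_6_2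 lc_a_rc_0_0 lc_a_rc_2_2 lc_a_rc_5_2 lc_a_Cert_tree lc_a_rc_2_2 lc_a_rc_28_0 lc_a_rc_29_0 lc_a_Cert_tree lc_a_rc_0_0 lc_a_rc_2_2 lc_a_rc_5_2 lc_a_Cert_tree lc_a_rc_2_2 lc_a_rc_1_4 lc_a_rc_0_1 lc_a_Cert_tree lc_a_rc_0_0 lc_a_rc_2_2 lc_a_rc_6_2 lc_a_rc_0_0 lc_a_rc_2_2 lc_a_rc_5_2 lc_a_rc_5_0 lc_a_rc_28_0 lc_a_rc_3_2 lc_a_rc_6_2 lc_a_Cert_tree lc_a_rc_4_2 lc_a_rc_6_2 lc_a_Cert_tree lc_a_rc_0_0 lc_a_rc_0_0 lc_a_rc_2_2 lc_a_rc_0_1 lc_a_Cert_tree lc_a_Cert_tree lc_a_rc_2_2 lc_a_rc_5_2 lc_a_rc_3_2) (@D3.rec (fun _ => (Cert rels S Gen.a)) lc_a_rc_5_2 lc_a_rc_29_0 lc_a_rc_0_0 lc_a_rc_2_2 lc_a_rc_5_2 lc_a_rc_5_0 lc_a_rc_28_0 lc_a_rc_3_2 lc_a_rc_5_2 lc_a_Cert_tree lc_a_rc_4_2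 lc_a_rc_5_2 lc_a_Cert_tree lc_a_rc_29_0 lc_a_rc_0_0 lc_a_rc_28_0 lc_a_rc_29_0 lc_a_Cert_tree lc_a_Cert_tree lc_a_rc_2_2 lc_a_rc_6_2 lc_a_rc_28_0 lc_a_rc_6_2 lc_a_rc_0_0 lc_a_Cert_tree lc_a_rc_3_2 lc_a_rc_0_0 lc_a_rc_3_2 lc_a_rc_5_2 lc_a_rc_5_0 lc_a_rc_4_2 lc_a_rc_2_0 lc_a_rc_4_2 lc_a_rc_0_1 lc_a_rc_29_0 lc_a_Cert_tree lc_a_rc_0_0 lc_a_rc_0_0 lc_a_rc_2_2 lc_a_rc_5_2) (@D3.rec (fun _ => (Cert rels S Gen.a)) lc_a_Cert_tree lc_a_rc_2_2 lc_a_rc_3_2 lc_a_Cert_tree lc_a_rc_3_2 lc_a_rc_28_0 lc_a_rc_4_2 lc_a_Cert_tree lc_a_rc_3_2 lc_a_rc_0_0 lc_a_rc_3_2 lc_a_rc_5_2 lc_a_rc_5_0 lc_a_rc_4_2 lc_a_rc_1_2 lc_a_rc_4_2 lc_a_rc_0_1 lc_a_rc_4_2 lc_a_Cert_tree lc_a_rc_28_0 lc_a_rc_0_0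 lc_a_rc_2_2 lc_a_rc_6_2 lc_a_Cert_tree lc_a_rc_2_2 lc_a_rc_3_2 lc_a_Cert_tree lc_a_rc_3_2 lc_a_rc_28_0 lc_a_rc_4_2 lc_a_Cert_tree lc_a_rc_2_2 lc_a_rc_0_0 lc_a_rc_3_2 lc_a_rc_4_2 lc_a_rc_5_2 lc_a_rc_5_0 lc_a_rc_4_2 lc_a_rc_28_0 lc_a_rc_3_2) (@D3.rec (fun _ => (Cert rels S Gen.a)) lc_a_rc_4_2 lc_a_Cert_tree lc_a_rc_28_0 lc_a_rc_5_2 lc_a_rc_29_0 lc_a_rc_0_0 lc_a_rc_2_2 lc_a_rc_28_0 lc_a_rc_2_2 lc_a_Cert_tree lc_a_rc_28_0 lc_a_rc_28_0 lc_a_Cert_tree lc_a_rc_2_2 lc_a_rc_0_0 lc_a_rc_3_2 lc_a_rc_4_2 lc_a_rc_5_2 lc_a_rc_6_2 lc_a_rc_4_2 lc_a_rc_28_0 lc_a_rc_3_2 lc_a_rc_2_2 lc_a_Cert_tree lc_a_rc_2_2 lc_a_rc_28_0 lc_a_rc_6_2 lc_a_rc_0_0 lc_a_rc_2_2 lc_a_rc_28_0 lc_a_rc_2_2 lc_a_Cert_tree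 lc_a_rc_28_0 lc_a_rc_6_0 lc_a_Cert_tree lc_a_rc_4_2 lc_a_rc_5_2 lc_a_rc_6_2 lc_a_rc_3_2 lc_a_rc_5_2) (@D3.rec (fun _ => (Cert rels S Gen.a)) lc_a_rc_6_2 lc_a_rc_29_0 lc_a_Cert_tree lc_a_rc_29_0 lc_a_rc_28_0 lc_a_Cert_tree lc_a_rc_0_0 lc_a_rc_2_2 lc_a_rc_5_2 lc_a_rc_28_0 lc_a_rc_2_2 lc_a_rc_3_2 lc_a_rc_28_0 lc_a_rc_0_0 lc_a_rc_4_2 lc_a_rc_5_2 lc_a_rc_5_0 lc_a_rc_3_2 lc_a_Cert_tree lc_a_rc_4_2 lc_a_rc_5_2 lc_a_rc_6_2 lc_a_rc_3_2 lc_a_rc_5_2 lc_a_rc_6_2 lc_a_Cert_tree lc_a_rc_29_0 lc_a_rc_29_0 lc_a_rc_28_0 lc_a_Cert_tree lc_a_rc_0_0 lc_a_rc_2_2 lc_a_rc_6_2 lc_a_rc_29_0 lc_a_rc_2_2 lc_a_rc_28_0 lc_a_rc_29_0 lc_a_rc_0_0 lc_a_rc_4_2 lc_a_rc_5_2) (@D3.rec (fun _ => (Cert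 rels S Gen.a)) lc_a_rc_5_0 lc_a_rc_3_2 lc_a_rc_0_0 lc_a_rc_5_2 lc_a_rc_5_0 lc_a_rc_3_2 lc_a_rc_5_2 lc_a_rc_6_2 lc_a_rc_28_0 lc_a_rc_5_2 lc_a_rc_6_2 lc_a_rc_29_0 lc_a_rc_29_0 lc_a_rc_1_6 lc_a_rc_5_2 lc_a_rc_6_2 lc_a_rc_5_2 lc_a_rc_6_2 lc_a_Cert_tree lc_a_rc_29_0 lc_a_Cert_tree lc_a_rc_29_0 lc_a_rc_29_0 lc_a_rc_29_0 lc_a_Cert_tree lc_a_Cert_tree lc_a_rc_0_0 lc_a_rc_6_2 lc_a_rc_0_0 lc_a_rc_5_2 lc_a_rc_1_6 lc_a_rc_5_2 lc_a_rc_6_2 lc_a_rc_2_2 lc_a_rc_5_2 lc_a_rc_6_2 lc_a_rc_28_0 lc_a_rc_1_2 lc_a_rc_3_2 lc_a_rc_0_1) (@D3.rec (fun _ => (Cert rels S Gen.a)) lc_a_rc_2_2 lc_a_rc_2_2 lc_a_rc_5_2 lc_a_rc_6_2 lc_a_rc_28_0 lc_a_rc_29_0 lc_a_rc_28_0 lc_a_rc_0_0 lc_a_rc_0_0 lc_a_rc_29_0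 lc_a_Cert_tree lc_a_rc_0_0 lc_a_rc_0_1 lc_a_Cert_tree lc_a_Cert_tree lc_a_Cert_tree lc_a_rc_0_0 lc_a_rc_2_2 lc_a_rc_6_2 lc_a_rc_0_0 lc_a_rc_2_2 lc_a_rc_5_2 lc_a_rc_29_0 lc_a_rc_6_2 lc_a_rc_0_0 lc_a_rc_1_6 lc_a_rc_5_2 lc_a_rc_29_0 lc_a_Cert_tree lc_a_Cert_tree lc_a_rc_0_0 lc_a_rc_2_2 lc_a_rc_29_0 lc_a_Cert_tree lc_a_rc_0_0 lc_a_rc_2_2 lc_a_rc_0_1 lc_a_Cert_tree lc_a_rc_29_0 lc_a_rc_29_0) (@D3.rec (fun _ => (Cert rels S Gen.a)) lc_a_rc_29_0 lc_a_rc_0_0 lc_a_rc_0_0 lc_a_rc_29_0 lc_a_rc_6_2 lc_a_Cert_tree lc_a_rc_0_0 lc_a_rc_29_0 lc_a_rc_5_2 lc_a_Cert_tree lc_a_Cert_tree lc_a_rc_2_2 lc_a_rc_6_2 lc_a_rc_3_2 lc_a_rc_6_2 lc_a_Cert_tree lc_a_rc_0_0 lc_a_rc_0_0 lc_a_rc_2_2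 lc_a_rc_5_2 lc_a_Cert_tree lc_a_rc_2_2 lc_a_rc_5_2 lc_a_rc_3_2 lc_a_rc_5_2 lc_a_Cert_tree lc_a_rc_29_0 lc_a_rc_0_0 lc_a_rc_2_2 lc_a_rc_6_2 lc_a_rc_4_2 lc_a_rc_2_2 lc_a_rc_3_2 lc_a_rc_4_2 lc_a_rc_2_2 lc_a_rc_3_2 lc_a_rc_3_2 lc_a_rc_2_2 lc_a_rc_3_2 lc_a_rc_2_2) (@D3.rec (fun _ => (Cert rels S Gen.a)) lc_a_rc_28_0 lc_a_rc_28_0 lc_a_rc_0_0 lc_a_rc_5_2 lc_a_rc_6_2 lc_a_rc_0_0 lc_a_rc_29_0 lc_a_rc_5_2 lc_a_rc_0_0 lc_a_rc_3_0 lc_a_rc_29_0 lc_a_Cert_tree lc_a_rc_0_0 lc_a_rc_29_0 lc_a_rc_0_1 lc_a_Cert_tree lc_a_rc_1_6 lc_a_rc_2_2 lc_a_rc_3_2 lc_a_rc_29_0 lc_a_Cert_tree lc_a_rc_0_0 lc_a_rc_2_2 lc_a_rc_5_2 lc_a_rc_1_6 lc_a_rc_2_2 lc_a_rc_3_2 lc_a_rc_0_1 lc_a_Cert_tree lc_a_rc_0_0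 lc_a_rc_2_2 lc_a_rc_6_2 lc_a_rc_29_0 lc_a_rc_28_0 lc_a_rc_0_0 lc_a_rc_5_0 lc_a_rc_6_2 lc_a_rc_0_0 lc_a_rc_28_0 lc_a_rc_5_2) (@D3.rec (fun _ => (Cert rels S Gen.a)) lc_a_rc_0_0 lc_a_rc_3_0 lc_a_rc_6_2 lc_a_Cert_tree lc_a_rc_0_0 lc_a_rc_28_0 lc_a_rc_5_2 lc_a_Cert_tree lc_a_rc_28_0 lc_a_rc_2_2 lc_a_rc_6_2 lc_a_rc_29_0 lc_a_rc_6_2 lc_a_Cert_tree lc_a_rc_0_0 lc_a_rc_0_0 lc_a_rc_2_2 lc_a_rc_5_2 lc_a_rc_28_0 lc_a_rc_2_2 lc_a_rc_5_2 lc_a_rc_28_0 lc_a_rc_5_2 lc_a_Cert_tree lc_a_rc_29_0 lc_a_rc_0_0 lc_a_rc_2_2 lc_a_rc_6_2 lc_a_rc_0_0 lc_a_rc_4_0 lc_a_rc_5_2 lc_a_rc_29_0 lc_a_rc_28_0 lc_a_rc_3_2 lc_a_rc_6_2 lc_a_Cert_tree lc_a_rc_2_2 lc_a_rc_4_2 lc_a_rc_6_2 lc_a_rc_0_0) (@D3.rec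 (fun _ => (Cert rels S Gen.a)) lc_a_rc_0_0 lc_a_rc_2_2 lc_a_rc_0_1 lc_a_Cert_tree lc_a_Cert_tree lc_a_rc_2_2 lc_a_rc_5_2 lc_a_rc_3_2 lc_a_rc_5_2 lc_a_rc_29_0 lc_a_rc_0_0 lc_a_rc_0_1 lc_a_rc_28_0 lc_a_rc_5_0 lc_a_rc_28_0 lc_a_rc_3_2 lc_a_rc_5_2 lc_a_Cert_tree lc_a_rc_2_2 lc_a_rc_4_2 lc_a_rc_5_2 lc_a_rc_29_0 lc_a_rc_0_0 lc_a_rc_2_2 lc_a_rc_29_0 lc_a_Cert_tree lc_a_Cert_tree lc_a_rc_2_2 lc_a_rc_6_2 lc_a_rc_3_2 lc_a_rc_6_2 lc_a_rc_0_0 lc_a_rc_28_0 lc_a_rc_4_2 lc_a_Cert_tree lc_a_rc_3_2 lc_a_rc_0_1 lc_a_rc_4_2 lc_a_rc_29_0 lc_a_rc_4_2) (@D3.rec (fun _ => (Cert rels S Gen.a)) lc_a_Cert_tree lc_a_rc_3_2 lc_a_rc_0_1 lc_a_rc_4_2 lc_a_rc_0_0 lc_a_rc_3_2 lc_a_rc_28_0 lc_a_rc_3_0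 lc_a_rc_6_2 lc_a_rc_4_2 lc_a_rc_28_0 lc_a_Cert_tree lc_a_rc_28_0 lc_a_rc_0_0 lc_a_rc_3_2 lc_a_rc_29_0 lc_a_rc_5_2 lc_a_rc_29_0 lc_a_rc_4_2 lc_a_rc_28_0 lc_a_Cert_tree lc_a_rc_28_0 lc_a_rc_5_2 lc_a_rc_6_2 lc_a_rc_4_2 lc_a_rc_4_2 lc_a_rc_28_0 lc_a_rc_29_0 lc_a_rc_29_0 lc_a_rc_29_0 lc_a_Cert_tree lc_a_rc_2_2 lc_a_rc_2_2 lc_a_Cert_tree lc_a_Cert_tree lc_a_rc_0_0 lc_a_rc_5_0 lc_a_rc_6_2 lc_a_rc_0_0 lc_a_rc_29_0) (@D3.rec (fun _ => (Cert rels S Gen.a)) lc_a_rc_5_2 lc_a_rc_4_2 lc_a_rc_29_0 lc_a_rc_1_8 lc_a_rc_0_0 lc_a_rc_0_0 lc_a_rc_2_2 lc_a_rc_29_0 lc_a_Cert_tree lc_a_rc_0_0 lc_a_rc_2_2 lc_a_rc_0_1 lc_a_Cert_tree lc_a_Cert_tree lc_a_rc_2_2 lc_a_rc_3_2 lc_a_rc_29_0 lc_a_Cert_tree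 lc_a_rc_0_0 lc_a_rc_2_2 lc_a_rc_5_2 lc_a_Cert_tree lc_a_rc_2_2 lc_a_rc_3_2 lc_a_rc_0_1 lc_a_Cert_tree lc_a_rc_0_0 lc_a_rc_2_2 lc_a_rc_6_2 lc_a_rc_1_6 lc_a_rc_2_2 lc_a_rc_6_2 lc_a_rc_3_2 lc_a_rc_6_2 lc_a_rc_0_0 lc_a_rc_1_6 lc_a_rc_2_2 lc_a_rc_5_2 lc_a_rc_3_2 lc_a_rc_5_2) (@D3.rec (fun _ => (Cert rels S Gen.a)) lc_a_rc_29_0 lc_a_rc_0_0 lc_a_rc_5_2 lc_a_rc_5_0 lc_a_rc_28_0 lc_a_rc_3_2 lc_a_rc_6_2 lc_a_Cert_tree lc_a_rc_2_2 lc_a_rc_4_2 lc_a_rc_6_2 lc_a_Cert_tree lc_a_rc_0_0 lc_a_Cert_tree lc_a_rc_0_0 lc_a_rc_5_2 lc_a_rc_5_0 lc_a_rc_28_0 lc_a_rc_3_2 lc_a_rc_5_2 lc_a_Cert_tree lc_a_rc_2_2 lc_a_rc_4_2 lc_a_rc_5_2 lc_a_Cert_tree lc_a_rc_29_0 lc_a_Cert_tree lc_a_rc_0_0 lc_a_rc_3_2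 lc_a_rc_5_2 lc_a_rc_5_0 lc_a_rc_4_2 lc_a_Cert_tree lc_a_rc_4_2 lc_a_Cert_tree lc_a_rc_0_0 lc_a_rc_5_2 lc_a_rc_0_0 lc_a_rc_3_2 lc_a_rc_5_2) (@D3.rec (fun _ => (Cert rels S Gen.a)) lc_a_rc_5_0 lc_a_rc_4_2 lc_a_Cert_tree lc_a_rc_4_2 lc_a_Cert_tree lc_a_rc_0_0 lc_a_rc_6_2 lc_a_rc_0_0 lc_a_rc_3_2 lc_a_rc_5_2 lc_a_rc_5_0 lc_a_rc_4_2 lc_a_rc_0_0 lc_a_rc_3_2 lc_a_rc_5_2 lc_a_rc_5_0 lc_a_rc_4_2 lc_a_rc_29_0 lc_a_rc_5_0 lc_a_Cert_tree lc_a_rc_29_0 lc_a_Cert_tree lc_a_rc_0_0 lc_a_rc_5_2 lc_a_rc_29_0 lc_a_rc_29_0 lc_a_rc_0_1 lc_a_rc_29_0 lc_a_rc_6_2 lc_a_rc_28_0 lc_a_rc_0_1 lc_a_rc_5_2 lc_a_rc_29_0 lc_a_rc_0_0 lc_a_rc_2_2 lc_a_rc_0_1 lc_a_rc_29_0 lc_a_Cert_tree lc_a_rc_3_2 lc_a_rc_28_0)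 (@D3.rec (fun _ => (Cert rels S Gen.a)) lc_a_rc_4_2 lc_a_rc_29_0 lc_a_Cert_tree lc_a_rc_0_0 lc_a_rc_2_2 lc_a_rc_0_1 lc_a_rc_29_0 lc_a_rc_2_2 lc_a_rc_5_2 lc_a_rc_3_2 lc_a_rc_5_2 lc_a_rc_29_0 lc_a_rc_0_0 lc_a_rc_2_2 lc_a_rc_1_6 lc_a_rc_29_0 lc_a_Cert_tree lc_a_rc_3_2 lc_a_rc_28_0 lc_a_rc_4_2 lc_a_rc_0_1 lc_a_Cert_tree lc_a_rc_0_0 lc_a_rc_2_2 lc_a_rc_29_0 lc_a_rc_29_0 lc_a_rc_2_2 lc_a_rc_6_2 lc_a_rc_3_2 lc_a_rc_6_2 lc_a_rc_0_0 lc_a_rc_5_2 lc_a_rc_6_2 lc_a_rc_29_0 lc_a_rc_29_0 lc_a_rc_29_0 lc_a_rc_28_0 lc_a_rc_29_0 lc_a_rc_28_0 lc_a_rc_4_2) (@D3.rec (fun _ => (Cert rels S Gen.a)) lc_a_rc_6_2 lc_a_Cert_tree lc_a_rc_0_0 lc_a_rc_2_2 lc_a_rc_5_2 lc_a_Cert_tree lc_a_rc_4_2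 lc_a_rc_28_0 lc_a_rc_6_2 lc_a_Cert_tree lc_a_rc_0_0 lc_a_rc_0_0 lc_a_rc_0_1 lc_a_Cert_tree lc_a_rc_0_0 lc_a_rc_2_2 lc_a_rc_5_0 lc_a_rc_5_2 lc_a_rc_6_2 lc_a_rc_0_1 lc_a_rc_29_0 lc_a_rc_29_0 lc_a_rc_28_0 lc_a_rc_28_0 lc_a_rc_29_0 lc_a_rc_4_2 lc_a_rc_5_2 lc_a_Cert_tree lc_a_rc_0_0 lc_a_rc_2_2 lc_a_rc_1_4 lc_a_Cert_tree lc_a_rc_4_2 lc_a_rc_28_0 lc_a_rc_5_2 lc_a_Cert_tree lc_a_rc_29_0 lc_a_rc_0_0 lc_a_rc_29_0 lc_a_Cert_tree) (@D3.rec (fun _ => (Cert rels S Gen.a)) lc_a_rc_0_0 lc_a_rc_2_2 lc_a_rc_0_1 lc_a_rc_4_0 lc_a_rc_3_2 lc_a_rc_5_2 lc_a_rc_6_2 lc_a_rc_2_2 lc_a_rc_4_2 lc_a_rc_5_2 lc_a_rc_6_2 lc_a_rc_29_0 lc_a_Cert_tree lc_a_rc_29_0 lc_a_rc_6_2 lc_a_Cert_tree lc_a_rc_0_0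 lc_a_rc_5_2 lc_a_rc_0_0 lc_a_rc_28_0 lc_a_rc_28_0 lc_a_rc_2_0 lc_a_rc_3_2 lc_a_rc_4_2 lc_a_Cert_tree lc_a_Cert_tree lc_a_rc_0_0 lc_a_rc_2_2 lc_a_rc_1_4 lc_a_rc_29_0 lc_a_rc_5_2 lc_a_rc_29_0 lc_a_rc_4_0 lc_a_rc_3_2 lc_a_rc_5_2 lc_a_rc_6_2 lc_a_rc_2_2 lc_a_rc_4_2 lc_a_rc_5_2 lc_a_rc_6_2) (@D3.rec (fun _ => (Cert rels S Gen.a)) lc_a_Cert_tree lc_a_rc_29_0 lc_a_rc_29_0 lc_a_rc_5_2 lc_a_Cert_tree lc_a_rc_0_0 lc_a_rc_6_2 lc_a_rc_0_0 lc_a_rc_28_0 lc_a_rc_2_0 lc_a_rc_3_2 lc_a_rc_4_2 lc_a_Cert_tree lc_a_Cert_tree lc_a_rc_0_0 lc_a_rc_28_0 lc_a_rc_4_0 lc_a_rc_30_12 lc_a_rc_6_2 lc_a_rc_0_0 lc_a_rc_30_4 lc_a_rc_28_0 lc_a_rc_3_2 lc_a_Cert_tree lc_a_Cert_tree lc_a_rc_3_2 lc_a_rc_4_2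 lc_a_rc_5_2 lc_a_rc_6_2 lc_a_rc_4_2 lc_a_rc_1_4 lc_a_rc_6_2 lc_a_rc_3_2 lc_a_rc_28_0 lc_a_rc_6_2 lc_a_rc_29_0 lc_a_Cert_tree lc_a_rc_29_0 lc_a_rc_3_2 lc_a_rc_4_2) (@D3.rec (fun _ => (Cert rels S Gen.a)) lc_a_rc_29_0 lc_a_rc_0_0 lc_a_rc_28_0 lc_a_Cert_tree lc_a_rc_0_0 lc_a_rc_2_2 lc_a_rc_5_2 lc_a_rc_28_0 lc_a_rc_2_2 lc_a_rc_3_2 lc_a_rc_0_1 lc_a_rc_28_0 lc_a_rc_3_2 lc_a_Cert_tree lc_a_Cert_tree lc_a_rc_3_2 lc_a_rc_4_2 lc_a_rc_5_2 lc_a_rc_6_2 lc_a_rc_4_2 lc_a_rc_5_2 lc_a_rc_1_4 lc_a_rc_3_2 lc_a_rc_5_2 lc_a_rc_28_0 lc_a_Cert_tree lc_a_rc_29_0 lc_a_rc_29_0 lc_a_rc_3_2 lc_a_rc_4_2 lc_a_rc_1_2 lc_a_rc_0_0 lc_a_rc_28_0 lc_a_Cert_tree lc_a_rc_0_0 lc_a_rc_2_2 lc_a_rc_29_0 lc_a_rc_2_2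 lc_a_rc_2_2 lc_a_rc_28_0) (@D3.rec (fun _ => (Cert rels S Gen.a)) lc_a_Cert_tree lc_a_rc_6_2 lc_a_rc_28_0 lc_a_rc_28_0 lc_a_rc_0_0 lc_a_rc_1_4 lc_a_rc_28_0 lc_a_rc_28_0 lc_a_rc_5_0 lc_a_rc_6_2 lc_a_Cert_tree lc_a_rc_0_0 lc_a_rc_28_0 lc_a_rc_0_0 lc_a_Cert_tree lc_a_Cert_tree lc_a_rc_0_0 lc_a_rc_2_2 lc_a_rc_0_1 lc_a_Cert_tree lc_a_rc_28_0 lc_a_Cert_tree lc_a_rc_0_0 lc_a_rc_2_2 lc_a_rc_5_2 lc_a_Cert_tree lc_a_Cert_tree lc_a_rc_2_2 lc_a_rc_5_2 lc_a_rc_3_2 lc_a_rc_5_2 lc_a_Cert_tree lc_a_rc_29_0 lc_a_rc_0_0 lc_a_rc_2_2 lc_a_rc_6_2 lc_a_rc_2_2 lc_a_rc_3_2 lc_a_rc_28_0 lc_a_Cert_tree) (@D3.rec (fun _ => (Cert rels S Gen.a)) lc_a_rc_3_2 lc_a_rc_0_0 lc_a_rc_4_2 lc_a_rc_28_0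 lc_a_Cert_tree lc_a_rc_28_0 lc_a_Cert_tree lc_a_rc_5_2 lc_a_rc_5_2 lc_a_rc_5_2 lc_a_rc_0_0 lc_a_rc_1_4 lc_a_rc_28_0 lc_a_rc_5_2 lc_a_rc_28_0 lc_a_rc_5_2 lc_a_Cert_tree lc_a_rc_28_0 lc_a_rc_28_0 lc_a_Cert_tree lc_a_rc_28_0 lc_a_rc_0_0 lc_a_rc_2_2 lc_a_rc_29_0 lc_a_Cert_tree lc_a_Cert_tree lc_a_rc_28_0 lc_a_Cert_tree lc_a_rc_0_0 lc_a_rc_2_2 lc_a_rc_6_2 lc_a_Cert_tree lc_a_Cert_tree lc_a_rc_2_2 lc_a_rc_6_2 lc_a_rc_3_2 lc_a_rc_6_2 lc_a_Cert_tree lc_a_rc_0_0 lc_a_rc_0_0) (@D3.rec (fun _ => (Cert rels S Gen.a)) lc_a_rc_2_2 lc_a_rc_5_2 lc_a_rc_2_2 lc_a_rc_3_2 lc_a_rc_28_0 lc_a_Cert_tree lc_a_rc_3_2 lc_a_rc_28_0 lc_a_rc_4_2 lc_a_rc_29_0 lc_a_Cert_tree lc_a_rc_28_0 lc_a_Cert_tree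 lc_a_rc_28_0 lc_a_rc_0_0 lc_a_rc_3_2 lc_a_rc_29_0 lc_a_rc_5_0 lc_a_rc_4_2 lc_a_rc_6_2 lc_a_rc_28_0 lc_a_rc_0_0 lc_a_rc_6_2 lc_a_Cert_tree lc_a_rc_5_2 lc_a_rc_6_2 lc_a_rc_29_0 lc_a_rc_29_0 lc_a_Cert_tree lc_a_rc_28_0 lc_a_rc_0_0 lc_a_rc_3_2 lc_a_rc_5_2 lc_a_rc_29_0 lc_a_rc_4_2 lc_a_rc_28_0 lc_a_rc_28_0 lc_a_rc_0_0 lc_a_rc_5_2 lc_a_Cert_tree) (@D3.rec (fun _ => (Cert rels S Gen.a)) lc_a_rc_5_2 lc_a_rc_6_2 lc_a_rc_29_0 lc_a_rc_29_0 lc_a_rc_3_2 lc_a_rc_5_2 lc_a_rc_6_2 lc_a_Cert_tree lc_a_Cert_tree lc_a_rc_0_0 lc_a_rc_28_0 lc_a_rc_28_0 lc_a_rc_29_0 lc_a_rc_29_0 lc_a_rc_29_0 lc_a_rc_0_0 lc_a_Cert_tree lc_a_rc_29_0 lc_a_Cert_tree lc_a_rc_0_0 lc_a_rc_0_0 lc_a_rc_2_2 lc_a_rc_29_0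 lc_a_Cert_tree lc_a_rc_0_0 lc_a_rc_2_2 lc_a_rc_0_1 lc_a_Cert_tree lc_a_rc_0_0 lc_a_rc_3_2 lc_a_rc_5_2 lc_a_rc_5_0 lc_a_rc_3_2 lc_a_rc_3_2 lc_a_Cert_tree lc_a_Cert_tree lc_a_rc_0_0 lc_a_rc_2_2 lc_a_rc_6_2 lc_a_rc_0_0)
def ce_a_4 : D2 → D3 → (Cert rels S Gen.a) := @D2.rec (fun _ => D3 → (Cert rels S Gen.a)) (@D3.rec (fun _ => (Cert rels S Gen.a)) lc_a_rc_2_2 lc_a_rc_5_2 lc_a_rc_2_2 lc_a_rc_2_2 lc_a_rc_6_2 lc_a_rc_3_2 lc_a_rc_6_2 lc_a_rc_0_0 lc_a_rc_28_0 lc_a_rc_2_2 lc_a_rc_5_2 lc_a_rc_3_2 lc_a_rc_5_2 lc_a_rc_29_0 lc_a_rc_3_2 lc_a_rc_29_0 lc_a_rc_3_2 lc_a_rc_0_0 lc_a_rc_30_16 lc_a_rc_6_2 lc_a_Cert_tree lc_a_rc_2_2 lc_a_rc_5_2 lc_a_Cert_tree lc_a_rc_29_0 lc_a_rc_2_2 lc_a_rc_28_0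 lc_a_rc_29_0 lc_a_Cert_tree lc_a_rc_0_0 lc_a_rc_2_2 lc_a_rc_5_2 lc_a_rc_29_0 lc_a_rc_2_2 lc_a_rc_28_0 lc_a_rc_0_1 lc_a_Cert_tree lc_a_rc_0_0 lc_a_rc_2_2 lc_a_rc_6_2) (@D3.rec (fun _ => (Cert rels S Gen.a)) lc_a_rc_6_0 lc_a_rc_29_0 lc_a_Cert_tree lc_a_rc_3_2 lc_a_rc_2_2 lc_a_rc_4_2 lc_a_rc_29_0 lc_a_rc_29_0 lc_a_rc_0_0 lc_a_rc_2_2 lc_a_rc_0_1 lc_a_rc_28_0 lc_a_rc_2_2 lc_a_rc_5_2 lc_a_rc_3_2 lc_a_rc_5_2 lc_a_rc_29_0 lc_a_rc_28_0 lc_a_rc_29_0 lc_a_Cert_tree lc_a_rc_3_2 lc_a_rc_2_2 lc_a_rc_4_2 lc_a_rc_0_1 lc_a_rc_0_1 lc_a_rc_0_0 lc_a_rc_2_2 lc_a_rc_29_0 lc_a_rc_6_0 lc_a_rc_2_2 lc_a_rc_6_2 lc_a_rc_3_2 lc_a_rc_6_2 lc_a_rc_0_0 lc_a_rc_28_0 lc_a_rc_28_0 lc_a_rc_4_2 lc_a_rc_3_2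 lc_a_rc_6_2 lc_a_Cert_tree) (@D3.rec (fun _ => (Cert rels S Gen.a)) lc_a_rc_28_0 lc_a_rc_30_4 lc_a_rc_6_2 lc_a_rc_2_0 lc_a_rc_0_0 lc_a_rc_0_0 lc_a_rc_2_2 lc_a_rc_0_1 lc_a_Cert_tree lc_a_rc_5_0 lc_a_rc_2_2 lc_a_rc_5_2 lc_a_rc_3_2 lc_a_rc_5_2 lc_a_rc_29_0 lc_a_rc_28_0 lc_a_rc_28_0 lc_a_rc_29_0 lc_a_rc_3_2 lc_a_rc_5_2 lc_a_Cert_tree lc_a_rc_28_0 lc_a_rc_29_0 lc_a_rc_5_2 lc_a_rc_30_16 lc_a_rc_29_0 lc_a_rc_0_0 lc_a_rc_2_2 lc_a_rc_29_0 lc_a_Cert_tree lc_a_rc_5_0 lc_a_rc_2_2 lc_a_rc_6_2 lc_a_rc_3_2 lc_a_rc_6_2 lc_a_rc_0_0 lc_a_rc_5_2 lc_a_rc_6_2 lc_a_rc_2_2 lc_a_rc_28_0) (@D3.rec (fun _ => (Cert rels S Gen.a)) lc_a_rc_28_0 lc_a_rc_28_0 lc_a_rc_29_0 lc_a_Cert_tree lc_a_rc_29_0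 lc_a_rc_0_0 lc_a_rc_28_0 lc_a_rc_5_2 lc_a_rc_5_0 lc_a_rc_2_2 lc_a_rc_4_2 lc_a_rc_6_2 lc_a_Cert_tree lc_a_rc_0_0 lc_a_rc_2_2 lc_a_rc_5_2 lc_a_Cert_tree lc_a_rc_28_0 lc_a_rc_2_2 lc_a_rc_2_2 lc_a_rc_6_2 lc_a_Cert_tree lc_a_rc_0_0 lc_a_rc_0_0 lc_a_rc_0_1 lc_a_Cert_tree lc_a_Cert_tree lc_a_rc_2_2 lc_a_rc_3_2 lc_a_rc_0_1 lc_a_Cert_tree lc_a_rc_0_0 lc_a_rc_2_2 lc_a_rc_6_2 lc_a_rc_0_0 lc_a_rc_2_2 lc_a_rc_5_2 lc_a_rc_6_2 lc_a_Cert_tree lc_a_rc_3_2) (@D3.rec (fun _ => (Cert rels S Gen.a)) lc_a_rc_5_2 lc_a_rc_0_1 lc_a_rc_2_2 lc_a_rc_4_2 lc_a_rc_5_2 lc_a_rc_29_0 lc_a_Cert_tree lc_a_rc_5_2 lc_a_rc_6_2 lc_a_rc_2_2 lc_a_rc_28_0 lc_a_rc_28_0 lc_a_rc_28_0 lc_a_Cert_tree lc_a_rc_29_0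 lc_a_rc_29_0 lc_a_rc_0_0 lc_a_rc_28_0 lc_a_rc_5_2 lc_a_rc_5_0 lc_a_rc_2_2 lc_a_rc_4_2 lc_a_rc_5_2 lc_a_Cert_tree lc_a_rc_0_0 lc_a_rc_2_2 lc_a_rc_29_0 lc_a_Cert_tree lc_a_rc_28_0 lc_a_rc_2_2 lc_a_rc_2_2 lc_a_rc_5_2 lc_a_Cert_tree lc_a_rc_29_0 lc_a_rc_0_0 lc_a_rc_29_0 lc_a_Cert_tree lc_a_Cert_tree lc_a_rc_2_2 lc_a_rc_3_2) (@D3.rec (fun _ => (Cert rels S Gen.a)) lc_a_rc_29_0 lc_a_Cert_tree lc_a_rc_0_0 lc_a_rc_2_2 lc_a_rc_5_2 lc_a_rc_0_0 lc_a_rc_2_2 lc_a_rc_5_2 lc_a_rc_6_2 lc_a_Cert_tree lc_a_rc_3_2 lc_a_rc_6_2 lc_a_rc_29_0 lc_a_rc_2_2 lc_a_rc_4_2 lc_a_rc_6_2 lc_a_rc_0_0 lc_a_Cert_tree lc_a_rc_0_0 lc_a_rc_4_2 lc_a_rc_5_2 lc_a_Cert_tree lc_a_rc_5_2 lc_a_rc_29_0 lc_a_rc_2_2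 lc_a_Cert_tree lc_a_rc_3_2 lc_a_rc_0_0 lc_a_rc_3_2 lc_a_rc_5_2 lc_a_rc_5_0 lc_a_rc_4_2 lc_a_Cert_tree lc_a_rc_4_2 lc_a_rc_0_0 lc_a_rc_4_2 lc_a_rc_6_2 lc_a_Cert_tree lc_a_rc_6_2 lc_a_rc_0_0) (@D3.rec (fun _ => (Cert rels S Gen.a)) lc_a_rc_2_2 lc_a_Cert_tree lc_a_rc_3_2 lc_a_rc_0_0 lc_a_rc_3_2 lc_a_rc_5_2 lc_a_rc_5_0 lc_a_rc_4_2 lc_a_Cert_tree lc_a_rc_4_2 lc_a_rc_30_16 lc_a_rc_3_2 lc_a_rc_2_2 lc_a_rc_30_12 lc_a_rc_3_2 lc_a_rc_2_2 lc_a_rc_2_2 lc_a_rc_4_2 lc_a_rc_5_2 lc_a_rc_6_2 lc_a_rc_0_1 lc_a_rc_29_0 lc_a_rc_0_0 lc_a_rc_2_2 lc_a_rc_1_4 lc_a_rc_0_0 lc_a_rc_2_2 lc_a_rc_1_4 lc_a_rc_3_0 lc_a_rc_28_0 lc_a_rc_2_2 lc_a_rc_2_2 lc_a_rc_2_2 lc_a_rc_29_0 lc_a_rc_29_0 lc_a_rc_29_0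 lc_a_rc_29_0 lc_a_rc_29_0 lc_a_rc_0_0 lc_a_rc_29_0) (@D3.rec (fun _ => (Cert rels S Gen.a)) lc_a_rc_29_0 lc_a_Cert_tree lc_a_rc_29_0 lc_a_rc_29_0 lc_a_Cert_tree lc_a_rc_29_0 lc_a_rc_2_2 lc_a_rc_3_2 lc_a_rc_29_0 lc_a_rc_29_0 lc_a_rc_0_0 lc_a_rc_2_2 lc_a_rc_0_0 lc_a_rc_5_0 lc_a_rc_2_2 lc_a_rc_3_2 lc_a_rc_0_1 lc_a_rc_6_2 lc_a_rc_0_0 lc_a_rc_2_2 lc_a_rc_29_0 lc_a_rc_0_0 lc_a_rc_29_0 lc_a_rc_0_0 lc_a_rc_1_2 lc_a_Cert_tree lc_a_rc_3_2 lc_a_rc_6_2 lc_a_rc_29_0 lc_a_rc_4_2 lc_a_rc_6_2 lc_a_rc_29_0 lc_a_rc_0_0 lc_a_rc_0_0 lc_a_rc_29_0 lc_a_rc_1_2 lc_a_rc_29_0 lc_a_Cert_tree lc_a_rc_3_2 lc_a_rc_5_2) (@D3.rec (fun _ => (Cert rels S Gen.a)) lc_a_rc_29_0 lc_a_rc_4_2 lc_a_rc_5_2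 lc_a_rc_0_0 lc_a_rc_29_0 lc_a_rc_6_2 lc_a_Cert_tree lc_a_rc_29_0 lc_a_rc_29_0 lc_a_rc_0_0 lc_a_rc_0_0 lc_a_rc_3_2 lc_a_rc_5_2 lc_a_rc_5_0 lc_a_rc_2_2 lc_a_rc_4_2 lc_a_rc_30_16 lc_a_rc_28_0 lc_a_rc_2_2 lc_a_rc_29_0 lc_a_rc_29_0 lc_a_rc_29_0 lc_a_rc_29_0 lc_a_rc_29_0 lc_a_rc_29_0 lc_a_rc_2_2 lc_a_rc_3_2 lc_a_rc_0_1 lc_a_rc_0_0 lc_a_rc_6_0 lc_a_rc_29_0 lc_a_Cert_tree lc_a_rc_3_2 lc_a_rc_5_2 lc_a_rc_2_2 lc_a_rc_4_2 lc_a_rc_5_2 lc_a_rc_2_2 lc_a_rc_29_0 lc_a_rc_5_0) (@D3.rec (fun _ => (Cert rels S Gen.a)) lc_a_rc_5_2 lc_a_Cert_tree lc_a_rc_29_0 lc_a_rc_29_0 lc_a_rc_0_0 lc_a_rc_0_0 lc_a_rc_3_2 lc_a_rc_5_2 lc_a_rc_5_0 lc_a_rc_2_2 lc_a_rc_4_2 lc_a_rc_1_8 lc_a_rc_28_0 lc_a_rc_2_2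 lc_a_rc_2_2 lc_a_rc_0_1 lc_a_rc_3_2 lc_a_rc_2_2 lc_a_rc_6_2 lc_a_rc_29_0 lc_a_rc_2_2 lc_a_rc_3_2 lc_a_rc_29_0 lc_a_rc_0_0 lc_a_rc_6_0 lc_a_rc_0_0 lc_a_Cert_tree lc_a_rc_3_2 lc_a_rc_6_2 lc_a_rc_2_2 lc_a_rc_4_2 lc_a_rc_6_2 lc_a_rc_29_0 lc_a_rc_0_0 lc_a_rc_29_0 lc_a_rc_6_0 lc_a_rc_1_8 lc_a_rc_6_2 lc_a_rc_28_0 lc_a_rc_28_0) (@D3.rec (fun _ => (Cert rels S Gen.a)) lc_a_rc_29_0 lc_a_Cert_tree lc_a_rc_0_0 lc_a_rc_1_4 lc_a_rc_0_0 lc_a_rc_2_2 lc_a_rc_29_0 lc_a_rc_0_0 lc_a_rc_3_2 lc_a_rc_5_2 lc_a_rc_6_2 lc_a_rc_2_2 lc_a_rc_4_2 lc_a_rc_5_2 lc_a_rc_6_2 lc_a_rc_29_0 lc_a_Cert_tree lc_a_rc_29_0 lc_a_rc_29_0 lc_a_rc_2_2 lc_a_rc_2_2 lc_a_rc_6_2 lc_a_Cert_tree lc_a_rc_0_0 lc_a_rc_2_2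 lc_a_rc_5_2 lc_a_rc_1_6 lc_a_rc_2_2 lc_a_rc_5_2 lc_a_rc_3_2 lc_a_rc_5_2 lc_a_rc_4_2 lc_a_rc_28_0 lc_a_rc_28_0 lc_a_rc_2_2 lc_a_Cert_tree lc_a_rc_29_0 lc_a_Cert_tree lc_a_rc_0_0 lc_a_rc_0_0) (@D3.rec (fun _ => (Cert rels S Gen.a)) lc_a_rc_4_0 lc_a_rc_4_0 lc_a_Cert_tree lc_a_Cert_tree lc_a_rc_2_2 lc_a_rc_3_2 lc_a_rc_0_1 lc_a_Cert_tree lc_a_rc_0_0 lc_a_rc_2_2 lc_a_rc_6_2 lc_a_rc_0_0 lc_a_rc_2_2 lc_a_rc_29_0 lc_a_rc_29_0 lc_a_Cert_tree lc_a_rc_3_2 lc_a_rc_2_2 lc_a_rc_4_2 lc_a_rc_0_1 lc_a_Cert_tree lc_a_rc_0_0 lc_a_rc_2_2 lc_a_rc_29_0 lc_a_rc_2_2 lc_a_rc_6_2 lc_a_rc_3_2 lc_a_rc_6_2 lc_a_rc_0_0 lc_a_rc_2_2 lc_a_rc_5_2 lc_a_rc_6_2 lc_a_Cert_tree lc_a_rc_2_2 lc_a_rc_5_2 lc_a_rc_6_2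 lc_a_rc_29_0 lc_a_rc_29_0 lc_a_rc_0_0 lc_a_rc_3_2) (@D3.rec (fun _ => (Cert rels S Gen.a)) lc_a_rc_5_2 lc_a_rc_5_0 lc_a_rc_2_2 lc_a_rc_4_2 lc_a_rc_5_2 lc_a_rc_0_1 lc_a_rc_0_1 lc_a_Cert_tree lc_a_rc_28_0 lc_a_rc_2_2 lc_a_rc_2_2 lc_a_rc_5_2 lc_a_rc_29_0 lc_a_Cert_tree lc_a_rc_0_0 lc_a_rc_2_2 lc_a_rc_0_1 lc_a_rc_1_2 lc_a_rc_29_0 lc_a_rc_5_2 lc_a_rc_28_0 lc_a_rc_28_0 lc_a_Cert_tree lc_a_rc_29_0 lc_a_rc_0_0 lc_a_rc_0_0 lc_a_rc_2_2 lc_a_rc_29_0 lc_a_rc_0_0 lc_a_rc_3_2 lc_a_rc_5_2 lc_a_rc_6_2 lc_a_rc_2_2 lc_a_rc_4_2 lc_a_rc_5_2 lc_a_rc_6_2 lc_a_Cert_tree lc_a_rc_29_0 lc_a_rc_29_0 lc_a_rc_29_0) (@D3.rec (fun _ => (Cert rels S Gen.a)) lc_a_rc_2_2 lc_a_rc_2_2 lc_a_rc_5_2 lc_a_Cert_tree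 lc_a_rc_0_0 lc_a_rc_2_2 lc_a_rc_6_2 lc_a_rc_29_0 lc_a_rc_2_2 lc_a_rc_3_2 lc_a_rc_29_0 lc_a_rc_4_2 lc_a_rc_28_0 lc_a_rc_28_0 lc_a_rc_2_2 lc_a_Cert_tree lc_a_rc_2_2 lc_a_Cert_tree lc_a_rc_29_0 lc_a_rc_0_0 lc_a_rc_0_1 lc_a_rc_28_0 lc_a_Cert_tree lc_a_Cert_tree lc_a_rc_2_2 lc_a_rc_3_2 lc_a_rc_29_0 lc_a_Cert_tree lc_a_rc_0_0 lc_a_rc_2_2 lc_a_rc_5_2 lc_a_rc_0_0 lc_a_rc_2_2 lc_a_rc_0_1 lc_a_rc_29_0 lc_a_Cert_tree lc_a_rc_3_2 lc_a_rc_28_0 lc_a_rc_4_2 lc_a_rc_29_0) (@D3.rec (fun _ => (Cert rels S Gen.a)) lc_a_Cert_tree lc_a_rc_0_0 lc_a_rc_2_2 lc_a_rc_0_1 lc_a_rc_2_2 lc_a_rc_5_2 lc_a_rc_3_2 lc_a_rc_5_2 lc_a_rc_29_0 lc_a_rc_2_2 lc_a_rc_5_2 lc_a_rc_6_2 lc_a_Cert_tree lc_a_rc_30_8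 lc_a_rc_5_2 lc_a_rc_5_2 lc_a_rc_29_0 lc_a_rc_0_1 lc_a_rc_0_0 lc_a_rc_3_2 lc_a_rc_5_2 lc_a_rc_5_0 lc_a_rc_4_2 lc_a_rc_6_2 lc_a_rc_0_1 lc_a_rc_29_0 lc_a_Cert_tree lc_a_rc_4_2 lc_a_rc_28_0 lc_a_rc_6_2 lc_a_rc_0_0 lc_a_Cert_tree lc_a_rc_0_0 lc_a_rc_2_2 lc_a_rc_1_6 lc_a_rc_0_0 lc_a_rc_2_2 lc_a_Cert_tree lc_a_rc_2_2 lc_a_rc_0_0) (@D3.rec (fun _ => (Cert rels S Gen.a)) lc_a_rc_29_0 lc_a_rc_6_2 lc_a_rc_4_0 lc_a_rc_3_2 lc_a_rc_5_2 lc_a_rc_28_0 lc_a_rc_4_2 lc_a_rc_3_2 lc_a_rc_29_0 lc_a_Cert_tree lc_a_rc_2_2 lc_a_rc_3_2 lc_a_rc_0_0 lc_a_rc_3_2 lc_a_rc_5_2 lc_a_rc_5_0 lc_a_rc_28_0 lc_a_rc_4_2 lc_a_rc_1_4 lc_a_rc_3_2 lc_a_rc_5_2 lc_a_rc_6_2 lc_a_rc_0_1 lc_a_rc_4_2 lc_a_rc_5_2 lc_a_rc_6_2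 lc_a_rc_29_0 lc_a_rc_29_0 lc_a_rc_0_0 lc_a_rc_4_2 lc_a_rc_5_2 lc_a_rc_5_0 lc_a_rc_3_2 lc_a_rc_0_0 lc_a_rc_2_2 lc_a_Cert_tree lc_a_rc_2_2 lc_a_rc_0_0 lc_a_rc_1_4 lc_a_rc_5_2) (@D3.rec (fun _ => (Cert rels S Gen.a)) lc_a_rc_30_12 lc_a_rc_3_2 lc_a_rc_6_2 lc_a_rc_28_0 lc_a_rc_4_2 lc_a_rc_3_2 lc_a_rc_0_0 lc_a_Cert_tree lc_a_rc_0_1 lc_a_rc_3_2 lc_a_rc_0_0 lc_a_rc_3_2 lc_a_rc_5_2 lc_a_rc_5_0 lc_a_rc_28_0 lc_a_rc_4_2 lc_a_rc_1_4 lc_a_rc_3_2 lc_a_rc_5_2 lc_a_rc_6_2 lc_a_rc_0_1 lc_a_rc_4_2 lc_a_rc_5_2 lc_a_rc_6_2 lc_a_rc_29_0 lc_a_rc_29_0 lc_a_rc_0_0 lc_a_rc_4_2 lc_a_rc_5_2 lc_a_rc_5_0 lc_a_rc_3_2 lc_a_rc_0_0 lc_a_rc_0_0 lc_a_rc_29_0 lc_a_rc_2_2 lc_a_rc_2_2 lc_a_rc_28_0 lc_a_rc_28_0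 lc_a_rc_28_0 lc_a_rc_28_0) (@D3.rec (fun _ => (Cert rels S Gen.a)) lc_a_Cert_tree lc_a_rc_28_0 lc_a_rc_28_0 lc_a_rc_0_0 lc_a_rc_4_2 lc_a_rc_5_2 lc_a_rc_5_0 lc_a_rc_3_2 lc_a_rc_29_0 lc_a_rc_3_2 lc_a_rc_4_2 lc_a_rc_5_2 lc_a_rc_6_2 lc_a_rc_2_2 lc_a_rc_4_2 lc_a_rc_5_2 lc_a_rc_6_2 lc_a_rc_3_2 lc_a_rc_0_0 lc_a_rc_29_0 lc_a_rc_3_2 lc_a_rc_0_0 lc_a_rc_0_0 lc_a_rc_2_2 lc_a_rc_28_0 lc_a_rc_29_0 lc_a_rc_28_0 lc_a_rc_28_0 lc_a_rc_28_0 lc_a_Cert_tree lc_a_rc_28_0 lc_a_rc_2_2 lc_a_rc_0_0 lc_a_rc_4_2 lc_a_rc_5_2 lc_a_rc_5_0 lc_a_rc_3_2 lc_a_rc_1_6 lc_a_rc_3_2 lc_a_rc_5_2) (@D3.rec (fun _ => (Cert rels S Gen.a)) lc_a_rc_2_2 lc_a_rc_4_2 lc_a_rc_5_2 lc_a_rc_29_0 lc_a_rc_29_0 lc_a_rc_3_2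 lc_a_rc_3_2 lc_a_Cert_tree lc_a_rc_0_0 lc_a_rc_2_2 lc_a_rc_3_2 lc_a_rc_3_2 lc_a_rc_1_4 lc_a_rc_5_2 lc_a_Cert_tree lc_a_Cert_tree lc_a_rc_0_0 lc_a_rc_2_2 lc_a_rc_30_8 lc_a_Cert_tree lc_a_rc_2_2 lc_a_rc_3_2 lc_a_rc_1_6 lc_a_rc_5_2 lc_a_rc_28_0 lc_a_Cert_tree lc_a_rc_4_2 lc_a_rc_28_0 lc_a_rc_29_0 lc_a_rc_0_0 lc_a_rc_2_2 lc_a_rc_0_0 lc_a_rc_28_0 lc_a_rc_2_2 lc_a_rc_6_2 lc_a_Cert_tree lc_a_rc_0_0 lc_a_rc_2_2 lc_a_Cert_tree lc_a_rc_2_2) (@D3.rec (fun _ => (Cert rels S Gen.a)) lc_a_rc_3_2 lc_a_rc_2_2 lc_a_rc_6_2 lc_a_rc_28_0 lc_a_Cert_tree lc_a_rc_4_2 lc_a_rc_0_0 lc_a_rc_30_16 lc_a_rc_5_2 lc_a_rc_6_2 lc_a_rc_29_0 lc_a_rc_29_0 lc_a_rc_5_2 lc_a_rc_6_2 lc_a_rc_0_1 lc_a_rc_0_1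 lc_a_rc_29_0 lc_a_rc_0_0 lc_a_rc_29_0 lc_a_rc_1_8 lc_a_rc_0_0 lc_a_rc_2_2 lc_a_rc_3_2 lc_a_rc_5_2 lc_a_rc_5_0 lc_a_rc_5_2 lc_a_rc_6_2 lc_a_Cert_tree lc_a_Cert_tree lc_a_rc_4_2 lc_a_rc_4_2 lc_a_Cert_tree lc_a_rc_29_0 lc_a_Cert_tree lc_a_rc_0_0 lc_a_rc_0_0 lc_a_rc_29_0 lc_a_Cert_tree lc_a_rc_0_0 lc_a_rc_0_1) (@D3.rec (fun _ => (Cert rels S Gen.a)) lc_a_Cert_tree lc_a_rc_0_0 lc_a_rc_1_4 lc_a_rc_6_2 lc_a_rc_0_0 lc_a_rc_1_4 lc_a_rc_5_2 lc_a_rc_6_2 lc_a_rc_0_0 lc_a_rc_5_2 lc_a_rc_29_0 lc_a_rc_5_2 lc_a_rc_6_2 lc_a_rc_29_0 lc_a_rc_29_0 lc_a_rc_0_0 lc_a_rc_6_2 lc_a_rc_0_0 lc_a_rc_5_2 lc_a_Cert_tree lc_a_Cert_tree lc_a_rc_0_0 lc_a_rc_2_2 lc_a_rc_5_2 lc_a_Cert_tree lc_a_Cert_tree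 lc_a_rc_0_0 lc_a_rc_2_2 lc_a_rc_6_2 lc_a_rc_0_0 lc_a_rc_6_2 lc_a_Cert_tree lc_a_Cert_tree lc_a_rc_0_0 lc_a_rc_5_2 lc_a_Cert_tree lc_a_Cert_tree lc_a_Cert_tree lc_a_Cert_tree lc_a_rc_0_0) (@D3.rec (fun _ => (Cert rels S Gen.a)) lc_a_rc_2_2 lc_a_rc_6_2 lc_a_rc_0_0 lc_a_rc_2_2 lc_a_rc_5_2 lc_a_rc_3_2 lc_a_rc_3_2 lc_a_Cert_tree lc_a_Cert_tree lc_a_rc_0_0 lc_a_rc_2_2 lc_a_rc_29_0 lc_a_rc_0_0 lc_a_rc_2_2 lc_a_rc_0_1 lc_a_rc_30_12 lc_a_rc_2_2 lc_a_rc_6_2 lc_a_rc_3_2 lc_a_rc_6_2 lc_a_rc_0_0 lc_a_rc_29_0 lc_a_rc_2_2 lc_a_rc_5_2 lc_a_rc_3_2 lc_a_rc_5_2 lc_a_rc_29_0 lc_a_rc_4_2 lc_a_rc_4_2 lc_a_rc_28_0 lc_a_rc_28_0 lc_a_Cert_tree lc_a_rc_29_0 lc_a_Cert_tree lc_a_rc_0_0 lc_a_rc_0_0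 lc_a_rc_2_2 lc_a_rc_29_0 lc_a_Cert_tree lc_a_rc_0_0) (@D3.rec (fun _ => (Cert rels S Gen.a)) lc_a_rc_2_2 lc_a_rc_0_1 lc_a_Cert_tree lc_a_rc_0_0 lc_a_rc_0_0 lc_a_rc_6_2 lc_a_Cert_tree lc_a_rc_0_0 lc_a_rc_0_0 lc_a_rc_5_2 lc_a_Cert_tree lc_a_rc_3_0 lc_a_rc_2_2 lc_a_rc_6_2 lc_a_rc_3_2 lc_a_rc_6_2 lc_a_Cert_tree lc_a_rc_0_0 lc_a_rc_0_0 lc_a_rc_2_2 lc_a_rc_5_2 lc_a_rc_1_6 lc_a_rc_2_2 lc_a_rc_5_2 lc_a_rc_3_2 lc_a_rc_5_2 lc_a_Cert_tree lc_a_rc_29_0 lc_a_rc_0_0 lc_a_rc_2_2 lc_a_rc_6_2 lc_a_rc_4_2 lc_a_rc_29_0 lc_a_Cert_tree lc_a_rc_3_2 lc_a_rc_29_0 lc_a_rc_0_1 lc_a_Cert_tree lc_a_rc_0_0 lc_a_rc_29_0) (@D3.rec (fun _ => (Cert rels S Gen.a)) lc_a_rc_0_0 lc_a_rc_2_2 lc_a_rc_28_0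 lc_a_rc_28_0 lc_a_rc_28_0 lc_a_rc_3_2 lc_a_rc_28_0 lc_a_rc_28_0 lc_a_rc_29_0 lc_a_rc_29_0 lc_a_rc_29_0 lc_a_rc_0_0 lc_a_rc_1_6 lc_a_rc_1_6 lc_a_rc_0_0 lc_a_rc_28_0 lc_a_rc_29_0 lc_a_Cert_tree lc_a_rc_0_0 lc_a_rc_29_0 lc_a_rc_0_1 lc_a_Cert_tree lc_a_Cert_tree lc_a_rc_2_2 lc_a_rc_29_0 lc_a_Cert_tree lc_a_rc_0_0 lc_a_rc_2_2 lc_a_rc_5_2 lc_a_Cert_tree lc_a_rc_2_2 lc_a_rc_0_1 lc_a_Cert_tree lc_a_rc_0_0 lc_a_rc_2_2 lc_a_rc_6_2 lc_a_rc_0_0 lc_a_rc_28_0 lc_a_rc_6_2 lc_a_rc_28_0) (@D3.rec (fun _ => (Cert rels S Gen.a)) lc_a_rc_0_0 lc_a_rc_28_0 lc_a_rc_5_2 lc_a_rc_28_0 lc_a_rc_6_2 lc_a_rc_3_2 lc_a_Cert_tree lc_a_rc_0_0 lc_a_rc_0_0 lc_a_rc_28_0 lc_a_rc_6_0 lc_a_rc_5_2 lc_a_rc_3_2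 lc_a_Cert_tree lc_a_rc_29_0 lc_a_rc_0_0 lc_a_rc_5_0 lc_a_rc_1_4 lc_a_rc_4_0 lc_a_rc_28_0 lc_a_rc_3_2 lc_a_rc_6_2 lc_a_rc_4_0 lc_a_rc_4_2 lc_a_rc_6_2 lc_a_Cert_tree lc_a_rc_0_0 lc_a_rc_0_0 lc_a_rc_2_2 lc_a_rc_0_1 lc_a_Cert_tree lc_a_Cert_tree lc_a_rc_2_2 lc_a_rc_5_2 lc_a_rc_30_16 lc_a_rc_5_2 lc_a_rc_29_0 lc_a_rc_5_2 lc_a_rc_2_2 lc_a_rc_3_2) (@D3.rec (fun _ => (Cert rels S Gen.a)) lc_a_rc_5_2 lc_a_rc_29_0 lc_a_rc_4_2 lc_a_rc_5_2 lc_a_Cert_tree lc_a_rc_29_0 lc_a_rc_0_0 lc_a_rc_2_2 lc_a_rc_29_0 lc_a_Cert_tree lc_a_Cert_tree lc_a_rc_2_2 lc_a_rc_6_2 lc_a_rc_30_12 lc_a_rc_6_2 lc_a_rc_0_0 lc_a_rc_0_0 lc_a_rc_28_0 lc_a_rc_4_2 lc_a_rc_1_4 lc_a_rc_4_2 lc_a_rc_0_1 lc_a_rc_29_0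 lc_a_Cert_tree lc_a_rc_0_0 lc_a_rc_5_2 lc_a_rc_4_2 lc_a_rc_0_0 lc_a_rc_28_0 lc_a_rc_4_2 lc_a_rc_1_4 lc_a_rc_4_2 lc_a_rc_28_0 lc_a_rc_0_1 lc_a_Cert_tree lc_a_rc_0_0 lc_a_rc_6_2 lc_a_rc_29_0 lc_a_rc_2_2 lc_a_rc_30_12)
def ce_a_5 : D2 → D3 → (Cert rels S Gen.a) := @D2.rec (fun _ => D3 → (Cert rels S Gen.a)) (@D3.rec (fun _ => (Cert rels S Gen.a)) lc_a_rc_0_1 lc_a_rc_4_2 lc_a_rc_28_0 lc_a_Cert_tree lc_a_Cert_tree lc_a_rc_2_2 lc_a_rc_2_2 lc_a_rc_1_4 lc_a_rc_0_1 lc_a_rc_4_2 lc_a_rc_28_0 lc_a_Cert_tree lc_a_Cert_tree lc_a_rc_4_2 lc_a_rc_3_2 lc_a_rc_5_2 lc_a_rc_6_2 lc_a_rc_5_2 lc_a_rc_6_2 lc_a_Cert_tree lc_a_rc_29_0 lc_a_Cert_tree lc_a_rc_29_0 lc_a_Cert_tree lc_a_Cert_tree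 lc_a_rc_0_0 lc_a_rc_2_2 lc_a_rc_6_2 lc_a_rc_0_0 lc_a_rc_2_2 lc_a_rc_5_2 lc_a_Cert_tree lc_a_Cert_tree lc_a_rc_0_0 lc_a_rc_0_0 lc_a_rc_29_0 lc_a_Cert_tree lc_a_rc_0_0 lc_a_rc_0_0 lc_a_rc_0_1) (@D3.rec (fun _ => (Cert rels S Gen.a)) lc_a_Cert_tree lc_a_Cert_tree lc_a_rc_2_2 lc_a_rc_3_2 lc_a_rc_29_0 lc_a_Cert_tree lc_a_rc_0_0 lc_a_rc_2_2 lc_a_rc_5_2 lc_a_Cert_tree lc_a_rc_2_2 lc_a_rc_3_2 lc_a_rc_0_1 lc_a_Cert_tree lc_a_rc_0_0 lc_a_rc_2_2 lc_a_rc_6_2 lc_a_Cert_tree lc_a_rc_6_2 lc_a_rc_0_0 lc_a_Cert_tree lc_a_rc_0_0 lc_a_rc_0_0 lc_a_rc_5_0 lc_a_rc_5_2 lc_a_Cert_tree lc_a_rc_5_2 lc_a_rc_0_0 lc_a_Cert_tree lc_a_rc_29_0 lc_a_rc_0_0 lc_a_rc_5_0 lc_a_rc_6_2 lc_a_rc_0_0 lc_a_rc_2_2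 lc_a_rc_5_2 lc_a_rc_5_0 lc_a_rc_4_2 lc_a_rc_3_2 lc_a_rc_6_2) (@D3.rec (fun _ => (Cert rels S Gen.a)) lc_a_Cert_tree lc_a_rc_4_2 lc_a_rc_6_2 lc_a_Cert_tree lc_a_rc_0_0 lc_a_rc_0_0 lc_a_rc_2_2 lc_a_rc_0_1 lc_a_Cert_tree lc_a_Cert_tree lc_a_rc_2_2 lc_a_rc_5_2 lc_a_rc_3_2 lc_a_rc_5_2 lc_a_rc_29_0 lc_a_rc_0_0 lc_a_rc_2_2 lc_a_rc_5_2 lc_a_rc_5_0 lc_a_rc_4_2 lc_a_rc_3_2 lc_a_rc_5_2 lc_a_Cert_tree lc_a_rc_4_2 lc_a_rc_5_2 lc_a_Cert_tree lc_a_rc_29_0 lc_a_rc_0_0 lc_a_rc_2_2 lc_a_rc_29_0 lc_a_Cert_tree lc_a_Cert_tree lc_a_rc_2_2 lc_a_rc_6_2 lc_a_rc_3_2 lc_a_rc_6_2 lc_a_rc_0_0 lc_a_rc_5_0 lc_a_rc_3_2 lc_a_rc_0_0) (@D3.rec (fun _ => (Cert rels S Gen.a)) lc_a_rc_3_2 lc_a_rc_5_2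 lc_a_rc_5_0 lc_a_rc_4_2 lc_a_rc_29_0 lc_a_Cert_tree lc_a_rc_0_0 lc_a_rc_0_0 lc_a_rc_2_2 lc_a_rc_5_2 lc_a_Cert_tree lc_a_rc_2_2 lc_a_rc_3_2 lc_a_Cert_tree lc_a_rc_3_2 lc_a_rc_28_0 lc_a_rc_4_2 lc_a_rc_28_0 lc_a_rc_3_2 lc_a_rc_0_0 lc_a_rc_3_2 lc_a_rc_5_2 lc_a_rc_5_0 lc_a_rc_4_2 lc_a_rc_4_2 lc_a_Cert_tree lc_a_rc_29_0 lc_a_rc_0_0 lc_a_rc_2_2 lc_a_rc_6_2 lc_a_Cert_tree lc_a_rc_2_2 lc_a_rc_3_2 lc_a_Cert_tree lc_a_rc_3_2 lc_a_rc_28_0 lc_a_rc_4_2 lc_a_rc_0_0 lc_a_rc_3_2 lc_a_rc_6_2) (@D3.rec (fun _ => (Cert rels S Gen.a)) lc_a_rc_4_2 lc_a_rc_30_16 lc_a_rc_3_2 lc_a_rc_2_2 lc_a_rc_2_2 lc_a_Cert_tree lc_a_rc_28_0 lc_a_rc_0_0 lc_a_rc_3_2 lc_a_rc_5_2 lc_a_rc_29_0 lc_a_rc_30_12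 lc_a_rc_3_2 lc_a_rc_2_2 lc_a_rc_2_2 lc_a_Cert_tree lc_a_rc_28_0 lc_a_Cert_tree lc_a_Cert_tree lc_a_rc_0_0 lc_a_rc_29_0 lc_a_rc_29_0 lc_a_Cert_tree lc_a_rc_0_0 lc_a_rc_2_2 lc_a_rc_0_1 lc_a_Cert_tree lc_a_Cert_tree lc_a_rc_2_2 lc_a_rc_6_2 lc_a_rc_6_2 lc_a_rc_0_0 lc_a_Cert_tree lc_a_rc_2_2 lc_a_rc_5_2 lc_a_rc_5_2 lc_a_rc_29_0 lc_a_rc_0_0 lc_a_rc_5_2 lc_a_rc_29_0) (@D3.rec (fun _ => (Cert rels S Gen.a)) lc_a_rc_6_2 lc_a_rc_29_0 lc_a_rc_29_0 lc_a_Cert_tree lc_a_rc_0_0 lc_a_rc_28_0 lc_a_rc_0_1 lc_a_Cert_tree lc_a_rc_2_2 lc_a_rc_5_2 lc_a_rc_2_2 lc_a_rc_5_2 lc_a_rc_29_0 lc_a_rc_0_0 lc_a_rc_5_0 lc_a_rc_5_2 lc_a_rc_29_0 lc_a_rc_28_0 lc_a_rc_0_1 lc_a_Cert_tree lc_a_rc_0_0 lc_a_rc_28_0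 lc_a_rc_29_0 lc_a_Cert_tree lc_a_rc_2_2 lc_a_rc_6_2 lc_a_rc_28_0 lc_a_rc_6_2 lc_a_rc_0_0 lc_a_rc_2_2 lc_a_rc_5_2 lc_a_rc_6_2 lc_a_rc_0_0 lc_a_rc_3_2 lc_a_rc_5_2 lc_a_rc_6_2 lc_a_rc_29_0 lc_a_Cert_tree lc_a_rc_29_0 lc_a_rc_28_0) (@D3.rec (fun _ => (Cert rels S Gen.a)) lc_a_rc_5_2 lc_a_rc_28_0 lc_a_rc_4_2 lc_a_rc_6_2 lc_a_Cert_tree lc_a_rc_0_0 lc_a_rc_2_2 lc_a_rc_5_2 lc_a_rc_6_2 lc_a_Cert_tree lc_a_rc_0_0 lc_a_rc_0_0 lc_a_rc_2_2 lc_a_rc_0_1 lc_a_Cert_tree lc_a_Cert_tree lc_a_rc_2_2 lc_a_rc_28_0 lc_a_rc_28_0 lc_a_Cert_tree lc_a_rc_0_0 lc_a_rc_2_2 lc_a_rc_6_2 lc_a_rc_0_0 lc_a_rc_28_0 lc_a_rc_5_2 lc_a_rc_6_2 lc_a_Cert_tree lc_a_rc_3_2 lc_a_rc_5_2 lc_a_rc_6_2 lc_a_rc_28_0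 lc_a_Cert_tree lc_a_rc_2_2 lc_a_rc_5_2 lc_a_rc_6_2 lc_a_rc_0_0 lc_a_rc_3_2 lc_a_rc_5_2 lc_a_rc_6_2) (@D3.rec (fun _ => (Cert rels S Gen.a)) lc_a_Cert_tree lc_a_rc_29_0 lc_a_rc_29_0 lc_a_rc_28_0 lc_a_rc_28_0 lc_a_rc_29_0 lc_a_rc_4_2 lc_a_rc_5_2 lc_a_Cert_tree lc_a_rc_0_0 lc_a_rc_2_2 lc_a_rc_29_0 lc_a_rc_5_2 lc_a_Cert_tree lc_a_rc_29_0 lc_a_rc_0_0 lc_a_rc_2_2 lc_a_rc_29_0 lc_a_Cert_tree lc_a_Cert_tree lc_a_Cert_tree lc_a_rc_0_0 lc_a_rc_2_2 lc_a_rc_5_2 lc_a_rc_0_0 lc_a_rc_4_0 lc_a_rc_5_2 lc_a_rc_6_2 lc_a_Cert_tree lc_a_rc_6_2 lc_a_rc_5_2 lc_a_rc_28_0 lc_a_Cert_tree lc_a_rc_0_0 lc_a_rc_29_0 lc_a_rc_5_2 lc_a_rc_5_0 lc_a_rc_4_2 lc_a_rc_3_2 lc_a_rc_5_2) (@D3.rec (fun _ =>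 (Cert rels S Gen.a)) lc_a_rc_6_2 lc_a_rc_4_2 lc_a_rc_29_0 lc_a_rc_29_0 lc_a_rc_29_0 lc_a_rc_28_0 lc_a_rc_0_1 lc_a_rc_28_0 lc_a_rc_3_2 lc_a_rc_4_2 lc_a_rc_6_0 lc_a_Cert_tree lc_a_rc_0_0 lc_a_rc_0_0 lc_a_rc_28_0 lc_a_rc_28_0 lc_a_rc_29_0 lc_a_rc_4_0 lc_a_rc_2_2 lc_a_rc_5_2 lc_a_rc_3_2 lc_a_rc_5_2 lc_a_Cert_tree lc_a_rc_29_0 lc_a_rc_0_0 lc_a_rc_6_2 lc_a_Cert_tree lc_a_rc_3_2 lc_a_rc_0_1 lc_a_rc_4_2 lc_a_rc_0_0 lc_a_rc_3_2 lc_a_rc_5_2 lc_a_rc_5_0 lc_a_rc_4_2 lc_a_Cert_tree lc_a_rc_4_2 lc_a_rc_0_0 lc_a_rc_29_0 lc_a_rc_5_2) (@D3.rec (fun _ => (Cert rels S Gen.a)) lc_a_rc_5_0 lc_a_rc_4_2 lc_a_rc_3_2 lc_a_rc_5_2 lc_a_rc_6_2 lc_a_rc_4_2 lc_a_rc_29_0 lc_a_rc_29_0 lc_a_rc_29_0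 lc_a_rc_1_2 lc_a_rc_2_0 lc_a_rc_6_2 lc_a_rc_3_2 lc_a_rc_4_2 lc_a_rc_1_8 lc_a_Cert_tree lc_a_rc_29_0 lc_a_rc_0_0 lc_a_rc_28_0 lc_a_rc_28_0 lc_a_rc_29_0 lc_a_rc_1_6 lc_a_rc_2_2 lc_a_rc_6_2 lc_a_rc_3_2 lc_a_rc_6_2 lc_a_Cert_tree lc_a_rc_0_0 lc_a_rc_0_0 lc_a_rc_5_2 lc_a_Cert_tree lc_a_rc_3_2 lc_a_rc_0_1 lc_a_rc_4_2 lc_a_rc_0_0 lc_a_rc_3_2 lc_a_rc_5_2 lc_a_rc_5_0 lc_a_rc_4_2 lc_a_Cert_tree) (@D3.rec (fun _ => (Cert rels S Gen.a)) lc_a_rc_4_2 lc_a_rc_0_0 lc_a_rc_4_2 lc_a_rc_6_2 lc_a_rc_3_2 lc_a_rc_28_0 lc_a_rc_3_2 lc_a_rc_4_2 lc_a_rc_5_2 lc_a_rc_6_2 lc_a_rc_4_2 lc_a_rc_6_2 lc_a_rc_6_2 lc_a_rc_29_0 lc_a_Cert_tree lc_a_rc_29_0 lc_a_rc_3_2 lc_a_rc_4_2 lc_a_rc_5_2 lc_a_rc_3_2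 lc_a_rc_5_2 lc_a_rc_28_0 lc_a_rc_0_0 lc_a_rc_28_0 lc_a_rc_0_0 lc_a_Cert_tree lc_a_rc_28_0 lc_a_rc_2_2 lc_a_rc_3_2 lc_a_Cert_tree lc_a_rc_28_0 lc_a_Cert_tree lc_a_rc_0_0 lc_a_rc_3_2 lc_a_rc_4_2 lc_a_rc_5_2 lc_a_rc_6_2 lc_a_rc_4_2 lc_a_rc_0_0 lc_a_rc_4_2) (@D3.rec (fun _ => (Cert rels S Gen.a)) lc_a_rc_5_2 lc_a_rc_3_2 lc_a_rc_28_0 lc_a_rc_3_2 lc_a_rc_4_2 lc_a_rc_5_2 lc_a_rc_6_2 lc_a_rc_4_2 lc_a_rc_5_2 lc_a_rc_28_0 lc_a_rc_3_2 lc_a_rc_4_2 lc_a_rc_29_0 lc_a_rc_3_2 lc_a_rc_2_2 lc_a_rc_0_0 lc_a_rc_29_0 lc_a_rc_28_0 lc_a_Cert_tree lc_a_rc_29_0 lc_a_rc_2_2 lc_a_rc_3_2 lc_a_Cert_tree lc_a_rc_28_0 lc_a_Cert_tree lc_a_rc_0_0 lc_a_rc_3_2 lc_a_rc_4_2 lc_a_rc_5_2 lc_a_rc_6_2 lc_a_rc_4_2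 lc_a_rc_0_0 lc_a_rc_4_2 lc_a_rc_6_2 lc_a_rc_5_2 lc_a_rc_6_2 lc_a_Cert_tree lc_a_rc_3_2 lc_a_rc_29_0 lc_a_Cert_tree) (@D3.rec (fun _ => (Cert rels S Gen.a)) lc_a_Cert_tree lc_a_rc_0_0 lc_a_rc_2_2 lc_a_rc_0_1 lc_a_Cert_tree lc_a_rc_0_0 lc_a_rc_29_0 lc_a_rc_0_1 lc_a_rc_29_0 lc_a_rc_2_2 lc_a_rc_5_2 lc_a_rc_3_2 lc_a_rc_0_1 lc_a_rc_29_0 lc_a_rc_28_0 lc_a_Cert_tree lc_a_rc_3_2 lc_a_rc_28_0 lc_a_rc_4_2 lc_a_rc_28_0 lc_a_rc_5_0 lc_a_rc_28_0 lc_a_rc_4_2 lc_a_rc_5_2 lc_a_rc_6_2 lc_a_rc_3_2 lc_a_rc_5_2 lc_a_rc_6_2 lc_a_rc_29_0 lc_a_rc_29_0 lc_a_rc_0_0 lc_a_rc_4_2 lc_a_rc_5_2 lc_a_rc_5_2 lc_a_rc_6_2 lc_a_Cert_tree lc_a_rc_3_2 lc_a_rc_28_0 lc_a_rc_0_0 lc_a_Cert_tree) (@D3.rec (fun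 _ => (Cert rels S Gen.a)) lc_a_rc_6_0 lc_a_rc_0_0 lc_a_rc_29_0 lc_a_rc_28_0 lc_a_rc_2_2 lc_a_rc_6_2 lc_a_rc_3_2 lc_a_rc_29_0 lc_a_rc_28_0 lc_a_rc_29_0 lc_a_Cert_tree lc_a_rc_4_2 lc_a_rc_29_0 lc_a_rc_3_0 lc_a_rc_28_0 lc_a_rc_4_2 lc_a_rc_5_2 lc_a_rc_6_2 lc_a_rc_3_2 lc_a_rc_5_2 lc_a_rc_6_2 lc_a_rc_29_0 lc_a_rc_29_0 lc_a_rc_5_2 lc_a_rc_6_2 lc_a_rc_29_0 lc_a_rc_29_0 lc_a_rc_5_2 lc_a_rc_6_2 lc_a_rc_0_1 lc_a_rc_29_0 lc_a_rc_28_0 lc_a_rc_28_0 lc_a_rc_28_0 lc_a_rc_29_0 lc_a_rc_0_0 lc_a_Cert_tree lc_a_Cert_tree lc_a_rc_5_2 lc_a_rc_6_2) (@D3.rec (fun _ => (Cert rels S Gen.a)) lc_a_rc_4_2 lc_a_rc_1_2 lc_a_Cert_tree lc_a_rc_29_0 lc_a_Cert_tree lc_a_rc_0_0 lc_a_rc_0_0 lc_a_rc_29_0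 lc_a_Cert_tree lc_a_rc_0_0 lc_a_rc_0_1 lc_a_Cert_tree lc_a_rc_29_0 lc_a_rc_29_0 lc_a_rc_0_0 lc_a_rc_28_0 lc_a_rc_6_2 lc_a_rc_0_0 lc_a_rc_28_0 lc_a_rc_5_2 lc_a_rc_30_12 lc_a_rc_6_2 lc_a_rc_0_0 lc_a_rc_1_6 lc_a_rc_5_2 lc_a_rc_29_0 lc_a_rc_5_2 lc_a_rc_6_2 lc_a_rc_5_2 lc_a_rc_6_2 lc_a_rc_1_6 lc_a_rc_3_2 lc_a_rc_2_2 lc_a_rc_2_2 lc_a_rc_1_2 lc_a_rc_6_2 lc_a_rc_28_0 lc_a_rc_2_0 lc_a_rc_0_0 lc_a_rc_0_1) (@D3.rec (fun _ => (Cert rels S Gen.a)) lc_a_rc_3_2 lc_a_rc_3_2 lc_a_rc_0_1 lc_a_rc_0_1 lc_a_rc_29_0 lc_a_rc_0_0 lc_a_rc_28_0 lc_a_rc_29_0 lc_a_rc_28_0 lc_a_rc_0_0 lc_a_rc_29_0 lc_a_Cert_tree lc_a_rc_0_1 lc_a_Cert_tree lc_a_Cert_tree lc_a_rc_0_0 lc_a_rc_2_2 lc_a_rc_5_2 lc_a_Cert_tree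 lc_a_rc_0_0 lc_a_rc_2_2 lc_a_rc_6_2 lc_a_rc_0_0 lc_a_rc_2_2 lc_a_rc_6_2 lc_a_rc_0_0 lc_a_rc_2_2 lc_a_rc_5_2 lc_a_rc_3_2 lc_a_rc_2_2 lc_a_rc_6_2 lc_a_rc_6_2 lc_a_rc_0_0 lc_a_rc_3_2 lc_a_rc_2_2 lc_a_rc_5_2 lc_a_rc_5_2 lc_a_rc_29_0 lc_a_rc_29_0 lc_a_rc_29_0) (@D3.rec (fun _ => (Cert rels S Gen.a)) lc_a_Cert_tree lc_a_rc_1_8 lc_a_rc_30_4 lc_a_rc_29_0 lc_a_Cert_tree lc_a_rc_29_0 lc_a_rc_0_0 lc_a_rc_29_0 lc_a_rc_29_0 lc_a_rc_0_0 lc_a_rc_29_0 lc_a_rc_0_1 lc_a_rc_1_6 lc_a_rc_2_2 lc_a_rc_3_2 lc_a_rc_29_0 lc_a_Cert_tree lc_a_rc_0_0 lc_a_rc_2_2 lc_a_rc_5_2 lc_a_rc_1_6 lc_a_rc_2_2 lc_a_rc_3_2 lc_a_rc_0_1 lc_a_Cert_tree lc_a_rc_0_0 lc_a_rc_2_2 lc_a_rc_6_2 lc_a_rc_29_0 lc_a_rc_6_0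 lc_a_rc_29_0 lc_a_rc_29_0 lc_a_Cert_tree lc_a_rc_6_2 lc_a_rc_29_0 lc_a_rc_29_0 lc_a_Cert_tree lc_a_rc_0_0 lc_a_rc_0_0 lc_a_rc_6_0) (@D3.rec (fun _ => (Cert rels S Gen.a)) lc_a_rc_5_2 lc_a_Cert_tree lc_a_rc_5_2 lc_a_rc_29_0 lc_a_rc_28_0 lc_a_Cert_tree lc_a_rc_29_0 lc_a_rc_0_0 lc_a_rc_28_0 lc_a_rc_6_2 lc_a_rc_0_0 lc_a_rc_0_1 lc_a_rc_5_2 lc_a_rc_0_1 lc_a_rc_29_0 lc_a_rc_3_2 lc_a_rc_6_2 lc_a_Cert_tree lc_a_rc_2_2 lc_a_rc_4_2 lc_a_rc_6_2 lc_a_rc_0_0 lc_a_rc_0_0 lc_a_rc_2_2 lc_a_rc_0_1 lc_a_Cert_tree lc_a_Cert_tree lc_a_rc_2_2 lc_a_rc_5_2 lc_a_rc_3_2 lc_a_rc_5_2 lc_a_rc_29_0 lc_a_rc_0_0 lc_a_rc_0_1 lc_a_rc_28_0 lc_a_rc_5_0 lc_a_rc_4_2 lc_a_rc_3_2 lc_a_rc_5_2 lc_a_Cert_tree)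 (@D3.rec (fun _ => (Cert rels S Gen.a)) lc_a_rc_2_2 lc_a_rc_4_2 lc_a_rc_5_2 lc_a_rc_29_0 lc_a_rc_0_0 lc_a_rc_2_2 lc_a_rc_29_0 lc_a_Cert_tree lc_a_Cert_tree lc_a_rc_2_2 lc_a_rc_6_2 lc_a_rc_3_2 lc_a_rc_6_2 lc_a_rc_0_0 lc_a_Cert_tree lc_a_rc_3_2 lc_a_rc_28_0 lc_a_rc_4_2 lc_a_Cert_tree lc_a_rc_3_2 lc_a_rc_28_0 lc_a_rc_4_2 lc_a_rc_2_2 lc_a_Cert_tree lc_a_rc_28_0 lc_a_rc_2_2 lc_a_Cert_tree lc_a_rc_28_0 lc_a_rc_28_0 lc_a_rc_28_0 lc_a_rc_6_2 lc_a_rc_5_2 lc_a_rc_29_0 lc_a_Cert_tree lc_a_rc_0_0 lc_a_rc_29_0 lc_a_rc_5_2 lc_a_rc_0_1 lc_a_Cert_tree lc_a_rc_0_0) (@D3.rec (fun _ => (Cert rels S Gen.a)) lc_a_rc_1_2 lc_a_rc_6_2 lc_a_rc_6_2 lc_a_rc_30_12 lc_a_rc_3_2 lc_a_rc_4_2 lc_a_rc_29_0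 lc_a_Cert_tree lc_a_rc_0_0 lc_a_rc_2_2 lc_a_rc_0_1 lc_a_Cert_tree lc_a_rc_2_2 lc_a_rc_5_2 lc_a_rc_3_2 lc_a_rc_5_2 lc_a_rc_29_0 lc_a_rc_5_2 lc_a_rc_0_1 lc_a_rc_3_2 lc_a_rc_4_2 lc_a_rc_0_1 lc_a_Cert_tree lc_a_rc_0_0 lc_a_rc_2_2 lc_a_rc_29_0 lc_a_Cert_tree lc_a_rc_2_2 lc_a_rc_6_2 lc_a_rc_3_2 lc_a_rc_6_2 lc_a_rc_0_0 lc_a_rc_6_2 lc_a_rc_28_0 lc_a_rc_6_2 lc_a_rc_29_0 lc_a_rc_5_2 lc_a_rc_28_0 lc_a_rc_6_2 lc_a_rc_6_2) (@D3.rec (fun _ => (Cert rels S Gen.a)) lc_a_Cert_tree lc_a_rc_0_0 lc_a_rc_2_2 lc_a_rc_5_2 lc_a_rc_5_2 lc_a_rc_28_0 lc_a_Cert_tree lc_a_rc_0_0 lc_a_rc_2_2 lc_a_rc_6_2 lc_a_rc_6_2 lc_a_Cert_tree lc_a_rc_29_0 lc_a_rc_29_0 lc_a_rc_29_0 lc_a_rc_0_0 lc_a_rc_0_0 lc_a_rc_2_2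 lc_a_rc_0_1 lc_a_Cert_tree lc_a_rc_0_1 lc_a_rc_2_2 lc_a_rc_5_2 lc_a_rc_3_2 lc_a_rc_5_2 lc_a_rc_29_0 lc_a_rc_5_2 lc_a_Cert_tree lc_a_rc_4_2 lc_a_rc_5_2 lc_a_rc_1_8 lc_a_rc_29_0 lc_a_rc_0_0 lc_a_rc_2_2 lc_a_rc_29_0 lc_a_Cert_tree lc_a_rc_1_6 lc_a_rc_2_2 lc_a_rc_6_2 lc_a_rc_3_2) (@D3.rec (fun _ => (Cert rels S Gen.a)) lc_a_rc_6_2 lc_a_rc_0_0 lc_a_rc_5_2 lc_a_rc_4_0 lc_a_rc_29_0 lc_a_rc_29_0 lc_a_rc_0_0 lc_a_rc_2_2 lc_a_rc_4_2 lc_a_rc_6_2 lc_a_Cert_tree lc_a_rc_0_0 lc_a_rc_29_0 lc_a_rc_5_2 lc_a_rc_2_2 lc_a_rc_0_1 lc_a_rc_6_2 lc_a_rc_0_0 lc_a_Cert_tree lc_a_Cert_tree lc_a_rc_2_2 lc_a_rc_3_2 lc_a_rc_0_1 lc_a_Cert_tree lc_a_rc_0_0 lc_a_rc_2_2 lc_a_rc_6_2 lc_a_rc_0_0 lc_a_rc_29_0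 lc_a_rc_6_0 lc_a_rc_29_0 lc_a_Cert_tree lc_a_rc_3_2 lc_a_rc_5_2 lc_a_rc_29_0 lc_a_rc_2_2 lc_a_rc_4_2 lc_a_rc_5_2 lc_a_rc_29_0 lc_a_Cert_tree) (@D3.rec (fun _ => (Cert rels S Gen.a)) lc_a_rc_6_2 lc_a_rc_5_2 lc_a_rc_29_0 lc_a_rc_29_0 lc_a_rc_0_0 lc_a_rc_2_2 lc_a_rc_4_2 lc_a_rc_5_2 lc_a_Cert_tree lc_a_rc_0_0 lc_a_rc_2_2 lc_a_rc_29_0 lc_a_rc_2_2 lc_a_rc_28_0 lc_a_rc_5_2 lc_a_rc_29_0 lc_a_Cert_tree lc_a_Cert_tree lc_a_rc_2_2 lc_a_rc_3_2 lc_a_rc_29_0 lc_a_Cert_tree lc_a_rc_0_0 lc_a_rc_2_2 lc_a_rc_5_2 lc_a_rc_0_0 lc_a_rc_0_0 lc_a_rc_30_4 lc_a_rc_1_2 lc_a_Cert_tree lc_a_rc_3_2 lc_a_rc_6_2 lc_a_rc_4_0 lc_a_rc_2_2 lc_a_rc_4_2 lc_a_rc_6_2 lc_a_rc_0_0 lc_a_Cert_tree lc_a_rc_28_0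 lc_a_rc_3_2) (@D3.rec (fun _ => (Cert rels S Gen.a)) lc_a_rc_0_0 lc_a_rc_3_2 lc_a_rc_5_2 lc_a_rc_6_2 lc_a_rc_4_2 lc_a_Cert_tree lc_a_rc_4_2 lc_a_rc_28_0 lc_a_rc_3_2 lc_a_rc_0_0 lc_a_rc_28_0 lc_a_rc_28_0 lc_a_rc_6_2 lc_a_rc_4_2 lc_a_Cert_tree lc_a_rc_4_2 lc_a_rc_3_2 lc_a_rc_6_2 lc_a_rc_2_2 lc_a_rc_4_2 lc_a_rc_0_0 lc_a_rc_6_2 lc_a_rc_6_2 lc_a_rc_3_2 lc_a_rc_0_0 lc_a_rc_3_2 lc_a_rc_5_2 lc_a_rc_0_1 lc_a_rc_4_2 lc_a_rc_3_2 lc_a_rc_5_2 lc_a_rc_2_2 lc_a_rc_4_2 lc_a_rc_5_2 lc_a_rc_28_0 lc_a_rc_29_0 lc_a_rc_3_2 lc_a_rc_0_0 lc_a_rc_3_2 lc_a_rc_29_0) (@D3.rec (fun _ => (Cert rels S Gen.a)) lc_a_rc_6_2 lc_a_rc_4_2 lc_a_rc_29_0 lc_a_rc_5_0 lc_a_rc_28_0 lc_a_rc_29_0 lc_a_rc_29_0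 lc_a_rc_0_0 lc_a_rc_6_2 lc_a_rc_29_0 lc_a_rc_29_0 lc_a_rc_0_1 lc_a_rc_0_0 lc_a_rc_5_2 lc_a_rc_5_0 lc_a_Cert_tree lc_a_Cert_tree lc_a_rc_0_0 lc_a_rc_2_2 lc_a_rc_6_2 lc_a_rc_0_0 lc_a_rc_2_2 lc_a_rc_5_2 lc_a_rc_29_0 lc_a_rc_6_2 lc_a_rc_28_0 lc_a_rc_29_0 lc_a_rc_0_1 lc_a_rc_5_2 lc_a_rc_29_0 lc_a_rc_29_0 lc_a_rc_4_2 lc_a_rc_6_2 lc_a_Cert_tree lc_a_rc_2_2 lc_a_rc_5_2 lc_a_Cert_tree lc_a_rc_29_0 lc_a_rc_2_2 lc_a_rc_3_2) (@D3.rec (fun _ => (Cert rels S Gen.a)) lc_a_rc_29_0 lc_a_Cert_tree lc_a_rc_0_0 lc_a_rc_2_2 lc_a_rc_5_2 lc_a_rc_29_0 lc_a_rc_2_2 lc_a_rc_3_2 lc_a_rc_0_1 lc_a_Cert_tree lc_a_rc_0_0 lc_a_rc_2_2 lc_a_rc_6_2 lc_a_rc_0_0 lc_a_rc_2_2 lc_a_rc_0_1 lc_a_rc_29_0 lc_a_Cert_tree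 lc_a_rc_3_2 lc_a_rc_2_2 lc_a_rc_4_2 lc_a_rc_29_0 lc_a_Cert_tree lc_a_rc_0_0 lc_a_rc_2_2 lc_a_rc_0_1 lc_a_rc_29_0 lc_a_rc_2_2 lc_a_rc_5_2 lc_a_rc_3_2 lc_a_rc_5_2 lc_a_rc_29_0 lc_a_rc_0_0 lc_a_rc_2_2 lc_a_rc_1_6 lc_a_rc_29_0 lc_a_Cert_tree lc_a_rc_3_2 lc_a_rc_2_2 lc_a_rc_4_2)
def ce_a_6 : D2 → D3 → (Cert rels S Gen.a) := @D2.rec (fun _ => D3 → (Cert rels S Gen.a)) (@D3.rec (fun _ => (Cert rels S Gen.a)) lc_a_rc_0_1 lc_a_Cert_tree lc_a_rc_0_0 lc_a_rc_2_2 lc_a_rc_29_0 lc_a_rc_29_0 lc_a_rc_2_2 lc_a_rc_6_2 lc_a_rc_3_2 lc_a_rc_6_2 lc_a_rc_0_0 lc_a_rc_4_2 lc_a_rc_4_2 lc_a_rc_28_0 lc_a_rc_3_2 lc_a_rc_6_2 lc_a_Cert_tree lc_a_rc_28_0 lc_a_rc_2_0 lc_a_rc_6_2 lc_a_rc_2_0 lc_a_rc_0_0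 lc_a_Cert_tree lc_a_rc_4_2 lc_a_rc_4_2 lc_a_rc_28_0 lc_a_rc_3_2 lc_a_rc_5_2 lc_a_Cert_tree lc_a_rc_28_0 lc_a_rc_2_0 lc_a_rc_5_2 lc_a_rc_30_16 lc_a_rc_29_0 lc_a_Cert_tree lc_a_rc_5_2 lc_a_rc_6_2 lc_a_rc_29_0 lc_a_rc_29_0 lc_a_rc_29_0) (@D3.rec (fun _ => (Cert rels S Gen.a)) lc_a_rc_3_2 lc_a_rc_5_2 lc_a_rc_6_2 lc_a_rc_2_2 lc_a_rc_4_2 lc_a_rc_6_2 lc_a_Cert_tree lc_a_rc_0_0 lc_a_rc_5_2 lc_a_rc_1_4 lc_a_rc_28_0 lc_a_rc_2_2 lc_a_rc_2_2 lc_a_rc_6_2 lc_a_Cert_tree lc_a_rc_0_0 lc_a_rc_0_0 lc_a_rc_0_1 lc_a_Cert_tree lc_a_rc_0_0 lc_a_rc_2_2 lc_a_rc_5_0 lc_a_rc_5_2 lc_a_rc_6_2 lc_a_rc_0_1 lc_a_rc_29_0 lc_a_rc_29_0 lc_a_rc_3_2 lc_a_rc_5_2 lc_a_rc_6_2 lc_a_rc_2_2 lc_a_rc_4_2 lc_a_rc_5_2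 lc_a_Cert_tree lc_a_rc_0_0 lc_a_rc_2_2 lc_a_rc_29_0 lc_a_rc_28_0 lc_a_rc_2_2 lc_a_rc_2_2) (@D3.rec (fun _ => (Cert rels S Gen.a)) lc_a_rc_5_2 lc_a_Cert_tree lc_a_rc_29_0 lc_a_rc_0_0 lc_a_rc_29_0 lc_a_Cert_tree lc_a_rc_0_0 lc_a_rc_2_2 lc_a_rc_0_1 lc_a_rc_28_0 lc_a_rc_3_2 lc_a_rc_5_2 lc_a_rc_6_2 lc_a_rc_2_2 lc_a_rc_4_2 lc_a_rc_5_2 lc_a_rc_6_2 lc_a_rc_29_0 lc_a_Cert_tree lc_a_rc_29_0 lc_a_rc_0_0 lc_a_rc_5_2 lc_a_Cert_tree lc_a_rc_0_0 lc_a_rc_2_2 lc_a_rc_5_2 lc_a_rc_4_2 lc_a_rc_5_2 lc_a_rc_29_0 lc_a_rc_28_0 lc_a_rc_3_2 lc_a_rc_5_2 lc_a_rc_6_2 lc_a_rc_2_2 lc_a_rc_4_2 lc_a_rc_5_2 lc_a_rc_6_2 lc_a_Cert_tree lc_a_rc_29_0 lc_a_rc_29_0) (@D3.rec (fun _ => (Cert rels S Gen.a))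 lc_a_rc_0_0 lc_a_rc_6_2 lc_a_Cert_tree lc_a_rc_0_0 lc_a_rc_2_2 lc_a_rc_6_2 lc_a_rc_28_0 lc_a_rc_6_2 lc_a_rc_0_0 lc_a_rc_28_0 lc_a_rc_3_2 lc_a_rc_5_2 lc_a_rc_6_2 lc_a_rc_2_2 lc_a_rc_4_2 lc_a_rc_5_2 lc_a_rc_6_2 lc_a_rc_29_0 lc_a_rc_29_0 lc_a_rc_30_12 lc_a_rc_3_2 lc_a_rc_5_2 lc_a_rc_6_2 lc_a_rc_2_2 lc_a_rc_4_2 lc_a_rc_5_2 lc_a_rc_6_2 lc_a_rc_29_0 lc_a_rc_29_0 lc_a_rc_6_0 lc_a_rc_1_4 lc_a_rc_29_0 lc_a_rc_29_0 lc_a_rc_0_0 lc_a_rc_2_2 lc_a_rc_29_0 lc_a_rc_0_0 lc_a_rc_29_0 lc_a_rc_1_8 lc_a_rc_29_0) (@D3.rec (fun _ => (Cert rels S Gen.a)) lc_a_rc_2_2 lc_a_rc_29_0 lc_a_rc_2_2 lc_a_rc_29_0 lc_a_rc_1_2 lc_a_rc_2_2 lc_a_rc_5_2 lc_a_rc_28_0 lc_a_rc_0_1 lc_a_rc_29_0 lc_a_rc_29_0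 lc_a_rc_0_0 lc_a_rc_0_0 lc_a_rc_3_2 lc_a_rc_29_0 lc_a_rc_6_2 lc_a_rc_4_2 lc_a_rc_4_2 lc_a_rc_29_0 lc_a_rc_29_0 lc_a_Cert_tree lc_a_rc_0_0 lc_a_rc_2_2 lc_a_rc_5_2 lc_a_rc_5_0 lc_a_rc_2_2 lc_a_rc_3_2 lc_a_rc_0_1 lc_a_rc_29_0 lc_a_Cert_tree lc_a_rc_3_2 lc_a_rc_5_2 lc_a_rc_28_0 lc_a_rc_28_0 lc_a_rc_5_2 lc_a_rc_29_0 lc_a_rc_2_2 lc_a_rc_4_0 lc_a_rc_3_2 lc_a_rc_2_2) (@D3.rec (fun _ => (Cert rels S Gen.a)) lc_a_rc_29_0 lc_a_rc_29_0 lc_a_rc_0_0 lc_a_rc_0_0 lc_a_rc_3_2 lc_a_rc_5_2 lc_a_rc_2_0 lc_a_rc_4_2 lc_a_rc_4_2 lc_a_rc_2_2 lc_a_rc_0_1 lc_a_Cert_tree lc_a_rc_0_0 lc_a_rc_2_2 lc_a_rc_6_2 lc_a_rc_29_0 lc_a_rc_2_2 lc_a_rc_3_2 lc_a_rc_29_0 lc_a_rc_29_0 lc_a_Cert_tree lc_a_rc_3_2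 lc_a_rc_6_2 lc_a_rc_28_0 lc_a_rc_3_0 lc_a_rc_6_2 lc_a_rc_0_0 lc_a_rc_1_2 lc_a_rc_1_2 lc_a_rc_29_0 lc_a_rc_28_0 lc_a_rc_28_0 lc_a_rc_29_0 lc_a_rc_6_2 lc_a_Cert_tree lc_a_rc_0_0 lc_a_rc_29_0 lc_a_rc_5_2 lc_a_rc_1_4 lc_a_rc_2_2) (@D3.rec (fun _ => (Cert rels S Gen.a)) lc_a_rc_5_2 lc_a_rc_28_0 lc_a_rc_0_1 lc_a_rc_0_0 lc_a_rc_28_0 lc_a_rc_29_0 lc_a_rc_0_1 lc_a_rc_4_2 lc_a_rc_0_0 lc_a_Cert_tree lc_a_rc_0_0 lc_a_rc_0_0 lc_a_Cert_tree lc_a_Cert_tree lc_a_Cert_tree lc_a_rc_0_0 lc_a_rc_2_2 lc_a_rc_6_2 lc_a_rc_2_2 lc_a_rc_3_2 lc_a_rc_29_0 lc_a_rc_1_4 lc_a_rc_1_2 lc_a_rc_0_0 lc_a_rc_28_0 lc_a_rc_28_0 lc_a_rc_4_0 lc_a_rc_5_2 lc_a_Cert_tree lc_a_rc_0_0 lc_a_rc_5_0 lc_a_rc_6_2 lc_a_rc_1_4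 lc_a_rc_2_2 lc_a_rc_28_0 lc_a_rc_6_2 lc_a_rc_0_0 lc_a_rc_28_0 lc_a_rc_0_0 lc_a_rc_0_1) (@D3.rec (fun _ => (Cert rels S Gen.a)) lc_a_rc_4_2 lc_a_rc_2_2 lc_a_Cert_tree lc_a_rc_29_0 lc_a_rc_0_0 lc_a_Cert_tree lc_a_Cert_tree lc_a_Cert_tree lc_a_rc_0_0 lc_a_rc_2_2 lc_a_rc_5_2 lc_a_rc_2_2 lc_a_rc_3_2 lc_a_rc_0_1 lc_a_rc_29_0 lc_a_rc_0_0 lc_a_rc_2_2 lc_a_rc_4_2 lc_a_rc_5_2 lc_a_rc_6_2 lc_a_rc_1_6 lc_a_Cert_tree lc_a_rc_2_2 lc_a_rc_2_2 lc_a_rc_5_2 lc_a_rc_6_2 lc_a_rc_29_0 lc_a_Cert_tree lc_a_rc_0_0 lc_a_Cert_tree lc_a_rc_0_0 lc_a_rc_0_1 lc_a_Cert_tree lc_a_Cert_tree lc_a_rc_0_0 lc_a_rc_1_6 lc_a_rc_5_2 lc_a_rc_29_0 lc_a_rc_1_6 lc_a_Cert_tree) (@D3.rec (fun _ => (Cert rels S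 Gen.a)) lc_a_rc_3_2 lc_a_Cert_tree lc_a_rc_0_0 lc_a_rc_2_2 lc_a_rc_5_2 lc_a_rc_0_0 lc_a_rc_2_2 lc_a_rc_1_4 lc_a_rc_3_2 lc_a_rc_2_2 lc_a_rc_28_0 lc_a_rc_29_0 lc_a_rc_29_0 lc_a_Cert_tree lc_a_rc_0_0 lc_a_rc_2_2 lc_a_rc_4_2 lc_a_rc_5_2 lc_a_rc_6_2 lc_a_Cert_tree lc_a_rc_5_0 lc_a_rc_2_2 lc_a_rc_2_2 lc_a_rc_5_2 lc_a_rc_6_2 lc_a_Cert_tree lc_a_rc_29_0 lc_a_rc_0_0 lc_a_rc_0_0 lc_a_rc_29_0 lc_a_Cert_tree lc_a_Cert_tree lc_a_Cert_tree lc_a_rc_0_0 lc_a_rc_5_0 lc_a_rc_6_2 lc_a_rc_0_0 lc_a_rc_1_6 lc_a_Cert_tree lc_a_rc_3_2) (@D3.rec (fun _ => (Cert rels S Gen.a)) lc_a_Cert_tree lc_a_rc_0_0 lc_a_rc_2_2 lc_a_rc_6_2 lc_a_rc_0_0 lc_a_rc_29_0 lc_a_rc_3_0 lc_a_rc_1_6 lc_a_rc_5_2 lc_a_rc_6_2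 lc_a_Cert_tree lc_a_rc_28_0 lc_a_rc_28_0 lc_a_rc_4_2 lc_a_Cert_tree lc_a_rc_0_0 lc_a_rc_5_2 lc_a_rc_0_0 lc_a_rc_30_16 lc_a_rc_28_0 lc_a_rc_6_2 lc_a_rc_4_2 lc_a_rc_6_2 lc_a_rc_3_2 lc_a_rc_6_2 lc_a_rc_3_2 lc_a_rc_3_0 lc_a_rc_6_2 lc_a_rc_6_2 lc_a_rc_29_0 lc_a_rc_3_2 lc_a_rc_3_2 lc_a_rc_3_2 lc_a_rc_29_0 lc_a_Cert_tree lc_a_rc_0_0 lc_a_rc_28_0 lc_a_rc_0_0 lc_a_rc_2_2 lc_a_rc_0_1) (@D3.rec (fun _ => (Cert rels S Gen.a)) lc_a_rc_29_0 lc_a_rc_3_2 lc_a_rc_29_0 lc_a_rc_29_0 lc_a_rc_29_0 lc_a_Cert_tree lc_a_rc_0_0 lc_a_rc_2_2 lc_a_rc_5_2 lc_a_rc_2_2 lc_a_rc_5_2 lc_a_rc_3_2 lc_a_rc_5_2 lc_a_rc_29_0 lc_a_rc_28_0 lc_a_Cert_tree lc_a_rc_3_2 lc_a_rc_28_0 lc_a_rc_4_2 lc_a_rc_28_0 lc_a_rc_6_2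 lc_a_rc_4_2 lc_a_Cert_tree lc_a_rc_0_0 lc_a_rc_6_2 lc_a_rc_0_0 lc_a_rc_28_0 lc_a_rc_5_2 lc_a_rc_28_0 lc_a_rc_4_2 lc_a_rc_5_2 lc_a_rc_3_2 lc_a_rc_5_2 lc_a_rc_3_2 lc_a_rc_5_2 lc_a_rc_1_4 lc_a_rc_5_2 lc_a_rc_5_2 lc_a_rc_2_2 lc_a_rc_3_2) (@D3.rec (fun _ => (Cert rels S Gen.a)) lc_a_rc_28_0 lc_a_Cert_tree lc_a_rc_28_0 lc_a_rc_0_0 lc_a_rc_2_2 lc_a_rc_29_0 lc_a_rc_3_2 lc_a_rc_1_2 lc_a_rc_4_0 lc_a_rc_6_2 lc_a_Cert_tree lc_a_rc_0_0 lc_a_rc_2_2 lc_a_rc_29_0 lc_a_rc_2_2 lc_a_rc_3_2 lc_a_rc_28_0 lc_a_rc_0_0 lc_a_rc_3_2 lc_a_Cert_tree lc_a_rc_4_2 lc_a_rc_0_0 lc_a_rc_5_2 lc_a_rc_28_0 lc_a_Cert_tree lc_a_Cert_tree lc_a_rc_6_2 lc_a_rc_0_0 lc_a_rc_6_2 lc_a_rc_28_0 lc_a_rc_29_0 lc_a_Cert_tree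 lc_a_rc_0_0 lc_a_rc_29_0 lc_a_rc_0_0 lc_a_rc_29_0 lc_a_rc_3_2 lc_a_Cert_tree lc_a_rc_29_0 lc_a_rc_0_0) (@D3.rec (fun _ => (Cert rels S Gen.a)) lc_a_rc_0_1 lc_a_rc_29_0 lc_a_rc_0_0 lc_a_rc_29_0 lc_a_rc_29_0 lc_a_Cert_tree lc_a_rc_2_2 lc_a_rc_28_0 lc_a_rc_0_0 lc_a_Cert_tree lc_a_rc_0_0 lc_a_rc_2_2 lc_a_Cert_tree lc_a_rc_0_0 lc_a_rc_2_2 lc_a_rc_5_2 lc_a_rc_29_0 lc_a_rc_2_2 lc_a_rc_5_2 lc_a_rc_28_0 lc_a_rc_5_2 lc_a_Cert_tree lc_a_rc_0_0 lc_a_rc_6_2 lc_a_rc_0_0 lc_a_rc_6_0 lc_a_rc_6_0 lc_a_rc_6_2 lc_a_rc_29_0 lc_a_rc_3_2 lc_a_rc_5_2 lc_a_Cert_tree lc_a_rc_4_2 lc_a_rc_29_0 lc_a_rc_0_0 lc_a_rc_29_0 lc_a_rc_29_0 lc_a_rc_29_0 lc_a_rc_2_2 lc_a_rc_6_2) (@D3.rec (fun _ => (Cert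 rels S Gen.a)) lc_a_rc_0_0 lc_a_Cert_tree lc_a_rc_3_2 lc_a_rc_4_2 lc_a_Cert_tree lc_a_rc_28_0 lc_a_rc_0_0 lc_a_rc_3_2 lc_a_rc_5_2 lc_a_rc_5_0 lc_a_rc_4_2 lc_a_Cert_tree lc_a_rc_4_2 lc_a_rc_29_0 lc_a_Cert_tree lc_a_rc_0_0 lc_a_rc_6_2 lc_a_rc_0_0 lc_a_rc_28_0 lc_a_rc_28_0 lc_a_Cert_tree lc_a_Cert_tree lc_a_rc_5_2 lc_a_rc_0_0 lc_a_rc_5_2 lc_a_rc_29_0 lc_a_Cert_tree lc_a_rc_29_0 lc_a_rc_0_0 lc_a_rc_29_0 lc_a_rc_0_0 lc_a_rc_28_0 lc_a_rc_4_0 lc_a_Cert_tree lc_a_rc_0_0 lc_a_rc_30_16 lc_a_rc_28_0 lc_a_Cert_tree lc_a_rc_2_2 lc_a_rc_28_0) (@D3.rec (fun _ => (Cert rels S Gen.a)) lc_a_rc_28_0 lc_a_Cert_tree lc_a_rc_0_0 lc_a_rc_2_2 lc_a_rc_0_0 lc_a_rc_29_0 lc_a_Cert_tree lc_a_rc_0_0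 lc_a_rc_2_2 lc_a_rc_6_2 lc_a_rc_29_0 lc_a_rc_2_2 lc_a_rc_6_2 lc_a_rc_28_0 lc_a_rc_6_2 lc_a_Cert_tree lc_a_rc_0_0 lc_a_rc_5_2 lc_a_rc_0_0 lc_a_rc_29_0 lc_a_rc_5_2 lc_a_rc_29_0 lc_a_rc_29_0 lc_a_rc_3_2 lc_a_rc_6_2 lc_a_Cert_tree lc_a_rc_4_2 lc_a_rc_0_1 lc_a_rc_0_0 lc_a_rc_29_0 lc_a_rc_0_1 lc_a_rc_29_0 lc_a_rc_2_2 lc_a_rc_5_2 lc_a_rc_29_0 lc_a_Cert_tree lc_a_rc_3_2 lc_a_rc_4_2 lc_a_Cert_tree lc_a_rc_29_0) (@D3.rec (fun _ => (Cert rels S Gen.a)) lc_a_rc_0_0 lc_a_rc_3_2 lc_a_rc_5_2 lc_a_rc_6_2 lc_a_rc_4_2 lc_a_Cert_tree lc_a_rc_4_2 lc_a_rc_29_0 lc_a_Cert_tree lc_a_rc_0_0 lc_a_rc_5_2 lc_a_rc_0_0 lc_a_rc_2_2 lc_a_rc_6_2 lc_a_rc_3_2 lc_a_rc_3_2 lc_a_rc_6_2 lc_a_rc_28_0 lc_a_rc_0_1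 lc_a_rc_28_0 lc_a_rc_6_2 lc_a_rc_29_0 lc_a_rc_0_0 lc_a_rc_6_2 lc_a_Cert_tree lc_a_rc_6_2 lc_a_rc_29_0 lc_a_rc_0_0 lc_a_rc_4_0 lc_a_Cert_tree lc_a_Cert_tree lc_a_rc_28_0 lc_a_rc_0_0 lc_a_rc_0_1 lc_a_rc_5_2 lc_a_rc_4_2 lc_a_rc_3_2 lc_a_rc_5_2 lc_a_rc_28_0 lc_a_rc_0_1) (@D3.rec (fun _ => (Cert rels S Gen.a)) lc_a_rc_5_2 lc_a_rc_28_0 lc_a_rc_29_0 lc_a_rc_0_0 lc_a_rc_4_2 lc_a_Cert_tree lc_a_rc_5_2 lc_a_rc_0_0 lc_a_rc_0_0 lc_a_rc_0_1 lc_a_Cert_tree lc_a_rc_0_0 lc_a_Cert_tree lc_a_rc_0_0 lc_a_rc_2_2 lc_a_rc_1_4 lc_a_rc_0_0 lc_a_rc_2_2 lc_a_rc_1_4 lc_a_rc_29_0 lc_a_rc_29_0 lc_a_rc_3_2 lc_a_rc_0_0 lc_a_rc_29_0 lc_a_rc_29_0 lc_a_Cert_tree lc_a_rc_29_0 lc_a_rc_29_0 lc_a_Cert_tree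 lc_a_rc_0_0 lc_a_rc_2_2 lc_a_rc_29_0 lc_a_Cert_tree lc_a_rc_0_0 lc_a_rc_2_2 lc_a_rc_0_1 lc_a_Cert_tree lc_a_rc_29_0 lc_a_rc_2_2 lc_a_rc_3_2) (@D3.rec (fun _ => (Cert rels S Gen.a)) lc_a_rc_29_0 lc_a_rc_29_0 lc_a_rc_0_0 lc_a_rc_2_2 lc_a_rc_0_0 lc_a_rc_5_0 lc_a_rc_2_2 lc_a_rc_3_2 lc_a_rc_0_1 lc_a_rc_6_2 lc_a_rc_0_0 lc_a_rc_2_2 lc_a_rc_29_0 lc_a_rc_1_4 lc_a_rc_3_2 lc_a_rc_5_2 lc_a_rc_6_2 lc_a_rc_5_2 lc_a_rc_6_2 lc_a_rc_4_0 lc_a_rc_29_0 lc_a_rc_30_0 lc_a_rc_29_0 lc_a_Cert_tree lc_a_Cert_tree lc_a_rc_0_0 lc_a_rc_2_2 lc_a_rc_6_2 lc_a_rc_0_0 lc_a_rc_2_2 lc_a_rc_5_2 lc_a_rc_28_0 lc_a_rc_2_2 lc_a_rc_6_2 lc_a_rc_3_2 lc_a_rc_6_2 lc_a_rc_0_0 lc_a_rc_28_0 lc_a_rc_2_2 lc_a_rc_5_2)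 (@D3.rec (fun _ => (Cert rels S Gen.a)) lc_a_rc_3_2 lc_a_rc_5_2 lc_a_rc_29_0 lc_a_rc_0_0 lc_a_rc_29_0 lc_a_rc_28_0 lc_a_rc_3_2 lc_a_rc_6_2 lc_a_rc_29_0 lc_a_rc_2_2 lc_a_rc_29_0 lc_a_rc_6_2 lc_a_rc_29_0 lc_a_rc_0_0 lc_a_rc_28_0 lc_a_rc_29_0 lc_a_rc_28_0 lc_a_rc_3_2 lc_a_rc_5_2 lc_a_rc_29_0 lc_a_rc_2_2 lc_a_rc_3_2 lc_a_rc_5_2 lc_a_rc_30_16 lc_a_rc_29_0 lc_a_rc_2_2 lc_a_Cert_tree lc_a_rc_2_2 lc_a_Cert_tree lc_a_rc_3_2 lc_a_rc_6_2 lc_a_rc_4_0 lc_a_rc_0_0 lc_a_rc_2_2 lc_a_rc_3_2 lc_a_rc_5_2 lc_a_rc_0_0 lc_a_rc_0_0 lc_a_rc_2_2 lc_a_rc_29_0) (@D3.rec (fun _ => (Cert rels S Gen.a)) lc_a_rc_0_1 lc_a_rc_29_0 lc_a_rc_0_1 lc_a_rc_4_2 lc_a_rc_29_0 lc_a_Cert_tree lc_a_rc_0_0 lc_a_rc_2_2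 lc_a_rc_0_1 lc_a_rc_28_0 lc_a_rc_2_2 lc_a_rc_5_2 lc_a_rc_3_2 lc_a_rc_5_2 lc_a_rc_29_0 lc_a_rc_2_2 lc_a_rc_28_0 lc_a_rc_29_0 lc_a_rc_0_1 lc_a_rc_29_0 lc_a_rc_0_1 lc_a_Cert_tree lc_a_rc_0_0 lc_a_rc_2_2 lc_a_rc_29_0 lc_a_rc_6_0 lc_a_rc_2_2 lc_a_rc_6_2 lc_a_rc_3_2 lc_a_rc_6_2 lc_a_rc_0_0 lc_a_rc_29_0 lc_a_rc_0_0 lc_a_rc_0_0 lc_a_rc_5_0 lc_a_rc_5_2 lc_a_rc_5_0 lc_a_rc_2_2 lc_a_rc_4_2 lc_a_rc_28_0) (@D3.rec (fun _ => (Cert rels S Gen.a)) lc_a_rc_28_0 lc_a_rc_29_0 lc_a_rc_29_0 lc_a_rc_29_0 lc_a_rc_29_0 lc_a_rc_29_0 lc_a_rc_2_2 lc_a_rc_3_2 lc_a_rc_0_1 lc_a_rc_29_0 lc_a_Cert_tree lc_a_rc_3_2 lc_a_rc_5_2 lc_a_rc_2_2 lc_a_rc_4_2 lc_a_rc_5_2 lc_a_rc_30_16 lc_a_rc_29_0 lc_a_rc_5_0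 lc_a_rc_29_0 lc_a_rc_0_0 lc_a_rc_0_0 lc_a_rc_28_0 lc_a_rc_5_2 lc_a_rc_5_0 lc_a_rc_2_2 lc_a_rc_4_2 lc_a_rc_28_0 lc_a_rc_2_2 lc_a_rc_0_1 lc_a_rc_3_2 lc_a_rc_30_16 lc_a_rc_6_2 lc_a_rc_29_0 lc_a_rc_2_2 lc_a_rc_3_2 lc_a_rc_29_0 lc_a_rc_0_0 lc_a_Cert_tree lc_a_rc_3_2) (@D3.rec (fun _ => (Cert rels S Gen.a)) lc_a_rc_6_2 lc_a_rc_2_2 lc_a_rc_4_2 lc_a_rc_6_2 lc_a_rc_29_0 lc_a_rc_0_0 lc_a_rc_29_0 lc_a_rc_29_0 lc_a_Cert_tree lc_a_rc_0_0 lc_a_rc_4_2 lc_a_rc_0_0 lc_a_rc_4_2 lc_a_rc_6_2 lc_a_Cert_tree lc_a_rc_0_0 lc_a_rc_2_2 lc_a_rc_5_2 lc_a_Cert_tree lc_a_rc_4_2 lc_a_rc_28_0 lc_a_rc_4_2 lc_a_rc_3_2 lc_a_rc_0_0 lc_a_rc_1_8 lc_a_rc_5_2 lc_a_Cert_tree lc_a_Cert_tree lc_a_rc_2_2 lc_a_rc_3_2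 lc_a_rc_0_1 lc_a_Cert_tree lc_a_rc_0_0 lc_a_rc_2_2 lc_a_rc_6_2 lc_a_rc_30_4 lc_a_rc_6_2 lc_a_Cert_tree lc_a_rc_3_2 lc_a_rc_5_2) (@D3.rec (fun _ => (Cert rels S Gen.a)) lc_a_rc_0_1 lc_a_rc_28_0 lc_a_rc_4_2 lc_a_rc_5_2 lc_a_rc_30_16 lc_a_rc_29_0 lc_a_Cert_tree lc_a_Cert_tree lc_a_rc_29_0 lc_a_rc_0_0 lc_a_rc_3_2 lc_a_rc_29_0 lc_a_rc_29_0 lc_a_rc_5_2 lc_a_Cert_tree lc_a_rc_0_0 lc_a_rc_2_2 lc_a_rc_29_0 lc_a_Cert_tree lc_a_rc_4_2 lc_a_rc_28_0 lc_a_rc_29_0 lc_a_rc_3_2 lc_a_rc_29_0 lc_a_rc_30_16 lc_a_rc_6_2 lc_a_Cert_tree lc_a_Cert_tree lc_a_rc_2_2 lc_a_rc_3_2 lc_a_rc_29_0 lc_a_Cert_tree lc_a_rc_0_0 lc_a_rc_2_2 lc_a_rc_5_2 lc_a_rc_4_2 lc_a_rc_6_2 lc_a_Cert_tree lc_a_rc_3_2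 lc_a_rc_6_2) (@D3.rec (fun _ => (Cert rels S Gen.a)) lc_a_rc_29_0 lc_a_rc_28_0 lc_a_rc_4_2 lc_a_rc_6_2 lc_a_rc_1_8 lc_a_rc_0_0 lc_a_Cert_tree lc_a_rc_6_0 lc_a_rc_1_8 lc_a_rc_28_0 lc_a_rc_28_0 lc_a_rc_4_2 lc_a_rc_5_2 lc_a_rc_6_2 lc_a_rc_29_0 lc_a_Cert_tree lc_a_rc_0_0 lc_a_rc_1_4 lc_a_rc_0_0 lc_a_rc_2_2 lc_a_rc_29_0 lc_a_rc_0_0 lc_a_rc_5_2 lc_a_rc_6_2 lc_a_rc_28_0 lc_a_rc_5_2 lc_a_rc_28_0 lc_a_rc_29_0 lc_a_Cert_tree lc_a_rc_29_0 lc_a_rc_0_1 lc_a_rc_2_2 lc_a_rc_2_2 lc_a_rc_6_2 lc_a_Cert_tree lc_a_rc_0_0 lc_a_rc_2_2 lc_a_rc_5_2 lc_a_rc_1_6 lc_a_rc_2_2) (@D3.rec (fun _ => (Cert rels S Gen.a)) lc_a_rc_5_2 lc_a_rc_3_2 lc_a_rc_5_2 lc_a_rc_0_0 lc_a_rc_3_2 lc_a_rc_28_0 lc_a_rc_5_2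 lc_a_rc_5_0 lc_a_rc_4_2 lc_a_rc_28_0 lc_a_rc_29_0 lc_a_rc_29_0 lc_a_rc_28_0 lc_a_Cert_tree lc_a_rc_0_0 lc_a_rc_0_0 lc_a_rc_28_0 lc_a_Cert_tree lc_a_Cert_tree lc_a_Cert_tree lc_a_rc_0_0 lc_a_rc_2_2 lc_a_rc_6_2 lc_a_rc_0_0 lc_a_rc_2_2 lc_a_rc_29_0 lc_a_rc_29_0 lc_a_Cert_tree lc_a_rc_3_2 lc_a_rc_2_2 lc_a_rc_4_2 lc_a_rc_0_1 lc_a_Cert_tree lc_a_rc_0_0 lc_a_rc_2_2 lc_a_rc_29_0 lc_a_rc_2_2 lc_a_rc_6_2 lc_a_rc_3_2 lc_a_rc_6_2) (@D3.rec (fun _ => (Cert rels S Gen.a)) lc_a_rc_0_0 lc_a_rc_2_2 lc_a_rc_5_2 lc_a_rc_6_2 lc_a_Cert_tree lc_a_rc_3_2 lc_a_rc_5_2 lc_a_rc_6_2 lc_a_rc_29_0 lc_a_rc_29_0 lc_a_rc_0_0 lc_a_rc_3_2 lc_a_rc_5_2 lc_a_rc_5_0 lc_a_rc_2_2 lc_a_rc_4_2 lc_a_rc_5_2 lc_a_rc_0_1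 lc_a_rc_0_1 lc_a_Cert_tree lc_a_rc_28_0 lc_a_rc_2_2 lc_a_rc_2_2 lc_a_rc_5_2 lc_a_rc_29_0 lc_a_Cert_tree lc_a_rc_0_0 lc_a_rc_2_2 lc_a_rc_0_1 lc_a_rc_1_2 lc_a_rc_29_0 lc_a_rc_28_0 lc_a_rc_28_0 lc_a_rc_4_2 lc_a_rc_5_2 lc_a_rc_6_2 lc_a_Cert_tree lc_a_rc_29_0 lc_a_rc_0_0 lc_a_rc_0_0)
def ce_a_7 : D2 → D3 → (Cert rels S Gen.a) := @D2.rec (fun _ => D3 → (Cert rels S Gen.a)) (@D3.rec (fun _ => (Cert rels S Gen.a)) lc_a_rc_2_2 lc_a_rc_29_0 lc_a_rc_0_0 lc_a_rc_5_2 lc_a_rc_6_2 lc_a_rc_28_0 lc_a_rc_28_0 lc_a_rc_5_0 lc_a_Cert_tree lc_a_rc_29_0 lc_a_rc_29_0 lc_a_rc_3_2 lc_a_rc_2_2 lc_a_rc_2_2 lc_a_rc_5_2 lc_a_Cert_tree lc_a_rc_0_0 lc_a_rc_2_2 lc_a_rc_6_2 lc_a_rc_29_0 lc_a_rc_2_2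 lc_a_rc_3_2 lc_a_rc_29_0 lc_a_rc_0_0 lc_a_rc_3_2 lc_a_rc_28_0 lc_a_rc_5_2 lc_a_rc_5_0 lc_a_rc_4_2 lc_a_rc_28_0 lc_a_rc_29_0 lc_a_rc_1_8 lc_a_rc_2_2 lc_a_Cert_tree lc_a_rc_29_0 lc_a_rc_0_0 lc_a_rc_29_0 lc_a_Cert_tree lc_a_Cert_tree lc_a_Cert_tree) (@D3.rec (fun _ => (Cert rels S Gen.a)) lc_a_rc_0_0 lc_a_rc_2_2 lc_a_rc_5_2 lc_a_rc_0_0 lc_a_rc_2_2 lc_a_rc_0_1 lc_a_rc_29_0 lc_a_Cert_tree lc_a_rc_3_2 lc_a_rc_2_2 lc_a_rc_4_2 lc_a_rc_29_0 lc_a_Cert_tree lc_a_rc_0_0 lc_a_rc_2_2 lc_a_rc_0_1 lc_a_rc_2_2 lc_a_rc_5_2 lc_a_rc_3_2 lc_a_rc_5_2 lc_a_rc_29_0 lc_a_rc_2_2 lc_a_rc_5_2 lc_a_rc_6_2 lc_a_Cert_tree lc_a_rc_3_2 lc_a_rc_5_2 lc_a_rc_6_2 lc_a_rc_29_0 lc_a_rc_0_1 lc_a_rc_0_0 lc_a_rc_3_2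 lc_a_rc_5_2 lc_a_rc_5_0 lc_a_rc_2_2 lc_a_rc_4_2 lc_a_rc_6_2 lc_a_rc_4_2 lc_a_rc_29_0 lc_a_Cert_tree) (@D3.rec (fun _ => (Cert rels S Gen.a)) lc_a_rc_28_0 lc_a_rc_2_2 lc_a_rc_2_2 lc_a_rc_6_2 lc_a_rc_0_0 lc_a_Cert_tree lc_a_rc_0_0 lc_a_rc_2_2 lc_a_rc_1_6 lc_a_rc_28_0 lc_a_rc_4_2 lc_a_rc_5_2 lc_a_rc_5_2 lc_a_rc_29_0 lc_a_rc_0_0 lc_a_rc_0_0 lc_a_rc_6_2 lc_a_Cert_tree lc_a_rc_0_1 lc_a_rc_3_2 lc_a_rc_0_0 lc_a_rc_3_2 lc_a_rc_5_2 lc_a_rc_5_0 lc_a_rc_28_0 lc_a_rc_4_2 lc_a_rc_1_4 lc_a_rc_3_2 lc_a_rc_5_2 lc_a_rc_6_2 lc_a_rc_28_0 lc_a_rc_4_2 lc_a_rc_5_2 lc_a_rc_6_2 lc_a_rc_29_0 lc_a_rc_29_0 lc_a_rc_0_0 lc_a_rc_4_2 lc_a_rc_5_2 lc_a_rc_5_0) (@D3.rec (fun _ => (Cert rels S Gen.a))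 lc_a_rc_28_0 lc_a_rc_4_2 lc_a_rc_6_2 lc_a_rc_6_2 lc_a_rc_0_0 lc_a_rc_0_0 lc_a_rc_1_4 lc_a_rc_5_2 lc_a_Cert_tree lc_a_rc_0_1 lc_a_rc_3_2 lc_a_rc_0_0 lc_a_rc_3_2 lc_a_rc_5_2 lc_a_rc_5_0 lc_a_rc_28_0 lc_a_rc_4_2 lc_a_rc_1_4 lc_a_rc_3_2 lc_a_rc_5_2 lc_a_rc_6_2 lc_a_rc_28_0 lc_a_rc_4_2 lc_a_rc_5_2 lc_a_rc_6_2 lc_a_rc_29_0 lc_a_rc_29_0 lc_a_rc_0_0 lc_a_rc_4_2 lc_a_rc_5_2 lc_a_rc_5_0 lc_a_rc_1_4 lc_a_rc_2_2 lc_a_Cert_tree lc_a_rc_28_0 lc_a_rc_3_2 lc_a_rc_2_2 lc_a_Cert_tree lc_a_rc_28_0 lc_a_rc_2_2) (@D3.rec (fun _ => (Cert rels S Gen.a)) lc_a_rc_2_2 lc_a_rc_2_2 lc_a_rc_1_2 lc_a_rc_29_0 lc_a_rc_5_0 lc_a_rc_0_1 lc_a_rc_2_2 lc_a_rc_2_2 lc_a_rc_2_2 lc_a_rc_2_2 lc_a_rc_2_2 lc_a_rc_2_2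 lc_a_rc_1_6 lc_a_rc_4_2 lc_a_rc_28_0 lc_a_rc_28_0 lc_a_rc_28_0 lc_a_rc_29_0 lc_a_rc_29_0 lc_a_rc_29_0 lc_a_rc_0_0 lc_a_rc_4_2 lc_a_rc_29_0 lc_a_rc_4_2 lc_a_rc_0_0 lc_a_rc_29_0 lc_a_rc_28_0 lc_a_rc_29_0 lc_a_rc_28_0 lc_a_rc_29_0 lc_a_rc_29_0 lc_a_rc_29_0 lc_a_rc_0_0 lc_a_rc_0_1 lc_a_rc_29_0 lc_a_rc_29_0 lc_a_rc_0_0 lc_a_rc_0_0 lc_a_rc_29_0 lc_a_rc_29_0) (@D3.rec (fun _ => (Cert rels S Gen.a)) lc_a_rc_3_2 lc_a_rc_4_2 lc_a_rc_29_0 lc_a_rc_0_1 lc_a_rc_2_2 lc_a_rc_3_2 lc_a_rc_0_0 lc_a_rc_29_0 lc_a_rc_29_0 lc_a_rc_3_2 lc_a_rc_4_2 lc_a_rc_0_1 lc_a_rc_29_0 lc_a_rc_2_2 lc_a_rc_3_2 lc_a_rc_29_0 lc_a_rc_0_0 lc_a_rc_29_0 lc_a_rc_29_0 lc_a_rc_0_0 lc_a_rc_29_0 lc_a_rc_29_0 lc_a_rc_4_2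 lc_a_rc_6_2 lc_a_rc_5_2 lc_a_rc_28_0 lc_a_rc_6_2 lc_a_rc_29_0 lc_a_rc_0_0 lc_a_rc_29_0 lc_a_rc_29_0 lc_a_rc_0_0 lc_a_rc_29_0 lc_a_rc_0_0 lc_a_rc_29_0 lc_a_rc_29_0 lc_a_rc_4_2 lc_a_rc_5_2 lc_a_rc_1_4 lc_a_rc_0_0) (@D3.rec (fun _ => (Cert rels S Gen.a)) lc_a_rc_5_2 lc_a_rc_3_2 lc_a_rc_29_0 lc_a_rc_6_2 lc_a_rc_29_0 lc_a_rc_0_0 lc_a_rc_29_0 lc_a_rc_29_0 lc_a_rc_1_4 lc_a_rc_3_2 lc_a_rc_5_2 lc_a_rc_6_2 lc_a_rc_28_0 lc_a_rc_29_0 lc_a_rc_28_0 lc_a_rc_6_2 lc_a_rc_29_0 lc_a_rc_29_0 lc_a_rc_2_2 lc_a_rc_3_2 lc_a_rc_4_2 lc_a_rc_29_0 lc_a_rc_29_0 lc_a_rc_29_0 lc_a_rc_29_0 lc_a_rc_29_0 lc_a_rc_28_0 lc_a_rc_29_0 lc_a_rc_28_0 lc_a_rc_3_2 lc_a_rc_2_2 lc_a_rc_4_2 lc_a_rc_0_1 lc_a_Cert_tree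 lc_a_rc_29_0 lc_a_rc_0_0 lc_a_rc_3_2 lc_a_rc_29_0 lc_a_rc_6_2 lc_a_rc_2_2) (@D3.rec (fun _ => (Cert rels S Gen.a)) lc_a_rc_4_2 lc_a_rc_5_2 lc_a_Cert_tree lc_a_rc_2_2 lc_a_rc_5_2 lc_a_rc_3_2 lc_a_rc_29_0 lc_a_rc_6_2 lc_a_Cert_tree lc_a_rc_0_0 lc_a_rc_0_0 lc_a_rc_28_0 lc_a_rc_1_2 lc_a_rc_1_4 lc_a_rc_3_2 lc_a_rc_5_2 lc_a_rc_6_2 lc_a_rc_28_0 lc_a_rc_29_0 lc_a_rc_5_2 lc_a_rc_28_0 lc_a_rc_29_0 lc_a_rc_29_0 lc_a_rc_2_2 lc_a_rc_1_4 lc_a_rc_4_2 lc_a_rc_4_2 lc_a_rc_28_0 lc_a_rc_6_2 lc_a_rc_3_2 lc_a_rc_6_2 lc_a_rc_28_0 lc_a_rc_0_0 lc_a_rc_28_0 lc_a_rc_3_2 lc_a_rc_2_2 lc_a_rc_4_2 lc_a_rc_29_0 lc_a_Cert_tree lc_a_rc_1_6) (@D3.rec (fun _ => (Cert rels S Gen.a)) lc_a_rc_0_0 lc_a_rc_3_2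 lc_a_rc_5_2 lc_a_rc_29_0 lc_a_rc_2_2 lc_a_rc_4_2 lc_a_rc_6_2 lc_a_Cert_tree lc_a_rc_2_2 lc_a_rc_6_2 lc_a_rc_29_0 lc_a_rc_0_0 lc_a_rc_29_0 lc_a_Cert_tree lc_a_rc_29_0 lc_a_rc_29_0 lc_a_rc_5_2 lc_a_Cert_tree lc_a_rc_28_0 lc_a_rc_29_0 lc_a_Cert_tree lc_a_rc_28_0 lc_a_Cert_tree lc_a_rc_0_0 lc_a_rc_2_2 lc_a_rc_5_2 lc_a_rc_6_0 lc_a_rc_2_2 lc_a_rc_2_2 lc_a_rc_3_2 lc_a_rc_29_0 lc_a_rc_0_0 lc_a_rc_2_2 lc_a_rc_4_2 lc_a_rc_5_2 lc_a_rc_6_2 lc_a_Cert_tree lc_a_rc_29_0 lc_a_rc_3_2 lc_a_rc_4_2) (@D3.rec (fun _ => (Cert rels S Gen.a)) lc_a_rc_2_2 lc_a_rc_2_2 lc_a_rc_5_2 lc_a_rc_6_2 lc_a_rc_29_0 lc_a_Cert_tree lc_a_rc_0_0 lc_a_rc_1_6 lc_a_rc_0_0 lc_a_rc_2_2 lc_a_rc_2_2 lc_a_Cert_tree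 lc_a_rc_0_0 lc_a_rc_5_2 lc_a_rc_29_0 lc_a_rc_2_2 lc_a_rc_5_2 lc_a_rc_3_2 lc_a_rc_5_2 lc_a_rc_29_0 lc_a_rc_29_0 lc_a_rc_1_6 lc_a_rc_3_2 lc_a_rc_5_2 lc_a_rc_2_2 lc_a_rc_4_2 lc_a_rc_5_2 lc_a_Cert_tree lc_a_rc_28_0 lc_a_rc_4_2 lc_a_rc_29_0 lc_a_rc_28_0 lc_a_rc_0_1 lc_a_rc_28_0 lc_a_rc_0_0 lc_a_rc_2_2 lc_a_rc_2_0 lc_a_rc_2_0 lc_a_rc_0_0 lc_a_rc_0_1) (@D3.rec (fun _ => (Cert rels S Gen.a)) lc_a_rc_28_0 lc_a_Cert_tree lc_a_Cert_tree lc_a_Cert_tree lc_a_rc_0_0 lc_a_rc_29_0 lc_a_rc_6_2 lc_a_rc_0_0 lc_a_rc_2_2 lc_a_rc_1_4 lc_a_rc_29_0 lc_a_Cert_tree lc_a_rc_3_2 lc_a_rc_6_2 lc_a_rc_4_2 lc_a_Cert_tree lc_a_rc_0_0 lc_a_rc_2_2 lc_a_rc_2_2 lc_a_rc_6_2 lc_a_rc_29_0 lc_a_rc_6_2 lc_a_rc_29_0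 lc_a_rc_2_2 lc_a_Cert_tree lc_a_rc_3_2 lc_a_rc_2_2 lc_a_rc_29_0 lc_a_rc_0_0 lc_a_rc_3_2 lc_a_rc_6_0 lc_a_rc_6_2 lc_a_rc_2_2 lc_a_rc_4_2 lc_a_Cert_tree lc_a_rc_28_0 lc_a_rc_2_2 lc_a_rc_2_2 lc_a_rc_0_1 lc_a_Cert_tree) (@D3.rec (fun _ => (Cert rels S Gen.a)) lc_a_rc_0_0 lc_a_rc_2_2 lc_a_rc_6_2 lc_a_rc_2_2 lc_a_rc_3_2 lc_a_rc_29_0 lc_a_rc_3_2 lc_a_rc_6_2 lc_a_rc_29_0 lc_a_rc_4_2 lc_a_rc_28_0 lc_a_rc_0_1 lc_a_rc_0_0 lc_a_rc_30_16 lc_a_rc_5_2 lc_a_rc_6_2 lc_a_rc_0_0 lc_a_rc_28_0 lc_a_rc_0_1 lc_a_rc_6_2 lc_a_rc_28_0 lc_a_rc_28_0 lc_a_Cert_tree lc_a_rc_1_8 lc_a_rc_29_0 lc_a_rc_1_4 lc_a_rc_3_2 lc_a_rc_5_2 lc_a_rc_6_2 lc_a_rc_28_0 lc_a_rc_4_2 lc_a_rc_28_0 lc_a_rc_6_2 lc_a_rc_4_0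 lc_a_rc_29_0 lc_a_rc_29_0 lc_a_Cert_tree lc_a_rc_2_2 lc_a_rc_2_2 lc_a_rc_5_2) (@D3.rec (fun _ => (Cert rels S Gen.a)) lc_a_rc_2_2 lc_a_rc_6_2 lc_a_rc_3_2 lc_a_rc_0_0 lc_a_rc_3_2 lc_a_rc_4_2 lc_a_rc_5_2 lc_a_rc_5_0 lc_a_rc_4_2 lc_a_rc_28_0 lc_a_rc_3_2 lc_a_rc_2_2 lc_a_rc_2_2 lc_a_rc_29_0 lc_a_Cert_tree lc_a_rc_0_0 lc_a_rc_2_2 lc_a_rc_5_2 lc_a_rc_2_2 lc_a_rc_28_0 lc_a_rc_28_0 lc_a_rc_2_2 lc_a_rc_5_0 lc_a_Cert_tree lc_a_rc_29_0 lc_a_rc_28_0 lc_a_Cert_tree lc_a_rc_28_0 lc_a_rc_0_0 lc_a_rc_2_2 lc_a_rc_6_2 lc_a_rc_29_0 lc_a_Cert_tree lc_a_rc_2_2 lc_a_rc_3_2 lc_a_rc_29_0 lc_a_rc_0_0 lc_a_rc_2_2 lc_a_rc_4_2 lc_a_rc_5_2) (@D3.rec (fun _ => (Cert rels S Gen.a)) lc_a_rc_6_2 lc_a_Cert_tree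 lc_a_rc_29_0 lc_a_rc_3_2 lc_a_rc_28_0 lc_a_rc_2_2 lc_a_rc_2_2 lc_a_rc_5_2 lc_a_rc_6_2 lc_a_Cert_tree lc_a_rc_29_0 lc_a_rc_0_0 lc_a_rc_0_0 lc_a_rc_2_2 lc_a_rc_0_1 lc_a_rc_2_2 lc_a_Cert_tree lc_a_rc_0_0 lc_a_rc_6_2 lc_a_rc_1_6 lc_a_rc_2_2 lc_a_rc_6_2 lc_a_rc_28_0 lc_a_rc_6_2 lc_a_rc_1_6 lc_a_rc_2_2 lc_a_rc_30_4 lc_a_rc_3_2 lc_a_rc_2_2 lc_a_rc_4_2 lc_a_rc_29_0 lc_a_Cert_tree lc_a_rc_28_0 lc_a_rc_4_2 lc_a_rc_4_0 lc_a_rc_28_0 lc_a_rc_1_8 lc_a_rc_29_0 lc_a_rc_0_0 lc_a_rc_2_2) (@D3.rec (fun _ => (Cert rels S Gen.a)) lc_a_rc_2_0 lc_a_rc_2_0 lc_a_rc_0_0 lc_a_rc_4_2 lc_a_rc_4_2 lc_a_Cert_tree lc_a_Cert_tree lc_a_rc_29_0 lc_a_rc_0_0 lc_a_rc_0_1 lc_a_rc_5_2 lc_a_rc_0_0 lc_a_rc_2_2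 lc_a_rc_29_0 lc_a_rc_29_0 lc_a_rc_30_12 lc_a_rc_3_2 lc_a_rc_5_2 lc_a_rc_4_2 lc_a_Cert_tree lc_a_rc_0_0 lc_a_rc_2_2 lc_a_rc_2_2 lc_a_rc_5_2 lc_a_rc_28_0 lc_a_rc_5_2 lc_a_rc_29_0 lc_a_rc_2_2 lc_a_Cert_tree lc_a_rc_28_0 lc_a_rc_0_1 lc_a_rc_2_2 lc_a_rc_0_0 lc_a_rc_3_2 lc_a_rc_5_2 lc_a_rc_29_0 lc_a_rc_4_2 lc_a_Cert_tree lc_a_rc_4_2 lc_a_rc_29_0) (@D3.rec (fun _ => (Cert rels S Gen.a)) lc_a_rc_29_0 lc_a_Cert_tree lc_a_rc_0_0 lc_a_rc_2_2 lc_a_rc_5_2 lc_a_rc_2_2 lc_a_rc_3_2 lc_a_rc_0_1 lc_a_rc_3_2 lc_a_rc_5_2 lc_a_rc_29_0 lc_a_rc_4_2 lc_a_rc_28_0 lc_a_rc_2_2 lc_a_rc_29_0 lc_a_rc_2_0 lc_a_rc_5_2 lc_a_rc_0_0 lc_a_rc_28_0 lc_a_rc_5_2 lc_a_rc_1_2 lc_a_rc_4_2 lc_a_rc_2_0 lc_a_Cert_tree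 lc_a_rc_29_0 lc_a_rc_1_4 lc_a_rc_3_2 lc_a_rc_5_2 lc_a_rc_6_2 lc_a_rc_28_0 lc_a_rc_4_2 lc_a_rc_5_2 lc_a_rc_28_0 lc_a_rc_29_0 lc_a_rc_6_2 lc_a_rc_29_0 lc_a_rc_6_2 lc_a_rc_2_2 lc_a_rc_5_2 lc_a_rc_3_2) (@D3.rec (fun _ => (Cert rels S Gen.a)) lc_a_rc_0_0 lc_a_rc_4_2 lc_a_rc_5_2 lc_a_rc_5_0 lc_a_rc_28_0 lc_a_rc_4_2 lc_a_rc_0_0 lc_a_rc_0_0 lc_a_Cert_tree lc_a_rc_0_0 lc_a_rc_2_2 lc_a_rc_6_2 lc_a_rc_2_2 lc_a_rc_28_0 lc_a_rc_28_0 lc_a_rc_29_0 lc_a_rc_2_2 lc_a_rc_0_0 lc_a_rc_6_2 lc_a_rc_6_2 lc_a_rc_3_2 lc_a_rc_29_0 lc_a_rc_0_0 lc_a_rc_4_0 lc_a_rc_4_2 lc_a_rc_4_2 lc_a_rc_29_0 lc_a_rc_28_0 lc_a_Cert_tree lc_a_rc_0_0 lc_a_rc_2_2 lc_a_rc_0_1 lc_a_rc_5_2 lc_a_rc_30_16 lc_a_rc_28_0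 lc_a_rc_4_2 lc_a_rc_3_2 lc_a_rc_5_2 lc_a_rc_6_2 lc_a_rc_28_0) (@D3.rec (fun _ => (Cert rels S Gen.a)) lc_a_rc_4_2 lc_a_rc_28_0 lc_a_rc_28_0 lc_a_rc_29_0 lc_a_rc_29_0 lc_a_rc_30_16 lc_a_rc_4_2 lc_a_rc_1_4 lc_a_rc_29_0 lc_a_rc_6_2 lc_a_rc_28_0 lc_a_rc_4_2 lc_a_rc_5_2 lc_a_rc_6_2 lc_a_rc_29_0 lc_a_rc_29_0 lc_a_rc_28_0 lc_a_rc_2_2 lc_a_rc_0_1 lc_a_rc_5_2 lc_a_rc_6_2 lc_a_rc_29_0 lc_a_rc_0_0 lc_a_rc_0_1 lc_a_Cert_tree lc_a_rc_4_2 lc_a_rc_5_2 lc_a_rc_6_2 lc_a_rc_3_2 lc_a_rc_5_2 lc_a_rc_6_2 lc_a_rc_29_0 lc_a_rc_29_0 lc_a_rc_29_0 lc_a_rc_2_2 lc_a_rc_0_0 lc_a_rc_5_2 lc_a_rc_5_2 lc_a_rc_3_2 lc_a_rc_0_0) (@D3.rec (fun _ => (Cert rels S Gen.a)) lc_a_rc_29_0 lc_a_rc_5_2 lc_a_rc_4_2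 lc_a_rc_4_2 lc_a_rc_29_0 lc_a_rc_28_0 lc_a_Cert_tree lc_a_rc_0_0 lc_a_rc_2_2 lc_a_rc_29_0 lc_a_rc_28_0 lc_a_rc_28_0 lc_a_rc_6_2 lc_a_rc_4_2 lc_a_rc_3_2 lc_a_rc_5_2 lc_a_rc_6_2 lc_a_rc_28_0 lc_a_rc_4_2 lc_a_rc_30_4 lc_a_rc_28_0 lc_a_rc_29_0 lc_a_rc_29_0 lc_a_rc_30_16 lc_a_rc_4_2 lc_a_rc_1_4 lc_a_rc_5_2 lc_a_rc_29_0 lc_a_rc_28_0 lc_a_rc_4_2 lc_a_rc_5_2 lc_a_rc_6_2 lc_a_rc_29_0 lc_a_rc_29_0 lc_a_rc_28_0 lc_a_rc_2_2 lc_a_rc_0_1 lc_a_rc_5_2 lc_a_rc_6_2 lc_a_rc_29_0) (@D3.rec (fun _ => (Cert rels S Gen.a)) lc_a_rc_0_0 lc_a_Cert_tree lc_a_rc_29_0 lc_a_rc_4_2 lc_a_rc_5_2 lc_a_rc_6_2 lc_a_rc_3_2 lc_a_rc_5_2 lc_a_rc_6_2 lc_a_rc_29_0 lc_a_rc_29_0 lc_a_Cert_tree lc_a_rc_28_0 lc_a_rc_3_2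 lc_a_rc_29_0 lc_a_rc_29_0 lc_a_rc_28_0 lc_a_rc_4_2 lc_a_Cert_tree lc_a_rc_0_0 lc_a_rc_0_0 lc_a_rc_28_0 lc_a_rc_5_2 lc_a_rc_5_0 lc_a_rc_4_2 lc_a_rc_3_2 lc_a_rc_29_0 lc_a_rc_4_2 lc_a_rc_5_2 lc_a_rc_6_2 lc_a_rc_0_1 lc_a_rc_2_0 lc_a_rc_6_2 lc_a_rc_29_0 lc_a_rc_29_0 lc_a_rc_28_0 lc_a_rc_29_0 lc_a_rc_5_2 lc_a_rc_2_2 lc_a_rc_4_2) (@D3.rec (fun _ => (Cert rels S Gen.a)) lc_a_rc_5_2 lc_a_rc_6_2 lc_a_rc_3_2 lc_a_rc_29_0 lc_a_rc_28_0 lc_a_rc_2_2 lc_a_rc_2_2 lc_a_rc_2_2 lc_a_rc_3_2 lc_a_rc_5_2 lc_a_rc_6_2 lc_a_rc_29_0 lc_a_rc_28_0 lc_a_rc_0_0 lc_a_rc_0_1 lc_a_Cert_tree lc_a_rc_29_0 lc_a_rc_28_0 lc_a_rc_30_12 lc_a_rc_28_0 lc_a_rc_29_0 lc_a_rc_4_2 lc_a_Cert_tree lc_a_rc_0_0 lc_a_rc_0_0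 lc_a_rc_28_0 lc_a_rc_5_2 lc_a_rc_5_0 lc_a_rc_4_2 lc_a_rc_28_0 lc_a_rc_29_0 lc_a_rc_4_2 lc_a_rc_5_2 lc_a_rc_6_2 lc_a_rc_29_0 lc_a_rc_5_2 lc_a_rc_29_0 lc_a_rc_29_0 lc_a_rc_29_0 lc_a_rc_2_2) (@D3.rec (fun _ => (Cert rels S Gen.a)) lc_a_rc_5_2 lc_a_rc_2_2 lc_a_rc_4_2 lc_a_rc_5_2 lc_a_rc_1_4 lc_a_rc_28_0 lc_a_rc_2_2 lc_a_rc_28_0 lc_a_rc_29_0 lc_a_rc_29_0 lc_a_rc_5_2 lc_a_rc_29_0 lc_a_rc_28_0 lc_a_rc_4_2 lc_a_rc_5_2 lc_a_rc_0_0 lc_a_rc_2_2 lc_a_Cert_tree lc_a_rc_2_2 lc_a_rc_29_0 lc_a_rc_4_2 lc_a_rc_5_2 lc_a_rc_0_1 lc_a_rc_3_2 lc_a_rc_5_2 lc_a_rc_0_1 lc_a_rc_0_0 lc_a_rc_2_2 lc_a_rc_0_0 lc_a_rc_2_2 lc_a_rc_5_2 lc_a_Cert_tree lc_a_rc_2_2 lc_a_rc_3_2 lc_a_rc_2_2 lc_a_rc_0_0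 lc_a_rc_2_2 lc_a_rc_0_1 lc_a_Cert_tree lc_a_rc_3_2) (@D3.rec (fun _ => (Cert rels S Gen.a)) lc_a_rc_2_2 lc_a_rc_4_2 lc_a_rc_3_2 lc_a_rc_29_0 lc_a_rc_5_2 lc_a_Cert_tree lc_a_Cert_tree lc_a_rc_0_0 lc_a_rc_5_2 lc_a_rc_28_0 lc_a_rc_29_0 lc_a_rc_3_2 lc_a_rc_29_0 lc_a_rc_2_2 lc_a_rc_30_8 lc_a_rc_2_2 lc_a_rc_29_0 lc_a_rc_28_0 lc_a_rc_3_2 lc_a_rc_6_2 lc_a_rc_0_0 lc_a_rc_2_2 lc_a_rc_0_1 lc_a_rc_2_2 lc_a_rc_3_2 lc_a_rc_0_0 lc_a_rc_2_2 lc_a_rc_28_0 lc_a_Cert_tree lc_a_rc_3_2 lc_a_rc_2_2 lc_a_rc_4_2 lc_a_rc_3_2 lc_a_rc_0_0 lc_a_rc_6_2 lc_a_rc_28_0 lc_a_Cert_tree lc_a_rc_0_0 lc_a_rc_0_1 lc_a_rc_6_2) (@D3.rec (fun _ => (Cert rels S Gen.a)) lc_a_rc_0_0 lc_a_rc_30_12 lc_a_rc_6_2 lc_a_rc_29_0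 lc_a_rc_1_8 lc_a_rc_29_0 lc_a_rc_0_0 lc_a_rc_2_2 lc_a_rc_29_0 lc_a_rc_4_0 lc_a_rc_4_0 lc_a_rc_3_2 lc_a_rc_5_2 lc_a_rc_6_2 lc_a_rc_5_2 lc_a_rc_6_2 lc_a_rc_29_0 lc_a_rc_29_0 lc_a_Cert_tree lc_a_Cert_tree lc_a_rc_0_0 lc_a_rc_6_2 lc_a_rc_0_0 lc_a_rc_5_2 lc_a_rc_1_2 lc_a_rc_6_2 lc_a_rc_0_0 lc_a_rc_4_2 lc_a_rc_29_0 lc_a_Cert_tree lc_a_rc_0_0 lc_a_rc_4_2 lc_a_rc_0_1 lc_a_Cert_tree lc_a_Cert_tree lc_a_rc_0_0 lc_a_rc_2_2 lc_a_rc_5_2 lc_a_Cert_tree lc_a_rc_0_0) (@D3.rec (fun _ => (Cert rels S Gen.a)) lc_a_rc_2_2 lc_a_rc_6_2 lc_a_rc_6_2 lc_a_rc_4_2 lc_a_rc_0_0 lc_a_rc_5_2 lc_a_rc_4_2 lc_a_rc_29_0 lc_a_Cert_tree lc_a_Cert_tree lc_a_Cert_tree lc_a_Cert_tree lc_a_rc_3_2 lc_a_rc_3_2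 lc_a_rc_29_0 lc_a_rc_6_2 lc_a_rc_28_0 lc_a_rc_29_0 lc_a_rc_5_2 lc_a_rc_28_0 lc_a_rc_0_0 lc_a_rc_1_6 lc_a_rc_0_0 lc_a_rc_2_2 lc_a_rc_0_1 lc_a_rc_29_0 lc_a_rc_2_2 lc_a_rc_5_2 lc_a_rc_29_0 lc_a_rc_28_0 lc_a_rc_29_0 lc_a_rc_0_0 lc_a_rc_1_6 lc_a_rc_0_0 lc_a_rc_2_2 lc_a_rc_29_0 lc_a_rc_29_0 lc_a_rc_2_2 lc_a_rc_6_2 lc_a_rc_28_0) (@D3.rec (fun _ => (Cert rels S Gen.a)) lc_a_rc_28_0 lc_a_rc_0_0 lc_a_rc_6_2 lc_a_rc_29_0 lc_a_rc_29_0 lc_a_rc_0_0 lc_a_rc_2_2 lc_a_rc_5_2 lc_a_rc_0_0 lc_a_rc_28_0 lc_a_rc_29_0 lc_a_rc_5_2 lc_a_rc_0_1 lc_a_rc_29_0 lc_a_rc_0_0 lc_a_rc_2_2 lc_a_rc_29_0 lc_a_rc_0_0 lc_a_rc_0_1 lc_a_rc_0_1 lc_a_rc_0_0 lc_a_rc_0_0 lc_a_rc_29_0 lc_a_rc_0_0 lc_a_rc_3_0 lc_a_rc_0_1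 lc_a_rc_4_2 lc_a_rc_2_2 lc_a_rc_6_2 lc_a_rc_28_0 lc_a_rc_6_2 lc_a_rc_0_0 lc_a_rc_29_0 lc_a_rc_2_2 lc_a_rc_5_2 lc_a_rc_2_0 lc_a_rc_5_2 lc_a_rc_29_0 lc_a_rc_3_2 lc_a_rc_3_2)
def ce_a_8 : D2 → D3 → (Cert rels S Gen.a) := @D2.rec (fun _ => D3 → (Cert rels S Gen.a)) (@D3.rec (fun _ => (Cert rels S Gen.a)) lc_a_rc_0_0 lc_a_rc_0_0 lc_a_rc_6_2 lc_a_rc_0_0 lc_a_rc_0_0 lc_a_rc_5_2 lc_a_rc_2_2 lc_a_rc_28_0 lc_a_rc_29_0 lc_a_rc_2_2 lc_a_rc_29_0 lc_a_rc_0_1 lc_a_rc_6_2 lc_a_rc_0_0 lc_a_rc_3_2 lc_a_rc_6_2 lc_a_rc_29_0 lc_a_rc_6_2 lc_a_rc_0_0 lc_a_rc_0_0 lc_a_rc_29_0 lc_a_rc_4_2 lc_a_rc_3_2 lc_a_rc_5_2 lc_a_rc_29_0 lc_a_rc_5_2 lc_a_rc_29_0 lc_a_rc_29_0 lc_a_rc_29_0 lc_a_rc_0_0 lc_a_rc_0_0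 lc_a_rc_5_2 lc_a_rc_29_0 lc_a_Cert_tree lc_a_rc_0_0 lc_a_rc_5_0 lc_a_rc_0_1 lc_a_Cert_tree lc_a_rc_28_0 lc_a_rc_2_2) (@D3.rec (fun _ => (Cert rels S Gen.a)) lc_a_rc_3_2 lc_a_rc_29_0 lc_a_Cert_tree lc_a_rc_0_0 lc_a_rc_2_2 lc_a_rc_5_2 lc_a_rc_1_6 lc_a_rc_2_2 lc_a_rc_3_2 lc_a_rc_0_1 lc_a_Cert_tree lc_a_rc_0_0 lc_a_rc_2_2 lc_a_rc_6_2 lc_a_rc_0_1 lc_a_rc_6_2 lc_a_rc_0_0 lc_a_Cert_tree lc_a_rc_0_0 lc_a_rc_0_0 lc_a_rc_5_2 lc_a_rc_3_2 lc_a_rc_5_2 lc_a_rc_0_0 lc_a_Cert_tree lc_a_rc_29_0 lc_a_rc_0_0 lc_a_rc_6_2 lc_a_rc_6_2 lc_a_rc_28_0 lc_a_rc_3_2 lc_a_rc_6_2 lc_a_rc_3_0 lc_a_rc_4_2 lc_a_rc_6_2 lc_a_Cert_tree lc_a_rc_0_0 lc_a_rc_0_0 lc_a_rc_2_2 lc_a_rc_0_1) (@D3.rec (fun _ =>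 (Cert rels S Gen.a)) lc_a_rc_3_2 lc_a_Cert_tree lc_a_rc_2_2 lc_a_rc_5_2 lc_a_rc_3_2 lc_a_rc_5_2 lc_a_rc_29_0 lc_a_rc_5_2 lc_a_rc_4_2 lc_a_rc_3_2 lc_a_rc_5_2 lc_a_rc_29_0 lc_a_rc_4_2 lc_a_rc_5_2 lc_a_Cert_tree lc_a_rc_29_0 lc_a_rc_0_0 lc_a_rc_2_2 lc_a_rc_29_0 lc_a_rc_1_8 lc_a_Cert_tree lc_a_rc_2_2 lc_a_rc_6_2 lc_a_rc_3_2 lc_a_rc_6_2 lc_a_rc_0_0 lc_a_rc_29_0 lc_a_Cert_tree lc_a_rc_0_0 lc_a_rc_5_2 lc_a_rc_4_2 lc_a_rc_0_1 lc_a_Cert_tree lc_a_rc_0_0 lc_a_rc_6_2 lc_a_rc_0_0 lc_a_rc_3_2 lc_a_rc_28_0 lc_a_rc_28_0 lc_a_rc_0_0) (@D3.rec (fun _ => (Cert rels S Gen.a)) lc_a_rc_0_0 lc_a_rc_28_0 lc_a_rc_28_0 lc_a_rc_6_2 lc_a_rc_5_2 lc_a_rc_28_0 lc_a_rc_29_0 lc_a_rc_0_0 lc_a_rc_29_0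 lc_a_rc_0_1 lc_a_rc_0_0 lc_a_rc_0_0 lc_a_rc_29_0 lc_a_Cert_tree lc_a_rc_0_0 lc_a_rc_2_2 lc_a_rc_0_1 lc_a_rc_2_2 lc_a_rc_5_2 lc_a_rc_28_0 lc_a_rc_5_2 lc_a_rc_29_0 lc_a_rc_0_0 lc_a_rc_29_0 lc_a_Cert_tree lc_a_rc_0_0 lc_a_rc_2_2 lc_a_rc_29_0 lc_a_rc_2_2 lc_a_rc_6_2 lc_a_rc_28_0 lc_a_rc_6_2 lc_a_rc_0_0 lc_a_rc_6_2 lc_a_rc_28_0 lc_a_rc_0_0 lc_a_rc_5_2 lc_a_rc_28_0 lc_a_rc_29_0 lc_a_rc_6_0) (@D3.rec (fun _ => (Cert rels S Gen.a)) lc_a_rc_0_0 lc_a_rc_6_2 lc_a_rc_29_0 lc_a_rc_29_0 lc_a_rc_2_0 lc_a_rc_28_0 lc_a_rc_29_0 lc_a_rc_5_0 lc_a_rc_0_0 lc_a_rc_28_0 lc_a_rc_0_1 lc_a_rc_29_0 lc_a_rc_28_0 lc_a_rc_2_2 lc_a_rc_5_2 lc_a_rc_6_2 lc_a_rc_28_0 lc_a_rc_4_2 lc_a_rc_6_2 lc_a_rc_0_1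 lc_a_rc_2_2 lc_a_rc_5_2 lc_a_rc_6_2 lc_a_Cert_tree lc_a_rc_0_0 lc_a_rc_0_1 lc_a_rc_29_0 lc_a_rc_2_2 lc_a_rc_4_0 lc_a_rc_0_1 lc_a_Cert_tree lc_a_rc_0_0 lc_a_rc_2_2 lc_a_rc_6_2 lc_a_rc_0_0 lc_a_rc_2_2 lc_a_rc_5_2 lc_a_rc_29_0 lc_a_rc_5_2 lc_a_rc_2_2) (@D3.rec (fun _ => (Cert rels S Gen.a)) lc_a_rc_4_2 lc_a_rc_5_2 lc_a_rc_29_0 lc_a_rc_0_1 lc_a_rc_29_0 lc_a_rc_30_4 lc_a_rc_4_2 lc_a_rc_5_2 lc_a_rc_29_0 lc_a_rc_29_0 lc_a_rc_29_0 lc_a_rc_5_2 lc_a_Cert_tree lc_a_rc_0_0 lc_a_rc_29_0 lc_a_rc_28_0 lc_a_rc_2_2 lc_a_rc_5_2 lc_a_rc_29_0 lc_a_Cert_tree lc_a_rc_0_0 lc_a_rc_2_2 lc_a_rc_5_2 lc_a_rc_0_0 lc_a_rc_2_2 lc_a_rc_4_0 lc_a_rc_6_2 lc_a_rc_6_2 lc_a_rc_2_2 lc_a_rc_30_12 lc_a_rc_5_0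 lc_a_rc_0_0 lc_a_rc_29_0 lc_a_rc_1_4 lc_a_rc_1_4 lc_a_rc_6_2 lc_a_rc_4_2 lc_a_Cert_tree lc_a_rc_0_0 lc_a_rc_29_0) (@D3.rec (fun _ => (Cert rels S Gen.a)) lc_a_rc_5_2 lc_a_rc_29_0 lc_a_rc_1_4 lc_a_rc_1_4 lc_a_rc_5_2 lc_a_rc_4_2 lc_a_Cert_tree lc_a_rc_0_0 lc_a_rc_2_2 lc_a_rc_6_2 lc_a_rc_0_0 lc_a_rc_1_8 lc_a_rc_4_2 lc_a_rc_29_0 lc_a_rc_0_0 lc_a_rc_29_0 lc_a_rc_0_0 lc_a_rc_1_8 lc_a_rc_1_8 lc_a_rc_3_2 lc_a_rc_1_8 lc_a_rc_4_2 lc_a_rc_0_0 lc_a_rc_0_0 lc_a_rc_28_0 lc_a_rc_0_0 lc_a_rc_3_0 lc_a_rc_1_8 lc_a_rc_3_2 lc_a_rc_5_2 lc_a_rc_6_2 lc_a_rc_29_0 lc_a_rc_3_0 lc_a_Cert_tree lc_a_rc_29_0 lc_a_Cert_tree lc_a_rc_0_0 lc_a_rc_0_0 lc_a_rc_29_0 lc_a_rc_29_0) (@D3.rec (fun _ => (Cert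 rels S Gen.a)) lc_a_Cert_tree lc_a_rc_0_0 lc_a_rc_28_0 lc_a_rc_0_1 lc_a_Cert_tree lc_a_rc_0_0 lc_a_rc_2_2 lc_a_rc_6_2 lc_a_rc_0_0 lc_a_rc_2_2 lc_a_rc_5_2 lc_a_Cert_tree lc_a_rc_2_2 lc_a_rc_6_2 lc_a_rc_6_2 lc_a_rc_0_0 lc_a_Cert_tree lc_a_rc_2_2 lc_a_rc_5_2 lc_a_rc_5_2 lc_a_rc_29_0 lc_a_rc_0_0 lc_a_rc_1_2 lc_a_rc_6_2 lc_a_rc_0_0 lc_a_rc_28_0 lc_a_rc_5_2 lc_a_Cert_tree lc_a_Cert_tree lc_a_rc_0_0 lc_a_rc_2_2 lc_a_rc_5_2 lc_a_Cert_tree lc_a_Cert_tree lc_a_rc_0_0 lc_a_rc_2_2 lc_a_rc_6_2 lc_a_rc_0_0 lc_a_rc_4_2 lc_a_rc_4_2) (@D3.rec (fun _ => (Cert rels S Gen.a)) lc_a_rc_1_2 lc_a_rc_3_2 lc_a_rc_29_0 lc_a_rc_29_0 lc_a_Cert_tree lc_a_rc_0_0 lc_a_rc_0_1 lc_a_rc_0_1 lc_a_Cert_tree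 lc_a_rc_2_2 lc_a_rc_5_2 lc_a_rc_5_2 lc_a_rc_29_0 lc_a_rc_0_0 lc_a_rc_5_0 lc_a_rc_0_0 lc_a_rc_5_0 lc_a_rc_3_2 lc_a_rc_28_0 lc_a_rc_0_1 lc_a_Cert_tree lc_a_rc_0_0 lc_a_rc_28_0 lc_a_rc_29_0 lc_a_Cert_tree lc_a_rc_2_2 lc_a_rc_6_2 lc_a_rc_6_2 lc_a_rc_0_0 lc_a_rc_0_0 lc_a_rc_6_2 lc_a_Cert_tree lc_a_Cert_tree lc_a_rc_0_0 lc_a_rc_6_2 lc_a_rc_0_1 lc_a_Cert_tree lc_a_Cert_tree lc_a_rc_5_2 lc_a_rc_4_0) (@D3.rec (fun _ => (Cert rels S Gen.a)) lc_a_rc_29_0 lc_a_rc_0_0 lc_a_rc_5_2 lc_a_Cert_tree lc_a_Cert_tree lc_a_rc_0_0 lc_a_rc_0_0 lc_a_rc_29_0 lc_a_Cert_tree lc_a_Cert_tree lc_a_rc_6_2 lc_a_rc_6_2 lc_a_rc_0_0 lc_a_rc_2_2 lc_a_rc_5_2 lc_a_rc_6_2 lc_a_rc_4_0 lc_a_rc_3_2 lc_a_rc_5_2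 lc_a_rc_6_2 lc_a_rc_29_0 lc_a_Cert_tree lc_a_rc_29_0 lc_a_rc_29_0 lc_a_rc_5_2 lc_a_rc_4_2 lc_a_rc_4_2 lc_a_rc_6_2 lc_a_Cert_tree lc_a_rc_0_0 lc_a_rc_2_2 lc_a_rc_5_2 lc_a_rc_6_2 lc_a_Cert_tree lc_a_rc_0_0 lc_a_rc_0_0 lc_a_rc_2_2 lc_a_rc_0_1 lc_a_Cert_tree lc_a_Cert_tree) (@D3.rec (fun _ => (Cert rels S Gen.a)) lc_a_rc_2_2 lc_a_rc_3_2 lc_a_rc_0_0 lc_a_Cert_tree lc_a_rc_0_0 lc_a_rc_2_2 lc_a_rc_6_2 lc_a_rc_0_0 lc_a_rc_29_0 lc_a_rc_5_2 lc_a_rc_6_2 lc_a_Cert_tree lc_a_rc_3_2 lc_a_rc_5_2 lc_a_rc_6_2 lc_a_rc_4_2 lc_a_rc_5_2 lc_a_Cert_tree lc_a_rc_2_2 lc_a_rc_5_2 lc_a_rc_6_2 lc_a_rc_4_0 lc_a_rc_3_2 lc_a_rc_5_2 lc_a_rc_6_2 lc_a_Cert_tree lc_a_rc_29_0 lc_a_rc_29_0 lc_a_rc_29_0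 lc_a_rc_4_2 lc_a_rc_4_2 lc_a_rc_4_2 lc_a_rc_5_2 lc_a_Cert_tree lc_a_rc_0_0 lc_a_rc_2_2 lc_a_rc_29_0 lc_a_rc_5_2 lc_a_Cert_tree lc_a_rc_29_0) (@D3.rec (fun _ => (Cert rels S Gen.a)) lc_a_rc_0_0 lc_a_rc_2_2 lc_a_rc_29_0 lc_a_Cert_tree lc_a_Cert_tree lc_a_rc_2_2 lc_a_rc_30_4 lc_a_rc_0_0 lc_a_Cert_tree lc_a_rc_0_0 lc_a_rc_2_2 lc_a_rc_5_2 lc_a_rc_0_0 lc_a_rc_0_1 lc_a_rc_5_2 lc_a_rc_6_2 lc_a_Cert_tree lc_a_rc_3_2 lc_a_rc_6_2 lc_a_rc_5_2 lc_a_rc_28_0 lc_a_rc_6_2 lc_a_Cert_tree lc_a_rc_0_1 lc_a_rc_6_2 lc_a_rc_3_2 lc_a_rc_5_2 lc_a_rc_6_2 lc_a_rc_2_2 lc_a_rc_4_2 lc_a_rc_5_2 lc_a_rc_6_2 lc_a_rc_29_0 lc_a_rc_29_0 lc_a_Cert_tree lc_a_rc_0_0 lc_a_rc_0_0 lc_a_rc_2_2 lc_a_rc_5_2 lc_a_Cert_tree)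 (@D3.rec (fun _ => (Cert rels S Gen.a)) lc_a_rc_3_0 lc_a_rc_2_2 lc_a_rc_5_2 lc_a_rc_3_2 lc_a_rc_5_2 lc_a_Cert_tree lc_a_rc_29_0 lc_a_rc_0_0 lc_a_rc_6_2 lc_a_Cert_tree lc_a_rc_3_2 lc_a_rc_28_0 lc_a_rc_4_2 lc_a_rc_0_0 lc_a_rc_3_2 lc_a_rc_5_2 lc_a_rc_5_0 lc_a_rc_4_2 lc_a_Cert_tree lc_a_rc_4_2 lc_a_rc_0_1 lc_a_rc_0_1 lc_a_rc_3_2 lc_a_rc_5_2 lc_a_rc_6_2 lc_a_rc_2_2 lc_a_rc_4_2 lc_a_rc_5_2 lc_a_rc_6_2 lc_a_rc_29_0 lc_a_rc_29_0 lc_a_Cert_tree lc_a_rc_29_0 lc_a_rc_0_0 lc_a_rc_2_2 lc_a_rc_6_2 lc_a_Cert_tree lc_a_rc_1_6 lc_a_rc_2_2 lc_a_rc_6_2) (@D3.rec (fun _ => (Cert rels S Gen.a)) lc_a_rc_3_2 lc_a_rc_6_2 lc_a_Cert_tree lc_a_rc_0_0 lc_a_rc_0_0 lc_a_rc_5_2 lc_a_Cert_tree lc_a_rc_3_2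 lc_a_rc_28_0 lc_a_rc_4_2 lc_a_rc_0_0 lc_a_rc_3_2 lc_a_rc_5_2 lc_a_rc_5_0 lc_a_rc_4_2 lc_a_Cert_tree lc_a_rc_4_2 lc_a_rc_3_2 lc_a_rc_6_2 lc_a_rc_6_2 lc_a_rc_0_0 lc_a_rc_3_2 lc_a_rc_2_2 lc_a_Cert_tree lc_a_rc_28_0 lc_a_Cert_tree lc_a_rc_0_0 lc_a_rc_3_2 lc_a_rc_5_2 lc_a_rc_30_4 lc_a_rc_4_2 lc_a_rc_3_2 lc_a_rc_5_2 lc_a_rc_5_2 lc_a_rc_28_0 lc_a_rc_3_2 lc_a_rc_2_2 lc_a_Cert_tree lc_a_rc_28_0 lc_a_Cert_tree) (@D3.rec (fun _ => (Cert rels S Gen.a)) lc_a_rc_0_0 lc_a_rc_3_2 lc_a_rc_29_0 lc_a_rc_4_2 lc_a_rc_0_0 lc_a_rc_1_4 lc_a_rc_0_0 lc_a_rc_1_4 lc_a_rc_28_0 lc_a_rc_29_0 lc_a_rc_1_4 lc_a_rc_0_0 lc_a_rc_29_0 lc_a_rc_0_0 lc_a_rc_1_6 lc_a_rc_28_0 lc_a_rc_1_4 lc_a_rc_0_0 lc_a_rc_29_0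 lc_a_rc_6_2 lc_a_rc_0_0 lc_a_rc_28_0 lc_a_rc_1_4 lc_a_rc_29_0 lc_a_rc_6_2 lc_a_rc_5_2 lc_a_rc_29_0 lc_a_rc_0_0 lc_a_rc_2_2 lc_a_rc_29_0 lc_a_rc_1_4 lc_a_rc_5_2 lc_a_rc_5_2 lc_a_rc_0_0 lc_a_rc_6_2 lc_a_rc_29_0 lc_a_rc_6_2 lc_a_rc_29_0 lc_a_rc_1_2 lc_a_rc_0_0) (@D3.rec (fun _ => (Cert rels S Gen.a)) lc_a_rc_2_2 lc_a_rc_5_2 lc_a_rc_28_0 lc_a_rc_0_0 lc_a_rc_2_2 lc_a_rc_29_0 lc_a_rc_29_0 lc_a_rc_5_2 lc_a_rc_2_2 lc_a_rc_0_0 lc_a_rc_5_2 lc_a_rc_29_0 lc_a_rc_4_0 lc_a_rc_0_1 lc_a_rc_0_1 lc_a_rc_0_0 lc_a_rc_2_2 lc_a_rc_6_2 lc_a_rc_1_6 lc_a_rc_0_0 lc_a_rc_2_2 lc_a_rc_0_0 lc_a_rc_0_1 lc_a_rc_6_2 lc_a_rc_2_2 lc_a_rc_29_0 lc_a_rc_3_2 lc_a_rc_5_2 lc_a_rc_6_2 lc_a_rc_29_0 lc_a_rc_29_0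 lc_a_rc_5_2 lc_a_rc_0_0 lc_a_rc_4_2 lc_a_rc_29_0 lc_a_rc_29_0 lc_a_rc_2_0 lc_a_rc_0_0 lc_a_rc_1_4 lc_a_rc_0_0) (@D3.rec (fun _ => (Cert rels S Gen.a)) lc_a_rc_29_0 lc_a_rc_29_0 lc_a_rc_0_0 lc_a_rc_4_2 lc_a_rc_6_2 lc_a_rc_29_0 lc_a_Cert_tree lc_a_rc_0_0 lc_a_rc_6_2 lc_a_Cert_tree lc_a_rc_0_0 lc_a_rc_29_0 lc_a_rc_5_2 lc_a_rc_5_2 lc_a_rc_2_2 lc_a_rc_5_2 lc_a_rc_3_2 lc_a_rc_5_2 lc_a_Cert_tree lc_a_rc_0_0 lc_a_rc_0_0 lc_a_rc_28_0 lc_a_Cert_tree lc_a_Cert_tree lc_a_rc_2_2 lc_a_rc_3_2 lc_a_rc_0_1 lc_a_Cert_tree lc_a_rc_0_0 lc_a_rc_2_2 lc_a_rc_6_2 lc_a_rc_0_0 lc_a_rc_2_2 lc_a_rc_3_0 lc_a_rc_29_0 lc_a_Cert_tree lc_a_Cert_tree lc_a_rc_0_0 lc_a_rc_2_2 lc_a_rc_29_0) (@D3.rec (fun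 _ => (Cert rels S Gen.a)) lc_a_rc_2_2 lc_a_rc_6_2 lc_a_rc_28_0 lc_a_rc_0_0 lc_a_rc_5_2 lc_a_rc_6_2 lc_a_rc_29_0 lc_a_rc_6_0 lc_a_rc_0_0 lc_a_rc_3_2 lc_a_rc_29_0 lc_a_rc_0_0 lc_a_rc_0_1 lc_a_rc_3_2 lc_a_rc_5_2 lc_a_rc_6_2 lc_a_rc_29_0 lc_a_rc_28_0 lc_a_rc_0_0 lc_a_rc_0_0 lc_a_rc_4_2 lc_a_rc_28_0 lc_a_rc_0_1 lc_a_rc_29_0 lc_a_rc_0_0 lc_a_rc_0_0 lc_a_rc_0_0 lc_a_rc_29_0 lc_a_rc_1_4 lc_a_rc_2_2 lc_a_rc_28_0 lc_a_Cert_tree lc_a_rc_29_0 lc_a_rc_0_0 lc_a_rc_5_2 lc_a_Cert_tree lc_a_rc_0_0 lc_a_rc_1_8 lc_a_rc_6_2 lc_a_rc_6_2) (@D3.rec (fun _ => (Cert rels S Gen.a)) lc_a_rc_2_2 lc_a_rc_28_0 lc_a_rc_2_2 lc_a_Cert_tree lc_a_rc_29_0 lc_a_rc_0_0 lc_a_rc_29_0 lc_a_Cert_tree lc_a_Cert_tree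 lc_a_rc_2_2 lc_a_rc_29_0 lc_a_Cert_tree lc_a_rc_0_0 lc_a_rc_2_2 lc_a_rc_5_2 lc_a_rc_0_0 lc_a_rc_2_2 lc_a_rc_0_1 lc_a_rc_3_0 lc_a_rc_0_0 lc_a_rc_2_2 lc_a_rc_0_1 lc_a_rc_2_2 lc_a_rc_5_2 lc_a_rc_28_0 lc_a_rc_29_0 lc_a_rc_5_2 lc_a_rc_6_2 lc_a_rc_5_2 lc_a_rc_29_0 lc_a_rc_0_0 lc_a_rc_28_0 lc_a_rc_0_0 lc_a_rc_29_0 lc_a_rc_5_2 lc_a_rc_6_2 lc_a_rc_2_2 lc_a_rc_29_0 lc_a_rc_29_0 lc_a_rc_29_0) (@D3.rec (fun _ => (Cert rels S Gen.a)) lc_a_rc_29_0 lc_a_rc_4_2 lc_a_rc_28_0 lc_a_rc_28_0 lc_a_Cert_tree lc_a_rc_1_8 lc_a_rc_28_0 lc_a_rc_6_2 lc_a_rc_29_0 lc_a_rc_1_2 lc_a_rc_0_0 lc_a_rc_3_2 lc_a_rc_6_0 lc_a_rc_0_0 lc_a_rc_28_0 lc_a_rc_29_0 lc_a_rc_29_0 lc_a_rc_29_0 lc_a_rc_28_0 lc_a_rc_2_2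 lc_a_rc_3_2 lc_a_rc_5_2 lc_a_Cert_tree lc_a_rc_2_2 lc_a_rc_4_2 lc_a_Cert_tree lc_a_rc_29_0 lc_a_rc_0_0 lc_a_rc_29_0 lc_a_rc_0_1 lc_a_rc_6_2 lc_a_rc_0_0 lc_a_rc_0_0 lc_a_rc_3_2 lc_a_rc_6_2 lc_a_rc_4_2 lc_a_Cert_tree lc_a_rc_4_2 lc_a_rc_1_4 lc_a_rc_3_2) (@D3.rec (fun _ => (Cert rels S Gen.a)) lc_a_rc_5_2 lc_a_rc_6_2 lc_a_rc_4_2 lc_a_rc_29_0 lc_a_rc_29_0 lc_a_rc_0_0 lc_a_rc_4_2 lc_a_rc_6_2 lc_a_rc_5_2 lc_a_rc_6_2 lc_a_rc_2_2 lc_a_rc_29_0 lc_a_rc_29_0 lc_a_rc_29_0 lc_a_rc_29_0 lc_a_rc_4_2 lc_a_rc_28_0 lc_a_rc_29_0 lc_a_rc_1_8 lc_a_Cert_tree lc_a_rc_3_2 lc_a_rc_4_2 lc_a_rc_3_2 lc_a_rc_29_0 lc_a_rc_0_0 lc_a_rc_3_2 lc_a_rc_1_8 lc_a_rc_0_0 lc_a_rc_28_0 lc_a_rc_29_0 lc_a_rc_29_0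 lc_a_rc_28_0 lc_a_rc_29_0 lc_a_rc_29_0 lc_a_rc_3_2 lc_a_rc_6_2 lc_a_Cert_tree lc_a_rc_2_2 lc_a_rc_4_2 lc_a_Cert_tree) (@D3.rec (fun _ => (Cert rels S Gen.a)) lc_a_rc_0_0 lc_a_rc_0_0 lc_a_rc_0_1 lc_a_rc_29_0 lc_a_rc_5_2 lc_a_rc_29_0 lc_a_rc_0_0 lc_a_rc_3_2 lc_a_rc_5_2 lc_a_rc_4_2 lc_a_Cert_tree lc_a_rc_4_2 lc_a_rc_1_4 lc_a_rc_3_2 lc_a_rc_5_2 lc_a_rc_6_2 lc_a_rc_4_2 lc_a_rc_29_0 lc_a_rc_29_0 lc_a_rc_0_0 lc_a_rc_4_2 lc_a_rc_5_2 lc_a_rc_4_2 lc_a_rc_6_2 lc_a_rc_4_2 lc_a_rc_5_2 lc_a_rc_28_0 lc_a_rc_4_2 lc_a_rc_6_2 lc_a_rc_6_2 lc_a_rc_28_0 lc_a_Cert_tree lc_a_rc_6_2 lc_a_rc_28_0 lc_a_rc_29_0 lc_a_rc_0_0 lc_a_rc_3_2 lc_a_rc_5_2 lc_a_rc_28_0 lc_a_Cert_tree) (@D3.rec (fun _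 => (Cert rels S Gen.a)) lc_a_rc_6_0 lc_a_rc_0_0 lc_a_rc_2_2 lc_a_rc_3_2 lc_a_rc_4_2 lc_a_rc_0_0 lc_a_rc_3_2 lc_a_rc_5_2 lc_a_rc_29_0 lc_a_rc_4_2 lc_a_rc_0_0 lc_a_rc_28_0 lc_a_Cert_tree lc_a_rc_3_2 lc_a_rc_4_2 lc_a_rc_5_2 lc_a_rc_6_2 lc_a_rc_4_2 lc_a_rc_28_0 lc_a_rc_5_2 lc_a_rc_6_2 lc_a_rc_29_0 lc_a_rc_4_2 lc_a_rc_5_2 lc_a_rc_5_2 lc_a_rc_5_2 lc_a_rc_28_0 lc_a_rc_4_2 lc_a_rc_5_2 lc_a_Cert_tree lc_a_rc_28_0 lc_a_rc_5_2 lc_a_rc_29_0 lc_a_rc_3_2 lc_a_rc_29_0 lc_a_Cert_tree lc_a_rc_29_0 lc_a_rc_0_0 lc_a_rc_30_12 lc_a_rc_3_2) (@D3.rec (fun _ => (Cert rels S Gen.a)) lc_a_rc_4_2 lc_a_rc_0_0 lc_a_rc_3_2 lc_a_rc_0_1 lc_a_rc_6_2 lc_a_rc_4_2 lc_a_rc_0_0 lc_a_rc_30_12 lc_a_Cert_tree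 lc_a_rc_3_2 lc_a_rc_4_2 lc_a_rc_5_2 lc_a_rc_6_2 lc_a_rc_4_2 lc_a_rc_28_0 lc_a_rc_5_2 lc_a_rc_6_2 lc_a_rc_0_0 lc_a_rc_4_2 lc_a_rc_6_2 lc_a_rc_28_0 lc_a_Cert_tree lc_a_rc_28_0 lc_a_rc_1_8 lc_a_rc_0_0 lc_a_rc_5_2 lc_a_rc_28_0 lc_a_rc_28_0 lc_a_Cert_tree lc_a_rc_0_0 lc_a_rc_0_0 lc_a_rc_29_0 lc_a_rc_0_1 lc_a_rc_29_0 lc_a_rc_2_2 lc_a_rc_28_0 lc_a_rc_0_0 lc_a_rc_28_0 lc_a_rc_0_1 lc_a_rc_28_0) (@D3.rec (fun _ => (Cert rels S Gen.a)) lc_a_rc_3_2 lc_a_Cert_tree lc_a_rc_28_0 lc_a_rc_28_0 lc_a_rc_0_1 lc_a_rc_3_0 lc_a_rc_28_0 lc_a_rc_28_0 lc_a_rc_0_0 lc_a_rc_1_2 lc_a_rc_5_2 lc_a_rc_6_2 lc_a_rc_4_2 lc_a_rc_1_2 lc_a_rc_4_2 lc_a_rc_28_0 lc_a_rc_5_0 lc_a_rc_6_2 lc_a_rc_5_0 lc_a_rc_29_0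 lc_a_rc_29_0 lc_a_rc_3_2 lc_a_rc_5_2 lc_a_rc_6_2 lc_a_Cert_tree lc_a_Cert_tree lc_a_rc_2_2 lc_a_rc_29_0 lc_a_rc_29_0 lc_a_rc_0_0 lc_a_rc_28_0 lc_a_rc_4_2 lc_a_rc_5_2 lc_a_rc_28_0 lc_a_Cert_tree lc_a_rc_28_0 lc_a_rc_5_0 lc_a_rc_0_0 lc_a_rc_29_0 lc_a_rc_29_0) (@D3.rec (fun _ => (Cert rels S Gen.a)) lc_a_rc_29_0 lc_a_rc_5_2 lc_a_rc_0_0 lc_a_rc_29_0 lc_a_rc_29_0 lc_a_rc_28_0 lc_a_rc_29_0 lc_a_rc_5_0 lc_a_rc_3_2 lc_a_rc_28_0 lc_a_rc_0_1 lc_a_rc_29_0 lc_a_rc_5_2 lc_a_rc_28_0 lc_a_rc_29_0 lc_a_rc_0_0 lc_a_rc_5_2 lc_a_rc_29_0 lc_a_rc_28_0 lc_a_rc_28_0 lc_a_rc_29_0 lc_a_rc_0_0 lc_a_rc_29_0 lc_a_rc_3_2 lc_a_rc_5_2 lc_a_rc_6_2 lc_a_Cert_tree lc_a_Cert_tree lc_a_rc_2_2 lc_a_rc_0_1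 lc_a_rc_29_0 lc_a_rc_0_0 lc_a_rc_4_2 lc_a_rc_30_16 lc_a_Cert_tree lc_a_Cert_tree lc_a_rc_28_0 lc_a_rc_28_0 lc_a_rc_29_0 lc_a_rc_0_0)
def ce_a_9 : D2 → D3 → (Cert rels S Gen.a) := @D2.rec (fun _ => D3 → (Cert rels S Gen.a)) (@D3.rec (fun _ => (Cert rels S Gen.a)) lc_a_rc_30_12 lc_a_rc_1_4 lc_a_rc_0_0 lc_a_rc_2_2 lc_a_rc_5_2 lc_a_rc_0_0 lc_a_rc_2_2 lc_a_rc_6_2 lc_a_rc_28_0 lc_a_rc_3_2 lc_a_rc_28_0 lc_a_rc_29_0 lc_a_rc_2_2 lc_a_rc_4_2 lc_a_rc_0_0 lc_a_rc_29_0 lc_a_Cert_tree lc_a_rc_0_0 lc_a_rc_0_1 lc_a_Cert_tree lc_a_Cert_tree lc_a_rc_0_0 lc_a_rc_2_2 lc_a_rc_5_2 lc_a_Cert_tree lc_a_rc_0_0 lc_a_rc_2_2 lc_a_rc_6_2 lc_a_rc_29_0 lc_a_rc_29_0 lc_a_rc_3_2 lc_a_rc_6_2 lc_a_rc_3_2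 lc_a_rc_6_2 lc_a_rc_0_0 lc_a_rc_0_1 lc_a_rc_5_2 lc_a_rc_28_0 lc_a_rc_28_0 lc_a_rc_29_0) (@D3.rec (fun _ => (Cert rels S Gen.a)) lc_a_rc_3_2 lc_a_rc_4_2 lc_a_rc_3_2 lc_a_rc_29_0 lc_a_rc_30_4 lc_a_rc_29_0 lc_a_rc_1_6 lc_a_rc_29_0 lc_a_rc_0_0 lc_a_rc_29_0 lc_a_rc_1_4 lc_a_rc_3_2 lc_a_rc_3_2 lc_a_rc_28_0 lc_a_rc_28_0 lc_a_rc_0_0 lc_a_rc_0_0 lc_a_rc_28_0 lc_a_rc_28_0 lc_a_rc_29_0 lc_a_rc_0_0 lc_a_rc_29_0 lc_a_rc_0_0 lc_a_rc_6_2 lc_a_rc_5_0 lc_a_rc_29_0 lc_a_Cert_tree lc_a_rc_0_1 lc_a_Cert_tree lc_a_Cert_tree lc_a_rc_0_0 lc_a_rc_2_2 lc_a_rc_5_2 lc_a_Cert_tree lc_a_rc_0_0 lc_a_rc_2_2 lc_a_rc_6_2 lc_a_rc_0_0 lc_a_rc_29_0 lc_a_rc_0_1) (@D3.rec (fun _ => (Cert rels S Gen.a))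 lc_a_rc_0_1 lc_a_rc_2_2 lc_a_rc_5_2 lc_a_rc_28_0 lc_a_rc_5_2 lc_a_rc_29_0 lc_a_rc_0_0 lc_a_rc_0_1 lc_a_rc_29_0 lc_a_rc_29_0 lc_a_rc_2_2 lc_a_rc_6_2 lc_a_rc_2_0 lc_a_rc_6_2 lc_a_rc_0_0 lc_a_rc_28_0 lc_a_rc_2_2 lc_a_rc_6_2 lc_a_rc_6_2 lc_a_rc_0_0 lc_a_rc_28_0 lc_a_rc_2_2 lc_a_rc_5_2 lc_a_rc_5_2 lc_a_rc_29_0 lc_a_rc_6_2 lc_a_rc_28_0 lc_a_rc_6_2 lc_a_rc_4_0 lc_a_rc_4_0 lc_a_rc_5_2 lc_a_rc_30_4 lc_a_rc_3_0 lc_a_rc_29_0 lc_a_rc_1_2 lc_a_rc_29_0 lc_a_rc_29_0 lc_a_rc_0_0 lc_a_rc_0_0 lc_a_rc_0_1) (@D3.rec (fun _ => (Cert rels S Gen.a)) lc_a_rc_5_2 lc_a_rc_2_2 lc_a_rc_29_0 lc_a_rc_0_1 lc_a_rc_29_0 lc_a_rc_0_0 lc_a_rc_0_0 lc_a_rc_29_0 lc_a_rc_29_0 lc_a_rc_29_0 lc_a_rc_0_1 lc_a_rc_29_0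 lc_a_rc_29_0 lc_a_rc_6_2 lc_a_rc_30_12 lc_a_rc_3_2 lc_a_rc_2_2 lc_a_rc_4_2 lc_a_rc_29_0 lc_a_Cert_tree lc_a_rc_0_0 lc_a_rc_2_2 lc_a_rc_0_1 lc_a_Cert_tree lc_a_rc_2_2 lc_a_rc_5_2 lc_a_rc_3_2 lc_a_rc_5_2 lc_a_rc_29_0 lc_a_rc_5_2 lc_a_rc_0_1 lc_a_rc_3_2 lc_a_rc_2_2 lc_a_rc_4_2 lc_a_rc_0_1 lc_a_Cert_tree lc_a_rc_0_0 lc_a_rc_2_2 lc_a_rc_29_0 lc_a_Cert_tree) (@D3.rec (fun _ => (Cert rels S Gen.a)) lc_a_rc_2_2 lc_a_rc_6_2 lc_a_rc_3_2 lc_a_rc_6_2 lc_a_rc_0_0 lc_a_rc_30_4 lc_a_rc_29_0 lc_a_rc_0_0 lc_a_rc_29_0 lc_a_rc_29_0 lc_a_rc_29_0 lc_a_rc_28_0 lc_a_rc_29_0 lc_a_rc_0_0 lc_a_rc_5_2 lc_a_rc_28_0 lc_a_rc_4_2 lc_a_Cert_tree lc_a_rc_5_2 lc_a_rc_28_0 lc_a_rc_0_0 lc_a_rc_28_0 lc_a_rc_29_0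 lc_a_rc_2_2 lc_a_rc_29_0 lc_a_rc_28_0 lc_a_rc_0_0 lc_a_rc_29_0 lc_a_rc_28_0 lc_a_rc_1_6 lc_a_Cert_tree lc_a_rc_6_2 lc_a_rc_28_0 lc_a_rc_5_2 lc_a_rc_0_1 lc_a_rc_29_0 lc_a_rc_29_0 lc_a_rc_0_0 lc_a_rc_29_0 lc_a_rc_2_2) (@D3.rec (fun _ => (Cert rels S Gen.a)) lc_a_rc_4_2 lc_a_rc_6_2 lc_a_Cert_tree lc_a_rc_0_0 lc_a_rc_29_0 lc_a_rc_5_2 lc_a_rc_2_2 lc_a_rc_2_2 lc_a_rc_6_2 lc_a_rc_0_0 lc_a_Cert_tree lc_a_rc_29_0 lc_a_rc_2_2 lc_a_rc_3_2 lc_a_rc_0_1 lc_a_rc_3_2 lc_a_rc_0_0 lc_a_rc_2_2 lc_a_rc_29_0 lc_a_rc_0_0 lc_a_rc_4_2 lc_a_rc_6_0 lc_a_rc_28_0 lc_a_rc_0_1 lc_a_rc_3_2 lc_a_rc_5_2 lc_a_rc_2_2 lc_a_rc_4_2 lc_a_rc_5_2 lc_a_rc_29_0 lc_a_rc_29_0 lc_a_rc_6_2 lc_a_rc_5_2 lc_a_rc_29_0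 lc_a_rc_29_0 lc_a_rc_0_0 lc_a_rc_28_0 lc_a_rc_2_2 lc_a_rc_4_2 lc_a_rc_5_2) (@D3.rec (fun _ => (Cert rels S Gen.a)) lc_a_Cert_tree lc_a_rc_0_0 lc_a_rc_2_2 lc_a_rc_29_0 lc_a_rc_2_2 lc_a_rc_2_2 lc_a_rc_5_2 lc_a_rc_29_0 lc_a_Cert_tree lc_a_rc_1_6 lc_a_rc_2_2 lc_a_rc_3_2 lc_a_rc_29_0 lc_a_rc_28_0 lc_a_rc_0_0 lc_a_rc_2_2 lc_a_rc_0_1 lc_a_rc_0_0 lc_a_rc_0_0 lc_a_rc_28_0 lc_a_rc_1_2 lc_a_rc_0_1 lc_a_rc_3_2 lc_a_rc_6_2 lc_a_rc_2_2 lc_a_rc_4_2 lc_a_rc_6_2 lc_a_rc_0_0 lc_a_rc_29_0 lc_a_rc_0_0 lc_a_rc_3_2 lc_a_rc_5_2 lc_a_rc_6_2 lc_a_rc_4_2 lc_a_Cert_tree lc_a_rc_4_2 lc_a_rc_0_0 lc_a_rc_3_2 lc_a_rc_5_2 lc_a_rc_6_2) (@D3.rec (fun _ => (Cert rels S Gen.a)) lc_a_rc_4_2 lc_a_Cert_tree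 lc_a_rc_4_2 lc_a_Cert_tree lc_a_rc_0_0 lc_a_rc_3_2 lc_a_rc_5_2 lc_a_rc_30_4 lc_a_rc_4_2 lc_a_Cert_tree lc_a_rc_0_0 lc_a_rc_3_2 lc_a_rc_0_0 lc_a_rc_4_2 lc_a_rc_3_2 lc_a_rc_1_6 lc_a_rc_0_0 lc_a_rc_29_0 lc_a_rc_0_1 lc_a_rc_5_2 lc_a_rc_29_0 lc_a_rc_29_0 lc_a_rc_29_0 lc_a_rc_0_0 lc_a_rc_5_2 lc_a_rc_29_0 lc_a_rc_6_2 lc_a_rc_1_2 lc_a_rc_5_2 lc_a_rc_0_0 lc_a_rc_28_0 lc_a_rc_4_2 lc_a_rc_29_0 lc_a_rc_3_2 lc_a_rc_0_0 lc_a_rc_2_2 lc_a_rc_0_1 lc_a_rc_29_0 lc_a_rc_2_2 lc_a_rc_3_2) (@D3.rec (fun _ => (Cert rels S Gen.a)) lc_a_rc_0_1 lc_a_rc_0_0 lc_a_rc_2_2 lc_a_rc_29_0 lc_a_Cert_tree lc_a_rc_3_2 lc_a_rc_5_2 lc_a_rc_2_2 lc_a_rc_4_2 lc_a_rc_5_2 lc_a_rc_29_0 lc_a_rc_0_0 lc_a_rc_29_0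 lc_a_rc_4_2 lc_a_rc_0_1 lc_a_rc_30_16 lc_a_rc_0_0 lc_a_rc_2_2 lc_a_rc_29_0 lc_a_rc_4_0 lc_a_rc_2_2 lc_a_rc_3_2 lc_a_rc_29_0 lc_a_rc_0_0 lc_a_rc_29_0 lc_a_rc_0_0 lc_a_Cert_tree lc_a_rc_3_2 lc_a_rc_6_2 lc_a_rc_2_2 lc_a_rc_4_2 lc_a_rc_6_2 lc_a_rc_0_0 lc_a_rc_29_0 lc_a_rc_1_2 lc_a_rc_0_0 lc_a_rc_2_2 lc_a_rc_28_0 lc_a_rc_29_0 lc_a_rc_2_2) (@D3.rec (fun _ => (Cert rels S Gen.a)) lc_a_rc_5_2 lc_a_rc_5_2 lc_a_rc_4_2 lc_a_rc_0_0 lc_a_rc_2_2 lc_a_rc_28_0 lc_a_rc_29_0 lc_a_rc_2_2 lc_a_rc_6_2 lc_a_rc_6_2 lc_a_rc_0_0 lc_a_rc_29_0 lc_a_rc_29_0 lc_a_rc_29_0 lc_a_rc_30_16 lc_a_rc_29_0 lc_a_rc_4_0 lc_a_rc_2_2 lc_a_rc_3_2 lc_a_rc_28_0 lc_a_rc_1_2 lc_a_rc_0_0 lc_a_rc_28_0 lc_a_Cert_tree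 lc_a_rc_3_2 lc_a_rc_5_2 lc_a_rc_28_0 lc_a_rc_4_2 lc_a_rc_5_2 lc_a_rc_30_8 lc_a_rc_0_0 lc_a_rc_0_1 lc_a_rc_28_0 lc_a_rc_30_12 lc_a_rc_5_0 lc_a_rc_6_2 lc_a_rc_1_6 lc_a_rc_2_2 lc_a_rc_3_2 lc_a_rc_28_0) (@D3.rec (fun _ => (Cert rels S Gen.a)) lc_a_rc_3_2 lc_a_rc_0_0 lc_a_rc_29_0 lc_a_Cert_tree lc_a_rc_3_2 lc_a_rc_6_2 lc_a_rc_28_0 lc_a_rc_4_2 lc_a_rc_6_2 lc_a_rc_29_0 lc_a_Cert_tree lc_a_rc_0_0 lc_a_rc_0_0 lc_a_rc_2_2 lc_a_rc_6_2 lc_a_rc_0_0 lc_a_rc_2_2 lc_a_rc_5_2 lc_a_rc_5_2 lc_a_rc_0_1 lc_a_rc_29_0 lc_a_rc_3_2 lc_a_rc_4_2 lc_a_rc_1_4 lc_a_rc_0_0 lc_a_rc_29_0 lc_a_rc_0_0 lc_a_rc_2_2 lc_a_rc_6_2 lc_a_rc_0_0 lc_a_rc_29_0 lc_a_rc_1_2 lc_a_rc_29_0 lc_a_Cert_tree lc_a_rc_3_2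 lc_a_rc_2_2 lc_a_rc_4_2 lc_a_rc_0_1 lc_a_rc_30_16 lc_a_rc_0_0) (@D3.rec (fun _ => (Cert rels S Gen.a)) lc_a_rc_2_2 lc_a_rc_6_2 lc_a_rc_29_0 lc_a_rc_6_0 lc_a_rc_1_4 lc_a_rc_3_2 lc_a_rc_29_0 lc_a_rc_29_0 lc_a_rc_0_0 lc_a_rc_3_2 lc_a_rc_5_2 lc_a_rc_5_0 lc_a_rc_2_2 lc_a_rc_4_2 lc_a_rc_5_2 lc_a_rc_30_12 lc_a_Cert_tree lc_a_rc_28_0 lc_a_rc_2_2 lc_a_rc_5_2 lc_a_rc_29_0 lc_a_Cert_tree lc_a_rc_0_0 lc_a_rc_0_1 lc_a_rc_0_1 lc_a_Cert_tree lc_a_rc_29_0 lc_a_rc_2_2 lc_a_rc_5_2 lc_a_rc_0_0 lc_a_rc_2_2 lc_a_rc_6_2 lc_a_rc_29_0 lc_a_rc_4_0 lc_a_rc_3_2 lc_a_rc_28_0 lc_a_rc_28_0 lc_a_rc_29_0 lc_a_rc_6_2 lc_a_rc_0_0) (@D3.rec (fun _ => (Cert rels S Gen.a)) lc_a_rc_2_2 lc_a_rc_5_2 lc_a_rc_0_0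 lc_a_rc_2_2 lc_a_rc_0_1 lc_a_rc_29_0 lc_a_Cert_tree lc_a_rc_3_2 lc_a_rc_2_2 lc_a_rc_4_2 lc_a_rc_29_0 lc_a_rc_0_0 lc_a_rc_0_0 lc_a_rc_2_2 lc_a_rc_5_2 lc_a_rc_29_0 lc_a_rc_1_4 lc_a_rc_5_0 lc_a_rc_1_4 lc_a_rc_5_2 lc_a_rc_6_2 lc_a_rc_0_0 lc_a_rc_3_2 lc_a_rc_5_2 lc_a_rc_6_2 lc_a_rc_2_2 lc_a_rc_4_2 lc_a_rc_6_2 lc_a_rc_0_0 lc_a_Cert_tree lc_a_rc_28_0 lc_a_rc_2_2 lc_a_rc_6_2 lc_a_rc_0_0 lc_a_Cert_tree lc_a_rc_0_0 lc_a_rc_5_2 lc_a_rc_29_0 lc_a_rc_1_4 lc_a_rc_3_2) (@D3.rec (fun _ => (Cert rels S Gen.a)) lc_a_rc_5_2 lc_a_rc_6_2 lc_a_rc_29_0 lc_a_rc_0_0 lc_a_rc_28_0 lc_a_rc_0_0 lc_a_rc_4_2 lc_a_rc_5_2 lc_a_rc_6_2 lc_a_rc_1_4 lc_a_rc_6_2 lc_a_rc_29_0 lc_a_rc_0_0 lc_a_rc_4_2 lc_a_rc_5_2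 lc_a_rc_6_2 lc_a_rc_2_2 lc_a_rc_4_2 lc_a_rc_6_2 lc_a_rc_5_2 lc_a_rc_2_2 lc_a_rc_29_0 lc_a_rc_4_2 lc_a_rc_6_2 lc_a_rc_6_2 lc_a_Cert_tree lc_a_rc_3_2 lc_a_rc_5_2 lc_a_rc_2_2 lc_a_rc_4_2 lc_a_rc_5_2 lc_a_rc_0_1 lc_a_rc_29_0 lc_a_rc_2_2 lc_a_rc_4_2 lc_a_rc_5_2 lc_a_rc_28_0 lc_a_rc_2_2 lc_a_rc_6_2 lc_a_rc_5_2) (@D3.rec (fun _ => (Cert rels S Gen.a)) lc_a_rc_29_0 lc_a_rc_28_0 lc_a_Cert_tree lc_a_rc_3_2 lc_a_rc_6_2 lc_a_rc_2_2 lc_a_rc_4_2 lc_a_rc_28_0 lc_a_rc_6_2 lc_a_rc_29_0 lc_a_rc_6_0 lc_a_rc_1_4 lc_a_rc_29_0 lc_a_rc_29_0 lc_a_rc_28_0 lc_a_rc_29_0 lc_a_rc_29_0 lc_a_rc_2_2 lc_a_rc_0_1 lc_a_rc_0_1 lc_a_rc_29_0 lc_a_rc_2_2 lc_a_rc_29_0 lc_a_rc_2_2 lc_a_rc_1_4 lc_a_rc_5_2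 lc_a_rc_6_2 lc_a_rc_2_0 lc_a_rc_29_0 lc_a_rc_30_0 lc_a_rc_29_0 lc_a_rc_0_0 lc_a_rc_2_2 lc_a_rc_6_2 lc_a_rc_0_0 lc_a_rc_2_2 lc_a_rc_5_2 lc_a_rc_3_2 lc_a_rc_2_2 lc_a_rc_6_2) (@D3.rec (fun _ => (Cert rels S Gen.a)) lc_a_rc_3_2 lc_a_rc_6_2 lc_a_rc_0_0 lc_a_rc_3_2 lc_a_rc_2_2 lc_a_rc_5_2 lc_a_rc_3_2 lc_a_rc_5_2 lc_a_rc_29_0 lc_a_rc_0_0 lc_a_rc_28_0 lc_a_rc_1_2 lc_a_rc_2_2 lc_a_rc_3_2 lc_a_rc_2_0 lc_a_rc_0_0 lc_a_rc_2_2 lc_a_rc_3_2 lc_a_rc_0_0 lc_a_rc_0_0 lc_a_rc_2_2 lc_a_rc_29_0 lc_a_rc_0_1 lc_a_rc_29_0 lc_a_rc_2_0 lc_a_rc_3_2 lc_a_rc_28_0 lc_a_rc_4_2 lc_a_rc_29_0 lc_a_rc_0_0 lc_a_rc_2_2 lc_a_rc_0_1 lc_a_rc_29_0 lc_a_rc_2_2 lc_a_rc_5_2 lc_a_rc_3_2 lc_a_rc_5_2 lc_a_rc_29_0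 lc_a_rc_2_2 lc_a_rc_1_6) (@D3.rec (fun _ => (Cert rels S Gen.a)) lc_a_rc_29_0 lc_a_rc_2_0 lc_a_rc_3_2 lc_a_rc_28_0 lc_a_rc_3_2 lc_a_rc_0_1 lc_a_rc_0_0 lc_a_rc_2_2 lc_a_rc_29_0 lc_a_rc_29_0 lc_a_rc_2_2 lc_a_rc_6_2 lc_a_rc_3_2 lc_a_rc_6_2 lc_a_rc_0_0 lc_a_rc_2_2 lc_a_rc_5_2 lc_a_rc_3_2 lc_a_rc_29_0 lc_a_rc_29_0 lc_a_rc_29_0 lc_a_rc_0_0 lc_a_rc_0_0 lc_a_rc_3_2 lc_a_rc_29_0 lc_a_rc_6_2 lc_a_rc_2_2 lc_a_rc_4_2 lc_a_Cert_tree lc_a_rc_28_0 lc_a_rc_2_2 lc_a_rc_28_0 lc_a_rc_29_0 lc_a_Cert_tree lc_a_rc_0_0 lc_a_rc_2_2 lc_a_rc_5_2 lc_a_rc_5_0 lc_a_rc_2_2 lc_a_rc_3_2) (@D3.rec (fun _ => (Cert rels S Gen.a)) lc_a_rc_0_1 lc_a_rc_29_0 lc_a_Cert_tree lc_a_rc_3_2 lc_a_rc_5_2 lc_a_rc_2_2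 lc_a_rc_5_0 lc_a_rc_5_2 lc_a_rc_29_0 lc_a_rc_2_2 lc_a_rc_4_2 lc_a_rc_3_2 lc_a_rc_2_2 lc_a_rc_29_0 lc_a_rc_29_0 lc_a_rc_0_0 lc_a_rc_0_0 lc_a_rc_3_2 lc_a_rc_5_2 lc_a_rc_2_0 lc_a_rc_2_2 lc_a_rc_4_2 lc_a_Cert_tree lc_a_rc_28_0 lc_a_rc_2_2 lc_a_rc_2_2 lc_a_rc_0_1 lc_a_Cert_tree lc_a_rc_0_0 lc_a_rc_2_2 lc_a_rc_6_2 lc_a_rc_29_0 lc_a_rc_2_2 lc_a_rc_3_2 lc_a_rc_29_0 lc_a_rc_29_0 lc_a_Cert_tree lc_a_rc_3_2 lc_a_rc_6_2 lc_a_rc_2_2) (@D3.rec (fun _ => (Cert rels S Gen.a)) lc_a_rc_28_0 lc_a_rc_6_2 lc_a_rc_0_0 lc_a_rc_29_0 lc_a_rc_29_0 lc_a_rc_0_0 lc_a_rc_6_2 lc_a_Cert_tree lc_a_rc_0_0 lc_a_rc_2_2 lc_a_rc_28_0 lc_a_Cert_tree lc_a_rc_4_2 lc_a_rc_28_0 lc_a_rc_6_2 lc_a_rc_3_2 lc_a_rc_0_0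 lc_a_rc_5_2 lc_a_Cert_tree lc_a_rc_0_0 lc_a_rc_6_0 lc_a_rc_5_0 lc_a_rc_0_1 lc_a_rc_29_0 lc_a_rc_0_0 lc_a_rc_5_2 lc_a_Cert_tree lc_a_rc_0_0 lc_a_rc_2_2 lc_a_rc_28_0 lc_a_Cert_tree lc_a_rc_4_2 lc_a_rc_28_0 lc_a_rc_5_2 lc_a_rc_3_2 lc_a_rc_29_0 lc_a_rc_6_2 lc_a_Cert_tree lc_a_rc_0_0 lc_a_rc_28_0) (@D3.rec (fun _ => (Cert rels S Gen.a)) lc_a_rc_0_1 lc_a_rc_28_0 lc_a_rc_28_0 lc_a_rc_28_0 lc_a_rc_29_0 lc_a_Cert_tree lc_a_rc_2_2 lc_a_rc_2_2 lc_a_rc_6_2 lc_a_Cert_tree lc_a_rc_0_0 lc_a_rc_29_0 lc_a_rc_5_2 lc_a_rc_1_4 lc_a_rc_4_2 lc_a_rc_28_0 lc_a_rc_3_2 lc_a_rc_2_2 lc_a_Cert_tree lc_a_rc_28_0 lc_a_Cert_tree lc_a_rc_0_0 lc_a_rc_0_0 lc_a_rc_2_2 lc_a_rc_0_1 lc_a_Cert_tree lc_a_Cert_tree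 lc_a_Cert_tree lc_a_rc_0_0 lc_a_rc_2_2 lc_a_rc_6_2 lc_a_rc_2_2 lc_a_rc_29_0 lc_a_rc_1_4 lc_a_rc_28_0 lc_a_rc_28_0 lc_a_rc_28_0 lc_a_rc_4_2 lc_a_Cert_tree lc_a_rc_2_2) (@D3.rec (fun _ => (Cert rels S Gen.a)) lc_a_rc_2_2 lc_a_rc_5_2 lc_a_Cert_tree lc_a_rc_0_0 lc_a_rc_5_0 lc_a_rc_6_2 lc_a_rc_1_4 lc_a_rc_4_2 lc_a_rc_28_0 lc_a_rc_3_2 lc_a_rc_2_2 lc_a_Cert_tree lc_a_rc_2_2 lc_a_Cert_tree lc_a_rc_29_0 lc_a_rc_0_0 lc_a_rc_2_2 lc_a_rc_29_0 lc_a_Cert_tree lc_a_Cert_tree lc_a_Cert_tree lc_a_rc_0_0 lc_a_rc_2_2 lc_a_rc_5_2 lc_a_rc_2_2 lc_a_rc_0_1 lc_a_rc_29_0 lc_a_rc_3_2 lc_a_rc_6_2 lc_a_rc_2_2 lc_a_rc_4_2 lc_a_rc_5_2 lc_a_rc_6_2 lc_a_rc_28_0 lc_a_Cert_tree lc_a_rc_3_2 lc_a_rc_2_2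 lc_a_rc_2_2 lc_a_rc_2_2 lc_a_rc_5_2) (@D3.rec (fun _ => (Cert rels S Gen.a)) lc_a_rc_6_2 lc_a_rc_29_0 lc_a_rc_0_0 lc_a_Cert_tree lc_a_rc_0_0 lc_a_rc_0_1 lc_a_Cert_tree lc_a_rc_4_2 lc_a_rc_5_2 lc_a_rc_29_0 lc_a_rc_0_0 lc_a_rc_2_2 lc_a_rc_1_4 lc_a_rc_3_2 lc_a_rc_2_2 lc_a_rc_5_2 lc_a_rc_3_2 lc_a_rc_5_2 lc_a_rc_29_0 lc_a_rc_4_2 lc_a_rc_4_2 lc_a_Cert_tree lc_a_rc_3_2 lc_a_rc_5_2 lc_a_rc_2_2 lc_a_rc_4_2 lc_a_rc_5_2 lc_a_rc_6_2 lc_a_Cert_tree lc_a_rc_1_6 lc_a_rc_3_2 lc_a_rc_2_2 lc_a_rc_2_2 lc_a_rc_2_2 lc_a_rc_5_2 lc_a_rc_6_2 lc_a_rc_29_0 lc_a_rc_0_0 lc_a_rc_0_0 lc_a_rc_29_0) (@D3.rec (fun _ => (Cert rels S Gen.a)) lc_a_Cert_tree lc_a_Cert_tree lc_a_rc_5_0 lc_a_rc_6_2 lc_a_rc_0_0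 lc_a_rc_0_0 lc_a_rc_2_2 lc_a_rc_3_2 lc_a_rc_0_1 lc_a_rc_2_2 lc_a_rc_6_2 lc_a_rc_28_0 lc_a_rc_6_2 lc_a_rc_0_0 lc_a_rc_5_2 lc_a_rc_6_2 lc_a_Cert_tree lc_a_rc_2_2 lc_a_rc_28_0 lc_a_rc_2_2 lc_a_rc_4_2 lc_a_rc_5_2 lc_a_rc_6_2 lc_a_rc_28_0 lc_a_Cert_tree lc_a_rc_28_0 lc_a_rc_2_2 lc_a_rc_2_2 lc_a_rc_2_2 lc_a_rc_28_0 lc_a_rc_6_2 lc_a_rc_29_0 lc_a_rc_0_0 lc_a_Cert_tree lc_a_Cert_tree lc_a_rc_2_2 lc_a_rc_5_2 lc_a_rc_2_2 lc_a_rc_4_2 lc_a_rc_5_2) (@D3.rec (fun _ => (Cert rels S Gen.a)) lc_a_rc_6_2 lc_a_Cert_tree lc_a_rc_28_0 lc_a_rc_28_0 lc_a_rc_2_2 lc_a_rc_2_2 lc_a_rc_2_2 lc_a_rc_5_2 lc_a_rc_29_0 lc_a_rc_29_0 lc_a_rc_0_0 lc_a_Cert_tree lc_a_Cert_tree lc_a_rc_0_1 lc_a_rc_29_0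 lc_a_rc_5_0 lc_a_rc_2_2 lc_a_rc_2_2 lc_a_rc_29_0 lc_a_rc_2_2 lc_a_rc_4_0 lc_a_rc_1_4 lc_a_rc_29_0 lc_a_rc_29_0 lc_a_rc_28_0 lc_a_rc_29_0 lc_a_rc_29_0 lc_a_rc_0_0 lc_a_rc_3_2 lc_a_rc_6_2 lc_a_rc_29_0 lc_a_rc_4_2 lc_a_rc_6_2 lc_a_rc_6_2 lc_a_rc_29_0 lc_a_Cert_tree lc_a_rc_0_0 lc_a_rc_4_0 lc_a_rc_2_2 lc_a_rc_5_2) (@D3.rec (fun _ => (Cert rels S Gen.a)) lc_a_rc_0_0 lc_a_rc_29_0 lc_a_rc_0_0 lc_a_rc_28_0 lc_a_rc_3_2 lc_a_rc_0_1 lc_a_rc_29_0 lc_a_rc_4_0 lc_a_rc_29_0 lc_a_rc_0_0 lc_a_rc_5_2 lc_a_rc_6_2 lc_a_rc_5_2 lc_a_rc_0_0 lc_a_rc_28_0 lc_a_rc_1_4 lc_a_rc_29_0 lc_a_rc_30_12 lc_a_rc_1_4 lc_a_rc_5_2 lc_a_rc_4_2 lc_a_rc_0_0 lc_a_rc_0_0 lc_a_rc_29_0 lc_a_rc_0_0 lc_a_rc_3_2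 lc_a_rc_5_2 lc_a_rc_29_0 lc_a_rc_4_2 lc_a_rc_5_2 lc_a_rc_5_2 lc_a_rc_2_2 lc_a_Cert_tree lc_a_rc_0_0 lc_a_rc_30_12 lc_a_rc_2_2 lc_a_rc_6_2 lc_a_rc_29_0 lc_a_rc_0_0 lc_a_rc_29_0) (@D3.rec (fun _ => (Cert rels S Gen.a)) lc_a_rc_28_0 lc_a_rc_3_2 lc_a_rc_29_0 lc_a_rc_0_0 lc_a_rc_0_0 lc_a_rc_5_2 lc_a_rc_30_16 lc_a_rc_6_2 lc_a_rc_0_0 lc_a_rc_28_0 lc_a_rc_28_0 lc_a_rc_0_0 lc_a_rc_1_2 lc_a_rc_29_0 lc_a_rc_29_0 lc_a_Cert_tree lc_a_rc_0_0 lc_a_rc_2_2 lc_a_rc_5_2 lc_a_rc_30_8 lc_a_rc_5_2 lc_a_rc_29_0 lc_a_rc_2_2 lc_a_rc_0_1 lc_a_rc_1_6 lc_a_rc_28_0 lc_a_rc_0_1 lc_a_rc_0_0 lc_a_rc_0_0 lc_a_Cert_tree lc_a_rc_28_0 lc_a_rc_0_0 lc_a_rc_29_0 lc_a_rc_0_0 lc_a_rc_28_0 lc_a_rc_0_0 lc_a_rc_29_0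 lc_a_rc_29_0 lc_a_rc_5_2 lc_a_rc_2_2)
def ce_a_10 : D2 → D3 → (Cert rels S Gen.a) := @D2.rec (fun _ => D3 → (Cert rels S Gen.a)) (@D3.rec (fun _ => (Cert rels S Gen.a)) lc_a_rc_6_2 lc_a_rc_3_2 lc_a_rc_6_2 lc_a_rc_0_0 lc_a_rc_29_0 lc_a_rc_3_2 lc_a_rc_2_2 lc_a_rc_3_2 lc_a_rc_2_2 lc_a_Cert_tree lc_a_rc_0_0 lc_a_rc_2_2 lc_a_rc_6_2 lc_a_rc_4_0 lc_a_rc_6_2 lc_a_rc_29_0 lc_a_rc_2_2 lc_a_rc_0_1 lc_a_rc_1_6 lc_a_rc_4_2 lc_a_rc_0_1 lc_a_rc_2_2 lc_a_rc_0_0 lc_a_Cert_tree lc_a_rc_28_0 lc_a_rc_0_0 lc_a_rc_28_0 lc_a_rc_0_0 lc_a_rc_28_0 lc_a_rc_0_0 lc_a_rc_29_0 lc_a_rc_0_1 lc_a_rc_6_2 lc_a_rc_2_2 lc_a_rc_5_2 lc_a_rc_3_2 lc_a_rc_5_2 lc_a_rc_29_0 lc_a_rc_29_0 lc_a_rc_3_2) (@D3.rec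 (fun _ => (Cert rels S Gen.a)) lc_a_rc_0_1 lc_a_rc_28_0 lc_a_rc_2_2 lc_a_rc_2_2 lc_a_rc_5_2 lc_a_rc_6_2 lc_a_rc_2_2 lc_a_rc_6_2 lc_a_rc_0_0 lc_a_rc_28_0 lc_a_rc_2_2 lc_a_rc_0_0 lc_a_rc_29_0 lc_a_Cert_tree lc_a_rc_0_0 lc_a_rc_29_0 lc_a_rc_0_0 lc_a_rc_29_0 lc_a_Cert_tree lc_a_rc_0_0 lc_a_rc_29_0 lc_a_rc_0_0 lc_a_rc_4_2 lc_a_rc_0_0 lc_a_rc_3_2 lc_a_rc_5_2 lc_a_rc_6_2 lc_a_rc_29_0 lc_a_rc_0_1 lc_a_rc_0_1 lc_a_rc_0_0 lc_a_rc_0_1 lc_a_rc_0_0 lc_a_rc_2_2 lc_a_rc_5_2 lc_a_rc_2_2 lc_a_rc_5_2 lc_a_rc_29_0 lc_a_rc_4_2 lc_a_rc_2_2) (@D3.rec (fun _ => (Cert rels S Gen.a)) lc_a_rc_29_0 lc_a_rc_29_0 lc_a_rc_0_1 lc_a_rc_3_2 lc_a_rc_29_0 lc_a_rc_3_2 lc_a_rc_29_0 lc_a_rc_0_0 lc_a_rc_0_0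 lc_a_rc_2_2 lc_a_rc_0_1 lc_a_rc_28_0 lc_a_rc_2_2 lc_a_rc_2_2 lc_a_rc_5_2 lc_a_rc_6_2 lc_a_rc_0_1 lc_a_rc_0_0 lc_a_rc_1_4 lc_a_rc_1_4 lc_a_rc_2_2 lc_a_rc_29_0 lc_a_Cert_tree lc_a_rc_29_0 lc_a_rc_0_0 lc_a_rc_0_0 lc_a_rc_5_2 lc_a_Cert_tree lc_a_rc_0_0 lc_a_rc_29_0 lc_a_rc_0_0 lc_a_rc_4_2 lc_a_rc_0_0 lc_a_rc_0_0 lc_a_rc_5_0 lc_a_rc_1_4 lc_a_rc_6_2 lc_a_rc_0_1 lc_a_rc_0_1 lc_a_rc_0_1) (@D3.rec (fun _ => (Cert rels S Gen.a)) lc_a_rc_0_0 lc_a_rc_29_0 lc_a_rc_0_0 lc_a_rc_2_2 lc_a_rc_6_2 lc_a_rc_2_2 lc_a_rc_6_2 lc_a_rc_0_0 lc_a_rc_1_6 lc_a_rc_29_0 lc_a_rc_28_0 lc_a_rc_5_2 lc_a_rc_29_0 lc_a_rc_0_0 lc_a_rc_0_0 lc_a_rc_2_2 lc_a_rc_29_0 lc_a_rc_0_0 lc_a_rc_28_0 lc_a_rc_0_0 lc_a_rc_0_1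 lc_a_rc_5_2 lc_a_rc_29_0 lc_a_rc_6_2 lc_a_rc_28_0 lc_a_rc_3_2 lc_a_rc_6_2 lc_a_rc_3_2 lc_a_rc_29_0 lc_a_rc_28_0 lc_a_rc_3_2 lc_a_rc_3_0 lc_a_rc_29_0 lc_a_rc_28_0 lc_a_rc_29_0 lc_a_rc_29_0 lc_a_rc_4_0 lc_a_rc_0_0 lc_a_rc_0_0 lc_a_rc_2_2) (@D3.rec (fun _ => (Cert rels S Gen.a)) lc_a_rc_3_0 lc_a_rc_29_0 lc_a_rc_29_0 lc_a_rc_2_2 lc_a_rc_3_2 lc_a_rc_0_1 lc_a_rc_28_0 lc_a_rc_29_0 lc_a_rc_29_0 lc_a_rc_29_0 lc_a_rc_29_0 lc_a_rc_0_0 lc_a_rc_2_2 lc_a_rc_2_2 lc_a_rc_5_2 lc_a_rc_2_2 lc_a_rc_0_1 lc_a_rc_28_0 lc_a_rc_3_2 lc_a_rc_5_2 lc_a_rc_2_2 lc_a_rc_4_2 lc_a_rc_5_2 lc_a_rc_29_0 lc_a_rc_4_2 lc_a_rc_0_0 lc_a_rc_30_16 lc_a_rc_29_0 lc_a_rc_28_0 lc_a_rc_4_2 lc_a_rc_0_0 lc_a_rc_4_2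 lc_a_rc_0_0 lc_a_rc_5_2 lc_a_rc_0_0 lc_a_rc_29_0 lc_a_rc_6_2 lc_a_rc_0_0 lc_a_rc_5_2 lc_a_rc_6_0) (@D3.rec (fun _ => (Cert rels S Gen.a)) lc_a_rc_3_2 lc_a_rc_5_2 lc_a_rc_3_2 lc_a_rc_28_0 lc_a_rc_3_2 lc_a_rc_3_2 lc_a_rc_5_2 lc_a_rc_5_2 lc_a_rc_28_0 lc_a_rc_29_0 lc_a_rc_28_0 lc_a_rc_0_0 lc_a_rc_2_2 lc_a_rc_29_0 lc_a_rc_29_0 lc_a_rc_2_2 lc_a_rc_3_2 lc_a_rc_29_0 lc_a_rc_1_2 lc_a_rc_4_2 lc_a_rc_6_2 lc_a_rc_29_0 lc_a_rc_0_0 lc_a_rc_2_2 lc_a_rc_2_2 lc_a_rc_28_0 lc_a_rc_2_2 lc_a_rc_0_0 lc_a_rc_3_2 lc_a_rc_2_2 lc_a_rc_4_2 lc_a_rc_28_0 lc_a_rc_0_0 lc_a_rc_4_2 lc_a_rc_0_0 lc_a_rc_28_0 lc_a_rc_29_0 lc_a_rc_28_0 lc_a_rc_28_0 lc_a_rc_30_8) (@D3.rec (fun _ => (Cert rels S Gen.a))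 lc_a_rc_0_0 lc_a_rc_28_0 lc_a_rc_1_4 lc_a_rc_0_0 lc_a_rc_28_0 lc_a_rc_0_1 lc_a_rc_2_2 lc_a_rc_6_2 lc_a_rc_29_0 lc_a_rc_5_2 lc_a_rc_28_0 lc_a_rc_0_0 lc_a_rc_0_1 lc_a_rc_30_12 lc_a_rc_29_0 lc_a_rc_0_0 lc_a_rc_0_1 lc_a_Cert_tree lc_a_rc_29_0 lc_a_rc_0_0 lc_a_rc_29_0 lc_a_rc_1_8 lc_a_Cert_tree lc_a_rc_28_0 lc_a_rc_0_0 lc_a_rc_29_0 lc_a_Cert_tree lc_a_rc_2_2 lc_a_rc_2_2 lc_a_rc_0_0 lc_a_rc_0_1 lc_a_rc_0_1 lc_a_rc_1_6 lc_a_rc_2_2 lc_a_rc_5_2 lc_a_rc_28_0 lc_a_rc_5_2 lc_a_rc_1_8 lc_a_rc_28_0 lc_a_rc_0_0) (@D3.rec (fun _ => (Cert rels S Gen.a)) lc_a_rc_6_2 lc_a_rc_6_0 lc_a_rc_6_2 lc_a_rc_29_0 lc_a_rc_29_0 lc_a_rc_29_0 lc_a_rc_28_0 lc_a_rc_4_2 lc_a_rc_29_0 lc_a_rc_0_0 lc_a_rc_0_0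 lc_a_rc_4_0 lc_a_rc_29_0 lc_a_Cert_tree lc_a_rc_29_0 lc_a_rc_29_0 lc_a_rc_0_0 lc_a_rc_29_0 lc_a_rc_5_2 lc_a_rc_28_0 lc_a_rc_4_2 lc_a_rc_0_0 lc_a_rc_28_0 lc_a_rc_0_1 lc_a_rc_29_0 lc_a_rc_2_2 lc_a_rc_1_4 lc_a_rc_3_2 lc_a_rc_5_2 lc_a_rc_6_2 lc_a_rc_4_2 lc_a_rc_6_2 lc_a_rc_29_0 lc_a_rc_29_0 lc_a_rc_0_0 lc_a_rc_4_2 lc_a_rc_28_0 lc_a_rc_28_0 lc_a_Cert_tree lc_a_rc_0_0) (@D3.rec (fun _ => (Cert rels S Gen.a)) lc_a_rc_5_2 lc_a_rc_6_2 lc_a_rc_6_2 lc_a_rc_0_0 lc_a_rc_28_0 lc_a_rc_28_0 lc_a_rc_28_0 lc_a_rc_0_0 lc_a_rc_0_0 lc_a_rc_28_0 lc_a_rc_29_0 lc_a_rc_2_2 lc_a_rc_5_2 lc_a_rc_29_0 lc_a_rc_29_0 lc_a_rc_0_0 lc_a_rc_28_0 lc_a_rc_29_0 lc_a_rc_29_0 lc_a_rc_0_0 lc_a_rc_30_12 lc_a_rc_0_0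 lc_a_rc_28_0 lc_a_rc_6_2 lc_a_Cert_tree lc_a_rc_28_0 lc_a_rc_0_0 lc_a_rc_0_0 lc_a_Cert_tree lc_a_rc_2_2 lc_a_rc_28_0 lc_a_Cert_tree lc_a_rc_0_0 lc_a_rc_0_0 lc_a_rc_28_0 lc_a_rc_29_0 lc_a_rc_28_0 lc_a_rc_2_2 lc_a_rc_6_2 lc_a_rc_28_0) (@D3.rec (fun _ => (Cert rels S Gen.a)) lc_a_rc_6_2 lc_a_rc_29_0 lc_a_rc_29_0 lc_a_rc_0_0 lc_a_rc_5_2 lc_a_rc_28_0 lc_a_rc_5_2 lc_a_rc_29_0 lc_a_rc_29_0 lc_a_rc_29_0 lc_a_rc_28_0 lc_a_rc_4_2 lc_a_rc_28_0 lc_a_rc_0_0 lc_a_rc_29_0 lc_a_rc_0_1 lc_a_rc_0_1 lc_a_Cert_tree lc_a_rc_0_0 lc_a_rc_5_0 lc_a_rc_0_0 lc_a_rc_28_0 lc_a_rc_28_0 lc_a_rc_6_2 lc_a_rc_4_2 lc_a_rc_0_0 lc_a_rc_0_0 lc_a_rc_29_0 lc_a_rc_1_4 lc_a_rc_3_2 lc_a_rc_5_2 lc_a_rc_6_2 lc_a_rc_4_2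 lc_a_rc_5_2 lc_a_rc_28_0 lc_a_rc_0_0 lc_a_rc_4_2 lc_a_rc_28_0 lc_a_rc_29_0 lc_a_Cert_tree) (@D3.rec (fun _ => (Cert rels S Gen.a)) lc_a_rc_0_0 lc_a_rc_28_0 lc_a_rc_5_2 lc_a_rc_5_2 lc_a_rc_29_0 lc_a_rc_6_2 lc_a_rc_4_2 lc_a_rc_6_2 lc_a_rc_6_2 lc_a_Cert_tree lc_a_rc_28_0 lc_a_rc_6_2 lc_a_rc_29_0 lc_a_rc_0_0 lc_a_rc_6_0 lc_a_rc_0_0 lc_a_rc_28_0 lc_a_rc_30_4 lc_a_rc_29_0 lc_a_rc_29_0 lc_a_rc_0_0 lc_a_rc_2_2 lc_a_rc_29_0 lc_a_rc_0_0 lc_a_rc_28_0 lc_a_rc_0_0 lc_a_rc_5_2 lc_a_rc_4_2 lc_a_rc_28_0 lc_a_rc_5_2 lc_a_rc_29_0 lc_a_rc_2_2 lc_a_rc_5_2 lc_a_rc_29_0 lc_a_rc_0_0 lc_a_rc_29_0 lc_a_rc_0_0 lc_a_rc_28_0 lc_a_rc_1_2 lc_a_rc_2_0) (@D3.rec (fun _ => (Cert rels S Gen.a)) lc_a_rc_30_12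 lc_a_rc_0_0 lc_a_rc_2_2 lc_a_rc_3_2 lc_a_rc_0_0 lc_a_rc_28_0 lc_a_rc_6_2 lc_a_rc_2_2 lc_a_rc_3_2 lc_a_rc_2_2 lc_a_rc_2_2 lc_a_rc_3_2 lc_a_rc_2_2 lc_a_rc_2_2 lc_a_rc_29_0 lc_a_rc_2_2 lc_a_rc_3_2 lc_a_rc_3_2 lc_a_rc_29_0 lc_a_rc_4_2 lc_a_rc_0_0 lc_a_rc_4_2 lc_a_rc_3_2 lc_a_rc_29_0 lc_a_rc_0_0 lc_a_rc_0_0 lc_a_rc_29_0 lc_a_rc_29_0 lc_a_rc_2_2 lc_a_rc_3_2 lc_a_rc_29_0 lc_a_rc_29_0 lc_a_rc_0_0 lc_a_rc_2_2 lc_a_rc_0_0 lc_a_rc_5_0 lc_a_rc_2_2 lc_a_rc_3_2 lc_a_rc_0_1 lc_a_rc_29_0) (@D3.rec (fun _ => (Cert rels S Gen.a)) lc_a_rc_0_0 lc_a_rc_2_2 lc_a_rc_29_0 lc_a_rc_3_2 lc_a_rc_29_0 lc_a_rc_0_1 lc_a_rc_2_2 lc_a_rc_3_2 lc_a_rc_0_0 lc_a_rc_29_0 lc_a_rc_3_2 lc_a_rc_0_1 lc_a_rc_29_0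 lc_a_rc_2_2 lc_a_rc_3_2 lc_a_rc_29_0 lc_a_rc_0_0 lc_a_rc_1_4 lc_a_rc_5_2 lc_a_rc_6_2 lc_a_rc_0_1 lc_a_rc_29_0 lc_a_rc_4_2 lc_a_rc_0_0 lc_a_rc_4_0 lc_a_Cert_tree lc_a_rc_30_4 lc_a_Cert_tree lc_a_rc_0_0 lc_a_rc_30_12 lc_a_rc_6_2 lc_a_rc_0_0 lc_a_rc_3_2 lc_a_rc_5_2 lc_a_rc_2_2 lc_a_rc_6_2 lc_a_rc_3_2 lc_a_rc_6_2 lc_a_rc_2_2 lc_a_rc_5_2) (@D3.rec (fun _ => (Cert rels S Gen.a)) lc_a_rc_3_2 lc_a_rc_5_2 lc_a_rc_3_2 lc_a_rc_29_0 lc_a_rc_3_2 lc_a_rc_6_2 lc_a_rc_0_1 lc_a_rc_28_0 lc_a_rc_4_2 lc_a_rc_6_2 lc_a_Cert_tree lc_a_rc_0_0 lc_a_rc_0_1 lc_a_rc_3_2 lc_a_rc_3_2 lc_a_rc_5_2 lc_a_rc_29_0 lc_a_rc_28_0 lc_a_rc_4_2 lc_a_rc_5_2 lc_a_Cert_tree lc_a_rc_29_0 lc_a_rc_29_0 lc_a_rc_2_2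 lc_a_rc_6_2 lc_a_rc_29_0 lc_a_rc_4_2 lc_a_rc_28_0 lc_a_rc_2_2 lc_a_rc_0_1 lc_a_rc_29_0 lc_a_rc_0_0 lc_a_rc_29_0 lc_a_rc_29_0 lc_a_rc_0_1 lc_a_rc_2_2 lc_a_rc_5_2 lc_a_rc_1_4 lc_a_rc_4_2 lc_a_rc_28_0) (@D3.rec (fun _ => (Cert rels S Gen.a)) lc_a_rc_2_2 lc_a_rc_4_2 lc_a_rc_3_2 lc_a_rc_29_0 lc_a_rc_6_2 lc_a_rc_29_0 lc_a_rc_0_0 lc_a_rc_0_0 lc_a_rc_2_2 lc_a_rc_4_0 lc_a_Cert_tree lc_a_rc_2_2 lc_a_rc_3_2 lc_a_rc_2_2 lc_a_rc_0_0 lc_a_Cert_tree lc_a_rc_2_2 lc_a_rc_3_2 lc_a_rc_2_2 lc_a_rc_29_0 lc_a_rc_29_0 lc_a_rc_0_0 lc_a_rc_28_0 lc_a_rc_4_2 lc_a_rc_0_0 lc_a_rc_2_2 lc_a_rc_2_0 lc_a_rc_29_0 lc_a_rc_2_2 lc_a_rc_3_2 lc_a_rc_0_1 lc_a_rc_28_0 lc_a_rc_29_0 lc_a_Cert_tree lc_a_rc_3_2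 lc_a_rc_5_2 lc_a_rc_28_0 lc_a_rc_4_2 lc_a_rc_5_2 lc_a_Cert_tree) (@D3.rec (fun _ => (Cert rels S Gen.a)) lc_a_rc_29_0 lc_a_rc_5_0 lc_a_rc_28_0 lc_a_rc_0_1 lc_a_rc_29_0 lc_a_rc_0_0 lc_a_rc_28_0 lc_a_rc_29_0 lc_a_rc_0_0 lc_a_rc_2_2 lc_a_rc_28_0 lc_a_rc_29_0 lc_a_rc_2_2 lc_a_rc_3_2 lc_a_rc_29_0 lc_a_rc_28_0 lc_a_rc_0_0 lc_a_Cert_tree lc_a_rc_3_2 lc_a_rc_6_2 lc_a_rc_28_0 lc_a_rc_4_2 lc_a_rc_6_2 lc_a_Cert_tree lc_a_rc_0_0 lc_a_rc_29_0 lc_a_rc_5_2 lc_a_rc_6_2 lc_a_rc_30_8 lc_a_rc_6_2 lc_a_rc_29_0 lc_a_rc_29_0 lc_a_rc_28_0 lc_a_rc_29_0 lc_a_rc_3_2 lc_a_rc_2_2 lc_a_rc_29_0 lc_a_rc_29_0 lc_a_rc_29_0 lc_a_rc_4_2) (@D3.rec (fun _ => (Cert rels S Gen.a)) lc_a_rc_29_0 lc_a_rc_28_0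 lc_a_rc_3_2 lc_a_rc_2_2 lc_a_rc_4_2 lc_a_rc_0_1 lc_a_Cert_tree lc_a_rc_0_0 lc_a_rc_3_2 lc_a_rc_29_0 lc_a_rc_6_2 lc_a_rc_2_2 lc_a_rc_4_2 lc_a_rc_5_2 lc_a_Cert_tree lc_a_rc_28_0 lc_a_rc_2_2 lc_a_rc_2_2 lc_a_rc_5_2 lc_a_rc_3_2 lc_a_rc_29_0 lc_a_rc_6_2 lc_a_Cert_tree lc_a_rc_0_0 lc_a_rc_5_2 lc_a_rc_6_2 lc_a_rc_28_0 lc_a_rc_29_0 lc_a_rc_29_0 lc_a_rc_29_0 lc_a_rc_28_0 lc_a_rc_1_8 lc_a_rc_4_2 lc_a_rc_28_0 lc_a_rc_6_2 lc_a_rc_3_2 lc_a_rc_6_2 lc_a_rc_4_2 lc_a_rc_0_0 lc_a_rc_28_0) (@D3.rec (fun _ => (Cert rels S Gen.a)) lc_a_rc_3_2 lc_a_rc_2_2 lc_a_rc_4_2 lc_a_rc_29_0 lc_a_Cert_tree lc_a_rc_0_0 lc_a_rc_3_2 lc_a_rc_5_2 lc_a_rc_29_0 lc_a_rc_2_2 lc_a_rc_4_2 lc_a_rc_6_2 lc_a_Cert_tree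 lc_a_rc_28_0 lc_a_rc_2_2 lc_a_rc_2_2 lc_a_rc_6_2 lc_a_rc_29_0 lc_a_rc_0_0 lc_a_rc_29_0 lc_a_Cert_tree lc_a_rc_29_0 lc_a_rc_1_4 lc_a_rc_0_0 lc_a_rc_2_2 lc_a_rc_29_0 lc_a_rc_0_0 lc_a_rc_28_0 lc_a_rc_4_2 lc_a_rc_5_0 lc_a_Cert_tree lc_a_rc_0_0 lc_a_rc_2_2 lc_a_rc_5_2 lc_a_rc_1_6 lc_a_rc_2_2 lc_a_rc_5_2 lc_a_rc_3_2 lc_a_rc_5_2 lc_a_rc_0_0) (@D3.rec (fun _ => (Cert rels S Gen.a)) lc_a_rc_28_0 lc_a_rc_6_2 lc_a_rc_4_2 lc_a_Cert_tree lc_a_rc_4_2 lc_a_rc_0_1 lc_a_rc_5_2 lc_a_rc_29_0 lc_a_rc_1_8 lc_a_rc_5_2 lc_a_rc_29_0 lc_a_rc_0_0 lc_a_rc_2_2 lc_a_rc_6_2 lc_a_rc_0_0 lc_a_rc_2_2 lc_a_rc_29_0 lc_a_rc_29_0 lc_a_Cert_tree lc_a_rc_3_2 lc_a_rc_28_0 lc_a_rc_4_2 lc_a_rc_0_1 lc_a_Cert_tree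 lc_a_rc_0_0 lc_a_rc_2_2 lc_a_rc_29_0 lc_a_rc_2_2 lc_a_rc_6_2 lc_a_rc_3_2 lc_a_rc_6_2 lc_a_rc_0_0 lc_a_rc_29_0 lc_a_rc_0_0 lc_a_rc_0_0 lc_a_rc_3_2 lc_a_rc_5_2 lc_a_rc_5_0 lc_a_rc_4_2 lc_a_rc_5_2) (@D3.rec (fun _ => (Cert rels S Gen.a)) lc_a_Cert_tree lc_a_rc_0_1 lc_a_Cert_tree lc_a_rc_4_2 lc_a_rc_28_0 lc_a_rc_5_2 lc_a_rc_3_2 lc_a_rc_29_0 lc_a_rc_6_2 lc_a_Cert_tree lc_a_rc_0_0 lc_a_rc_2_2 lc_a_rc_0_1 lc_a_rc_0_0 lc_a_rc_2_2 lc_a_rc_29_0 lc_a_rc_0_0 lc_a_rc_28_0 lc_a_rc_0_1 lc_a_rc_29_0 lc_a_Cert_tree lc_a_rc_0_0 lc_a_rc_2_2 lc_a_rc_6_2 lc_a_rc_1_6 lc_a_rc_2_2 lc_a_rc_3_2 lc_a_rc_29_0 lc_a_rc_0_0 lc_a_rc_28_0 lc_a_rc_5_2 lc_a_rc_4_2 lc_a_Cert_tree lc_a_rc_4_2 lc_a_rc_0_1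 lc_a_rc_6_2 lc_a_rc_29_0 lc_a_rc_3_2 lc_a_rc_6_2 lc_a_rc_29_0) (@D3.rec (fun _ => (Cert rels S Gen.a)) lc_a_rc_0_0 lc_a_rc_2_2 lc_a_rc_5_2 lc_a_rc_0_0 lc_a_rc_2_2 lc_a_rc_0_1 lc_a_rc_29_0 lc_a_Cert_tree lc_a_rc_3_2 lc_a_rc_28_0 lc_a_rc_4_2 lc_a_rc_29_0 lc_a_Cert_tree lc_a_rc_0_0 lc_a_rc_2_2 lc_a_rc_0_1 lc_a_rc_2_2 lc_a_rc_5_2 lc_a_rc_3_2 lc_a_rc_5_2 lc_a_rc_29_0 lc_a_rc_29_0 lc_a_rc_0_1 lc_a_rc_0_0 lc_a_rc_3_2 lc_a_rc_5_2 lc_a_rc_5_0 lc_a_rc_4_2 lc_a_rc_6_2 lc_a_Cert_tree lc_a_rc_29_0 lc_a_Cert_tree lc_a_rc_4_2 lc_a_rc_28_0 lc_a_rc_6_2 lc_a_rc_3_2 lc_a_rc_0_0 lc_a_rc_5_2 lc_a_Cert_tree lc_a_rc_0_0) (@D3.rec (fun _ => (Cert rels S Gen.a)) lc_a_rc_2_2 lc_a_rc_1_6 lc_a_rc_29_0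 lc_a_rc_6_2 lc_a_Cert_tree lc_a_rc_28_0 lc_a_rc_29_0 lc_a_rc_29_0 lc_a_Cert_tree lc_a_rc_0_0 lc_a_Cert_tree lc_a_rc_0_0 lc_a_rc_2_2 lc_a_rc_5_2 lc_a_rc_29_0 lc_a_rc_2_2 lc_a_rc_2_2 lc_a_rc_3_2 lc_a_rc_29_0 lc_a_rc_0_0 lc_a_Cert_tree lc_a_rc_3_2 lc_a_rc_29_0 lc_a_Cert_tree lc_a_rc_0_0 lc_a_rc_1_6 lc_a_rc_0_0 lc_a_rc_2_2 lc_a_rc_4_2 lc_a_rc_29_0 lc_a_rc_1_8 lc_a_Cert_tree lc_a_rc_0_0 lc_a_rc_2_2 lc_a_rc_5_2 lc_a_rc_29_0 lc_a_rc_2_2 lc_a_rc_5_2 lc_a_rc_3_2 lc_a_rc_5_2) (@D3.rec (fun _ => (Cert rels S Gen.a)) lc_a_rc_29_0 lc_a_rc_29_0 lc_a_rc_1_6 lc_a_rc_3_2 lc_a_rc_5_2 lc_a_rc_2_2 lc_a_rc_4_2 lc_a_rc_5_2 lc_a_Cert_tree lc_a_rc_3_2 lc_a_rc_5_2 lc_a_rc_6_2 lc_a_rc_28_0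 lc_a_rc_0_1 lc_a_rc_5_2 lc_a_rc_6_2 lc_a_rc_28_0 lc_a_rc_29_0 lc_a_rc_2_2 lc_a_rc_29_0 lc_a_rc_4_2 lc_a_rc_3_2 lc_a_rc_29_0 lc_a_rc_0_0 lc_a_rc_0_1 lc_a_Cert_tree lc_a_Cert_tree lc_a_Cert_tree lc_a_rc_0_0 lc_a_rc_2_2 lc_a_rc_6_2 lc_a_rc_0_0 lc_a_rc_2_2 lc_a_rc_1_4 lc_a_rc_29_0 lc_a_rc_0_0 lc_a_rc_2_2 lc_a_rc_2_2 lc_a_rc_6_2 lc_a_rc_28_0) (@D3.rec (fun _ => (Cert rels S Gen.a)) lc_a_rc_6_2 lc_a_rc_29_0 lc_a_rc_2_2 lc_a_Cert_tree lc_a_rc_3_2 lc_a_rc_2_2 lc_a_rc_29_0 lc_a_rc_0_0 lc_a_rc_3_2 lc_a_rc_6_0 lc_a_rc_6_2 lc_a_rc_2_2 lc_a_rc_4_2 lc_a_Cert_tree lc_a_rc_28_0 lc_a_rc_2_2 lc_a_rc_2_2 lc_a_rc_0_1 lc_a_Cert_tree lc_a_rc_0_0 lc_a_rc_2_2 lc_a_rc_6_2 lc_a_rc_2_2 lc_a_rc_3_2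 lc_a_rc_29_0 lc_a_rc_3_2 lc_a_rc_6_2 lc_a_rc_2_2 lc_a_rc_4_2 lc_a_rc_6_2 lc_a_rc_0_1 lc_a_rc_0_0 lc_a_rc_30_16 lc_a_rc_3_2 lc_a_rc_5_2 lc_a_rc_6_2 lc_a_rc_0_0 lc_a_rc_3_2 lc_a_rc_0_1 lc_a_rc_6_2) (@D3.rec (fun _ => (Cert rels S Gen.a)) lc_a_rc_28_0 lc_a_rc_5_2 lc_a_rc_6_2 lc_a_Cert_tree lc_a_rc_4_2 lc_a_rc_29_0 lc_a_rc_1_4 lc_a_rc_3_2 lc_a_rc_5_2 lc_a_rc_6_2 lc_a_rc_0_1 lc_a_rc_4_2 lc_a_rc_5_2 lc_a_rc_6_2 lc_a_rc_5_2 lc_a_rc_29_0 lc_a_rc_29_0 lc_a_Cert_tree lc_a_rc_2_2 lc_a_rc_2_2 lc_a_rc_5_2 lc_a_rc_2_0 lc_a_rc_2_2 lc_a_rc_6_2 lc_a_rc_0_1 lc_a_rc_0_0 lc_a_rc_3_2 lc_a_rc_4_2 lc_a_rc_5_2 lc_a_rc_5_0 lc_a_rc_4_2 lc_a_rc_28_0 lc_a_rc_3_2 lc_a_rc_2_2 lc_a_rc_30_16 lc_a_rc_2_2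 lc_a_rc_29_0 lc_a_Cert_tree lc_a_rc_0_0 lc_a_rc_2_2) (@D3.rec (fun _ => (Cert rels S Gen.a)) lc_a_rc_5_2 lc_a_rc_2_2 lc_a_rc_29_0 lc_a_rc_5_0 lc_a_rc_5_2 lc_a_Cert_tree lc_a_rc_29_0 lc_a_rc_28_0 lc_a_Cert_tree lc_a_rc_29_0 lc_a_rc_0_0 lc_a_rc_0_0 lc_a_rc_2_2 lc_a_rc_6_2 lc_a_rc_29_0 lc_a_Cert_tree lc_a_rc_2_2 lc_a_rc_3_2 lc_a_rc_29_0 lc_a_rc_0_0 lc_a_Cert_tree lc_a_rc_3_2 lc_a_Cert_tree lc_a_rc_29_0 lc_a_rc_0_0 lc_a_rc_0_0 lc_a_rc_2_2 lc_a_rc_0_1 lc_a_rc_1_4 lc_a_rc_4_2 lc_a_rc_29_0 lc_a_Cert_tree lc_a_rc_0_0 lc_a_rc_2_2 lc_a_rc_6_2 lc_a_rc_1_6 lc_a_rc_2_2 lc_a_rc_6_2 lc_a_rc_3_2 lc_a_rc_6_2)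
def ce_a_11 : D2 → D3 → (Cert rels S Gen.a) := @D2.rec (fun _ => D3 → (Cert rels S Gen.a)) (@D3.rec (fun _ => (Cert rels S Gen.a)) lc_a_rc_1_6 lc_a_rc_2_2 lc_a_rc_30_4 lc_a_rc_3_2 lc_a_rc_2_2 lc_a_rc_4_2 lc_a_rc_29_0 lc_a_Cert_tree lc_a_rc_3_2 lc_a_rc_5_2 lc_a_rc_6_2 lc_a_rc_28_0 lc_a_rc_5_0 lc_a_rc_5_2 lc_a_rc_6_2 lc_a_rc_5_2 lc_a_rc_2_2 lc_a_rc_29_0 lc_a_rc_29_0 lc_a_rc_4_2 lc_a_rc_1_8 lc_a_rc_29_0 lc_a_rc_0_0 lc_a_rc_29_0 lc_a_Cert_tree lc_a_Cert_tree lc_a_Cert_tree lc_a_rc_0_0 lc_a_rc_2_2 lc_a_rc_5_2 lc_a_rc_0_0 lc_a_rc_2_2 lc_a_rc_29_0 lc_a_rc_29_0 lc_a_rc_0_0 lc_a_rc_2_2 lc_a_rc_2_2 lc_a_rc_5_2 lc_a_rc_28_0 lc_a_rc_5_2) (@D3.rec (fun _ => (Cert rels S Gen.a))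 lc_a_rc_29_0 lc_a_rc_2_2 lc_a_Cert_tree lc_a_rc_3_2 lc_a_rc_0_1 lc_a_rc_2_2 lc_a_rc_0_0 lc_a_rc_3_2 lc_a_rc_5_2 lc_a_rc_29_0 lc_a_rc_2_2 lc_a_rc_4_2 lc_a_Cert_tree lc_a_rc_28_0 lc_a_rc_28_0 lc_a_rc_28_0 lc_a_rc_29_0 lc_a_Cert_tree lc_a_rc_0_0 lc_a_rc_2_2 lc_a_rc_5_2 lc_a_rc_2_2 lc_a_rc_3_2 lc_a_rc_0_1 lc_a_rc_3_2 lc_a_rc_5_2 lc_a_rc_2_2 lc_a_rc_4_2 lc_a_rc_5_2 lc_a_rc_4_2 lc_a_rc_29_0 lc_a_rc_30_12 lc_a_rc_3_2 lc_a_rc_5_2 lc_a_rc_6_2 lc_a_rc_0_0 lc_a_rc_3_2 lc_a_rc_5_2 lc_a_rc_1_2 lc_a_rc_29_0) (@D3.rec (fun _ => (Cert rels S Gen.a)) lc_a_rc_5_2 lc_a_rc_28_0 lc_a_rc_2_0 lc_a_Cert_tree lc_a_rc_29_0 lc_a_rc_1_4 lc_a_rc_3_2 lc_a_rc_5_2 lc_a_rc_6_2 lc_a_rc_28_0 lc_a_rc_4_2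 lc_a_rc_5_2 lc_a_rc_6_2 lc_a_rc_29_0 lc_a_rc_3_0 lc_a_rc_29_0 lc_a_Cert_tree lc_a_rc_2_2 lc_a_rc_2_2 lc_a_rc_6_2 lc_a_rc_6_0 lc_a_rc_4_2 lc_a_rc_5_2 lc_a_rc_29_0 lc_a_rc_0_0 lc_a_rc_3_2 lc_a_rc_4_2 lc_a_rc_5_2 lc_a_rc_5_0 lc_a_rc_4_2 lc_a_rc_28_0 lc_a_rc_3_2 lc_a_rc_2_2 lc_a_rc_28_0 lc_a_rc_28_0 lc_a_rc_0_0 lc_a_Cert_tree lc_a_rc_0_0 lc_a_rc_2_2 lc_a_rc_6_2) (@D3.rec (fun _ => (Cert rels S Gen.a)) lc_a_rc_2_2 lc_a_rc_29_0 lc_a_rc_6_2 lc_a_rc_5_2 lc_a_rc_29_0 lc_a_Cert_tree lc_a_rc_6_2 lc_a_rc_4_2 lc_a_rc_0_0 lc_a_rc_0_0 lc_a_rc_2_2 lc_a_rc_0_1 lc_a_rc_3_2 lc_a_rc_30_16 lc_a_rc_6_2 lc_a_rc_4_2 lc_a_rc_3_2 lc_a_rc_5_2 lc_a_rc_6_2 lc_a_rc_28_0 lc_a_rc_4_2 lc_a_rc_5_2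 lc_a_rc_6_2 lc_a_rc_29_0 lc_a_rc_29_0 lc_a_Cert_tree lc_a_rc_4_2 lc_a_rc_1_4 lc_a_rc_29_0 lc_a_rc_6_2 lc_a_rc_28_0 lc_a_rc_4_2 lc_a_rc_5_2 lc_a_rc_6_2 lc_a_rc_29_0 lc_a_rc_29_0 lc_a_rc_28_0 lc_a_rc_2_2 lc_a_rc_2_2 lc_a_rc_28_0) (@D3.rec (fun _ => (Cert rels S Gen.a)) lc_a_rc_5_2 lc_a_rc_6_2 lc_a_rc_29_0 lc_a_rc_0_0 lc_a_rc_0_1 lc_a_Cert_tree lc_a_rc_29_0 lc_a_rc_4_2 lc_a_rc_5_2 lc_a_rc_6_2 lc_a_rc_5_2 lc_a_rc_6_2 lc_a_rc_29_0 lc_a_rc_29_0 lc_a_rc_5_2 lc_a_rc_6_2 lc_a_rc_0_0 lc_a_Cert_tree lc_a_rc_5_2 lc_a_rc_0_0 lc_a_rc_29_0 lc_a_rc_0_0 lc_a_rc_2_2 lc_a_rc_29_0 lc_a_rc_1_2 lc_a_rc_2_2 lc_a_rc_6_2 lc_a_rc_4_2 lc_a_rc_3_2 lc_a_rc_5_2 lc_a_rc_6_2 lc_a_rc_28_0 lc_a_rc_4_2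 lc_a_rc_5_2 lc_a_rc_6_2 lc_a_rc_29_0 lc_a_rc_29_0 lc_a_Cert_tree lc_a_rc_4_2 lc_a_rc_1_4) (@D3.rec (fun _ => (Cert rels S Gen.a)) lc_a_rc_5_2 lc_a_rc_29_0 lc_a_rc_28_0 lc_a_rc_4_2 lc_a_rc_5_2 lc_a_rc_6_2 lc_a_rc_29_0 lc_a_rc_29_0 lc_a_rc_28_0 lc_a_rc_2_2 lc_a_rc_28_0 lc_a_rc_29_0 lc_a_rc_5_2 lc_a_rc_6_2 lc_a_rc_29_0 lc_a_rc_0_0 lc_a_Cert_tree lc_a_rc_29_0 lc_a_rc_29_0 lc_a_rc_4_2 lc_a_rc_5_2 lc_a_rc_6_2 lc_a_rc_5_2 lc_a_rc_6_2 lc_a_rc_29_0 lc_a_rc_29_0 lc_a_rc_2_2 lc_a_Cert_tree lc_a_rc_0_0 lc_a_rc_3_2 lc_a_rc_5_2 lc_a_rc_5_0 lc_a_rc_4_2 lc_a_rc_5_2 lc_a_Cert_tree lc_a_rc_0_0 lc_a_rc_3_2 lc_a_rc_5_2 lc_a_rc_5_0 lc_a_rc_4_2) (@D3.rec (fun _ => (Cert rels S Gen.a)) lc_a_rc_6_2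 lc_a_rc_1_4 lc_a_rc_28_0 lc_a_rc_28_0 lc_a_rc_29_0 lc_a_rc_4_2 lc_a_rc_5_2 lc_a_rc_29_0 lc_a_rc_1_4 lc_a_rc_29_0 lc_a_rc_0_0 lc_a_Cert_tree lc_a_Cert_tree lc_a_rc_29_0 lc_a_rc_29_0 lc_a_rc_29_0 lc_a_rc_29_0 lc_a_rc_4_2 lc_a_rc_29_0 lc_a_rc_3_2 lc_a_rc_28_0 lc_a_rc_4_2 lc_a_rc_3_2 lc_a_rc_4_2 lc_a_rc_0_1 lc_a_rc_3_2 lc_a_rc_28_0 lc_a_rc_4_2 lc_a_rc_3_2 lc_a_rc_29_0 lc_a_rc_6_2 lc_a_rc_29_0 lc_a_rc_28_0 lc_a_rc_29_0 lc_a_rc_0_0 lc_a_rc_29_0 lc_a_rc_29_0 lc_a_rc_28_0 lc_a_rc_0_1 lc_a_rc_5_2) (@D3.rec (fun _ => (Cert rels S Gen.a)) lc_a_rc_3_2 lc_a_rc_28_0 lc_a_rc_4_2 lc_a_rc_29_0 lc_a_rc_28_0 lc_a_rc_6_2 lc_a_rc_28_0 lc_a_rc_6_2 lc_a_rc_2_2 lc_a_rc_29_0 lc_a_rc_29_0 lc_a_rc_28_0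 lc_a_rc_6_2 lc_a_rc_2_2 lc_a_rc_29_0 lc_a_rc_29_0 lc_a_rc_29_0 lc_a_rc_2_2 lc_a_rc_29_0 lc_a_rc_29_0 lc_a_rc_4_0 lc_a_rc_28_0 lc_a_rc_29_0 lc_a_rc_4_0 lc_a_rc_2_2 lc_a_rc_4_2 lc_a_rc_2_2 lc_a_rc_0_1 lc_a_Cert_tree lc_a_rc_0_0 lc_a_rc_1_4 lc_a_rc_3_2 lc_a_rc_6_2 lc_a_rc_4_2 lc_a_rc_28_0 lc_a_rc_0_1 lc_a_rc_2_2 lc_a_rc_5_2 lc_a_Cert_tree lc_a_rc_0_0) (@D3.rec (fun _ => (Cert rels S Gen.a)) lc_a_rc_6_2 lc_a_rc_2_2 lc_a_rc_4_2 lc_a_rc_29_0 lc_a_rc_28_0 lc_a_rc_6_2 lc_a_Cert_tree lc_a_rc_29_0 lc_a_rc_0_0 lc_a_rc_2_2 lc_a_rc_5_2 lc_a_rc_2_2 lc_a_rc_29_0 lc_a_rc_29_0 lc_a_rc_3_2 lc_a_rc_29_0 lc_a_rc_2_2 lc_a_rc_6_2 lc_a_rc_28_0 lc_a_rc_28_0 lc_a_rc_28_0 lc_a_rc_4_2 lc_a_rc_6_2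 lc_a_rc_1_4 lc_a_rc_28_0 lc_a_rc_1_2 lc_a_rc_28_0 lc_a_rc_2_2 lc_a_rc_4_2 lc_a_rc_29_0 lc_a_rc_29_0 lc_a_Cert_tree lc_a_rc_0_0 lc_a_rc_1_4 lc_a_rc_3_2 lc_a_rc_5_2 lc_a_rc_4_2 lc_a_rc_28_0 lc_a_rc_29_0 lc_a_rc_2_2) (@D3.rec (fun _ => (Cert rels S Gen.a)) lc_a_rc_6_2 lc_a_Cert_tree lc_a_rc_0_0 lc_a_rc_5_2 lc_a_rc_29_0 lc_a_rc_29_0 lc_a_rc_0_0 lc_a_rc_2_2 lc_a_rc_29_0 lc_a_Cert_tree lc_a_rc_0_0 lc_a_rc_0_0 lc_a_rc_2_2 lc_a_rc_6_0 lc_a_rc_0_0 lc_a_rc_2_2 lc_a_rc_0_1 lc_a_Cert_tree lc_a_rc_0_0 lc_a_rc_2_2 lc_a_rc_5_2 lc_a_rc_29_0 lc_a_rc_0_0 lc_a_rc_28_0 lc_a_rc_29_0 lc_a_rc_6_2 lc_a_rc_2_2 lc_a_rc_5_2 lc_a_rc_28_0 lc_a_rc_0_1 lc_a_rc_29_0 lc_a_rc_2_2 lc_a_rc_5_2 lc_a_rc_3_2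 lc_a_rc_5_2 lc_a_rc_4_2 lc_a_rc_4_0 lc_a_Cert_tree lc_a_rc_0_0 lc_a_rc_2_2) (@D3.rec (fun _ => (Cert rels S Gen.a)) lc_a_rc_2_2 lc_a_rc_5_2 lc_a_rc_6_2 lc_a_Cert_tree lc_a_rc_0_0 lc_a_rc_2_2 lc_a_rc_0_0 lc_a_rc_0_0 lc_a_rc_28_0 lc_a_rc_2_2 lc_a_rc_29_0 lc_a_rc_0_0 lc_a_rc_29_0 lc_a_Cert_tree lc_a_rc_0_0 lc_a_rc_3_2 lc_a_rc_0_0 lc_a_rc_0_0 lc_a_rc_29_0 lc_a_rc_2_2 lc_a_rc_28_0 lc_a_rc_0_0 lc_a_rc_5_2 lc_a_rc_29_0 lc_a_rc_5_2 lc_a_rc_29_0 lc_a_rc_29_0 lc_a_rc_30_8 lc_a_rc_3_2 lc_a_rc_5_2 lc_a_rc_28_0 lc_a_rc_29_0 lc_a_rc_3_2 lc_a_rc_2_2 lc_a_rc_4_2 lc_a_rc_5_2 lc_a_rc_2_2 lc_a_Cert_tree lc_a_rc_28_0 lc_a_rc_2_2) (@D3.rec (fun _ => (Cert rels S Gen.a)) lc_a_rc_5_2 lc_a_rc_0_0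 lc_a_rc_0_0 lc_a_rc_28_0 lc_a_rc_29_0 lc_a_rc_2_2 lc_a_rc_29_0 lc_a_rc_2_2 lc_a_rc_2_0 lc_a_rc_2_0 lc_a_rc_2_2 lc_a_rc_0_1 lc_a_rc_1_6 lc_a_Cert_tree lc_a_Cert_tree lc_a_rc_0_0 lc_a_rc_28_0 lc_a_rc_6_2 lc_a_rc_0_0 lc_a_rc_2_2 lc_a_rc_3_2 lc_a_rc_0_1 lc_a_rc_0_0 lc_a_rc_29_0 lc_a_rc_6_2 lc_a_rc_2_2 lc_a_rc_6_2 lc_a_rc_0_0 lc_a_rc_3_2 lc_a_rc_5_2 lc_a_rc_4_2 lc_a_Cert_tree lc_a_rc_29_0 lc_a_rc_0_0 lc_a_rc_4_0 lc_a_rc_29_0 lc_a_rc_2_2 lc_a_rc_28_0 lc_a_rc_6_2 lc_a_rc_29_0) (@D3.rec (fun _ => (Cert rels S Gen.a)) lc_a_rc_0_0 lc_a_rc_29_0 lc_a_rc_29_0 lc_a_rc_29_0 lc_a_rc_29_0 lc_a_rc_3_2 lc_a_rc_0_0 lc_a_rc_3_2 lc_a_rc_2_2 lc_a_rc_29_0 lc_a_rc_29_0 lc_a_rc_2_2 lc_a_rc_3_2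 lc_a_rc_6_2 lc_a_rc_2_2 lc_a_rc_4_2 lc_a_rc_0_0 lc_a_rc_29_0 lc_a_rc_4_0 lc_a_rc_2_2 lc_a_rc_0_0 lc_a_rc_4_2 lc_a_rc_0_1 lc_a_rc_6_2 lc_a_rc_4_2 lc_a_rc_3_2 lc_a_rc_2_2 lc_a_rc_2_0 lc_a_Cert_tree lc_a_rc_0_0 lc_a_rc_6_2 lc_a_rc_1_6 lc_a_rc_2_2 lc_a_rc_6_2 lc_a_rc_2_2 lc_a_rc_28_0 lc_a_rc_0_0 lc_a_rc_3_2 lc_a_rc_29_0 lc_a_rc_4_2) (@D3.rec (fun _ => (Cert rels S Gen.a)) lc_a_rc_2_2 lc_a_rc_29_0 lc_a_rc_28_0 lc_a_rc_29_0 lc_a_Cert_tree lc_a_rc_6_2 lc_a_rc_2_2 lc_a_rc_30_12 lc_a_rc_6_2 lc_a_rc_4_2 lc_a_rc_1_4 lc_a_rc_28_0 lc_a_rc_6_2 lc_a_rc_28_0 lc_a_rc_0_0 lc_a_rc_29_0 lc_a_rc_6_2 lc_a_rc_5_2 lc_a_rc_1_4 lc_a_rc_6_2 lc_a_rc_4_2 lc_a_rc_6_2 lc_a_rc_1_2 lc_a_Cert_tree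 lc_a_rc_2_2 lc_a_rc_2_2 lc_a_rc_29_0 lc_a_rc_6_2 lc_a_rc_29_0 lc_a_rc_0_0 lc_a_rc_0_0 lc_a_rc_29_0 lc_a_rc_0_0 lc_a_rc_4_2 lc_a_rc_5_2 lc_a_rc_5_0 lc_a_rc_3_2 lc_a_rc_2_2 lc_a_rc_29_0 lc_a_rc_0_0) (@D3.rec (fun _ => (Cert rels S Gen.a)) lc_a_rc_4_2 lc_a_Cert_tree lc_a_rc_3_2 lc_a_rc_4_2 lc_a_rc_5_2 lc_a_rc_6_2 lc_a_rc_2_2 lc_a_rc_4_2 lc_a_rc_5_2 lc_a_rc_6_2 lc_a_rc_3_2 lc_a_rc_5_2 lc_a_rc_6_2 lc_a_rc_29_0 lc_a_rc_29_0 lc_a_rc_28_0 lc_a_rc_4_2 lc_a_rc_2_2 lc_a_rc_3_2 lc_a_rc_2_2 lc_a_rc_28_0 lc_a_Cert_tree lc_a_rc_0_0 lc_a_rc_2_2 lc_a_rc_2_2 lc_a_rc_5_2 lc_a_rc_3_2 lc_a_rc_5_2 lc_a_rc_29_0 lc_a_rc_29_0 lc_a_rc_0_0 lc_a_rc_0_0 lc_a_Cert_tree lc_a_rc_0_0 lc_a_rc_2_2 lc_a_rc_6_2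 lc_a_rc_0_1 lc_a_rc_1_6 lc_a_rc_2_2 lc_a_rc_6_2) (@D3.rec (fun _ => (Cert rels S Gen.a)) lc_a_rc_28_0 lc_a_rc_1_4 lc_a_rc_6_0 lc_a_rc_29_0 lc_a_rc_0_0 lc_a_rc_3_2 lc_a_rc_28_0 lc_a_rc_3_2 lc_a_rc_0_0 lc_a_rc_4_2 lc_a_rc_29_0 lc_a_Cert_tree lc_a_rc_2_2 lc_a_rc_2_2 lc_a_rc_5_2 lc_a_rc_6_2 lc_a_Cert_tree lc_a_rc_0_0 lc_a_rc_2_2 lc_a_rc_1_4 lc_a_rc_0_0 lc_a_rc_2_2 lc_a_rc_28_0 lc_a_rc_29_0 lc_a_rc_0_0 lc_a_Cert_tree lc_a_rc_29_0 lc_a_rc_0_0 lc_a_rc_0_0 lc_a_rc_0_1 lc_a_rc_5_2 lc_a_rc_2_2 lc_a_rc_28_0 lc_a_rc_4_0 lc_a_rc_0_0 lc_a_rc_6_2 lc_a_rc_1_6 lc_a_rc_6_2 lc_a_rc_3_2 lc_a_rc_2_2) (@D3.rec (fun _ => (Cert rels S Gen.a)) lc_a_rc_0_1 lc_a_rc_6_2 lc_a_rc_29_0 lc_a_rc_0_1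 lc_a_rc_2_2 lc_a_rc_4_2 lc_a_Cert_tree lc_a_rc_28_0 lc_a_rc_5_0 lc_a_rc_29_0 lc_a_rc_0_0 lc_a_rc_28_0 lc_a_rc_28_0 lc_a_rc_4_2 lc_a_rc_2_2 lc_a_rc_6_2 lc_a_rc_2_2 lc_a_rc_2_0 lc_a_rc_2_0 lc_a_rc_2_2 lc_a_rc_1_4 lc_a_rc_30_4 lc_a_Cert_tree lc_a_rc_29_0 lc_a_rc_0_0 lc_a_rc_28_0 lc_a_rc_5_2 lc_a_rc_0_0 lc_a_rc_2_2 lc_a_rc_2_2 lc_a_rc_29_0 lc_a_rc_5_2 lc_a_rc_2_2 lc_a_rc_0_0 lc_a_rc_3_2 lc_a_rc_6_2 lc_a_rc_4_2 lc_a_Cert_tree lc_a_rc_29_0 lc_a_rc_0_0) (@D3.rec (fun _ => (Cert rels S Gen.a)) lc_a_rc_29_0 lc_a_rc_0_1 lc_a_rc_2_2 lc_a_rc_28_0 lc_a_rc_5_2 lc_a_rc_28_0 lc_a_rc_29_0 lc_a_rc_28_0 lc_a_rc_5_2 lc_a_rc_29_0 lc_a_rc_0_0 lc_a_rc_0_0 lc_a_rc_28_0 lc_a_rc_4_0 lc_a_rc_2_2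 lc_a_rc_29_0 lc_a_rc_30_16 lc_a_rc_3_2 lc_a_rc_5_2 lc_a_rc_2_2 lc_a_rc_4_2 lc_a_rc_29_0 lc_a_rc_29_0 lc_a_rc_29_0 lc_a_rc_0_0 lc_a_rc_4_2 lc_a_rc_5_2 lc_a_rc_4_0 lc_a_rc_29_0 lc_a_rc_29_0 lc_a_rc_3_2 lc_a_Cert_tree lc_a_rc_0_0 lc_a_rc_5_2 lc_a_rc_1_6 lc_a_rc_2_2 lc_a_rc_5_2 lc_a_rc_28_0 lc_a_rc_2_2 lc_a_rc_29_0) (@D3.rec (fun _ => (Cert rels S Gen.a)) lc_a_rc_3_2 lc_a_rc_29_0 lc_a_rc_4_2 lc_a_rc_2_2 lc_a_rc_0_1 lc_a_rc_28_0 lc_a_rc_6_2 lc_a_Cert_tree lc_a_rc_0_0 lc_a_rc_29_0 lc_a_rc_5_2 lc_a_rc_4_2 lc_a_rc_5_2 lc_a_rc_29_0 lc_a_rc_0_0 lc_a_rc_28_0 lc_a_rc_1_4 lc_a_rc_5_2 lc_a_rc_4_2 lc_a_rc_5_2 lc_a_rc_30_12 lc_a_rc_2_2 lc_a_rc_28_0 lc_a_rc_5_2 lc_a_rc_29_0 lc_a_rc_29_0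 lc_a_rc_0_0 lc_a_rc_0_1 lc_a_rc_29_0 lc_a_rc_29_0 lc_a_rc_4_2 lc_a_Cert_tree lc_a_rc_4_2 lc_a_rc_5_2 lc_a_rc_6_2 lc_a_rc_3_2 lc_a_rc_5_2 lc_a_rc_6_2 lc_a_rc_29_0 lc_a_rc_29_0) (@D3.rec (fun _ => (Cert rels S Gen.a)) lc_a_rc_28_0 lc_a_rc_29_0 lc_a_rc_0_0 lc_a_rc_28_0 lc_a_Cert_tree lc_a_rc_0_0 lc_a_rc_2_2 lc_a_rc_2_2 lc_a_rc_6_2 lc_a_rc_3_2 lc_a_rc_6_2 lc_a_rc_0_0 lc_a_rc_30_12 lc_a_rc_28_0 lc_a_rc_6_2 lc_a_rc_0_0 lc_a_rc_28_0 lc_a_rc_6_2 lc_a_rc_0_1 lc_a_rc_0_0 lc_a_rc_28_0 lc_a_rc_0_1 lc_a_rc_2_2 lc_a_rc_28_0 lc_a_rc_2_2 lc_a_rc_29_0 lc_a_rc_4_2 lc_a_rc_28_0 lc_a_rc_0_0 lc_a_rc_28_0 lc_a_rc_29_0 lc_a_rc_29_0 lc_a_rc_30_16 lc_a_rc_2_2 lc_a_rc_30_8 lc_a_rc_29_0 lc_a_rc_28_0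 lc_a_rc_28_0 lc_a_rc_6_2 lc_a_rc_29_0) (@D3.rec (fun _ => (Cert rels S Gen.a)) lc_a_rc_29_0 lc_a_rc_0_0 lc_a_Cert_tree lc_a_rc_0_0 lc_a_rc_2_2 lc_a_rc_28_0 lc_a_rc_5_2 lc_a_rc_6_2 lc_a_rc_2_2 lc_a_rc_4_2 lc_a_rc_28_0 lc_a_rc_3_2 lc_a_rc_2_2 lc_a_rc_2_2 lc_a_rc_29_0 lc_a_rc_29_0 lc_a_rc_0_0 lc_a_rc_3_2 lc_a_rc_0_0 lc_a_rc_2_2 lc_a_rc_28_0 lc_a_rc_0_0 lc_a_rc_2_2 lc_a_rc_29_0 lc_a_rc_3_2 lc_a_rc_5_2 lc_a_rc_6_2 lc_a_rc_2_2 lc_a_rc_0_1 lc_a_rc_29_0 lc_a_rc_29_0 lc_a_rc_0_0 lc_a_rc_29_0 lc_a_rc_5_2 lc_a_rc_29_0 lc_a_rc_28_0 lc_a_rc_5_2 lc_a_rc_29_0 lc_a_rc_0_0 lc_a_rc_5_2) (@D3.rec (fun _ => (Cert rels S Gen.a)) lc_a_rc_30_4 lc_a_rc_2_2 lc_a_rc_28_0 lc_a_rc_29_0 lc_a_rc_29_0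 lc_a_rc_4_2 lc_a_rc_28_0 lc_a_rc_29_0 lc_a_rc_29_0 lc_a_rc_30_4 lc_a_rc_29_0 lc_a_rc_1_4 lc_a_rc_5_2 lc_a_rc_6_2 lc_a_rc_2_2 lc_a_rc_28_0 lc_a_rc_5_2 lc_a_rc_0_1 lc_a_rc_29_0 lc_a_rc_28_0 lc_a_rc_0_0 lc_a_Cert_tree lc_a_rc_0_0 lc_a_rc_2_2 lc_a_rc_28_0 lc_a_rc_5_2 lc_a_rc_6_2 lc_a_rc_28_0 lc_a_rc_4_2 lc_a_rc_28_0 lc_a_rc_3_2 lc_a_rc_2_2 lc_a_rc_28_0 lc_a_rc_5_2 lc_a_rc_29_0 lc_a_rc_0_0 lc_a_rc_1_8 lc_a_rc_3_2 lc_a_rc_0_0 lc_a_rc_2_2) (@D3.rec (fun _ => (Cert rels S Gen.a)) lc_a_rc_0_1 lc_a_rc_29_0 lc_a_rc_28_0 lc_a_rc_3_2 lc_a_rc_5_2 lc_a_rc_6_2 lc_a_rc_2_2 lc_a_rc_0_1 lc_a_rc_0_1 lc_a_rc_29_0 lc_a_rc_0_0 lc_a_rc_0_0 lc_a_rc_5_2 lc_a_rc_0_1 lc_a_rc_4_2 lc_a_rc_29_0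 lc_a_rc_0_0 lc_a_rc_28_0 lc_a_rc_29_0 lc_a_rc_4_2 lc_a_rc_5_2 lc_a_rc_6_2 lc_a_rc_28_0 lc_a_rc_0_1 lc_a_rc_28_0 lc_a_rc_29_0 lc_a_rc_29_0 lc_a_rc_29_0 lc_a_rc_6_2 lc_a_rc_29_0 lc_a_rc_2_2 lc_a_rc_29_0 lc_a_rc_2_0 lc_a_rc_28_0 lc_a_rc_0_1 lc_a_rc_0_0 lc_a_rc_29_0 lc_a_rc_2_2 lc_a_rc_2_2 lc_a_rc_2_2) (@D3.rec (fun _ => (Cert rels S Gen.a)) lc_a_rc_2_2 lc_a_rc_3_2 lc_a_rc_5_2 lc_a_rc_6_2 lc_a_rc_29_0 lc_a_rc_28_0 lc_a_rc_4_2 lc_a_rc_28_0 lc_a_rc_28_0 lc_a_rc_2_2 lc_a_rc_2_2 lc_a_rc_6_2 lc_a_rc_4_2 lc_a_rc_0_0 lc_a_rc_29_0 lc_a_rc_0_0 lc_a_rc_29_0 lc_a_rc_0_0 lc_a_rc_28_0 lc_a_rc_6_2 lc_a_rc_4_2 lc_a_rc_0_0 lc_a_rc_0_0 lc_a_rc_28_0 lc_a_rc_0_0 lc_a_rc_4_2 lc_a_rc_5_2 lc_a_rc_6_2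 lc_a_rc_28_0 lc_a_rc_30_16 lc_a_rc_28_0 lc_a_rc_29_0 lc_a_rc_29_0 lc_a_rc_29_0 lc_a_rc_5_2 lc_a_rc_5_2 lc_a_rc_30_16 lc_a_rc_0_0 lc_a_rc_29_0 lc_a_rc_3_2) (@D3.rec (fun _ => (Cert rels S Gen.a)) lc_a_rc_5_2 lc_a_rc_5_2 lc_a_rc_4_0 lc_a_rc_2_2 lc_a_rc_5_2 lc_a_rc_1_4 lc_a_rc_6_2 lc_a_rc_29_0 lc_a_rc_28_0 lc_a_rc_4_2 lc_a_rc_29_0 lc_a_rc_29_0 lc_a_rc_29_0 lc_a_rc_5_2 lc_a_rc_28_0 lc_a_rc_2_2 lc_a_rc_29_0 lc_a_rc_0_0 lc_a_rc_2_2 lc_a_rc_0_0 lc_a_rc_28_0 lc_a_rc_29_0 lc_a_rc_5_2 lc_a_Cert_tree lc_a_rc_4_2 lc_a_rc_5_2 lc_a_rc_28_0 lc_a_rc_28_0 lc_a_rc_29_0 lc_a_rc_2_2 lc_a_rc_29_0 lc_a_rc_1_4 lc_a_rc_2_2 lc_a_rc_5_2 lc_a_rc_5_2 lc_a_rc_29_0 lc_a_rc_0_0 lc_a_rc_5_0 lc_a_rc_28_0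 lc_a_rc_29_0) (@D3.rec (fun _ => (Cert rels S Gen.a)) lc_a_Cert_tree lc_a_rc_3_2 lc_a_rc_0_1 lc_a_rc_4_2 lc_a_rc_2_2 lc_a_rc_5_0 lc_a_rc_0_0 lc_a_rc_0_0 lc_a_rc_1_6 lc_a_rc_28_0 lc_a_rc_3_2 lc_a_rc_2_2 lc_a_rc_4_2 lc_a_rc_2_2 lc_a_rc_4_2 lc_a_rc_3_2 lc_a_rc_5_2 lc_a_rc_29_0 lc_a_rc_0_0 lc_a_rc_29_0 lc_a_rc_0_0 lc_a_rc_6_2 lc_a_rc_1_4 lc_a_rc_5_2 lc_a_rc_3_2 lc_a_rc_3_2 lc_a_rc_4_2 lc_a_rc_28_0 lc_a_rc_28_0 lc_a_rc_4_2 lc_a_rc_6_2 lc_a_rc_1_2 lc_a_rc_1_4 lc_a_rc_2_2 lc_a_rc_1_4 lc_a_rc_29_0 lc_a_Cert_tree lc_a_rc_3_2 lc_a_rc_0_1 lc_a_rc_4_2)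
def ce_a_12 : D2 → D3 → (Cert rels S Gen.a) := @D2.rec (fun _ => D3 → (Cert rels S Gen.a)) (@D3.rec (fun _ => (Cert rels S Gen.a)) lc_a_rc_2_2 lc_a_rc_1_4 lc_a_rc_0_0 lc_a_rc_0_0 lc_a_rc_2_2 lc_a_rc_28_0 lc_a_rc_28_0 lc_a_rc_2_2 lc_a_rc_4_2 lc_a_rc_2_2 lc_a_rc_4_2 lc_a_rc_0_0 lc_a_rc_6_2 lc_a_rc_6_2 lc_a_rc_0_0 lc_a_rc_29_0 lc_a_rc_1_4 lc_a_rc_6_2 lc_a_rc_4_2 lc_a_rc_2_2 lc_a_rc_29_0 lc_a_rc_4_2 lc_a_rc_6_2 lc_a_rc_5_2 lc_a_rc_6_2 lc_a_rc_29_0 lc_a_rc_0_0 lc_a_rc_4_2 lc_a_rc_4_2 lc_a_rc_0_0 lc_a_rc_2_2 lc_a_rc_6_2 lc_a_rc_0_0 lc_a_rc_2_2 lc_a_rc_5_2 lc_a_rc_4_2 lc_a_rc_6_2 lc_a_rc_4_2 lc_a_rc_4_2 lc_a_rc_5_2) (@D3.rec (fun _ => (Cert rels S Gen.a)) lc_a_rc_28_0 lc_a_rc_1_4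 lc_a_rc_0_0 lc_a_Cert_tree lc_a_rc_0_0 lc_a_rc_2_2 lc_a_rc_5_2 lc_a_Cert_tree lc_a_rc_0_0 lc_a_rc_2_2 lc_a_rc_6_2 lc_a_rc_0_0 lc_a_rc_2_2 lc_a_rc_0_1 lc_a_rc_29_0 lc_a_rc_2_2 lc_a_rc_5_2 lc_a_rc_3_2 lc_a_rc_0_1 lc_a_rc_29_0 lc_a_rc_0_0 lc_a_rc_2_2 lc_a_rc_29_0 lc_a_rc_29_0 lc_a_rc_2_2 lc_a_rc_6_2 lc_a_rc_3_2 lc_a_rc_29_0 lc_a_rc_0_0 lc_a_rc_30_12 lc_a_rc_29_0 lc_a_Cert_tree lc_a_rc_28_0 lc_a_rc_29_0 lc_a_Cert_tree lc_a_rc_0_0 lc_a_rc_2_2 lc_a_rc_29_0 lc_a_rc_0_0 lc_a_rc_2_2) (@D3.rec (fun _ => (Cert rels S Gen.a)) lc_a_rc_29_0 lc_a_rc_0_0 lc_a_rc_2_2 lc_a_rc_1_2 lc_a_rc_0_0 lc_a_rc_4_2 lc_a_rc_0_1 lc_a_rc_6_2 lc_a_rc_29_0 lc_a_rc_28_0 lc_a_rc_1_6 lc_a_rc_2_2 lc_a_rc_28_0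 lc_a_Cert_tree lc_a_rc_29_0 lc_a_rc_28_0 lc_a_rc_1_6 lc_a_rc_2_2 lc_a_rc_6_2 lc_a_Cert_tree lc_a_rc_4_2 lc_a_rc_29_0 lc_a_rc_2_2 lc_a_rc_29_0 lc_a_rc_1_4 lc_a_rc_2_2 lc_a_rc_5_2 lc_a_rc_0_0 lc_a_rc_0_0 lc_a_rc_2_2 lc_a_rc_1_4 lc_a_rc_2_2 lc_a_rc_29_0 lc_a_rc_5_0 lc_a_rc_28_0 lc_a_rc_6_2 lc_a_rc_6_2 lc_a_rc_29_0 lc_a_rc_5_2 lc_a_rc_6_2) (@D3.rec (fun _ => (Cert rels S Gen.a)) lc_a_rc_3_0 lc_a_rc_5_2 lc_a_rc_3_0 lc_a_rc_28_0 lc_a_rc_29_0 lc_a_rc_28_0 lc_a_rc_29_0 lc_a_rc_6_2 lc_a_rc_29_0 lc_a_Cert_tree lc_a_rc_30_8 lc_a_rc_3_0 lc_a_rc_28_0 lc_a_rc_5_2 lc_a_rc_29_0 lc_a_Cert_tree lc_a_rc_2_2 lc_a_rc_29_0 lc_a_rc_0_0 lc_a_rc_0_1 lc_a_rc_0_0 lc_a_rc_28_0 lc_a_rc_3_2 lc_a_rc_29_0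 lc_a_Cert_tree lc_a_rc_0_0 lc_a_rc_2_2 lc_a_rc_0_1 lc_a_rc_2_2 lc_a_rc_5_2 lc_a_rc_5_2 lc_a_rc_29_0 lc_a_rc_3_2 lc_a_rc_3_2 lc_a_rc_0_1 lc_a_Cert_tree lc_a_rc_0_0 lc_a_rc_2_2 lc_a_rc_29_0 lc_a_rc_2_2) (@D3.rec (fun _ => (Cert rels S Gen.a)) lc_a_rc_6_2 lc_a_rc_6_2 lc_a_rc_0_0 lc_a_rc_2_2 lc_a_rc_1_2 lc_a_rc_29_0 lc_a_rc_0_0 lc_a_rc_0_1 lc_a_rc_3_2 lc_a_rc_29_0 lc_a_rc_5_2 lc_a_rc_29_0 lc_a_rc_2_2 lc_a_rc_29_0 lc_a_rc_29_0 lc_a_rc_0_0 lc_a_rc_29_0 lc_a_rc_1_2 lc_a_rc_0_1 lc_a_rc_6_2 lc_a_rc_0_0 lc_a_rc_6_2 lc_a_rc_28_0 lc_a_rc_28_0 lc_a_rc_4_2 lc_a_rc_6_2 lc_a_rc_0_1 lc_a_rc_2_2 lc_a_rc_5_2 lc_a_rc_6_2 lc_a_Cert_tree lc_a_rc_0_0 lc_a_rc_0_0 lc_a_rc_0_1 lc_a_rc_2_2 lc_a_rc_3_2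 lc_a_rc_0_1 lc_a_rc_5_2 lc_a_rc_1_4 lc_a_rc_0_0) (@D3.rec (fun _ => (Cert rels S Gen.a)) lc_a_rc_2_2 lc_a_rc_5_2 lc_a_rc_5_2 lc_a_rc_3_2 lc_a_rc_5_2 lc_a_rc_28_0 lc_a_rc_29_0 lc_a_rc_5_2 lc_a_rc_29_0 lc_a_rc_0_0 lc_a_rc_29_0 lc_a_rc_28_0 lc_a_rc_4_2 lc_a_rc_4_2 lc_a_rc_5_2 lc_a_rc_29_0 lc_a_rc_29_0 lc_a_rc_29_0 lc_a_rc_5_2 lc_a_Cert_tree lc_a_rc_29_0 lc_a_rc_0_0 lc_a_rc_29_0 lc_a_rc_2_2 lc_a_rc_3_2 lc_a_rc_29_0 lc_a_rc_3_0 lc_a_rc_5_2 lc_a_rc_0_0 lc_a_rc_2_2 lc_a_rc_29_0 lc_a_rc_29_0 lc_a_rc_3_2 lc_a_rc_6_2 lc_a_rc_28_0 lc_a_rc_2_0 lc_a_rc_6_2 lc_a_rc_0_0 lc_a_rc_29_0 lc_a_rc_1_2) (@D3.rec (fun _ => (Cert rels S Gen.a)) lc_a_rc_0_0 lc_a_rc_2_2 lc_a_rc_5_2 lc_a_rc_28_0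 lc_a_rc_5_2 lc_a_rc_29_0 lc_a_rc_29_0 lc_a_rc_0_0 lc_a_rc_2_2 lc_a_rc_6_2 lc_a_rc_30_12 lc_a_rc_6_2 lc_a_rc_0_0 lc_a_rc_0_0 lc_a_rc_2_2 lc_a_rc_0_1 lc_a_rc_2_2 lc_a_rc_28_0 lc_a_rc_0_1 lc_a_rc_5_2 lc_a_rc_28_0 lc_a_rc_29_0 lc_a_rc_0_0 lc_a_rc_2_2 lc_a_rc_29_0 lc_a_rc_2_2 lc_a_rc_28_0 lc_a_rc_29_0 lc_a_rc_6_2 lc_a_rc_28_0 lc_a_rc_0_0 lc_a_rc_28_0 lc_a_rc_28_0 lc_a_rc_28_0 lc_a_rc_29_0 lc_a_rc_2_0 lc_a_rc_28_0 lc_a_rc_3_2 lc_a_rc_5_2 lc_a_rc_29_0) (@D3.rec (fun _ => (Cert rels S Gen.a)) lc_a_rc_6_2 lc_a_rc_5_2 lc_a_rc_0_0 lc_a_Cert_tree lc_a_rc_0_0 lc_a_rc_28_0 lc_a_rc_29_0 lc_a_rc_6_2 lc_a_rc_0_0 lc_a_rc_0_0 lc_a_rc_2_2 lc_a_rc_2_2 lc_a_rc_6_2 lc_a_rc_6_2 lc_a_rc_2_2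 lc_a_rc_5_2 lc_a_rc_4_0 lc_a_rc_28_0 lc_a_rc_4_2 lc_a_rc_5_2 lc_a_rc_5_2 lc_a_rc_28_0 lc_a_rc_2_2 lc_a_rc_28_0 lc_a_rc_6_2 lc_a_rc_5_2 lc_a_rc_28_0 lc_a_rc_29_0 lc_a_Cert_tree lc_a_rc_0_0 lc_a_rc_30_12 lc_a_rc_28_0 lc_a_rc_3_0 lc_a_rc_3_0 lc_a_rc_0_0 lc_a_rc_2_2 lc_a_rc_2_2 lc_a_rc_5_2 lc_a_rc_5_2 lc_a_rc_2_2) (@D3.rec (fun _ => (Cert rels S Gen.a)) lc_a_rc_6_2 lc_a_rc_4_0 lc_a_rc_2_2 lc_a_rc_2_2 lc_a_rc_6_2 lc_a_rc_5_0 lc_a_rc_28_0 lc_a_rc_2_2 lc_a_rc_2_2 lc_a_rc_6_2 lc_a_rc_6_2 lc_a_rc_0_0 lc_a_rc_29_0 lc_a_rc_5_2 lc_a_rc_5_2 lc_a_rc_0_0 lc_a_rc_29_0 lc_a_rc_28_0 lc_a_rc_29_0 lc_a_rc_28_0 lc_a_rc_28_0 lc_a_rc_0_0 lc_a_rc_1_4 lc_a_rc_0_0 lc_a_rc_2_2 lc_a_rc_29_0 lc_a_Cert_tree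 lc_a_rc_0_0 lc_a_rc_2_2 lc_a_rc_0_1 lc_a_Cert_tree lc_a_rc_29_0 lc_a_rc_1_4 lc_a_rc_0_0 lc_a_rc_0_0 lc_a_rc_0_0 lc_a_rc_5_2 lc_a_rc_1_4 lc_a_rc_0_0 lc_a_rc_29_0) (@D3.rec (fun _ => (Cert rels S Gen.a)) lc_a_rc_6_2 lc_a_Cert_tree lc_a_rc_2_2 lc_a_rc_6_2 lc_a_rc_3_2 lc_a_rc_6_2 lc_a_rc_0_0 lc_a_Cert_tree lc_a_rc_2_2 lc_a_rc_5_2 lc_a_rc_3_2 lc_a_rc_5_2 lc_a_rc_29_0 lc_a_rc_0_0 lc_a_rc_4_2 lc_a_rc_0_0 lc_a_rc_29_0 lc_a_rc_6_2 lc_a_rc_29_0 lc_a_rc_0_0 lc_a_rc_4_2 lc_a_rc_29_0 lc_a_rc_29_0 lc_a_rc_5_2 lc_a_rc_5_2 lc_a_rc_6_2 lc_a_rc_5_2 lc_a_rc_0_0 lc_a_rc_2_2 lc_a_rc_1_2 lc_a_rc_0_0 lc_a_rc_0_1 lc_a_rc_0_1 lc_a_rc_29_0 lc_a_rc_2_2 lc_a_rc_5_2 lc_a_rc_28_0 lc_a_rc_5_2 lc_a_rc_29_0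 lc_a_rc_0_0) (@D3.rec (fun _ => (Cert rels S Gen.a)) lc_a_rc_2_2 lc_a_rc_3_2 lc_a_rc_0_0 lc_a_rc_1_8 lc_a_rc_29_0 lc_a_rc_29_0 lc_a_rc_2_2 lc_a_rc_6_2 lc_a_rc_28_0 lc_a_rc_6_2 lc_a_rc_0_0 lc_a_rc_29_0 lc_a_rc_2_2 lc_a_rc_29_0 lc_a_Cert_tree lc_a_rc_0_0 lc_a_rc_2_2 lc_a_rc_5_2 lc_a_rc_29_0 lc_a_rc_0_0 lc_a_rc_2_2 lc_a_rc_1_2 lc_a_rc_30_12 lc_a_rc_5_2 lc_a_rc_2_2 lc_a_rc_0_0 lc_a_rc_6_0 lc_a_rc_2_2 lc_a_rc_0_1 lc_a_Cert_tree lc_a_rc_0_0 lc_a_rc_2_2 lc_a_rc_6_2 lc_a_rc_4_2 lc_a_rc_0_0 lc_a_rc_2_2 lc_a_rc_0_0 lc_a_rc_2_0 lc_a_rc_6_2 lc_a_rc_2_2) (@D3.rec (fun _ => (Cert rels S Gen.a)) lc_a_rc_29_0 lc_a_rc_6_2 lc_a_Cert_tree lc_a_rc_0_0 lc_a_rc_2_2 lc_a_rc_2_0 lc_a_rc_0_0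 lc_a_Cert_tree lc_a_Cert_tree lc_a_rc_0_0 lc_a_rc_2_2 lc_a_rc_6_2 lc_a_rc_0_0 lc_a_rc_5_2 lc_a_rc_6_2 lc_a_rc_6_2 lc_a_Cert_tree lc_a_rc_5_2 lc_a_Cert_tree lc_a_rc_0_0 lc_a_rc_2_2 lc_a_rc_6_2 lc_a_rc_0_0 lc_a_Cert_tree lc_a_Cert_tree lc_a_rc_0_0 lc_a_rc_2_2 lc_a_rc_5_2 lc_a_rc_0_0 lc_a_rc_5_2 lc_a_rc_6_2 lc_a_rc_5_2 lc_a_Cert_tree lc_a_rc_3_2 lc_a_rc_5_2 lc_a_rc_6_2 lc_a_rc_0_1 lc_a_rc_29_0 lc_a_rc_5_2 lc_a_rc_4_0) (@D3.rec (fun _ => (Cert rels S Gen.a)) lc_a_rc_0_1 lc_a_rc_4_2 lc_a_rc_5_2 lc_a_rc_6_2 lc_a_rc_29_0 lc_a_rc_3_0 lc_a_rc_0_0 lc_a_rc_0_0 lc_a_rc_28_0 lc_a_rc_29_0 lc_a_rc_0_0 lc_a_rc_28_0 lc_a_rc_29_0 lc_a_rc_29_0 lc_a_rc_29_0 lc_a_Cert_tree lc_a_rc_0_0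 lc_a_rc_6_2 lc_a_Cert_tree lc_a_rc_0_0 lc_a_rc_29_0 lc_a_rc_5_2 lc_a_rc_28_0 lc_a_rc_2_2 lc_a_rc_5_2 lc_a_rc_3_2 lc_a_rc_5_2 lc_a_Cert_tree lc_a_rc_0_0 lc_a_rc_0_0 lc_a_rc_2_2 lc_a_rc_0_1 lc_a_Cert_tree lc_a_Cert_tree lc_a_rc_2_2 lc_a_rc_3_2 lc_a_rc_0_1 lc_a_Cert_tree lc_a_rc_0_0 lc_a_rc_2_2) (@D3.rec (fun _ => (Cert rels S Gen.a)) lc_a_rc_6_2 lc_a_rc_0_0 lc_a_rc_2_2 lc_a_rc_4_2 lc_a_rc_29_0 lc_a_Cert_tree lc_a_rc_3_2 lc_a_rc_0_0 lc_a_rc_28_0 lc_a_Cert_tree lc_a_rc_0_0 lc_a_rc_2_2 lc_a_rc_29_0 lc_a_rc_2_2 lc_a_rc_6_2 lc_a_rc_3_2 lc_a_rc_28_0 lc_a_rc_0_0 lc_a_rc_5_2 lc_a_rc_6_2 lc_a_rc_29_0 lc_a_rc_29_0 lc_a_rc_0_0 lc_a_rc_3_2 lc_a_rc_28_0 lc_a_rc_4_2 lc_a_rc_5_2 lc_a_rc_0_0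 lc_a_rc_0_1 lc_a_rc_3_2 lc_a_rc_5_2 lc_a_rc_6_2 lc_a_rc_6_2 lc_a_rc_29_0 lc_a_rc_4_0 lc_a_rc_4_0 lc_a_rc_0_1 lc_a_rc_4_2 lc_a_rc_5_2 lc_a_rc_6_2) (@D3.rec (fun _ => (Cert rels S Gen.a)) lc_a_rc_0_1 lc_a_rc_29_0 lc_a_rc_0_0 lc_a_rc_0_0 lc_a_rc_28_0 lc_a_rc_29_0 lc_a_rc_3_2 lc_a_rc_29_0 lc_a_rc_29_0 lc_a_Cert_tree lc_a_rc_29_0 lc_a_rc_0_0 lc_a_rc_5_2 lc_a_Cert_tree lc_a_rc_0_0 lc_a_rc_4_2 lc_a_rc_6_2 lc_a_rc_29_0 lc_a_rc_2_2 lc_a_rc_3_2 lc_a_rc_2_2 lc_a_Cert_tree lc_a_rc_29_0 lc_a_rc_0_0 lc_a_rc_2_2 lc_a_rc_29_0 lc_a_rc_1_8 lc_a_Cert_tree lc_a_rc_2_2 lc_a_rc_3_2 lc_a_rc_29_0 lc_a_Cert_tree lc_a_rc_0_0 lc_a_rc_2_2 lc_a_rc_5_2 lc_a_rc_0_0 lc_a_rc_2_2 lc_a_rc_0_1 lc_a_rc_4_2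 lc_a_Cert_tree) (@D3.rec (fun _ => (Cert rels S Gen.a)) lc_a_Cert_tree lc_a_rc_0_0 lc_a_rc_2_2 lc_a_rc_0_1 lc_a_rc_2_2 lc_a_rc_5_2 lc_a_rc_3_2 lc_a_rc_28_0 lc_a_rc_29_0 lc_a_rc_5_2 lc_a_rc_6_2 lc_a_rc_5_2 lc_a_rc_29_0 lc_a_rc_0_0 lc_a_rc_3_2 lc_a_rc_28_0 lc_a_rc_6_2 lc_a_rc_0_0 lc_a_rc_29_0 lc_a_rc_29_0 lc_a_rc_0_0 lc_a_rc_4_2 lc_a_rc_5_2 lc_a_rc_6_2 lc_a_rc_2_2 lc_a_rc_2_2 lc_a_rc_28_0 lc_a_rc_29_0 lc_a_rc_0_0 lc_a_Cert_tree lc_a_rc_3_0 lc_a_rc_0_0 lc_a_rc_2_2 lc_a_rc_28_0 lc_a_rc_29_0 lc_a_rc_3_2 lc_a_rc_2_2 lc_a_rc_5_2 lc_a_rc_28_0 lc_a_rc_5_2) (@D3.rec (fun _ => (Cert rels S Gen.a)) lc_a_Cert_tree lc_a_rc_29_0 lc_a_rc_0_0 lc_a_rc_2_2 lc_a_rc_6_2 lc_a_rc_3_2 lc_a_rc_5_2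 lc_a_Cert_tree lc_a_rc_29_0 lc_a_rc_4_2 lc_a_rc_5_2 lc_a_Cert_tree lc_a_rc_29_0 lc_a_rc_0_0 lc_a_rc_29_0 lc_a_rc_1_8 lc_a_rc_6_2 lc_a_rc_0_0 lc_a_rc_0_0 lc_a_rc_28_0 lc_a_rc_6_2 lc_a_rc_4_2 lc_a_rc_28_0 lc_a_rc_4_2 lc_a_rc_1_4 lc_a_rc_3_2 lc_a_rc_5_2 lc_a_rc_6_2 lc_a_rc_2_2 lc_a_rc_4_2 lc_a_rc_5_2 lc_a_rc_6_2 lc_a_rc_29_0 lc_a_rc_29_0 lc_a_rc_0_0 lc_a_rc_4_2 lc_a_rc_5_2 lc_a_rc_5_0 lc_a_rc_29_0 lc_a_rc_0_0) (@D3.rec (fun _ => (Cert rels S Gen.a)) lc_a_rc_4_2 lc_a_rc_5_2 lc_a_rc_6_2 lc_a_rc_2_2 lc_a_rc_2_2 lc_a_rc_29_0 lc_a_rc_29_0 lc_a_rc_0_0 lc_a_rc_1_8 lc_a_Cert_tree lc_a_rc_0_0 lc_a_rc_2_2 lc_a_rc_28_0 lc_a_rc_29_0 lc_a_rc_1_6 lc_a_rc_2_2 lc_a_rc_6_2 lc_a_rc_28_0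 lc_a_rc_6_2 lc_a_Cert_tree lc_a_rc_0_0 lc_a_rc_0_0 lc_a_rc_2_2 lc_a_rc_5_2 lc_a_rc_3_2 lc_a_rc_6_2 lc_a_Cert_tree lc_a_rc_29_0 lc_a_rc_4_2 lc_a_rc_6_2 lc_a_Cert_tree lc_a_rc_0_0 lc_a_rc_0_0 lc_a_rc_0_1 lc_a_rc_4_2 lc_a_rc_5_2 lc_a_rc_29_0 lc_a_rc_0_0 lc_a_rc_28_0 lc_a_rc_5_2) (@D3.rec (fun _ => (Cert rels S Gen.a)) lc_a_rc_4_2 lc_a_rc_28_0 lc_a_rc_4_2 lc_a_rc_1_4 lc_a_rc_3_2 lc_a_rc_5_2 lc_a_rc_6_2 lc_a_rc_2_2 lc_a_rc_4_2 lc_a_rc_5_2 lc_a_rc_6_2 lc_a_rc_29_0 lc_a_rc_29_0 lc_a_rc_0_0 lc_a_rc_4_2 lc_a_rc_5_2 lc_a_rc_5_0 lc_a_rc_6_2 lc_a_rc_29_0 lc_a_rc_0_0 lc_a_rc_29_0 lc_a_rc_2_2 lc_a_rc_28_0 lc_a_rc_0_0 lc_a_rc_28_0 lc_a_rc_5_2 lc_a_rc_6_2 lc_a_rc_4_2 lc_a_rc_0_0 lc_a_rc_5_2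 lc_a_rc_5_0 lc_a_rc_3_2 lc_a_rc_5_2 lc_a_rc_2_2 lc_a_rc_4_2 lc_a_rc_5_2 lc_a_rc_4_0 lc_a_rc_5_2 lc_a_rc_30_12 lc_a_rc_28_0) (@D3.rec (fun _ => (Cert rels S Gen.a)) lc_a_rc_29_0 lc_a_rc_2_2 lc_a_rc_28_0 lc_a_rc_0_0 lc_a_rc_28_0 lc_a_rc_5_2 lc_a_rc_6_2 lc_a_rc_4_2 lc_a_rc_0_0 lc_a_rc_5_2 lc_a_rc_5_0 lc_a_rc_3_2 lc_a_rc_2_2 lc_a_rc_4_2 lc_a_rc_4_0 lc_a_rc_6_2 lc_a_rc_5_2 lc_a_rc_1_2 lc_a_rc_1_4 lc_a_rc_2_2 lc_a_rc_5_2 lc_a_rc_0_1 lc_a_rc_29_0 lc_a_rc_28_0 lc_a_rc_2_2 lc_a_rc_28_0 lc_a_rc_2_2 lc_a_rc_0_1 lc_a_rc_5_2 lc_a_rc_28_0 lc_a_rc_0_1 lc_a_rc_29_0 lc_a_rc_2_2 lc_a_rc_6_2 lc_a_rc_29_0 lc_a_rc_0_0 lc_a_rc_2_2 lc_a_rc_2_2 lc_a_rc_28_0 lc_a_rc_2_2) (@D3.rec (fun _ =>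 (Cert rels S Gen.a)) lc_a_rc_28_0 lc_a_rc_6_2 lc_a_rc_28_0 lc_a_rc_4_2 lc_a_rc_4_2 lc_a_rc_29_0 lc_a_rc_30_8 lc_a_rc_0_0 lc_a_rc_28_0 lc_a_rc_2_2 lc_a_rc_29_0 lc_a_rc_1_4 lc_a_rc_29_0 lc_a_Cert_tree lc_a_rc_0_0 lc_a_rc_6_2 lc_a_rc_0_1 lc_a_rc_0_1 lc_a_Cert_tree lc_a_rc_0_0 lc_a_rc_28_0 lc_a_rc_6_2 lc_a_rc_28_0 lc_a_rc_5_2 lc_a_rc_0_0 lc_a_rc_29_0 lc_a_rc_5_2 lc_a_rc_4_2 lc_a_rc_1_2 lc_a_rc_0_0 lc_a_rc_29_0 lc_a_Cert_tree lc_a_rc_0_0 lc_a_rc_0_0 lc_a_rc_0_0 lc_a_rc_3_2 lc_a_rc_28_0 lc_a_rc_28_0 lc_a_rc_0_1 lc_a_rc_0_0) (@D3.rec (fun _ => (Cert rels S Gen.a)) lc_a_rc_2_2 lc_a_rc_29_0 lc_a_rc_29_0 lc_a_rc_2_2 lc_a_rc_6_2 lc_a_rc_6_2 lc_a_rc_0_0 lc_a_rc_2_2 lc_a_rc_1_8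 lc_a_rc_28_0 lc_a_rc_6_0 lc_a_rc_28_0 lc_a_rc_0_0 lc_a_rc_1_8 lc_a_rc_0_0 lc_a_rc_29_0 lc_a_rc_2_2 lc_a_Cert_tree lc_a_rc_2_2 lc_a_Cert_tree lc_a_rc_1_4 lc_a_rc_3_2 lc_a_rc_2_2 lc_a_rc_28_0 lc_a_rc_4_2 lc_a_rc_0_0 lc_a_rc_30_16 lc_a_rc_28_0 lc_a_rc_28_0 lc_a_rc_5_2 lc_a_rc_4_2 lc_a_rc_1_4 lc_a_rc_29_0 lc_a_rc_0_0 lc_a_rc_4_0 lc_a_rc_29_0 lc_a_rc_29_0 lc_a_Cert_tree lc_a_Cert_tree lc_a_rc_0_0) (@D3.rec (fun _ => (Cert rels S Gen.a)) lc_a_rc_29_0 lc_a_rc_29_0 lc_a_rc_28_0 lc_a_rc_6_2 lc_a_rc_6_2 lc_a_rc_0_0 lc_a_rc_29_0 lc_a_rc_1_2 lc_a_rc_0_0 lc_a_rc_29_0 lc_a_Cert_tree lc_a_rc_0_0 lc_a_rc_0_0 lc_a_rc_28_0 lc_a_rc_0_0 lc_a_rc_2_2 lc_a_rc_0_1 lc_a_rc_28_0 lc_a_rc_2_2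 lc_a_rc_5_2 lc_a_rc_29_0 lc_a_rc_2_2 lc_a_rc_28_0 lc_a_rc_28_0 lc_a_rc_28_0 lc_a_Cert_tree lc_a_rc_1_4 lc_a_rc_3_2 lc_a_rc_28_0 lc_a_rc_29_0 lc_a_rc_0_0 lc_a_rc_29_0 lc_a_Cert_tree lc_a_rc_0_0 lc_a_rc_1_4 lc_a_rc_6_2 lc_a_rc_29_0 lc_a_rc_29_0 lc_a_rc_1_2 lc_a_rc_29_0) (@D3.rec (fun _ => (Cert rels S Gen.a)) lc_a_rc_28_0 lc_a_rc_29_0 lc_a_rc_29_0 lc_a_rc_29_0 lc_a_rc_2_2 lc_a_rc_29_0 lc_a_rc_2_2 lc_a_rc_4_2 lc_a_Cert_tree lc_a_rc_0_0 lc_a_rc_28_0 lc_a_rc_29_0 lc_a_rc_0_1 lc_a_rc_2_2 lc_a_rc_0_0 lc_a_rc_29_0 lc_a_rc_29_0 lc_a_rc_29_0 lc_a_rc_28_0 lc_a_rc_29_0 lc_a_rc_3_2 lc_a_rc_6_2 lc_a_rc_4_2 lc_a_rc_0_0 lc_a_rc_0_0 lc_a_rc_28_0 lc_a_rc_2_0 lc_a_rc_28_0 lc_a_rc_5_2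 lc_a_rc_29_0 lc_a_rc_4_2 lc_a_rc_2_0 lc_a_rc_28_0 lc_a_Cert_tree lc_a_rc_28_0 lc_a_Cert_tree lc_a_rc_4_2 lc_a_rc_6_2 lc_a_rc_6_2 lc_a_rc_0_0) (@D3.rec (fun _ => (Cert rels S Gen.a)) lc_a_rc_28_0 lc_a_rc_29_0 lc_a_rc_0_0 lc_a_Cert_tree lc_a_rc_4_0 lc_a_rc_29_0 lc_a_rc_0_0 lc_a_rc_28_0 lc_a_rc_29_0 lc_a_rc_29_0 lc_a_rc_4_2 lc_a_rc_28_0 lc_a_rc_3_2 lc_a_rc_29_0 lc_a_rc_29_0 lc_a_rc_29_0 lc_a_rc_29_0 lc_a_rc_28_0 lc_a_rc_2_2 lc_a_rc_4_2 lc_a_Cert_tree lc_a_rc_0_0 lc_a_rc_0_1 lc_a_rc_28_0 lc_a_rc_29_0 lc_a_rc_2_2 lc_a_rc_0_0 lc_a_rc_0_1 lc_a_rc_30_16 lc_a_rc_1_2 lc_a_rc_2_2 lc_a_rc_28_0 lc_a_rc_3_2 lc_a_rc_5_2 lc_a_rc_4_2 lc_a_rc_29_0 lc_a_rc_0_0 lc_a_rc_28_0 lc_a_rc_0_0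 lc_a_rc_28_0) (@D3.rec (fun _ => (Cert rels S Gen.a)) lc_a_rc_28_0 lc_a_rc_6_2 lc_a_rc_4_2 lc_a_rc_28_0 lc_a_rc_29_0 lc_a_rc_28_0 lc_a_Cert_tree lc_a_Cert_tree lc_a_rc_4_2 lc_a_rc_5_2 lc_a_rc_5_2 lc_a_rc_0_1 lc_a_rc_6_2 lc_a_rc_29_0 lc_a_rc_0_0 lc_a_rc_2_2 lc_a_rc_29_0 lc_a_rc_29_0 lc_a_rc_29_0 lc_a_rc_28_0 lc_a_rc_0_0 lc_a_rc_29_0 lc_a_rc_4_2 lc_a_rc_3_2 lc_a_rc_5_2 lc_a_rc_2_2 lc_a_rc_4_2 lc_a_rc_28_0 lc_a_rc_2_2 lc_a_rc_0_0 lc_a_rc_29_0 lc_a_rc_3_2 lc_a_rc_30_12 lc_a_rc_0_1 lc_a_rc_4_2 lc_a_rc_5_2 lc_a_rc_6_2 lc_a_rc_28_0 lc_a_rc_29_0 lc_a_rc_29_0)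
def ce_a_13 : D2 → D3 → (Cert rels S Gen.a) := @D2.rec (fun _ => D3 → (Cert rels S Gen.a)) (@D3.rec (fun _ => (Cert rels S Gen.a)) lc_a_Cert_tree lc_a_rc_5_2 lc_a_rc_5_2 lc_a_rc_0_0 lc_a_rc_0_0 lc_a_rc_29_0 lc_a_rc_4_2 lc_a_rc_3_2 lc_a_rc_6_2 lc_a_rc_2_2 lc_a_rc_4_2 lc_a_rc_3_2 lc_a_rc_28_0 lc_a_rc_0_0 lc_a_rc_28_0 lc_a_rc_3_2 lc_a_rc_30_4 lc_a_rc_28_0 lc_a_rc_4_2 lc_a_rc_5_2 lc_a_rc_6_2 lc_a_rc_28_0 lc_a_rc_28_0 lc_a_rc_4_2 lc_a_Cert_tree lc_a_rc_3_2 lc_a_rc_29_0 lc_a_rc_0_0 lc_a_rc_29_0 lc_a_rc_4_0 lc_a_rc_28_0 lc_a_rc_28_0 lc_a_rc_28_0 lc_a_rc_6_2 lc_a_rc_0_0 lc_a_rc_28_0 lc_a_rc_28_0 lc_a_rc_0_0 lc_a_rc_28_0 lc_a_rc_0_0) (@D3.rec (fun _ => (Cert rels S Gen.a))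 lc_a_rc_1_8 lc_a_rc_5_2 lc_a_rc_6_2 lc_a_rc_0_0 lc_a_rc_2_2 lc_a_rc_1_6 lc_a_rc_0_0 lc_a_rc_1_6 lc_a_rc_0_0 lc_a_rc_2_2 lc_a_rc_29_0 lc_a_rc_1_6 lc_a_rc_0_0 lc_a_rc_0_0 lc_a_rc_3_2 lc_a_rc_29_0 lc_a_rc_29_0 lc_a_rc_1_8 lc_a_rc_0_0 lc_a_rc_29_0 lc_a_rc_29_0 lc_a_rc_3_2 lc_a_rc_29_0 lc_a_rc_28_0 lc_a_rc_0_1 lc_a_rc_29_0 lc_a_rc_6_2 lc_a_rc_5_2 lc_a_rc_29_0 lc_a_rc_29_0 lc_a_rc_28_0 lc_a_rc_2_2 lc_a_rc_29_0 lc_a_rc_0_0 lc_a_rc_0_0 lc_a_rc_3_2 lc_a_rc_29_0 lc_a_rc_0_0 lc_a_rc_2_2 lc_a_rc_5_2) (@D3.rec (fun _ => (Cert rels S Gen.a)) lc_a_rc_0_0 lc_a_rc_2_2 lc_a_rc_6_2 lc_a_rc_29_0 lc_a_rc_0_0 lc_a_rc_2_2 lc_a_rc_2_2 lc_a_rc_2_2 lc_a_rc_5_2 lc_a_rc_5_0 lc_a_rc_5_2 lc_a_rc_2_2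 lc_a_rc_6_2 lc_a_rc_3_2 lc_a_rc_6_2 lc_a_rc_0_0 lc_a_rc_29_0 lc_a_rc_28_0 lc_a_rc_6_2 lc_a_rc_3_2 lc_a_rc_4_2 lc_a_rc_1_4 lc_a_rc_0_0 lc_a_rc_2_2 lc_a_rc_0_1 lc_a_rc_29_0 lc_a_rc_0_0 lc_a_rc_2_2 lc_a_rc_29_0 lc_a_rc_0_0 lc_a_rc_29_0 lc_a_rc_0_1 lc_a_rc_0_1 lc_a_rc_2_2 lc_a_rc_5_2 lc_a_rc_28_0 lc_a_rc_5_2 lc_a_rc_29_0 lc_a_rc_0_0 lc_a_rc_29_0) (@D3.rec (fun _ => (Cert rels S Gen.a)) lc_a_rc_29_0 lc_a_rc_29_0 lc_a_rc_2_2 lc_a_rc_6_2 lc_a_rc_28_0 lc_a_rc_6_2 lc_a_rc_0_0 lc_a_rc_4_2 lc_a_rc_3_2 lc_a_rc_29_0 lc_a_rc_1_2 lc_a_rc_4_2 lc_a_rc_29_0 lc_a_rc_4_2 lc_a_rc_5_2 lc_a_rc_4_2 lc_a_rc_29_0 lc_a_rc_0_1 lc_a_rc_0_0 lc_a_rc_28_0 lc_a_rc_6_2 lc_a_rc_29_0 lc_a_rc_0_1 lc_a_rc_29_0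 lc_a_rc_0_0 lc_a_rc_29_0 lc_a_rc_29_0 lc_a_rc_29_0 lc_a_rc_29_0 lc_a_rc_29_0 lc_a_rc_6_2 lc_a_rc_1_4 lc_a_rc_0_0 lc_a_rc_29_0 lc_a_rc_4_2 lc_a_rc_0_0 lc_a_rc_28_0 lc_a_rc_0_0 lc_a_rc_1_4 lc_a_rc_0_1) (@D3.rec (fun _ => (Cert rels S Gen.a)) lc_a_rc_5_2 lc_a_rc_2_2 lc_a_rc_5_2 lc_a_rc_3_2 lc_a_rc_28_0 lc_a_rc_29_0 lc_a_rc_0_0 lc_a_rc_1_4 lc_a_rc_29_0 lc_a_rc_29_0 lc_a_rc_2_2 lc_a_rc_6_2 lc_a_rc_28_0 lc_a_rc_28_0 lc_a_rc_0_0 lc_a_rc_5_2 lc_a_rc_1_6 lc_a_rc_28_0 lc_a_rc_6_2 lc_a_rc_1_6 lc_a_rc_28_0 lc_a_rc_6_2 lc_a_rc_28_0 lc_a_rc_5_2 lc_a_rc_28_0 lc_a_rc_0_0 lc_a_rc_3_0 lc_a_rc_1_4 lc_a_rc_0_0 lc_a_rc_29_0 lc_a_rc_29_0 lc_a_rc_5_2 lc_a_rc_5_2 lc_a_rc_6_2 lc_a_rc_0_0 lc_a_rc_0_1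 lc_a_rc_29_0 lc_a_rc_0_0 lc_a_rc_29_0 lc_a_rc_2_2) (@D3.rec (fun _ => (Cert rels S Gen.a)) lc_a_rc_29_0 lc_a_rc_3_2 lc_a_rc_29_0 lc_a_rc_2_2 lc_a_rc_4_2 lc_a_rc_29_0 lc_a_rc_2_2 lc_a_rc_29_0 lc_a_rc_29_0 lc_a_Cert_tree lc_a_rc_0_0 lc_a_rc_2_2 lc_a_rc_0_1 lc_a_rc_29_0 lc_a_rc_2_2 lc_a_rc_3_2 lc_a_rc_0_1 lc_a_rc_0_0 lc_a_rc_2_2 lc_a_rc_29_0 lc_a_Cert_tree lc_a_rc_3_2 lc_a_rc_5_2 lc_a_rc_5_2 lc_a_rc_29_0 lc_a_rc_0_0 lc_a_rc_0_1 lc_a_rc_4_2 lc_a_rc_2_2 lc_a_rc_4_2 lc_a_rc_28_0 lc_a_rc_2_2 lc_a_rc_2_2 lc_a_rc_0_1 lc_a_Cert_tree lc_a_rc_0_0 lc_a_rc_2_2 lc_a_rc_29_0 lc_a_rc_29_0 lc_a_rc_2_2) (@D3.rec (fun _ => (Cert rels S Gen.a)) lc_a_rc_3_2 lc_a_rc_29_0 lc_a_rc_0_0 lc_a_rc_2_2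 lc_a_rc_0_0 lc_a_Cert_tree lc_a_rc_3_2 lc_a_rc_6_2 lc_a_rc_6_2 lc_a_rc_0_0 lc_a_rc_29_0 lc_a_rc_29_0 lc_a_rc_29_0 lc_a_rc_29_0 lc_a_rc_3_2 lc_a_rc_29_0 lc_a_rc_0_0 lc_a_rc_29_0 lc_a_rc_28_0 lc_a_rc_29_0 lc_a_rc_2_2 lc_a_rc_28_0 lc_a_rc_28_0 lc_a_rc_29_0 lc_a_rc_0_0 lc_a_rc_0_0 lc_a_rc_28_0 lc_a_Cert_tree lc_a_rc_0_0 lc_a_rc_0_0 lc_a_rc_2_2 lc_a_rc_2_2 lc_a_rc_6_2 lc_a_Cert_tree lc_a_rc_0_0 lc_a_rc_2_2 lc_a_rc_5_2 lc_a_rc_5_2 lc_a_rc_29_0 lc_a_rc_29_0) (@D3.rec (fun _ => (Cert rels S Gen.a)) lc_a_rc_3_2 lc_a_rc_2_2 lc_a_Cert_tree lc_a_rc_29_0 lc_a_rc_0_0 lc_a_Cert_tree lc_a_rc_0_0 lc_a_rc_2_2 lc_a_rc_6_2 lc_a_rc_2_2 lc_a_rc_29_0 lc_a_Cert_tree lc_a_rc_3_2 lc_a_rc_2_2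 lc_a_rc_4_2 lc_a_rc_0_1 lc_a_rc_30_16 lc_a_rc_2_2 lc_a_rc_3_2 lc_a_rc_29_0 lc_a_rc_4_2 lc_a_rc_3_2 lc_a_rc_4_2 lc_a_rc_4_2 lc_a_rc_30_4 lc_a_rc_0_1 lc_a_rc_2_2 lc_a_rc_4_2 lc_a_rc_5_2 lc_a_rc_30_12 lc_a_Cert_tree lc_a_rc_2_2 lc_a_rc_2_2 lc_a_rc_5_2 lc_a_rc_29_0 lc_a_Cert_tree lc_a_rc_0_1 lc_a_rc_0_1 lc_a_Cert_tree lc_a_rc_29_0) (@D3.rec (fun _ => (Cert rels S Gen.a)) lc_a_rc_2_2 lc_a_rc_2_2 lc_a_rc_5_2 lc_a_Cert_tree lc_a_rc_0_0 lc_a_rc_2_2 lc_a_rc_6_2 lc_a_rc_29_0 lc_a_rc_4_2 lc_a_rc_3_2 lc_a_rc_2_2 lc_a_Cert_tree lc_a_rc_2_2 lc_a_rc_29_0 lc_a_rc_28_0 lc_a_rc_0_0 lc_a_rc_2_2 lc_a_rc_5_2 lc_a_rc_2_2 lc_a_rc_30_8 lc_a_Cert_tree lc_a_rc_3_2 lc_a_rc_2_2 lc_a_rc_4_2 lc_a_rc_29_0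 lc_a_rc_29_0 lc_a_rc_2_2 lc_a_rc_3_2 lc_a_rc_29_0 lc_a_rc_5_0 lc_a_rc_28_0 lc_a_rc_5_2 lc_a_rc_6_2 lc_a_rc_30_4 lc_a_rc_30_16 lc_a_rc_2_2 lc_a_rc_4_2 lc_a_rc_6_2 lc_a_rc_0_0 lc_a_Cert_tree) (@D3.rec (fun _ => (Cert rels S Gen.a)) lc_a_rc_2_2 lc_a_rc_2_2 lc_a_rc_6_2 lc_a_rc_0_0 lc_a_Cert_tree lc_a_rc_5_2 lc_a_rc_29_0 lc_a_rc_1_4 lc_a_rc_3_2 lc_a_rc_5_2 lc_a_rc_6_2 lc_a_rc_2_2 lc_a_rc_4_2 lc_a_rc_5_2 lc_a_rc_6_2 lc_a_rc_29_0 lc_a_rc_0_0 lc_a_rc_4_2 lc_a_rc_5_2 lc_a_rc_5_0 lc_a_rc_1_4 lc_a_rc_3_2 lc_a_rc_5_2 lc_a_rc_6_2 lc_a_rc_2_2 lc_a_rc_29_0 lc_a_rc_28_0 lc_a_rc_6_2 lc_a_rc_29_0 lc_a_rc_0_0 lc_a_rc_4_2 lc_a_rc_5_2 lc_a_rc_5_0 lc_a_rc_0_0 lc_a_rc_5_2 lc_a_rc_5_0 lc_a_rc_3_2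 lc_a_rc_5_2 lc_a_rc_2_2 lc_a_rc_4_2) (@D3.rec (fun _ => (Cert rels S Gen.a)) lc_a_rc_5_2 lc_a_rc_30_0 lc_a_rc_0_0 lc_a_rc_5_2 lc_a_rc_5_0 lc_a_rc_3_2 lc_a_rc_2_2 lc_a_rc_4_2 lc_a_rc_30_4 lc_a_rc_0_0 lc_a_rc_0_1 lc_a_rc_29_0 lc_a_rc_29_0 lc_a_rc_0_1 lc_a_rc_1_2 lc_a_rc_4_2 lc_a_rc_28_0 lc_a_rc_2_2 lc_a_rc_29_0 lc_a_rc_3_2 lc_a_rc_0_1 lc_a_rc_2_2 lc_a_rc_2_2 lc_a_rc_1_4 lc_a_rc_28_0 lc_a_rc_29_0 lc_a_rc_0_0 lc_a_rc_28_0 lc_a_rc_0_1 lc_a_rc_2_2 lc_a_rc_4_2 lc_a_rc_5_2 lc_a_Cert_tree lc_a_rc_28_0 lc_a_rc_28_0 lc_a_rc_28_0 lc_a_rc_4_2 lc_a_rc_29_0 lc_a_Cert_tree lc_a_rc_4_2) (@D3.rec (fun _ => (Cert rels S Gen.a)) lc_a_rc_28_0 lc_a_rc_2_2 lc_a_rc_0_0 lc_a_rc_3_2 lc_a_rc_0_0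 lc_a_rc_4_0 lc_a_rc_0_0 lc_a_rc_0_0 lc_a_rc_28_0 lc_a_rc_28_0 lc_a_rc_2_2 lc_a_rc_4_2 lc_a_rc_6_2 lc_a_Cert_tree lc_a_rc_28_0 lc_a_rc_4_2 lc_a_rc_28_0 lc_a_rc_28_0 lc_a_Cert_tree lc_a_rc_2_2 lc_a_Cert_tree lc_a_rc_5_2 lc_a_rc_1_8 lc_a_rc_2_2 lc_a_Cert_tree lc_a_rc_6_2 lc_a_rc_29_0 lc_a_rc_29_0 lc_a_rc_28_0 lc_a_rc_28_0 lc_a_rc_3_2 lc_a_rc_4_2 lc_a_rc_1_4 lc_a_rc_1_6 lc_a_rc_29_0 lc_a_rc_0_0 lc_a_rc_3_2 lc_a_rc_0_1 lc_a_rc_28_0 lc_a_rc_4_2) (@D3.rec (fun _ => (Cert rels S Gen.a)) lc_a_rc_5_2 lc_a_rc_1_4 lc_a_rc_4_2 lc_a_rc_28_0 lc_a_rc_5_2 lc_a_rc_3_2 lc_a_rc_30_12 lc_a_rc_28_0 lc_a_rc_1_4 lc_a_rc_3_2 lc_a_rc_4_2 lc_a_rc_1_4 lc_a_rc_28_0 lc_a_rc_29_0 lc_a_rc_0_0 lc_a_rc_3_2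 lc_a_rc_28_0 lc_a_rc_28_0 lc_a_rc_4_2 lc_a_rc_6_2 lc_a_rc_28_0 lc_a_rc_4_2 lc_a_rc_29_0 lc_a_rc_6_2 lc_a_rc_0_0 lc_a_rc_0_0 lc_a_rc_0_0 lc_a_rc_3_2 lc_a_rc_2_2 lc_a_rc_5_2 lc_a_rc_28_0 lc_a_rc_2_2 lc_a_rc_29_0 lc_a_rc_29_0 lc_a_rc_2_2 lc_a_rc_28_0 lc_a_rc_4_2 lc_a_rc_29_0 lc_a_rc_2_2 lc_a_rc_6_2) (@D3.rec (fun _ => (Cert rels S Gen.a)) lc_a_rc_6_2 lc_a_rc_0_0 lc_a_rc_2_2 lc_a_rc_2_2 lc_a_rc_29_0 lc_a_rc_0_0 lc_a_rc_5_2 lc_a_rc_4_0 lc_a_rc_2_0 lc_a_rc_2_2 lc_a_rc_4_2 lc_a_rc_28_0 lc_a_rc_2_2 lc_a_rc_29_0 lc_a_rc_0_1 lc_a_Cert_tree lc_a_rc_3_2 lc_a_rc_5_2 lc_a_rc_4_2 lc_a_rc_3_2 lc_a_rc_1_4 lc_a_rc_3_2 lc_a_rc_5_2 lc_a_rc_6_2 lc_a_rc_28_0 lc_a_rc_0_1 lc_a_rc_28_0 lc_a_rc_29_0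 lc_a_rc_29_0 lc_a_rc_2_2 lc_a_rc_5_2 lc_a_rc_0_0 lc_a_rc_29_0 lc_a_rc_4_2 lc_a_rc_29_0 lc_a_rc_4_2 lc_a_rc_3_2 lc_a_rc_29_0 lc_a_rc_0_0 lc_a_rc_6_2) (@D3.rec (fun _ => (Cert rels S Gen.a)) lc_a_rc_28_0 lc_a_rc_29_0 lc_a_rc_0_0 lc_a_rc_1_4 lc_a_rc_3_2 lc_a_rc_2_2 lc_a_rc_6_2 lc_a_rc_0_0 lc_a_rc_2_2 lc_a_rc_5_0 lc_a_rc_6_2 lc_a_rc_2_2 lc_a_rc_28_0 lc_a_rc_29_0 lc_a_rc_6_2 lc_a_rc_2_2 lc_a_rc_5_2 lc_a_rc_29_0 lc_a_rc_5_0 lc_a_rc_30_12 lc_a_rc_2_2 lc_a_rc_0_0 lc_a_rc_28_0 lc_a_rc_2_2 lc_a_rc_4_2 lc_a_rc_28_0 lc_a_rc_2_2 lc_a_rc_29_0 lc_a_rc_29_0 lc_a_rc_5_0 lc_a_rc_6_2 lc_a_rc_1_4 lc_a_rc_5_2 lc_a_rc_1_4 lc_a_rc_3_2 lc_a_rc_5_2 lc_a_rc_6_2 lc_a_rc_4_0 lc_a_rc_0_1 lc_a_rc_1_2)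 (@D3.rec (fun _ => (Cert rels S Gen.a)) lc_a_rc_2_2 lc_a_rc_6_2 lc_a_rc_0_0 lc_a_rc_1_8 lc_a_rc_4_2 lc_a_rc_0_0 lc_a_rc_4_2 lc_a_rc_3_2 lc_a_rc_0_0 lc_a_rc_0_0 lc_a_rc_5_2 lc_a_rc_28_0 lc_a_rc_29_0 lc_a_rc_1_4 lc_a_rc_0_1 lc_a_rc_2_0 lc_a_rc_1_4 lc_a_rc_28_0 lc_a_rc_4_2 lc_a_rc_5_2 lc_a_rc_6_2 lc_a_rc_5_2 lc_a_rc_28_0 lc_a_rc_6_0 lc_a_rc_29_0 lc_a_rc_0_0 lc_a_rc_1_6 lc_a_rc_4_2 lc_a_rc_5_2 lc_a_rc_6_2 lc_a_rc_0_1 lc_a_rc_6_2 lc_a_rc_28_0 lc_a_rc_2_2 lc_a_rc_6_2 lc_a_rc_28_0 lc_a_rc_28_0 lc_a_rc_29_0 lc_a_rc_6_2 lc_a_rc_0_0) (@D3.rec (fun _ => (Cert rels S Gen.a)) lc_a_rc_1_4 lc_a_rc_28_0 lc_a_rc_5_2 lc_a_rc_28_0 lc_a_rc_2_2 lc_a_rc_4_2 lc_a_rc_5_2 lc_a_rc_28_0 lc_a_rc_2_2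 lc_a_rc_28_0 lc_a_rc_5_2 lc_a_rc_4_2 lc_a_rc_29_0 lc_a_rc_5_0 lc_a_rc_2_2 lc_a_rc_5_2 lc_a_rc_28_0 lc_a_rc_6_2 lc_a_rc_0_1 lc_a_rc_29_0 lc_a_rc_0_0 lc_a_rc_1_4 lc_a_rc_30_8 lc_a_rc_6_0 lc_a_rc_6_2 lc_a_rc_2_2 lc_a_rc_4_2 lc_a_rc_6_2 lc_a_rc_28_0 lc_a_rc_2_2 lc_a_rc_0_1 lc_a_rc_0_1 lc_a_rc_6_2 lc_a_rc_29_0 lc_a_rc_3_2 lc_a_rc_29_0 lc_a_rc_29_0 lc_a_rc_5_0 lc_a_rc_2_2 lc_a_rc_28_0) (@D3.rec (fun _ => (Cert rels S Gen.a)) lc_a_rc_29_0 lc_a_rc_29_0 lc_a_rc_29_0 lc_a_rc_3_2 lc_a_rc_0_1 lc_a_rc_29_0 lc_a_rc_0_1 lc_a_rc_3_2 lc_a_rc_3_2 lc_a_rc_0_1 lc_a_Cert_tree lc_a_rc_2_2 lc_a_Cert_tree lc_a_rc_2_2 lc_a_rc_6_2 lc_a_rc_3_2 lc_a_rc_6_2 lc_a_rc_2_2 lc_a_rc_5_2 lc_a_rc_3_2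 lc_a_rc_5_2 lc_a_rc_3_2 lc_a_rc_6_2 lc_a_rc_4_2 lc_a_rc_6_2 lc_a_Cert_tree lc_a_rc_0_0 lc_a_rc_3_2 lc_a_rc_5_2 lc_a_rc_4_2 lc_a_rc_5_2 lc_a_Cert_tree lc_a_rc_29_0 lc_a_rc_30_8 lc_a_rc_28_0 lc_a_rc_2_0 lc_a_rc_3_2 lc_a_rc_30_8 lc_a_Cert_tree lc_a_rc_2_2) (@D3.rec (fun _ => (Cert rels S Gen.a)) lc_a_rc_3_2 lc_a_rc_2_2 lc_a_Cert_tree lc_a_rc_2_2 lc_a_rc_3_2 lc_a_rc_28_0 lc_a_rc_0_1 lc_a_rc_29_0 lc_a_rc_29_0 lc_a_rc_0_0 lc_a_rc_28_0 lc_a_rc_28_0 lc_a_rc_5_0 lc_a_rc_2_2 lc_a_rc_3_2 lc_a_rc_0_1 lc_a_rc_29_0 lc_a_Cert_tree lc_a_rc_3_2 lc_a_rc_5_2 lc_a_rc_28_0 lc_a_rc_4_2 lc_a_rc_5_2 lc_a_Cert_tree lc_a_rc_29_0 lc_a_rc_3_2 lc_a_rc_2_2 lc_a_rc_29_0 lc_a_rc_29_0 lc_a_rc_0_0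 lc_a_rc_28_0 lc_a_rc_28_0 lc_a_rc_29_0 lc_a_rc_2_2 lc_a_rc_3_2 lc_a_rc_29_0 lc_a_rc_29_0 lc_a_Cert_tree lc_a_rc_3_2 lc_a_rc_6_2) (@D3.rec (fun _ => (Cert rels S Gen.a)) lc_a_rc_28_0 lc_a_rc_4_2 lc_a_rc_6_2 lc_a_Cert_tree lc_a_rc_0_0 lc_a_rc_3_2 lc_a_rc_29_0 lc_a_rc_29_0 lc_a_rc_2_2 lc_a_rc_28_0 lc_a_rc_28_0 lc_a_rc_29_0 lc_a_rc_29_0 lc_a_rc_29_0 lc_a_rc_0_0 lc_a_rc_3_2 lc_a_rc_6_2 lc_a_rc_28_0 lc_a_rc_28_0 lc_a_rc_29_0 lc_a_rc_6_2 lc_a_rc_6_2 lc_a_rc_28_0 lc_a_rc_2_2 lc_a_rc_0_0 lc_a_rc_28_0 lc_a_rc_0_1 lc_a_rc_6_2 lc_a_rc_28_0 lc_a_rc_4_2 lc_a_rc_29_0 lc_a_Cert_tree lc_a_Cert_tree lc_a_rc_0_0 lc_a_rc_2_2 lc_a_rc_5_2 lc_a_rc_3_0 lc_a_rc_2_2 lc_a_rc_5_2 lc_a_rc_4_2)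 (@D3.rec (fun _ => (Cert rels S Gen.a)) lc_a_rc_29_0 lc_a_rc_0_0 lc_a_rc_29_0 lc_a_rc_3_2 lc_a_rc_2_2 lc_a_rc_0_1 lc_a_rc_29_0 lc_a_rc_1_8 lc_a_rc_29_0 lc_a_rc_0_0 lc_a_rc_5_2 lc_a_rc_6_2 lc_a_rc_2_2 lc_a_rc_5_2 lc_a_rc_1_4 lc_a_rc_28_0 lc_a_rc_2_2 lc_a_rc_28_0 lc_a_rc_29_0 lc_a_rc_30_12 lc_a_rc_3_2 lc_a_rc_3_2 lc_a_rc_5_2 lc_a_rc_2_2 lc_a_rc_28_0 lc_a_rc_3_2 lc_a_rc_28_0 lc_a_rc_0_0 lc_a_rc_29_0 lc_a_rc_0_0 lc_a_rc_3_2 lc_a_rc_5_2 lc_a_rc_28_0 lc_a_rc_29_0 lc_a_rc_5_2 lc_a_rc_29_0 lc_a_rc_5_2 lc_a_rc_28_0 lc_a_rc_2_2 lc_a_rc_0_0) (@D3.rec (fun _ => (Cert rels S Gen.a)) lc_a_rc_29_0 lc_a_rc_28_0 lc_a_rc_5_2 lc_a_rc_28_0 lc_a_rc_28_0 lc_a_rc_2_2 lc_a_Cert_tree lc_a_Cert_tree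 lc_a_rc_0_0 lc_a_rc_2_2 lc_a_rc_6_2 lc_a_rc_30_12 lc_a_rc_2_2 lc_a_rc_6_2 lc_a_rc_29_0 lc_a_rc_0_0 lc_a_rc_29_0 lc_a_rc_30_12 lc_a_rc_3_2 lc_a_rc_2_2 lc_a_rc_29_0 lc_a_rc_29_0 lc_a_rc_5_2 lc_a_rc_29_0 lc_a_rc_0_0 lc_a_rc_5_2 lc_a_rc_30_16 lc_a_rc_2_2 lc_a_rc_6_2 lc_a_rc_0_0 lc_a_rc_28_0 lc_a_rc_2_2 lc_a_rc_6_2 lc_a_rc_0_0 lc_a_rc_1_2 lc_a_rc_29_0 lc_a_rc_0_0 lc_a_rc_2_2 lc_a_rc_2_2 lc_a_rc_28_0) (@D3.rec (fun _ => (Cert rels S Gen.a)) lc_a_rc_28_0 lc_a_rc_0_0 lc_a_rc_29_0 lc_a_rc_29_0 lc_a_rc_6_2 lc_a_rc_3_2 lc_a_rc_4_2 lc_a_Cert_tree lc_a_rc_4_2 lc_a_rc_28_0 lc_a_rc_5_2 lc_a_Cert_tree lc_a_rc_29_0 lc_a_rc_0_0 lc_a_rc_2_2 lc_a_rc_5_0 lc_a_rc_1_4 lc_a_rc_0_1 lc_a_rc_0_0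 lc_a_rc_2_2 lc_a_rc_2_2 lc_a_rc_28_0 lc_a_rc_29_0 lc_a_rc_0_0 lc_a_rc_1_2 lc_a_rc_5_2 lc_a_rc_1_6 lc_a_rc_3_2 lc_a_rc_4_2 lc_a_Cert_tree lc_a_rc_4_2 lc_a_rc_28_0 lc_a_rc_6_2 lc_a_Cert_tree lc_a_rc_30_8 lc_a_rc_0_0 lc_a_rc_2_2 lc_a_rc_0_1 lc_a_rc_29_0 lc_a_rc_29_0) (@D3.rec (fun _ => (Cert rels S Gen.a)) lc_a_rc_29_0 lc_a_rc_0_0 lc_a_rc_28_0 lc_a_rc_29_0 lc_a_rc_5_0 lc_a_rc_3_2 lc_a_rc_2_2 lc_a_Cert_tree lc_a_Cert_tree lc_a_rc_0_0 lc_a_rc_2_2 lc_a_rc_5_2 lc_a_rc_30_8 lc_a_rc_5_2 lc_a_rc_2_2 lc_a_rc_3_2 lc_a_rc_4_2 lc_a_Cert_tree lc_a_rc_0_1 lc_a_rc_3_2 lc_a_Cert_tree lc_a_rc_29_0 lc_a_rc_0_0 lc_a_rc_2_2 lc_a_rc_5_2 lc_a_rc_0_0 lc_a_rc_2_2 lc_a_rc_28_0 lc_a_Cert_tree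 lc_a_rc_2_2 lc_a_rc_3_2 lc_a_rc_0_1 lc_a_Cert_tree lc_a_rc_0_0 lc_a_rc_1_2 lc_a_rc_6_2 lc_a_rc_0_0 lc_a_rc_29_0 lc_a_rc_0_0 lc_a_rc_29_0) (@D3.rec (fun _ => (Cert rels S Gen.a)) lc_a_rc_29_0 lc_a_rc_5_2 lc_a_rc_2_2 lc_a_rc_6_2 lc_a_rc_6_2 lc_a_rc_0_0 lc_a_rc_29_0 lc_a_rc_2_2 lc_a_rc_3_2 lc_a_rc_2_2 lc_a_rc_0_0 lc_a_rc_28_0 lc_a_rc_5_2 lc_a_rc_3_2 lc_a_rc_3_2 lc_a_rc_2_2 lc_a_Cert_tree lc_a_Cert_tree lc_a_rc_0_0 lc_a_rc_2_2 lc_a_rc_6_2 lc_a_rc_4_2 lc_a_rc_6_2 lc_a_rc_2_2 lc_a_rc_3_2 lc_a_rc_4_2 lc_a_Cert_tree lc_a_rc_0_1 lc_a_rc_3_2 lc_a_Cert_tree lc_a_rc_2_2 lc_a_rc_0_0 lc_a_rc_2_2 lc_a_rc_6_2 lc_a_rc_0_0 lc_a_rc_2_2 lc_a_rc_5_0 lc_a_Cert_tree lc_a_rc_2_2 lc_a_rc_3_2)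 (@D3.rec (fun _ => (Cert rels S Gen.a)) lc_a_rc_29_0 lc_a_Cert_tree lc_a_rc_0_0 lc_a_rc_28_0 lc_a_rc_5_2 lc_a_rc_0_0 lc_a_rc_29_0 lc_a_rc_0_0 lc_a_rc_29_0 lc_a_rc_0_1 lc_a_rc_6_2 lc_a_rc_2_2 lc_a_rc_5_2 lc_a_rc_5_2 lc_a_rc_29_0 lc_a_rc_29_0 lc_a_rc_2_2 lc_a_rc_28_0 lc_a_rc_29_0 lc_a_rc_29_0 lc_a_rc_3_2 lc_a_rc_2_2 lc_a_rc_2_2 lc_a_rc_2_2 lc_a_rc_5_2 lc_a_rc_6_2 lc_a_Cert_tree lc_a_rc_28_0 lc_a_rc_0_0 lc_a_rc_4_2 lc_a_rc_3_2 lc_a_rc_3_2 lc_a_rc_2_2 lc_a_rc_29_0 lc_a_Cert_tree lc_a_rc_0_0 lc_a_rc_29_0 lc_a_rc_0_0 lc_a_Cert_tree lc_a_Cert_tree)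
def ce_a_14 : D2 → D3 → (Cert rels S Gen.a) := @D2.rec (fun _ => D3 → (Cert rels S Gen.a)) (@D3.rec (fun _ => (Cert rels S Gen.a)) lc_a_rc_0_0 lc_a_rc_29_0 lc_a_rc_0_0 lc_a_rc_3_0 lc_a_rc_5_2 lc_a_rc_6_2 lc_a_rc_29_0 lc_a_rc_3_2 lc_a_rc_2_2 lc_a_rc_3_2 lc_a_rc_28_0 lc_a_rc_29_0 lc_a_rc_28_0 lc_a_rc_3_2 lc_a_rc_3_2 lc_a_Cert_tree lc_a_rc_3_2 lc_a_rc_5_2 lc_a_rc_28_0 lc_a_rc_4_2 lc_a_rc_28_0 lc_a_rc_2_2 lc_a_rc_29_0 lc_a_Cert_tree lc_a_rc_29_0 lc_a_rc_0_0 lc_a_rc_2_2 lc_a_rc_0_1 lc_a_rc_28_0 lc_a_rc_28_0 lc_a_rc_29_0 lc_a_rc_3_2 lc_a_rc_2_2 lc_a_rc_2_2 lc_a_rc_2_2 lc_a_rc_5_2 lc_a_rc_6_2 lc_a_Cert_tree lc_a_rc_0_0 lc_a_rc_4_2) (@D3.rec (fun _ => (Cert rels S Gen.a))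 lc_a_rc_4_2 lc_a_rc_3_2 lc_a_rc_3_2 lc_a_rc_2_2 lc_a_Cert_tree lc_a_rc_29_0 lc_a_rc_0_0 lc_a_rc_29_0 lc_a_rc_0_0 lc_a_Cert_tree lc_a_Cert_tree lc_a_rc_29_0 lc_a_rc_0_0 lc_a_rc_3_0 lc_a_rc_0_0 lc_a_rc_1_4 lc_a_rc_6_2 lc_a_rc_0_1 lc_a_rc_3_2 lc_a_rc_2_2 lc_a_rc_3_2 lc_a_rc_2_2 lc_a_rc_29_0 lc_a_rc_28_0 lc_a_rc_5_2 lc_a_rc_6_2 lc_a_Cert_tree lc_a_rc_6_2 lc_a_rc_4_2 lc_a_rc_28_0 lc_a_rc_28_0 lc_a_rc_0_0 lc_a_Cert_tree lc_a_rc_29_0 lc_a_rc_0_0 lc_a_rc_2_2 lc_a_rc_29_0 lc_a_rc_2_2 lc_a_rc_28_0 lc_a_rc_2_2) (@D3.rec (fun _ => (Cert rels S Gen.a)) lc_a_rc_2_2 lc_a_rc_2_2 lc_a_rc_6_2 lc_a_rc_29_0 lc_a_Cert_tree lc_a_rc_0_0 lc_a_rc_5_2 lc_a_rc_29_0 lc_a_rc_28_0 lc_a_rc_29_0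 lc_a_rc_28_0 lc_a_rc_2_2 lc_a_rc_2_2 lc_a_rc_29_0 lc_a_rc_29_0 lc_a_Cert_tree lc_a_rc_0_0 lc_a_rc_29_0 lc_a_rc_0_0 lc_a_Cert_tree lc_a_Cert_tree lc_a_rc_0_0 lc_a_rc_0_1 lc_a_rc_0_0 lc_a_rc_4_2 lc_a_rc_29_0 lc_a_rc_2_2 lc_a_rc_28_0 lc_a_rc_2_2 lc_a_rc_2_2 lc_a_rc_2_2 lc_a_rc_5_2 lc_a_Cert_tree lc_a_rc_29_0 lc_a_rc_0_0 lc_a_rc_6_2 lc_a_rc_29_0 lc_a_rc_5_2 lc_a_rc_28_0 lc_a_rc_28_0) (@D3.rec (fun _ => (Cert rels S Gen.a)) lc_a_rc_2_2 lc_a_rc_2_2 lc_a_Cert_tree lc_a_rc_29_0 lc_a_rc_28_0 lc_a_rc_0_0 lc_a_rc_29_0 lc_a_rc_0_0 lc_a_Cert_tree lc_a_Cert_tree lc_a_rc_0_0 lc_a_rc_29_0 lc_a_rc_0_1 lc_a_rc_0_0 lc_a_rc_30_4 lc_a_rc_6_0 lc_a_rc_3_2 lc_a_rc_0_1 lc_a_rc_0_0 lc_a_rc_0_0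 lc_a_rc_29_0 lc_a_rc_6_2 lc_a_rc_0_0 lc_a_rc_29_0 lc_a_rc_3_2 lc_a_rc_4_2 lc_a_rc_6_2 lc_a_rc_29_0 lc_a_rc_28_0 lc_a_rc_0_0 lc_a_rc_4_0 lc_a_rc_29_0 lc_a_rc_28_0 lc_a_rc_28_0 lc_a_rc_1_4 lc_a_rc_6_2 lc_a_rc_5_2 lc_a_rc_6_2 lc_a_rc_3_2 lc_a_rc_2_0) (@D3.rec (fun _ => (Cert rels S Gen.a)) lc_a_rc_5_2 lc_a_rc_29_0 lc_a_rc_4_2 lc_a_rc_3_2 lc_a_rc_4_2 lc_a_rc_5_2 lc_a_rc_29_0 lc_a_rc_29_0 lc_a_rc_0_0 lc_a_rc_4_0 lc_a_rc_29_0 lc_a_rc_28_0 lc_a_rc_28_0 lc_a_rc_1_4 lc_a_rc_5_2 lc_a_rc_0_0 lc_a_rc_5_2 lc_a_rc_3_2 lc_a_rc_6_2 lc_a_rc_2_2 lc_a_rc_0_0 lc_a_rc_2_2 lc_a_rc_5_2 lc_a_rc_2_2 lc_a_rc_5_2 lc_a_rc_2_2 lc_a_rc_28_0 lc_a_rc_28_0 lc_a_rc_29_0 lc_a_rc_0_0 lc_a_rc_29_0 lc_a_rc_29_0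 lc_a_rc_28_0 lc_a_rc_29_0 lc_a_rc_3_2 lc_a_rc_6_2 lc_a_rc_28_0 lc_a_rc_2_2 lc_a_rc_0_0 lc_a_rc_29_0) (@D3.rec (fun _ => (Cert rels S Gen.a)) lc_a_rc_2_2 lc_a_rc_0_0 lc_a_rc_2_2 lc_a_rc_6_2 lc_a_rc_2_2 lc_a_rc_6_2 lc_a_rc_2_2 lc_a_rc_28_0 lc_a_rc_4_2 lc_a_rc_29_0 lc_a_rc_0_0 lc_a_rc_29_0 lc_a_rc_29_0 lc_a_rc_28_0 lc_a_rc_0_1 lc_a_rc_3_2 lc_a_rc_5_2 lc_a_rc_28_0 lc_a_rc_29_0 lc_a_rc_29_0 lc_a_rc_0_1 lc_a_rc_2_2 lc_a_rc_29_0 lc_a_rc_1_6 lc_a_rc_28_0 lc_a_rc_1_2 lc_a_rc_0_0 lc_a_rc_29_0 lc_a_Cert_tree lc_a_rc_28_0 lc_a_rc_0_0 lc_a_rc_28_0 lc_a_rc_28_0 lc_a_rc_4_2 lc_a_rc_28_0 lc_a_rc_6_2 lc_a_rc_29_0 lc_a_rc_0_0 lc_a_rc_2_2 lc_a_rc_0_0) (@D3.rec (fun _ => (Cert rels S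 Gen.a)) lc_a_rc_6_2 lc_a_rc_2_2 lc_a_rc_5_2 lc_a_rc_6_2 lc_a_rc_29_0 lc_a_rc_0_1 lc_a_rc_4_2 lc_a_rc_29_0 lc_a_rc_2_2 lc_a_rc_3_0 lc_a_rc_28_0 lc_a_rc_29_0 lc_a_rc_2_2 lc_a_rc_3_2 lc_a_rc_0_1 lc_a_rc_2_2 lc_a_rc_0_1 lc_a_rc_29_0 lc_a_rc_3_2 lc_a_rc_0_0 lc_a_rc_5_2 lc_a_Cert_tree lc_a_rc_1_2 lc_a_rc_0_0 lc_a_rc_28_0 lc_a_rc_5_0 lc_a_rc_28_0 lc_a_rc_3_2 lc_a_rc_29_0 lc_a_rc_0_0 lc_a_rc_0_0 lc_a_rc_29_0 lc_a_rc_5_2 lc_a_rc_2_2 lc_a_rc_6_2 lc_a_rc_28_0 lc_a_rc_0_0 lc_a_rc_0_1 lc_a_rc_5_2 lc_a_rc_2_2) (@D3.rec (fun _ => (Cert rels S Gen.a)) lc_a_rc_2_2 lc_a_rc_3_2 lc_a_rc_29_0 lc_a_rc_3_2 lc_a_rc_29_0 lc_a_rc_6_2 lc_a_rc_5_0 lc_a_rc_29_0 lc_a_rc_2_0 lc_a_rc_4_0 lc_a_rc_2_2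 lc_a_rc_28_0 lc_a_rc_2_2 lc_a_rc_3_2 lc_a_rc_28_0 lc_a_rc_4_2 lc_a_rc_0_1 lc_a_rc_5_2 lc_a_rc_28_0 lc_a_rc_29_0 lc_a_rc_29_0 lc_a_rc_2_2 lc_a_rc_4_2 lc_a_rc_2_2 lc_a_rc_4_2 lc_a_rc_5_2 lc_a_rc_0_0 lc_a_rc_28_0 lc_a_rc_2_2 lc_a_rc_28_0 lc_a_rc_29_0 lc_a_rc_29_0 lc_a_rc_29_0 lc_a_rc_1_2 lc_a_rc_5_0 lc_a_rc_0_0 lc_a_rc_29_0 lc_a_rc_3_2 lc_a_rc_28_0 lc_a_rc_5_2) (@D3.rec (fun _ => (Cert rels S Gen.a)) lc_a_rc_5_2 lc_a_rc_29_0 lc_a_rc_2_2 lc_a_rc_28_0 lc_a_rc_28_0 lc_a_rc_3_2 lc_a_rc_28_0 lc_a_rc_4_2 lc_a_rc_29_0 lc_a_rc_0_0 lc_a_rc_2_2 lc_a_rc_3_2 lc_a_rc_2_2 lc_a_rc_29_0 lc_a_rc_2_2 lc_a_rc_4_2 lc_a_rc_28_0 lc_a_rc_2_2 lc_a_rc_28_0 lc_a_rc_29_0 lc_a_rc_0_0 lc_a_rc_28_0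 lc_a_rc_29_0 lc_a_rc_29_0 lc_a_rc_29_0 lc_a_rc_0_0 lc_a_rc_29_0 lc_a_rc_5_2 lc_a_rc_29_0 lc_a_rc_0_0 lc_a_rc_1_2 lc_a_rc_28_0 lc_a_rc_0_0 lc_a_rc_5_2 lc_a_rc_0_0 lc_a_rc_0_1 lc_a_rc_0_0 lc_a_rc_6_2 lc_a_rc_28_0 lc_a_rc_1_2) (@D3.rec (fun _ => (Cert rels S Gen.a)) lc_a_rc_30_16 lc_a_rc_29_0 lc_a_rc_29_0 lc_a_rc_29_0 lc_a_rc_29_0 lc_a_rc_0_0 lc_a_rc_1_4 lc_a_rc_5_2 lc_a_rc_29_0 lc_a_rc_28_0 lc_a_rc_29_0 lc_a_rc_30_8 lc_a_rc_29_0 lc_a_rc_6_2 lc_a_rc_4_2 lc_a_rc_6_2 lc_a_rc_30_8 lc_a_rc_28_0 lc_a_rc_3_2 lc_a_rc_28_0 lc_a_rc_4_2 lc_a_rc_29_0 lc_a_rc_4_2 lc_a_rc_0_0 lc_a_rc_28_0 lc_a_rc_28_0 lc_a_rc_6_2 lc_a_rc_1_2 lc_a_rc_6_2 lc_a_rc_28_0 lc_a_rc_29_0 lc_a_rc_29_0 lc_a_rc_29_0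 lc_a_rc_0_0 lc_a_rc_0_0 lc_a_rc_28_0 lc_a_rc_28_0 lc_a_rc_28_0 lc_a_rc_28_0 lc_a_rc_0_0) (@D3.rec (fun _ => (Cert rels S Gen.a)) lc_a_rc_6_2 lc_a_rc_0_0 lc_a_rc_28_0 lc_a_rc_29_0 lc_a_rc_0_0 lc_a_rc_28_0 lc_a_rc_30_8 lc_a_rc_29_0 lc_a_rc_1_2 lc_a_rc_28_0 lc_a_rc_29_0 lc_a_rc_29_0 lc_a_rc_29_0 lc_a_rc_0_0 lc_a_rc_1_4 lc_a_rc_6_2 lc_a_rc_29_0 lc_a_rc_29_0 lc_a_rc_2_2 lc_a_rc_30_8 lc_a_rc_28_0 lc_a_rc_29_0 lc_a_rc_4_2 lc_a_rc_5_2 lc_a_rc_2_2 lc_a_rc_28_0 lc_a_rc_28_0 lc_a_rc_30_8 lc_a_rc_4_2 lc_a_rc_29_0 lc_a_rc_4_2 lc_a_rc_0_0 lc_a_rc_4_2 lc_a_rc_28_0 lc_a_rc_5_2 lc_a_rc_1_2 lc_a_rc_29_0 lc_a_rc_29_0 lc_a_rc_28_0 lc_a_rc_28_0) (@D3.rec (fun _ => (Cert rels S Gen.a))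 lc_a_rc_0_0 lc_a_rc_2_2 lc_a_rc_28_0 lc_a_rc_29_0 lc_a_rc_5_0 lc_a_rc_1_2 lc_a_rc_5_2 lc_a_rc_28_0 lc_a_rc_2_2 lc_a_rc_28_0 lc_a_rc_0_0 lc_a_rc_29_0 lc_a_rc_28_0 lc_a_rc_28_0 lc_a_rc_2_2 lc_a_rc_28_0 lc_a_rc_29_0 lc_a_rc_29_0 lc_a_rc_28_0 lc_a_rc_0_1 lc_a_rc_2_2 lc_a_rc_28_0 lc_a_rc_0_0 lc_a_rc_3_2 lc_a_rc_0_1 lc_a_rc_3_2 lc_a_rc_29_0 lc_a_rc_3_2 lc_a_rc_29_0 lc_a_rc_3_2 lc_a_rc_29_0 lc_a_rc_28_0 lc_a_rc_3_2 lc_a_rc_29_0 lc_a_rc_30_8 lc_a_rc_3_2 lc_a_rc_28_0 lc_a_rc_28_0 lc_a_rc_29_0 lc_a_Cert_tree) (@D3.rec (fun _ => (Cert rels S Gen.a)) lc_a_rc_29_0 lc_a_rc_2_2 lc_a_rc_3_2 lc_a_rc_0_0 lc_a_rc_29_0 lc_a_rc_0_0 lc_a_rc_5_0 lc_a_rc_3_2 lc_a_rc_29_0 lc_a_rc_28_0 lc_a_rc_0_1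 lc_a_Cert_tree lc_a_rc_29_0 lc_a_rc_2_2 lc_a_rc_3_2 lc_a_rc_29_0 lc_a_rc_0_0 lc_a_rc_0_1 lc_a_rc_3_2 lc_a_rc_2_2 lc_a_rc_4_2 lc_a_rc_0_0 lc_a_rc_29_0 lc_a_rc_3_2 lc_a_rc_2_2 lc_a_rc_4_2 lc_a_rc_29_0 lc_a_rc_2_2 lc_a_Cert_tree lc_a_Cert_tree lc_a_rc_28_0 lc_a_rc_0_0 lc_a_rc_2_2 lc_a_rc_3_2 lc_a_rc_0_0 lc_a_rc_2_2 lc_a_rc_6_2 lc_a_rc_5_2 lc_a_rc_3_2 lc_a_rc_6_2) (@D3.rec (fun _ => (Cert rels S Gen.a)) lc_a_rc_4_2 lc_a_rc_28_0 lc_a_Cert_tree lc_a_rc_3_2 lc_a_rc_5_2 lc_a_rc_4_2 lc_a_rc_28_0 lc_a_Cert_tree lc_a_rc_4_2 lc_a_rc_6_2 lc_a_Cert_tree lc_a_rc_28_0 lc_a_rc_6_2 lc_a_Cert_tree lc_a_rc_0_0 lc_a_rc_0_0 lc_a_rc_2_0 lc_a_rc_30_16 lc_a_rc_4_2 lc_a_rc_5_2 lc_a_Cert_tree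 lc_a_rc_28_0 lc_a_rc_5_2 lc_a_Cert_tree lc_a_rc_29_0 lc_a_rc_0_0 lc_a_rc_29_0 lc_a_rc_4_2 lc_a_rc_2_2 lc_a_rc_3_2 lc_a_rc_29_0 lc_a_rc_28_0 lc_a_rc_28_0 lc_a_Cert_tree lc_a_rc_28_0 lc_a_rc_3_0 lc_a_rc_28_0 lc_a_rc_2_2 lc_a_rc_29_0 lc_a_rc_29_0) (@D3.rec (fun _ => (Cert rels S Gen.a)) lc_a_rc_2_2 lc_a_rc_3_2 lc_a_rc_29_0 lc_a_rc_28_0 lc_a_rc_28_0 lc_a_Cert_tree lc_a_rc_29_0 lc_a_rc_4_2 lc_a_rc_28_0 lc_a_rc_28_0 lc_a_rc_6_2 lc_a_rc_29_0 lc_a_Cert_tree lc_a_Cert_tree lc_a_rc_28_0 lc_a_rc_0_0 lc_a_rc_2_2 lc_a_Cert_tree lc_a_rc_3_2 lc_a_rc_28_0 lc_a_rc_4_2 lc_a_rc_3_2 lc_a_rc_0_0 lc_a_rc_2_2 lc_a_Cert_tree lc_a_rc_3_2 lc_a_rc_28_0 lc_a_rc_4_2 lc_a_rc_29_0 lc_a_Cert_tree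 lc_a_rc_0_0 lc_a_rc_29_0 lc_a_rc_29_0 lc_a_rc_2_2 lc_a_rc_28_0 lc_a_rc_29_0 lc_a_rc_29_0 lc_a_Cert_tree lc_a_rc_3_2 lc_a_rc_28_0) (@D3.rec (fun _ => (Cert rels S Gen.a)) lc_a_rc_4_2 lc_a_rc_0_1 lc_a_Cert_tree lc_a_Cert_tree lc_a_rc_29_0 lc_a_rc_0_0 lc_a_rc_28_0 lc_a_rc_4_0 lc_a_rc_5_0 lc_a_rc_4_2 lc_a_rc_5_2 lc_a_Cert_tree lc_a_rc_28_0 lc_a_rc_4_2 lc_a_rc_28_0 lc_a_rc_5_2 lc_a_Cert_tree lc_a_rc_29_0 lc_a_rc_0_0 lc_a_rc_2_0 lc_a_Cert_tree lc_a_rc_5_0 lc_a_Cert_tree lc_a_rc_29_0 lc_a_rc_0_0 lc_a_rc_29_0 lc_a_rc_0_1 lc_a_rc_2_2 lc_a_rc_28_0 lc_a_rc_29_0 lc_a_rc_0_0 lc_a_Cert_tree lc_a_rc_3_2 lc_a_rc_28_0 lc_a_rc_4_2 lc_a_rc_29_0 lc_a_Cert_tree lc_a_Cert_tree lc_a_rc_0_0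 lc_a_rc_0_0) (@D3.rec (fun _ => (Cert rels S Gen.a)) lc_a_rc_28_0 lc_a_rc_5_2 lc_a_rc_2_0 lc_a_rc_4_2 lc_a_rc_6_2 lc_a_Cert_tree lc_a_rc_28_0 lc_a_rc_4_2 lc_a_rc_28_0 lc_a_rc_6_2 lc_a_Cert_tree lc_a_rc_0_0 lc_a_rc_0_0 lc_a_rc_0_0 lc_a_Cert_tree lc_a_rc_29_0 lc_a_rc_6_2 lc_a_rc_1_8 lc_a_rc_2_2 lc_a_rc_2_2 lc_a_rc_29_0 lc_a_rc_3_2 lc_a_rc_29_0 lc_a_rc_2_2 lc_a_rc_29_0 lc_a_rc_29_0 lc_a_rc_0_1 lc_a_rc_29_0 lc_a_rc_29_0 lc_a_rc_29_0 lc_a_rc_5_0 lc_a_rc_2_2 lc_a_rc_4_2 lc_a_rc_3_0 lc_a_rc_28_0 lc_a_rc_2_2 lc_a_rc_2_2 lc_a_rc_0_1 lc_a_Cert_tree lc_a_rc_0_0) (@D3.rec (fun _ => (Cert rels S Gen.a)) lc_a_rc_1_4 lc_a_rc_3_2 lc_a_rc_6_2 lc_a_rc_28_0 lc_a_rc_29_0 lc_a_rc_0_1 lc_a_rc_6_2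 lc_a_rc_0_1 lc_a_rc_0_1 lc_a_rc_2_2 lc_a_rc_2_2 lc_a_rc_5_2 lc_a_Cert_tree lc_a_rc_0_0 lc_a_rc_6_2 lc_a_rc_4_2 lc_a_rc_28_0 lc_a_rc_28_0 lc_a_rc_2_2 lc_a_Cert_tree lc_a_rc_2_2 lc_a_rc_4_2 lc_a_rc_29_0 lc_a_rc_28_0 lc_a_rc_6_2 lc_a_Cert_tree lc_a_rc_29_0 lc_a_rc_0_0 lc_a_rc_2_2 lc_a_rc_29_0 lc_a_rc_1_8 lc_a_rc_2_2 lc_a_rc_29_0 lc_a_rc_1_4 lc_a_rc_28_0 lc_a_rc_28_0 lc_a_rc_28_0 lc_a_rc_4_2 lc_a_rc_6_2 lc_a_rc_1_4) (@D3.rec (fun _ => (Cert rels S Gen.a)) lc_a_rc_28_0 lc_a_rc_0_1 lc_a_rc_1_2 lc_a_rc_1_2 lc_a_rc_2_2 lc_a_rc_4_2 lc_a_rc_28_0 lc_a_rc_28_0 lc_a_rc_2_2 lc_a_rc_28_0 lc_a_rc_29_0 lc_a_Cert_tree lc_a_rc_0_0 lc_a_rc_1_4 lc_a_rc_3_2 lc_a_rc_5_2 lc_a_rc_28_0 lc_a_rc_28_0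 lc_a_rc_5_2 lc_a_rc_28_0 lc_a_rc_29_0 lc_a_rc_0_1 lc_a_rc_2_2 lc_a_rc_2_2 lc_a_rc_6_2 lc_a_Cert_tree lc_a_rc_0_0 lc_a_rc_5_2 lc_a_rc_4_2 lc_a_rc_28_0 lc_a_rc_28_0 lc_a_rc_2_2 lc_a_Cert_tree lc_a_rc_28_0 lc_a_rc_29_0 lc_a_rc_0_0 lc_a_rc_2_2 lc_a_rc_29_0 lc_a_Cert_tree lc_a_rc_0_0) (@D3.rec (fun _ => (Cert rels S Gen.a)) lc_a_rc_0_0 lc_a_rc_2_2 lc_a_rc_2_2 lc_a_rc_2_2 lc_a_rc_3_2 lc_a_rc_29_0 lc_a_rc_0_0 lc_a_Cert_tree lc_a_rc_29_0 lc_a_rc_0_0 lc_a_rc_2_2 lc_a_rc_2_2 lc_a_rc_5_2 lc_a_rc_3_2 lc_a_rc_5_2 lc_a_rc_3_2 lc_a_rc_5_2 lc_a_rc_28_0 lc_a_rc_4_2 lc_a_rc_5_2 lc_a_Cert_tree lc_a_rc_6_2 lc_a_rc_29_0 lc_a_rc_28_0 lc_a_rc_29_0 lc_a_rc_29_0 lc_a_rc_0_0 lc_a_rc_2_2 lc_a_rc_28_0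 lc_a_rc_2_2 lc_a_rc_5_2 lc_a_rc_28_0 lc_a_rc_0_1 lc_a_rc_29_0 lc_a_rc_4_0 lc_a_rc_1_8 lc_a_rc_5_2 lc_a_rc_0_1 lc_a_rc_29_0 lc_a_rc_2_2) (@D3.rec (fun _ => (Cert rels S Gen.a)) lc_a_rc_6_2 lc_a_rc_28_0 lc_a_rc_6_2 lc_a_rc_2_2 lc_a_Cert_tree lc_a_rc_3_2 lc_a_rc_29_0 lc_a_rc_29_0 lc_a_rc_0_0 lc_a_rc_3_2 lc_a_rc_5_2 lc_a_rc_30_8 lc_a_rc_4_2 lc_a_rc_28_0 lc_a_rc_4_2 lc_a_rc_2_2 lc_a_rc_0_1 lc_a_Cert_tree lc_a_rc_0_0 lc_a_rc_2_2 lc_a_rc_2_2 lc_a_rc_3_2 lc_a_rc_29_0 lc_a_rc_0_1 lc_a_rc_3_2 lc_a_rc_6_2 lc_a_rc_28_0 lc_a_rc_29_0 lc_a_rc_6_2 lc_a_Cert_tree lc_a_rc_0_0 lc_a_rc_29_0 lc_a_rc_1_4 lc_a_rc_3_2 lc_a_rc_5_2 lc_a_rc_6_2 lc_a_rc_2_2 lc_a_rc_4_2 lc_a_rc_5_2 lc_a_rc_6_2)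 (@D3.rec (fun _ => (Cert rels S Gen.a)) lc_a_rc_0_1 lc_a_rc_29_0 lc_a_rc_29_0 lc_a_rc_5_2 lc_a_Cert_tree lc_a_rc_0_0 lc_a_rc_2_2 lc_a_rc_6_2 lc_a_rc_0_1 lc_a_rc_0_0 lc_a_rc_4_2 lc_a_rc_5_2 lc_a_rc_30_4 lc_a_rc_29_0 lc_a_rc_4_2 lc_a_Cert_tree lc_a_rc_2_2 lc_a_rc_4_2 lc_a_rc_29_0 lc_a_rc_0_1 lc_a_rc_6_2 lc_a_Cert_tree lc_a_rc_29_0 lc_a_rc_0_0 lc_a_rc_2_2 lc_a_rc_2_2 lc_a_rc_28_0 lc_a_rc_0_1 lc_a_rc_2_2 lc_a_rc_3_2 lc_a_rc_29_0 lc_a_rc_0_0 lc_a_rc_0_1 lc_a_Cert_tree lc_a_rc_0_0 lc_a_rc_2_2 lc_a_rc_2_2 lc_a_rc_6_2 lc_a_rc_3_2 lc_a_rc_6_2) (@D3.rec (fun _ => (Cert rels S Gen.a)) lc_a_rc_3_2 lc_a_rc_28_0 lc_a_rc_4_2 lc_a_rc_29_0 lc_a_Cert_tree lc_a_rc_5_2 lc_a_rc_0_1 lc_a_rc_0_0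 lc_a_rc_29_0 lc_a_rc_2_0 lc_a_rc_0_0 lc_a_rc_2_2 lc_a_rc_29_0 lc_a_rc_2_2 lc_a_rc_6_2 lc_a_rc_28_0 lc_a_rc_0_1 lc_a_rc_5_2 lc_a_rc_28_0 lc_a_rc_4_2 lc_a_rc_6_2 lc_a_rc_29_0 lc_a_rc_29_0 lc_a_rc_2_2 lc_a_rc_5_2 lc_a_rc_28_0 lc_a_rc_5_2 lc_a_rc_2_2 lc_a_Cert_tree lc_a_rc_3_2 lc_a_rc_0_1 lc_a_rc_29_0 lc_a_rc_0_0 lc_a_rc_3_2 lc_a_rc_0_0 lc_a_rc_6_2 lc_a_rc_4_2 lc_a_rc_28_0 lc_a_rc_4_2 lc_a_rc_28_0) (@D3.rec (fun _ => (Cert rels S Gen.a)) lc_a_rc_29_0 lc_a_Cert_tree lc_a_rc_0_0 lc_a_rc_2_2 lc_a_rc_2_2 lc_a_rc_3_2 lc_a_rc_0_1 lc_a_rc_2_2 lc_a_rc_3_2 lc_a_rc_5_2 lc_a_rc_28_0 lc_a_rc_0_1 lc_a_rc_5_2 lc_a_Cert_tree lc_a_rc_29_0 lc_a_rc_0_1 lc_a_rc_1_4 lc_a_rc_3_2 lc_a_rc_5_2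 lc_a_rc_6_2 lc_a_rc_2_2 lc_a_rc_4_2 lc_a_rc_5_2 lc_a_rc_6_2 lc_a_rc_29_0 lc_a_rc_4_2 lc_a_rc_29_0 lc_a_rc_6_2 lc_a_Cert_tree lc_a_rc_0_0 lc_a_rc_2_2 lc_a_rc_5_2 lc_a_rc_29_0 lc_a_rc_0_0 lc_a_rc_4_2 lc_a_rc_30_12 lc_a_rc_29_0 lc_a_rc_4_2 lc_a_Cert_tree lc_a_rc_28_0) (@D3.rec (fun _ => (Cert rels S Gen.a)) lc_a_rc_4_2 lc_a_rc_0_0 lc_a_rc_2_2 lc_a_rc_5_2 lc_a_Cert_tree lc_a_rc_4_2 lc_a_rc_0_0 lc_a_rc_2_2 lc_a_rc_2_2 lc_a_rc_28_0 lc_a_rc_2_2 lc_a_rc_6_0 lc_a_Cert_tree lc_a_rc_28_0 lc_a_rc_0_0 lc_a_rc_2_2 lc_a_rc_0_1 lc_a_Cert_tree lc_a_Cert_tree lc_a_rc_0_0 lc_a_rc_28_0 lc_a_rc_5_2 lc_a_rc_6_0 lc_a_rc_0_0 lc_a_rc_29_0 lc_a_rc_29_0 lc_a_rc_6_2 lc_a_rc_2_2 lc_a_rc_5_2 lc_a_rc_3_2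 lc_a_rc_0_1 lc_a_rc_29_0 lc_a_rc_2_2 lc_a_rc_3_0 lc_a_rc_3_2 lc_a_rc_3_2 lc_a_rc_2_2 lc_a_rc_4_2 lc_a_rc_29_0 lc_a_Cert_tree) (@D3.rec (fun _ => (Cert rels S Gen.a)) lc_a_rc_0_0 lc_a_rc_0_0 lc_a_rc_2_2 lc_a_rc_0_0 lc_a_Cert_tree lc_a_rc_3_2 lc_a_rc_0_0 lc_a_rc_2_2 lc_a_rc_0_0 lc_a_rc_29_0 lc_a_rc_2_2 lc_a_rc_3_2 lc_a_rc_0_0 lc_a_rc_0_0 lc_a_rc_1_6 lc_a_rc_2_2 lc_a_rc_5_2 lc_a_rc_3_2 lc_a_rc_0_1 lc_a_rc_3_2 lc_a_rc_29_0 lc_a_rc_30_8 lc_a_rc_3_2 lc_a_rc_5_2 lc_a_rc_2_2 lc_a_rc_4_2 lc_a_rc_5_2 lc_a_rc_3_2 lc_a_rc_3_2 lc_a_rc_2_2 lc_a_rc_4_2 lc_a_rc_5_2 lc_a_rc_2_2 lc_a_Cert_tree lc_a_rc_28_0 lc_a_rc_2_2 lc_a_rc_2_2 lc_a_rc_5_2 lc_a_Cert_tree lc_a_rc_0_0)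
def ce_a_15 : D2 → D3 → (Cert rels S Gen.a) := @D2.rec (fun _ => D3 → (Cert rels S Gen.a)) (@D3.rec (fun _ => (Cert rels S Gen.a)) lc_a_rc_0_0 lc_a_rc_5_2 lc_a_rc_6_2 lc_a_rc_28_0 lc_a_rc_29_0 lc_a_rc_29_0 lc_a_rc_29_0 lc_a_rc_1_4 lc_a_rc_0_0 lc_a_rc_1_8 lc_a_rc_0_1 lc_a_rc_2_2 lc_a_Cert_tree lc_a_Cert_tree lc_a_rc_0_0 lc_a_rc_28_0 lc_a_rc_0_0 lc_a_rc_2_2 lc_a_rc_3_2 lc_a_rc_29_0 lc_a_rc_0_0 lc_a_rc_2_2 lc_a_rc_2_2 lc_a_rc_6_2 lc_a_rc_3_2 lc_a_rc_29_0 lc_a_rc_29_0 lc_a_rc_2_2 lc_a_rc_3_2 lc_a_rc_6_2 lc_a_rc_2_2 lc_a_rc_5_2 lc_a_rc_6_2 lc_a_rc_28_0 lc_a_rc_4_2 lc_a_rc_29_0 lc_a_rc_29_0 lc_a_rc_29_0 lc_a_rc_3_2 lc_a_rc_0_0) (@D3.rec (fun _ => (Cert rels S Gen.a)) lc_a_rc_3_2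 lc_a_rc_2_2 lc_a_rc_6_2 lc_a_rc_2_2 lc_a_rc_4_2 lc_a_rc_3_2 lc_a_rc_29_0 lc_a_rc_4_2 lc_a_rc_3_2 lc_a_rc_6_2 lc_a_rc_2_2 lc_a_rc_4_2 lc_a_rc_6_0 lc_a_rc_6_2 lc_a_rc_29_0 lc_a_rc_2_2 lc_a_rc_2_2 lc_a_rc_0_0 lc_a_rc_3_2 lc_a_rc_4_2 lc_a_rc_5_2 lc_a_rc_5_0 lc_a_rc_4_2 lc_a_rc_28_0 lc_a_rc_2_2 lc_a_Cert_tree lc_a_Cert_tree lc_a_rc_0_0 lc_a_rc_2_2 lc_a_rc_6_2 lc_a_rc_1_6 lc_a_rc_2_2 lc_a_rc_6_2 lc_a_rc_28_0 lc_a_rc_29_0 lc_a_rc_0_0 lc_a_rc_3_2 lc_a_rc_29_0 lc_a_rc_29_0 lc_a_rc_2_2) (@D3.rec (fun _ => (Cert rels S Gen.a)) lc_a_rc_4_2 lc_a_rc_6_2 lc_a_rc_2_2 lc_a_rc_28_0 lc_a_rc_2_2 lc_a_rc_29_0 lc_a_rc_28_0 lc_a_rc_0_0 lc_a_rc_29_0 lc_a_Cert_tree lc_a_rc_1_2 lc_a_rc_2_0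 lc_a_rc_6_2 lc_a_rc_5_2 lc_a_rc_6_2 lc_a_rc_2_2 lc_a_rc_4_2 lc_a_rc_3_2 lc_a_rc_6_2 lc_a_rc_29_0 lc_a_rc_3_2 lc_a_rc_6_2 lc_a_rc_4_2 lc_a_rc_29_0 lc_a_rc_6_2 lc_a_rc_28_0 lc_a_rc_28_0 lc_a_rc_1_8 lc_a_rc_0_0 lc_a_rc_29_0 lc_a_rc_6_2 lc_a_rc_29_0 lc_a_rc_1_4 lc_a_rc_6_2 lc_a_rc_4_2 lc_a_rc_5_2 lc_a_rc_6_2 lc_a_rc_1_2 lc_a_Cert_tree lc_a_rc_4_2) (@D3.rec (fun _ => (Cert rels S Gen.a)) lc_a_rc_28_0 lc_a_rc_0_1 lc_a_rc_5_2 lc_a_rc_6_2 lc_a_rc_1_8 lc_a_rc_29_0 lc_a_rc_0_0 lc_a_rc_29_0 lc_a_rc_0_0 lc_a_rc_4_2 lc_a_rc_5_2 lc_a_rc_1_2 lc_a_rc_3_2 lc_a_rc_2_2 lc_a_rc_30_12 lc_a_rc_0_1 lc_a_rc_6_2 lc_a_rc_3_2 lc_a_rc_0_0 lc_a_rc_2_2 lc_a_rc_4_2 lc_a_Cert_tree lc_a_rc_3_2 lc_a_rc_4_2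 lc_a_rc_5_2 lc_a_rc_6_2 lc_a_rc_28_0 lc_a_rc_4_2 lc_a_rc_5_2 lc_a_rc_6_2 lc_a_rc_28_0 lc_a_rc_28_0 lc_a_rc_6_2 lc_a_rc_0_0 lc_a_rc_29_0 lc_a_rc_29_0 lc_a_rc_29_0 lc_a_rc_4_2 lc_a_rc_28_0 lc_a_rc_28_0) (@D3.rec (fun _ => (Cert rels S Gen.a)) lc_a_rc_3_2 lc_a_rc_4_2 lc_a_rc_2_2 lc_a_rc_28_0 lc_a_rc_30_16 lc_a_Cert_tree lc_a_rc_0_0 lc_a_rc_2_2 lc_a_rc_5_2 lc_a_rc_2_2 lc_a_rc_5_2 lc_a_rc_5_2 lc_a_rc_29_0 lc_a_rc_4_2 lc_a_rc_28_0 lc_a_rc_29_0 lc_a_Cert_tree lc_a_rc_29_0 lc_a_rc_0_0 lc_a_Cert_tree lc_a_rc_0_0 lc_a_rc_29_0 lc_a_rc_6_2 lc_a_rc_29_0 lc_a_Cert_tree lc_a_rc_1_6 lc_a_rc_2_2 lc_a_rc_6_2 lc_a_rc_3_2 lc_a_rc_4_2 lc_a_rc_6_0 lc_a_rc_29_0 lc_a_rc_0_0 lc_a_rc_4_2 lc_a_rc_29_0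 lc_a_rc_3_2 lc_a_rc_2_2 lc_a_rc_4_2 lc_a_rc_29_0 lc_a_Cert_tree) (@D3.rec (fun _ => (Cert rels S Gen.a)) lc_a_rc_0_0 lc_a_rc_0_0 lc_a_rc_2_2 lc_a_rc_1_4 lc_a_Cert_tree lc_a_rc_0_0 lc_a_rc_2_2 lc_a_rc_3_2 lc_a_rc_5_2 lc_a_rc_2_2 lc_a_rc_3_2 lc_a_rc_3_0 lc_a_rc_0_0 lc_a_rc_29_0 lc_a_rc_1_6 lc_a_rc_2_2 lc_a_rc_6_2 lc_a_rc_3_2 lc_a_rc_6_2 lc_a_rc_3_2 lc_a_rc_2_2 lc_a_rc_4_2 lc_a_rc_3_2 lc_a_rc_6_2 lc_a_rc_2_2 lc_a_rc_4_2 lc_a_rc_6_2 lc_a_rc_29_0 lc_a_rc_3_2 lc_a_rc_2_2 lc_a_rc_4_2 lc_a_Cert_tree lc_a_rc_28_0 lc_a_rc_2_2 lc_a_rc_2_2 lc_a_rc_29_0 lc_a_Cert_tree lc_a_rc_0_0 lc_a_rc_29_0 lc_a_rc_5_2) (@D3.rec (fun _ => (Cert rels S Gen.a)) lc_a_rc_6_2 lc_a_rc_5_2 lc_a_rc_28_0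 lc_a_rc_28_0 lc_a_rc_2_2 lc_a_rc_2_2 lc_a_Cert_tree lc_a_Cert_tree lc_a_rc_0_0 lc_a_rc_28_0 lc_a_rc_0_0 lc_a_rc_2_2 lc_a_rc_0_1 lc_a_rc_3_2 lc_a_rc_0_0 lc_a_rc_2_2 lc_a_rc_2_2 lc_a_rc_5_2 lc_a_rc_3_2 lc_a_rc_29_0 lc_a_rc_29_0 lc_a_rc_2_2 lc_a_rc_3_2 lc_a_rc_0_0 lc_a_rc_2_2 lc_a_rc_6_2 lc_a_rc_5_2 lc_a_rc_28_0 lc_a_rc_5_2 lc_a_rc_5_2 lc_a_rc_29_0 lc_a_rc_0_0 lc_a_rc_3_2 lc_a_rc_0_0 lc_a_rc_3_2 lc_a_rc_4_2 lc_a_rc_2_2 lc_a_rc_2_2 lc_a_rc_29_0 lc_a_rc_3_2) (@D3.rec (fun _ => (Cert rels S Gen.a)) lc_a_rc_3_2 lc_a_rc_30_16 lc_a_rc_3_2 lc_a_rc_5_2 lc_a_rc_5_2 lc_a_rc_29_0 lc_a_rc_29_0 lc_a_rc_0_0 lc_a_rc_3_2 lc_a_rc_4_2 lc_a_rc_5_2 lc_a_rc_28_0 lc_a_rc_4_2 lc_a_rc_3_2 lc_a_rc_29_0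 lc_a_Cert_tree lc_a_Cert_tree lc_a_rc_0_0 lc_a_rc_2_2 lc_a_rc_5_2 lc_a_rc_4_2 lc_a_rc_2_2 lc_a_rc_5_2 lc_a_rc_28_0 lc_a_rc_4_2 lc_a_rc_29_0 lc_a_rc_3_2 lc_a_rc_0_1 lc_a_rc_29_0 lc_a_rc_2_2 lc_a_rc_4_2 lc_a_rc_5_2 lc_a_rc_2_2 lc_a_rc_28_0 lc_a_rc_2_2 lc_a_rc_0_1 lc_a_rc_28_0 lc_a_rc_29_0 lc_a_rc_6_2 lc_a_Cert_tree) (@D3.rec (fun _ => (Cert rels S Gen.a)) lc_a_rc_3_2 lc_a_rc_0_0 lc_a_rc_6_2 lc_a_rc_5_2 lc_a_rc_28_0 lc_a_rc_2_2 lc_a_rc_3_2 lc_a_rc_5_2 lc_a_rc_29_0 lc_a_rc_5_2 lc_a_rc_3_2 lc_a_rc_5_2 lc_a_rc_29_0 lc_a_rc_29_0 lc_a_rc_3_2 lc_a_rc_28_0 lc_a_rc_0_0 lc_a_rc_29_0 lc_a_rc_1_4 lc_a_rc_5_2 lc_a_rc_4_2 lc_a_rc_5_2 lc_a_rc_6_2 lc_a_rc_30_12 lc_a_Cert_tree lc_a_rc_4_2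 lc_a_rc_28_0 lc_a_rc_28_0 lc_a_rc_5_2 lc_a_rc_6_2 lc_a_rc_29_0 lc_a_rc_29_0 lc_a_rc_0_0 lc_a_rc_0_1 lc_a_rc_0_0 lc_a_rc_4_2 lc_a_rc_1_0 lc_a_rc_3_2 lc_a_rc_2_2 lc_a_rc_28_0) (@D3.rec (fun _ => (Cert rels S Gen.a)) lc_a_rc_29_0 lc_a_rc_6_0 lc_a_rc_29_0 lc_a_rc_29_0 lc_a_rc_2_2 lc_a_rc_4_2 lc_a_Cert_tree lc_a_rc_3_2 lc_a_rc_4_2 lc_a_rc_5_2 lc_a_rc_6_2 lc_a_rc_28_0 lc_a_rc_4_2 lc_a_rc_5_2 lc_a_rc_6_2 lc_a_rc_28_0 lc_a_rc_5_2 lc_a_rc_2_2 lc_a_rc_29_0 lc_a_rc_28_0 lc_a_rc_29_0 lc_a_rc_0_0 lc_a_rc_4_2 lc_a_rc_28_0 lc_a_rc_0_1 lc_a_rc_3_2 lc_a_rc_3_0 lc_a_rc_0_0 lc_a_rc_28_0 lc_a_rc_30_16 lc_a_Cert_tree lc_a_rc_0_0 lc_a_rc_2_2 lc_a_rc_6_2 lc_a_rc_2_2 lc_a_rc_6_2 lc_a_rc_6_2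 lc_a_rc_0_0 lc_a_rc_30_12 lc_a_rc_5_0) (@D3.rec (fun _ => (Cert rels S Gen.a)) lc_a_rc_29_0 lc_a_rc_0_0 lc_a_rc_28_0 lc_a_rc_29_0 lc_a_rc_2_2 lc_a_rc_29_0 lc_a_rc_2_2 lc_a_rc_29_0 lc_a_rc_3_2 lc_a_rc_29_0 lc_a_rc_29_0 lc_a_rc_28_0 lc_a_rc_4_2 lc_a_rc_5_2 lc_a_rc_6_2 lc_a_Cert_tree lc_a_rc_28_0 lc_a_rc_2_2 lc_a_rc_0_1 lc_a_rc_28_0 lc_a_rc_3_2 lc_a_rc_3_2 lc_a_rc_29_0 lc_a_rc_0_0 lc_a_rc_0_0 lc_a_rc_4_2 lc_a_rc_5_2 lc_a_rc_5_0 lc_a_rc_28_0 lc_a_rc_1_4 lc_a_rc_29_0 lc_a_rc_6_2 lc_a_rc_29_0 lc_a_rc_29_0 lc_a_rc_0_0 lc_a_Cert_tree lc_a_rc_28_0 lc_a_rc_2_2 lc_a_rc_2_2 lc_a_rc_28_0) (@D3.rec (fun _ => (Cert rels S Gen.a)) lc_a_rc_5_2 lc_a_rc_6_2 lc_a_rc_29_0 lc_a_rc_29_0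 lc_a_rc_2_2 lc_a_rc_28_0 lc_a_rc_4_2 lc_a_rc_0_1 lc_a_rc_28_0 lc_a_rc_3_2 lc_a_rc_2_2 lc_a_rc_2_2 lc_a_rc_2_0 lc_a_rc_29_0 lc_a_rc_28_0 lc_a_rc_0_0 lc_a_rc_29_0 lc_a_rc_0_0 lc_a_rc_3_2 lc_a_Cert_tree lc_a_rc_2_2 lc_a_rc_29_0 lc_a_rc_0_0 lc_a_rc_2_2 lc_a_rc_29_0 lc_a_rc_1_6 lc_a_rc_29_0 lc_a_rc_29_0 lc_a_rc_5_2 lc_a_rc_6_2 lc_a_rc_1_6 lc_a_Cert_tree lc_a_rc_29_0 lc_a_rc_0_0 lc_a_Cert_tree lc_a_Cert_tree lc_a_rc_1_2 lc_a_rc_0_0 lc_a_rc_28_0 lc_a_rc_29_0) (@D3.rec (fun _ => (Cert rels S Gen.a)) lc_a_rc_2_2 lc_a_rc_29_0 lc_a_rc_2_2 lc_a_rc_29_0 lc_a_rc_2_0 lc_a_rc_6_2 lc_a_rc_29_0 lc_a_rc_28_0 lc_a_rc_4_2 lc_a_rc_5_2 lc_a_rc_6_2 lc_a_Cert_tree lc_a_rc_28_0 lc_a_rc_2_2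 lc_a_rc_28_0 lc_a_rc_29_0 lc_a_rc_3_2 lc_a_rc_29_0 lc_a_rc_29_0 lc_a_rc_0_0 lc_a_rc_0_0 lc_a_rc_4_2 lc_a_rc_5_2 lc_a_rc_5_0 lc_a_rc_28_0 lc_a_rc_29_0 lc_a_rc_5_2 lc_a_rc_29_0 lc_a_rc_29_0 lc_a_rc_29_0 lc_a_rc_0_0 lc_a_Cert_tree lc_a_rc_28_0 lc_a_rc_2_2 lc_a_rc_28_0 lc_a_rc_29_0 lc_a_rc_5_2 lc_a_rc_6_2 lc_a_rc_29_0 lc_a_rc_29_0) (@D3.rec (fun _ => (Cert rels S Gen.a)) lc_a_rc_29_0 lc_a_rc_28_0 lc_a_rc_4_2 lc_a_rc_28_0 lc_a_rc_29_0 lc_a_rc_3_2 lc_a_rc_2_2 lc_a_rc_2_2 lc_a_rc_0_1 lc_a_rc_29_0 lc_a_rc_28_0 lc_a_rc_0_0 lc_a_rc_29_0 lc_a_rc_0_0 lc_a_Cert_tree lc_a_rc_3_2 lc_a_rc_0_0 lc_a_rc_2_2 lc_a_rc_0_1 lc_a_rc_2_2 lc_a_rc_29_0 lc_a_rc_4_2 lc_a_rc_29_0 lc_a_rc_29_0 lc_a_rc_5_2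 lc_a_rc_6_2 lc_a_Cert_tree lc_a_rc_29_0 lc_a_rc_29_0 lc_a_rc_0_0 lc_a_Cert_tree lc_a_Cert_tree lc_a_rc_29_0 lc_a_rc_3_2 lc_a_rc_0_0 lc_a_rc_5_2 lc_a_rc_6_2 lc_a_rc_28_0 lc_a_rc_3_2 lc_a_rc_5_2) (@D3.rec (fun _ => (Cert rels S Gen.a)) lc_a_rc_6_2 lc_a_rc_0_0 lc_a_rc_28_0 lc_a_rc_5_2 lc_a_rc_6_2 lc_a_rc_29_0 lc_a_rc_29_0 lc_a_rc_29_0 lc_a_rc_5_2 lc_a_rc_0_0 lc_a_rc_5_2 lc_a_rc_6_2 lc_a_rc_28_0 lc_a_rc_3_2 lc_a_rc_5_2 lc_a_rc_6_2 lc_a_rc_0_0 lc_a_rc_28_0 lc_a_rc_5_2 lc_a_rc_6_2 lc_a_rc_29_0 lc_a_rc_29_0 lc_a_rc_0_0 lc_a_rc_5_2 lc_a_rc_0_0 lc_a_rc_6_2 lc_a_rc_29_0 lc_a_rc_29_0 lc_a_rc_4_2 lc_a_rc_29_0 lc_a_rc_4_2 lc_a_rc_4_2 lc_a_rc_29_0 lc_a_rc_4_2 lc_a_rc_29_0 lc_a_rc_29_0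 lc_a_rc_28_0 lc_a_rc_29_0 lc_a_rc_29_0 lc_a_rc_4_2) (@D3.rec (fun _ => (Cert rels S Gen.a)) lc_a_rc_6_2 lc_a_rc_28_0 lc_a_rc_28_0 lc_a_rc_29_0 lc_a_rc_2_2 lc_a_rc_0_1 lc_a_rc_29_0 lc_a_rc_28_0 lc_a_rc_29_0 lc_a_rc_2_2 lc_a_rc_29_0 lc_a_rc_29_0 lc_a_rc_29_0 lc_a_rc_29_0 lc_a_Cert_tree lc_a_rc_0_0 lc_a_rc_28_0 lc_a_rc_1_4 lc_a_rc_4_2 lc_a_rc_28_0 lc_a_rc_3_2 lc_a_Cert_tree lc_a_rc_0_0 lc_a_rc_28_0 lc_a_rc_6_2 lc_a_rc_6_2 lc_a_rc_6_2 lc_a_Cert_tree lc_a_rc_28_0 lc_a_rc_28_0 lc_a_rc_3_2 lc_a_rc_0_0 lc_a_rc_28_0 lc_a_rc_29_0 lc_a_rc_2_2 lc_a_rc_2_2 lc_a_rc_29_0 lc_a_rc_28_0 lc_a_rc_29_0 lc_a_rc_29_0) (@D3.rec (fun _ => (Cert rels S Gen.a)) lc_a_rc_6_2 lc_a_rc_1_4 lc_a_rc_4_2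 lc_a_rc_28_0 lc_a_Cert_tree lc_a_rc_0_0 lc_a_rc_28_0 lc_a_rc_1_4 lc_a_rc_4_2 lc_a_rc_28_0 lc_a_rc_3_2 lc_a_Cert_tree lc_a_rc_0_0 lc_a_rc_28_0 lc_a_rc_5_2 lc_a_rc_5_2 lc_a_rc_29_0 lc_a_Cert_tree lc_a_rc_2_2 lc_a_rc_3_2 lc_a_rc_0_0 lc_a_rc_28_0 lc_a_rc_29_0 lc_a_rc_2_2 lc_a_rc_0_0 lc_a_rc_2_2 lc_a_rc_30_12 lc_a_rc_0_0 lc_a_rc_28_0 lc_a_rc_5_2 lc_a_rc_6_2 lc_a_rc_2_2 lc_a_rc_5_2 lc_a_rc_2_0 lc_a_rc_5_2 lc_a_rc_29_0 lc_a_rc_28_0 lc_a_rc_0_1 lc_a_rc_1_4 lc_a_rc_0_0) (@D3.rec (fun _ => (Cert rels S Gen.a)) lc_a_rc_4_2 lc_a_rc_28_0 lc_a_rc_1_2 lc_a_rc_4_0 lc_a_rc_0_0 lc_a_rc_0_0 lc_a_rc_0_0 lc_a_rc_0_0 lc_a_rc_2_2 lc_a_rc_0_0 lc_a_rc_4_2 lc_a_rc_0_0 lc_a_rc_29_0 lc_a_rc_29_0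 lc_a_rc_5_2 lc_a_rc_29_0 lc_a_rc_29_0 lc_a_rc_29_0 lc_a_rc_28_0 lc_a_rc_1_6 lc_a_rc_29_0 lc_a_rc_1_6 lc_a_rc_0_1 lc_a_rc_5_2 lc_a_rc_0_0 lc_a_rc_4_2 lc_a_rc_6_2 lc_a_rc_29_0 lc_a_rc_2_2 lc_a_rc_29_0 lc_a_rc_1_4 lc_a_rc_1_6 lc_a_rc_0_0 lc_a_rc_2_2 lc_a_rc_4_2 lc_a_rc_4_2 lc_a_rc_0_0 lc_a_rc_29_0 lc_a_rc_6_2 lc_a_rc_28_0) (@D3.rec (fun _ => (Cert rels S Gen.a)) lc_a_rc_2_2 lc_a_rc_3_2 lc_a_rc_5_2 lc_a_rc_29_0 lc_a_rc_0_0 lc_a_rc_4_2 lc_a_rc_3_2 lc_a_rc_29_0 lc_a_rc_0_0 lc_a_rc_6_2 lc_a_rc_2_2 lc_a_rc_4_2 lc_a_rc_2_2 lc_a_rc_2_2 lc_a_rc_0_0 lc_a_rc_0_1 lc_a_rc_29_0 lc_a_rc_3_2 lc_a_rc_4_2 lc_a_rc_6_2 lc_a_rc_3_2 lc_a_rc_0_1 lc_a_rc_6_2 lc_a_rc_1_4 lc_a_rc_1_2 lc_a_rc_29_0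 lc_a_rc_0_1 lc_a_rc_3_2 lc_a_rc_2_0 lc_a_rc_1_4 lc_a_rc_0_0 lc_a_rc_6_2 lc_a_rc_6_2 lc_a_rc_0_0 lc_a_rc_0_0 lc_a_rc_30_8 lc_a_rc_29_0 lc_a_rc_0_0 lc_a_rc_5_2 lc_a_rc_29_0) (@D3.rec (fun _ => (Cert rels S Gen.a)) lc_a_rc_6_2 lc_a_rc_4_2 lc_a_rc_6_2 lc_a_rc_6_2 lc_a_rc_0_0 lc_a_rc_4_2 lc_a_rc_28_0 lc_a_rc_3_2 lc_a_rc_6_2 lc_a_rc_29_0 lc_a_rc_0_0 lc_a_rc_3_2 lc_a_rc_6_2 lc_a_rc_28_0 lc_a_rc_4_2 lc_a_rc_5_2 lc_a_rc_6_2 lc_a_rc_3_2 lc_a_rc_5_2 lc_a_rc_6_2 lc_a_rc_29_0 lc_a_rc_29_0 lc_a_rc_2_2 lc_a_rc_3_2 lc_a_rc_0_0 lc_a_rc_28_0 lc_a_rc_29_0 lc_a_rc_0_0 lc_a_rc_28_0 lc_a_rc_2_2 lc_a_rc_4_2 lc_a_rc_5_2 lc_a_rc_6_2 lc_a_rc_3_2 lc_a_rc_5_2 lc_a_rc_6_2 lc_a_rc_2_2 lc_a_rc_28_0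 lc_a_rc_3_2 lc_a_rc_5_2) (@D3.rec (fun _ => (Cert rels S Gen.a)) lc_a_rc_6_2 lc_a_rc_29_0 lc_a_rc_0_0 lc_a_rc_3_2 lc_a_rc_3_2 lc_a_rc_29_0 lc_a_rc_0_0 lc_a_rc_0_1 lc_a_rc_28_0 lc_a_rc_29_0 lc_a_rc_28_0 lc_a_rc_3_2 lc_a_rc_29_0 lc_a_rc_0_0 lc_a_rc_2_2 lc_a_rc_2_2 lc_a_rc_3_2 lc_a_rc_5_2 lc_a_rc_28_0 lc_a_rc_28_0 lc_a_rc_29_0 lc_a_rc_5_0 lc_a_rc_0_0 lc_a_rc_2_2 lc_a_rc_6_2 lc_a_rc_3_2 lc_a_rc_2_2 lc_a_rc_6_2 lc_a_rc_28_0 lc_a_rc_6_2 lc_a_rc_0_0 lc_a_rc_28_0 lc_a_rc_29_0 lc_a_rc_3_0 lc_a_rc_30_12 lc_a_rc_4_2 lc_a_rc_0_0 lc_a_rc_6_2 lc_a_rc_1_6 lc_a_rc_0_0) (@D3.rec (fun _ => (Cert rels S Gen.a)) lc_a_rc_0_0 lc_a_rc_1_4 lc_a_rc_2_2 lc_a_rc_2_2 lc_a_rc_0_0 lc_a_rc_4_2 lc_a_rc_29_0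 lc_a_rc_6_2 lc_a_rc_4_2 lc_a_rc_29_0 lc_a_rc_5_2 lc_a_rc_28_0 lc_a_rc_4_2 lc_a_rc_0_0 lc_a_rc_4_2 lc_a_rc_28_0 lc_a_rc_29_0 lc_a_rc_2_2 lc_a_rc_1_4 lc_a_rc_1_4 lc_a_rc_1_6 lc_a_rc_0_0 lc_a_rc_2_2 lc_a_rc_2_2 lc_a_rc_4_2 lc_a_rc_5_2 lc_a_rc_28_0 lc_a_rc_29_0 lc_a_rc_0_0 lc_a_rc_4_2 lc_a_rc_2_2 lc_a_rc_5_2 lc_a_rc_2_2 lc_a_rc_4_2 lc_a_rc_2_2 lc_a_rc_28_0 lc_a_rc_29_0 lc_a_rc_29_0 lc_a_rc_0_0 lc_a_rc_4_2) (@D3.rec (fun _ => (Cert rels S Gen.a)) lc_a_rc_5_2 lc_a_rc_3_2 lc_a_rc_5_2 lc_a_rc_4_2 lc_a_rc_4_0 lc_a_rc_3_2 lc_a_rc_29_0 lc_a_rc_29_0 lc_a_rc_4_2 lc_a_rc_1_4 lc_a_rc_0_0 lc_a_rc_5_2 lc_a_rc_5_2 lc_a_rc_29_0 lc_a_rc_29_0 lc_a_rc_6_2 lc_a_rc_29_0 lc_a_rc_0_0 lc_a_rc_2_2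 lc_a_rc_5_2 lc_a_rc_5_2 lc_a_rc_3_2 lc_a_rc_2_2 lc_a_rc_29_0 lc_a_rc_0_0 lc_a_rc_0_0 lc_a_rc_30_4 lc_a_rc_28_0 lc_a_rc_29_0 lc_a_rc_3_2 lc_a_rc_5_2 lc_a_rc_6_2 lc_a_rc_3_2 lc_a_rc_3_2 lc_a_rc_29_0 lc_a_rc_0_0 lc_a_rc_2_2 lc_a_rc_28_0 lc_a_rc_0_0 lc_a_rc_30_16) (@D3.rec (fun _ => (Cert rels S Gen.a)) lc_a_rc_0_0 lc_a_rc_2_2 lc_a_rc_2_2 lc_a_rc_3_2 lc_a_rc_6_2 lc_a_rc_28_0 lc_a_rc_28_0 lc_a_rc_0_0 lc_a_rc_2_2 lc_a_rc_29_0 lc_a_rc_4_2 lc_a_rc_28_0 lc_a_rc_28_0 lc_a_rc_2_2 lc_a_rc_5_2 lc_a_rc_30_8 lc_a_rc_1_4 lc_a_rc_0_0 lc_a_rc_29_0 lc_a_rc_29_0 lc_a_rc_0_0 lc_a_rc_0_1 lc_a_rc_28_0 lc_a_rc_29_0 lc_a_rc_4_2 lc_a_rc_0_0 lc_a_rc_3_2 lc_a_rc_2_2 lc_a_rc_4_2 lc_a_rc_4_2 lc_a_rc_28_0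 lc_a_rc_2_2 lc_a_rc_3_2 lc_a_rc_4_2 lc_a_rc_29_0 lc_a_rc_4_2 lc_a_rc_0_0 lc_a_rc_2_2 lc_a_rc_29_0 lc_a_rc_2_2) (@D3.rec (fun _ => (Cert rels S Gen.a)) lc_a_rc_28_0 lc_a_rc_28_0 lc_a_rc_28_0 lc_a_rc_2_2 lc_a_rc_0_1 lc_a_rc_29_0 lc_a_rc_29_0 lc_a_rc_28_0 lc_a_rc_29_0 lc_a_rc_5_2 lc_a_rc_6_2 lc_a_rc_29_0 lc_a_rc_28_0 lc_a_rc_29_0 lc_a_rc_3_2 lc_a_rc_0_0 lc_a_rc_28_0 lc_a_rc_29_0 lc_a_rc_2_2 lc_a_rc_4_2 lc_a_rc_0_0 lc_a_rc_3_2 lc_a_rc_2_2 lc_a_rc_4_2 lc_a_rc_4_2 lc_a_rc_28_0 lc_a_rc_2_2 lc_a_rc_3_2 lc_a_rc_29_0 lc_a_rc_5_2 lc_a_rc_4_2 lc_a_rc_4_2 lc_a_rc_2_2 lc_a_rc_0_0 lc_a_rc_2_2 lc_a_rc_28_0 lc_a_rc_28_0 lc_a_rc_28_0 lc_a_rc_5_2 lc_a_rc_4_2) (@D3.rec (fun _ => (Cert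 rels S Gen.a)) lc_a_rc_1_4 lc_a_rc_29_0 lc_a_rc_0_1 lc_a_rc_28_0 lc_a_rc_2_2 lc_a_rc_0_0 lc_a_rc_2_2 lc_a_rc_2_2 lc_a_rc_1_4 lc_a_rc_28_0 lc_a_rc_29_0 lc_a_rc_28_0 lc_a_rc_4_2 lc_a_rc_3_2 lc_a_rc_2_2 lc_a_rc_28_0 lc_a_rc_3_2 lc_a_rc_6_2 lc_a_rc_28_0 lc_a_rc_0_0 lc_a_rc_28_0 lc_a_rc_6_2 lc_a_rc_29_0 lc_a_rc_1_4 lc_a_rc_29_0 lc_a_rc_29_0 lc_a_rc_5_2 lc_a_rc_1_6 lc_a_rc_0_0 lc_a_rc_1_4 lc_a_rc_29_0 lc_a_rc_2_2 lc_a_rc_28_0 lc_a_rc_29_0 lc_a_rc_29_0 lc_a_rc_29_0 lc_a_rc_28_0 lc_a_rc_30_12 lc_a_rc_28_0 lc_a_rc_2_2)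
def ce_a_16 : D2 → D3 → (Cert rels S Gen.a) := @D2.rec (fun _ => D3 → (Cert rels S Gen.a)) (@D3.rec (fun _ => (Cert rels S Gen.a)) lc_a_rc_0_0 lc_a_rc_5_2 lc_a_rc_28_0 lc_a_rc_28_0 lc_a_rc_5_2 lc_a_rc_5_0 lc_a_rc_0_0 lc_a_rc_28_0 lc_a_rc_3_0 lc_a_rc_4_2 lc_a_rc_4_2 lc_a_rc_1_4 lc_a_rc_28_0 lc_a_rc_28_0 lc_a_rc_0_0 lc_a_rc_28_0 lc_a_rc_2_2 lc_a_rc_3_2 lc_a_rc_3_0 lc_a_rc_5_2 lc_a_rc_5_2 lc_a_rc_0_0 lc_a_rc_6_2 lc_a_rc_28_0 lc_a_rc_0_0 lc_a_rc_2_2 lc_a_rc_28_0 lc_a_rc_4_2 lc_a_rc_4_2 lc_a_rc_1_4 lc_a_rc_28_0 lc_a_rc_28_0 lc_a_rc_28_0 lc_a_rc_28_0 lc_a_rc_2_2 lc_a_rc_3_2 lc_a_rc_4_2 lc_a_rc_6_2 lc_a_rc_6_2 lc_a_rc_30_8) (@D3.rec (fun _ => (Cert rels S Gen.a)) lc_a_rc_4_2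 lc_a_rc_4_2 lc_a_rc_3_2 lc_a_rc_2_2 lc_a_rc_6_2 lc_a_rc_3_2 lc_a_rc_6_2 lc_a_rc_28_0 lc_a_rc_0_1 lc_a_rc_2_2 lc_a_rc_5_2 lc_a_rc_3_2 lc_a_rc_5_2 lc_a_rc_28_0 lc_a_rc_0_0 lc_a_rc_29_0 lc_a_rc_0_0 lc_a_rc_4_2 lc_a_rc_0_1 lc_a_rc_0_1 lc_a_rc_2_2 lc_a_rc_5_2 lc_a_rc_29_0 lc_a_rc_5_2 lc_a_rc_29_0 lc_a_rc_0_0 lc_a_rc_29_0 lc_a_rc_29_0 lc_a_rc_29_0 lc_a_rc_2_2 lc_a_rc_6_2 lc_a_rc_0_0 lc_a_rc_6_2 lc_a_rc_0_0 lc_a_rc_1_6 lc_a_rc_2_2 lc_a_rc_29_0 lc_a_Cert_tree lc_a_rc_3_2 lc_a_rc_28_0) (@D3.rec (fun _ => (Cert rels S Gen.a)) lc_a_rc_1_6 lc_a_rc_2_2 lc_a_rc_6_2 lc_a_Cert_tree lc_a_rc_3_2 lc_a_rc_28_0 lc_a_rc_2_2 lc_a_rc_0_0 lc_a_rc_2_2 lc_a_rc_29_0 lc_a_rc_28_0 lc_a_rc_0_0 lc_a_rc_2_2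 lc_a_rc_0_1 lc_a_rc_2_2 lc_a_rc_3_2 lc_a_rc_0_0 lc_a_rc_2_2 lc_a_rc_3_2 lc_a_rc_29_0 lc_a_rc_0_0 lc_a_rc_0_0 lc_a_rc_0_0 lc_a_rc_29_0 lc_a_rc_2_2 lc_a_rc_2_2 lc_a_rc_28_0 lc_a_rc_0_0 lc_a_rc_2_2 lc_a_rc_29_0 lc_a_rc_0_0 lc_a_rc_6_2 lc_a_Cert_tree lc_a_rc_0_0 lc_a_rc_2_2 lc_a_rc_0_1 lc_a_rc_2_2 lc_a_rc_0_1 lc_a_rc_5_2 lc_a_rc_29_0) (@D3.rec (fun _ => (Cert rels S Gen.a)) lc_a_Cert_tree lc_a_rc_0_0 lc_a_rc_2_2 lc_a_rc_29_0 lc_a_rc_2_2 lc_a_rc_29_0 lc_a_rc_6_2 lc_a_rc_0_0 lc_a_rc_29_0 lc_a_rc_2_2 lc_a_rc_0_0 lc_a_rc_5_2 lc_a_rc_6_2 lc_a_rc_0_0 lc_a_rc_29_0 lc_a_rc_1_4 lc_a_rc_6_2 lc_a_rc_5_2 lc_a_rc_28_0 lc_a_rc_28_0 lc_a_rc_6_2 lc_a_rc_28_0 lc_a_rc_28_0 lc_a_rc_6_2 lc_a_rc_0_0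 lc_a_rc_1_2 lc_a_rc_0_1 lc_a_rc_29_0 lc_a_rc_3_2 lc_a_rc_28_0 lc_a_rc_1_8 lc_a_rc_0_1 lc_a_rc_4_2 lc_a_rc_2_2 lc_a_rc_28_0 lc_a_rc_2_2 lc_a_rc_5_2 lc_a_rc_5_2 lc_a_rc_6_0 lc_a_rc_28_0) (@D3.rec (fun _ => (Cert rels S Gen.a)) lc_a_rc_29_0 lc_a_rc_29_0 lc_a_rc_2_2 lc_a_rc_2_2 lc_a_rc_28_0 lc_a_rc_6_2 lc_a_rc_5_2 lc_a_rc_28_0 lc_a_rc_29_0 lc_a_rc_29_0 lc_a_rc_0_0 lc_a_rc_1_2 lc_a_rc_29_0 lc_a_rc_30_12 lc_a_rc_3_2 lc_a_rc_28_0 lc_a_rc_5_2 lc_a_rc_29_0 lc_a_rc_4_2 lc_a_rc_2_2 lc_a_rc_28_0 lc_a_rc_29_0 lc_a_rc_29_0 lc_a_rc_6_2 lc_a_rc_30_8 lc_a_rc_28_0 lc_a_rc_5_0 lc_a_rc_0_0 lc_a_rc_29_0 lc_a_rc_2_2 lc_a_rc_2_2 lc_a_rc_2_2 lc_a_rc_5_2 lc_a_rc_1_4 lc_a_rc_5_2 lc_a_rc_29_0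 lc_a_rc_28_0 lc_a_rc_0_1 lc_a_rc_2_2 lc_a_rc_6_2) (@D3.rec (fun _ => (Cert rels S Gen.a)) lc_a_rc_1_4 lc_a_rc_6_2 lc_a_rc_0_0 lc_a_rc_28_0 lc_a_rc_2_2 lc_a_rc_1_4 lc_a_rc_2_2 lc_a_rc_1_4 lc_a_rc_28_0 lc_a_rc_2_2 lc_a_rc_5_2 lc_a_rc_3_0 lc_a_rc_5_2 lc_a_rc_0_0 lc_a_rc_0_0 lc_a_rc_29_0 lc_a_rc_2_2 lc_a_rc_28_0 lc_a_rc_6_2 lc_a_rc_29_0 lc_a_rc_5_2 lc_a_rc_29_0 lc_a_rc_29_0 lc_a_rc_0_0 lc_a_rc_29_0 lc_a_rc_2_2 lc_a_rc_5_2 lc_a_rc_5_2 lc_a_rc_3_2 lc_a_rc_6_2 lc_a_rc_29_0 lc_a_rc_29_0 lc_a_rc_2_2 lc_a_rc_29_0 lc_a_rc_29_0 lc_a_rc_1_4 lc_a_rc_0_0 lc_a_rc_0_1 lc_a_rc_0_0 lc_a_rc_2_2) (@D3.rec (fun _ => (Cert rels S Gen.a)) lc_a_rc_29_0 lc_a_rc_0_1 lc_a_rc_1_4 lc_a_rc_0_0 lc_a_rc_29_0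 lc_a_rc_6_2 lc_a_rc_0_0 lc_a_rc_3_2 lc_a_rc_29_0 lc_a_rc_3_2 lc_a_rc_6_2 lc_a_rc_3_2 lc_a_rc_28_0 lc_a_rc_2_2 lc_a_rc_6_2 lc_a_Cert_tree lc_a_rc_0_0 lc_a_rc_0_0 lc_a_rc_29_0 lc_a_rc_29_0 lc_a_rc_3_2 lc_a_rc_5_2 lc_a_rc_29_0 lc_a_rc_28_0 lc_a_rc_28_0 lc_a_rc_5_2 lc_a_Cert_tree lc_a_rc_29_0 lc_a_rc_28_0 lc_a_rc_2_2 lc_a_rc_28_0 lc_a_rc_2_2 lc_a_rc_2_2 lc_a_rc_2_2 lc_a_rc_0_0 lc_a_rc_29_0 lc_a_rc_0_1 lc_a_rc_28_0 lc_a_rc_1_2 lc_a_Cert_tree) (@D3.rec (fun _ => (Cert rels S Gen.a)) lc_a_rc_5_2 lc_a_Cert_tree lc_a_rc_29_0 lc_a_rc_0_0 lc_a_rc_2_2 lc_a_rc_28_0 lc_a_rc_1_6 lc_a_rc_29_0 lc_a_rc_29_0 lc_a_rc_29_0 lc_a_rc_1_2 lc_a_Cert_tree lc_a_rc_6_2 lc_a_Cert_tree lc_a_rc_0_0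 lc_a_rc_29_0 lc_a_rc_3_2 lc_a_rc_0_0 lc_a_rc_28_0 lc_a_rc_5_2 lc_a_rc_2_2 lc_a_rc_5_2 lc_a_rc_0_1 lc_a_rc_29_0 lc_a_rc_29_0 lc_a_rc_2_2 lc_a_rc_29_0 lc_a_rc_3_2 lc_a_rc_2_2 lc_a_rc_4_2 lc_a_rc_28_0 lc_a_rc_2_0 lc_a_rc_0_0 lc_a_rc_28_0 lc_a_rc_6_2 lc_a_rc_2_2 lc_a_rc_6_2 lc_a_rc_29_0 lc_a_rc_0_0 lc_a_rc_4_2) (@D3.rec (fun _ => (Cert rels S Gen.a)) lc_a_rc_2_2 lc_a_rc_1_8 lc_a_rc_3_2 lc_a_rc_2_2 lc_a_rc_6_2 lc_a_rc_28_0 lc_a_rc_3_2 lc_a_rc_0_0 lc_a_rc_2_2 lc_a_rc_0_0 lc_a_rc_2_2 lc_a_rc_3_2 lc_a_rc_0_1 lc_a_rc_0_0 lc_a_rc_2_2 lc_a_rc_4_0 lc_a_rc_29_0 lc_a_rc_0_0 lc_a_rc_2_2 lc_a_rc_29_0 lc_a_rc_2_2 lc_a_rc_6_2 lc_a_rc_3_2 lc_a_rc_6_2 lc_a_rc_0_0 lc_a_rc_5_2 lc_a_rc_6_2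 lc_a_rc_29_0 lc_a_rc_2_2 lc_a_rc_0_0 lc_a_rc_0_1 lc_a_rc_29_0 lc_a_rc_0_0 lc_a_rc_2_2 lc_a_rc_29_0 lc_a_rc_2_2 lc_a_rc_3_2 lc_a_rc_29_0 lc_a_rc_0_0 lc_a_rc_2_2) (@D3.rec (fun _ => (Cert rels S Gen.a)) lc_a_rc_0_1 lc_a_rc_4_0 lc_a_rc_0_0 lc_a_rc_2_2 lc_a_rc_0_1 lc_a_rc_2_2 lc_a_rc_5_2 lc_a_rc_3_2 lc_a_rc_5_2 lc_a_rc_29_0 lc_a_rc_5_2 lc_a_rc_6_2 lc_a_rc_3_2 lc_a_rc_2_2 lc_a_rc_0_0 lc_a_rc_29_0 lc_a_rc_4_2 lc_a_rc_5_2 lc_a_rc_6_2 lc_a_rc_29_0 lc_a_rc_29_0 lc_a_rc_4_2 lc_a_rc_28_0 lc_a_rc_29_0 lc_a_rc_0_1 lc_a_rc_0_0 lc_a_rc_30_8 lc_a_rc_0_0 lc_a_rc_28_0 lc_a_rc_29_0 lc_a_rc_2_2 lc_a_rc_28_0 lc_a_rc_29_0 lc_a_Cert_tree lc_a_rc_0_0 lc_a_rc_3_0 lc_a_rc_0_0 lc_a_rc_6_2 lc_a_rc_0_1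 lc_a_rc_0_1) (@D3.rec (fun _ => (Cert rels S Gen.a)) lc_a_rc_5_2 lc_a_rc_0_0 lc_a_rc_2_2 lc_a_rc_0_1 lc_a_rc_29_0 lc_a_rc_5_2 lc_a_rc_29_0 lc_a_rc_0_0 lc_a_rc_29_0 lc_a_rc_3_2 lc_a_rc_5_2 lc_a_rc_2_2 lc_a_rc_4_2 lc_a_rc_5_2 lc_a_rc_1_2 lc_a_rc_0_0 lc_a_rc_2_2 lc_a_rc_0_1 lc_a_Cert_tree lc_a_Cert_tree lc_a_rc_2_2 lc_a_rc_28_0 lc_a_rc_0_1 lc_a_Cert_tree lc_a_rc_0_0 lc_a_rc_1_2 lc_a_rc_6_2 lc_a_rc_0_0 lc_a_rc_0_0 lc_a_rc_3_2 lc_a_rc_29_0 lc_a_rc_4_2 lc_a_rc_0_1 lc_a_rc_2_2 lc_a_rc_0_0 lc_a_rc_2_2 lc_a_rc_29_0 lc_a_rc_29_0 lc_a_rc_2_2 lc_a_rc_6_2) (@D3.rec (fun _ => (Cert rels S Gen.a)) lc_a_rc_3_2 lc_a_rc_6_2 lc_a_rc_0_0 lc_a_rc_2_2 lc_a_rc_1_8 lc_a_rc_3_2 lc_a_rc_6_0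 lc_a_rc_4_2 lc_a_rc_0_0 lc_a_rc_3_2 lc_a_rc_1_8 lc_a_Cert_tree lc_a_rc_0_0 lc_a_rc_29_0 lc_a_rc_2_2 lc_a_rc_28_0 lc_a_Cert_tree lc_a_rc_3_2 lc_a_rc_28_0 lc_a_rc_28_0 lc_a_rc_2_2 lc_a_rc_6_2 lc_a_rc_1_4 lc_a_rc_3_2 lc_a_rc_1_2 lc_a_rc_4_2 lc_a_rc_28_0 lc_a_rc_4_2 lc_a_rc_5_2 lc_a_rc_6_2 lc_a_rc_29_0 lc_a_rc_29_0 lc_a_rc_29_0 lc_a_rc_3_2 lc_a_rc_4_0 lc_a_rc_29_0 lc_a_rc_0_0 lc_a_rc_30_16 lc_a_rc_28_0 lc_a_rc_28_0) (@D3.rec (fun _ => (Cert rels S Gen.a)) lc_a_rc_0_0 lc_a_rc_5_2 lc_a_rc_28_0 lc_a_rc_29_0 lc_a_rc_0_0 lc_a_rc_0_0 lc_a_rc_4_2 lc_a_rc_29_0 lc_a_rc_29_0 lc_a_rc_28_0 lc_a_rc_29_0 lc_a_rc_0_0 lc_a_rc_28_0 lc_a_rc_3_2 lc_a_rc_29_0 lc_a_rc_6_2 lc_a_rc_1_8 lc_a_rc_6_2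 lc_a_rc_0_0 lc_a_rc_3_2 lc_a_rc_2_2 lc_a_rc_29_0 lc_a_rc_3_2 lc_a_rc_1_2 lc_a_rc_0_0 lc_a_rc_28_0 lc_a_rc_29_0 lc_a_rc_4_2 lc_a_Cert_tree lc_a_rc_2_2 lc_a_rc_0_0 lc_a_rc_29_0 lc_a_rc_6_2 lc_a_rc_5_2 lc_a_rc_0_0 lc_a_rc_29_0 lc_a_rc_3_2 lc_a_rc_29_0 lc_a_rc_29_0 lc_a_rc_4_2) (@D3.rec (fun _ => (Cert rels S Gen.a)) lc_a_rc_0_0 lc_a_rc_2_2 lc_a_rc_0_1 lc_a_rc_0_0 lc_a_rc_2_2 lc_a_rc_5_2 lc_a_rc_3_2 lc_a_rc_29_0 lc_a_rc_2_2 lc_a_rc_5_2 lc_a_rc_3_2 lc_a_rc_29_0 lc_a_rc_29_0 lc_a_rc_0_0 lc_a_rc_0_0 lc_a_rc_0_0 lc_a_rc_1_6 lc_a_rc_28_0 lc_a_rc_3_2 lc_a_rc_0_1 lc_a_rc_28_0 lc_a_rc_29_0 lc_a_rc_1_4 lc_a_rc_3_2 lc_a_rc_1_2 lc_a_rc_28_0 lc_a_rc_29_0 lc_a_rc_3_2 lc_a_Cert_tree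 lc_a_Cert_tree lc_a_rc_3_2 lc_a_rc_0_0 lc_a_rc_0_1 lc_a_rc_2_2 lc_a_rc_28_0 lc_a_rc_0_1 lc_a_rc_29_0 lc_a_rc_29_0 lc_a_rc_2_2 lc_a_rc_2_2) (@D3.rec (fun _ => (Cert rels S Gen.a)) lc_a_rc_5_2 lc_a_Cert_tree lc_a_rc_28_0 lc_a_rc_29_0 lc_a_rc_29_0 lc_a_rc_0_0 lc_a_rc_2_2 lc_a_rc_29_0 lc_a_rc_3_2 lc_a_rc_2_2 lc_a_rc_6_2 lc_a_rc_28_0 lc_a_rc_6_2 lc_a_rc_0_0 lc_a_rc_4_2 lc_a_rc_5_2 lc_a_rc_1_2 lc_a_rc_0_0 lc_a_rc_4_2 lc_a_rc_29_0 lc_a_rc_1_4 lc_a_rc_29_0 lc_a_rc_5_2 lc_a_rc_28_0 lc_a_rc_29_0 lc_a_rc_0_0 lc_a_rc_29_0 lc_a_rc_28_0 lc_a_rc_1_2 lc_a_rc_29_0 lc_a_rc_29_0 lc_a_rc_6_2 lc_a_rc_2_2 lc_a_rc_28_0 lc_a_rc_0_0 lc_a_rc_4_2 lc_a_rc_0_1 lc_a_rc_0_1 lc_a_rc_1_4 lc_a_rc_28_0)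 (@D3.rec (fun _ => (Cert rels S Gen.a)) lc_a_rc_28_0 lc_a_rc_2_2 lc_a_rc_4_2 lc_a_rc_5_2 lc_a_rc_6_2 lc_a_rc_2_0 lc_a_rc_29_0 lc_a_rc_1_4 lc_a_rc_2_2 lc_a_rc_2_2 lc_a_rc_2_2 lc_a_rc_29_0 lc_a_rc_0_0 lc_a_Cert_tree lc_a_rc_0_0 lc_a_rc_4_2 lc_a_rc_5_2 lc_a_rc_6_2 lc_a_rc_5_2 lc_a_rc_28_0 lc_a_rc_29_0 lc_a_rc_29_0 lc_a_rc_1_4 lc_a_rc_3_2 lc_a_Cert_tree lc_a_rc_1_8 lc_a_Cert_tree lc_a_rc_0_0 lc_a_rc_29_0 lc_a_rc_2_2 lc_a_rc_28_0 lc_a_rc_0_1 lc_a_rc_29_0 lc_a_rc_0_0 lc_a_rc_29_0 lc_a_rc_28_0 lc_a_rc_6_2 lc_a_Cert_tree lc_a_rc_28_0 lc_a_rc_29_0) (@D3.rec (fun _ => (Cert rels S Gen.a)) lc_a_rc_0_0 lc_a_rc_0_0 lc_a_rc_2_2 lc_a_rc_0_1 lc_a_rc_3_2 lc_a_rc_2_2 lc_a_rc_5_2 lc_a_rc_28_0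 lc_a_rc_5_2 lc_a_rc_29_0 lc_a_rc_4_2 lc_a_rc_6_2 lc_a_rc_1_2 lc_a_rc_0_0 lc_a_rc_4_2 lc_a_rc_29_0 lc_a_rc_4_2 lc_a_rc_29_0 lc_a_rc_6_2 lc_a_rc_28_0 lc_a_rc_0_0 lc_a_rc_0_0 lc_a_rc_0_1 lc_a_rc_29_0 lc_a_rc_1_2 lc_a_rc_2_2 lc_a_rc_6_2 lc_a_rc_5_2 lc_a_rc_4_2 lc_a_rc_28_0 lc_a_rc_29_0 lc_a_rc_29_0 lc_a_rc_29_0 lc_a_rc_29_0 lc_a_rc_1_4 lc_a_rc_0_1 lc_a_rc_29_0 lc_a_rc_2_2 lc_a_rc_4_2 lc_a_rc_5_2) (@D3.rec (fun _ => (Cert rels S Gen.a)) lc_a_rc_6_2 lc_a_rc_0_1 lc_a_rc_29_0 lc_a_rc_1_4 lc_a_rc_2_2 lc_a_rc_2_2 lc_a_rc_2_2 lc_a_rc_29_0 lc_a_rc_0_0 lc_a_Cert_tree lc_a_rc_0_0 lc_a_rc_4_2 lc_a_rc_5_2 lc_a_rc_6_2 lc_a_rc_28_0 lc_a_rc_6_2 lc_a_rc_29_0 lc_a_rc_29_0 lc_a_rc_29_0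 lc_a_rc_29_0 lc_a_rc_3_2 lc_a_rc_28_0 lc_a_rc_28_0 lc_a_rc_28_0 lc_a_Cert_tree lc_a_rc_5_2 lc_a_rc_6_2 lc_a_rc_4_2 lc_a_rc_28_0 lc_a_rc_28_0 lc_a_rc_28_0 lc_a_rc_28_0 lc_a_rc_5_2 lc_a_rc_6_2 lc_a_rc_29_0 lc_a_rc_29_0 lc_a_rc_2_2 lc_a_rc_4_2 lc_a_rc_5_2 lc_a_Cert_tree) (@D3.rec (fun _ => (Cert rels S Gen.a)) lc_a_rc_28_0 lc_a_rc_2_2 lc_a_rc_2_2 lc_a_rc_4_0 lc_a_rc_5_2 lc_a_rc_30_12 lc_a_rc_28_0 lc_a_rc_30_12 lc_a_rc_3_2 lc_a_rc_28_0 lc_a_rc_29_0 lc_a_rc_28_0 lc_a_Cert_tree lc_a_rc_5_2 lc_a_rc_6_2 lc_a_rc_4_2 lc_a_rc_28_0 lc_a_rc_28_0 lc_a_rc_28_0 lc_a_rc_28_0 lc_a_rc_5_2 lc_a_rc_6_2 lc_a_rc_29_0 lc_a_rc_29_0 lc_a_rc_2_2 lc_a_rc_4_2 lc_a_rc_28_0 lc_a_rc_2_2 lc_a_rc_4_0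 lc_a_rc_0_0 lc_a_rc_1_4 lc_a_rc_6_2 lc_a_rc_2_0 lc_a_rc_1_4 lc_a_rc_29_0 lc_a_rc_28_0 lc_a_rc_29_0 lc_a_rc_0_1 lc_a_rc_1_4 lc_a_rc_29_0) (@D3.rec (fun _ => (Cert rels S Gen.a)) lc_a_rc_0_0 lc_a_rc_0_0 lc_a_rc_29_0 lc_a_rc_6_2 lc_a_rc_0_0 lc_a_rc_2_2 lc_a_rc_29_0 lc_a_rc_2_2 lc_a_rc_6_2 lc_a_rc_0_0 lc_a_rc_3_2 lc_a_rc_5_2 lc_a_rc_0_0 lc_a_rc_29_0 lc_a_rc_0_0 lc_a_rc_5_2 lc_a_rc_4_2 lc_a_rc_4_2 lc_a_rc_0_0 lc_a_rc_0_0 lc_a_rc_29_0 lc_a_rc_29_0 lc_a_rc_0_0 lc_a_rc_2_2 lc_a_rc_0_0 lc_a_rc_28_0 lc_a_rc_28_0 lc_a_rc_30_8 lc_a_rc_0_0 lc_a_rc_6_2 lc_a_rc_2_2 lc_a_rc_0_0 lc_a_rc_29_0 lc_a_rc_0_0 lc_a_rc_0_0 lc_a_rc_4_2 lc_a_rc_28_0 lc_a_rc_29_0 lc_a_rc_3_2 lc_a_rc_2_2) (@D3.rec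 (fun _ => (Cert rels S Gen.a)) lc_a_rc_0_0 lc_a_rc_28_0 lc_a_rc_0_0 lc_a_rc_4_2 lc_a_rc_6_2 lc_a_rc_28_0 lc_a_rc_28_0 lc_a_rc_29_0 lc_a_rc_0_0 lc_a_rc_0_1 lc_a_rc_28_0 lc_a_rc_0_0 lc_a_rc_29_0 lc_a_rc_6_2 lc_a_rc_28_0 lc_a_rc_2_2 lc_a_rc_0_0 lc_a_rc_0_0 lc_a_rc_29_0 lc_a_rc_28_0 lc_a_rc_4_2 lc_a_rc_28_0 lc_a_rc_29_0 lc_a_rc_29_0 lc_a_rc_2_2 lc_a_rc_0_0 lc_a_rc_28_0 lc_a_rc_29_0 lc_a_rc_4_2 lc_a_rc_5_2 lc_a_rc_28_0 lc_a_rc_29_0 lc_a_rc_28_0 lc_a_rc_0_0 lc_a_rc_0_1 lc_a_rc_28_0 lc_a_rc_0_0 lc_a_rc_28_0 lc_a_rc_5_2 lc_a_rc_29_0) (@D3.rec (fun _ => (Cert rels S Gen.a)) lc_a_rc_2_2 lc_a_rc_4_2 lc_a_rc_2_2 lc_a_rc_4_2 lc_a_rc_3_2 lc_a_rc_4_2 lc_a_rc_28_0 lc_a_rc_28_0 lc_a_rc_0_0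 lc_a_rc_2_2 lc_a_rc_4_2 lc_a_rc_2_2 lc_a_rc_4_2 lc_a_rc_3_2 lc_a_rc_4_2 lc_a_rc_5_2 lc_a_rc_28_0 lc_a_rc_0_0 lc_a_rc_4_0 lc_a_rc_30_12 lc_a_rc_3_2 lc_a_rc_29_0 lc_a_rc_2_0 lc_a_rc_1_4 lc_a_rc_28_0 lc_a_rc_3_2 lc_a_rc_0_0 lc_a_rc_4_2 lc_a_rc_2_2 lc_a_rc_5_2 lc_a_rc_28_0 lc_a_rc_5_2 lc_a_rc_2_2 lc_a_rc_6_2 lc_a_rc_28_0 lc_a_rc_6_2 lc_a_rc_5_2 lc_a_rc_1_4 lc_a_rc_6_2 lc_a_rc_3_2) (@D3.rec (fun _ => (Cert rels S Gen.a)) lc_a_rc_3_2 lc_a_rc_29_0 lc_a_rc_28_0 lc_a_rc_29_0 lc_a_rc_28_0 lc_a_rc_5_2 lc_a_rc_0_0 lc_a_rc_2_2 lc_a_rc_4_2 lc_a_rc_4_2 lc_a_rc_29_0 lc_a_rc_2_2 lc_a_rc_29_0 lc_a_rc_3_0 lc_a_rc_0_1 lc_a_rc_5_2 lc_a_rc_28_0 lc_a_rc_29_0 lc_a_rc_29_0 lc_a_rc_6_2 lc_a_rc_28_0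 lc_a_rc_0_0 lc_a_rc_6_2 lc_a_rc_5_2 lc_a_rc_29_0 lc_a_rc_0_1 lc_a_rc_5_2 lc_a_rc_6_2 lc_a_rc_0_0 lc_a_rc_0_1 lc_a_rc_28_0 lc_a_rc_28_0 lc_a_rc_0_0 lc_a_rc_29_0 lc_a_rc_28_0 lc_a_rc_29_0 lc_a_rc_3_2 lc_a_rc_3_2 lc_a_rc_30_8 lc_a_rc_1_4) (@D3.rec (fun _ => (Cert rels S Gen.a)) lc_a_rc_30_8 lc_a_rc_6_2 lc_a_rc_28_0 lc_a_rc_29_0 lc_a_rc_28_0 lc_a_rc_2_2 lc_a_rc_28_0 lc_a_rc_29_0 lc_a_rc_28_0 lc_a_rc_29_0 lc_a_Cert_tree lc_a_rc_4_2 lc_a_rc_0_0 lc_a_rc_2_2 lc_a_rc_0_1 lc_a_rc_2_2 lc_a_rc_3_2 lc_a_rc_0_1 lc_a_rc_2_2 lc_a_rc_2_2 lc_a_rc_3_0 lc_a_rc_3_2 lc_a_rc_29_0 lc_a_rc_0_0 lc_a_rc_28_0 lc_a_rc_0_1 lc_a_rc_5_2 lc_a_Cert_tree lc_a_rc_29_0 lc_a_Cert_tree lc_a_rc_28_0 lc_a_rc_6_2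 lc_a_rc_28_0 lc_a_rc_2_2 lc_a_rc_28_0 lc_a_rc_0_1 lc_a_rc_28_0 lc_a_rc_2_2 lc_a_Cert_tree lc_a_rc_4_2) (@D3.rec (fun _ => (Cert rels S Gen.a)) lc_a_rc_0_0 lc_a_rc_2_2 lc_a_rc_29_0 lc_a_rc_2_2 lc_a_rc_3_2 lc_a_rc_29_0 lc_a_rc_0_0 lc_a_rc_2_2 lc_a_rc_0_1 lc_a_rc_28_0 lc_a_rc_0_0 lc_a_rc_0_0 lc_a_rc_28_0 lc_a_rc_28_0 lc_a_rc_6_2 lc_a_Cert_tree lc_a_rc_0_0 lc_a_Cert_tree lc_a_rc_28_0 lc_a_rc_28_0 lc_a_rc_29_0 lc_a_rc_28_0 lc_a_rc_3_2 lc_a_rc_29_0 lc_a_rc_3_2 lc_a_rc_28_0 lc_a_rc_0_0 lc_a_rc_0_0 lc_a_rc_3_2 lc_a_rc_2_2 lc_a_rc_6_0 lc_a_rc_0_0 lc_a_rc_6_2 lc_a_rc_5_2 lc_a_rc_2_2 lc_a_rc_5_2 lc_a_rc_0_1 lc_a_rc_29_0 lc_a_rc_3_2 lc_a_rc_29_0) (@D3.rec (fun _ => (Cert rels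 S Gen.a)) lc_a_rc_28_0 lc_a_rc_3_2 lc_a_Cert_tree lc_a_rc_29_0 lc_a_rc_0_0 lc_a_rc_0_1 lc_a_Cert_tree lc_a_rc_29_0 lc_a_rc_0_0 lc_a_rc_28_0 lc_a_rc_28_0 lc_a_rc_2_2 lc_a_rc_6_2 lc_a_rc_3_2 lc_a_rc_6_2 lc_a_rc_0_0 lc_a_rc_2_2 lc_a_rc_29_0 lc_a_rc_2_2 lc_a_rc_0_0 lc_a_rc_28_0 lc_a_rc_0_1 lc_a_rc_2_0 lc_a_rc_2_2 lc_a_rc_4_2 lc_a_rc_28_0 lc_a_rc_2_2 lc_a_rc_0_1 lc_a_rc_0_0 lc_a_Cert_tree lc_a_rc_3_2 lc_a_rc_29_0 lc_a_rc_29_0 lc_a_rc_5_2 lc_a_rc_3_2 lc_a_rc_3_2 lc_a_rc_3_2 lc_a_rc_29_0 lc_a_rc_0_0 lc_a_rc_2_2)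
def ce_a_17 : D2 → D3 → (Cert rels S Gen.a) := @D2.rec (fun _ => D3 → (Cert rels S Gen.a)) (@D3.rec (fun _ => (Cert rels S Gen.a)) lc_a_rc_2_2 lc_a_rc_5_2 lc_a_rc_3_2 lc_a_rc_0_0 lc_a_rc_29_0 lc_a_rc_5_2 lc_a_rc_3_2 lc_a_rc_3_2 lc_a_rc_2_2 lc_a_rc_28_0 lc_a_rc_28_0 lc_a_rc_29_0 lc_a_Cert_tree lc_a_rc_0_0 lc_a_rc_28_0 lc_a_rc_29_0 lc_a_rc_3_2 lc_a_rc_29_0 lc_a_rc_0_0 lc_a_rc_1_4 lc_a_rc_3_2 lc_a_rc_2_2 lc_a_rc_5_0 lc_a_rc_0_0 lc_a_rc_28_0 lc_a_rc_6_2 lc_a_rc_2_2 lc_a_rc_6_2 lc_a_rc_29_0 lc_a_rc_0_0 lc_a_rc_3_2 lc_a_rc_3_2 lc_a_rc_28_0 lc_a_rc_3_2 lc_a_Cert_tree lc_a_rc_2_2 lc_a_rc_0_0 lc_a_rc_29_0 lc_a_Cert_tree lc_a_rc_3_2) (@D3.rec (fun _ => (Cert rels S Gen.a)) lc_a_rc_28_0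 lc_a_rc_2_2 lc_a_rc_5_2 lc_a_rc_3_2 lc_a_rc_29_0 lc_a_rc_5_2 lc_a_rc_3_2 lc_a_rc_2_2 lc_a_rc_0_0 lc_a_rc_28_0 lc_a_rc_0_0 lc_a_rc_28_0 lc_a_rc_2_2 lc_a_rc_4_2 lc_a_rc_30_8 lc_a_rc_2_2 lc_a_rc_29_0 lc_a_rc_3_2 lc_a_rc_3_2 lc_a_rc_0_1 lc_a_rc_0_0 lc_a_rc_6_2 lc_a_rc_3_2 lc_a_rc_5_2 lc_a_rc_6_2 lc_a_rc_29_0 lc_a_rc_0_0 lc_a_rc_2_2 lc_a_rc_2_2 lc_a_rc_6_2 lc_a_rc_0_0 lc_a_rc_0_0 lc_a_rc_1_2 lc_a_rc_28_0 lc_a_rc_6_2 lc_a_rc_3_2 lc_a_rc_2_2 lc_a_rc_28_0 lc_a_rc_28_0 lc_a_rc_0_0) (@D3.rec (fun _ => (Cert rels S Gen.a)) lc_a_Cert_tree lc_a_rc_0_0 lc_a_rc_5_2 lc_a_rc_29_0 lc_a_rc_28_0 lc_a_rc_29_0 lc_a_rc_4_2 lc_a_rc_2_2 lc_a_rc_4_2 lc_a_rc_5_2 lc_a_rc_6_2 lc_a_rc_2_0 lc_a_rc_28_0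 lc_a_rc_0_1 lc_a_rc_2_2 lc_a_rc_2_2 lc_a_rc_28_0 lc_a_rc_29_0 lc_a_rc_1_4 lc_a_rc_4_2 lc_a_rc_5_2 lc_a_rc_6_2 lc_a_rc_5_2 lc_a_rc_6_2 lc_a_rc_29_0 lc_a_rc_29_0 lc_a_rc_29_0 lc_a_rc_2_2 lc_a_rc_6_2 lc_a_rc_0_0 lc_a_rc_28_0 lc_a_rc_4_2 lc_a_rc_28_0 lc_a_rc_2_2 lc_a_rc_1_4 lc_a_rc_4_2 lc_a_rc_5_2 lc_a_rc_6_2 lc_a_rc_5_2 lc_a_rc_6_2) (@D3.rec (fun _ => (Cert rels S Gen.a)) lc_a_rc_29_0 lc_a_rc_29_0 lc_a_rc_28_0 lc_a_rc_5_2 lc_a_rc_6_2 lc_a_rc_29_0 lc_a_rc_29_0 lc_a_rc_2_2 lc_a_rc_4_2 lc_a_rc_5_2 lc_a_Cert_tree lc_a_rc_3_2 lc_a_rc_0_0 lc_a_rc_2_2 lc_a_rc_30_4 lc_a_rc_5_2 lc_a_rc_0_1 lc_a_rc_28_0 lc_a_rc_5_2 lc_a_rc_6_2 lc_a_rc_29_0 lc_a_rc_29_0 lc_a_rc_2_2 lc_a_rc_4_2 lc_a_rc_3_2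 lc_a_rc_0_0 lc_a_rc_30_12 lc_a_rc_30_4 lc_a_rc_0_0 lc_a_rc_28_0 lc_a_rc_4_2 lc_a_rc_4_0 lc_a_rc_1_4 lc_a_rc_29_0 lc_a_rc_1_4 lc_a_rc_6_2 lc_a_rc_0_0 lc_a_rc_1_4 lc_a_rc_1_2 lc_a_rc_0_0) (@D3.rec (fun _ => (Cert rels S Gen.a)) lc_a_rc_4_2 lc_a_rc_4_0 lc_a_rc_1_4 lc_a_rc_0_0 lc_a_rc_28_0 lc_a_rc_28_0 lc_a_rc_0_0 lc_a_rc_0_0 lc_a_rc_28_0 lc_a_rc_0_0 lc_a_rc_0_0 lc_a_rc_28_0 lc_a_rc_0_0 lc_a_rc_28_0 lc_a_rc_4_2 lc_a_rc_28_0 lc_a_rc_29_0 lc_a_rc_3_2 lc_a_rc_30_8 lc_a_rc_4_2 lc_a_rc_28_0 lc_a_rc_28_0 lc_a_rc_5_2 lc_a_rc_3_2 lc_a_rc_4_2 lc_a_rc_4_2 lc_a_rc_4_2 lc_a_rc_0_0 lc_a_rc_4_2 lc_a_rc_3_2 lc_a_rc_28_0 lc_a_rc_4_2 lc_a_rc_28_0 lc_a_rc_0_0 lc_a_rc_6_2 lc_a_rc_3_2 lc_a_rc_29_0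 lc_a_rc_4_2 lc_a_rc_2_2 lc_a_rc_29_0) (@D3.rec (fun _ => (Cert rels S Gen.a)) lc_a_rc_28_0 lc_a_rc_28_0 lc_a_rc_29_0 lc_a_rc_6_2 lc_a_rc_1_6 lc_a_rc_2_2 lc_a_rc_29_0 lc_a_rc_3_2 lc_a_rc_29_0 lc_a_rc_0_0 lc_a_rc_4_2 lc_a_rc_4_2 lc_a_rc_1_4 lc_a_rc_28_0 lc_a_rc_3_2 lc_a_rc_4_2 lc_a_rc_1_8 lc_a_rc_3_2 lc_a_rc_29_0 lc_a_rc_3_2 lc_a_rc_2_2 lc_a_rc_5_2 lc_a_rc_2_2 lc_a_rc_29_0 lc_a_rc_28_0 lc_a_rc_28_0 lc_a_rc_29_0 lc_a_rc_1_6 lc_a_rc_2_2 lc_a_rc_2_0 lc_a_rc_3_2 lc_a_rc_29_0 lc_a_rc_5_0 lc_a_rc_5_2 lc_a_rc_1_4 lc_a_rc_30_8 lc_a_rc_3_2 lc_a_rc_4_2 lc_a_rc_1_8 lc_a_rc_3_2) (@D3.rec (fun _ => (Cert rels S Gen.a)) lc_a_rc_0_0 lc_a_rc_3_2 lc_a_rc_2_2 lc_a_rc_6_2 lc_a_rc_4_0 lc_a_rc_4_0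 lc_a_rc_28_0 lc_a_rc_28_0 lc_a_rc_5_2 lc_a_rc_28_0 lc_a_rc_1_6 lc_a_rc_6_2 lc_a_rc_28_0 lc_a_rc_29_0 lc_a_rc_5_2 lc_a_rc_28_0 lc_a_rc_2_2 lc_a_rc_5_2 lc_a_rc_4_2 lc_a_rc_29_0 lc_a_rc_29_0 lc_a_rc_1_4 lc_a_rc_28_0 lc_a_rc_0_1 lc_a_rc_6_2 lc_a_rc_30_8 lc_a_rc_2_2 lc_a_rc_6_2 lc_a_rc_4_2 lc_a_rc_29_0 lc_a_rc_29_0 lc_a_rc_3_2 lc_a_rc_3_2 lc_a_rc_3_2 lc_a_rc_1_4 lc_a_rc_29_0 lc_a_rc_4_2 lc_a_rc_29_0 lc_a_rc_28_0 lc_a_rc_29_0) (@D3.rec (fun _ => (Cert rels S Gen.a)) lc_a_rc_3_2 lc_a_rc_4_2 lc_a_rc_0_1 lc_a_rc_28_0 lc_a_rc_29_0 lc_a_rc_3_2 lc_a_rc_28_0 lc_a_rc_0_0 lc_a_rc_28_0 lc_a_rc_28_0 lc_a_rc_0_0 lc_a_rc_28_0 lc_a_rc_3_2 lc_a_rc_6_2 lc_a_rc_1_2 lc_a_rc_1_4 lc_a_rc_6_2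 lc_a_Cert_tree lc_a_rc_3_2 lc_a_rc_5_2 lc_a_rc_1_2 lc_a_rc_1_4 lc_a_rc_5_2 lc_a_Cert_tree lc_a_rc_4_2 lc_a_rc_6_2 lc_a_rc_6_2 lc_a_Cert_tree lc_a_rc_0_0 lc_a_rc_0_0 lc_a_rc_2_0 lc_a_rc_4_2 lc_a_rc_4_2 lc_a_rc_5_2 lc_a_rc_5_2 lc_a_Cert_tree lc_a_rc_29_0 lc_a_rc_0_0 lc_a_rc_29_0 lc_a_rc_2_0) (@D3.rec (fun _ => (Cert rels S Gen.a)) lc_a_rc_3_2 lc_a_rc_0_0 lc_a_rc_0_1 lc_a_rc_4_2 lc_a_rc_0_1 lc_a_rc_30_8 lc_a_rc_1_2 lc_a_rc_4_2 lc_a_rc_0_0 lc_a_rc_2_2 lc_a_rc_29_0 lc_a_rc_3_2 lc_a_rc_2_2 lc_a_rc_4_2 lc_a_rc_0_0 lc_a_rc_2_2 lc_a_rc_29_0 lc_a_rc_3_2 lc_a_rc_2_2 lc_a_rc_4_2 lc_a_rc_0_1 lc_a_rc_3_2 lc_a_rc_29_0 lc_a_rc_29_0 lc_a_Cert_tree lc_a_rc_0_0 lc_a_rc_29_0 lc_a_Cert_tree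 lc_a_rc_3_2 lc_a_rc_28_0 lc_a_rc_4_2 lc_a_rc_0_1 lc_a_Cert_tree lc_a_rc_1_8 lc_a_rc_29_0 lc_a_rc_0_0 lc_a_rc_3_2 lc_a_rc_0_0 lc_a_rc_6_2 lc_a_rc_4_2) (@D3.rec (fun _ => (Cert rels S Gen.a)) lc_a_rc_5_2 lc_a_rc_0_1 lc_a_rc_28_0 lc_a_rc_28_0 lc_a_rc_28_0 lc_a_rc_29_0 lc_a_rc_0_0 lc_a_rc_2_0 lc_a_rc_0_1 lc_a_rc_0_1 lc_a_rc_3_2 lc_a_rc_3_2 lc_a_Cert_tree lc_a_rc_29_0 lc_a_rc_0_0 lc_a_rc_29_0 lc_a_Cert_tree lc_a_rc_3_2 lc_a_rc_28_0 lc_a_rc_4_2 lc_a_rc_29_0 lc_a_Cert_tree lc_a_rc_29_0 lc_a_rc_29_0 lc_a_rc_0_0 lc_a_rc_3_2 lc_a_rc_5_2 lc_a_rc_4_0 lc_a_rc_4_2 lc_a_rc_6_2 lc_a_rc_29_0 lc_a_rc_28_0 lc_a_rc_28_0 lc_a_rc_28_0 lc_a_rc_0_0 lc_a_rc_0_0 lc_a_rc_0_0 lc_a_rc_2_0 lc_a_rc_2_2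 lc_a_rc_29_0) (@D3.rec (fun _ => (Cert rels S Gen.a)) lc_a_rc_0_0 lc_a_rc_30_8 lc_a_rc_28_0 lc_a_rc_2_2 lc_a_rc_28_0 lc_a_rc_29_0 lc_a_rc_3_2 lc_a_rc_0_0 lc_a_rc_6_2 lc_a_rc_28_0 lc_a_rc_28_0 lc_a_rc_28_0 lc_a_rc_29_0 lc_a_rc_4_2 lc_a_rc_6_2 lc_a_rc_28_0 lc_a_rc_28_0 lc_a_rc_29_0 lc_a_rc_0_0 lc_a_rc_1_6 lc_a_rc_29_0 lc_a_Cert_tree lc_a_rc_0_0 lc_a_rc_2_2 lc_a_rc_5_2 lc_a_rc_0_0 lc_a_rc_2_2 lc_a_rc_0_1 lc_a_rc_2_2 lc_a_rc_5_2 lc_a_rc_5_2 lc_a_rc_29_0 lc_a_rc_3_0 lc_a_rc_29_0 lc_a_rc_0_0 lc_a_rc_30_12 lc_a_rc_2_2 lc_a_rc_28_0 lc_a_rc_2_2 lc_a_rc_28_0) (@D3.rec (fun _ => (Cert rels S Gen.a)) lc_a_rc_3_2 lc_a_rc_2_2 lc_a_rc_29_0 lc_a_rc_1_4 lc_a_rc_6_2 lc_a_rc_5_2 lc_a_rc_2_2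 lc_a_rc_6_2 lc_a_rc_28_0 lc_a_rc_2_2 lc_a_rc_3_2 lc_a_rc_2_0 lc_a_rc_2_2 lc_a_rc_29_0 lc_a_rc_29_0 lc_a_rc_1_4 lc_a_rc_28_0 lc_a_rc_28_0 lc_a_rc_28_0 lc_a_rc_3_2 lc_a_rc_29_0 lc_a_rc_0_0 lc_a_rc_5_2 lc_a_rc_28_0 lc_a_rc_28_0 lc_a_rc_29_0 lc_a_rc_5_2 lc_a_rc_4_2 lc_a_rc_5_2 lc_a_rc_29_0 lc_a_rc_28_0 lc_a_rc_29_0 lc_a_rc_29_0 lc_a_rc_30_8 lc_a_rc_3_2 lc_a_Cert_tree lc_a_rc_0_0 lc_a_rc_2_2 lc_a_rc_6_2 lc_a_rc_0_0) (@D3.rec (fun _ => (Cert rels S Gen.a)) lc_a_rc_2_2 lc_a_rc_3_2 lc_a_rc_2_2 lc_a_rc_6_2 lc_a_rc_6_2 lc_a_rc_0_0 lc_a_rc_3_0 lc_a_rc_29_0 lc_a_rc_29_0 lc_a_rc_29_0 lc_a_rc_2_2 lc_a_rc_28_0 lc_a_rc_28_0 lc_a_rc_28_0 lc_a_rc_2_2 lc_a_rc_1_4 lc_a_rc_5_2 lc_a_rc_0_0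 lc_a_rc_2_2 lc_a_rc_4_2 lc_a_rc_28_0 lc_a_rc_28_0 lc_a_rc_3_2 lc_a_rc_6_2 lc_a_rc_2_2 lc_a_rc_3_2 lc_a_rc_29_0 lc_a_rc_28_0 lc_a_rc_6_2 lc_a_rc_29_0 lc_a_rc_29_0 lc_a_rc_29_0 lc_a_Cert_tree lc_a_rc_3_2 lc_a_Cert_tree lc_a_rc_0_0 lc_a_rc_2_2 lc_a_rc_5_2 lc_a_rc_2_2 lc_a_rc_5_2) (@D3.rec (fun _ => (Cert rels S Gen.a)) lc_a_rc_0_0 lc_a_rc_29_0 lc_a_rc_0_0 lc_a_rc_0_0 lc_a_rc_2_2 lc_a_rc_29_0 lc_a_rc_2_2 lc_a_Cert_tree lc_a_rc_2_2 lc_a_rc_2_2 lc_a_rc_3_2 lc_a_rc_4_2 lc_a_rc_3_2 lc_a_rc_5_2 lc_a_rc_3_2 lc_a_rc_5_2 lc_a_Cert_tree lc_a_rc_5_2 lc_a_rc_3_2 lc_a_Cert_tree lc_a_rc_0_0 lc_a_rc_2_2 lc_a_rc_6_2 lc_a_rc_2_2 lc_a_rc_6_2 lc_a_rc_0_0 lc_a_rc_29_0 lc_a_rc_1_4 lc_a_rc_0_0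 lc_a_rc_2_2 lc_a_rc_30_8 lc_a_rc_2_2 lc_a_Cert_tree lc_a_rc_29_0 lc_a_rc_29_0 lc_a_rc_6_2 lc_a_rc_28_0 lc_a_rc_29_0 lc_a_rc_29_0 lc_a_rc_28_0) (@D3.rec (fun _ => (Cert rels S Gen.a)) lc_a_rc_0_0 lc_a_rc_3_2 lc_a_rc_30_16 lc_a_rc_0_0 lc_a_rc_28_0 lc_a_rc_5_2 lc_a_rc_0_0 lc_a_rc_5_2 lc_a_rc_3_2 lc_a_rc_2_2 lc_a_rc_5_2 lc_a_rc_5_2 lc_a_rc_3_2 lc_a_rc_3_2 lc_a_Cert_tree lc_a_rc_0_0 lc_a_rc_2_2 lc_a_rc_0_1 lc_a_Cert_tree lc_a_rc_0_0 lc_a_rc_0_0 lc_a_rc_2_2 lc_a_rc_5_2 lc_a_rc_1_6 lc_a_rc_2_2 lc_a_rc_5_2 lc_a_rc_28_0 lc_a_rc_5_2 lc_a_rc_29_0 lc_a_rc_29_0 lc_a_rc_2_2 lc_a_rc_3_2 lc_a_rc_28_0 lc_a_rc_0_0 lc_a_rc_2_2 lc_a_rc_29_0 lc_a_rc_29_0 lc_a_rc_3_2 lc_a_rc_28_0 lc_a_rc_29_0)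 (@D3.rec (fun _ => (Cert rels S Gen.a)) lc_a_rc_0_1 lc_a_rc_29_0 lc_a_rc_0_0 lc_a_rc_3_2 lc_a_rc_29_0 lc_a_rc_29_0 lc_a_rc_6_2 lc_a_rc_6_2 lc_a_rc_0_0 lc_a_rc_29_0 lc_a_rc_6_2 lc_a_rc_0_0 lc_a_rc_29_0 lc_a_rc_29_0 lc_a_rc_5_2 lc_a_rc_28_0 lc_a_rc_28_0 lc_a_rc_3_2 lc_a_rc_29_0 lc_a_rc_0_0 lc_a_rc_3_2 lc_a_rc_1_8 lc_a_rc_0_0 lc_a_rc_28_0 lc_a_rc_6_2 lc_a_rc_0_0 lc_a_rc_3_2 lc_a_rc_2_2 lc_a_rc_6_2 lc_a_rc_3_2 lc_a_rc_3_2 lc_a_Cert_tree lc_a_rc_0_0 lc_a_rc_2_2 lc_a_rc_0_1 lc_a_Cert_tree lc_a_rc_3_2 lc_a_rc_0_0 lc_a_rc_2_2 lc_a_rc_6_2) (@D3.rec (fun _ => (Cert rels S Gen.a)) lc_a_rc_1_6 lc_a_rc_2_2 lc_a_rc_6_2 lc_a_rc_30_8 lc_a_rc_6_2 lc_a_rc_0_0 lc_a_rc_29_0 lc_a_rc_2_2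 lc_a_rc_28_0 lc_a_rc_3_2 lc_a_rc_0_0 lc_a_rc_2_2 lc_a_rc_29_0 lc_a_rc_29_0 lc_a_rc_3_2 lc_a_rc_28_0 lc_a_rc_29_0 lc_a_rc_29_0 lc_a_rc_29_0 lc_a_rc_0_0 lc_a_rc_28_0 lc_a_rc_0_1 lc_a_rc_6_2 lc_a_rc_5_2 lc_a_rc_28_0 lc_a_rc_29_0 lc_a_rc_0_1 lc_a_rc_5_2 lc_a_rc_29_0 lc_a_rc_0_1 lc_a_rc_29_0 lc_a_rc_29_0 lc_a_rc_4_2 lc_a_rc_3_2 lc_a_rc_3_2 lc_a_rc_2_2 lc_a_Cert_tree lc_a_rc_28_0 lc_a_rc_0_0 lc_a_rc_2_2) (@D3.rec (fun _ => (Cert rels S Gen.a)) lc_a_rc_1_6 lc_a_rc_28_0 lc_a_Cert_tree lc_a_rc_28_0 lc_a_rc_29_0 lc_a_Cert_tree lc_a_rc_0_0 lc_a_Cert_tree lc_a_rc_0_0 lc_a_rc_5_2 lc_a_Cert_tree lc_a_rc_3_2 lc_a_Cert_tree lc_a_rc_0_0 lc_a_rc_28_0 lc_a_rc_0_0 lc_a_rc_5_0 lc_a_rc_29_0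 lc_a_rc_29_0 lc_a_rc_29_0 lc_a_rc_0_0 lc_a_rc_28_0 lc_a_rc_0_0 lc_a_rc_4_2 lc_a_rc_3_2 lc_a_rc_29_0 lc_a_rc_3_2 lc_a_rc_0_1 lc_a_rc_28_0 lc_a_rc_28_0 lc_a_rc_28_0 lc_a_rc_2_2 lc_a_rc_29_0 lc_a_Cert_tree lc_a_rc_28_0 lc_a_rc_28_0 lc_a_rc_3_2 lc_a_rc_0_0 lc_a_rc_3_2 lc_a_rc_5_2) (@D3.rec (fun _ => (Cert rels S Gen.a)) lc_a_rc_29_0 lc_a_rc_4_2 lc_a_Cert_tree lc_a_rc_4_2 lc_a_rc_4_2 lc_a_rc_29_0 lc_a_rc_28_0 lc_a_rc_0_0 lc_a_rc_2_2 lc_a_rc_0_1 lc_a_rc_2_2 lc_a_rc_0_1 lc_a_rc_0_1 lc_a_rc_29_0 lc_a_rc_4_2 lc_a_rc_3_2 lc_a_rc_3_2 lc_a_rc_2_2 lc_a_rc_6_0 lc_a_rc_0_1 lc_a_rc_0_0 lc_a_rc_2_2 lc_a_rc_29_0 lc_a_rc_28_0 lc_a_Cert_tree lc_a_rc_28_0 lc_a_rc_28_0 lc_a_Cert_tree lc_a_rc_28_0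 lc_a_rc_0_0 lc_a_rc_6_2 lc_a_Cert_tree lc_a_Cert_tree lc_a_Cert_tree lc_a_rc_4_2 lc_a_rc_0_0 lc_a_rc_6_0 lc_a_rc_0_1 lc_a_rc_0_0 lc_a_rc_28_0) (@D3.rec (fun _ => (Cert rels S Gen.a)) lc_a_rc_29_0 lc_a_rc_29_0 lc_a_rc_0_0 lc_a_rc_28_0 lc_a_rc_29_0 lc_a_rc_0_0 lc_a_rc_5_2 lc_a_rc_3_2 lc_a_rc_3_2 lc_a_rc_0_1 lc_a_rc_28_0 lc_a_rc_28_0 lc_a_rc_29_0 lc_a_rc_2_2 lc_a_rc_4_2 lc_a_Cert_tree lc_a_rc_29_0 lc_a_rc_28_0 lc_a_rc_29_0 lc_a_rc_0_0 lc_a_rc_0_1 lc_a_rc_5_0 lc_a_rc_4_2 lc_a_rc_0_0 lc_a_rc_28_0 lc_a_rc_0_0 lc_a_rc_2_2 lc_a_rc_29_0 lc_a_rc_2_2 lc_a_rc_29_0 lc_a_rc_28_0 lc_a_rc_2_2 lc_a_rc_1_2 lc_a_rc_2_2 lc_a_rc_0_0 lc_a_rc_28_0 lc_a_rc_5_2 lc_a_rc_5_2 lc_a_rc_0_0 lc_a_rc_29_0)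 (@D3.rec (fun _ => (Cert rels S Gen.a)) lc_a_rc_4_0 lc_a_rc_0_0 lc_a_rc_28_0 lc_a_rc_28_0 lc_a_rc_29_0 lc_a_Cert_tree lc_a_rc_0_0 lc_a_Cert_tree lc_a_rc_0_0 lc_a_rc_0_1 lc_a_Cert_tree lc_a_rc_28_0 lc_a_rc_0_0 lc_a_rc_0_1 lc_a_rc_0_0 lc_a_rc_28_0 lc_a_rc_29_0 lc_a_rc_28_0 lc_a_rc_28_0 lc_a_rc_2_2 lc_a_rc_3_2 lc_a_rc_0_0 lc_a_rc_28_0 lc_a_rc_6_2 lc_a_rc_28_0 lc_a_rc_6_2 lc_a_rc_29_0 lc_a_rc_1_4 lc_a_rc_29_0 lc_a_rc_0_0 lc_a_rc_28_0 lc_a_rc_28_0 lc_a_Cert_tree lc_a_rc_29_0 lc_a_rc_0_0 lc_a_rc_0_0 lc_a_rc_29_0 lc_a_Cert_tree lc_a_Cert_tree lc_a_rc_3_2) (@D3.rec (fun _ => (Cert rels S Gen.a)) lc_a_rc_0_0 lc_a_rc_0_0 lc_a_rc_0_1 lc_a_rc_0_0 lc_a_rc_3_2 lc_a_rc_28_0 lc_a_rc_0_0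 lc_a_rc_4_2 lc_a_rc_4_2 lc_a_rc_29_0 lc_a_rc_4_2 lc_a_rc_29_0 lc_a_rc_2_2 lc_a_rc_5_2 lc_a_rc_28_0 lc_a_rc_28_0 lc_a_rc_2_2 lc_a_rc_6_2 lc_a_rc_28_0 lc_a_rc_28_0 lc_a_rc_0_0 lc_a_rc_29_0 lc_a_rc_5_0 lc_a_rc_6_2 lc_a_rc_3_2 lc_a_rc_29_0 lc_a_rc_28_0 lc_a_rc_28_0 lc_a_rc_3_2 lc_a_rc_0_0 lc_a_rc_28_0 lc_a_rc_4_2 lc_a_rc_0_1 lc_a_rc_28_0 lc_a_rc_28_0 lc_a_rc_3_2 lc_a_rc_29_0 lc_a_rc_0_0 lc_a_rc_1_6 lc_a_rc_4_2) (@D3.rec (fun _ => (Cert rels S Gen.a)) lc_a_rc_4_2 lc_a_rc_3_2 lc_a_rc_2_2 lc_a_rc_2_2 lc_a_rc_0_0 lc_a_rc_29_0 lc_a_rc_3_2 lc_a_rc_28_0 lc_a_rc_29_0 lc_a_rc_1_8 lc_a_rc_5_2 lc_a_rc_30_12 lc_a_rc_28_0 lc_a_rc_4_2 lc_a_rc_4_2 lc_a_rc_3_2 lc_a_rc_28_0 lc_a_rc_2_2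 lc_a_rc_4_2 lc_a_rc_3_2 lc_a_rc_29_0 lc_a_rc_29_0 lc_a_rc_28_0 lc_a_rc_28_0 lc_a_rc_5_2 lc_a_rc_2_2 lc_a_rc_6_2 lc_a_rc_29_0 lc_a_rc_1_4 lc_a_rc_6_2 lc_a_rc_28_0 lc_a_rc_28_0 lc_a_rc_1_4 lc_a_rc_28_0 lc_a_rc_28_0 lc_a_rc_6_2 lc_a_rc_1_4 lc_a_rc_1_4 lc_a_rc_5_2 lc_a_rc_28_0) (@D3.rec (fun _ => (Cert rels S Gen.a)) lc_a_rc_5_2 lc_a_rc_1_4 lc_a_rc_28_0 lc_a_rc_2_2 lc_a_rc_6_2 lc_a_rc_29_0 lc_a_rc_28_0 lc_a_rc_28_0 lc_a_rc_5_2 lc_a_rc_28_0 lc_a_rc_28_0 lc_a_rc_28_0 lc_a_rc_0_1 lc_a_rc_29_0 lc_a_rc_28_0 lc_a_rc_29_0 lc_a_rc_3_2 lc_a_rc_3_2 lc_a_rc_29_0 lc_a_rc_28_0 lc_a_rc_28_0 lc_a_rc_28_0 lc_a_Cert_tree lc_a_rc_0_0 lc_a_rc_4_2 lc_a_rc_4_2 lc_a_rc_29_0 lc_a_Cert_tree lc_a_rc_3_2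 lc_a_rc_0_0 lc_a_rc_29_0 lc_a_rc_3_2 lc_a_rc_3_2 lc_a_rc_0_0 lc_a_rc_2_2 lc_a_rc_29_0 lc_a_rc_28_0 lc_a_Cert_tree lc_a_rc_0_0 lc_a_rc_29_0) (@D3.rec (fun _ => (Cert rels S Gen.a)) lc_a_rc_2_2 lc_a_rc_1_2 lc_a_Cert_tree lc_a_rc_3_2 lc_a_rc_29_0 lc_a_rc_0_0 lc_a_rc_2_2 lc_a_rc_4_2 lc_a_rc_28_0 lc_a_rc_0_1 lc_a_rc_2_2 lc_a_rc_4_2 lc_a_rc_2_2 lc_a_rc_4_2 lc_a_rc_28_0 lc_a_rc_28_0 lc_a_rc_2_2 lc_a_rc_4_2 lc_a_rc_0_0 lc_a_rc_2_2 lc_a_rc_0_0 lc_a_rc_2_2 lc_a_rc_2_2 lc_a_rc_29_0 lc_a_rc_2_2 lc_a_rc_29_0 lc_a_rc_4_2 lc_a_rc_1_8 lc_a_rc_0_1 lc_a_rc_29_0 lc_a_rc_0_0 lc_a_rc_4_2 lc_a_rc_28_0 lc_a_rc_29_0 lc_a_rc_1_8 lc_a_rc_0_0 lc_a_rc_6_2 lc_a_rc_2_2 lc_a_rc_0_0 lc_a_rc_5_2)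 (@D3.rec (fun _ => (Cert rels S Gen.a)) lc_a_rc_4_0 lc_a_Cert_tree lc_a_rc_0_0 lc_a_rc_29_0 lc_a_rc_3_2 lc_a_Cert_tree lc_a_rc_28_0 lc_a_rc_5_2 lc_a_rc_4_0 lc_a_rc_0_0 lc_a_rc_6_2 lc_a_rc_29_0 lc_a_Cert_tree lc_a_rc_0_0 lc_a_rc_29_0 lc_a_rc_29_0 lc_a_Cert_tree lc_a_rc_28_0 lc_a_rc_6_0 lc_a_rc_29_0 lc_a_rc_29_0 lc_a_Cert_tree lc_a_rc_0_0 lc_a_rc_1_2 lc_a_rc_3_2 lc_a_rc_29_0 lc_a_rc_29_0 lc_a_rc_29_0 lc_a_Cert_tree lc_a_rc_0_0 lc_a_rc_1_2 lc_a_rc_28_0 lc_a_rc_0_0 lc_a_rc_2_2 lc_a_rc_0_0 lc_a_rc_2_2 lc_a_rc_0_0 lc_a_rc_2_2 lc_a_Cert_tree lc_a_rc_28_0)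
def ce_a_18 : D2 → D3 → (Cert rels S Gen.a) := @D2.rec (fun _ => D3 → (Cert rels S Gen.a)) (@D3.rec (fun _ => (Cert rels S Gen.a)) lc_a_rc_0_0 lc_a_rc_1_6 lc_a_rc_29_0 lc_a_rc_29_0 lc_a_rc_4_2 lc_a_rc_0_1 lc_a_rc_29_0 lc_a_rc_1_4 lc_a_rc_2_2 lc_a_Cert_tree lc_a_rc_28_0 lc_a_rc_0_0 lc_a_rc_1_6 lc_a_rc_2_0 lc_a_rc_28_0 lc_a_rc_4_2 lc_a_rc_0_1 lc_a_rc_0_0 lc_a_Cert_tree lc_a_rc_0_0 lc_a_rc_29_0 lc_a_rc_5_2 lc_a_rc_2_2 lc_a_rc_1_6 lc_a_rc_29_0 lc_a_rc_0_0 lc_a_rc_3_2 lc_a_rc_0_0 lc_a_rc_28_0 lc_a_rc_4_2 lc_a_rc_2_2 lc_a_rc_4_2 lc_a_rc_2_2 lc_a_rc_0_1 lc_a_Cert_tree lc_a_rc_0_0 lc_a_rc_29_0 lc_a_rc_0_0 lc_a_rc_2_2 lc_a_rc_6_2) (@D3.rec (fun _ => (Cert rels S Gen.a)) lc_a_rc_30_8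 lc_a_rc_6_2 lc_a_rc_4_2 lc_a_rc_28_0 lc_a_rc_28_0 lc_a_Cert_tree lc_a_rc_29_0 lc_a_rc_0_0 lc_a_rc_5_2 lc_a_rc_29_0 lc_a_rc_0_0 lc_a_rc_29_0 lc_a_rc_2_0 lc_a_rc_2_0 lc_a_rc_6_2 lc_a_rc_4_2 lc_a_rc_28_0 lc_a_rc_2_2 lc_a_Cert_tree lc_a_rc_29_0 lc_a_rc_0_0 lc_a_rc_29_0 lc_a_rc_3_2 lc_a_Cert_tree lc_a_rc_1_6 lc_a_rc_29_0 lc_a_rc_0_0 lc_a_rc_2_2 lc_a_rc_5_2 lc_a_rc_0_0 lc_a_rc_29_0 lc_a_rc_1_8 lc_a_Cert_tree lc_a_rc_2_2 lc_a_rc_29_0 lc_a_rc_0_0 lc_a_rc_0_0 lc_a_rc_3_2 lc_a_rc_28_0 lc_a_rc_1_2) (@D3.rec (fun _ => (Cert rels S Gen.a)) lc_a_rc_4_2 lc_a_rc_4_0 lc_a_rc_4_2 lc_a_rc_28_0 lc_a_rc_29_0 lc_a_Cert_tree lc_a_rc_0_0 lc_a_rc_6_2 lc_a_rc_0_0 lc_a_rc_5_2 lc_a_rc_29_0 lc_a_rc_28_0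 lc_a_rc_5_2 lc_a_rc_4_2 lc_a_rc_28_0 lc_a_rc_28_0 lc_a_rc_29_0 lc_a_rc_2_2 lc_a_rc_0_0 lc_a_rc_6_2 lc_a_rc_29_0 lc_a_rc_0_0 lc_a_rc_0_0 lc_a_rc_4_2 lc_a_rc_5_2 lc_a_rc_6_2 lc_a_rc_4_2 lc_a_rc_28_0 lc_a_rc_28_0 lc_a_Cert_tree lc_a_rc_0_0 lc_a_rc_0_0 lc_a_rc_28_0 lc_a_rc_0_0 lc_a_Cert_tree lc_a_rc_1_6 lc_a_rc_29_0 lc_a_rc_0_0 lc_a_rc_2_2 lc_a_rc_6_2) (@D3.rec (fun _ => (Cert rels S Gen.a)) lc_a_rc_2_2 lc_a_rc_3_2 lc_a_rc_0_1 lc_a_rc_4_2 lc_a_rc_29_0 lc_a_rc_30_16 lc_a_rc_28_0 lc_a_rc_2_2 lc_a_rc_28_0 lc_a_rc_29_0 lc_a_rc_3_2 lc_a_rc_28_0 lc_a_rc_29_0 lc_a_rc_29_0 lc_a_rc_3_2 lc_a_Cert_tree lc_a_rc_2_2 lc_a_rc_28_0 lc_a_rc_4_2 lc_a_rc_28_0 lc_a_rc_2_2 lc_a_rc_1_8 lc_a_Cert_tree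 lc_a_rc_0_0 lc_a_rc_2_2 lc_a_rc_6_2 lc_a_rc_28_0 lc_a_rc_29_0 lc_a_rc_29_0 lc_a_rc_28_0 lc_a_rc_1_8 lc_a_rc_3_2 lc_a_rc_6_2 lc_a_rc_2_2 lc_a_rc_28_0 lc_a_Cert_tree lc_a_rc_0_0 lc_a_rc_5_0 lc_a_rc_6_2 lc_a_rc_6_2) (@D3.rec (fun _ => (Cert rels S Gen.a)) lc_a_rc_4_2 lc_a_Cert_tree lc_a_rc_28_0 lc_a_Cert_tree lc_a_rc_2_2 lc_a_rc_0_0 lc_a_rc_0_1 lc_a_rc_30_4 lc_a_Cert_tree lc_a_rc_2_2 lc_a_rc_6_2 lc_a_Cert_tree lc_a_rc_28_0 lc_a_rc_0_0 lc_a_rc_29_0 lc_a_rc_2_2 lc_a_rc_2_2 lc_a_rc_3_2 lc_a_rc_4_2 lc_a_rc_28_0 lc_a_rc_29_0 lc_a_rc_28_0 lc_a_rc_2_2 lc_a_rc_28_0 lc_a_rc_6_2 lc_a_rc_3_2 lc_a_rc_28_0 lc_a_rc_4_2 lc_a_rc_3_2 lc_a_rc_3_2 lc_a_Cert_tree lc_a_rc_2_2 lc_a_rc_4_0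 lc_a_rc_4_2 lc_a_rc_28_0 lc_a_rc_29_0 lc_a_rc_2_0 lc_a_Cert_tree lc_a_rc_0_0 lc_a_rc_2_2) (@D3.rec (fun _ => (Cert rels S Gen.a)) lc_a_rc_5_2 lc_a_rc_28_0 lc_a_rc_0_0 lc_a_rc_0_0 lc_a_rc_28_0 lc_a_rc_4_0 lc_a_rc_5_2 lc_a_rc_6_2 lc_a_rc_2_2 lc_a_rc_28_0 lc_a_Cert_tree lc_a_rc_0_0 lc_a_rc_28_0 lc_a_rc_5_2 lc_a_rc_5_2 lc_a_rc_4_2 lc_a_Cert_tree lc_a_rc_28_0 lc_a_Cert_tree lc_a_rc_29_0 lc_a_rc_0_0 lc_a_rc_29_0 lc_a_rc_0_0 lc_a_Cert_tree lc_a_rc_2_2 lc_a_rc_29_0 lc_a_Cert_tree lc_a_rc_0_0 lc_a_rc_29_0 lc_a_rc_2_2 lc_a_rc_3_2 lc_a_rc_4_2 lc_a_rc_3_2 lc_a_rc_28_0 lc_a_rc_29_0 lc_a_rc_29_0 lc_a_rc_3_2 lc_a_rc_0_0 lc_a_rc_0_0 lc_a_rc_2_2) (@D3.rec (fun _ => (Cert rels S Gen.a))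 lc_a_rc_1_0 lc_a_rc_2_2 lc_a_rc_3_2 lc_a_Cert_tree lc_a_rc_3_2 lc_a_rc_5_2 lc_a_rc_2_2 lc_a_rc_4_2 lc_a_rc_5_2 lc_a_rc_0_1 lc_a_rc_4_2 lc_a_rc_5_2 lc_a_Cert_tree lc_a_rc_4_2 lc_a_rc_28_0 lc_a_rc_28_0 lc_a_Cert_tree lc_a_rc_0_0 lc_a_rc_29_0 lc_a_rc_28_0 lc_a_rc_29_0 lc_a_rc_2_2 lc_a_rc_6_0 lc_a_rc_0_0 lc_a_rc_28_0 lc_a_rc_28_0 lc_a_rc_29_0 lc_a_rc_29_0 lc_a_rc_28_0 lc_a_rc_28_0 lc_a_rc_4_2 lc_a_rc_28_0 lc_a_rc_5_2 lc_a_rc_3_2 lc_a_rc_2_2 lc_a_rc_0_0 lc_a_rc_6_2 lc_a_rc_0_1 lc_a_rc_1_2 lc_a_rc_28_0) (@D3.rec (fun _ => (Cert rels S Gen.a)) lc_a_rc_3_2 lc_a_rc_0_0 lc_a_rc_3_2 lc_a_rc_5_2 lc_a_rc_2_2 lc_a_rc_28_0 lc_a_rc_29_0 lc_a_rc_3_2 lc_a_rc_29_0 lc_a_rc_30_8 lc_a_rc_3_2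 lc_a_rc_5_2 lc_a_rc_2_2 lc_a_rc_4_2 lc_a_rc_5_2 lc_a_rc_3_2 lc_a_rc_4_2 lc_a_rc_6_2 lc_a_rc_29_0 lc_a_rc_2_2 lc_a_rc_28_0 lc_a_Cert_tree lc_a_rc_0_0 lc_a_rc_2_2 lc_a_Cert_tree lc_a_rc_2_2 lc_a_rc_3_2 lc_a_rc_29_0 lc_a_rc_3_2 lc_a_rc_29_0 lc_a_Cert_tree lc_a_rc_3_2 lc_a_rc_29_0 lc_a_rc_6_2 lc_a_rc_2_2 lc_a_rc_28_0 lc_a_rc_28_0 lc_a_rc_0_0 lc_a_rc_4_0 lc_a_rc_1_4) (@D3.rec (fun _ => (Cert rels S Gen.a)) lc_a_rc_2_2 lc_a_rc_4_2 lc_a_rc_5_2 lc_a_rc_6_2 lc_a_rc_2_0 lc_a_rc_2_2 lc_a_rc_28_0 lc_a_rc_28_0 lc_a_rc_5_2 lc_a_rc_6_2 lc_a_rc_1_8 lc_a_rc_29_0 lc_a_rc_0_0 lc_a_rc_0_1 lc_a_Cert_tree lc_a_Cert_tree lc_a_Cert_tree lc_a_rc_0_0 lc_a_rc_4_0 lc_a_rc_6_2 lc_a_rc_2_2 lc_a_rc_6_2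 lc_a_rc_3_2 lc_a_rc_6_2 lc_a_rc_28_0 lc_a_rc_4_2 lc_a_Cert_tree lc_a_rc_4_2 lc_a_rc_5_2 lc_a_rc_3_2 lc_a_rc_5_2 lc_a_rc_30_4 lc_a_Cert_tree lc_a_rc_2_2 lc_a_rc_29_0 lc_a_rc_28_0 lc_a_rc_2_2 lc_a_rc_0_0 lc_a_rc_5_0 lc_a_rc_1_8) (@D3.rec (fun _ => (Cert rels S Gen.a)) lc_a_Cert_tree lc_a_rc_0_1 lc_a_rc_6_2 lc_a_Cert_tree lc_a_rc_0_0 lc_a_rc_29_0 lc_a_Cert_tree lc_a_rc_2_2 lc_a_rc_3_2 lc_a_rc_4_2 lc_a_Cert_tree lc_a_rc_30_8 lc_a_rc_3_2 lc_a_rc_28_0 lc_a_rc_0_1 lc_a_rc_29_0 lc_a_rc_3_2 lc_a_rc_0_0 lc_a_rc_28_0 lc_a_rc_0_0 lc_a_rc_2_2 lc_a_rc_2_2 lc_a_rc_3_2 lc_a_rc_1_6 lc_a_rc_3_2 lc_a_rc_6_2 lc_a_rc_2_2 lc_a_rc_4_2 lc_a_rc_6_2 lc_a_rc_29_0 lc_a_rc_4_2 lc_a_Cert_tree lc_a_rc_4_2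 lc_a_rc_28_0 lc_a_rc_28_0 lc_a_rc_28_0 lc_a_rc_0_0 lc_a_rc_0_1 lc_a_rc_2_2 lc_a_rc_30_4) (@D3.rec (fun _ => (Cert rels S Gen.a)) lc_a_rc_2_2 lc_a_rc_0_0 lc_a_rc_29_0 lc_a_rc_28_0 lc_a_rc_28_0 lc_a_rc_29_0 lc_a_rc_0_1 lc_a_rc_28_0 lc_a_rc_28_0 lc_a_rc_28_0 lc_a_rc_28_0 lc_a_rc_6_2 lc_a_rc_29_0 lc_a_rc_29_0 lc_a_rc_29_0 lc_a_rc_5_2 lc_a_rc_0_1 lc_a_rc_4_2 lc_a_rc_28_0 lc_a_rc_3_2 lc_a_rc_0_0 lc_a_rc_3_2 lc_a_rc_0_0 lc_a_rc_6_2 lc_a_rc_28_0 lc_a_rc_4_2 lc_a_rc_2_0 lc_a_rc_3_2 lc_a_rc_28_0 lc_a_rc_3_2 lc_a_rc_6_2 lc_a_rc_2_2 lc_a_rc_4_2 lc_a_rc_0_0 lc_a_rc_6_2 lc_a_rc_28_0 lc_a_rc_29_0 lc_a_rc_28_0 lc_a_Cert_tree lc_a_rc_0_0) (@D3.rec (fun _ => (Cert rels S Gen.a)) lc_a_rc_2_2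 lc_a_rc_1_6 lc_a_rc_2_2 lc_a_rc_3_2 lc_a_rc_29_0 lc_a_rc_3_2 lc_a_rc_29_0 lc_a_Cert_tree lc_a_rc_28_0 lc_a_rc_4_2 lc_a_rc_5_2 lc_a_rc_30_8 lc_a_rc_28_0 lc_a_rc_29_0 lc_a_rc_0_0 lc_a_rc_29_0 lc_a_rc_1_4 lc_a_rc_2_2 lc_a_rc_4_2 lc_a_rc_5_2 lc_a_rc_6_2 lc_a_rc_28_0 lc_a_rc_2_2 lc_a_rc_28_0 lc_a_rc_28_0 lc_a_rc_5_2 lc_a_rc_6_2 lc_a_rc_29_0 lc_a_rc_28_0 lc_a_rc_0_0 lc_a_rc_1_2 lc_a_rc_4_2 lc_a_rc_29_0 lc_a_Cert_tree lc_a_rc_0_0 lc_a_rc_2_2 lc_a_rc_5_2 lc_a_rc_2_2 lc_a_rc_5_2 lc_a_rc_3_2) (@D3.rec (fun _ => (Cert rels S Gen.a)) lc_a_rc_5_2 lc_a_rc_28_0 lc_a_rc_29_0 lc_a_Cert_tree lc_a_rc_4_2 lc_a_rc_3_2 lc_a_rc_0_0 lc_a_rc_2_2 lc_a_rc_0_1 lc_a_rc_28_0 lc_a_rc_0_0 lc_a_rc_0_0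 lc_a_rc_29_0 lc_a_rc_1_0 lc_a_Cert_tree lc_a_rc_2_2 lc_a_rc_5_2 lc_a_Cert_tree lc_a_rc_0_0 lc_a_rc_4_2 lc_a_rc_0_1 lc_a_rc_2_2 lc_a_rc_3_2 lc_a_rc_4_2 lc_a_rc_28_0 lc_a_rc_0_0 lc_a_rc_28_0 lc_a_rc_0_1 lc_a_rc_2_2 lc_a_rc_28_0 lc_a_rc_0_0 lc_a_rc_1_4 lc_a_rc_0_0 lc_a_rc_2_2 lc_a_rc_29_0 lc_a_rc_5_2 lc_a_rc_28_0 lc_a_rc_29_0 lc_a_rc_2_2 lc_a_rc_5_2) (@D3.rec (fun _ => (Cert rels S Gen.a)) lc_a_rc_29_0 lc_a_rc_3_2 lc_a_rc_4_2 lc_a_rc_0_0 lc_a_rc_3_2 lc_a_rc_28_0 lc_a_rc_2_2 lc_a_rc_4_2 lc_a_rc_2_2 lc_a_rc_28_0 lc_a_rc_2_2 lc_a_rc_2_2 lc_a_rc_3_2 lc_a_rc_28_0 lc_a_rc_0_0 lc_a_rc_2_2 lc_a_rc_0_0 lc_a_rc_2_2 lc_a_rc_3_2 lc_a_rc_0_0 lc_a_rc_0_0 lc_a_rc_0_0 lc_a_rc_2_2 lc_a_rc_4_2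 lc_a_rc_3_2 lc_a_rc_3_2 lc_a_rc_2_2 lc_a_rc_4_2 lc_a_rc_3_2 lc_a_rc_28_0 lc_a_rc_3_2 lc_a_rc_0_0 lc_a_rc_29_0 lc_a_rc_1_6 lc_a_rc_2_2 lc_a_rc_4_2 lc_a_rc_5_2 lc_a_rc_28_0 lc_a_rc_28_0 lc_a_rc_28_0) (@D3.rec (fun _ => (Cert rels S Gen.a)) lc_a_rc_2_2 lc_a_rc_2_2 lc_a_rc_29_0 lc_a_Cert_tree lc_a_rc_2_2 lc_a_rc_2_2 lc_a_rc_5_2 lc_a_rc_3_2 lc_a_rc_0_0 lc_a_rc_30_4 lc_a_rc_4_2 lc_a_rc_28_0 lc_a_rc_5_2 lc_a_rc_4_2 lc_a_rc_28_0 lc_a_rc_28_0 lc_a_rc_2_2 lc_a_rc_28_0 lc_a_rc_0_0 lc_a_rc_2_2 lc_a_rc_3_2 lc_a_rc_29_0 lc_a_rc_0_0 lc_a_rc_4_2 lc_a_rc_0_0 lc_a_rc_2_2 lc_a_rc_28_0 lc_a_rc_28_0 lc_a_rc_29_0 lc_a_rc_2_2 lc_a_rc_3_2 lc_a_rc_3_2 lc_a_rc_0_1 lc_a_rc_28_0 lc_a_rc_29_0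 lc_a_rc_29_0 lc_a_rc_3_2 lc_a_rc_2_2 lc_a_rc_6_2 lc_a_rc_28_0) (@D3.rec (fun _ => (Cert rels S Gen.a)) lc_a_rc_2_2 lc_a_rc_4_2 lc_a_rc_3_2 lc_a_rc_28_0 lc_a_rc_4_2 lc_a_rc_3_2 lc_a_rc_29_0 lc_a_rc_4_2 lc_a_rc_6_2 lc_a_rc_28_0 lc_a_rc_28_0 lc_a_rc_28_0 lc_a_rc_3_2 lc_a_rc_2_2 lc_a_rc_4_2 lc_a_rc_6_2 lc_a_rc_2_2 lc_a_rc_1_2 lc_a_rc_0_0 lc_a_rc_28_0 lc_a_rc_1_6 lc_a_rc_3_2 lc_a_rc_4_2 lc_a_rc_5_2 lc_a_rc_6_2 lc_a_rc_2_2 lc_a_rc_4_2 lc_a_rc_6_2 lc_a_rc_28_0 lc_a_rc_5_2 lc_a_rc_28_0 lc_a_Cert_tree lc_a_rc_29_0 lc_a_rc_29_0 lc_a_rc_29_0 lc_a_rc_28_0 lc_a_rc_28_0 lc_a_rc_28_0 lc_a_rc_0_0 lc_a_rc_28_0) (@D3.rec (fun _ => (Cert rels S Gen.a)) lc_a_rc_28_0 lc_a_rc_0_0 lc_a_rc_2_2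 lc_a_rc_6_2 lc_a_rc_1_6 lc_a_rc_2_2 lc_a_rc_6_2 lc_a_rc_3_2 lc_a_rc_6_2 lc_a_rc_0_0 lc_a_rc_4_0 lc_a_rc_2_2 lc_a_rc_3_2 lc_a_rc_30_8 lc_a_rc_28_0 lc_a_rc_28_0 lc_a_Cert_tree lc_a_rc_29_0 lc_a_rc_0_0 lc_a_rc_2_2 lc_a_rc_6_2 lc_a_rc_2_2 lc_a_rc_3_2 lc_a_rc_29_0 lc_a_rc_5_2 lc_a_rc_6_2 lc_a_rc_28_0 lc_a_rc_29_0 lc_a_rc_3_2 lc_a_rc_29_0 lc_a_rc_28_0 lc_a_rc_6_2 lc_a_rc_29_0 lc_a_rc_2_2 lc_a_rc_4_2 lc_a_rc_1_4 lc_a_rc_6_2 lc_a_rc_5_2 lc_a_rc_6_2 lc_a_rc_3_2) (@D3.rec (fun _ => (Cert rels S Gen.a)) lc_a_rc_0_0 lc_a_rc_0_1 lc_a_rc_5_2 lc_a_rc_2_2 lc_a_rc_3_2 lc_a_rc_4_2 lc_a_rc_4_2 lc_a_rc_3_2 lc_a_Cert_tree lc_a_rc_28_0 lc_a_rc_29_0 lc_a_rc_0_0 lc_a_rc_5_2 lc_a_rc_29_0 lc_a_rc_30_4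 lc_a_rc_4_2 lc_a_rc_5_2 lc_a_rc_5_0 lc_a_rc_5_2 lc_a_rc_30_4 lc_a_rc_3_2 lc_a_rc_28_0 lc_a_rc_6_2 lc_a_rc_0_0 lc_a_rc_28_0 lc_a_rc_4_2 lc_a_rc_0_0 lc_a_rc_28_0 lc_a_rc_28_0 lc_a_rc_28_0 lc_a_rc_4_2 lc_a_rc_5_2 lc_a_rc_6_2 lc_a_rc_6_2 lc_a_rc_30_12 lc_a_rc_4_2 lc_a_rc_0_1 lc_a_rc_28_0 lc_a_rc_4_2 lc_a_rc_0_1) (@D3.rec (fun _ => (Cert rels S Gen.a)) lc_a_rc_6_2 lc_a_rc_29_0 lc_a_rc_0_0 lc_a_rc_28_0 lc_a_rc_4_2 lc_a_rc_29_0 lc_a_rc_0_0 lc_a_rc_29_0 lc_a_rc_2_2 lc_a_rc_29_0 lc_a_rc_29_0 lc_a_rc_28_0 lc_a_rc_0_1 lc_a_rc_28_0 lc_a_rc_28_0 lc_a_rc_0_0 lc_a_rc_6_2 lc_a_rc_5_2 lc_a_rc_2_2 lc_a_rc_5_2 lc_a_rc_6_0 lc_a_rc_5_2 lc_a_rc_29_0 lc_a_rc_5_2 lc_a_rc_29_0 lc_a_rc_0_0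 lc_a_rc_28_0 lc_a_rc_0_0 lc_a_rc_28_0 lc_a_rc_6_2 lc_a_rc_28_0 lc_a_rc_6_0 lc_a_rc_28_0 lc_a_rc_29_0 lc_a_rc_0_0 lc_a_rc_2_2 lc_a_rc_29_0 lc_a_rc_3_2 lc_a_rc_29_0 lc_a_rc_4_0) (@D3.rec (fun _ => (Cert rels S Gen.a)) lc_a_rc_4_2 lc_a_rc_2_2 lc_a_rc_4_2 lc_a_rc_28_0 lc_a_rc_2_2 lc_a_rc_2_2 lc_a_rc_29_0 lc_a_rc_28_0 lc_a_rc_0_0 lc_a_rc_2_2 lc_a_rc_2_2 lc_a_rc_3_2 lc_a_rc_2_2 lc_a_rc_0_0 lc_a_rc_5_2 lc_a_rc_2_2 lc_a_rc_1_4 lc_a_rc_3_2 lc_a_rc_2_2 lc_a_rc_29_0 lc_a_rc_29_0 lc_a_rc_3_2 lc_a_rc_28_0 lc_a_rc_29_0 lc_a_rc_4_2 lc_a_rc_29_0 lc_a_rc_1_6 lc_a_rc_2_2 lc_a_rc_4_2 lc_a_rc_6_2 lc_a_rc_29_0 lc_a_rc_28_0 lc_a_rc_2_2 lc_a_rc_2_2 lc_a_rc_4_2 lc_a_Cert_tree lc_a_rc_2_2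 lc_a_rc_0_0 lc_a_rc_28_0 lc_a_rc_4_2) (@D3.rec (fun _ => (Cert rels S Gen.a)) lc_a_rc_28_0 lc_a_rc_4_2 lc_a_rc_28_0 lc_a_rc_28_0 lc_a_rc_2_2 lc_a_rc_28_0 lc_a_rc_0_0 lc_a_rc_2_2 lc_a_rc_3_2 lc_a_rc_29_0 lc_a_rc_0_0 lc_a_rc_29_0 lc_a_rc_0_0 lc_a_rc_2_2 lc_a_rc_28_0 lc_a_rc_28_0 lc_a_rc_6_0 lc_a_rc_2_2 lc_a_rc_3_2 lc_a_rc_3_2 lc_a_rc_0_1 lc_a_rc_29_0 lc_a_rc_29_0 lc_a_rc_3_2 lc_a_rc_2_2 lc_a_rc_0_1 lc_a_rc_28_0 lc_a_rc_2_2 lc_a_rc_3_2 lc_a_rc_2_2 lc_a_rc_4_2 lc_a_rc_3_2 lc_a_rc_3_2 lc_a_rc_5_2 lc_a_rc_29_0 lc_a_rc_1_8 lc_a_rc_28_0 lc_a_rc_28_0 lc_a_rc_3_2 lc_a_rc_5_2) (@D3.rec (fun _ => (Cert rels S Gen.a)) lc_a_rc_29_0 lc_a_rc_3_2 lc_a_rc_4_2 lc_a_rc_5_2 lc_a_rc_28_0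 lc_a_rc_4_2 lc_a_rc_5_2 lc_a_rc_28_0 lc_a_rc_28_0 lc_a_rc_28_0 lc_a_rc_28_0 lc_a_rc_28_0 lc_a_rc_28_0 lc_a_rc_0_0 lc_a_rc_29_0 lc_a_rc_28_0 lc_a_rc_0_0 lc_a_rc_28_0 lc_a_rc_5_2 lc_a_rc_29_0 lc_a_rc_2_2 lc_a_rc_5_2 lc_a_rc_3_2 lc_a_rc_5_2 lc_a_rc_29_0 lc_a_rc_29_0 lc_a_rc_2_2 lc_a_rc_3_2 lc_a_rc_6_2 lc_a_rc_28_0 lc_a_rc_28_0 lc_a_Cert_tree lc_a_rc_29_0 lc_a_rc_0_0 lc_a_rc_2_2 lc_a_rc_3_2 lc_a_rc_2_2 lc_a_rc_28_0 lc_a_rc_5_2 lc_a_rc_5_2) (@D3.rec (fun _ => (Cert rels S Gen.a)) lc_a_rc_28_0 lc_a_rc_4_2 lc_a_rc_5_2 lc_a_rc_5_2 lc_a_rc_6_2 lc_a_rc_2_0 lc_a_rc_0_0 lc_a_rc_1_6 lc_a_rc_2_2 lc_a_rc_3_2 lc_a_rc_4_2 lc_a_rc_4_2 lc_a_Cert_tree lc_a_rc_2_2 lc_a_rc_29_0 lc_a_rc_29_0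 lc_a_rc_0_0 lc_a_rc_2_2 lc_a_rc_0_1 lc_a_rc_1_6 lc_a_rc_4_2 lc_a_rc_28_0 lc_a_rc_3_2 lc_a_rc_28_0 lc_a_rc_29_0 lc_a_rc_29_0 lc_a_rc_4_2 lc_a_rc_0_0 lc_a_rc_28_0 lc_a_rc_28_0 lc_a_rc_28_0 lc_a_rc_4_2 lc_a_rc_5_2 lc_a_rc_6_2 lc_a_rc_5_2 lc_a_rc_4_2 lc_a_rc_4_2 lc_a_rc_28_0 lc_a_rc_28_0 lc_a_rc_29_0) (@D3.rec (fun _ => (Cert rels S Gen.a)) lc_a_rc_5_2 lc_a_rc_29_0 lc_a_rc_29_0 lc_a_rc_0_0 lc_a_rc_28_0 lc_a_rc_29_0 lc_a_rc_1_4 lc_a_rc_0_0 lc_a_rc_2_2 lc_a_rc_29_0 lc_a_rc_4_2 lc_a_rc_28_0 lc_a_rc_29_0 lc_a_rc_3_2 lc_a_rc_28_0 lc_a_rc_0_0 lc_a_rc_0_1 lc_a_rc_6_2 lc_a_rc_2_2 lc_a_rc_6_2 lc_a_rc_5_0 lc_a_rc_6_2 lc_a_rc_0_0 lc_a_rc_6_2 lc_a_rc_0_0 lc_a_rc_29_0 lc_a_rc_28_0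 lc_a_rc_2_2 lc_a_rc_0_0 lc_a_rc_1_6 lc_a_rc_28_0 lc_a_rc_2_2 lc_a_rc_28_0 lc_a_rc_28_0 lc_a_rc_0_0 lc_a_rc_29_0 lc_a_rc_28_0 lc_a_rc_5_2 lc_a_rc_28_0 lc_a_rc_3_2) (@D3.rec (fun _ => (Cert rels S Gen.a)) lc_a_rc_28_0 lc_a_rc_28_0 lc_a_rc_29_0 lc_a_rc_0_0 lc_a_rc_4_2 lc_a_rc_5_2 lc_a_rc_6_2 lc_a_rc_28_0 lc_a_rc_6_2 lc_a_rc_29_0 lc_a_rc_29_0 lc_a_rc_0_0 lc_a_rc_2_2 lc_a_rc_28_0 lc_a_rc_28_0 lc_a_rc_6_2 lc_a_rc_29_0 lc_a_rc_29_0 lc_a_rc_0_0 lc_a_rc_0_0 lc_a_rc_28_0 lc_a_rc_4_2 lc_a_rc_5_2 lc_a_rc_6_2 lc_a_rc_4_2 lc_a_rc_28_0 lc_a_rc_28_0 lc_a_rc_3_2 lc_a_rc_2_2 lc_a_rc_2_2 lc_a_rc_29_0 lc_a_rc_28_0 lc_a_rc_4_2 lc_a_rc_2_2 lc_a_rc_2_2 lc_a_rc_3_2 lc_a_rc_1_2 lc_a_rc_4_2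 lc_a_rc_28_0 lc_a_rc_28_0) (@D3.rec (fun _ => (Cert rels S Gen.a)) lc_a_rc_4_2 lc_a_rc_4_2 lc_a_rc_4_2 lc_a_rc_29_0 lc_a_rc_28_0 lc_a_rc_0_0 lc_a_rc_28_0 lc_a_rc_29_0 lc_a_rc_29_0 lc_a_rc_0_0 lc_a_rc_28_0 lc_a_rc_28_0 lc_a_rc_29_0 lc_a_rc_4_2 lc_a_rc_0_0 lc_a_rc_29_0 lc_a_rc_0_0 lc_a_rc_28_0 lc_a_rc_29_0 lc_a_rc_2_2 lc_a_rc_3_2 lc_a_rc_29_0 lc_a_rc_4_2 lc_a_rc_3_2 lc_a_rc_29_0 lc_a_rc_29_0 lc_a_rc_0_0 lc_a_rc_29_0 lc_a_rc_2_2 lc_a_rc_6_2 lc_a_rc_0_0 lc_a_rc_1_2 lc_a_rc_4_2 lc_a_rc_0_1 lc_a_rc_0_0 lc_a_rc_0_1 lc_a_rc_0_0 lc_a_rc_3_0 lc_a_rc_29_0 lc_a_rc_4_2)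
def ce_a_19 : D2 → D3 → (Cert rels S Gen.a) := @D2.rec (fun _ => D3 → (Cert rels S Gen.a)) (@D3.rec (fun _ => (Cert rels S Gen.a)) lc_a_rc_28_0 lc_a_rc_2_2 lc_a_rc_0_0 lc_a_rc_0_1 lc_a_rc_28_0 lc_a_rc_2_2 lc_a_rc_28_0 lc_a_rc_28_0 lc_a_rc_0_0 lc_a_rc_29_0 lc_a_rc_28_0 lc_a_rc_6_2 lc_a_rc_28_0 lc_a_rc_3_2 lc_a_rc_28_0 lc_a_rc_2_2 lc_a_rc_29_0 lc_a_rc_0_0 lc_a_rc_4_2 lc_a_rc_5_2 lc_a_rc_6_2 lc_a_rc_5_2 lc_a_rc_2_0 lc_a_rc_29_0 lc_a_rc_29_0 lc_a_rc_29_0 lc_a_rc_4_2 lc_a_rc_28_0 lc_a_rc_28_0 lc_a_rc_29_0 lc_a_rc_29_0 lc_a_rc_29_0 lc_a_rc_0_0 lc_a_rc_0_0 lc_a_rc_28_0 lc_a_rc_0_1 lc_a_rc_5_2 lc_a_rc_6_2 lc_a_rc_4_2 lc_a_rc_28_0) (@D3.rec (fun _ => (Cert rels S Gen.a)) lc_a_rc_28_0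 lc_a_rc_3_2 lc_a_rc_2_2 lc_a_rc_2_2 lc_a_rc_29_0 lc_a_rc_1_4 lc_a_rc_4_2 lc_a_rc_2_2 lc_a_rc_29_0 lc_a_rc_29_0 lc_a_rc_0_0 lc_a_rc_2_2 lc_a_rc_28_0 lc_a_rc_28_0 lc_a_rc_4_2 lc_a_rc_4_2 lc_a_rc_29_0 lc_a_rc_3_2 lc_a_rc_29_0 lc_a_rc_0_0 lc_a_rc_28_0 lc_a_rc_0_1 lc_a_rc_29_0 lc_a_rc_0_0 lc_a_rc_6_2 lc_a_rc_0_0 lc_a_rc_6_0 lc_a_rc_1_8 lc_a_rc_4_2 lc_a_rc_0_0 lc_a_rc_28_0 lc_a_rc_0_1 lc_a_rc_29_0 lc_a_rc_2_2 lc_a_rc_3_2 lc_a_rc_0_0 lc_a_rc_28_0 lc_a_rc_4_2 lc_a_rc_0_0 lc_a_rc_29_0) (@D3.rec (fun _ => (Cert rels S Gen.a)) lc_a_rc_0_0 lc_a_rc_1_6 lc_a_rc_0_0 lc_a_rc_29_0 lc_a_rc_29_0 lc_a_rc_29_0 lc_a_rc_5_2 lc_a_rc_29_0 lc_a_rc_0_0 lc_a_rc_1_2 lc_a_rc_0_1 lc_a_rc_0_0 lc_a_rc_29_0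 lc_a_rc_28_0 lc_a_rc_1_6 lc_a_rc_5_2 lc_a_rc_6_2 lc_a_rc_28_0 lc_a_rc_28_0 lc_a_rc_28_0 lc_a_rc_5_2 lc_a_rc_6_2 lc_a_rc_30_12 lc_a_Cert_tree lc_a_rc_4_2 lc_a_rc_28_0 lc_a_rc_29_0 lc_a_rc_5_2 lc_a_rc_6_2 lc_a_rc_29_0 lc_a_rc_0_0 lc_a_Cert_tree lc_a_rc_28_0 lc_a_rc_1_6 lc_a_rc_5_2 lc_a_rc_6_2 lc_a_rc_28_0 lc_a_rc_28_0 lc_a_rc_5_2 lc_a_rc_6_2) (@D3.rec (fun _ => (Cert rels S Gen.a)) lc_a_Cert_tree lc_a_rc_0_1 lc_a_rc_4_2 lc_a_rc_0_0 lc_a_rc_0_0 lc_a_rc_5_2 lc_a_rc_6_2 lc_a_rc_29_0 lc_a_rc_0_0 lc_a_Cert_tree lc_a_rc_5_2 lc_a_rc_6_2 lc_a_rc_29_0 lc_a_rc_28_0 lc_a_rc_29_0 lc_a_rc_29_0 lc_a_rc_29_0 lc_a_rc_0_0 lc_a_rc_2_2 lc_a_rc_4_2 lc_a_rc_0_0 lc_a_rc_28_0 lc_a_rc_6_2 lc_a_rc_6_2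 lc_a_rc_4_2 lc_a_rc_0_0 lc_a_rc_28_0 lc_a_rc_29_0 lc_a_rc_1_4 lc_a_rc_4_2 lc_a_rc_0_0 lc_a_rc_4_2 lc_a_rc_4_2 lc_a_rc_0_0 lc_a_rc_28_0 lc_a_rc_5_2 lc_a_rc_5_2 lc_a_rc_4_2 lc_a_rc_0_0 lc_a_rc_4_2) (@D3.rec (fun _ => (Cert rels S Gen.a)) lc_a_rc_6_2 lc_a_rc_5_2 lc_a_rc_28_0 lc_a_rc_29_0 lc_a_rc_5_2 lc_a_rc_30_16 lc_a_rc_29_0 lc_a_rc_4_2 lc_a_rc_28_0 lc_a_rc_4_2 lc_a_rc_1_4 lc_a_rc_6_2 lc_a_rc_2_2 lc_a_rc_4_2 lc_a_rc_2_2 lc_a_rc_4_0 lc_a_rc_0_1 lc_a_rc_3_2 lc_a_rc_6_2 lc_a_rc_4_2 lc_a_rc_0_1 lc_a_rc_3_2 lc_a_rc_1_4 lc_a_rc_1_2 lc_a_rc_0_0 lc_a_rc_3_2 lc_a_rc_1_4 lc_a_rc_6_2 lc_a_rc_0_0 lc_a_rc_4_2 lc_a_rc_3_2 lc_a_rc_29_0 lc_a_rc_29_0 lc_a_rc_30_8 lc_a_rc_3_2 lc_a_rc_5_2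 lc_a_rc_6_2 lc_a_rc_3_2 lc_a_rc_3_2 lc_a_rc_29_0) (@D3.rec (fun _ => (Cert rels S Gen.a)) lc_a_rc_0_0 lc_a_rc_28_0 lc_a_rc_0_0 lc_a_rc_2_2 lc_a_rc_3_2 lc_a_rc_5_2 lc_a_rc_6_2 lc_a_rc_3_2 lc_a_rc_3_2 lc_a_rc_3_2 lc_a_rc_29_0 lc_a_rc_3_2 lc_a_rc_3_2 lc_a_rc_29_0 lc_a_rc_0_0 lc_a_rc_29_0 lc_a_rc_0_0 lc_a_rc_0_1 lc_a_rc_3_2 lc_a_rc_2_2 lc_a_rc_28_0 lc_a_rc_4_2 lc_a_rc_6_2 lc_a_rc_28_0 lc_a_rc_0_0 lc_a_rc_6_2 lc_a_rc_30_8 lc_a_rc_3_0 lc_a_rc_28_0 lc_a_rc_4_2 lc_a_rc_1_4 lc_a_rc_28_0 lc_a_rc_4_2 lc_a_rc_2_2 lc_a_rc_28_0 lc_a_rc_29_0 lc_a_rc_3_2 lc_a_rc_5_2 lc_a_rc_29_0 lc_a_rc_3_2) (@D3.rec (fun _ => (Cert rels S Gen.a)) lc_a_rc_3_2 lc_a_rc_4_2 lc_a_rc_4_2 lc_a_rc_29_0 lc_a_rc_4_2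 lc_a_rc_1_4 lc_a_rc_5_2 lc_a_rc_29_0 lc_a_rc_0_1 lc_a_rc_3_2 lc_a_rc_3_2 lc_a_rc_3_2 lc_a_rc_29_0 lc_a_rc_0_0 lc_a_rc_2_2 lc_a_rc_3_2 lc_a_rc_2_2 lc_a_rc_6_0 lc_a_rc_4_2 lc_a_rc_4_2 lc_a_rc_0_0 lc_a_rc_3_2 lc_a_rc_28_0 lc_a_rc_1_6 lc_a_rc_28_0 lc_a_rc_4_2 lc_a_rc_4_2 lc_a_rc_2_2 lc_a_rc_3_2 lc_a_rc_2_2 lc_a_rc_4_2 lc_a_rc_4_2 lc_a_rc_3_0 lc_a_rc_29_0 lc_a_rc_28_0 lc_a_rc_0_1 lc_a_rc_28_0 lc_a_rc_5_0 lc_a_rc_29_0 lc_a_rc_29_0) (@D3.rec (fun _ => (Cert rels S Gen.a)) lc_a_rc_0_0 lc_a_rc_29_0 lc_a_rc_28_0 lc_a_rc_29_0 lc_a_rc_29_0 lc_a_rc_4_2 lc_a_rc_4_2 lc_a_rc_2_2 lc_a_rc_3_2 lc_a_rc_2_2 lc_a_rc_4_2 lc_a_rc_4_2 lc_a_rc_3_0 lc_a_rc_28_0 lc_a_rc_28_0 lc_a_rc_29_0 lc_a_rc_28_0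 lc_a_rc_2_0 lc_a_rc_29_0 lc_a_rc_29_0 lc_a_rc_2_2 lc_a_rc_0_0 lc_a_rc_3_2 lc_a_rc_1_4 lc_a_rc_28_0 lc_a_rc_28_0 lc_a_rc_28_0 lc_a_rc_29_0 lc_a_Cert_tree lc_a_rc_2_2 lc_a_rc_6_2 lc_a_rc_29_0 lc_a_rc_28_0 lc_a_rc_0_0 lc_a_rc_28_0 lc_a_rc_29_0 lc_a_rc_3_2 lc_a_rc_2_2 lc_a_rc_2_2 lc_a_Cert_tree) (@D3.rec (fun _ => (Cert rels S Gen.a)) lc_a_rc_28_0 lc_a_rc_2_2 lc_a_rc_29_0 lc_a_rc_2_2 lc_a_rc_28_0 lc_a_rc_1_4 lc_a_rc_28_0 lc_a_rc_5_2 lc_a_rc_28_0 lc_a_rc_29_0 lc_a_rc_3_2 lc_a_rc_2_2 lc_a_rc_28_0 lc_a_rc_28_0 lc_a_rc_28_0 lc_a_rc_6_2 lc_a_rc_28_0 lc_a_rc_29_0 lc_a_rc_3_2 lc_a_rc_2_2 lc_a_rc_5_2 lc_a_rc_2_2 lc_a_rc_0_0 lc_a_rc_3_2 lc_a_rc_6_2 lc_a_rc_28_0 lc_a_rc_2_2 lc_a_rc_6_2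 lc_a_rc_28_0 lc_a_rc_28_0 lc_a_rc_3_2 lc_a_rc_3_2 lc_a_rc_5_2 lc_a_rc_28_0 lc_a_rc_28_0 lc_a_rc_5_2 lc_a_rc_28_0 lc_a_rc_28_0 lc_a_rc_1_6 lc_a_rc_28_0) (@D3.rec (fun _ => (Cert rels S Gen.a)) lc_a_rc_0_1 lc_a_rc_0_1 lc_a_rc_28_0 lc_a_rc_5_2 lc_a_rc_29_0 lc_a_rc_1_6 lc_a_rc_28_0 lc_a_rc_29_0 lc_a_rc_29_0 lc_a_rc_28_0 lc_a_rc_6_2 lc_a_rc_0_0 lc_a_rc_29_0 lc_a_rc_0_0 lc_a_rc_0_0 lc_a_rc_6_2 lc_a_rc_0_0 lc_a_rc_29_0 lc_a_rc_3_2 lc_a_rc_2_2 lc_a_rc_2_2 lc_a_rc_0_0 lc_a_rc_28_0 lc_a_rc_2_2 lc_a_rc_2_2 lc_a_rc_29_0 lc_a_rc_29_0 lc_a_rc_3_2 lc_a_rc_2_2 lc_a_rc_2_2 lc_a_rc_3_2 lc_a_rc_2_2 lc_a_rc_0_0 lc_a_rc_3_2 lc_a_rc_0_1 lc_a_rc_2_2 lc_a_rc_1_4 lc_a_rc_0_0 lc_a_rc_3_2 lc_a_rc_29_0)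 (@D3.rec (fun _ => (Cert rels S Gen.a)) lc_a_rc_2_2 lc_a_rc_1_4 lc_a_rc_3_2 lc_a_rc_3_2 lc_a_rc_28_0 lc_a_rc_29_0 lc_a_rc_0_1 lc_a_rc_28_0 lc_a_rc_0_0 lc_a_rc_4_2 lc_a_rc_29_0 lc_a_rc_2_2 lc_a_rc_29_0 lc_a_rc_2_2 lc_a_rc_4_0 lc_a_rc_0_1 lc_a_rc_5_2 lc_a_rc_29_0 lc_a_rc_5_2 lc_a_rc_2_2 lc_a_rc_3_2 lc_a_rc_28_0 lc_a_rc_29_0 lc_a_rc_0_1 lc_a_rc_1_4 lc_a_rc_29_0 lc_a_rc_4_2 lc_a_rc_3_2 lc_a_rc_2_2 lc_a_rc_2_2 lc_a_rc_29_0 lc_a_rc_4_0 lc_a_rc_3_2 lc_a_rc_28_0 lc_a_rc_6_2 lc_a_rc_0_1 lc_a_rc_0_0 lc_a_rc_29_0 lc_a_rc_1_4 lc_a_rc_5_2) (@D3.rec (fun _ => (Cert rels S Gen.a)) lc_a_rc_28_0 lc_a_rc_29_0 lc_a_rc_1_4 lc_a_rc_6_2 lc_a_rc_28_0 lc_a_rc_29_0 lc_a_rc_28_0 lc_a_rc_5_2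 lc_a_rc_5_2 lc_a_rc_6_2 lc_a_rc_3_2 lc_a_rc_1_4 lc_a_rc_29_0 lc_a_rc_6_2 lc_a_rc_29_0 lc_a_rc_6_2 lc_a_rc_2_2 lc_a_rc_29_0 lc_a_rc_30_12 lc_a_rc_2_2 lc_a_rc_6_2 lc_a_Cert_tree lc_a_rc_4_2 lc_a_Cert_tree lc_a_rc_0_0 lc_a_rc_0_1 lc_a_Cert_tree lc_a_rc_5_2 lc_a_Cert_tree lc_a_rc_29_0 lc_a_Cert_tree lc_a_rc_0_0 lc_a_rc_29_0 lc_a_Cert_tree lc_a_rc_28_0 lc_a_rc_28_0 lc_a_rc_1_6 lc_a_rc_29_0 lc_a_rc_28_0 lc_a_rc_3_0) (@D3.rec (fun _ => (Cert rels S Gen.a)) lc_a_rc_28_0 lc_a_rc_2_2 lc_a_rc_0_0 lc_a_rc_28_0 lc_a_rc_30_12 lc_a_rc_0_0 lc_a_rc_30_12 lc_a_rc_2_2 lc_a_rc_1_6 lc_a_rc_2_2 lc_a_rc_28_0 lc_a_rc_3_0 lc_a_rc_28_0 lc_a_rc_2_2 lc_a_rc_0_0 lc_a_rc_5_2 lc_a_rc_4_0 lc_a_rc_0_0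 lc_a_rc_30_16 lc_a_rc_2_2 lc_a_rc_0_1 lc_a_rc_1_4 lc_a_rc_5_2 lc_a_rc_28_0 lc_a_rc_29_0 lc_a_rc_29_0 lc_a_rc_2_0 lc_a_rc_3_2 lc_a_rc_29_0 lc_a_rc_2_2 lc_a_rc_3_2 lc_a_rc_0_1 lc_a_rc_1_4 lc_a_rc_6_2 lc_a_rc_6_2 lc_a_rc_0_0 lc_a_rc_29_0 lc_a_rc_29_0 lc_a_rc_3_2 lc_a_rc_29_0) (@D3.rec (fun _ => (Cert rels S Gen.a)) lc_a_rc_2_2 lc_a_rc_3_2 lc_a_rc_2_2 lc_a_rc_3_2 lc_a_rc_0_0 lc_a_rc_3_2 lc_a_rc_28_0 lc_a_rc_4_2 lc_a_rc_3_2 lc_a_rc_0_0 lc_a_rc_2_2 lc_a_rc_3_2 lc_a_rc_5_2 lc_a_rc_2_2 lc_a_rc_2_2 lc_a_rc_1_6 lc_a_rc_3_2 lc_a_rc_6_2 lc_a_rc_4_2 lc_a_rc_1_4 lc_a_rc_0_1 lc_a_rc_29_0 lc_a_rc_2_2 lc_a_rc_3_2 lc_a_rc_29_0 lc_a_rc_3_2 lc_a_rc_28_0 lc_a_rc_4_2 lc_a_rc_29_0 lc_a_rc_0_0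 lc_a_rc_2_2 lc_a_rc_3_2 lc_a_rc_2_2 lc_a_rc_2_2 lc_a_rc_2_2 lc_a_rc_1_6 lc_a_rc_3_2 lc_a_rc_5_2 lc_a_rc_4_2 lc_a_rc_1_4) (@D3.rec (fun _ => (Cert rels S Gen.a)) lc_a_rc_4_0 lc_a_rc_29_0 lc_a_rc_3_2 lc_a_rc_28_0 lc_a_rc_3_2 lc_a_rc_28_0 lc_a_rc_3_2 lc_a_rc_1_4 lc_a_rc_29_0 lc_a_rc_28_0 lc_a_rc_0_0 lc_a_rc_28_0 lc_a_rc_2_2 lc_a_rc_29_0 lc_a_rc_6_2 lc_a_rc_4_2 lc_a_rc_2_2 lc_a_rc_28_0 lc_a_rc_0_0 lc_a_rc_2_2 lc_a_rc_5_2 lc_a_rc_28_0 lc_a_rc_29_0 lc_a_rc_2_2 lc_a_rc_1_2 lc_a_rc_2_2 lc_a_rc_28_0 lc_a_rc_28_0 lc_a_rc_0_0 lc_a_rc_4_2 lc_a_rc_0_0 lc_a_rc_5_0 lc_a_rc_29_0 lc_a_rc_0_0 lc_a_rc_5_2 lc_a_rc_29_0 lc_a_rc_6_2 lc_a_rc_6_2 lc_a_rc_0_0 lc_a_rc_4_2) (@D3.rec (fun _ =>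 (Cert rels S Gen.a)) lc_a_rc_3_0 lc_a_rc_28_0 lc_a_rc_3_2 lc_a_rc_2_2 lc_a_rc_3_2 lc_a_rc_29_0 lc_a_rc_29_0 lc_a_rc_3_2 lc_a_rc_6_2 lc_a_rc_6_2 lc_a_rc_0_0 lc_a_rc_3_2 lc_a_rc_1_8 lc_a_rc_28_0 lc_a_rc_29_0 lc_a_rc_0_0 lc_a_rc_29_0 lc_a_rc_4_2 lc_a_rc_3_2 lc_a_rc_28_0 lc_a_rc_3_2 lc_a_rc_0_0 lc_a_rc_28_0 lc_a_rc_29_0 lc_a_rc_0_0 lc_a_rc_3_2 lc_a_rc_29_0 lc_a_rc_1_4 lc_a_rc_4_2 lc_a_rc_4_2 lc_a_rc_6_2 lc_a_rc_28_0 lc_a_rc_29_0 lc_a_rc_28_0 lc_a_rc_29_0 lc_a_rc_28_0 lc_a_rc_29_0 lc_a_rc_6_2 lc_a_rc_29_0 lc_a_rc_3_2) (@D3.rec (fun _ => (Cert rels S Gen.a)) lc_a_rc_29_0 lc_a_rc_3_2 lc_a_rc_2_2 lc_a_rc_28_0 lc_a_rc_2_2 lc_a_rc_2_2 lc_a_rc_1_2 lc_a_rc_6_2 lc_a_rc_6_2 lc_a_rc_0_0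 lc_a_rc_3_2 lc_a_rc_0_1 lc_a_rc_29_0 lc_a_rc_2_2 lc_a_rc_3_2 lc_a_rc_0_0 lc_a_rc_0_0 lc_a_rc_3_2 lc_a_rc_3_2 lc_a_rc_28_0 lc_a_rc_28_0 lc_a_rc_29_0 lc_a_rc_29_0 lc_a_rc_29_0 lc_a_rc_30_8 lc_a_rc_1_6 lc_a_rc_1_4 lc_a_rc_5_2 lc_a_rc_29_0 lc_a_rc_0_0 lc_a_rc_3_2 lc_a_rc_0_0 lc_a_rc_4_0 lc_a_rc_0_1 lc_a_rc_0_0 lc_a_rc_4_2 lc_a_rc_2_2 lc_a_rc_29_0 lc_a_rc_0_0 lc_a_rc_29_0) (@D3.rec (fun _ => (Cert rels S Gen.a)) lc_a_rc_5_0 lc_a_rc_2_2 lc_a_rc_2_2 lc_a_rc_28_0 lc_a_rc_29_0 lc_a_rc_3_2 lc_a_rc_6_2 lc_a_rc_29_0 lc_a_rc_28_0 lc_a_rc_0_0 lc_a_rc_5_2 lc_a_rc_1_2 lc_a_rc_5_2 lc_a_rc_4_2 lc_a_rc_29_0 lc_a_rc_28_0 lc_a_rc_0_0 lc_a_rc_29_0 lc_a_rc_4_2 lc_a_rc_29_0 lc_a_rc_0_0 lc_a_rc_29_0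 lc_a_rc_29_0 lc_a_rc_29_0 lc_a_rc_2_2 lc_a_rc_2_2 lc_a_rc_2_2 lc_a_rc_29_0 lc_a_rc_29_0 lc_a_rc_28_0 lc_a_rc_28_0 lc_a_rc_6_2 lc_a_rc_28_0 lc_a_rc_30_16 lc_a_rc_29_0 lc_a_rc_28_0 lc_a_rc_0_0 lc_a_rc_0_0 lc_a_rc_4_2 lc_a_rc_0_0) (@D3.rec (fun _ => (Cert rels S Gen.a)) lc_a_rc_2_0 lc_a_rc_2_0 lc_a_rc_6_2 lc_a_rc_5_2 lc_a_Cert_tree lc_a_rc_30_16 lc_a_rc_0_0 lc_a_rc_0_0 lc_a_rc_28_0 lc_a_rc_0_0 lc_a_rc_0_0 lc_a_rc_29_0 lc_a_rc_29_0 lc_a_rc_4_2 lc_a_rc_29_0 lc_a_rc_29_0 lc_a_rc_0_0 lc_a_rc_29_0 lc_a_rc_0_1 lc_a_rc_2_2 lc_a_rc_2_2 lc_a_rc_28_0 lc_a_rc_0_1 lc_a_rc_3_2 lc_a_rc_5_2 lc_a_rc_0_0 lc_a_rc_28_0 lc_a_rc_29_0 lc_a_rc_6_2 lc_a_rc_3_2 lc_a_rc_28_0 lc_a_rc_4_2 lc_a_rc_0_1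 lc_a_rc_29_0 lc_a_rc_29_0 lc_a_rc_0_1 lc_a_rc_29_0 lc_a_rc_29_0 lc_a_rc_0_0 lc_a_rc_1_6) (@D3.rec (fun _ => (Cert rels S Gen.a)) lc_a_rc_28_0 lc_a_rc_28_0 lc_a_rc_2_2 lc_a_rc_2_2 lc_a_rc_2_2 lc_a_rc_0_1 lc_a_rc_29_0 lc_a_rc_28_0 lc_a_rc_5_2 lc_a_rc_28_0 lc_a_rc_28_0 lc_a_rc_5_0 lc_a_rc_29_0 lc_a_rc_1_4 lc_a_rc_0_0 lc_a_rc_0_0 lc_a_rc_0_1 lc_a_rc_1_2 lc_a_rc_4_2 lc_a_rc_5_2 lc_a_rc_6_2 lc_a_rc_6_2 lc_a_rc_29_0 lc_a_Cert_tree lc_a_rc_3_2 lc_a_rc_28_0 lc_a_rc_0_0 lc_a_rc_5_2 lc_a_rc_3_2 lc_a_rc_30_8 lc_a_Cert_tree lc_a_rc_4_2 lc_a_rc_4_2 lc_a_rc_28_0 lc_a_rc_3_0 lc_a_rc_6_2 lc_a_rc_29_0 lc_a_rc_1_6 lc_a_rc_2_2 lc_a_rc_2_2) (@D3.rec (fun _ => (Cert rels S Gen.a)) lc_a_rc_5_2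 lc_a_Cert_tree lc_a_rc_0_0 lc_a_rc_0_1 lc_a_rc_28_0 lc_a_rc_30_8 lc_a_rc_2_2 lc_a_rc_2_2 lc_a_rc_30_16 lc_a_rc_29_0 lc_a_rc_3_2 lc_a_rc_28_0 lc_a_rc_0_0 lc_a_rc_3_2 lc_a_Cert_tree lc_a_rc_0_0 lc_a_rc_4_2 lc_a_rc_4_2 lc_a_rc_28_0 lc_a_rc_5_2 lc_a_rc_6_2 lc_a_rc_29_0 lc_a_rc_30_12 lc_a_rc_2_2 lc_a_rc_1_4 lc_a_rc_2_2 lc_a_rc_30_8 lc_a_rc_2_2 lc_a_rc_28_0 lc_a_rc_28_0 lc_a_rc_30_8 lc_a_rc_29_0 lc_a_rc_0_0 lc_a_rc_29_0 lc_a_rc_28_0 lc_a_rc_2_2 lc_a_rc_4_2 lc_a_rc_2_2 lc_a_rc_4_2 lc_a_rc_5_2) (@D3.rec (fun _ => (Cert rels S Gen.a)) lc_a_rc_28_0 lc_a_rc_6_2 lc_a_rc_28_0 lc_a_rc_28_0 lc_a_rc_28_0 lc_a_rc_30_8 lc_a_rc_1_6 lc_a_rc_2_2 lc_a_rc_30_8 lc_a_rc_28_0 lc_a_rc_28_0 lc_a_rc_1_4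 lc_a_rc_6_2 lc_a_rc_29_0 lc_a_rc_2_2 lc_a_rc_29_0 lc_a_rc_0_1 lc_a_rc_28_0 lc_a_rc_28_0 lc_a_rc_29_0 lc_a_rc_0_0 lc_a_rc_1_4 lc_a_rc_29_0 lc_a_rc_1_4 lc_a_rc_29_0 lc_a_rc_1_8 lc_a_rc_29_0 lc_a_Cert_tree lc_a_rc_0_0 lc_a_rc_0_1 lc_a_rc_5_2 lc_a_rc_2_2 lc_a_rc_28_0 lc_a_rc_2_2 lc_a_rc_0_1 lc_a_rc_3_2 lc_a_rc_1_4 lc_a_rc_0_1 lc_a_rc_2_2 lc_a_rc_28_0) (@D3.rec (fun _ => (Cert rels S Gen.a)) lc_a_rc_29_0 lc_a_rc_1_4 lc_a_rc_1_4 lc_a_rc_6_2 lc_a_rc_0_0 lc_a_rc_1_4 lc_a_rc_29_0 lc_a_rc_0_0 lc_a_rc_1_4 lc_a_rc_28_0 lc_a_rc_1_4 lc_a_rc_0_1 lc_a_rc_3_0 lc_a_rc_3_2 lc_a_Cert_tree lc_a_rc_0_0 lc_a_rc_28_0 lc_a_rc_6_2 lc_a_rc_4_2 lc_a_rc_28_0 lc_a_rc_2_2 lc_a_rc_29_0 lc_a_rc_3_2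 lc_a_rc_29_0 lc_a_rc_29_0 lc_a_rc_0_0 lc_a_rc_1_4 lc_a_rc_28_0 lc_a_rc_28_0 lc_a_rc_0_0 lc_a_rc_0_0 lc_a_rc_0_0 lc_a_rc_0_0 lc_a_rc_29_0 lc_a_rc_29_0 lc_a_rc_3_2 lc_a_rc_6_0 lc_a_rc_28_0 lc_a_rc_5_2 lc_a_rc_0_1) (@D3.rec (fun _ => (Cert rels S Gen.a)) lc_a_rc_28_0 lc_a_rc_0_0 lc_a_rc_0_0 lc_a_rc_0_1 lc_a_rc_28_0 lc_a_rc_0_0 lc_a_rc_28_0 lc_a_rc_0_0 lc_a_rc_3_2 lc_a_rc_6_2 lc_a_rc_6_2 lc_a_rc_29_0 lc_a_rc_2_2 lc_a_rc_0_0 lc_a_rc_28_0 lc_a_rc_2_2 lc_a_rc_0_0 lc_a_rc_3_2 lc_a_rc_3_2 lc_a_rc_3_2 lc_a_rc_2_2 lc_a_rc_5_2 lc_a_rc_29_0 lc_a_rc_5_2 lc_a_rc_29_0 lc_a_rc_0_0 lc_a_rc_4_2 lc_a_rc_29_0 lc_a_rc_28_0 lc_a_rc_0_0 lc_a_rc_2_2 lc_a_rc_28_0 lc_a_rc_3_2 lc_a_rc_5_0 lc_a_rc_6_2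 lc_a_rc_6_2 lc_a_rc_0_1 lc_a_rc_28_0 lc_a_rc_3_2 lc_a_rc_0_0) (@D3.rec (fun _ => (Cert rels S Gen.a)) lc_a_rc_29_0 lc_a_rc_5_2 lc_a_rc_0_0 lc_a_rc_2_2 lc_a_rc_29_0 lc_a_rc_3_2 lc_a_rc_4_2 lc_a_rc_2_2 lc_a_rc_30_8 lc_a_rc_6_2 lc_a_rc_28_0 lc_a_rc_5_2 lc_a_rc_3_2 lc_a_rc_2_2 lc_a_rc_6_2 lc_a_rc_2_2 lc_a_rc_3_0 lc_a_rc_4_2 lc_a_rc_29_0 lc_a_rc_3_0 lc_a_rc_4_2 lc_a_rc_28_0 lc_a_rc_0_0 lc_a_rc_2_2 lc_a_rc_28_0 lc_a_rc_2_2 lc_a_rc_2_2 lc_a_rc_0_0 lc_a_rc_4_2 lc_a_rc_28_0 lc_a_rc_28_0 lc_a_rc_3_2 lc_a_rc_28_0 lc_a_rc_5_0 lc_a_rc_30_12 lc_a_rc_5_2 lc_a_rc_6_2 lc_a_rc_28_0 lc_a_rc_2_2 lc_a_rc_0_0) (@D3.rec (fun _ => (Cert rels S Gen.a)) lc_a_rc_4_2 lc_a_rc_28_0 lc_a_rc_28_0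 lc_a_rc_4_0 lc_a_rc_1_8 lc_a_rc_0_0 lc_a_rc_5_2 lc_a_rc_6_2 lc_a_rc_2_2 lc_a_rc_28_0 lc_a_rc_29_0 lc_a_rc_28_0 lc_a_rc_1_6 lc_a_rc_3_2 lc_a_rc_2_2 lc_a_rc_5_2 lc_a_Cert_tree lc_a_rc_0_0 lc_a_rc_0_1 lc_a_rc_1_6 lc_a_rc_3_2 lc_a_rc_0_1 lc_a_rc_0_0 lc_a_rc_1_8 lc_a_rc_0_0 lc_a_rc_28_0 lc_a_rc_28_0 lc_a_rc_28_0 lc_a_rc_3_2 lc_a_rc_28_0 lc_a_rc_30_4 lc_a_rc_4_2 lc_a_rc_29_0 lc_a_rc_2_2 lc_a_rc_29_0 lc_a_rc_4_2 lc_a_rc_0_1 lc_a_rc_2_2 lc_a_rc_29_0 lc_a_rc_28_0)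
def ce_a_20 : D2 → D3 → (Cert rels S Gen.a) := @D2.rec (fun _ => D3 → (Cert rels S Gen.a)) (@D3.rec (fun _ => (Cert rels S Gen.a)) lc_a_rc_2_2 lc_a_rc_3_2 lc_a_rc_29_0 lc_a_rc_29_0 lc_a_rc_3_2 lc_a_rc_3_2 lc_a_rc_28_0 lc_a_rc_29_0 lc_a_rc_2_2 lc_a_rc_28_0 lc_a_rc_29_0 lc_a_rc_3_2 lc_a_rc_3_2 lc_a_rc_28_0 lc_a_rc_3_2 lc_a_rc_3_2 lc_a_rc_0_0 lc_a_rc_3_2 lc_a_rc_2_2 lc_a_rc_28_0 lc_a_rc_28_0 lc_a_rc_28_0 lc_a_rc_28_0 lc_a_rc_29_0 lc_a_rc_4_2 lc_a_rc_29_0 lc_a_rc_0_1 lc_a_rc_28_0 lc_a_rc_4_2 lc_a_rc_28_0 lc_a_rc_4_2 lc_a_rc_6_2 lc_a_rc_4_2 lc_a_rc_0_0 lc_a_rc_5_2 lc_a_rc_4_2 lc_a_rc_0_0 lc_a_rc_6_2 lc_a_rc_0_0 lc_a_rc_0_0) (@D3.rec (fun _ => (Cert rels S Gen.a)) lc_a_rc_29_0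 lc_a_rc_5_2 lc_a_rc_29_0 lc_a_rc_0_0 lc_a_rc_30_12 lc_a_rc_0_0 lc_a_rc_28_0 lc_a_rc_2_2 lc_a_rc_28_0 lc_a_rc_28_0 lc_a_rc_0_1 lc_a_rc_6_2 lc_a_rc_2_2 lc_a_rc_4_2 lc_a_rc_2_2 lc_a_rc_28_0 lc_a_rc_28_0 lc_a_rc_3_2 lc_a_rc_29_0 lc_a_rc_2_2 lc_a_rc_4_2 lc_a_rc_2_2 lc_a_rc_0_1 lc_a_rc_28_0 lc_a_Cert_tree lc_a_Cert_tree lc_a_rc_0_0 lc_a_rc_29_0 lc_a_rc_0_0 lc_a_rc_4_2 lc_a_rc_2_2 lc_a_rc_0_1 lc_a_rc_0_0 lc_a_rc_29_0 lc_a_rc_4_2 lc_a_rc_3_2 lc_a_rc_6_2 lc_a_rc_2_2 lc_a_rc_1_2 lc_a_rc_1_2) (@D3.rec (fun _ => (Cert rels S Gen.a)) lc_a_rc_28_0 lc_a_rc_2_2 lc_a_rc_29_0 lc_a_rc_4_0 lc_a_rc_29_0 lc_a_rc_0_1 lc_a_rc_28_0 lc_a_Cert_tree lc_a_rc_28_0 lc_a_rc_0_0 lc_a_rc_29_0 lc_a_Cert_tree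 lc_a_rc_0_0 lc_a_rc_4_2 lc_a_rc_28_0 lc_a_rc_29_0 lc_a_rc_0_0 lc_a_rc_0_0 lc_a_rc_29_0 lc_a_rc_3_2 lc_a_rc_5_2 lc_a_rc_2_2 lc_a_rc_1_2 lc_a_rc_29_0 lc_a_rc_5_2 lc_a_rc_28_0 lc_a_rc_0_0 lc_a_rc_1_6 lc_a_rc_6_2 lc_a_rc_28_0 lc_a_rc_1_8 lc_a_rc_4_2 lc_a_rc_4_2 lc_a_rc_28_0 lc_a_rc_1_4 lc_a_rc_29_0 lc_a_rc_0_0 lc_a_rc_2_2 lc_a_rc_0_1 lc_a_rc_0_0) (@D3.rec (fun _ => (Cert rels S Gen.a)) lc_a_rc_29_0 lc_a_Cert_tree lc_a_rc_0_0 lc_a_rc_2_2 lc_a_rc_5_2 lc_a_rc_1_6 lc_a_rc_2_2 lc_a_rc_5_2 lc_a_rc_5_2 lc_a_rc_29_0 lc_a_rc_2_2 lc_a_rc_5_2 lc_a_rc_0_0 lc_a_rc_29_0 lc_a_rc_28_0 lc_a_rc_1_4 lc_a_rc_2_2 lc_a_rc_29_0 lc_a_rc_28_0 lc_a_rc_28_0 lc_a_rc_29_0 lc_a_rc_4_2 lc_a_rc_30_16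 lc_a_rc_1_4 lc_a_rc_29_0 lc_a_rc_29_0 lc_a_rc_29_0 lc_a_rc_29_0 lc_a_rc_2_2 lc_a_rc_30_4 lc_a_Cert_tree lc_a_rc_0_0 lc_a_rc_28_0 lc_a_rc_6_2 lc_a_rc_28_0 lc_a_rc_2_2 lc_a_rc_6_2 lc_a_rc_6_2 lc_a_rc_0_0 lc_a_rc_2_2) (@D3.rec (fun _ => (Cert rels S Gen.a)) lc_a_rc_6_2 lc_a_rc_29_0 lc_a_rc_0_0 lc_a_rc_28_0 lc_a_rc_29_0 lc_a_rc_1_6 lc_a_rc_3_2 lc_a_rc_2_2 lc_a_rc_4_2 lc_a_rc_28_0 lc_a_rc_29_0 lc_a_rc_2_2 lc_a_rc_0_0 lc_a_rc_28_0 lc_a_rc_0_1 lc_a_rc_28_0 lc_a_rc_0_0 lc_a_rc_1_8 lc_a_rc_5_2 lc_a_rc_1_6 lc_a_rc_2_2 lc_a_rc_5_2 lc_a_rc_5_2 lc_a_rc_29_0 lc_a_rc_2_2 lc_a_rc_2_2 lc_a_rc_3_2 lc_a_rc_29_0 lc_a_rc_0_0 lc_a_rc_0_0 lc_a_rc_29_0 lc_a_rc_4_2 lc_a_rc_3_2 lc_a_rc_2_2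 lc_a_rc_4_2 lc_a_rc_0_0 lc_a_rc_5_2 lc_a_rc_29_0 lc_a_rc_0_0 lc_a_rc_29_0) (@D3.rec (fun _ => (Cert rels S Gen.a)) lc_a_rc_29_0 lc_a_rc_28_0 lc_a_rc_0_0 lc_a_rc_28_0 lc_a_rc_6_2 lc_a_rc_1_6 lc_a_rc_2_2 lc_a_rc_6_2 lc_a_rc_6_2 lc_a_rc_0_0 lc_a_rc_29_0 lc_a_rc_2_2 lc_a_rc_3_2 lc_a_rc_29_0 lc_a_rc_0_0 lc_a_rc_29_0 lc_a_rc_29_0 lc_a_rc_29_0 lc_a_rc_28_0 lc_a_rc_0_1 lc_a_rc_3_2 lc_a_rc_5_2 lc_a_rc_0_1 lc_a_rc_5_2 lc_a_rc_5_2 lc_a_rc_29_0 lc_a_rc_5_2 lc_a_rc_28_0 lc_a_rc_5_2 lc_a_rc_28_0 lc_a_rc_0_0 lc_a_rc_2_2 lc_a_rc_0_0 lc_a_rc_28_0 lc_a_rc_2_2 lc_a_rc_4_2 lc_a_rc_2_2 lc_a_rc_5_2 lc_a_rc_28_0 lc_a_rc_5_2) (@D3.rec (fun _ => (Cert rels S Gen.a)) lc_a_rc_29_0 lc_a_rc_5_2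 lc_a_rc_0_1 lc_a_rc_3_2 lc_a_rc_29_0 lc_a_rc_1_2 lc_a_rc_3_2 lc_a_rc_28_0 lc_a_rc_1_4 lc_a_rc_2_2 lc_a_rc_28_0 lc_a_rc_3_2 lc_a_rc_29_0 lc_a_rc_28_0 lc_a_rc_4_2 lc_a_rc_29_0 lc_a_rc_29_0 lc_a_rc_28_0 lc_a_rc_29_0 lc_a_rc_28_0 lc_a_rc_28_0 lc_a_rc_0_1 lc_a_rc_6_2 lc_a_rc_28_0 lc_a_rc_0_0 lc_a_rc_28_0 lc_a_rc_0_0 lc_a_rc_0_0 lc_a_rc_2_2 lc_a_rc_0_0 lc_a_rc_28_0 lc_a_rc_28_0 lc_a_rc_4_2 lc_a_rc_2_2 lc_a_rc_6_2 lc_a_rc_28_0 lc_a_rc_6_2 lc_a_rc_0_0 lc_a_rc_6_2 lc_a_rc_1_6) (@D3.rec (fun _ => (Cert rels S Gen.a)) lc_a_rc_3_2 lc_a_rc_2_2 lc_a_rc_4_2 lc_a_rc_1_4 lc_a_rc_2_2 lc_a_rc_28_0 lc_a_rc_3_2 lc_a_rc_29_0 lc_a_rc_28_0 lc_a_rc_4_2 lc_a_rc_0_0 lc_a_rc_2_2 lc_a_rc_29_0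 lc_a_Cert_tree lc_a_Cert_tree lc_a_rc_0_0 lc_a_rc_6_0 lc_a_rc_28_0 lc_a_rc_0_1 lc_a_rc_1_4 lc_a_rc_2_2 lc_a_rc_28_0 lc_a_rc_6_2 lc_a_rc_0_0 lc_a_rc_28_0 lc_a_rc_28_0 lc_a_Cert_tree lc_a_rc_0_0 lc_a_rc_29_0 lc_a_Cert_tree lc_a_rc_0_0 lc_a_rc_29_0 lc_a_rc_5_2 lc_a_rc_5_2 lc_a_Cert_tree lc_a_rc_29_0 lc_a_rc_0_0 lc_a_rc_6_0 lc_a_rc_6_2 lc_a_rc_0_0) (@D3.rec (fun _ => (Cert rels S Gen.a)) lc_a_rc_5_0 lc_a_rc_2_2 lc_a_rc_0_0 lc_a_rc_28_0 lc_a_rc_4_2 lc_a_rc_30_12 lc_a_rc_0_0 lc_a_rc_3_2 lc_a_rc_29_0 lc_a_rc_2_2 lc_a_rc_0_0 lc_a_rc_2_2 lc_a_rc_28_0 lc_a_rc_3_2 lc_a_rc_5_2 lc_a_rc_0_1 lc_a_rc_29_0 lc_a_rc_0_0 lc_a_rc_0_0 lc_a_rc_0_0 lc_a_rc_29_0 lc_a_rc_28_0 lc_a_rc_6_2 lc_a_rc_2_2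 lc_a_rc_28_0 lc_a_rc_0_1 lc_a_rc_28_0 lc_a_rc_1_2 lc_a_rc_6_2 lc_a_rc_6_0 lc_a_rc_3_2 lc_a_rc_2_2 lc_a_rc_29_0 lc_a_rc_2_2 lc_a_rc_28_0 lc_a_rc_5_2 lc_a_rc_0_0 lc_a_rc_29_0 lc_a_rc_0_1 lc_a_Cert_tree) (@D3.rec (fun _ => (Cert rels S Gen.a)) lc_a_rc_0_0 lc_a_rc_28_0 lc_a_Cert_tree lc_a_rc_6_2 lc_a_Cert_tree lc_a_rc_0_0 lc_a_rc_0_0 lc_a_rc_28_0 lc_a_rc_4_2 lc_a_rc_0_0 lc_a_rc_28_0 lc_a_rc_6_2 lc_a_rc_0_0 lc_a_rc_6_0 lc_a_rc_28_0 lc_a_rc_29_0 lc_a_rc_28_0 lc_a_rc_29_0 lc_a_rc_29_0 lc_a_rc_0_0 lc_a_rc_3_2 lc_a_rc_30_16 lc_a_rc_4_2 lc_a_rc_0_0 lc_a_rc_2_2 lc_a_rc_28_0 lc_a_rc_6_2 lc_a_rc_29_0 lc_a_rc_0_0 lc_a_rc_29_0 lc_a_rc_28_0 lc_a_rc_28_0 lc_a_rc_2_2 lc_a_rc_28_0 lc_a_rc_29_0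 lc_a_rc_3_2 lc_a_rc_28_0 lc_a_rc_29_0 lc_a_rc_28_0 lc_a_rc_5_2) (@D3.rec (fun _ => (Cert rels S Gen.a)) lc_a_rc_3_0 lc_a_rc_30_4 lc_a_rc_0_0 lc_a_rc_29_0 lc_a_Cert_tree lc_a_rc_0_0 lc_a_rc_0_1 lc_a_Cert_tree lc_a_rc_0_0 lc_a_rc_3_0 lc_a_rc_0_0 lc_a_rc_2_2 lc_a_rc_3_2 lc_a_rc_3_2 lc_a_rc_6_2 lc_a_rc_3_2 lc_a_rc_29_0 lc_a_rc_28_0 lc_a_rc_2_0 lc_a_rc_6_2 lc_a_rc_1_4 lc_a_rc_29_0 lc_a_rc_28_0 lc_a_rc_30_16 lc_a_Cert_tree lc_a_rc_0_0 lc_a_rc_29_0 lc_a_Cert_tree lc_a_rc_29_0 lc_a_rc_0_0 lc_a_rc_2_2 lc_a_rc_3_2 lc_a_rc_0_0 lc_a_rc_3_2 lc_a_rc_5_2 lc_a_rc_29_0 lc_a_rc_29_0 lc_a_rc_29_0 lc_a_rc_0_1 lc_a_rc_3_2) (@D3.rec (fun _ => (Cert rels S Gen.a)) lc_a_rc_4_2 lc_a_rc_4_2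 lc_a_rc_0_1 lc_a_rc_28_0 lc_a_rc_3_2 lc_a_rc_29_0 lc_a_rc_29_0 lc_a_rc_2_2 lc_a_rc_0_0 lc_a_rc_29_0 lc_a_rc_5_2 lc_a_rc_28_0 lc_a_rc_28_0 lc_a_rc_0_1 lc_a_rc_28_0 lc_a_rc_3_2 lc_a_rc_29_0 lc_a_rc_2_2 lc_a_rc_29_0 lc_a_rc_28_0 lc_a_rc_4_2 lc_a_rc_28_0 lc_a_rc_28_0 lc_a_rc_29_0 lc_a_rc_28_0 lc_a_rc_28_0 lc_a_rc_0_0 lc_a_rc_2_2 lc_a_rc_4_2 lc_a_rc_5_0 lc_a_rc_29_0 lc_a_rc_0_0 lc_a_rc_4_0 lc_a_rc_4_0 lc_a_rc_1_8 lc_a_rc_0_0 lc_a_rc_2_2 lc_a_rc_3_2 lc_a_rc_28_0 lc_a_rc_0_0) (@D3.rec (fun _ => (Cert rels S Gen.a)) lc_a_rc_0_0 lc_a_rc_0_0 lc_a_rc_30_8 lc_a_rc_2_2 lc_a_rc_5_2 lc_a_rc_3_2 lc_a_rc_4_2 lc_a_rc_2_2 lc_a_rc_0_1 lc_a_rc_28_0 lc_a_rc_28_0 lc_a_rc_4_2 lc_a_rc_28_0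 lc_a_rc_2_2 lc_a_rc_3_2 lc_a_rc_2_2 lc_a_rc_3_2 lc_a_rc_0_0 lc_a_rc_28_0 lc_a_rc_28_0 lc_a_rc_28_0 lc_a_rc_4_2 lc_a_rc_5_2 lc_a_rc_5_2 lc_a_rc_4_0 lc_a_rc_0_0 lc_a_rc_4_2 lc_a_rc_3_2 lc_a_rc_2_2 lc_a_rc_0_0 lc_a_rc_2_2 lc_a_rc_29_0 lc_a_rc_3_0 lc_a_rc_6_2 lc_a_rc_6_2 lc_a_rc_29_0 lc_a_rc_0_0 lc_a_rc_4_2 lc_a_rc_29_0 lc_a_rc_2_2) (@D3.rec (fun _ => (Cert rels S Gen.a)) lc_a_rc_0_0 lc_a_rc_0_0 lc_a_rc_29_0 lc_a_rc_0_0 lc_a_rc_2_2 lc_a_rc_0_0 lc_a_rc_3_2 lc_a_rc_4_2 lc_a_rc_29_0 lc_a_rc_2_2 lc_a_rc_0_0 lc_a_rc_1_2 lc_a_rc_4_2 lc_a_rc_2_2 lc_a_rc_3_2 lc_a_rc_2_2 lc_a_rc_3_2 lc_a_rc_0_0 lc_a_rc_2_2 lc_a_rc_4_2 lc_a_rc_6_2 lc_a_rc_30_4 lc_a_rc_4_2 lc_a_rc_5_2 lc_a_rc_28_0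 lc_a_rc_0_0 lc_a_rc_0_0 lc_a_rc_28_0 lc_a_rc_5_2 lc_a_rc_6_2 lc_a_rc_4_2 lc_a_rc_6_2 lc_a_rc_28_0 lc_a_rc_0_0 lc_a_rc_4_2 lc_a_rc_2_2 lc_a_rc_1_2 lc_a_rc_5_2 lc_a_rc_30_8 lc_a_rc_28_0) (@D3.rec (fun _ => (Cert rels S Gen.a)) lc_a_rc_6_2 lc_a_rc_2_2 lc_a_rc_28_0 lc_a_rc_0_0 lc_a_rc_0_0 lc_a_rc_2_0 lc_a_rc_6_2 lc_a_rc_6_2 lc_a_rc_4_2 lc_a_rc_29_0 lc_a_rc_0_0 lc_a_rc_0_0 lc_a_rc_29_0 lc_a_rc_2_2 lc_a_rc_5_2 lc_a_rc_4_2 lc_a_rc_6_2 lc_a_rc_28_0 lc_a_rc_29_0 lc_a_rc_6_2 lc_a_rc_2_2 lc_a_rc_30_16 lc_a_rc_0_0 lc_a_rc_1_4 lc_a_rc_4_2 lc_a_rc_3_2 lc_a_rc_1_6 lc_a_rc_2_2 lc_a_rc_29_0 lc_a_rc_0_0 lc_a_rc_2_2 lc_a_rc_5_2 lc_a_rc_2_2 lc_a_rc_6_0 lc_a_rc_6_2 lc_a_rc_29_0 lc_a_rc_2_2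 lc_a_rc_5_2 lc_a_rc_0_1 lc_a_rc_0_0) (@D3.rec (fun _ => (Cert rels S Gen.a)) lc_a_rc_4_2 lc_a_rc_29_0 lc_a_rc_29_0 lc_a_rc_28_0 lc_a_rc_30_8 lc_a_rc_28_0 lc_a_rc_29_0 lc_a_rc_29_0 lc_a_rc_0_0 lc_a_rc_28_0 lc_a_rc_1_6 lc_a_rc_5_2 lc_a_rc_5_2 lc_a_rc_4_2 lc_a_rc_29_0 lc_a_rc_0_0 lc_a_rc_29_0 lc_a_rc_29_0 lc_a_rc_0_0 lc_a_rc_5_2 lc_a_rc_6_2 lc_a_rc_0_0 lc_a_rc_28_0 lc_a_rc_29_0 lc_a_rc_0_0 lc_a_rc_30_16 lc_a_rc_0_0 lc_a_rc_4_2 lc_a_rc_4_2 lc_a_rc_4_2 lc_a_rc_1_6 lc_a_rc_2_2 lc_a_rc_3_2 lc_a_rc_0_0 lc_a_rc_2_2 lc_a_rc_6_2 lc_a_rc_0_1 lc_a_rc_5_2 lc_a_rc_30_12 lc_a_rc_29_0) (@D3.rec (fun _ => (Cert rels S Gen.a)) lc_a_rc_2_2 lc_a_rc_6_2 lc_a_rc_2_2 lc_a_rc_28_0 lc_a_rc_30_16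 lc_a_rc_28_0 lc_a_rc_29_0 lc_a_rc_28_0 lc_a_rc_29_0 lc_a_rc_28_0 lc_a_Cert_tree lc_a_rc_28_0 lc_a_rc_28_0 lc_a_rc_29_0 lc_a_rc_0_0 lc_a_rc_28_0 lc_a_rc_3_2 lc_a_rc_4_2 lc_a_rc_0_1 lc_a_rc_0_0 lc_a_rc_28_0 lc_a_rc_2_2 lc_a_rc_28_0 lc_a_rc_28_0 lc_a_rc_29_0 lc_a_rc_29_0 lc_a_rc_29_0 lc_a_rc_0_0 lc_a_rc_4_2 lc_a_rc_6_2 lc_a_rc_6_2 lc_a_Cert_tree lc_a_rc_0_0 lc_a_rc_2_2 lc_a_rc_30_8 lc_a_rc_28_0 lc_a_rc_0_0 lc_a_rc_0_0 lc_a_rc_29_0 lc_a_Cert_tree) (@D3.rec (fun _ => (Cert rels S Gen.a)) lc_a_rc_1_6 lc_a_rc_3_2 lc_a_rc_0_0 lc_a_rc_5_0 lc_a_rc_0_0 lc_a_rc_1_6 lc_a_rc_29_0 lc_a_rc_28_0 lc_a_rc_29_0 lc_a_rc_29_0 lc_a_rc_1_4 lc_a_rc_28_0 lc_a_rc_1_4 lc_a_rc_3_2 lc_a_rc_28_0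 lc_a_rc_4_2 lc_a_rc_0_0 lc_a_rc_28_0 lc_a_rc_3_2 lc_a_rc_28_0 lc_a_rc_28_0 lc_a_rc_0_0 lc_a_rc_28_0 lc_a_rc_2_2 lc_a_rc_28_0 lc_a_rc_28_0 lc_a_rc_28_0 lc_a_rc_1_2 lc_a_rc_28_0 lc_a_rc_0_0 lc_a_rc_3_2 lc_a_rc_5_2 lc_a_rc_5_2 lc_a_Cert_tree lc_a_rc_0_0 lc_a_rc_2_2 lc_a_rc_0_0 lc_a_rc_0_1 lc_a_rc_0_0 lc_a_rc_30_16) (@D3.rec (fun _ => (Cert rels S Gen.a)) lc_a_rc_0_0 lc_a_Cert_tree lc_a_rc_1_6 lc_a_rc_0_0 lc_a_rc_28_0 lc_a_rc_0_0 lc_a_rc_29_0 lc_a_rc_1_2 lc_a_rc_5_2 lc_a_rc_30_8 lc_a_rc_2_2 lc_a_rc_0_0 lc_a_rc_3_2 lc_a_rc_28_0 lc_a_rc_28_0 lc_a_rc_0_0 lc_a_rc_3_2 lc_a_rc_5_2 lc_a_rc_2_2 lc_a_rc_4_2 lc_a_rc_5_2 lc_a_rc_29_0 lc_a_rc_29_0 lc_a_rc_28_0 lc_a_rc_28_0 lc_a_rc_3_0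 lc_a_rc_0_0 lc_a_rc_0_0 lc_a_rc_30_8 lc_a_rc_6_2 lc_a_rc_28_0 lc_a_rc_0_0 lc_a_rc_28_0 lc_a_rc_28_0 lc_a_rc_0_0 lc_a_rc_28_0 lc_a_rc_28_0 lc_a_rc_28_0 lc_a_rc_28_0 lc_a_rc_4_2) (@D3.rec (fun _ => (Cert rels S Gen.a)) lc_a_rc_4_2 lc_a_rc_28_0 lc_a_rc_3_2 lc_a_rc_0_1 lc_a_rc_1_4 lc_a_rc_1_6 lc_a_rc_3_2 lc_a_rc_5_2 lc_a_rc_28_0 lc_a_rc_4_2 lc_a_rc_5_2 lc_a_rc_3_2 lc_a_rc_0_1 lc_a_rc_2_0 lc_a_rc_2_2 lc_a_rc_4_2 lc_a_rc_5_2 lc_a_rc_1_6 lc_a_rc_2_2 lc_a_rc_5_2 lc_a_rc_4_2 lc_a_rc_28_0 lc_a_rc_2_2 lc_a_rc_3_2 lc_a_rc_3_2 lc_a_rc_0_0 lc_a_rc_2_2 lc_a_Cert_tree lc_a_rc_2_2 lc_a_rc_0_0 lc_a_rc_2_2 lc_a_rc_29_0 lc_a_rc_29_0 lc_a_rc_3_2 lc_a_rc_29_0 lc_a_rc_0_0 lc_a_rc_28_0 lc_a_Cert_tree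 lc_a_rc_2_2 lc_a_rc_1_4) (@D3.rec (fun _ => (Cert rels S Gen.a)) lc_a_rc_2_0 lc_a_rc_2_2 lc_a_rc_5_2 lc_a_rc_6_2 lc_a_rc_29_0 lc_a_rc_29_0 lc_a_rc_29_0 lc_a_rc_2_2 lc_a_rc_28_0 lc_a_rc_1_8 lc_a_rc_29_0 lc_a_rc_0_0 lc_a_Cert_tree lc_a_Cert_tree lc_a_rc_3_2 lc_a_rc_0_0 lc_a_rc_2_2 lc_a_rc_0_0 lc_a_rc_0_0 lc_a_rc_4_2 lc_a_rc_6_2 lc_a_rc_6_2 lc_a_rc_1_6 lc_a_rc_3_2 lc_a_rc_6_2 lc_a_rc_5_0 lc_a_rc_4_2 lc_a_rc_28_0 lc_a_rc_5_2 lc_a_rc_0_0 lc_a_rc_28_0 lc_a_rc_3_2 lc_a_rc_5_2 lc_a_rc_28_0 lc_a_rc_3_2 lc_a_rc_4_2 lc_a_rc_28_0 lc_a_rc_0_0 lc_a_rc_0_1 lc_a_rc_28_0) (@D3.rec (fun _ => (Cert rels S Gen.a)) lc_a_rc_2_2 lc_a_rc_1_8 lc_a_rc_3_2 lc_a_rc_4_2 lc_a_Cert_tree lc_a_rc_0_0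 lc_a_rc_0_0 lc_a_Cert_tree lc_a_rc_3_2 lc_a_rc_0_0 lc_a_rc_0_1 lc_a_rc_6_0 lc_a_rc_2_2 lc_a_rc_3_2 lc_a_rc_28_0 lc_a_rc_2_0 lc_a_rc_0_0 lc_a_rc_0_0 lc_a_rc_3_2 lc_a_rc_6_2 lc_a_rc_28_0 lc_a_rc_2_2 lc_a_rc_30_8 lc_a_rc_3_2 lc_a_rc_28_0 lc_a_rc_28_0 lc_a_rc_3_2 lc_a_rc_6_2 lc_a_rc_2_2 lc_a_rc_4_2 lc_a_rc_6_2 lc_a_rc_28_0 lc_a_rc_29_0 lc_a_rc_28_0 lc_a_rc_28_0 lc_a_rc_3_0 lc_a_rc_0_0 lc_a_rc_28_0 lc_a_rc_29_0 lc_a_rc_28_0) (@D3.rec (fun _ => (Cert rels S Gen.a)) lc_a_rc_3_2 lc_a_rc_3_2 lc_a_rc_28_0 lc_a_rc_28_0 lc_a_rc_28_0 lc_a_rc_29_0 lc_a_rc_29_0 lc_a_rc_28_0 lc_a_rc_29_0 lc_a_rc_0_1 lc_a_rc_1_4 lc_a_rc_4_0 lc_a_rc_3_2 lc_a_rc_6_2 lc_a_rc_28_0 lc_a_rc_4_2 lc_a_rc_0_0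 lc_a_rc_6_2 lc_a_rc_0_1 lc_a_rc_28_0 lc_a_rc_4_2 lc_a_rc_6_2 lc_a_rc_2_2 lc_a_rc_0_0 lc_a_rc_6_2 lc_a_rc_0_0 lc_a_rc_2_2 lc_a_rc_6_2 lc_a_rc_2_2 lc_a_rc_29_0 lc_a_rc_29_0 lc_a_rc_3_2 lc_a_rc_29_0 lc_a_rc_0_0 lc_a_rc_0_1 lc_a_rc_2_2 lc_a_rc_1_4 lc_a_rc_28_0 lc_a_rc_2_2 lc_a_rc_5_2) (@D3.rec (fun _ => (Cert rels S Gen.a)) lc_a_rc_6_2 lc_a_rc_29_0 lc_a_rc_4_2 lc_a_rc_28_0 lc_a_rc_0_0 lc_a_rc_29_0 lc_a_rc_4_2 lc_a_rc_0_0 lc_a_rc_1_2 lc_a_rc_29_0 lc_a_rc_3_2 lc_a_rc_0_1 lc_a_rc_0_0 lc_a_rc_29_0 lc_a_rc_5_2 lc_a_rc_5_2 lc_a_rc_3_2 lc_a_rc_5_2 lc_a_rc_4_2 lc_a_rc_28_0 lc_a_rc_1_6 lc_a_rc_0_0 lc_a_rc_28_0 lc_a_rc_3_2 lc_a_rc_28_0 lc_a_rc_29_0 lc_a_rc_2_2 lc_a_rc_28_0 lc_a_rc_6_2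 lc_a_rc_4_2 lc_a_Cert_tree lc_a_rc_0_0 lc_a_rc_0_0 lc_a_rc_0_1 lc_a_rc_3_2 lc_a_rc_29_0 lc_a_rc_30_8 lc_a_rc_3_2 lc_a_rc_28_0 lc_a_rc_29_0) (@D3.rec (fun _ => (Cert rels S Gen.a)) lc_a_rc_4_2 lc_a_rc_29_0 lc_a_rc_2_2 lc_a_rc_2_2 lc_a_rc_2_2 lc_a_rc_2_2 lc_a_rc_4_2 lc_a_rc_2_2 lc_a_rc_2_2 lc_a_rc_28_0 lc_a_rc_28_0 lc_a_rc_3_2 lc_a_rc_28_0 lc_a_rc_2_2 lc_a_rc_3_2 lc_a_rc_1_6 lc_a_rc_2_2 lc_a_rc_28_0 lc_a_rc_4_2 lc_a_rc_4_2 lc_a_rc_29_0 lc_a_rc_2_2 lc_a_rc_2_2 lc_a_rc_28_0 lc_a_rc_0_0 lc_a_rc_29_0 lc_a_rc_29_0 lc_a_rc_2_2 lc_a_rc_28_0 lc_a_rc_2_2 lc_a_rc_4_2 lc_a_rc_28_0 lc_a_rc_2_2 lc_a_rc_28_0 lc_a_rc_28_0 lc_a_rc_3_2 lc_a_rc_0_1 lc_a_rc_29_0 lc_a_rc_2_2 lc_a_rc_28_0)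 (@D3.rec (fun _ => (Cert rels S Gen.a)) lc_a_rc_4_2 lc_a_rc_2_2 lc_a_rc_3_2 lc_a_rc_3_2 lc_a_rc_29_0 lc_a_rc_1_8 lc_a_rc_2_2 lc_a_rc_4_2 lc_a_rc_6_2 lc_a_rc_5_2 lc_a_rc_2_2 lc_a_rc_28_0 lc_a_rc_28_0 lc_a_rc_29_0 lc_a_rc_28_0 lc_a_rc_0_0 lc_a_rc_2_2 lc_a_rc_28_0 lc_a_rc_28_0 lc_a_rc_28_0 lc_a_rc_6_2 lc_a_rc_3_2 lc_a_rc_6_2 lc_a_rc_28_0 lc_a_rc_28_0 lc_a_rc_28_0 lc_a_rc_0_0 lc_a_rc_2_2 lc_a_rc_0_0 lc_a_rc_29_0 lc_a_rc_4_2 lc_a_rc_6_2 lc_a_rc_5_2 lc_a_rc_5_2 lc_a_rc_3_2 lc_a_rc_28_0 lc_a_rc_28_0 lc_a_rc_4_2 lc_a_rc_1_4 lc_a_rc_30_12)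
def ce_a_21 : D2 → D3 → (Cert rels S Gen.a) := @D2.rec (fun _ => D3 → (Cert rels S Gen.a)) (@D3.rec (fun _ => (Cert rels S Gen.a)) lc_a_rc_0_0 lc_a_rc_28_0 lc_a_rc_29_0 lc_a_rc_5_2 lc_a_rc_30_4 lc_a_rc_28_0 lc_a_rc_0_0 lc_a_rc_28_0 lc_a_rc_28_0 lc_a_rc_6_2 lc_a_rc_3_2 lc_a_rc_3_2 lc_a_rc_4_2 lc_a_rc_4_2 lc_a_rc_4_2 lc_a_rc_28_0 lc_a_rc_28_0 lc_a_rc_28_0 lc_a_rc_2_2 lc_a_rc_0_1 lc_a_rc_5_2 lc_a_rc_3_2 lc_a_rc_5_2 lc_a_rc_28_0 lc_a_rc_29_0 lc_a_rc_0_0 lc_a_rc_2_2 lc_a_rc_29_0 lc_a_rc_29_0 lc_a_rc_2_2 lc_a_rc_2_2 lc_a_rc_2_2 lc_a_rc_29_0 lc_a_rc_3_2 lc_a_rc_2_2 lc_a_rc_28_0 lc_a_rc_4_2 lc_a_rc_4_2 lc_a_rc_0_0 lc_a_rc_2_2) (@D3.rec (fun _ => (Cert rels S Gen.a)) lc_a_rc_2_2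 lc_a_rc_0_0 lc_a_rc_28_0 lc_a_rc_29_0 lc_a_rc_4_2 lc_a_rc_28_0 lc_a_rc_2_2 lc_a_rc_28_0 lc_a_rc_29_0 lc_a_rc_3_2 lc_a_rc_0_1 lc_a_rc_2_2 lc_a_rc_28_0 lc_a_rc_2_2 lc_a_rc_5_2 lc_a_rc_6_2 lc_a_rc_28_0 lc_a_rc_4_2 lc_a_rc_5_2 lc_a_rc_1_4 lc_a_rc_29_0 lc_a_rc_0_1 lc_a_rc_28_0 lc_a_rc_28_0 lc_a_rc_29_0 lc_a_rc_5_2 lc_a_rc_3_2 lc_a_rc_5_2 lc_a_rc_28_0 lc_a_rc_28_0 lc_a_rc_1_2 lc_a_rc_0_0 lc_a_rc_28_0 lc_a_rc_28_0 lc_a_rc_28_0 lc_a_rc_28_0 lc_a_rc_29_0 lc_a_rc_0_0 lc_a_rc_28_0 lc_a_rc_29_0) (@D3.rec (fun _ => (Cert rels S Gen.a)) lc_a_rc_0_1 lc_a_rc_28_0 lc_a_rc_29_0 lc_a_rc_3_2 lc_a_rc_5_2 lc_a_rc_4_0 lc_a_rc_3_2 lc_a_rc_4_2 lc_a_rc_4_2 lc_a_rc_29_0 lc_a_rc_29_0 lc_a_rc_28_0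 lc_a_rc_2_2 lc_a_rc_29_0 lc_a_rc_6_2 lc_a_rc_3_2 lc_a_rc_6_2 lc_a_rc_28_0 lc_a_rc_0_0 lc_a_rc_4_2 lc_a_rc_5_2 lc_a_rc_3_2 lc_a_rc_1_6 lc_a_rc_28_0 lc_a_rc_5_2 lc_a_rc_28_0 lc_a_rc_28_0 lc_a_rc_29_0 lc_a_rc_29_0 lc_a_rc_6_2 lc_a_rc_28_0 lc_a_rc_29_0 lc_a_rc_0_0 lc_a_rc_4_0 lc_a_rc_29_0 lc_a_rc_2_2 lc_a_rc_5_2 lc_a_rc_6_2 lc_a_rc_6_2 lc_a_rc_4_2) (@D3.rec (fun _ => (Cert rels S Gen.a)) lc_a_rc_28_0 lc_a_rc_29_0 lc_a_rc_4_2 lc_a_rc_4_2 lc_a_rc_0_0 lc_a_rc_28_0 lc_a_rc_2_2 lc_a_rc_2_2 lc_a_rc_4_2 lc_a_rc_4_0 lc_a_rc_1_4 lc_a_rc_28_0 lc_a_rc_3_2 lc_a_rc_29_0 lc_a_rc_29_0 lc_a_rc_2_2 lc_a_rc_6_2 lc_a_rc_4_2 lc_a_rc_6_2 lc_a_rc_3_2 lc_a_rc_6_0 lc_a_rc_1_6 lc_a_rc_6_2 lc_a_rc_0_1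 lc_a_rc_28_0 lc_a_rc_28_0 lc_a_rc_28_0 lc_a_rc_5_2 lc_a_rc_28_0 lc_a_rc_29_0 lc_a_rc_0_0 lc_a_rc_2_2 lc_a_rc_29_0 lc_a_rc_29_0 lc_a_rc_5_2 lc_a_rc_6_2 lc_a_rc_0_0 lc_a_rc_6_0 lc_a_rc_29_0 lc_a_rc_1_2) (@D3.rec (fun _ => (Cert rels S Gen.a)) lc_a_rc_4_2 lc_a_rc_4_2 lc_a_rc_2_0 lc_a_rc_29_0 lc_a_rc_4_2 lc_a_rc_29_0 lc_a_rc_4_2 lc_a_rc_3_2 lc_a_rc_30_16 lc_a_rc_5_2 lc_a_rc_3_2 lc_a_rc_0_0 lc_a_rc_0_0 lc_a_rc_4_2 lc_a_rc_5_2 lc_a_rc_6_2 lc_a_rc_28_0 lc_a_rc_28_0 lc_a_rc_30_8 lc_a_rc_28_0 lc_a_rc_0_1 lc_a_rc_28_0 lc_a_rc_0_0 lc_a_rc_0_0 lc_a_rc_28_0 lc_a_rc_28_0 lc_a_rc_4_2 lc_a_rc_28_0 lc_a_rc_28_0 lc_a_rc_0_0 lc_a_rc_5_2 lc_a_rc_28_0 lc_a_rc_28_0 lc_a_rc_0_1 lc_a_rc_28_0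 lc_a_rc_30_8 lc_a_rc_0_0 lc_a_rc_5_0 lc_a_rc_28_0 lc_a_rc_4_2) (@D3.rec (fun _ => (Cert rels S Gen.a)) lc_a_rc_3_2 lc_a_rc_28_0 lc_a_rc_0_1 lc_a_rc_0_0 lc_a_rc_3_2 lc_a_rc_6_2 lc_a_rc_28_0 lc_a_rc_5_2 lc_a_rc_30_16 lc_a_rc_3_2 lc_a_rc_4_2 lc_a_rc_1_4 lc_a_rc_3_2 lc_a_rc_3_2 lc_a_rc_3_2 lc_a_rc_28_0 lc_a_rc_3_2 lc_a_rc_3_2 lc_a_rc_28_0 lc_a_rc_3_2 lc_a_rc_3_2 lc_a_rc_3_2 lc_a_rc_28_0 lc_a_rc_28_0 lc_a_rc_4_2 lc_a_rc_3_2 lc_a_rc_0_0 lc_a_rc_3_2 lc_a_rc_4_2 lc_a_rc_1_4 lc_a_rc_4_2 lc_a_rc_28_0 lc_a_rc_29_0 lc_a_rc_2_2 lc_a_rc_4_2 lc_a_rc_4_2 lc_a_rc_28_0 lc_a_rc_29_0 lc_a_rc_29_0 lc_a_rc_1_2) (@D3.rec (fun _ => (Cert rels S Gen.a)) lc_a_rc_5_2 lc_a_Cert_tree lc_a_rc_2_2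 lc_a_rc_29_0 lc_a_rc_2_2 lc_a_rc_29_0 lc_a_rc_2_2 lc_a_rc_4_2 lc_a_rc_4_2 lc_a_rc_28_0 lc_a_rc_28_0 lc_a_rc_4_2 lc_a_rc_1_2 lc_a_rc_6_2 lc_a_Cert_tree lc_a_rc_2_2 lc_a_rc_5_0 lc_a_Cert_tree lc_a_rc_2_2 lc_a_rc_6_2 lc_a_rc_1_4 lc_a_rc_29_0 lc_a_Cert_tree lc_a_rc_28_0 lc_a_rc_4_2 lc_a_rc_0_0 lc_a_rc_5_2 lc_a_rc_29_0 lc_a_rc_28_0 lc_a_rc_28_0 lc_a_Cert_tree lc_a_rc_2_2 lc_a_rc_28_0 lc_a_rc_28_0 lc_a_Cert_tree lc_a_Cert_tree lc_a_rc_0_0 lc_a_rc_28_0 lc_a_rc_29_0 lc_a_rc_30_8) (@D3.rec (fun _ => (Cert rels S Gen.a)) lc_a_rc_28_0 lc_a_Cert_tree lc_a_rc_4_2 lc_a_rc_28_0 lc_a_rc_28_0 lc_a_rc_2_2 lc_a_rc_28_0 lc_a_rc_28_0 lc_a_rc_28_0 lc_a_rc_2_2 lc_a_rc_6_2 lc_a_rc_2_2 lc_a_rc_5_2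 lc_a_rc_1_4 lc_a_rc_5_0 lc_a_rc_30_8 lc_a_rc_2_2 lc_a_rc_29_0 lc_a_rc_0_1 lc_a_rc_0_0 lc_a_rc_0_1 lc_a_rc_29_0 lc_a_rc_2_2 lc_a_rc_28_0 lc_a_rc_28_0 lc_a_rc_2_2 lc_a_rc_28_0 lc_a_rc_28_0 lc_a_rc_0_1 lc_a_rc_29_0 lc_a_rc_29_0 lc_a_rc_2_0 lc_a_rc_2_2 lc_a_rc_2_2 lc_a_rc_30_16 lc_a_rc_4_0 lc_a_rc_29_0 lc_a_rc_28_0 lc_a_rc_28_0 lc_a_rc_0_0) (@D3.rec (fun _ => (Cert rels S Gen.a)) lc_a_rc_30_12 lc_a_rc_2_2 lc_a_rc_4_2 lc_a_rc_30_12 lc_a_rc_2_2 lc_a_rc_0_0 lc_a_rc_28_0 lc_a_rc_5_2 lc_a_rc_0_1 lc_a_rc_0_0 lc_a_rc_0_0 lc_a_rc_28_0 lc_a_rc_0_1 lc_a_rc_1_2 lc_a_rc_0_0 lc_a_rc_1_2 lc_a_rc_0_0 lc_a_rc_0_0 lc_a_rc_28_0 lc_a_rc_29_0 lc_a_rc_1_2 lc_a_rc_0_0 lc_a_rc_5_0 lc_a_rc_1_6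 lc_a_rc_28_0 lc_a_rc_28_0 lc_a_rc_0_0 lc_a_rc_28_0 lc_a_rc_5_2 lc_a_rc_28_0 lc_a_rc_1_6 lc_a_rc_28_0 lc_a_rc_28_0 lc_a_rc_2_0 lc_a_rc_28_0 lc_a_rc_28_0 lc_a_rc_28_0 lc_a_rc_29_0 lc_a_rc_2_2 lc_a_rc_2_2) (@D3.rec (fun _ => (Cert rels S Gen.a)) lc_a_rc_0_0 lc_a_rc_29_0 lc_a_rc_0_0 lc_a_rc_2_2 lc_a_rc_2_2 lc_a_rc_0_0 lc_a_rc_1_6 lc_a_rc_3_2 lc_a_rc_28_0 lc_a_rc_4_2 lc_a_rc_30_8 lc_a_rc_3_2 lc_a_rc_5_0 lc_a_rc_29_0 lc_a_rc_28_0 lc_a_rc_3_2 lc_a_rc_3_2 lc_a_rc_0_0 lc_a_rc_4_2 lc_a_rc_4_2 lc_a_rc_3_2 lc_a_rc_2_2 lc_a_rc_3_2 lc_a_rc_28_0 lc_a_rc_4_2 lc_a_rc_5_0 lc_a_rc_3_2 lc_a_rc_28_0 lc_a_rc_28_0 lc_a_rc_3_2 lc_a_rc_1_2 lc_a_rc_29_0 lc_a_rc_28_0 lc_a_rc_4_2 lc_a_rc_4_2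 lc_a_rc_3_2 lc_a_rc_6_2 lc_a_rc_0_0 lc_a_rc_0_0 lc_a_rc_2_2) (@D3.rec (fun _ => (Cert rels S Gen.a)) lc_a_rc_3_0 lc_a_rc_2_2 lc_a_rc_28_0 lc_a_rc_28_0 lc_a_rc_3_2 lc_a_rc_29_0 lc_a_rc_6_2 lc_a_rc_0_0 lc_a_rc_28_0 lc_a_rc_4_2 lc_a_rc_28_0 lc_a_rc_3_2 lc_a_rc_29_0 lc_a_rc_3_2 lc_a_rc_1_6 lc_a_rc_28_0 lc_a_rc_0_0 lc_a_rc_3_2 lc_a_rc_28_0 lc_a_rc_3_2 lc_a_rc_3_2 lc_a_rc_0_0 lc_a_rc_0_0 lc_a_rc_29_0 lc_a_rc_4_2 lc_a_rc_2_2 lc_a_rc_29_0 lc_a_rc_28_0 lc_a_rc_29_0 lc_a_rc_2_0 lc_a_rc_30_8 lc_a_rc_0_0 lc_a_rc_28_0 lc_a_rc_3_2 lc_a_rc_29_0 lc_a_rc_28_0 lc_a_rc_0_0 lc_a_rc_6_2 lc_a_rc_30_16 lc_a_rc_2_2) (@D3.rec (fun _ => (Cert rels S Gen.a)) lc_a_rc_4_2 lc_a_rc_6_2 lc_a_rc_0_1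 lc_a_rc_0_0 lc_a_rc_2_2 lc_a_rc_29_0 lc_a_rc_29_0 lc_a_rc_1_2 lc_a_rc_29_0 lc_a_rc_28_0 lc_a_rc_28_0 lc_a_rc_28_0 lc_a_rc_0_0 lc_a_rc_0_0 lc_a_rc_29_0 lc_a_rc_1_4 lc_a_rc_0_0 lc_a_rc_30_16 lc_a_rc_0_0 lc_a_rc_5_2 lc_a_rc_6_2 lc_a_rc_30_12 lc_a_rc_0_0 lc_a_rc_5_2 lc_a_rc_30_8 lc_a_rc_0_0 lc_a_rc_1_4 lc_a_rc_2_2 lc_a_rc_30_12 lc_a_Cert_tree lc_a_rc_0_0 lc_a_rc_2_2 lc_a_rc_1_4 lc_a_rc_3_2 lc_a_rc_3_2 lc_a_rc_5_2 lc_a_rc_4_2 lc_a_rc_0_0 lc_a_rc_1_4 lc_a_rc_2_2) (@D3.rec (fun _ => (Cert rels S Gen.a)) lc_a_rc_28_0 lc_a_rc_2_2 lc_a_rc_2_2 lc_a_rc_28_0 lc_a_rc_28_0 lc_a_rc_4_2 lc_a_rc_5_2 lc_a_rc_28_0 lc_a_rc_0_0 lc_a_rc_2_2 lc_a_rc_28_0 lc_a_rc_0_1 lc_a_rc_5_2 lc_a_rc_0_0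 lc_a_rc_28_0 lc_a_rc_1_2 lc_a_rc_2_2 lc_a_rc_28_0 lc_a_rc_2_2 lc_a_rc_4_2 lc_a_rc_5_0 lc_a_rc_28_0 lc_a_rc_0_0 lc_a_rc_28_0 lc_a_rc_28_0 lc_a_rc_3_2 lc_a_rc_6_2 lc_a_rc_28_0 lc_a_rc_28_0 lc_a_rc_1_2 lc_a_rc_2_2 lc_a_rc_28_0 lc_a_rc_0_1 lc_a_rc_6_2 lc_a_rc_29_0 lc_a_rc_1_2 lc_a_rc_3_2 lc_a_rc_3_2 lc_a_rc_2_2 lc_a_rc_4_2) (@D3.rec (fun _ => (Cert rels S Gen.a)) lc_a_rc_28_0 lc_a_rc_29_0 lc_a_rc_28_0 lc_a_rc_1_2 lc_a_rc_2_2 lc_a_rc_3_2 lc_a_rc_4_2 lc_a_rc_4_2 lc_a_rc_5_0 lc_a_rc_6_2 lc_a_rc_3_2 lc_a_rc_4_2 lc_a_rc_4_2 lc_a_rc_1_2 lc_a_rc_3_2 lc_a_rc_2_2 lc_a_rc_0_0 lc_a_rc_5_2 lc_a_rc_1_4 lc_a_rc_0_0 lc_a_rc_4_2 lc_a_rc_4_2 lc_a_rc_1_8 lc_a_rc_4_2 lc_a_rc_28_0 lc_a_rc_1_4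 lc_a_rc_2_2 lc_a_rc_3_2 lc_a_rc_29_0 lc_a_rc_2_2 lc_a_rc_28_0 lc_a_rc_29_0 lc_a_rc_28_0 lc_a_Cert_tree lc_a_rc_0_0 lc_a_rc_28_0 lc_a_rc_0_0 lc_a_rc_5_2 lc_a_rc_1_4 lc_a_rc_28_0) (@D3.rec (fun _ => (Cert rels S Gen.a)) lc_a_rc_0_0 lc_a_rc_2_2 lc_a_rc_0_0 lc_a_rc_29_0 lc_a_rc_3_2 lc_a_rc_0_1 lc_a_rc_28_0 lc_a_rc_0_1 lc_a_rc_2_2 lc_a_rc_0_1 lc_a_rc_0_1 lc_a_rc_0_0 lc_a_rc_28_0 lc_a_rc_29_0 lc_a_rc_2_2 lc_a_rc_5_2 lc_a_rc_5_2 lc_a_rc_29_0 lc_a_rc_0_0 lc_a_rc_28_0 lc_a_rc_5_2 lc_a_rc_29_0 lc_a_rc_1_6 lc_a_rc_4_0 lc_a_rc_29_0 lc_a_rc_29_0 lc_a_rc_6_2 lc_a_rc_2_2 lc_a_rc_29_0 lc_a_rc_29_0 lc_a_rc_0_0 lc_a_rc_29_0 lc_a_rc_6_2 lc_a_rc_0_0 lc_a_rc_6_2 lc_a_rc_0_0 lc_a_rc_3_2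 lc_a_rc_4_2 lc_a_rc_2_2 lc_a_rc_4_2) (@D3.rec (fun _ => (Cert rels S Gen.a)) lc_a_rc_28_0 lc_a_rc_28_0 lc_a_rc_28_0 lc_a_rc_0_1 lc_a_rc_1_6 lc_a_rc_5_2 lc_a_rc_5_2 lc_a_rc_29_0 lc_a_rc_3_2 lc_a_rc_3_2 lc_a_rc_6_2 lc_a_rc_2_2 lc_a_rc_4_2 lc_a_rc_28_0 lc_a_rc_1_4 lc_a_rc_29_0 lc_a_rc_29_0 lc_a_rc_0_0 lc_a_rc_6_2 lc_a_rc_6_2 lc_a_rc_0_0 lc_a_rc_3_2 lc_a_rc_5_2 lc_a_rc_3_0 lc_a_rc_1_2 lc_a_rc_28_0 lc_a_rc_5_2 lc_a_rc_0_0 lc_a_rc_0_0 lc_a_rc_2_2 lc_a_rc_4_2 lc_a_rc_28_0 lc_a_rc_3_2 lc_a_rc_28_0 lc_a_rc_6_2 lc_a_rc_3_0 lc_a_rc_0_0 lc_a_rc_5_2 lc_a_rc_6_2 lc_a_rc_4_2) (@D3.rec (fun _ => (Cert rels S Gen.a)) lc_a_rc_1_6 lc_a_rc_30_8 lc_a_rc_28_0 lc_a_rc_28_0 lc_a_rc_3_2 lc_a_rc_28_0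 lc_a_rc_0_0 lc_a_rc_0_0 lc_a_rc_28_0 lc_a_rc_0_0 lc_a_rc_6_0 lc_a_rc_28_0 lc_a_rc_6_0 lc_a_rc_2_2 lc_a_rc_0_0 lc_a_rc_29_0 lc_a_Cert_tree lc_a_rc_29_0 lc_a_rc_0_0 lc_a_rc_1_6 lc_a_rc_5_2 lc_a_rc_29_0 lc_a_rc_0_0 lc_a_rc_6_2 lc_a_rc_4_0 lc_a_rc_28_0 lc_a_rc_2_2 lc_a_rc_28_0 lc_a_rc_0_0 lc_a_rc_28_0 lc_a_rc_29_0 lc_a_rc_5_2 lc_a_rc_28_0 lc_a_rc_28_0 lc_a_rc_1_2 lc_a_rc_3_2 lc_a_rc_6_2 lc_a_rc_4_2 lc_a_rc_2_2 lc_a_rc_0_0) (@D3.rec (fun _ => (Cert rels S Gen.a)) lc_a_rc_28_0 lc_a_Cert_tree lc_a_rc_0_0 lc_a_rc_0_0 lc_a_rc_0_1 lc_a_rc_0_0 lc_a_rc_6_2 lc_a_rc_6_2 lc_a_rc_28_0 lc_a_rc_2_2 lc_a_rc_6_2 lc_a_rc_29_0 lc_a_rc_29_0 lc_a_rc_3_2 lc_a_rc_28_0 lc_a_rc_28_0 lc_a_rc_0_0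 lc_a_rc_28_0 lc_a_rc_4_2 lc_a_rc_0_0 lc_a_rc_2_2 lc_a_rc_29_0 lc_a_rc_2_2 lc_a_rc_28_0 lc_a_rc_28_0 lc_a_rc_28_0 lc_a_rc_29_0 lc_a_rc_0_0 lc_a_rc_28_0 lc_a_rc_0_0 lc_a_rc_29_0 lc_a_rc_2_2 lc_a_rc_29_0 lc_a_rc_28_0 lc_a_rc_5_2 lc_a_rc_30_16 lc_a_rc_3_2 lc_a_rc_2_2 lc_a_rc_1_4 lc_a_rc_2_2) (@D3.rec (fun _ => (Cert rels S Gen.a)) lc_a_rc_2_2 lc_a_rc_28_0 lc_a_rc_29_0 lc_a_rc_2_2 lc_a_rc_28_0 lc_a_rc_0_0 lc_a_rc_3_2 lc_a_rc_28_0 lc_a_rc_3_2 lc_a_rc_28_0 lc_a_rc_4_2 lc_a_rc_2_2 lc_a_rc_30_16 lc_a_rc_3_2 lc_a_rc_4_2 lc_a_rc_30_12 lc_a_rc_3_2 lc_a_rc_4_2 lc_a_rc_1_6 lc_a_rc_28_0 lc_a_rc_2_2 lc_a_rc_30_12 lc_a_rc_29_0 lc_a_rc_4_2 lc_a_rc_0_1 lc_a_rc_2_2 lc_a_rc_2_2 lc_a_rc_5_2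 lc_a_rc_28_0 lc_a_rc_5_2 lc_a_rc_2_2 lc_a_rc_30_12 lc_a_rc_28_0 lc_a_rc_2_2 lc_a_rc_30_16 lc_a_rc_30_8 lc_a_rc_2_2 lc_a_rc_28_0 lc_a_rc_2_2 lc_a_rc_2_2) (@D3.rec (fun _ => (Cert rels S Gen.a)) lc_a_rc_6_2 lc_a_rc_28_0 lc_a_rc_6_2 lc_a_rc_2_2 lc_a_rc_30_8 lc_a_rc_28_0 lc_a_rc_0_0 lc_a_rc_0_0 lc_a_rc_28_0 lc_a_rc_0_0 lc_a_rc_1_4 lc_a_rc_6_2 lc_a_rc_0_0 lc_a_rc_2_2 lc_a_rc_1_2 lc_a_rc_2_2 lc_a_rc_30_4 lc_a_rc_29_0 lc_a_rc_30_12 lc_a_rc_0_0 lc_a_rc_0_0 lc_a_rc_4_2 lc_a_rc_28_0 lc_a_rc_28_0 lc_a_rc_0_0 lc_a_rc_5_2 lc_a_rc_0_0 lc_a_rc_2_2 lc_a_rc_1_2 lc_a_rc_2_2 lc_a_rc_0_0 lc_a_rc_0_0 lc_a_rc_30_12 lc_a_rc_0_0 lc_a_rc_6_2 lc_a_rc_3_2 lc_a_rc_5_2 lc_a_rc_28_0 lc_a_rc_29_0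 lc_a_rc_28_0) (@D3.rec (fun _ => (Cert rels S Gen.a)) lc_a_rc_28_0 lc_a_rc_28_0 lc_a_rc_28_0 lc_a_rc_29_0 lc_a_rc_3_2 lc_a_rc_4_0 lc_a_rc_4_2 lc_a_rc_5_2 lc_a_rc_30_8 lc_a_rc_2_2 lc_a_rc_5_2 lc_a_rc_1_6 lc_a_rc_2_2 lc_a_Cert_tree lc_a_rc_2_2 lc_a_rc_29_0 lc_a_rc_0_0 lc_a_rc_29_0 lc_a_rc_2_2 lc_a_rc_0_0 lc_a_rc_2_2 lc_a_rc_2_2 lc_a_rc_29_0 lc_a_Cert_tree lc_a_Cert_tree lc_a_rc_0_0 lc_a_rc_0_0 lc_a_rc_4_2 lc_a_rc_2_2 lc_a_rc_28_0 lc_a_rc_6_2 lc_a_rc_29_0 lc_a_rc_3_2 lc_a_rc_6_2 lc_a_rc_4_2 lc_a_rc_29_0 lc_a_rc_3_2 lc_a_rc_28_0 lc_a_rc_4_2 lc_a_rc_1_6) (@D3.rec (fun _ => (Cert rels S Gen.a)) lc_a_rc_2_2 lc_a_rc_29_0 lc_a_rc_0_0 lc_a_Cert_tree lc_a_rc_0_0 lc_a_rc_3_2 lc_a_rc_4_2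 lc_a_rc_3_2 lc_a_rc_2_2 lc_a_rc_29_0 lc_a_rc_28_0 lc_a_rc_28_0 lc_a_rc_28_0 lc_a_rc_28_0 lc_a_rc_29_0 lc_a_rc_28_0 lc_a_rc_3_2 lc_a_rc_6_2 lc_a_rc_4_2 lc_a_rc_6_2 lc_a_rc_28_0 lc_a_rc_6_2 lc_a_rc_4_2 lc_a_rc_2_2 lc_a_rc_28_0 lc_a_rc_2_2 lc_a_rc_4_2 lc_a_rc_1_2 lc_a_rc_29_0 lc_a_rc_29_0 lc_a_rc_28_0 lc_a_rc_5_2 lc_a_rc_4_2 lc_a_rc_28_0 lc_a_rc_29_0 lc_a_rc_0_0 lc_a_rc_0_1 lc_a_rc_3_2 lc_a_rc_29_0 lc_a_rc_3_2) (@D3.rec (fun _ => (Cert rels S Gen.a)) lc_a_rc_4_2 lc_a_rc_28_0 lc_a_rc_29_0 lc_a_rc_28_0 lc_a_rc_28_0 lc_a_rc_28_0 lc_a_rc_28_0 lc_a_rc_28_0 lc_a_rc_1_4 lc_a_rc_2_2 lc_a_rc_29_0 lc_a_rc_2_2 lc_a_rc_3_0 lc_a_rc_3_2 lc_a_rc_1_8 lc_a_rc_1_6 lc_a_rc_4_2 lc_a_rc_0_1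 lc_a_rc_28_0 lc_a_rc_28_0 lc_a_rc_28_0 lc_a_rc_30_8 lc_a_rc_29_0 lc_a_rc_0_1 lc_a_rc_1_2 lc_a_rc_28_0 lc_a_rc_28_0 lc_a_rc_29_0 lc_a_rc_28_0 lc_a_rc_0_1 lc_a_rc_30_16 lc_a_rc_29_0 lc_a_rc_30_8 lc_a_rc_0_0 lc_a_rc_29_0 lc_a_rc_28_0 lc_a_rc_29_0 lc_a_rc_0_0 lc_a_rc_29_0 lc_a_rc_5_0) (@D3.rec (fun _ => (Cert rels S Gen.a)) lc_a_rc_0_0 lc_a_rc_28_0 lc_a_rc_1_2 lc_a_rc_0_0 lc_a_rc_28_0 lc_a_rc_2_2 lc_a_rc_28_0 lc_a_rc_5_2 lc_a_rc_30_8 lc_a_rc_0_0 lc_a_rc_28_0 lc_a_rc_3_0 lc_a_rc_0_0 lc_a_rc_28_0 lc_a_rc_0_0 lc_a_rc_28_0 lc_a_rc_28_0 lc_a_rc_0_0 lc_a_rc_0_1 lc_a_rc_1_6 lc_a_rc_28_0 lc_a_rc_28_0 lc_a_rc_28_0 lc_a_rc_28_0 lc_a_rc_28_0 lc_a_rc_28_0 lc_a_rc_1_2 lc_a_rc_3_2 lc_a_rc_28_0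 lc_a_rc_2_2 lc_a_rc_3_2 lc_a_rc_30_8 lc_a_rc_28_0 lc_a_rc_28_0 lc_a_rc_3_2 lc_a_rc_1_6 lc_a_rc_4_2 lc_a_rc_29_0 lc_a_rc_4_2 lc_a_rc_1_4) (@D3.rec (fun _ => (Cert rels S Gen.a)) lc_a_rc_1_4 lc_a_rc_1_4 lc_a_rc_1_2 lc_a_rc_30_12 lc_a_rc_2_2 lc_a_rc_0_0 lc_a_rc_2_2 lc_a_rc_1_4 lc_a_rc_2_2 lc_a_rc_2_2 lc_a_rc_30_8 lc_a_rc_3_2 lc_a_rc_30_8 lc_a_rc_5_2 lc_a_rc_6_2 lc_a_rc_6_2 lc_a_rc_30_8 lc_a_rc_30_8 lc_a_rc_28_0 lc_a_rc_4_2 lc_a_rc_0_0 lc_a_rc_28_0 lc_a_rc_4_2 lc_a_rc_1_2 lc_a_rc_30_12 lc_a_rc_3_2 lc_a_rc_5_0 lc_a_rc_1_2 lc_a_rc_2_2 lc_a_rc_0_0 lc_a_rc_4_2 lc_a_rc_29_0 lc_a_rc_0_0 lc_a_rc_1_6 lc_a_rc_29_0 lc_a_rc_0_1 lc_a_rc_28_0 lc_a_rc_5_2 lc_a_rc_29_0 lc_a_rc_1_2) (@D3.rec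 (fun _ => (Cert rels S Gen.a)) lc_a_rc_1_2 lc_a_rc_1_6 lc_a_rc_1_4 lc_a_rc_30_12 lc_a_rc_1_2 lc_a_rc_29_0 lc_a_rc_28_0 lc_a_rc_28_0 lc_a_rc_28_0 lc_a_rc_0_0 lc_a_rc_0_0 lc_a_rc_29_0 lc_a_rc_29_0 lc_a_rc_30_8 lc_a_rc_0_0 lc_a_rc_28_0 lc_a_rc_29_0 lc_a_rc_4_2 lc_a_rc_4_2 lc_a_rc_5_2 lc_a_rc_6_2 lc_a_rc_2_2 lc_a_rc_2_2 lc_a_rc_1_6 lc_a_rc_0_0 lc_a_rc_29_0 lc_a_rc_0_0 lc_a_rc_0_0 lc_a_rc_29_0 lc_a_rc_1_6 lc_a_rc_0_0 lc_a_rc_6_0 lc_a_rc_4_2 lc_a_rc_0_0 lc_a_rc_28_0 lc_a_rc_30_8 lc_a_rc_28_0 lc_a_rc_30_8 lc_a_rc_2_2 lc_a_rc_0_0)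
def ce_a : Pt → (Cert rels S Gen.a) := @Pt.rec (fun _ => (Cert rels S Gen.a)) (@D1.rec (fun _ => D2 → D3 → (Cert rels S Gen.a)) ce_a_0 ce_a_1 ce_a_2 ce_a_3 ce_a_4 ce_a_5 ce_a_6 ce_a_7 ce_a_8 ce_a_9 ce_a_10 ce_a_11 ce_a_12 ce_a_13 ce_a_14 ce_a_15 ce_a_16 ce_a_17 ce_a_18 ce_a_19 ce_a_20 ce_a_21)
def isSeed_a (p : Pt) : Bool := orB (beqPt p (Pt.mk D1.c0 D2.c19 D3.c20)) (orB (beqPt p (Pt.mk D1.c2 D2.c0 D3.c0)) (orB (beqPt p (Pt.mk D1.c0 D2.c16 D3.c23)) (false)))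

end

end Cfsg.Agent.Helper28.S1681
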