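import Cfsg.Agent.Lib.Helper28.S1681.SeedsPre

set_option autoImplicit false
set_option maxRecDepth 100000
set_option linter.all false

namespace Cfsg.Agent.Helper28.S1681

open Cfsg.Agent.Helper28
open Cfsg.Spor.Suz (Gen)

noncomputable section

section
variable (IH : ∀ y q, lvl y q < 26 → EntryOK rels S fwd inv o plet idx y q)
include IH

theorem s0_f35 : ed sl_at sq5 = sq5 :=
  real_edge rels S fwd inv o lvl plet idx 26 IH Gen.a sp5 sp5 rfl rfl
theorem s0_f36 : ed sl_bt sq5 = sq7 :=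
  real_edge rels S fwd inv o lvl plet idx 26 IH Gen.b sp5 sp7 rfl rfl
theorem s0_f37 : ed sl_ct sq5 = sq5 :=
  real_edge rels S fwd inv o lvl plet idx 26 IH Gen.c sp5 sp5 rfl rfl
theorem s0_f40 : ed sl_ft sq5 = sq5 :=
  real_edge rels S fwd inv o lvl plet idx 26 IH Gen.f sp5 sp5 rfl rfl
theorem s0_f49 : ed sl_at sq7 = sq12 :=
  real_edge rels S fwd inv o lvl plet idx 26 IH Gen.a sp7 sp12 rfl rfl
theorem s0_f50 : ed sl_bt sq7 = sq5 :=
  real_edge rels S fwd inv o lvl plet idx 26 IH Gen.b sp7 sp5 rfl rfl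
theorem s0_f160 : ed sl_ct sq15 = sq7 :=
  real_edge rels S fwd inv o lvl plet idx 26 IH Gen.c sp15 sp7 rfl rfl
theorem s0_f162 : ed sl_ct sq53 = sq31 :=
  real_edge rels S fwd inv o lvl plet idx 26 IH Gen.c sp53 sp31 rfl rfl
theorem s0_f164 : ed sl_bt sq52 = sq25 :=
  real_edge rels S fwd inv o lvl plet idx 26 IH Gen.b sp52 sp25 rfl rfl
theorem s0_f165 : ed sl_ct sq93 = sq52 :=
  real_edge rels S fwd inv o lvl plet idx 26 IH Gen.c sp93 sp52 rfl rfl
theorem s0_f179 : ed sl_ct sq12 = sq25 :=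
  real_edge rels S fwd inv o lvl plet idx 26 IH Gen.c sp12 sp25 rfl rfl
theorem s0_f180 : ed sl_bt sq31 = sq31 :=
  real_edge rels S fwd inv o lvl plet idx 26 IH Gen.b sp31 sp31 rfl rfl
theorem s0_f224 : ed sl_bt sq108 = sq201 :=
  real_edge rels S fwd inv o lvl plet idx 26 IH Gen.b sp108 sp201 rfl rfl
theorem s0_f237 : ed sl_ft sq12 = sq27 :=
  real_edge rels S fwd inv o lvl plet idx 26 IH Gen.f sp12 sp27 rfl rfl
theorem s0_f254 : ed sl_ft sq15 = sq33 :=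
  real_edge rels S fwd inv o lvl plet idx 26 IH Gen.f sp15 sp33 rfl rfl
theorem s0_f259 : ed sl_at sq17 = sq27 :=
  real_edge rels S fwd inv o lvl plet idx 26 IH Gen.a sp17 sp27 rfl rfl
theorem s0_f260 : ed sl_bt sq17 = sq17 :=
  real_edge rels S fwd inv o lvl plet idx 26 IH Gen.b sp17 sp17 rfl rfl
theorem s0_f388 : ed sl_bt sq227 = sq124 :=
  real_edge rels S fwd inv o lvl plet idx 26 IH Gen.b sp227 sp124 rfl rfl
theorem s0_f389 : ed sl_ct sq119 = sq227 :=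
  real_edge rels S fwd inv o lvl plet idx 26 IH Gen.c sp119 sp227 rfl rfl
theorem s0_f391 : ed sl_ct sq384 = sq219 :=
  real_edge rels S fwd inv o lvl plet idx 26 IH Gen.c sp384 sp219 rfl rfl
theorem s0_f410 : ed sl_ct sq227 = sq119 :=
  real_edge rels S fwd inv o lvl plet idx 26 IH Gen.c sp227 sp119 rfl rfl
theorem s0_f411 : ed sl_dt sq119 = sq219 :=
  real_edge rels S fwd inv o lvl plet idx 26 IH Gen.d sp119 sp219 rfl rfl
theorem s0_f412 : ed sl_ct sq219 = sq384 :=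
  real_edge rels S fwd inv o lvl plet idx 26 IH Gen.c sp219 sp384 rfl rfl
theorem s0_f413 : ed sl_bt sq384 = sq259 :=
  real_edge rels S fwd inv o lvl plet idx 26 IH Gen.b sp384 sp259 rfl rfl
theorem s0_f489 : ed sl_at sq25 = sq15 :=
  real_edge rels S fwd inv o lvl plet idx 26 IH Gen.a sp25 sp15 rfl rfl
theorem s0_f490 : ed sl_bt sq25 = sq52 :=
  real_edge rels S fwd inv o lvl plet idx 26 IH Gen.b sp25 sp52 rfl rfl
theorem s0_f493 : ed sl_gt sq25 = sq56 :=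
  real_edge rels S fwd inv o lvl plet idx 26 IH Gen.g sp25 sp56 rfl rfl
theorem s0_f502 : ed sl_ct sq27 = sq55 :=
  real_edge rels S fwd inv o lvl plet idx 26 IH Gen.c sp27 sp55 rfl rfl
theorem s0_f505 : ed sl_ft sq27 = sq12 :=
  real_edge rels S fwd inv o lvl plet idx 26 IH Gen.f sp27 sp12 rfl rfl
theorem s0_f528 : ed sl_at sq31 = sq53 :=
  real_edge rels S fwd inv o lvl plet idx 26 IH Gen.a sp31 sp53 rfl rfl
theorem s0_f535 : ed sl_at sq33 = sq55 :=
  real_edge rels S fwd inv o lvl plet idx 26 IH Gen.a sp33 sp55 rfl rfl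
theorem s0_f537 : ed sl_ct sq33 = sq17 :=
  real_edge rels S fwd inv o lvl plet idx 26 IH Gen.c sp33 sp17 rfl rfl
theorem s0_f540 : ed sl_ft sq33 = sq15 :=
  real_edge rels S fwd inv o lvl plet idx 26 IH Gen.f sp33 sp15 rfl rfl
theorem s0_f541 : ed sl_gt sq33 = sq74 :=
  real_edge rels S fwd inv o lvl plet idx 26 IH Gen.g sp33 sp74 rfl rfl
theorem s0_f542 : ed sl_at sq34 = sq56 :=
  real_edge rels S fwd inv o lvl plet idx 26 IH Gen.a sp34 sp56 rfl rfl
theorem s0_f543 : ed sl_bt sq34 = sq75 :=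
  real_edge rels S fwd inv o lvl plet idx 26 IH Gen.b sp34 sp75 rfl rfl
theorem s0_f655 : ed sl_at sq97 = sq171 :=
  real_edge rels S fwd inv o lvl plet idx 26 IH Gen.a sp97 sp171 rfl rfl
theorem s0_f662 : ed sl_gt sq44 = sq97 :=
  real_edge rels S fwd inv o lvl plet idx 26 IH Gen.g sp44 sp97 rfl rfl
theorem s0_f683 : ed sl_ct sq188 = sq101 :=
  real_edge rels S fwd inv o lvl plet idx 26 IH Gen.c sp188 sp101 rfl rfl
theorem s0_f862 : ed sl_bt sq190 = sq339 :=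
  real_edge rels S fwd inv o lvl plet idx 26 IH Gen.b sp190 sp339 rfl rfl
theorem s0_f872 : ed sl_at sq52 = sq108 :=
  real_edge rels S fwd inv o lvl plet idx 26 IH Gen.a sp52 sp108 rfl rfl
theorem s0_f875 : ed sl_ft sq52 = sq111 :=
  real_edge rels S fwd inv o lvl plet idx 26 IH Gen.f sp52 sp111 rfl rfl
theorem s0_f879 : ed sl_ft sq53 = sq114 :=
  real_edge rels S fwd inv o lvl plet idx 26 IH Gen.f sp53 sp114 rfl rfl
theorem s0_f885 : ed sl_gt sq54 = sq118 :=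
  real_edge rels S fwd inv o lvl plet idx 26 IH Gen.g sp54 sp118 rfl rfl
theorem s0_f886 : ed sl_at sq55 = sq33 :=
  real_edge rels S fwd inv o lvl plet idx 26 IH Gen.a sp55 sp33 rfl rfl
theorem s0_f887 : ed sl_bt sq55 = sq119 :=
  real_edge rels S fwd inv o lvl plet idx 26 IH Gen.b sp55 sp119 rfl rfl
theorem s0_f890 : ed sl_et sq55 = sq117 :=
  real_edge rels S fwd inv o lvl plet idx 26 IH Gen.e sp55 sp117 rfl rfl
theorem s0_f891 : ed sl_ft sq55 = sq25 :=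
  real_edge rels S fwd inv o lvl plet idx 26 IH Gen.f sp55 sp25 rfl rfl
theorem s0_f892 : ed sl_gt sq55 = sq76 :=
  real_edge rels S fwd inv o lvl plet idx 26 IH Gen.g sp55 sp76 rfl rfl
theorem s0_f894 : ed sl_bt sq56 = sq120 :=
  real_edge rels S fwd inv o lvl plet idx 26 IH Gen.b sp56 sp120 rfl rfl
theorem s0_f916 : ed sl_ct sq59 = sq124 :=
  real_edge rels S fwd inv o lvl plet idx 26 IH Gen.c sp59 sp124 rfl rfl
theorem s0_f923 : ed sl_ct sq60 = sq127 :=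
  real_edge rels S fwd inv o lvl plet idx 26 IH Gen.c sp60 sp127 rfl rfl
theorem s0_f1106 : ed sl_at sq68 = sq114 :=
  real_edge rels S fwd inv o lvl plet idx 26 IH Gen.a sp68 sp114 rfl rfl
theorem s0_f1107 : ed sl_bt sq68 = sq138 :=
  real_edge rels S fwd inv o lvl plet idx 26 IH Gen.b sp68 sp138 rfl rfl
theorem s0_f1112 : ed sl_gt sq68 = sq139 :=
  real_edge rels S fwd inv o lvl plet idx 26 IH Gen.g sp68 sp139 rfl rfl
theorem s0_f1113 : ed sl_at sq69 = sq115 :=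
  real_edge rels S fwd inv o lvl plet idx 26 IH Gen.a sp69 sp115 rfl rfl
theorem s0_f1139 : ed sl_at sq73 = s0_v13 :=
  rfl
theorem s0_f1139r : ed sl_af s0_v13 = sq73 :=
  edge_flip (s0_f1139 IH)
theorem s0_f1140 : ed sl_af sq73 = s0_v13 :=
  gap_rel s0_rot0 (path_edge (s0_f1139r IH) (path_nil s0_v13))
theorem s0_f1141 : ed sl_bt sq119 = sq55 :=
  real_edge rels S fwd inv o lvl plet idx 26 IH Gen.b sp119 sp55 rfl rfl
theorem s0_f1142 : ed sl_at sq226 = sq119 :=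
  real_edge rels S fwd inv o lvl plet idx 26 IH Gen.a sp226 sp119 rfl rfl
theorem s0_f1143 : ed sl_ct sq73 = sq73 :=
  real_edge rels S fwd inv o lvl plet idx 26 IH Gen.c sp73 sp73 rfl rfl
theorem s0_f1145 : ed sl_dt sq138 = sq73 :=
  real_edge rels S fwd inv o lvl plet idx 26 IH Gen.d sp138 sp73 rfl rfl
theorem s0_f1147 : ed sl_ft sq73 = sq73 :=
  real_edge rels S fwd inv o lvl plet idx 26 IH Gen.f sp73 sp73 rfl rfl
theorem s0_f1147r : ed sl_ff sq73 = sq73 :=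
  edge_flip (s0_f1147 IH)
theorem s0_f1148 : ed sl_ff s0_v13 = s0_v13 :=
  gap_rel s0_rot1 (path_edge (s0_f1140 IH) (path_edge (s0_f1147r IH) (path_edge (s0_f1139r IH) (path_nil s0_v13))))
theorem s0_f1149 : ed sl_gt sq149 = sq73 :=
  real_edge rels S fwd inv o lvl plet idx 26 IH Gen.g sp149 sp73 rfl rfl
theorem s0_f1150 : ed sl_dt sq73 = sq138 :=
  real_edge rels S fwd inv o lvl plet idx 26 IH Gen.d sp73 sp138 rfl rfl
theorem s0_f1151 : ed sl_ct sq138 = sq259 :=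
  real_edge rels S fwd inv o lvl plet idx 26 IH Gen.c sp138 sp259 rfl rfl
theorem s0_f1152 : ed sl_gt sq73 = sq149 :=
  real_edge rels S fwd inv o lvl plet idx 26 IH Gen.g sp73 sp149 rfl rfl
theorem s0_f1154 : ed sl_bt sq73 = sq33 :=
  real_edge rels S fwd inv o lvl plet idx 26 IH Gen.b sp73 sp33 rfl rfl
theorem s0_f1155 : ed sl_at sq119 = sq226 :=
  real_edge rels S fwd inv o lvl plet idx 26 IH Gen.a sp119 sp226 rfl rfl
theorem s0_f1156 : ed sl_et sq73 = sq145 :=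
  real_edge rels S fwd inv o lvl plet idx 26 IH Gen.e sp73 sp145 rfl rfl
theorem s0_f1157 : ed sl_ct sq259 = sq138 :=
  real_edge rels S fwd inv o lvl plet idx 26 IH Gen.c sp259 sp138 rfl rfl
theorem s0_f1163 : ed sl_ft sq74 = sq56 :=
  real_edge rels S fwd inv o lvl plet idx 26 IH Gen.f sp74 sp56 rfl rfl
theorem s0_f1165 : ed sl_at sq75 = s0_v14 :=
  rfl
theorem s0_f1165r : ed sl_af s0_v14 = sq75 :=
  edge_flip (s0_f1165 IH)
theorem s0_f1166 : ed sl_af sq75 = s0_v14 :=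
  gap_rel s0_rot0 (path_edge (s0_f1165r IH) (path_nil s0_v14))
theorem s0_f1169 : ed sl_ct sq75 = sq75 :=
  real_edge rels S fwd inv o lvl plet idx 26 IH Gen.c sp75 sp75 rfl rfl
theorem s0_f1169r : ed sl_cf sq75 = sq75 :=
  edge_flip (s0_f1169 IH)
theorem s0_f1170 : ed sl_cf s0_v14 = s0_v14 :=
  gap_rel s0_rot2 (path_edge (s0_f1166 IH) (path_edge (s0_f1169r IH) (path_edge (s0_f1165r IH) (path_nil s0_v14))))
theorem s0_f1171 : ed sl_dt sq140 = sq75 :=
  real_edge rels S fwd inv o lvl plet idx 26 IH Gen.d sp140 sp75 rfl rfl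
theorem s0_f1174 : ed sl_gt sq75 = sq75 :=
  real_edge rels S fwd inv o lvl plet idx 26 IH Gen.g sp75 sp75 rfl rfl
theorem s0_f1174r : ed sl_gf sq75 = sq75 :=
  edge_flip (s0_f1174 IH)
theorem s0_f1175 : ed sl_gf s0_v14 = s0_v14 :=
  gap_rel s0_rot3 (path_edge (s0_f1166 IH) (path_edge (s0_f1174r IH) (path_edge (s0_f1165r IH) (path_nil s0_v14))))
theorem s0_f1176 : ed sl_dt sq75 = sq140 :=
  real_edge rels S fwd inv o lvl plet idx 26 IH Gen.d sp75 sp140 rfl rfl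
theorem s0_f1177 : ed sl_ct sq140 = sq261 :=
  real_edge rels S fwd inv o lvl plet idx 26 IH Gen.c sp140 sp261 rfl rfl
theorem s0_f1178 : ed sl_ft sq75 = sq151 :=
  real_edge rels S fwd inv o lvl plet idx 26 IH Gen.f sp75 sp151 rfl rfl
theorem s0_f1185 : ed sl_bt sq75 = sq34 :=
  real_edge rels S fwd inv o lvl plet idx 26 IH Gen.b sp75 sp34 rfl rfl
theorem s0_f1186 : ed sl_at sq120 = sq229 :=
  real_edge rels S fwd inv o lvl plet idx 26 IH Gen.a sp120 sp229 rfl rfl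
theorem s0_f1187 : ed sl_et sq75 = sq147 :=
  real_edge rels S fwd inv o lvl plet idx 26 IH Gen.e sp75 sp147 rfl rfl
theorem s0_f1188 : ed sl_ct sq261 = sq140 :=
  real_edge rels S fwd inv o lvl plet idx 26 IH Gen.c sp261 sp140 rfl rfl
theorem s0_f1189 : ed sl_ct sq151 = sq151 :=
  real_edge rels S fwd inv o lvl plet idx 26 IH Gen.c sp151 sp151 rfl rfl
theorem s0_f1190 : ed sl_bt sq151 = sq277 :=
  real_edge rels S fwd inv o lvl plet idx 26 IH Gen.b sp151 sp277 rfl rfl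
theorem s0_f1196 : ed sl_ft sq76 = sq34 :=
  real_edge rels S fwd inv o lvl plet idx 26 IH Gen.f sp76 sp34 rfl rfl
theorem s0_f1213 : ed sl_ct sq79 = sq156 :=
  real_edge rels S fwd inv o lvl plet idx 26 IH Gen.c sp79 sp156 rfl rfl
theorem s0_f1251 : ed sl_ct sq141 = sq139 :=
  real_edge rels S fwd inv o lvl plet idx 26 IH Gen.c sp141 sp139 rfl rfl
theorem s0_f1270 : ed sl_bt sq156 = sq276 :=
  real_edge rels S fwd inv o lvl plet idx 26 IH Gen.b sp156 sp276 rfl rfl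
theorem s0_f1323 : ed sl_bt sq150 = sq74 :=
  real_edge rels S fwd inv o lvl plet idx 26 IH Gen.b sp150 sp74 rfl rfl
theorem s0_f1329 : ed sl_bt sq139 = sq260 :=
  real_edge rels S fwd inv o lvl plet idx 26 IH Gen.b sp139 sp260 rfl rfl
theorem s0_f1385 : ed sl_dt sq418 = sq239 :=
  real_edge rels S fwd inv o lvl plet idx 26 IH Gen.d sp418 sp239 rfl rfl
theorem s0_f1401 : ed sl_dt sq239 = sq418 :=
  real_edge rels S fwd inv o lvl plet idx 26 IH Gen.d sp239 sp418 rfl rfl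
theorem s0_f1462 : ed sl_bt sq93 = sq44 :=
  real_edge rels S fwd inv o lvl plet idx 26 IH Gen.b sp93 sp44 rfl rfl
theorem s0_f1562 : ed sl_ft sq97 = sq190 :=
  real_edge rels S fwd inv o lvl plet idx 26 IH Gen.f sp97 sp190 rfl rfl
theorem s0_f1578 : ed sl_ft sq100 = sq59 :=
  real_edge rels S fwd inv o lvl plet idx 26 IH Gen.f sp100 sp59 rfl rfl
theorem s0_f1580 : ed sl_bt sq101 = sq197 :=
  real_edge rels S fwd inv o lvl plet idx 26 IH Gen.b sp101 sp197 rfl rfl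
theorem s0_f1615 : ed sl_ft sq128 = sq60 :=
  real_edge rels S fwd inv o lvl plet idx 26 IH Gen.f sp128 sp60 rfl rfl
theorem s0_f1639 : ed sl_at sq197 = sq128 :=
  real_edge rels S fwd inv o lvl plet idx 26 IH Gen.a sp197 sp128 rfl rfl
theorem s0_f1726 : ed sl_ft sq108 = sq204 :=
  real_edge rels S fwd inv o lvl plet idx 26 IH Gen.f sp108 sp204 rfl rfl
theorem s0_f1735 : ed sl_bt sq111 = sq212 :=
  real_edge rels S fwd inv o lvl plet idx 26 IH Gen.b sp111 sp212 rfl rfl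
theorem s0_f1740 : ed sl_gt sq111 = sq213 :=
  real_edge rels S fwd inv o lvl plet idx 26 IH Gen.g sp111 sp213 rfl rfl
theorem s0_f1742 : ed sl_bt sq112 = sq214 :=
  real_edge rels S fwd inv o lvl plet idx 26 IH Gen.b sp112 sp214 rfl rfl
theorem s0_f1747 : ed sl_gt sq112 = sq52 :=
  real_edge rels S fwd inv o lvl plet idx 26 IH Gen.g sp112 sp52 rfl rfl
theorem s0_f1754 : ed sl_bt sq114 = sq219 :=
  real_edge rels S fwd inv o lvl plet idx 26 IH Gen.b sp114 sp219 rfl rfl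
theorem s0_f1755 : ed sl_ct sq114 = sq68 :=
  real_edge rels S fwd inv o lvl plet idx 26 IH Gen.c sp114 sp68 rfl rfl
theorem s0_f1758 : ed sl_ft sq114 = sq53 :=
  real_edge rels S fwd inv o lvl plet idx 26 IH Gen.f sp114 sp53 rfl rfl
theorem s0_f1761 : ed sl_bt sq115 = sq220 :=
  real_edge rels S fwd inv o lvl plet idx 26 IH Gen.b sp115 sp220 rfl rfl
theorem s0_f1777 : ed sl_ft sq117 = sq54 :=
  real_edge rels S fwd inv o lvl plet idx 26 IH Gen.f sp117 sp54 rfl rfl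
theorem s0_f1780 : ed sl_bt sq118 = sq225 :=
  real_edge rels S fwd inv o lvl plet idx 26 IH Gen.b sp118 sp225 rfl rfl
theorem s0_f1787 : ed sl_ft sq119 = sq212 :=
  real_edge rels S fwd inv o lvl plet idx 26 IH Gen.f sp119 sp212 rfl rfl
theorem s0_f1788 : ed sl_gt sq119 = sq228 :=
  real_edge rels S fwd inv o lvl plet idx 26 IH Gen.g sp119 sp228 rfl rfl
theorem s0_f1792 : ed sl_ft sq120 = sq231 :=
  real_edge rels S fwd inv o lvl plet idx 26 IH Gen.f sp120 sp231 rfl rfl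
theorem s0_f1793 : ed sl_gt sq120 = sq214 :=
  real_edge rels S fwd inv o lvl plet idx 26 IH Gen.g sp120 sp214 rfl rfl
theorem s0_f1813 : ed sl_at sq124 = sq239 :=
  real_edge rels S fwd inv o lvl plet idx 26 IH Gen.a sp124 sp239 rfl rfl
theorem s0_f1814 : ed sl_bt sq124 = sq227 :=
  real_edge rels S fwd inv o lvl plet idx 26 IH Gen.b sp124 sp227 rfl rfl
theorem s0_f1825 : ed sl_bt sq127 = sq230 :=
  real_edge rels S fwd inv o lvl plet idx 26 IH Gen.b sp127 sp230 rfl rfl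
theorem s0_f1831 : ed sl_at sq130 = sq100 :=
  real_edge rels S fwd inv o lvl plet idx 26 IH Gen.a sp130 sp100 rfl rfl
theorem s0_f1832 : ed sl_bt sq130 = sq130 :=
  real_edge rels S fwd inv o lvl plet idx 26 IH Gen.b sp130 sp130 rfl rfl
theorem s0_f1914 : ed sl_at sq138 = s0_v35 :=
  rfl
theorem s0_f1914r : ed sl_af s0_v35 = sq138 :=
  edge_flip (s0_f1914 IH)
theorem s0_f1915 : ed sl_af sq138 = s0_v35 :=
  gap_rel s0_rot0 (path_edge (s0_f1914r IH) (path_nil s0_v35))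
theorem s0_f1917 : ed sl_at sq383 = sq219 :=
  real_edge rels S fwd inv o lvl plet idx 26 IH Gen.a sp383 sp219 rfl rfl
theorem s0_f1150r : ed sl_df sq138 = sq73 :=
  edge_flip (s0_f1150 IH)
theorem s0_f1918 : ed sl_df s0_v13 = s0_v35 :=
  gap_rel s0_rot4 (path_edge (s0_f1140 IH) (path_edge (s0_f1150r IH) (path_edge (s0_f1914r IH) (path_nil s0_v35))))
theorem s0_f1920 : ed sl_ft sq138 = sq138 :=
  real_edge rels S fwd inv o lvl plet idx 26 IH Gen.f sp138 sp138 rfl rfl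
theorem s0_f1920r : ed sl_ff sq138 = sq138 :=
  edge_flip (s0_f1920 IH)
theorem s0_f1921 : ed sl_ff s0_v35 = s0_v35 :=
  gap_rel s0_rot1 (path_edge (s0_f1915 IH) (path_edge (s0_f1920r IH) (path_edge (s0_f1914r IH) (path_nil s0_v35))))
theorem s0_f1922 : ed sl_bt sq138 = sq68 :=
  real_edge rels S fwd inv o lvl plet idx 26 IH Gen.b sp138 sp68 rfl rfl
theorem s0_f1923 : ed sl_ft sq259 = sq259 :=
  real_edge rels S fwd inv o lvl plet idx 26 IH Gen.f sp259 sp259 rfl rfl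
theorem s0_f1921r : ed sl_ft s0_v35 = s0_v35 :=
  edge_flip (s0_f1921 IH)
theorem s0_f1918r : ed sl_dt s0_v35 = s0_v13 :=
  edge_flip (s0_f1918 IH)
theorem s0_f1148r : ed sl_ft s0_v13 = s0_v13 :=
  edge_flip (s0_f1148 IH)
theorem s0_f1924 : ed sl_dt s0_v13 = s0_v35 :=
  gap_rel s0_rot5 (path_edge (s0_f1148r IH) (path_edge (s0_f1918r IH) (path_edge (s0_f1921r IH) (path_nil s0_v35))))
theorem s0_f1925 : ed sl_at sq219 = sq383 :=
  real_edge rels S fwd inv o lvl plet idx 26 IH Gen.a sp219 sp383 rfl rfl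
theorem s0_f1927 : ed sl_bt sq259 = sq384 :=
  real_edge rels S fwd inv o lvl plet idx 26 IH Gen.b sp259 sp384 rfl rfl
theorem s0_f1928 : ed sl_gt sq138 = s0_v36 :=
  rfl
theorem s0_f1930 : ed sl_bt sq260 = sq139 :=
  real_edge rels S fwd inv o lvl plet idx 26 IH Gen.b sp260 sp139 rfl rfl
theorem s0_f1928r : ed sl_gf s0_v36 = sq138 :=
  edge_flip (s0_f1928 IH)
theorem s0_f1932 : ed sl_gf sq138 = s0_v36 :=
  gap_rel s0_rot6 (path_edge (s0_f1928r IH) (path_nil s0_v36))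
theorem s0_f1933 : ed sl_bt sq140 = sq69 :=
  real_edge rels S fwd inv o lvl plet idx 26 IH Gen.b sp140 sp69 rfl rfl
theorem s0_f1935 : ed sl_ft sq139 = sq115 :=
  real_edge rels S fwd inv o lvl plet idx 26 IH Gen.f sp139 sp115 rfl rfl
theorem s0_f1936 : ed sl_gt sq220 = sq365 :=
  real_edge rels S fwd inv o lvl plet idx 26 IH Gen.g sp220 sp365 rfl rfl
theorem s0_f1937 : ed sl_bt sq274 = sq149 :=
  real_edge rels S fwd inv o lvl plet idx 26 IH Gen.b sp274 sp149 rfl rfl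
theorem s0_f1938 : ed sl_ct sq149 = sq149 :=
  real_edge rels S fwd inv o lvl plet idx 26 IH Gen.c sp149 sp149 rfl rfl
theorem s0_f1948 : ed sl_bt sq149 = sq274 :=
  real_edge rels S fwd inv o lvl plet idx 26 IH Gen.b sp149 sp274 rfl rfl
theorem s0_f1958 : ed sl_at sq140 = s0_v37 :=
  rfl
theorem s0_f1958r : ed sl_af s0_v37 = sq140 :=
  edge_flip (s0_f1958 IH)
theorem s0_f1959 : ed sl_af sq140 = s0_v37 :=
  gap_rel s0_rot0 (path_edge (s0_f1958r IH) (path_nil s0_v37))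
theorem s0_f1961 : ed sl_at sq386 = sq220 :=
  real_edge rels S fwd inv o lvl plet idx 26 IH Gen.a sp386 sp220 rfl rfl
theorem s0_f1176r : ed sl_df sq140 = sq75 :=
  edge_flip (s0_f1176 IH)
theorem s0_f1962 : ed sl_df s0_v14 = s0_v37 :=
  gap_rel s0_rot4 (path_edge (s0_f1166 IH) (path_edge (s0_f1176r IH) (path_edge (s0_f1958r IH) (path_nil s0_v37))))
theorem s0_f1964 : ed sl_gt sq140 = sq140 :=
  real_edge rels S fwd inv o lvl plet idx 26 IH Gen.g sp140 sp140 rfl rfl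
theorem s0_f1964r : ed sl_gf sq140 = sq140 :=
  edge_flip (s0_f1964 IH)
theorem s0_f1965 : ed sl_gf s0_v37 = s0_v37 :=
  gap_rel s0_rot3 (path_edge (s0_f1959 IH) (path_edge (s0_f1964r IH) (path_edge (s0_f1958r IH) (path_nil s0_v37))))
theorem s0_f1967 : ed sl_bt sq262 = sq141 :=
  real_edge rels S fwd inv o lvl plet idx 26 IH Gen.b sp262 sp141 rfl rfl
theorem s0_f1965r : ed sl_gt s0_v37 = s0_v37 :=
  edge_flip (s0_f1965 IH)
theorem s0_f1962r : ed sl_dt s0_v37 = s0_v14 :=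
  edge_flip (s0_f1962 IH)
theorem s0_f1175r : ed sl_gt s0_v14 = s0_v14 :=
  edge_flip (s0_f1175 IH)
theorem s0_f1968 : ed sl_dt s0_v14 = s0_v37 :=
  gap_rel s0_rot7 (path_edge (s0_f1175r IH) (path_edge (s0_f1962r IH) (path_edge (s0_f1965r IH) (path_nil s0_v37))))
theorem s0_f1969 : ed sl_at sq220 = sq386 :=
  real_edge rels S fwd inv o lvl plet idx 26 IH Gen.a sp220 sp386 rfl rfl
theorem s0_f1977 : ed sl_bt sq261 = sq387 :=
  real_edge rels S fwd inv o lvl plet idx 26 IH Gen.b sp261 sp387 rfl rfl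
theorem s0_f1978 : ed sl_bt sq277 = sq151 :=
  real_edge rels S fwd inv o lvl plet idx 26 IH Gen.b sp277 sp151 rfl rfl
theorem s0_f1983 : ed sl_ct sq754 = sq464 :=
  real_edge rels S fwd inv o lvl plet idx 26 IH Gen.c sp754 sp464 rfl rfl
theorem s0_f1986 : ed sl_ct sq471 = sq277 :=
  real_edge rels S fwd inv o lvl plet idx 26 IH Gen.c sp471 sp277 rfl rfl
theorem s0_f1996 : ed sl_gt sq141 = sq114 :=
  real_edge rels S fwd inv o lvl plet idx 26 IH Gen.g sp141 sp114 rfl rfl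
theorem s0_f2016 : ed sl_at sq145 = s0_v39 :=
  rfl
theorem s0_f2016r : ed sl_af s0_v39 = sq145 :=
  edge_flip (s0_f2016 IH)
theorem s0_f2017 : ed sl_af sq145 = s0_v39 :=
  gap_rel s0_rot0 (path_edge (s0_f2016r IH) (path_nil s0_v39))
theorem s0_f1156r : ed sl_ef sq145 = sq73 :=
  edge_flip (s0_f1156 IH)
theorem s0_f2023 : ed sl_ef s0_v13 = s0_v39 :=
  gap_rel s0_rot8 (path_edge (s0_f1140 IH) (path_edge (s0_f1156r IH) (path_edge (s0_f2016r IH) (path_nil s0_v39))))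
theorem s0_f2024 : ed sl_ft sq145 = sq145 :=
  real_edge rels S fwd inv o lvl plet idx 26 IH Gen.f sp145 sp145 rfl rfl
theorem s0_f2024r : ed sl_ff sq145 = sq145 :=
  edge_flip (s0_f2024 IH)
theorem s0_f2025 : ed sl_ff s0_v39 = s0_v39 :=
  gap_rel s0_rot1 (path_edge (s0_f2017 IH) (path_edge (s0_f2024r IH) (path_edge (s0_f2016r IH) (path_nil s0_v39))))
theorem s0_f2025r : ed sl_ft s0_v39 = s0_v39 :=
  edge_flip (s0_f2025 IH)
theorem s0_f2023r : ed sl_et s0_v39 = s0_v13 :=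
  edge_flip (s0_f2023 IH)
theorem s0_f2033 : ed sl_et s0_v13 = s0_v39 :=
  gap_rel s0_rot9 (path_edge (s0_f1148r IH) (path_edge (s0_f2023r IH) (path_edge (s0_f2025r IH) (path_nil s0_v39))))
theorem s0_f2044 : ed sl_at sq147 = s0_v40 :=
  rfl
theorem s0_f2044r : ed sl_af s0_v40 = sq147 :=
  edge_flip (s0_f2044 IH)
theorem s0_f2045 : ed sl_af sq147 = s0_v40 :=
  gap_rel s0_rot0 (path_edge (s0_f2044r IH) (path_nil s0_v40))
theorem s0_f1187r : ed sl_ef sq147 = sq75 :=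
  edge_flip (s0_f1187 IH)
theorem s0_f2051 : ed sl_ef s0_v14 = s0_v40 :=
  gap_rel s0_rot8 (path_edge (s0_f1166 IH) (path_edge (s0_f1187r IH) (path_edge (s0_f2044r IH) (path_nil s0_v40))))
theorem s0_f2053 : ed sl_gt sq147 = sq147 :=
  real_edge rels S fwd inv o lvl plet idx 26 IH Gen.g sp147 sp147 rfl rfl
theorem s0_f2058 : ed sl_ft sq147 = sq272 :=
  real_edge rels S fwd inv o lvl plet idx 26 IH Gen.f sp147 sp272 rfl rfl
theorem s0_f2067 : ed sl_at sq225 = sq397 :=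
  real_edge rels S fwd inv o lvl plet idx 26 IH Gen.a sp225 sp397 rfl rfl
theorem s0_f2070 : ed sl_ct sq272 = sq272 :=
  real_edge rels S fwd inv o lvl plet idx 26 IH Gen.c sp272 sp272 rfl rfl
theorem s0_f2071 : ed sl_bt sq272 = sq464 :=
  real_edge rels S fwd inv o lvl plet idx 26 IH Gen.b sp272 sp464 rfl rfl
theorem s0_f2077 : ed sl_at sq149 = s0_v41 :=
  rfl
theorem s0_f2077r : ed sl_af s0_v41 = sq149 :=
  edge_flip (s0_f2077 IH)
theorem s0_f2078 : ed sl_af sq149 = s0_v41 :=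
  gap_rel s0_rot0 (path_edge (s0_f2077r IH) (path_nil s0_v41))
theorem s0_f1938r : ed sl_cf sq149 = sq149 :=
  edge_flip (s0_f1938 IH)
theorem s0_f2079 : ed sl_cf s0_v41 = s0_v41 :=
  gap_rel s0_rot2 (path_edge (s0_f2078 IH) (path_edge (s0_f1938r IH) (path_edge (s0_f2077r IH) (path_nil s0_v41))))
theorem s0_f1152r : ed sl_gf sq149 = sq73 :=
  edge_flip (s0_f1152 IH)
theorem s0_f2080 : ed sl_gf s0_v13 = s0_v41 :=
  gap_rel s0_rot3 (path_edge (s0_f1140 IH) (path_edge (s0_f1152r IH) (path_edge (s0_f2077r IH) (path_nil s0_v41))))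
theorem s0_f2081 : ed sl_ft sq149 = s0_v41 :=
  gap_rel s0_rot10 (path_edge (s0_f1152 IH) (path_edge (s0_f1147 IH) (path_edge (s0_f1149 IH) (path_edge (s0_f2077r IH) (path_nil s0_v41)))))
theorem s0_f2081r : ed sl_ff s0_v41 = sq149 :=
  edge_flip (s0_f2081 IH)
theorem s0_f2082 : ed sl_ff sq149 = s0_v41 :=
  gap_rel s0_rot11 (path_edge (s0_f1938r IH) (path_edge (s0_f2081r IH) (path_edge (s0_f2079 IH) (path_nil s0_v41))))
theorem s0_f2088 : ed sl_ft sq150 = s0_v42 :=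
  rfl
theorem s0_f2089 : ed sl_at sq275 = sq150 :=
  real_edge rels S fwd inv o lvl plet idx 26 IH Gen.a sp275 sp150 rfl rfl
theorem s0_f2088r : ed sl_ff s0_v42 = sq150 :=
  edge_flip (s0_f2088 IH)
theorem s0_f2093 : ed sl_ff sq150 = s0_v42 :=
  gap_rel s0_rot12 (path_edge (s0_f2088r IH) (path_nil s0_v42))
theorem s0_f2095 : ed sl_ct sq760 = sq468 :=
  real_edge rels S fwd inv o lvl plet idx 26 IH Gen.c sp760 sp468 rfl rfl
theorem s0_f2093r : ed sl_ft s0_v42 = sq150 :=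
  edge_flip (s0_f2093 IH)
theorem s0_f2096 : ed sl_bt sq231 = s0_v42 :=
  gap_rel s0_rot13 (path_edge (s0_f1792 IH) (path_edge (s0_f894 IH) (path_edge (s0_f1163 IH) (path_edge (s0_f1323 IH) (path_edge (s0_f2093r IH) (path_nil s0_v42))))))
theorem s0_f2097 : ed sl_gt sq150 = sq274 :=
  real_edge rels S fwd inv o lvl plet idx 26 IH Gen.g sp150 sp274 rfl rfl
theorem s0_f2107 : ed sl_at sq405 = sq231 :=
  real_edge rels S fwd inv o lvl plet idx 26 IH Gen.a sp405 sp231 rfl rfl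
theorem s0_f2108 : ed sl_ct sq407 = sq231 :=
  real_edge rels S fwd inv o lvl plet idx 26 IH Gen.c sp407 sp231 rfl rfl
theorem s0_f2112 : ed sl_ft sq230 = sq407 :=
  real_edge rels S fwd inv o lvl plet idx 26 IH Gen.f sp230 sp407 rfl rfl
theorem s0_f2113 : ed sl_at sq404 = sq230 :=
  real_edge rels S fwd inv o lvl plet idx 26 IH Gen.a sp404 sp230 rfl rfl
theorem s0_f2114 : ed sl_bt sq663 = sq404 :=
  real_edge rels S fwd inv o lvl plet idx 26 IH Gen.b sp663 sp404 rfl rfl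
theorem s0_f2116 : ed sl_ft sq215 = sq112 :=
  real_edge rels S fwd inv o lvl plet idx 26 IH Gen.f sp215 sp112 rfl rfl
theorem s0_f2117 : ed sl_gt sq204 = sq215 :=
  real_edge rels S fwd inv o lvl plet idx 26 IH Gen.g sp204 sp215 rfl rfl
theorem s0_f2118 : ed sl_dt sq667 = sq407 :=
  real_edge rels S fwd inv o lvl plet idx 26 IH Gen.d sp667 sp407 rfl rfl
theorem s0_f2124 : ed sl_ft sq405 = sq229 :=
  real_edge rels S fwd inv o lvl plet idx 26 IH Gen.f sp405 sp229 rfl rfl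
theorem s0_f2125 : ed sl_ct sq229 = sq404 :=
  real_edge rels S fwd inv o lvl plet idx 26 IH Gen.c sp229 sp404 rfl rfl
theorem s0_f2126 : ed sl_bt sq404 = sq663 :=
  real_edge rels S fwd inv o lvl plet idx 26 IH Gen.b sp404 sp663 rfl rfl
theorem s0_f2133 : ed sl_at sq151 = s0_v43 :=
  rfl
theorem s0_f2133r : ed sl_af s0_v43 = sq151 :=
  edge_flip (s0_f2133 IH)
theorem s0_f2134 : ed sl_af sq151 = s0_v43 :=
  gap_rel s0_rot0 (path_edge (s0_f2133r IH) (path_nil s0_v43))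
theorem s0_f1189r : ed sl_cf sq151 = sq151 :=
  edge_flip (s0_f1189 IH)
theorem s0_f2135 : ed sl_cf s0_v43 = s0_v43 :=
  gap_rel s0_rot2 (path_edge (s0_f2134 IH) (path_edge (s0_f1189r IH) (path_edge (s0_f2133r IH) (path_nil s0_v43))))
theorem s0_f1178r : ed sl_ff sq151 = sq75 :=
  edge_flip (s0_f1178 IH)
theorem s0_f2136 : ed sl_ff s0_v14 = s0_v43 :=
  gap_rel s0_rot1 (path_edge (s0_f1166 IH) (path_edge (s0_f1178r IH) (path_edge (s0_f2133r IH) (path_nil s0_v43))))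
theorem s0_f2135r : ed sl_ct s0_v43 = s0_v43 :=
  edge_flip (s0_f2135 IH)
theorem s0_f2136r : ed sl_ft s0_v43 = s0_v14 :=
  edge_flip (s0_f2136 IH)
theorem s0_f1170r : ed sl_ct s0_v14 = s0_v14 :=
  edge_flip (s0_f1170 IH)
theorem s0_f2141 : ed sl_ft s0_v14 = s0_v43 :=
  gap_rel s0_rot14 (path_edge (s0_f1170r IH) (path_edge (s0_f2136r IH) (path_edge (s0_f2135r IH) (path_nil s0_v43))))
theorem s0_f2142 : ed sl_gt sq151 = s0_v43 :=
  gap_rel s0_rot15 (path_edge (s0_f1178 IH) (path_edge (s0_f1174 IH) (path_edge (s0_f1165r IH) (path_edge (s0_f2136r IH) (path_nil s0_v43)))))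
theorem s0_f2143 : ed sl_ft sq152 = sq277 :=
  real_edge rels S fwd inv o lvl plet idx 26 IH Gen.f sp152 sp277 rfl rfl
theorem s0_f2142r : ed sl_gf s0_v43 = sq151 :=
  edge_flip (s0_f2142 IH)
theorem s0_f2144 : ed sl_gf sq151 = s0_v43 :=
  gap_rel s0_rot16 (path_edge (s0_f1189r IH) (path_edge (s0_f2142r IH) (path_edge (s0_f2135 IH) (path_nil s0_v43))))
theorem s0_f2152 : ed sl_at sq278 = sq152 :=
  real_edge rels S fwd inv o lvl plet idx 26 IH Gen.a sp278 sp152 rfl rfl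
theorem s0_f2156 : ed sl_ft sq277 = sq152 :=
  real_edge rels S fwd inv o lvl plet idx 26 IH Gen.f sp277 sp152 rfl rfl
theorem s0_f2170 : ed sl_bt sq212 = sq111 :=
  real_edge rels S fwd inv o lvl plet idx 26 IH Gen.b sp212 sp111 rfl rfl
theorem s0_f2171 : ed sl_ft sq213 = sq205 :=
  real_edge rels S fwd inv o lvl plet idx 26 IH Gen.f sp213 sp205 rfl rfl
theorem s0_f2248 : ed sl_ft sq157 = sq79 :=
  real_edge rels S fwd inv o lvl plet idx 26 IH Gen.f sp157 sp79 rfl rfl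
theorem s0_f2339 : ed sl_bt sq573 = sq351 :=
  real_edge rels S fwd inv o lvl plet idx 26 IH Gen.b sp573 sp351 rfl rfl
theorem s0_f2340 : ed sl_ct sq339 = sq573 :=
  real_edge rels S fwd inv o lvl plet idx 26 IH Gen.c sp339 sp573 rfl rfl
theorem s0_f2347 : ed sl_ct sq573 = sq339 :=
  real_edge rels S fwd inv o lvl plet idx 26 IH Gen.c sp573 sp339 rfl rfl
theorem s0_f2428 : ed sl_ct sq485 = sq290 :=
  real_edge rels S fwd inv o lvl plet idx 26 IH Gen.c sp485 sp290 rfl rfl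
theorem s0_f2452 : ed sl_bt sq291 = sq486 :=
  real_edge rels S fwd inv o lvl plet idx 26 IH Gen.b sp291 sp486 rfl rfl
theorem s0_f2462 : ed sl_at sq485 = sq291 :=
  real_edge rels S fwd inv o lvl plet idx 26 IH Gen.a sp485 sp291 rfl rfl
theorem s0_f2522 : ed sl_bt s0_v13 = s0_v61 :=
  rfl
theorem s0_f2522r : ed sl_bf s0_v61 = s0_v13 :=
  edge_flip (s0_f2522 IH)
theorem s0_f2523 : ed sl_bf s0_v13 = s0_v61 :=
  gap_rel s0_rot17 (path_edge (s0_f2522r IH) (path_nil s0_v61))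
theorem s0_f2524 : ed sl_bt s0_v14 = s0_v62 :=
  rfl
theorem s0_f2524r : ed sl_bf s0_v62 = s0_v14 :=
  edge_flip (s0_f2524 IH)
theorem s0_f2525 : ed sl_bf s0_v14 = s0_v62 :=
  gap_rel s0_rot17 (path_edge (s0_f2524r IH) (path_nil s0_v62))
theorem s0_f2654 : ed sl_ft sq171 = sq188 :=
  real_edge rels S fwd inv o lvl plet idx 26 IH Gen.f sp171 sp188 rfl rfl
theorem s0_f2678 : ed sl_ft sq316 = sq526 :=
  real_edge rels S fwd inv o lvl plet idx 26 IH Gen.f sp316 sp526 rfl rfl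
theorem s0_f2691 : ed sl_bt sq189 = sq97 :=
  real_edge rels S fwd inv o lvl plet idx 26 IH Gen.b sp189 sp97 rfl rfl
theorem s0_f2728 : ed sl_ft sq176 = sq306 :=
  real_edge rels S fwd inv o lvl plet idx 26 IH Gen.f sp176 sp306 rfl rfl
theorem s0_f2729 : ed sl_ct sq306 = sq204 :=
  real_edge rels S fwd inv o lvl plet idx 26 IH Gen.c sp306 sp204 rfl rfl
theorem s0_f2757 : ed sl_bt sq504 = sq306 :=
  real_edge rels S fwd inv o lvl plet idx 26 IH Gen.b sp504 sp306 rfl rfl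
theorem s0_f2758 : ed sl_gt sq307 = sq176 :=
  real_edge rels S fwd inv o lvl plet idx 26 IH Gen.g sp307 sp176 rfl rfl
theorem s0_f2759 : ed sl_bt sq505 = sq307 :=
  real_edge rels S fwd inv o lvl plet idx 26 IH Gen.b sp505 sp307 rfl rfl
theorem s0_f2760 : ed sl_ft sq204 = sq108 :=
  real_edge rels S fwd inv o lvl plet idx 26 IH Gen.f sp204 sp108 rfl rfl
theorem s0_f2762 : ed sl_ft sq227 = sq374 :=
  real_edge rels S fwd inv o lvl plet idx 26 IH Gen.f sp227 sp374 rfl rfl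
theorem s0_f2763 : ed sl_at sq400 = sq227 :=
  real_edge rels S fwd inv o lvl plet idx 26 IH Gen.a sp400 sp227 rfl rfl
theorem s0_f2764 : ed sl_bt sq657 = sq400 :=
  real_edge rels S fwd inv o lvl plet idx 26 IH Gen.b sp657 sp400 rfl rfl
theorem s0_f2766 : ed sl_bt sq527 = sq317 :=
  real_edge rels S fwd inv o lvl plet idx 26 IH Gen.b sp527 sp317 rfl rfl
theorem s0_f2771 : ed sl_bt sq306 = sq504 :=
  real_edge rels S fwd inv o lvl plet idx 26 IH Gen.b sp306 sp504 rfl rfl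
theorem s0_f2773 : ed sl_bt sq307 = sq505 :=
  real_edge rels S fwd inv o lvl plet idx 26 IH Gen.b sp307 sp505 rfl rfl
theorem s0_f2795 : ed sl_ft sq179 = sq93 :=
  real_edge rels S fwd inv o lvl plet idx 26 IH Gen.f sp179 sp93 rfl rfl
theorem s0_f2798 : ed sl_bt sq180 = sq316 :=
  real_edge rels S fwd inv o lvl plet idx 26 IH Gen.b sp180 sp316 rfl rfl
theorem s0_f2906 : ed sl_ct sq337 = sq189 :=
  real_edge rels S fwd inv o lvl plet idx 26 IH Gen.c sp337 sp189 rfl rfl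
theorem s0_f3049 : ed sl_at sq337 = sq567 :=
  real_edge rels S fwd inv o lvl plet idx 26 IH Gen.a sp337 sp567 rfl rfl
theorem s0_f3060 : ed sl_at sq201 = sq201 :=
  real_edge rels S fwd inv o lvl plet idx 26 IH Gen.a sp201 sp201 rfl rfl
theorem s0_f3065 : ed sl_at sq352 = sq352 :=
  real_edge rels S fwd inv o lvl plet idx 26 IH Gen.a sp352 sp352 rfl rfl
theorem s0_f3074 : ed sl_bt sq202 = sq352 :=
  real_edge rels S fwd inv o lvl plet idx 26 IH Gen.b sp202 sp352 rfl rfl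
theorem s0_f3088 : ed sl_ft sq201 = s0_v96 :=
  rfl
theorem s0_f3088r : ed sl_ff s0_v96 = sq201 :=
  edge_flip (s0_f3088 IH)
theorem s0_f3089 : ed sl_ff sq201 = s0_v96 :=
  gap_rel s0_rot12 (path_edge (s0_f3088r IH) (path_nil s0_v96))
theorem s0_f3089r : ed sl_ft s0_v96 = sq201 :=
  edge_flip (s0_f3089 IH)
theorem s0_f3094 : ed sl_at s0_v96 = s0_v96 :=
  gap_rel s0_rot18 (path_edge (s0_f3088 IH) (path_edge (s0_f3060 IH) (path_edge (s0_f3089r IH) (path_nil s0_v96))))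
theorem s0_f3095 : ed sl_ft sq205 = sq213 :=
  real_edge rels S fwd inv o lvl plet idx 26 IH Gen.f sp205 sp213 rfl rfl
theorem s0_f3096 : ed sl_bt sq213 = sq375 :=
  real_edge rels S fwd inv o lvl plet idx 26 IH Gen.b sp213 sp375 rfl rfl
theorem s0_f3097 : ed sl_gt sq201 = s0_v97 :=
  rfl
theorem s0_f3098 : ed sl_gt sq205 = sq108 :=
  real_edge rels S fwd inv o lvl plet idx 26 IH Gen.g sp205 sp108 rfl rfl
theorem s0_f3097r : ed sl_gf s0_v97 = sq201 :=
  edge_flip (s0_f3097 IH)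
theorem s0_f3099 : ed sl_gf sq201 = s0_v97 :=
  gap_rel s0_rot6 (path_edge (s0_f3097r IH) (path_nil s0_v97))
theorem s0_f3101 : ed sl_bt sq377 = sq215 :=
  real_edge rels S fwd inv o lvl plet idx 26 IH Gen.b sp377 sp215 rfl rfl
theorem s0_f3099r : ed sl_gt s0_v97 = sq201 :=
  edge_flip (s0_f3099 IH)
theorem s0_f3102 : ed sl_at s0_v97 = s0_v97 :=
  gap_rel s0_rot19 (path_edge (s0_f3097 IH) (path_edge (s0_f3060 IH) (path_edge (s0_f3099r IH) (path_nil s0_v97))))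
theorem s0_f3108 : ed sl_bt sq203 = sq353 :=
  real_edge rels S fwd inv o lvl plet idx 26 IH Gen.b sp203 sp353 rfl rfl
theorem s0_f3112 : ed sl_bt sq204 = s0_v98 :=
  rfl
theorem s0_f3112r : ed sl_bf s0_v98 = sq204 :=
  edge_flip (s0_f3112 IH)
theorem s0_f3113 : ed sl_bf sq204 = s0_v98 :=
  gap_rel s0_rot17 (path_edge (s0_f3112r IH) (path_nil s0_v98))
theorem s0_f3125 : ed sl_ct sq204 = sq306 :=
  real_edge rels S fwd inv o lvl plet idx 26 IH Gen.c sp204 sp306 rfl rfl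
theorem s0_f3126 : ed sl_dt sq204 = sq355 :=
  real_edge rels S fwd inv o lvl plet idx 26 IH Gen.d sp204 sp355 rfl rfl
theorem s0_f3127 : ed sl_et sq204 = sq358 :=
  real_edge rels S fwd inv o lvl plet idx 26 IH Gen.e sp204 sp358 rfl rfl
theorem s0_f3128 : ed sl_bt sq215 = sq377 :=
  real_edge rels S fwd inv o lvl plet idx 26 IH Gen.b sp215 sp377 rfl rfl
theorem s0_f3144 : ed sl_bt sq205 = s0_v99 :=
  rfl
theorem s0_f3145 : ed sl_bt sq214 = sq112 :=
  real_edge rels S fwd inv o lvl plet idx 26 IH Gen.b sp214 sp112 rfl rfl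
theorem s0_f3144r : ed sl_bf s0_v99 = sq205 :=
  edge_flip (s0_f3144 IH)
theorem s0_f3146 : ed sl_bf sq205 = s0_v99 :=
  gap_rel s0_rot17 (path_edge (s0_f3144r IH) (path_nil s0_v99))
theorem s0_f3150 : ed sl_bt sq375 = sq213 :=
  real_edge rels S fwd inv o lvl plet idx 26 IH Gen.b sp375 sp213 rfl rfl
theorem s0_f3151 : ed sl_ft sq315 = sq307 :=
  real_edge rels S fwd inv o lvl plet idx 26 IH Gen.f sp315 sp307 rfl rfl
theorem s0_f3153 : ed sl_ct sq840 = sq527 :=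
  real_edge rels S fwd inv o lvl plet idx 26 IH Gen.c sp840 sp527 rfl rfl
theorem s0_f3189 : ed sl_bt sq207 = sq363 :=
  real_edge rels S fwd inv o lvl plet idx 26 IH Gen.b sp207 sp363 rfl rfl
theorem s0_f3220 : ed sl_at sq212 = s0_v100 :=
  rfl
theorem s0_f3220r : ed sl_af s0_v100 = sq212 :=
  edge_flip (s0_f3220 IH)
theorem s0_f3221 : ed sl_af sq212 = s0_v100 :=
  gap_rel s0_rot0 (path_edge (s0_f3220r IH) (path_nil s0_v100))
theorem s0_f1787r : ed sl_ff sq212 = sq119 :=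
  edge_flip (s0_f1787 IH)
theorem s0_f1142r : ed sl_af sq119 = sq226 :=
  edge_flip (s0_f1142 IH)
theorem s0_f3224 : ed sl_ff sq226 = s0_v100 :=
  gap_rel s0_rot1 (path_edge (s0_f1142r IH) (path_edge (s0_f1787r IH) (path_edge (s0_f3220r IH) (path_nil s0_v100))))
theorem s0_f3227 : ed sl_bt sq400 = sq657 :=
  real_edge rels S fwd inv o lvl plet idx 26 IH Gen.b sp400 sp657 rfl rfl
theorem s0_f3228 : ed sl_dt sq226 = sq383 :=
  real_edge rels S fwd inv o lvl plet idx 26 IH Gen.d sp226 sp383 rfl rfl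
theorem s0_f3224r : ed sl_ft s0_v100 = sq226 :=
  edge_flip (s0_f3224 IH)
theorem s0_f3230 : ed sl_ft sq226 = s0_v100 :=
  gap_rel s0_rot20 (path_edge (s0_f3224r IH) (path_nil s0_v100))
theorem s0_f3231 : ed sl_gt sq226 = sq401 :=
  real_edge rels S fwd inv o lvl plet idx 26 IH Gen.g sp226 sp401 rfl rfl
theorem s0_f3232 : ed sl_ft sq212 = sq119 :=
  real_edge rels S fwd inv o lvl plet idx 26 IH Gen.f sp212 sp119 rfl rfl
theorem s0_f3233 : ed sl_ct sq400 = sq226 :=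
  real_edge rels S fwd inv o lvl plet idx 26 IH Gen.c sp400 sp226 rfl rfl
theorem s0_f3234 : ed sl_dt sq383 = sq226 :=
  real_edge rels S fwd inv o lvl plet idx 26 IH Gen.d sp383 sp226 rfl rfl
theorem s0_f3236 : ed sl_gt sq401 = sq226 :=
  real_edge rels S fwd inv o lvl plet idx 26 IH Gen.g sp401 sp226 rfl rfl
theorem s0_f3237 : ed sl_ft sq374 = sq227 :=
  real_edge rels S fwd inv o lvl plet idx 26 IH Gen.f sp374 sp227 rfl rfl
theorem s0_f3238 : ed sl_ct sq212 = sq374 :=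
  real_edge rels S fwd inv o lvl plet idx 26 IH Gen.c sp212 sp374 rfl rfl
theorem s0_f3241 : ed sl_ft sq239 = sq248 :=
  real_edge rels S fwd inv o lvl plet idx 26 IH Gen.f sp239 sp248 rfl rfl
theorem s0_f3242 : ed sl_ct sq248 = sq130 :=
  real_edge rels S fwd inv o lvl plet idx 26 IH Gen.c sp248 sp130 rfl rfl
theorem s0_f3243 : ed sl_at sq227 = sq400 :=
  real_edge rels S fwd inv o lvl plet idx 26 IH Gen.a sp227 sp400 rfl rfl
theorem s0_f3244 : ed sl_gt sq212 = s0_v101 :=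
  rfl
theorem s0_f3245 : ed sl_gt sq213 = sq111 :=
  real_edge rels S fwd inv o lvl plet idx 26 IH Gen.g sp213 sp111 rfl rfl
theorem s0_f3244r : ed sl_gf s0_v101 = sq212 :=
  edge_flip (s0_f3244 IH)
theorem s0_f3246 : ed sl_gf sq212 = s0_v101 :=
  gap_rel s0_rot6 (path_edge (s0_f3244r IH) (path_nil s0_v101))
theorem s0_f3230r : ed sl_ff s0_v100 = sq226 :=
  edge_flip (s0_f3230 IH)
theorem s0_f3236r : ed sl_gf sq226 = sq401 :=
  edge_flip (s0_f3236 IH)
theorem s0_f3247 : ed sl_ff sq401 = s0_v101 :=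
  gap_rel s0_rot21 (path_edge (s0_f3236r IH) (path_edge (s0_f3230r IH) (path_edge (s0_f3220 IH) (path_edge (s0_f3244r IH) (path_nil s0_v101)))))
theorem s0_f3247r : ed sl_ft s0_v101 = sq401 :=
  edge_flip (s0_f3247 IH)
theorem s0_f3251 : ed sl_ft sq401 = s0_v101 :=
  gap_rel s0_rot20 (path_edge (s0_f3247r IH) (path_nil s0_v101))
theorem s0_f3266 : ed sl_ft sq317 = sq180 :=
  real_edge rels S fwd inv o lvl plet idx 26 IH Gen.f sp317 sp180 rfl rfl
theorem s0_f3268 : ed sl_bt sq523 = sq315 :=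
  real_edge rels S fwd inv o lvl plet idx 26 IH Gen.b sp523 sp315 rfl rfl
theorem s0_f3270 : ed sl_dt sq229 = sq386 :=
  real_edge rels S fwd inv o lvl plet idx 26 IH Gen.d sp229 sp386 rfl rfl
theorem s0_f3274 : ed sl_ct sq404 = sq229 :=
  real_edge rels S fwd inv o lvl plet idx 26 IH Gen.c sp404 sp229 rfl rfl
theorem s0_f3280 : ed sl_ft sq214 = s0_v103 :=
  rfl
theorem s0_f3280r : ed sl_ff s0_v103 = sq214 :=
  edge_flip (s0_f3280 IH)
theorem s0_f3281 : ed sl_ff sq214 = s0_v103 :=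
  gap_rel s0_rot12 (path_edge (s0_f3280r IH) (path_nil s0_v103))
theorem s0_f1793r : ed sl_gf sq214 = sq120 :=
  edge_flip (s0_f1793 IH)
theorem s0_f2124r : ed sl_ff sq229 = sq405 :=
  edge_flip (s0_f2124 IH)
theorem s0_f3282 : ed sl_gf sq405 = s0_v103 :=
  gap_rel s0_rot22 (path_edge (s0_f2124r IH) (path_edge (s0_f1186 IH) (path_edge (s0_f1793r IH) (path_edge (s0_f3280r IH) (path_nil s0_v103)))))
theorem s0_f3283 : ed sl_ct sq405 = sq665 :=
  real_edge rels S fwd inv o lvl plet idx 26 IH Gen.c sp405 sp665 rfl rfl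
theorem s0_f3282r : ed sl_gt s0_v103 = sq405 :=
  edge_flip (s0_f3282 IH)
theorem s0_f3286 : ed sl_gt sq405 = s0_v103 :=
  gap_rel s0_rot23 (path_edge (s0_f3282r IH) (path_nil s0_v103))
theorem s0_f3287 : ed sl_ct sq665 = sq405 :=
  real_edge rels S fwd inv o lvl plet idx 26 IH Gen.c sp665 sp405 rfl rfl
theorem s0_f3290 : ed sl_bt sq376 = sq525 :=
  real_edge rels S fwd inv o lvl plet idx 26 IH Gen.b sp376 sp525 rfl rfl
theorem s0_f3318 : ed sl_ft sq219 = sq363 :=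
  real_edge rels S fwd inv o lvl plet idx 26 IH Gen.f sp219 sp363 rfl rfl
theorem s0_f3319 : ed sl_gt sq219 = sq385 :=
  real_edge rels S fwd inv o lvl plet idx 26 IH Gen.g sp219 sp385 rfl rfl
theorem s0_f3320 : ed sl_ct sq220 = sq387 :=
  real_edge rels S fwd inv o lvl plet idx 26 IH Gen.c sp220 sp387 rfl rfl
theorem s0_f3323 : ed sl_ft sq220 = sq388 :=
  real_edge rels S fwd inv o lvl plet idx 26 IH Gen.f sp220 sp388 rfl rfl
theorem s0_f3351 : ed sl_bt sq226 = s0_v104 :=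
  rfl
theorem s0_f3351r : ed sl_bf s0_v104 = sq226 :=
  edge_flip (s0_f3351 IH)
theorem s0_f3352 : ed sl_bf sq226 = s0_v104 :=
  gap_rel s0_rot17 (path_edge (s0_f3351r IH) (path_nil s0_v104))
theorem s0_f3353 : ed sl_dt sq658 = sq400 :=
  real_edge rels S fwd inv o lvl plet idx 26 IH Gen.d sp658 sp400 rfl rfl
theorem s0_f3354 : ed sl_bt sq374 = sq521 :=
  real_edge rels S fwd inv o lvl plet idx 26 IH Gen.b sp374 sp521 rfl rfl
theorem s0_f3355 : ed sl_at sq521 = sq833 :=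
  real_edge rels S fwd inv o lvl plet idx 26 IH Gen.a sp521 sp833 rfl rfl
theorem s0_f3367 : ed sl_ft sq228 = s0_v105 :=
  rfl
theorem s0_f3367r : ed sl_ff s0_v105 = sq228 :=
  edge_flip (s0_f3367 IH)
theorem s0_f1788r : ed sl_gf sq228 = sq119 :=
  edge_flip (s0_f1788 IH)
theorem s0_f3232r : ed sl_ff sq119 = sq212 :=
  edge_flip (s0_f3232 IH)
theorem s0_f3251r : ed sl_ff s0_v101 = sq401 :=
  edge_flip (s0_f3251 IH)
theorem s0_f3231r : ed sl_gf sq401 = sq226 :=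
  edge_flip (s0_f3231 IH)
theorem s0_f3370 : ed sl_gf s0_v100 = s0_v105 :=
  gap_rel s0_rot24 (path_edge (s0_f3224 IH) (path_edge (s0_f3231r IH) (path_edge (s0_f3251r IH) (path_edge (s0_f3246 IH) (path_edge (s0_f3232r IH) (path_edge (s0_f1788r IH) (path_edge (s0_f3367r IH) (path_nil s0_v105))))))))
theorem s0_f3371 : ed sl_at s0_v101 = s0_v105 :=
  gap_rel s0_rot25 (path_edge (s0_f3246 IH) (path_edge (s0_f3232r IH) (path_edge (s0_f1788r IH) (path_edge (s0_f3367r IH) (path_nil s0_v105)))))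
theorem s0_f3370r : ed sl_gt s0_v105 = s0_v100 :=
  edge_flip (s0_f3370 IH)
theorem s0_f3373 : ed sl_gt s0_v100 = s0_v105 :=
  gap_rel s0_rot23 (path_edge (s0_f3370r IH) (path_nil s0_v105))
theorem s0_f3374 : ed sl_bt sq229 = s0_v106 :=
  rfl
theorem s0_f3376 : ed sl_ft sq665 = sq404 :=
  real_edge rels S fwd inv o lvl plet idx 26 IH Gen.f sp665 sp404 rfl rfl
theorem s0_f3378 : ed sl_dt sq664 = sq404 :=
  real_edge rels S fwd inv o lvl plet idx 26 IH Gen.d sp664 sp404 rfl rfl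
theorem s0_f3389 : ed sl_at sq230 = sq404 :=
  real_edge rels S fwd inv o lvl plet idx 26 IH Gen.a sp230 sp404 rfl rfl
theorem s0_f3394 : ed sl_gt sq230 = sq376 :=
  real_edge rels S fwd inv o lvl plet idx 26 IH Gen.g sp230 sp376 rfl rfl
theorem s0_f3395 : ed sl_gt sq231 = s0_v107 :=
  rfl
theorem s0_f3395r : ed sl_gf s0_v107 = sq231 :=
  edge_flip (s0_f3395 IH)
theorem s0_f2107r : ed sl_af sq231 = sq405 :=
  edge_flip (s0_f2107 IH)
theorem s0_f3396 : ed sl_af s0_v103 = s0_v107 :=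
  gap_rel s0_rot26 (path_edge (s0_f3282 IH) (path_edge (s0_f2107r IH) (path_edge (s0_f3395r IH) (path_nil s0_v107))))
theorem s0_f3459 : ed sl_bt sq239 = s0_v109 :=
  rfl
theorem s0_f3459r : ed sl_bf s0_v109 = sq239 :=
  edge_flip (s0_f3459 IH)
theorem s0_f3460 : ed sl_bf sq239 = s0_v109 :=
  gap_rel s0_rot17 (path_edge (s0_f3459r IH) (path_nil s0_v109))
theorem s0_f3462 : ed sl_gt sq351 = sq239 :=
  real_edge rels S fwd inv o lvl plet idx 26 IH Gen.g sp351 sp239 rfl rfl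
theorem s0_f3468 : ed sl_gt sq239 = sq351 :=
  real_edge rels S fwd inv o lvl plet idx 26 IH Gen.g sp239 sp351 rfl rfl
theorem s0_f3469 : ed sl_bt sq351 = sq573 :=
  real_edge rels S fwd inv o lvl plet idx 26 IH Gen.b sp351 sp573 rfl rfl
theorem s0_f3500 : ed sl_at sq240 = sq418 :=
  real_edge rels S fwd inv o lvl plet idx 26 IH Gen.a sp240 sp418 rfl rfl
theorem s0_f3579 : ed sl_ct sq387 = sq220 :=
  real_edge rels S fwd inv o lvl plet idx 26 IH Gen.c sp387 sp220 rfl rfl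
theorem s0_f3605 : ed sl_bt sq387 = sq261 :=
  real_edge rels S fwd inv o lvl plet idx 26 IH Gen.b sp387 sp261 rfl rfl
theorem s0_f3765 : ed sl_at sq259 = s0_v123 :=
  rfl
theorem s0_f3765r : ed sl_af s0_v123 = sq259 :=
  edge_flip (s0_f3765 IH)
theorem s0_f3766 : ed sl_af sq259 = s0_v123 :=
  gap_rel s0_rot0 (path_edge (s0_f3765r IH) (path_nil s0_v123))
theorem s0_f1151r : ed sl_cf sq259 = sq138 :=
  edge_flip (s0_f1151 IH)
theorem s0_f3767 : ed sl_cf s0_v35 = s0_v123 :=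
  gap_rel s0_rot2 (path_edge (s0_f1915 IH) (path_edge (s0_f1151r IH) (path_edge (s0_f3765r IH) (path_nil s0_v123))))
theorem s0_f1923r : ed sl_ff sq259 = sq259 :=
  edge_flip (s0_f1923 IH)
theorem s0_f3769 : ed sl_ff s0_v123 = s0_v123 :=
  gap_rel s0_rot1 (path_edge (s0_f3766 IH) (path_edge (s0_f1923r IH) (path_edge (s0_f3765r IH) (path_nil s0_v123))))
theorem s0_f3769r : ed sl_ft s0_v123 = s0_v123 :=
  edge_flip (s0_f3769 IH)
theorem s0_f3767r : ed sl_ct s0_v123 = s0_v35 :=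
  edge_flip (s0_f3767 IH)
theorem s0_f3770 : ed sl_ct s0_v35 = s0_v123 :=
  gap_rel s0_rot27 (path_edge (s0_f1921r IH) (path_edge (s0_f3767r IH) (path_edge (s0_f3769r IH) (path_nil s0_v123))))
theorem s0_f3771 : ed sl_dt sq259 = s0_v124 :=
  rfl
theorem s0_f3771r : ed sl_df s0_v124 = sq259 :=
  edge_flip (s0_f3771 IH)
theorem s0_f3772 : ed sl_df sq259 = s0_v124 :=
  gap_rel s0_rot28 (path_edge (s0_f3771r IH) (path_nil s0_v124))
theorem s0_f3773 : ed sl_ff s0_v124 = s0_v124 :=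
  gap_rel s0_rot29 (path_edge (s0_f3772 IH) (path_edge (s0_f1923r IH) (path_edge (s0_f3771r IH) (path_nil s0_v124))))
theorem s0_f3825 : ed sl_gt sq259 = s0_v125 :=
  rfl
theorem s0_f3825r : ed sl_gf s0_v125 = sq259 :=
  edge_flip (s0_f3825 IH)
theorem s0_f3827 : ed sl_gf sq259 = s0_v125 :=
  gap_rel s0_rot6 (path_edge (s0_f3825r IH) (path_nil s0_v125))
theorem s0_f3827r : ed sl_gt s0_v125 = sq259 :=
  edge_flip (s0_f3827 IH)
theorem s0_f3828 : ed sl_ct s0_v36 = s0_v125 :=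
  gap_rel s0_rot30 (path_edge (s0_f1928 IH) (path_edge (s0_f1157 IH) (path_edge (s0_f3827r IH) (path_nil s0_v125))))
theorem s0_f3830 : ed sl_ct sq260 = s0_v126 :=
  rfl
theorem s0_f3830r : ed sl_cf s0_v126 = sq260 :=
  edge_flip (s0_f3830 IH)
theorem s0_f3832 : ed sl_cf sq260 = s0_v126 :=
  gap_rel s0_rot31 (path_edge (s0_f3830r IH) (path_nil s0_v126))
theorem s0_f3848 : ed sl_ct sq275 = sq469 :=
  real_edge rels S fwd inv o lvl plet idx 26 IH Gen.c sp275 sp469 rfl rfl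
theorem s0_f3866 : ed sl_ft sq260 = s0_v127 :=
  rfl
theorem s0_f3867 : ed sl_ft sq388 = sq220 :=
  real_edge rels S fwd inv o lvl plet idx 26 IH Gen.f sp388 sp220 rfl rfl
theorem s0_f3866r : ed sl_ff s0_v127 = sq260 :=
  edge_flip (s0_f3866 IH)
theorem s0_f3870 : ed sl_ff sq260 = s0_v127 :=
  gap_rel s0_rot12 (path_edge (s0_f3866r IH) (path_nil s0_v127))
theorem s0_f3870r : ed sl_ft s0_v127 = sq260 :=
  edge_flip (s0_f3870 IH)
theorem s0_f3873 : ed sl_bt sq388 = s0_v127 :=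
  gap_rel s0_rot13 (path_edge (s0_f3323 IH) (path_edge (s0_f1761 IH) (path_edge (s0_f1935 IH) (path_edge (s0_f1930 IH) (path_edge (s0_f3870r IH) (path_nil s0_v127))))))
theorem s0_f3887 : ed sl_gt sq260 = s0_v128 :=
  rfl
theorem s0_f3887r : ed sl_gf s0_v128 = sq260 :=
  edge_flip (s0_f3887 IH)
theorem s0_f1329r : ed sl_bf sq260 = sq139 :=
  edge_flip (s0_f1329 IH)
theorem s0_f1112r : ed sl_gf sq139 = sq68 :=
  edge_flip (s0_f1112 IH)
theorem s0_f1922r : ed sl_bf sq68 = sq138 :=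
  edge_flip (s0_f1922 IH)
theorem s0_f3888 : ed sl_bf s0_v36 = s0_v128 :=
  gap_rel s0_rot32 (path_edge (s0_f1932 IH) (path_edge (s0_f1922r IH) (path_edge (s0_f1112r IH) (path_edge (s0_f1329r IH) (path_edge (s0_f3887r IH) (path_nil s0_v128))))))
theorem s0_f3890 : ed sl_gf sq260 = s0_v128 :=
  gap_rel s0_rot6 (path_edge (s0_f3887r IH) (path_nil s0_v128))
theorem s0_f3911 : ed sl_at sq261 = s0_v129 :=
  rfl
theorem s0_f3911r : ed sl_af s0_v129 = sq261 :=
  edge_flip (s0_f3911 IH)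
theorem s0_f3912 : ed sl_af sq261 = s0_v129 :=
  gap_rel s0_rot0 (path_edge (s0_f3911r IH) (path_nil s0_v129))
theorem s0_f1177r : ed sl_cf sq261 = sq140 :=
  edge_flip (s0_f1177 IH)
theorem s0_f3913 : ed sl_cf s0_v37 = s0_v129 :=
  gap_rel s0_rot2 (path_edge (s0_f1959 IH) (path_edge (s0_f1177r IH) (path_edge (s0_f3911r IH) (path_nil s0_v129))))
theorem s0_f3915 : ed sl_gt sq261 = sq261 :=
  real_edge rels S fwd inv o lvl plet idx 26 IH Gen.g sp261 sp261 rfl rfl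
theorem s0_f3915r : ed sl_gf sq261 = sq261 :=
  edge_flip (s0_f3915 IH)
theorem s0_f3916 : ed sl_gf s0_v129 = s0_v129 :=
  gap_rel s0_rot3 (path_edge (s0_f3912 IH) (path_edge (s0_f3915r IH) (path_edge (s0_f3911r IH) (path_nil s0_v129))))
theorem s0_f3916r : ed sl_gt s0_v129 = s0_v129 :=
  edge_flip (s0_f3916 IH)
theorem s0_f3913r : ed sl_ct s0_v129 = s0_v37 :=
  edge_flip (s0_f3913 IH)
theorem s0_f3917 : ed sl_ct s0_v37 = s0_v129 :=
  gap_rel s0_rot30 (path_edge (s0_f1965r IH) (path_edge (s0_f3913r IH) (path_edge (s0_f3916r IH) (path_nil s0_v129))))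
theorem s0_f3918 : ed sl_dt sq261 = s0_v130 :=
  rfl
theorem s0_f3918r : ed sl_df s0_v130 = sq261 :=
  edge_flip (s0_f3918 IH)
theorem s0_f3919 : ed sl_df sq261 = s0_v130 :=
  gap_rel s0_rot28 (path_edge (s0_f3918r IH) (path_nil s0_v130))
theorem s0_f3920 : ed sl_gf s0_v130 = s0_v130 :=
  gap_rel s0_rot33 (path_edge (s0_f3919 IH) (path_edge (s0_f3915r IH) (path_edge (s0_f3918r IH) (path_nil s0_v130))))
theorem s0_f3967 : ed sl_ft sq261 = s0_v131 :=
  rfl
theorem s0_f3967r : ed sl_ff s0_v131 = sq261 :=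
  edge_flip (s0_f3967 IH)
theorem s0_f3969 : ed sl_ff sq261 = s0_v131 :=
  gap_rel s0_rot12 (path_edge (s0_f3967r IH) (path_nil s0_v131))
theorem s0_f3971 : ed sl_at sq262 = sq447 :=
  real_edge rels S fwd inv o lvl plet idx 26 IH Gen.a sp262 sp447 rfl rfl
theorem s0_f3972 : ed sl_ct sq262 = s0_v132 :=
  rfl
theorem s0_f3973 : ed sl_at sq447 = sq262 :=
  real_edge rels S fwd inv o lvl plet idx 26 IH Gen.a sp447 sp262 rfl rfl
theorem s0_f3972r : ed sl_cf s0_v132 = sq262 :=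
  edge_flip (s0_f3972 IH)
theorem s0_f3975 : ed sl_cf sq262 = s0_v132 :=
  gap_rel s0_rot31 (path_edge (s0_f3972r IH) (path_nil s0_v132))
theorem s0_f3975r : ed sl_ct s0_v132 = sq262 :=
  edge_flip (s0_f3975 IH)
theorem s0_f3991 : ed sl_bt s0_v126 = s0_v132 :=
  gap_rel s0_rot34 (path_edge (s0_f3830 IH) (path_edge (s0_f1329 IH) (path_edge (s0_f1251 IH) (path_edge (s0_f1967 IH) (path_edge (s0_f3975r IH) (path_nil s0_v132))))))
theorem s0_f4026 : ed sl_bt sq471 = sq471 :=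
  real_edge rels S fwd inv o lvl plet idx 26 IH Gen.b sp471 sp471 rfl rfl
theorem s0_f4030 : ed sl_gt sq262 = s0_v134 :=
  rfl
theorem s0_f4030r : ed sl_gf s0_v134 = sq262 :=
  edge_flip (s0_f4030 IH)
theorem s0_f4034 : ed sl_gf sq262 = s0_v134 :=
  gap_rel s0_rot6 (path_edge (s0_f4030r IH) (path_nil s0_v134))
theorem s0_f4034r : ed sl_gt s0_v134 = sq262 :=
  edge_flip (s0_f4034 IH)
theorem s0_f4035 : ed sl_bt sq385 = s0_v134 :=
  gap_rel s0_rot35 (path_edge (s0_f3319 IH) (path_edge (s0_f1754 IH) (path_edge (s0_f1996 IH) (path_edge (s0_f1967 IH) (path_edge (s0_f4034r IH) (path_nil s0_v134))))))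
theorem s0_f4177 : ed sl_ct sq397 = sq653 :=
  real_edge rels S fwd inv o lvl plet idx 26 IH Gen.c sp397 sp653 rfl rfl
theorem s0_f4178 : ed sl_bt sq653 = sq1031 :=
  real_edge rels S fwd inv o lvl plet idx 26 IH Gen.b sp653 sp1031 rfl rfl
theorem s0_f4180 : ed sl_at sq272 = s0_v139 :=
  rfl
theorem s0_f4180r : ed sl_af s0_v139 = sq272 :=
  edge_flip (s0_f4180 IH)
theorem s0_f4181 : ed sl_af sq272 = s0_v139 :=
  gap_rel s0_rot0 (path_edge (s0_f4180r IH) (path_nil s0_v139))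
theorem s0_f2070r : ed sl_cf sq272 = sq272 :=
  edge_flip (s0_f2070 IH)
theorem s0_f4182 : ed sl_cf s0_v139 = s0_v139 :=
  gap_rel s0_rot2 (path_edge (s0_f4181 IH) (path_edge (s0_f2070r IH) (path_edge (s0_f4180r IH) (path_nil s0_v139))))
theorem s0_f2058r : ed sl_ff sq272 = sq147 :=
  edge_flip (s0_f2058 IH)
theorem s0_f4184 : ed sl_ff s0_v40 = s0_v139 :=
  gap_rel s0_rot1 (path_edge (s0_f2045 IH) (path_edge (s0_f2058r IH) (path_edge (s0_f4180r IH) (path_nil s0_v139))))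
theorem s0_f4184r : ed sl_ft s0_v139 = s0_v40 :=
  edge_flip (s0_f4184 IH)
theorem s0_f2051r : ed sl_et s0_v40 = s0_v14 :=
  edge_flip (s0_f2051 IH)
theorem s0_f4191 : ed sl_et s0_v43 = s0_v139 :=
  gap_rel s0_rot9 (path_edge (s0_f2141 IH) (path_edge (s0_f2051r IH) (path_edge (s0_f4184r IH) (path_nil s0_v139))))
theorem s0_f4192 : ed sl_gt sq272 = s0_v139 :=
  gap_rel s0_rot15 (path_edge (s0_f2058 IH) (path_edge (s0_f2053 IH) (path_edge (s0_f2044r IH) (path_edge (s0_f4184r IH) (path_nil s0_v139)))))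
theorem s0_f4192r : ed sl_gf s0_v139 = sq272 :=
  edge_flip (s0_f4192 IH)
theorem s0_f4194 : ed sl_gf sq272 = s0_v139 :=
  gap_rel s0_rot16 (path_edge (s0_f2070r IH) (path_edge (s0_f4192r IH) (path_edge (s0_f4182 IH) (path_nil s0_v139))))
theorem s0_f4229 : ed sl_at sq274 = s0_v141 :=
  rfl
theorem s0_f4229r : ed sl_af s0_v141 = sq274 :=
  edge_flip (s0_f4229 IH)
theorem s0_f4230 : ed sl_af sq274 = s0_v141 :=
  gap_rel s0_rot0 (path_edge (s0_f4229r IH) (path_nil s0_v141))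
theorem s0_f2097r : ed sl_gf sq274 = sq150 :=
  edge_flip (s0_f2097 IH)
theorem s0_f2089r : ed sl_af sq150 = sq275 :=
  edge_flip (s0_f2089 IH)
theorem s0_f4231 : ed sl_gf sq275 = s0_v141 :=
  gap_rel s0_rot3 (path_edge (s0_f2089r IH) (path_edge (s0_f2097r IH) (path_edge (s0_f4229r IH) (path_nil s0_v141))))
theorem s0_f4232 : ed sl_bt sq275 = sq468 :=
  real_edge rels S fwd inv o lvl plet idx 26 IH Gen.b sp275 sp468 rfl rfl
theorem s0_f4237 : ed sl_ft sq274 = s0_v142 :=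
  rfl
theorem s0_f4237r : ed sl_ff s0_v142 = sq274 :=
  edge_flip (s0_f4237 IH)
theorem s0_f4238 : ed sl_ff sq274 = s0_v142 :=
  gap_rel s0_rot12 (path_edge (s0_f4237r IH) (path_nil s0_v142))
theorem s0_f4239 : ed sl_ft sq275 = s0_v143 :=
  rfl
theorem s0_f4239r : ed sl_ff s0_v143 = sq275 :=
  edge_flip (s0_f4239 IH)
theorem s0_f4241 : ed sl_ff sq275 = s0_v143 :=
  gap_rel s0_rot12 (path_edge (s0_f4239r IH) (path_nil s0_v143))
theorem s0_f4230r : ed sl_at s0_v141 = sq274 :=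
  edge_flip (s0_f4230 IH)
theorem s0_f4242 : ed sl_gf s0_v142 = s0_v143 :=
  gap_rel s0_rot22 (path_edge (s0_f4238 IH) (path_edge (s0_f4230r IH) (path_edge (s0_f4231 IH) (path_edge (s0_f4239r IH) (path_nil s0_v143)))))
theorem s0_f4242r : ed sl_gt s0_v143 = s0_v142 :=
  edge_flip (s0_f4242 IH)
theorem s0_f4243 : ed sl_gt s0_v142 = s0_v143 :=
  gap_rel s0_rot23 (path_edge (s0_f4242r IH) (path_nil s0_v143))
theorem s0_f4241r : ed sl_ft s0_v143 = sq275 :=
  edge_flip (s0_f4241 IH)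
theorem s0_f4244 : ed sl_at s0_v42 = s0_v143 :=
  gap_rel s0_rot18 (path_edge (s0_f2088 IH) (path_edge (s0_f2089 IH) (path_edge (s0_f4241r IH) (path_nil s0_v143))))
theorem s0_f4245 : ed sl_bt sq469 = sq761 :=
  real_edge rels S fwd inv o lvl plet idx 26 IH Gen.b sp469 sp761 rfl rfl
theorem s0_f4246 : ed sl_at sq761 = sq1189 :=
  real_edge rels S fwd inv o lvl plet idx 26 IH Gen.a sp761 sp1189 rfl rfl
theorem s0_f4247 : ed sl_at sq276 = sq469 :=
  real_edge rels S fwd inv o lvl plet idx 26 IH Gen.a sp276 sp469 rfl rfl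
theorem s0_f4255 : ed sl_ct sq1187 = sq761 :=
  real_edge rels S fwd inv o lvl plet idx 26 IH Gen.c sp1187 sp761 rfl rfl
theorem s0_f4259 : ed sl_at sq277 = s0_v145 :=
  rfl
theorem s0_f4259r : ed sl_af s0_v145 = sq277 :=
  edge_flip (s0_f4259 IH)
theorem s0_f4260 : ed sl_af sq277 = s0_v145 :=
  gap_rel s0_rot0 (path_edge (s0_f4259r IH) (path_nil s0_v145))
theorem s0_f2143r : ed sl_ff sq277 = sq152 :=
  edge_flip (s0_f2143 IH)
theorem s0_f2152r : ed sl_af sq152 = sq278 :=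
  edge_flip (s0_f2152 IH)
theorem s0_f4261 : ed sl_ff sq278 = s0_v145 :=
  gap_rel s0_rot1 (path_edge (s0_f2152r IH) (path_edge (s0_f2143r IH) (path_edge (s0_f4259r IH) (path_nil s0_v145))))
theorem s0_f4264 : ed sl_bt sq278 = sq472 :=
  real_edge rels S fwd inv o lvl plet idx 26 IH Gen.b sp278 sp472 rfl rfl
theorem s0_f4268 : ed sl_bt sq472 = sq278 :=
  real_edge rels S fwd inv o lvl plet idx 26 IH Gen.b sp472 sp278 rfl rfl
theorem s0_f4272 : ed sl_gt sq277 = s0_v146 :=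
  rfl
theorem s0_f4272r : ed sl_gf s0_v146 = sq277 :=
  edge_flip (s0_f4272 IH)
theorem s0_f4273 : ed sl_gf sq277 = s0_v146 :=
  gap_rel s0_rot6 (path_edge (s0_f4272r IH) (path_nil s0_v146))
theorem s0_f4274 : ed sl_gt sq278 = s0_v147 :=
  rfl
theorem s0_f4274r : ed sl_gf s0_v147 = sq278 :=
  edge_flip (s0_f4274 IH)
theorem s0_f4276 : ed sl_gf sq278 = s0_v147 :=
  gap_rel s0_rot6 (path_edge (s0_f4274r IH) (path_nil s0_v147))
theorem s0_f2156r : ed sl_ff sq152 = sq277 :=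
  edge_flip (s0_f2156 IH)
theorem s0_f4277 : ed sl_ff s0_v146 = s0_v147 :=
  gap_rel s0_rot21 (path_edge (s0_f4273 IH) (path_edge (s0_f2156r IH) (path_edge (s0_f2152 IH) (path_edge (s0_f4274r IH) (path_nil s0_v147)))))
theorem s0_f4277r : ed sl_ft s0_v147 = s0_v146 :=
  edge_flip (s0_f4277 IH)
theorem s0_f4278 : ed sl_ft s0_v146 = s0_v147 :=
  gap_rel s0_rot20 (path_edge (s0_f4277r IH) (path_nil s0_v147))
theorem s0_f4312 : ed sl_at sq1189 = sq761 :=
  real_edge rels S fwd inv o lvl plet idx 26 IH Gen.a sp1189 sp761 rfl rfl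
theorem s0_f4376 : ed sl_at sq287 = sq157 :=
  real_edge rels S fwd inv o lvl plet idx 26 IH Gen.a sp287 sp157 rfl rfl
theorem s0_f4409 : ed sl_bt sq783 = sq485 :=
  real_edge rels S fwd inv o lvl plet idx 26 IH Gen.b sp783 sp485 rfl rfl
theorem s0_f4444 : ed sl_bt sq290 = sq287 :=
  real_edge rels S fwd inv o lvl plet idx 26 IH Gen.b sp290 sp287 rfl rfl
theorem s0_f4464 : ed sl_ft sq291 = sq485 :=
  real_edge rels S fwd inv o lvl plet idx 26 IH Gen.f sp291 sp485 rfl rfl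
theorem s0_f4596 : ed sl_bt s0_v35 = s0_v170 :=
  rfl
theorem s0_f4596r : ed sl_bf s0_v170 = s0_v35 :=
  edge_flip (s0_f4596 IH)
theorem s0_f4597 : ed sl_bf s0_v35 = s0_v170 :=
  gap_rel s0_rot17 (path_edge (s0_f4596r IH) (path_nil s0_v170))
theorem s0_f1924r : ed sl_df s0_v35 = s0_v13 :=
  edge_flip (s0_f1924 IH)
theorem s0_f4598 : ed sl_df s0_v61 = s0_v170 :=
  gap_rel s0_rot36 (path_edge (s0_f2523 IH) (path_edge (s0_f1924r IH) (path_edge (s0_f4596r IH) (path_nil s0_v170))))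
theorem s0_f4598r : ed sl_dt s0_v170 = s0_v61 :=
  edge_flip (s0_f4598 IH)
theorem s0_f4599 : ed sl_dt s0_v61 = s0_v170 :=
  gap_rel s0_rot37 (path_edge (s0_f4598r IH) (path_nil s0_v170))
theorem s0_f4608 : ed sl_bt s0_v37 = s0_v172 :=
  rfl
theorem s0_f4608r : ed sl_bf s0_v172 = s0_v37 :=
  edge_flip (s0_f4608 IH)
theorem s0_f4609 : ed sl_bf s0_v37 = s0_v172 :=
  gap_rel s0_rot17 (path_edge (s0_f4608r IH) (path_nil s0_v172))
theorem s0_f1968r : ed sl_df s0_v37 = s0_v14 :=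
  edge_flip (s0_f1968 IH)
theorem s0_f4610 : ed sl_df s0_v62 = s0_v172 :=
  gap_rel s0_rot36 (path_edge (s0_f2525 IH) (path_edge (s0_f1968r IH) (path_edge (s0_f4608r IH) (path_nil s0_v172))))
theorem s0_f4610r : ed sl_dt s0_v172 = s0_v62 :=
  edge_flip (s0_f4610 IH)
theorem s0_f4611 : ed sl_dt s0_v62 = s0_v172 :=
  gap_rel s0_rot37 (path_edge (s0_f4610r IH) (path_nil s0_v172))
theorem s0_f4620 : ed sl_bt s0_v39 = s0_v174 :=
  rfl
theorem s0_f4620r : ed sl_bf s0_v174 = s0_v39 :=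
  edge_flip (s0_f4620 IH)
theorem s0_f2033r : ed sl_ef s0_v39 = s0_v13 :=
  edge_flip (s0_f2033 IH)
theorem s0_f4622 : ed sl_ef s0_v61 = s0_v174 :=
  gap_rel s0_rot38 (path_edge (s0_f2523 IH) (path_edge (s0_f2033r IH) (path_edge (s0_f4620r IH) (path_nil s0_v174))))
theorem s0_f4622r : ed sl_et s0_v174 = s0_v61 :=
  edge_flip (s0_f4622 IH)
theorem s0_f4623 : ed sl_et s0_v61 = s0_v174 :=
  gap_rel s0_rot39 (path_edge (s0_f4622r IH) (path_nil s0_v174))
theorem s0_f4628 : ed sl_bt s0_v41 = s0_v176 :=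
  rfl
theorem s0_f4628r : ed sl_bf s0_v176 = s0_v41 :=
  edge_flip (s0_f4628 IH)
theorem s0_f4629 : ed sl_bf s0_v41 = s0_v176 :=
  gap_rel s0_rot17 (path_edge (s0_f4628r IH) (path_nil s0_v176))
theorem s0_f4636 : ed sl_bt s0_v43 = s0_v178 :=
  rfl
theorem s0_f4636r : ed sl_bf s0_v178 = s0_v43 :=
  edge_flip (s0_f4636 IH)
theorem s0_f4637 : ed sl_bf s0_v43 = s0_v178 :=
  gap_rel s0_rot17 (path_edge (s0_f4636r IH) (path_nil s0_v178))
theorem s0_f4837 : ed sl_at s0_v61 = s0_v212 :=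
  rfl
theorem s0_f4837r : ed sl_af s0_v212 = s0_v61 :=
  edge_flip (s0_f4837 IH)
theorem s0_f4838 : ed sl_af s0_v61 = s0_v212 :=
  gap_rel s0_rot0 (path_edge (s0_f4837r IH) (path_nil s0_v212))
theorem s0_f4842 : ed sl_ft s0_v61 = s0_v214 :=
  rfl
theorem s0_f4842r : ed sl_ff s0_v214 = s0_v61 :=
  edge_flip (s0_f4842 IH)
theorem s0_f4843 : ed sl_ff s0_v61 = s0_v214 :=
  gap_rel s0_rot12 (path_edge (s0_f4842r IH) (path_nil s0_v214))
theorem s0_f4843r : ed sl_ft s0_v214 = s0_v61 :=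
  edge_flip (s0_f4843 IH)
theorem s0_f2523r : ed sl_bt s0_v61 = s0_v13 :=
  edge_flip (s0_f2523 IH)
theorem s0_f4844 : ed sl_bt s0_v214 = s0_v214 :=
  gap_rel s0_rot13 (path_edge (s0_f4842 IH) (path_edge (s0_f2522 IH) (path_edge (s0_f1148r IH) (path_edge (s0_f2523r IH) (path_edge (s0_f4843r IH) (path_nil s0_v214))))))
theorem s0_f4845 : ed sl_gt s0_v61 = s0_v215 :=
  rfl
theorem s0_f4847 : ed sl_at s0_v62 = s0_v216 :=
  rfl
theorem s0_f4847r : ed sl_af s0_v216 = s0_v62 :=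
  edge_flip (s0_f4847 IH)
theorem s0_f4848 : ed sl_af s0_v62 = s0_v216 :=
  gap_rel s0_rot0 (path_edge (s0_f4847r IH) (path_nil s0_v216))
theorem s0_f4852 : ed sl_ft s0_v62 = s0_v218 :=
  rfl
theorem s0_f4852r : ed sl_ff s0_v218 = s0_v62 :=
  edge_flip (s0_f4852 IH)
theorem s0_f4853 : ed sl_ff s0_v62 = s0_v218 :=
  gap_rel s0_rot12 (path_edge (s0_f4852r IH) (path_nil s0_v218))
theorem s0_f4854 : ed sl_gt s0_v62 = s0_v219 :=
  rfl
theorem s0_f4854r : ed sl_gf s0_v219 = s0_v62 :=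
  edge_flip (s0_f4854 IH)
theorem s0_f4855 : ed sl_gf s0_v62 = s0_v219 :=
  gap_rel s0_rot6 (path_edge (s0_f4854r IH) (path_nil s0_v219))
theorem s0_f4855r : ed sl_gt s0_v219 = s0_v62 :=
  edge_flip (s0_f4855 IH)
theorem s0_f2525r : ed sl_bt s0_v62 = s0_v14 :=
  edge_flip (s0_f2525 IH)
theorem s0_f4856 : ed sl_bt s0_v219 = s0_v219 :=
  gap_rel s0_rot35 (path_edge (s0_f4854 IH) (path_edge (s0_f2524 IH) (path_edge (s0_f1175r IH) (path_edge (s0_f2525r IH) (path_edge (s0_f4855r IH) (path_nil s0_v219))))))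
theorem s0_f5269 : ed sl_ft sq358 = sq203 :=
  real_edge rels S fwd inv o lvl plet idx 26 IH Gen.f sp358 sp203 rfl rfl
theorem s0_f5297 : ed sl_at sq306 = sq179 :=
  real_edge rels S fwd inv o lvl plet idx 26 IH Gen.a sp306 sp179 rfl rfl
theorem s0_f5337 : ed sl_gt sq315 = sq179 :=
  real_edge rels S fwd inv o lvl plet idx 26 IH Gen.g sp315 sp179 rfl rfl
theorem s0_f5600 : ed sl_bt sq570 = sq338 :=
  real_edge rels S fwd inv o lvl plet idx 26 IH Gen.b sp570 sp338 rfl rfl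
theorem s0_f5617 : ed sl_ct sq839 = sq526 :=
  real_edge rels S fwd inv o lvl plet idx 26 IH Gen.c sp839 sp526 rfl rfl
theorem s0_f5624 : ed sl_ct sq338 = sq569 :=
  real_edge rels S fwd inv o lvl plet idx 26 IH Gen.c sp338 sp569 rfl rfl
theorem s0_f5627 : ed sl_ft sq337 = sq569 :=
  real_edge rels S fwd inv o lvl plet idx 26 IH Gen.f sp337 sp569 rfl rfl
theorem s0_f5629 : ed sl_ft sq339 = sq570 :=
  real_edge rels S fwd inv o lvl plet idx 26 IH Gen.f sp339 sp570 rfl rfl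
theorem s0_f5630 : ed sl_gt sq339 = s0_v276 :=
  rfl
theorem s0_f5630r : ed sl_gf s0_v276 = sq339 :=
  edge_flip (s0_f5630 IH)
theorem s0_f5633 : ed sl_gf sq339 = s0_v276 :=
  gap_rel s0_rot6 (path_edge (s0_f5630r IH) (path_nil s0_v276))
theorem s0_f5736 : ed sl_ft sq352 = s0_v280 :=
  rfl
theorem s0_f5737 : ed sl_ft sq355 = sq202 :=
  real_edge rels S fwd inv o lvl plet idx 26 IH Gen.f sp355 sp202 rfl rfl
theorem s0_f5736r : ed sl_ff s0_v280 = sq352 :=
  edge_flip (s0_f5736 IH)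
theorem s0_f5739 : ed sl_ff sq352 = s0_v280 :=
  gap_rel s0_rot12 (path_edge (s0_f5736r IH) (path_nil s0_v280))
theorem s0_f5739r : ed sl_ft s0_v280 = sq352 :=
  edge_flip (s0_f5739 IH)
theorem s0_f5740 : ed sl_at s0_v280 = s0_v280 :=
  gap_rel s0_rot18 (path_edge (s0_f5736 IH) (path_edge (s0_f3065 IH) (path_edge (s0_f5739r IH) (path_nil s0_v280))))
theorem s0_f5784 : ed sl_ft sq353 = s0_v283 :=
  rfl
theorem s0_f5805 : ed sl_at sq355 = sq207 :=
  real_edge rels S fwd inv o lvl plet idx 26 IH Gen.a sp355 sp207 rfl rfl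
theorem s0_f5806 : ed sl_bt sq355 = s0_v285 :=
  rfl
theorem s0_f5806r : ed sl_bf s0_v285 = sq355 :=
  edge_flip (s0_f5806 IH)
theorem s0_f5807 : ed sl_bf sq355 = s0_v285 :=
  gap_rel s0_rot17 (path_edge (s0_f5806r IH) (path_nil s0_v285))
theorem s0_f3126r : ed sl_df sq355 = sq204 :=
  edge_flip (s0_f3126 IH)
theorem s0_f5808 : ed sl_df s0_v98 = s0_v285 :=
  gap_rel s0_rot36 (path_edge (s0_f3113 IH) (path_edge (s0_f3126r IH) (path_edge (s0_f5806r IH) (path_nil s0_v285))))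
theorem s0_f5808r : ed sl_dt s0_v285 = s0_v98 :=
  edge_flip (s0_f5808 IH)
theorem s0_f5812 : ed sl_dt s0_v98 = s0_v285 :=
  gap_rel s0_rot37 (path_edge (s0_f5808r IH) (path_nil s0_v285))
theorem s0_f5863 : ed sl_bt sq358 = s0_v287 :=
  rfl
theorem s0_f5863r : ed sl_bf s0_v287 = sq358 :=
  edge_flip (s0_f5863 IH)
theorem s0_f5864 : ed sl_bf sq358 = s0_v287 :=
  gap_rel s0_rot17 (path_edge (s0_f5863r IH) (path_nil s0_v287))
theorem s0_f3127r : ed sl_ef sq358 = sq204 :=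
  edge_flip (s0_f3127 IH)
theorem s0_f5866 : ed sl_ef s0_v98 = s0_v287 :=
  gap_rel s0_rot38 (path_edge (s0_f3113 IH) (path_edge (s0_f3127r IH) (path_edge (s0_f5863r IH) (path_nil s0_v287))))
theorem s0_f5866r : ed sl_et s0_v287 = s0_v98 :=
  edge_flip (s0_f5866 IH)
theorem s0_f5872 : ed sl_et s0_v98 = s0_v287 :=
  gap_rel s0_rot39 (path_edge (s0_f5866r IH) (path_nil s0_v287))
theorem s0_f5916 : ed sl_at sq363 = s0_v289 :=
  rfl
theorem s0_f5916r : ed sl_af s0_v289 = sq363 :=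
  edge_flip (s0_f5916 IH)
theorem s0_f3318r : ed sl_ff sq363 = sq219 :=
  edge_flip (s0_f3318 IH)
theorem s0_f1917r : ed sl_af sq219 = sq383 :=
  edge_flip (s0_f1917 IH)
theorem s0_f5920 : ed sl_ff sq383 = s0_v289 :=
  gap_rel s0_rot1 (path_edge (s0_f1917r IH) (path_edge (s0_f3318r IH) (path_edge (s0_f5916r IH) (path_nil s0_v289))))
theorem s0_f5921 : ed sl_dt sq374 = sq618 :=
  real_edge rels S fwd inv o lvl plet idx 26 IH Gen.d sp374 sp618 rfl rfl
theorem s0_f5920r : ed sl_ft s0_v289 = sq383 :=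
  edge_flip (s0_f5920 IH)
theorem s0_f5922 : ed sl_dt s0_v100 = s0_v289 :=
  gap_rel s0_rot5 (path_edge (s0_f3230 IH) (path_edge (s0_f3234 IH) (path_edge (s0_f5920r IH) (path_nil s0_v289))))
theorem s0_f5924 : ed sl_ft sq383 = s0_v289 :=
  gap_rel s0_rot20 (path_edge (s0_f5920r IH) (path_nil s0_v289))
theorem s0_f5929 : ed sl_ct sq363 = s0_v290 :=
  rfl
theorem s0_f5929r : ed sl_cf s0_v290 = sq363 :=
  edge_flip (s0_f5929 IH)
theorem s0_f391r : ed sl_cf sq219 = sq384 :=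
  edge_flip (s0_f391 IH)
theorem s0_f5931 : ed sl_ff sq384 = s0_v290 :=
  gap_rel s0_rot11 (path_edge (s0_f391r IH) (path_edge (s0_f3318r IH) (path_edge (s0_f5929r IH) (path_nil s0_v290))))
theorem s0_f5940 : ed sl_bt sq834 = sq618 :=
  real_edge rels S fwd inv o lvl plet idx 26 IH Gen.b sp834 sp618 rfl rfl
theorem s0_f5931r : ed sl_ft s0_v290 = sq384 :=
  edge_flip (s0_f5931 IH)
theorem s0_f5942 : ed sl_ft sq384 = s0_v290 :=
  gap_rel s0_rot20 (path_edge (s0_f5931r IH) (path_nil s0_v290))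
theorem s0_f5984 : ed sl_ct sq365 = s0_v293 :=
  rfl
theorem s0_f5984r : ed sl_cf s0_v293 = sq365 :=
  edge_flip (s0_f5984 IH)
theorem s0_f1936r : ed sl_gf sq365 = sq220 :=
  edge_flip (s0_f1936 IH)
theorem s0_f3579r : ed sl_cf sq220 = sq387 :=
  edge_flip (s0_f3579 IH)
theorem s0_f5986 : ed sl_gf sq387 = s0_v293 :=
  gap_rel s0_rot16 (path_edge (s0_f3579r IH) (path_edge (s0_f1936r IH) (path_edge (s0_f5984r IH) (path_nil s0_v293))))
theorem s0_f5986r : ed sl_gt s0_v293 = sq387 :=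
  edge_flip (s0_f5986 IH)
theorem s0_f5997 : ed sl_gt sq387 = s0_v293 :=
  gap_rel s0_rot23 (path_edge (s0_f5986r IH) (path_nil s0_v293))
theorem s0_f6126 : ed sl_at sq374 = s0_v299 :=
  rfl
theorem s0_f6126r : ed sl_af s0_v299 = sq374 :=
  edge_flip (s0_f6126 IH)
theorem s0_f6127 : ed sl_af sq374 = s0_v299 :=
  gap_rel s0_rot0 (path_edge (s0_f6126r IH) (path_nil s0_v299))
theorem s0_f6128 : ed sl_bt sq521 = sq374 :=
  real_edge rels S fwd inv o lvl plet idx 26 IH Gen.b sp521 sp374 rfl rfl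
theorem s0_f6129 : ed sl_at sq833 = sq521 :=
  real_edge rels S fwd inv o lvl plet idx 26 IH Gen.a sp833 sp521 rfl rfl
theorem s0_f6130 : ed sl_bt sq1278 = sq833 :=
  real_edge rels S fwd inv o lvl plet idx 26 IH Gen.b sp1278 sp833 rfl rfl
theorem s0_f3238r : ed sl_cf sq374 = sq212 :=
  edge_flip (s0_f3238 IH)
theorem s0_f6131 : ed sl_cf s0_v100 = s0_v299 :=
  gap_rel s0_rot2 (path_edge (s0_f3221 IH) (path_edge (s0_f3238r IH) (path_edge (s0_f6126r IH) (path_nil s0_v299))))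
theorem s0_f2762r : ed sl_ff sq374 = sq227 :=
  edge_flip (s0_f2762 IH)
theorem s0_f2763r : ed sl_af sq227 = sq400 :=
  edge_flip (s0_f2763 IH)
theorem s0_f6133 : ed sl_ff sq400 = s0_v299 :=
  gap_rel s0_rot1 (path_edge (s0_f2763r IH) (path_edge (s0_f2762r IH) (path_edge (s0_f6126r IH) (path_nil s0_v299))))
theorem s0_f6133r : ed sl_ft s0_v299 = sq400 :=
  edge_flip (s0_f6133 IH)
theorem s0_f6134 : ed sl_ct s0_v100 = s0_v299 :=
  gap_rel s0_rot27 (path_edge (s0_f3230 IH) (path_edge (s0_f3233 IH) (path_edge (s0_f6133r IH) (path_nil s0_v299))))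
theorem s0_f6137 : ed sl_ft sq400 = s0_v299 :=
  gap_rel s0_rot20 (path_edge (s0_f6133r IH) (path_nil s0_v299))
theorem s0_f6134r : ed sl_cf s0_v299 = s0_v100 :=
  edge_flip (s0_f6134 IH)
theorem s0_f1155r : ed sl_af sq226 = sq119 :=
  edge_flip (s0_f1155 IH)
theorem s0_f887r : ed sl_bf sq119 = sq55 :=
  edge_flip (s0_f887 IH)
theorem s0_f502r : ed sl_cf sq55 = sq27 :=
  edge_flip (s0_f502 IH)
theorem s0_f237r : ed sl_ff sq27 = sq12 :=
  edge_flip (s0_f237 IH)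
theorem s0_f49r : ed sl_af sq12 = sq7 :=
  edge_flip (s0_f49 IH)
theorem s0_f36r : ed sl_bf sq7 = sq5 :=
  edge_flip (s0_f36 IH)
theorem s0_f37r : ed sl_cf sq5 = sq5 :=
  edge_flip (s0_f37 IH)
theorem s0_f40r : ed sl_ff sq5 = sq5 :=
  edge_flip (s0_f40 IH)
theorem s0_f35r : ed sl_af sq5 = sq5 :=
  edge_flip (s0_f35 IH)
theorem s0_f50r : ed sl_bf sq5 = sq7 :=
  edge_flip (s0_f50 IH)
theorem s0_f160r : ed sl_cf sq7 = sq15 :=
  edge_flip (s0_f160 IH)
theorem s0_f540r : ed sl_ff sq15 = sq33 :=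
  edge_flip (s0_f540 IH)
theorem s0_f886r : ed sl_af sq33 = sq55 :=
  edge_flip (s0_f886 IH)
theorem s0_f1141r : ed sl_bf sq55 = sq119 :=
  edge_flip (s0_f1141 IH)
theorem s0_f410r : ed sl_cf sq119 = sq227 :=
  edge_flip (s0_f410 IH)
theorem s0_f3237r : ed sl_ff sq227 = sq374 :=
  edge_flip (s0_f3237 IH)
theorem s0_f6142 : ed sl_bf s0_v299 = s0_v299 :=
  gap_rel s0_rot40 (path_edge (s0_f6127 IH) (path_edge (s0_f3237r IH) (path_edge (s0_f410r IH) (path_edge (s0_f1141r IH) (path_edge (s0_f886r IH) (path_edge (s0_f540r IH) (path_edge (s0_f160r IH) (path_edge (s0_f50r IH) (path_edge (s0_f35r IH) (path_edge (s0_f40r IH) (path_edge (s0_f37r IH) (path_edge (s0_f36r IH) (path_edge (s0_f49r IH) (path_edge (s0_f237r IH) (path_edge (s0_f502r IH) (path_edge (s0_f887r IH) (path_edge (s0_f1155r IH) (path_edge (s0_f3230r IH) (path_edge (s0_f6134r IH) (path_nil s0_v299))))))))))))))))))))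
theorem s0_f6143 : ed sl_bt sq833 = sq1278 :=
  real_edge rels S fwd inv o lvl plet idx 26 IH Gen.b sp833 sp1278 rfl rfl
theorem s0_f6142r : ed sl_bt s0_v299 = s0_v299 :=
  edge_flip (s0_f6142 IH)
theorem s0_f6127r : ed sl_at s0_v299 = sq374 :=
  edge_flip (s0_f6127 IH)
theorem s0_f6144 : ed sl_at sq1278 = sq1278 :=
  gap_rel s0_rot41 (path_edge (s0_f6143 IH) (path_edge (s0_f3355 IH) (path_edge (s0_f3354 IH) (path_edge (s0_f6127r IH) (path_edge (s0_f6142r IH) (path_edge (s0_f6126 IH) (path_edge (s0_f6128 IH) (path_edge (s0_f6129 IH) (path_edge (s0_f6130 IH) (path_nil sq1278))))))))))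
theorem s0_f6146 : ed sl_ft sq657 = sq657 :=
  gap_rel s0_rot42 (path_edge (s0_f3227 IH) (path_edge (s0_f6133r IH) (path_edge (s0_f6142r IH) (path_edge (s0_f6137 IH) (path_edge (s0_f2764 IH) (path_nil sq657))))))
theorem s0_f6183 : ed sl_dt sq1939 = sq1278 :=
  real_edge rels S fwd inv o lvl plet idx 26 IH Gen.d sp1939 sp1278 rfl rfl
theorem s0_f6184 : ed sl_dt sq1278 = sq1939 :=
  real_edge rels S fwd inv o lvl plet idx 26 IH Gen.d sp1278 sp1939 rfl rfl
theorem s0_f6184r : ed sl_df sq1939 = sq1278 :=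
  edge_flip (s0_f6184 IH)
theorem s0_f6144r : ed sl_af sq1278 = sq1278 :=
  edge_flip (s0_f6144 IH)
theorem s0_f6183r : ed sl_df sq1278 = sq1939 :=
  edge_flip (s0_f6183 IH)
theorem s0_f6185 : ed sl_af sq1939 = sq1939 :=
  gap_rel s0_rot43 (path_edge (s0_f6183r IH) (path_edge (s0_f6144r IH) (path_edge (s0_f6184r IH) (path_nil sq1939))))
theorem s0_f6226 : ed sl_bt sq1939 = sq1279 :=
  real_edge rels S fwd inv o lvl plet idx 26 IH Gen.b sp1939 sp1279 rfl rfl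
theorem s0_f6227 : ed sl_at sq1279 = sq834 :=
  real_edge rels S fwd inv o lvl plet idx 26 IH Gen.a sp1279 sp834 rfl rfl
theorem s0_f6228 : ed sl_bt sq1279 = sq1939 :=
  real_edge rels S fwd inv o lvl plet idx 26 IH Gen.b sp1279 sp1939 rfl rfl
theorem s0_f6229 : ed sl_at sq834 = sq1279 :=
  real_edge rels S fwd inv o lvl plet idx 26 IH Gen.a sp834 sp1279 rfl rfl
theorem s0_f6230 : ed sl_bt sq618 = sq834 :=
  real_edge rels S fwd inv o lvl plet idx 26 IH Gen.b sp618 sp834 rfl rfl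
theorem s0_f6246 : ed sl_at sq375 = sq619 :=
  real_edge rels S fwd inv o lvl plet idx 26 IH Gen.a sp375 sp619 rfl rfl
theorem s0_f6250 : ed sl_ft sq375 = s0_v301 :=
  rfl
theorem s0_f6251 : ed sl_at sq619 = sq375 :=
  real_edge rels S fwd inv o lvl plet idx 26 IH Gen.a sp619 sp375 rfl rfl
theorem s0_f6250r : ed sl_ff s0_v301 = sq375 :=
  edge_flip (s0_f6250 IH)
theorem s0_f6255 : ed sl_ff sq375 = s0_v301 :=
  gap_rel s0_rot12 (path_edge (s0_f6250r IH) (path_nil s0_v301))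
theorem s0_f6257 : ed sl_gt sq375 = s0_v302 :=
  rfl
theorem s0_f6257r : ed sl_gf s0_v302 = sq375 :=
  edge_flip (s0_f6257 IH)
theorem s0_f3096r : ed sl_bf sq375 = sq213 :=
  edge_flip (s0_f3096 IH)
theorem s0_f1740r : ed sl_gf sq213 = sq111 :=
  edge_flip (s0_f1740 IH)
theorem s0_f2170r : ed sl_bf sq111 = sq212 :=
  edge_flip (s0_f2170 IH)
theorem s0_f6258 : ed sl_bf s0_v101 = s0_v302 :=
  gap_rel s0_rot32 (path_edge (s0_f3246 IH) (path_edge (s0_f2170r IH) (path_edge (s0_f1740r IH) (path_edge (s0_f3096r IH) (path_edge (s0_f6257r IH) (path_nil s0_v302))))))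
theorem s0_f6259 : ed sl_gf sq375 = s0_v302 :=
  gap_rel s0_rot6 (path_edge (s0_f6257r IH) (path_nil s0_v302))
theorem s0_f6259r : ed sl_gt s0_v302 = sq375 :=
  edge_flip (s0_f6259 IH)
theorem s0_f6260 : ed sl_bt s0_v101 = s0_v302 :=
  gap_rel s0_rot35 (path_edge (s0_f3244 IH) (path_edge (s0_f1735 IH) (path_edge (s0_f3245 IH) (path_edge (s0_f3150 IH) (path_edge (s0_f6259r IH) (path_nil s0_v302))))))
theorem s0_f6271 : ed sl_dt sq404 = sq664 :=
  real_edge rels S fwd inv o lvl plet idx 26 IH Gen.d sp404 sp664 rfl rfl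
theorem s0_f6273 : ed sl_ft sq404 = sq665 :=
  real_edge rels S fwd inv o lvl plet idx 26 IH Gen.f sp404 sp665 rfl rfl
theorem s0_f6278 : ed sl_ft sq376 = s0_v304 :=
  rfl
theorem s0_f6279 : ed sl_ft sq839 = sq525 :=
  real_edge rels S fwd inv o lvl plet idx 26 IH Gen.f sp839 sp525 rfl rfl
theorem s0_f6278r : ed sl_ff s0_v304 = sq376 :=
  edge_flip (s0_f6278 IH)
theorem s0_f6281 : ed sl_ff sq376 = s0_v304 :=
  gap_rel s0_rot12 (path_edge (s0_f6278r IH) (path_nil s0_v304))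
theorem s0_f3394r : ed sl_gf sq376 = sq230 :=
  edge_flip (s0_f3394 IH)
theorem s0_f3376r : ed sl_ff sq404 = sq665 :=
  edge_flip (s0_f3376 IH)
theorem s0_f6282 : ed sl_gf sq665 = s0_v304 :=
  gap_rel s0_rot22 (path_edge (s0_f3376r IH) (path_edge (s0_f3389 IH) (path_edge (s0_f3394r IH) (path_edge (s0_f6278r IH) (path_nil s0_v304)))))
theorem s0_f6282r : ed sl_gt s0_v304 = sq665 :=
  edge_flip (s0_f6282 IH)
theorem s0_f6285 : ed sl_gt sq665 = s0_v304 :=
  gap_rel s0_rot23 (path_edge (s0_f6282r IH) (path_nil s0_v304))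
theorem s0_f6287 : ed sl_gt sq525 = sq337 :=
  real_edge rels S fwd inv o lvl plet idx 26 IH Gen.g sp525 sp337 rfl rfl
theorem s0_f6289 : ed sl_ft sq525 = sq839 :=
  real_edge rels S fwd inv o lvl plet idx 26 IH Gen.f sp525 sp839 rfl rfl
theorem s0_f6290 : ed sl_at sq377 = sq622 :=
  real_edge rels S fwd inv o lvl plet idx 26 IH Gen.a sp377 sp622 rfl rfl
theorem s0_f6291 : ed sl_ct sq377 = sq623 :=
  real_edge rels S fwd inv o lvl plet idx 26 IH Gen.c sp377 sp623 rfl rfl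

end

end

end Cfsg.Agent.Helper28.S1681
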