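import Cfsg.Agent.Lib.Helper28.S1681.Seeds0

set_option autoImplicit false
set_option maxRecDepth 100000
set_option linter.all false

namespace Cfsg.Agent.Helper28.S1681

open Cfsg.Agent.Helper28
open Cfsg.Spor.Suz (Gen)

noncomputable section

section
variable (IH : ∀ y q, lvl y q < 26 → EntryOK rels S fwd inv o plet idx y q)
include IH

theorem s0_f6294 : ed sl_ft sq377 = s0_v305 :=
  rfl
theorem s0_f6295 : ed sl_at sq622 = sq377 :=
  real_edge rels S fwd inv o lvl plet idx 26 IH Gen.a sp622 sp377 rfl rfl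
theorem s0_f6297 : ed sl_ct sq623 = sq377 :=
  real_edge rels S fwd inv o lvl plet idx 26 IH Gen.c sp623 sp377 rfl rfl
theorem s0_f6294r : ed sl_ff s0_v305 = sq377 :=
  edge_flip (s0_f6294 IH)
theorem s0_f6300 : ed sl_ff sq377 = s0_v305 :=
  gap_rel s0_rot12 (path_edge (s0_f6294r IH) (path_nil s0_v305))
theorem s0_f6300r : ed sl_ft s0_v305 = sq377 :=
  edge_flip (s0_f6300 IH)
theorem s0_f6301 : ed sl_bt s0_v103 = s0_v305 :=
  gap_rel s0_rot13 (path_edge (s0_f3280 IH) (path_edge (s0_f1742 IH) (path_edge (s0_f2116 IH) (path_edge (s0_f3101 IH) (path_edge (s0_f6300r IH) (path_nil s0_v305))))))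
theorem s0_f6303 : ed sl_gt sq377 = s0_v306 :=
  rfl
theorem s0_f6303r : ed sl_gf s0_v306 = sq377 :=
  edge_flip (s0_f6303 IH)
theorem s0_f6304 : ed sl_gf sq377 = s0_v306 :=
  gap_rel s0_rot6 (path_edge (s0_f6303r IH) (path_nil s0_v306))
theorem s0_f6328 : ed sl_bt sq383 = s0_v307 :=
  rfl
theorem s0_f6328r : ed sl_bf s0_v307 = sq383 :=
  edge_flip (s0_f6328 IH)
theorem s0_f3228r : ed sl_df sq383 = sq226 :=
  edge_flip (s0_f3228 IH)
theorem s0_f6330 : ed sl_df s0_v104 = s0_v307 :=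
  gap_rel s0_rot36 (path_edge (s0_f3352 IH) (path_edge (s0_f3228r IH) (path_edge (s0_f6328r IH) (path_nil s0_v307))))
theorem s0_f6330r : ed sl_dt s0_v307 = s0_v104 :=
  edge_flip (s0_f6330 IH)
theorem s0_f6331 : ed sl_dt s0_v104 = s0_v307 :=
  gap_rel s0_rot37 (path_edge (s0_f6330r IH) (path_nil s0_v307))
theorem s0_f6338 : ed sl_ct sq383 = s0_v308 :=
  rfl
theorem s0_f6338r : ed sl_cf s0_v308 = sq383 :=
  edge_flip (s0_f6338 IH)
theorem s0_f6340 : ed sl_cf sq383 = s0_v308 :=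
  gap_rel s0_rot31 (path_edge (s0_f6338r IH) (path_nil s0_v308))
theorem s0_f6341 : ed sl_at sq658 = sq402 :=
  real_edge rels S fwd inv o lvl plet idx 26 IH Gen.a sp658 sp402 rfl rfl
theorem s0_f6340r : ed sl_ct s0_v308 = sq383 :=
  edge_flip (s0_f6340 IH)
theorem s0_f6343 : ed sl_at sq384 = s0_v308 :=
  gap_rel s0_rot44 (path_edge (s0_f412 IH) (path_edge (s0_f1917 IH) (path_edge (s0_f6340r IH) (path_nil s0_v308))))
theorem s0_f6344 : ed sl_dt sq384 = s0_v309 :=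
  rfl
theorem s0_f6344r : ed sl_df s0_v309 = sq384 :=
  edge_flip (s0_f6344 IH)
theorem s0_f1927r : ed sl_bf sq384 = sq259 :=
  edge_flip (s0_f1927 IH)
theorem s0_f6345 : ed sl_bf s0_v124 = s0_v309 :=
  gap_rel s0_rot45 (path_edge (s0_f3772 IH) (path_edge (s0_f1927r IH) (path_edge (s0_f6344r IH) (path_nil s0_v309))))
theorem s0_f6346 : ed sl_df sq384 = s0_v309 :=
  gap_rel s0_rot28 (path_edge (s0_f6344r IH) (path_nil s0_v309))
theorem s0_f6346r : ed sl_dt s0_v309 = sq384 :=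
  edge_flip (s0_f6346 IH)
theorem s0_f6378 : ed sl_bt s0_v124 = s0_v309 :=
  gap_rel s0_rot46 (path_edge (s0_f3771 IH) (path_edge (s0_f413 IH) (path_edge (s0_f6346r IH) (path_nil s0_v309))))
theorem s0_f6392 : ed sl_gt sq384 = s0_v310 :=
  rfl
theorem s0_f6414 : ed sl_bt sq386 = s0_v312 :=
  rfl
theorem s0_f6414r : ed sl_bf s0_v312 = sq386 :=
  edge_flip (s0_f6414 IH)
theorem s0_f6415 : ed sl_bf sq386 = s0_v312 :=
  gap_rel s0_rot17 (path_edge (s0_f6414r IH) (path_nil s0_v312))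
theorem s0_f6424 : ed sl_ct sq386 = s0_v313 :=
  rfl
theorem s0_f6424r : ed sl_cf s0_v313 = sq386 :=
  edge_flip (s0_f6424 IH)
theorem s0_f6426 : ed sl_cf sq386 = s0_v313 :=
  gap_rel s0_rot31 (path_edge (s0_f6424r IH) (path_nil s0_v313))
theorem s0_f6427 : ed sl_at sq664 = sq406 :=
  real_edge rels S fwd inv o lvl plet idx 26 IH Gen.a sp664 sp406 rfl rfl
theorem s0_f6426r : ed sl_ct s0_v313 = sq386 :=
  edge_flip (s0_f6426 IH)
theorem s0_f6429 : ed sl_at sq387 = s0_v313 :=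
  gap_rel s0_rot44 (path_edge (s0_f3320 IH) (path_edge (s0_f1961 IH) (path_edge (s0_f6426r IH) (path_nil s0_v313))))
theorem s0_f6430 : ed sl_et sq663 = sq1031 :=
  real_edge rels S fwd inv o lvl plet idx 26 IH Gen.e sp663 sp1031 rfl rfl
theorem s0_f6431 : ed sl_dt sq1031 = sq1559 :=
  real_edge rels S fwd inv o lvl plet idx 26 IH Gen.d sp1031 sp1559 rfl rfl
theorem s0_f6432 : ed sl_ct sq1559 = sq2401 :=
  real_edge rels S fwd inv o lvl plet idx 26 IH Gen.c sp1559 sp2401 rfl rfl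
theorem s0_f6433 : ed sl_dt sq2401 = sq3971 :=
  real_edge rels S fwd inv o lvl plet idx 26 IH Gen.d sp2401 sp3971 rfl rfl
theorem s0_f6434 : ed sl_dt sq387 = s0_v314 :=
  rfl
theorem s0_f6434r : ed sl_df s0_v314 = sq387 :=
  edge_flip (s0_f6434 IH)
theorem s0_f1977r : ed sl_bf sq387 = sq261 :=
  edge_flip (s0_f1977 IH)
theorem s0_f6435 : ed sl_bf s0_v130 = s0_v314 :=
  gap_rel s0_rot45 (path_edge (s0_f3919 IH) (path_edge (s0_f1977r IH) (path_edge (s0_f6434r IH) (path_nil s0_v314))))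
theorem s0_f6436 : ed sl_df sq387 = s0_v314 :=
  gap_rel s0_rot28 (path_edge (s0_f6434r IH) (path_nil s0_v314))
theorem s0_f6436r : ed sl_dt s0_v314 = sq387 :=
  edge_flip (s0_f6436 IH)
theorem s0_f6462 : ed sl_bt s0_v130 = s0_v314 :=
  gap_rel s0_rot46 (path_edge (s0_f3918 IH) (path_edge (s0_f3605 IH) (path_edge (s0_f6436r IH) (path_nil s0_v314))))
theorem s0_f6471 : ed sl_ft sq387 = s0_v315 :=
  rfl
theorem s0_f6471r : ed sl_ff s0_v315 = sq387 :=
  edge_flip (s0_f6471 IH)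
theorem s0_f3320r : ed sl_cf sq387 = sq220 :=
  edge_flip (s0_f3320 IH)
theorem s0_f3867r : ed sl_ff sq220 = sq388 :=
  edge_flip (s0_f3867 IH)
theorem s0_f6472 : ed sl_cf sq388 = s0_v315 :=
  gap_rel s0_rot47 (path_edge (s0_f3867r IH) (path_edge (s0_f3320r IH) (path_edge (s0_f6471r IH) (path_nil s0_v315))))
theorem s0_f6473 : ed sl_ff sq387 = s0_v315 :=
  gap_rel s0_rot12 (path_edge (s0_f6471r IH) (path_nil s0_v315))
theorem s0_f6473r : ed sl_ft s0_v315 = sq387 :=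
  edge_flip (s0_f6473 IH)
theorem s0_f6474 : ed sl_ct sq388 = s0_v315 :=
  gap_rel s0_rot27 (path_edge (s0_f3323 IH) (path_edge (s0_f3579 IH) (path_edge (s0_f6473r IH) (path_nil s0_v315))))
theorem s0_f6574 : ed sl_bt sq401 = s0_v321 :=
  rfl
theorem s0_f6585 : ed sl_bt sq402 = sq240 :=
  real_edge rels S fwd inv o lvl plet idx 26 IH Gen.b sp402 sp240 rfl rfl
theorem s0_f6606 : ed sl_ft sq402 = sq618 :=
  real_edge rels S fwd inv o lvl plet idx 26 IH Gen.f sp402 sp618 rfl rfl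
theorem s0_f6636 : ed sl_bt sq405 = s0_v324 :=
  rfl
theorem s0_f6636r : ed sl_bf s0_v324 = sq405 :=
  edge_flip (s0_f6636 IH)
theorem s0_f6637 : ed sl_bf sq405 = s0_v324 :=
  gap_rel s0_rot17 (path_edge (s0_f6636r IH) (path_nil s0_v324))
theorem s0_f6638 : ed sl_ft sq569 = sq337 :=
  real_edge rels S fwd inv o lvl plet idx 26 IH Gen.f sp569 sp337 rfl rfl
theorem s0_f6650 : ed sl_gt sq621 = sq406 :=
  real_edge rels S fwd inv o lvl plet idx 26 IH Gen.g sp621 sp406 rfl rfl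
theorem s0_f6661 : ed sl_ft sq406 = sq667 :=
  real_edge rels S fwd inv o lvl plet idx 26 IH Gen.f sp406 sp667 rfl rfl
theorem s0_f6662 : ed sl_gt sq406 = sq621 :=
  real_edge rels S fwd inv o lvl plet idx 26 IH Gen.g sp406 sp621 rfl rfl
theorem s0_f6678 : ed sl_gt sq407 = s0_v326 :=
  rfl
theorem s0_f6678r : ed sl_gf s0_v326 = sq407 :=
  edge_flip (s0_f6678 IH)
theorem s0_f6683 : ed sl_gf sq407 = s0_v326 :=
  gap_rel s0_rot6 (path_edge (s0_f6678r IH) (path_nil s0_v326))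
theorem s0_f6683r : ed sl_gt s0_v326 = sq407 :=
  edge_flip (s0_f6683 IH)
theorem s0_f6687 : ed sl_ct s0_v107 = s0_v326 :=
  gap_rel s0_rot30 (path_edge (s0_f3395 IH) (path_edge (s0_f2108 IH) (path_edge (s0_f6683r IH) (path_nil s0_v326))))
theorem s0_f6784 : ed sl_bt sq418 = s0_v331 :=
  rfl
theorem s0_f6784r : ed sl_bf s0_v331 = sq418 :=
  edge_flip (s0_f6784 IH)
theorem s0_f1401r : ed sl_df sq418 = sq239 :=
  edge_flip (s0_f1401 IH)
theorem s0_f6786 : ed sl_df s0_v109 = s0_v331 :=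
  gap_rel s0_rot36 (path_edge (s0_f3460 IH) (path_edge (s0_f1401r IH) (path_edge (s0_f6784r IH) (path_nil s0_v331))))
theorem s0_f6786r : ed sl_dt s0_v331 = s0_v109 :=
  edge_flip (s0_f6786 IH)
theorem s0_f6793 : ed sl_dt s0_v109 = s0_v331 :=
  gap_rel s0_rot37 (path_edge (s0_f6786r IH) (path_nil s0_v331))
theorem s0_f7382 : ed sl_ct sq468 = sq760 :=
  real_edge rels S fwd inv o lvl plet idx 26 IH Gen.c sp468 sp760 rfl rfl
theorem s0_f7397 : ed sl_ct sq447 = s0_v360 :=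
  rfl
theorem s0_f7397r : ed sl_cf s0_v360 = sq447 :=
  edge_flip (s0_f7397 IH)
theorem s0_f3971r : ed sl_af sq447 = sq262 :=
  edge_flip (s0_f3971 IH)
theorem s0_f7398 : ed sl_af s0_v132 = s0_v360 :=
  gap_rel s0_rot48 (path_edge (s0_f3975 IH) (path_edge (s0_f3971r IH) (path_edge (s0_f7397r IH) (path_nil s0_v360))))
theorem s0_f7399 : ed sl_cf sq447 = s0_v360 :=
  gap_rel s0_rot31 (path_edge (s0_f7397r IH) (path_nil s0_v360))
theorem s0_f7434 : ed sl_gt sq447 = s0_v362 :=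
  rfl
theorem s0_f7434r : ed sl_gf s0_v362 = sq447 :=
  edge_flip (s0_f7434 IH)
theorem s0_f7437 : ed sl_gf sq447 = s0_v362 :=
  gap_rel s0_rot6 (path_edge (s0_f7434r IH) (path_nil s0_v362))
theorem s0_f7437r : ed sl_gt s0_v362 = sq447 :=
  edge_flip (s0_f7437 IH)
theorem s0_f7438 : ed sl_at s0_v134 = s0_v362 :=
  gap_rel s0_rot19 (path_edge (s0_f4030 IH) (path_edge (s0_f3973 IH) (path_edge (s0_f7437r IH) (path_nil s0_v362))))
theorem s0_f7690 : ed sl_gt sq464 = s0_v374 :=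
  rfl
theorem s0_f7711 : ed sl_bt sq754 = sq754 :=
  real_edge rels S fwd inv o lvl plet idx 26 IH Gen.b sp754 sp754 rfl rfl
theorem s0_f7717 : ed sl_gt sq761 = sq1190 :=
  real_edge rels S fwd inv o lvl plet idx 26 IH Gen.g sp761 sp1190 rfl rfl
theorem s0_f7727 : ed sl_at sq468 = sq759 :=
  real_edge rels S fwd inv o lvl plet idx 26 IH Gen.a sp468 sp759 rfl rfl
theorem s0_f7730 : ed sl_ft sq468 = s0_v379 :=
  rfl
theorem s0_f7731 : ed sl_at sq759 = sq468 :=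
  real_edge rels S fwd inv o lvl plet idx 26 IH Gen.a sp759 sp468 rfl rfl
theorem s0_f7730r : ed sl_ff s0_v379 = sq468 :=
  edge_flip (s0_f7730 IH)
theorem s0_f7733 : ed sl_ff sq468 = s0_v379 :=
  gap_rel s0_rot12 (path_edge (s0_f7730r IH) (path_nil s0_v379))
theorem s0_f7734 : ed sl_bt sq765 = sq759 :=
  real_edge rels S fwd inv o lvl plet idx 26 IH Gen.b sp765 sp759 rfl rfl
theorem s0_f7736 : ed sl_bt sq760 = sq1187 :=
  real_edge rels S fwd inv o lvl plet idx 26 IH Gen.b sp760 sp1187 rfl rfl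
theorem s0_f7737 : ed sl_gt sq468 = s0_v380 :=
  rfl
theorem s0_f7737r : ed sl_gf s0_v380 = sq468 :=
  edge_flip (s0_f7737 IH)
theorem s0_f7738 : ed sl_gf sq468 = s0_v380 :=
  gap_rel s0_rot6 (path_edge (s0_f7737r IH) (path_nil s0_v380))
theorem s0_f7739 : ed sl_ft sq469 = s0_v381 :=
  rfl
theorem s0_f7739r : ed sl_ff s0_v381 = sq469 :=
  edge_flip (s0_f7739 IH)
theorem s0_f3848r : ed sl_cf sq469 = sq275 :=
  edge_flip (s0_f3848 IH)
theorem s0_f7741 : ed sl_cf s0_v143 = s0_v381 :=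
  gap_rel s0_rot47 (path_edge (s0_f4241 IH) (path_edge (s0_f3848r IH) (path_edge (s0_f7739r IH) (path_nil s0_v381))))
theorem s0_f7744 : ed sl_ct sq780 = sq783 :=
  real_edge rels S fwd inv o lvl plet idx 26 IH Gen.c sp780 sp783 rfl rfl
theorem s0_f7780 : ed sl_at sq472 = sq765 :=
  real_edge rels S fwd inv o lvl plet idx 26 IH Gen.a sp472 sp765 rfl rfl
theorem s0_f7788 : ed sl_gt sq471 = s0_v385 :=
  rfl
theorem s0_f7788r : ed sl_gf s0_v385 = sq471 :=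
  edge_flip (s0_f7788 IH)
theorem s0_f7790 : ed sl_gf sq471 = s0_v385 :=
  gap_rel s0_rot6 (path_edge (s0_f7788r IH) (path_nil s0_v385))
theorem s0_f7790r : ed sl_gt s0_v385 = sq471 :=
  edge_flip (s0_f7790 IH)
theorem s0_f7791 : ed sl_ct s0_v146 = s0_v385 :=
  gap_rel s0_rot30 (path_edge (s0_f4272 IH) (path_edge (s0_f1986 IH) (path_edge (s0_f7790r IH) (path_nil s0_v385))))
theorem s0_f7794 : ed sl_ft sq472 = s0_v386 :=
  rfl
theorem s0_f7795 : ed sl_at sq765 = sq472 :=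
  real_edge rels S fwd inv o lvl plet idx 26 IH Gen.a sp765 sp472 rfl rfl
theorem s0_f7794r : ed sl_ff s0_v386 = sq472 :=
  edge_flip (s0_f7794 IH)
theorem s0_f7797 : ed sl_ff sq472 = s0_v386 :=
  gap_rel s0_rot12 (path_edge (s0_f7794r IH) (path_nil s0_v386))
theorem s0_f7798 : ed sl_bt sq759 = sq765 :=
  real_edge rels S fwd inv o lvl plet idx 26 IH Gen.b sp759 sp765 rfl rfl
theorem s0_f7801 : ed sl_gt sq472 = s0_v387 :=
  rfl
theorem s0_f7801r : ed sl_gf s0_v387 = sq472 :=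
  edge_flip (s0_f7801 IH)
theorem s0_f7802 : ed sl_gf sq472 = s0_v387 :=
  gap_rel s0_rot6 (path_edge (s0_f7801r IH) (path_nil s0_v387))
theorem s0_f8037 : ed sl_at sq486 = sq784 :=
  real_edge rels S fwd inv o lvl plet idx 26 IH Gen.a sp486 sp784 rfl rfl
theorem s0_f8212 : ed sl_bt s0_v96 = s0_v432 :=
  rfl
theorem s0_f8212r : ed sl_bf s0_v432 = s0_v96 :=
  edge_flip (s0_f8212 IH)
theorem s0_f8213 : ed sl_bf s0_v96 = s0_v432 :=
  gap_rel s0_rot17 (path_edge (s0_f8212r IH) (path_nil s0_v432))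
theorem s0_f224r : ed sl_bf sq201 = sq108 :=
  edge_flip (s0_f224 IH)
theorem s0_f2760r : ed sl_ff sq108 = sq204 :=
  edge_flip (s0_f2760 IH)
theorem s0_f8214 : ed sl_ff s0_v98 = s0_v432 :=
  gap_rel s0_rot49 (path_edge (s0_f3113 IH) (path_edge (s0_f2760r IH) (path_edge (s0_f224r IH) (path_edge (s0_f3088r IH) (path_edge (s0_f8212r IH) (path_nil s0_v432))))))
theorem s0_f8214r : ed sl_ft s0_v432 = s0_v98 :=
  edge_flip (s0_f8214 IH)
theorem s0_f8215 : ed sl_ft s0_v98 = s0_v432 :=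
  gap_rel s0_rot20 (path_edge (s0_f8214r IH) (path_nil s0_v432))
theorem s0_f8216 : ed sl_gt s0_v96 = s0_v433 :=
  rfl
theorem s0_f8216r : ed sl_gf s0_v433 = s0_v96 :=
  edge_flip (s0_f8216 IH)
theorem s0_f8218 : ed sl_ff s0_v97 = s0_v433 :=
  gap_rel s0_rot21 (path_edge (s0_f3099 IH) (path_edge (s0_f3088r IH) (path_edge (s0_f3094 IH) (path_edge (s0_f8216r IH) (path_nil s0_v433)))))
theorem s0_f8221 : ed sl_bt s0_v97 = s0_v434 :=
  rfl
theorem s0_f8221r : ed sl_bf s0_v434 = s0_v97 :=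
  edge_flip (s0_f8221 IH)
theorem s0_f8222 : ed sl_bf s0_v97 = s0_v434 :=
  gap_rel s0_rot17 (path_edge (s0_f8221r IH) (path_nil s0_v434))
theorem s0_f3098r : ed sl_gf sq108 = sq205 :=
  edge_flip (s0_f3098 IH)
theorem s0_f8223 : ed sl_gf s0_v99 = s0_v434 :=
  gap_rel s0_rot50 (path_edge (s0_f3146 IH) (path_edge (s0_f3098r IH) (path_edge (s0_f224r IH) (path_edge (s0_f3097r IH) (path_edge (s0_f8221r IH) (path_nil s0_v434))))))
theorem s0_f8223r : ed sl_gt s0_v434 = s0_v99 :=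
  edge_flip (s0_f8223 IH)
theorem s0_f8224 : ed sl_gt s0_v99 = s0_v434 :=
  gap_rel s0_rot23 (path_edge (s0_f8223r IH) (path_nil s0_v434))
theorem s0_f8225 : ed sl_at s0_v98 = s0_v435 :=
  rfl
theorem s0_f8225r : ed sl_af s0_v435 = s0_v98 :=
  edge_flip (s0_f8225 IH)
theorem s0_f8226 : ed sl_af s0_v98 = s0_v435 :=
  gap_rel s0_rot0 (path_edge (s0_f8225r IH) (path_nil s0_v435))
theorem s0_f8227 : ed sl_ct s0_v98 = s0_v436 :=
  rfl
theorem s0_f8227r : ed sl_cf s0_v436 = s0_v98 :=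
  edge_flip (s0_f8227 IH)
theorem s0_f8228 : ed sl_cf s0_v98 = s0_v436 :=
  gap_rel s0_rot31 (path_edge (s0_f8227r IH) (path_nil s0_v436))
theorem s0_f8229 : ed sl_gt s0_v98 = s0_v437 :=
  rfl
theorem s0_f8229r : ed sl_gf s0_v437 = s0_v98 :=
  edge_flip (s0_f8229 IH)
theorem s0_f8231 : ed sl_gf s0_v98 = s0_v437 :=
  gap_rel s0_rot6 (path_edge (s0_f8229r IH) (path_nil s0_v437))
theorem s0_f8231r : ed sl_gt s0_v437 = s0_v98 :=
  edge_flip (s0_f8231 IH)
theorem s0_f3113r : ed sl_bt s0_v98 = sq204 :=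
  edge_flip (s0_f3113 IH)
theorem s0_f8232 : ed sl_bt s0_v306 = s0_v437 :=
  gap_rel s0_rot35 (path_edge (s0_f6303 IH) (path_edge (s0_f3128 IH) (path_edge (s0_f2117 IH) (path_edge (s0_f3113r IH) (path_edge (s0_f8231r IH) (path_nil s0_v437))))))
theorem s0_f8233 : ed sl_at s0_v99 = s0_v438 :=
  rfl
theorem s0_f8233r : ed sl_af s0_v438 = s0_v99 :=
  edge_flip (s0_f8233 IH)
theorem s0_f8234 : ed sl_af s0_v99 = s0_v438 :=
  gap_rel s0_rot0 (path_edge (s0_f8233r IH) (path_nil s0_v438))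
theorem s0_f8237 : ed sl_ft s0_v99 = s0_v440 :=
  rfl
theorem s0_f8237r : ed sl_ff s0_v440 = s0_v99 :=
  edge_flip (s0_f8237 IH)
theorem s0_f2171r : ed sl_ff sq205 = sq213 :=
  edge_flip (s0_f2171 IH)
theorem s0_f3150r : ed sl_bf sq213 = sq375 :=
  edge_flip (s0_f3150 IH)
theorem s0_f8238 : ed sl_bf s0_v301 = s0_v440 :=
  gap_rel s0_rot51 (path_edge (s0_f6255 IH) (path_edge (s0_f3150r IH) (path_edge (s0_f2171r IH) (path_edge (s0_f3144r IH) (path_edge (s0_f8237r IH) (path_nil s0_v440))))))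
theorem s0_f8239 : ed sl_ff s0_v99 = s0_v440 :=
  gap_rel s0_rot12 (path_edge (s0_f8237r IH) (path_nil s0_v440))
theorem s0_f8239r : ed sl_ft s0_v440 = s0_v99 :=
  edge_flip (s0_f8239 IH)
theorem s0_f3146r : ed sl_bt s0_v99 = sq205 :=
  edge_flip (s0_f3146 IH)
theorem s0_f8240 : ed sl_bt s0_v301 = s0_v440 :=
  gap_rel s0_rot13 (path_edge (s0_f6250 IH) (path_edge (s0_f3096 IH) (path_edge (s0_f3095 IH) (path_edge (s0_f3146r IH) (path_edge (s0_f8239r IH) (path_nil s0_v440))))))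
theorem s0_f8241 : ed sl_bt s0_v100 = s0_v441 :=
  rfl
theorem s0_f8241r : ed sl_bf s0_v441 = s0_v100 :=
  edge_flip (s0_f8241 IH)
theorem s0_f8242 : ed sl_bf s0_v100 = s0_v441 :=
  gap_rel s0_rot17 (path_edge (s0_f8241r IH) (path_nil s0_v441))
theorem s0_f8243 : ed sl_cf s0_v441 = s0_v441 :=
  gap_rel s0_rot52 (path_edge (s0_f8242 IH) (path_edge (s0_f6134r IH) (path_edge (s0_f6142 IH) (path_edge (s0_f6131 IH) (path_edge (s0_f8241r IH) (path_nil s0_v441))))))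
theorem s0_f8246 : ed sl_at s0_v104 = s0_v443 :=
  rfl
theorem s0_f8246r : ed sl_af s0_v443 = s0_v104 :=
  edge_flip (s0_f8246 IH)
theorem s0_f8247 : ed sl_af s0_v104 = s0_v443 :=
  gap_rel s0_rot0 (path_edge (s0_f8246r IH) (path_nil s0_v443))
theorem s0_f535r : ed sl_af sq55 = sq33 :=
  edge_flip (s0_f535 IH)
theorem s0_f1154r : ed sl_bf sq33 = sq73 :=
  edge_flip (s0_f1154 IH)
theorem s0_f8248 : ed sl_bf s0_v212 = s0_v443 :=
  gap_rel s0_rot53 (path_edge (s0_f4838 IH) (path_edge (s0_f2523 IH) (path_edge (s0_f1140 IH) (path_edge (s0_f1154r IH) (path_edge (s0_f535r IH) (path_edge (s0_f887r IH) (path_edge (s0_f1155r IH) (path_edge (s0_f3351r IH) (path_edge (s0_f8246r IH) (path_nil s0_v443))))))))))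
theorem s0_f8248r : ed sl_bt s0_v443 = s0_v212 :=
  edge_flip (s0_f8248 IH)
theorem s0_f8249 : ed sl_bt s0_v212 = s0_v443 :=
  gap_rel s0_rot54 (path_edge (s0_f8248r IH) (path_nil s0_v443))
theorem s0_f8252 : ed sl_ft s0_v104 = s0_v445 :=
  rfl
theorem s0_f8252r : ed sl_ff s0_v445 = s0_v104 :=
  edge_flip (s0_f8252 IH)
theorem s0_f8253 : ed sl_ff s0_v104 = s0_v445 :=
  gap_rel s0_rot12 (path_edge (s0_f8252r IH) (path_nil s0_v445))
theorem s0_f8254 : ed sl_gt s0_v104 = s0_v446 :=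
  rfl
theorem s0_f8254r : ed sl_gf s0_v446 = s0_v104 :=
  edge_flip (s0_f8254 IH)
theorem s0_f8255 : ed sl_gf s0_v104 = s0_v446 :=
  gap_rel s0_rot6 (path_edge (s0_f8254r IH) (path_nil s0_v446))
theorem s0_f8256 : ed sl_bt s0_v105 = s0_v447 :=
  rfl
theorem s0_f8258 : ed sl_at s0_v106 = s0_v448 :=
  rfl
theorem s0_f8258r : ed sl_af s0_v448 = s0_v106 :=
  edge_flip (s0_f8258 IH)
theorem s0_f3374r : ed sl_bf s0_v106 = sq229 :=
  edge_flip (s0_f3374 IH)
theorem s0_f1186r : ed sl_af sq229 = sq120 :=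
  edge_flip (s0_f1186 IH)
theorem s0_f894r : ed sl_bf sq120 = sq56 :=
  edge_flip (s0_f894 IH)
theorem s0_f542r : ed sl_af sq56 = sq34 :=
  edge_flip (s0_f542 IH)
theorem s0_f1185r : ed sl_bf sq34 = sq75 :=
  edge_flip (s0_f1185 IH)
theorem s0_f8260 : ed sl_bf s0_v216 = s0_v448 :=
  gap_rel s0_rot53 (path_edge (s0_f4848 IH) (path_edge (s0_f2525 IH) (path_edge (s0_f1166 IH) (path_edge (s0_f1185r IH) (path_edge (s0_f542r IH) (path_edge (s0_f894r IH) (path_edge (s0_f1186r IH) (path_edge (s0_f3374r IH) (path_edge (s0_f8258r IH) (path_nil s0_v448))))))))))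
theorem s0_f8264 : ed sl_ft s0_v106 = s0_v450 :=
  rfl
theorem s0_f8264r : ed sl_ff s0_v450 = s0_v106 :=
  edge_flip (s0_f8264 IH)
theorem s0_f8265 : ed sl_ff s0_v106 = s0_v450 :=
  gap_rel s0_rot12 (path_edge (s0_f8264r IH) (path_nil s0_v450))
theorem s0_f8268 : ed sl_bt s0_v107 = s0_v452 :=
  rfl
theorem s0_f8268r : ed sl_bf s0_v452 = s0_v107 :=
  edge_flip (s0_f8268 IH)
theorem s0_f8269 : ed sl_bf s0_v107 = s0_v452 :=
  gap_rel s0_rot17 (path_edge (s0_f8268r IH) (path_nil s0_v452))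
theorem s0_f8280 : ed sl_at s0_v109 = s0_v455 :=
  rfl
theorem s0_f8280r : ed sl_af s0_v455 = s0_v109 :=
  edge_flip (s0_f8280 IH)
theorem s0_f8281 : ed sl_af s0_v109 = s0_v455 :=
  gap_rel s0_rot0 (path_edge (s0_f8280r IH) (path_nil s0_v455))
theorem s0_f8286 : ed sl_gt s0_v109 = s0_v457 :=
  rfl
theorem s0_f8417 : ed sl_bt s0_v123 = s0_v481 :=
  rfl
theorem s0_f8417r : ed sl_bf s0_v481 = s0_v123 :=
  edge_flip (s0_f8417 IH)
theorem s0_f8418 : ed sl_bf s0_v123 = s0_v481 :=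
  gap_rel s0_rot17 (path_edge (s0_f8417r IH) (path_nil s0_v481))
theorem s0_f8419 : ed sl_dt s0_v123 = s0_v482 :=
  rfl
theorem s0_f8419r : ed sl_df s0_v482 = s0_v123 :=
  edge_flip (s0_f8419 IH)
theorem s0_f8420 : ed sl_af s0_v124 = s0_v482 :=
  gap_rel s0_rot43 (path_edge (s0_f3772 IH) (path_edge (s0_f3765r IH) (path_edge (s0_f8419r IH) (path_nil s0_v482))))
theorem s0_f8421 : ed sl_df s0_v123 = s0_v482 :=
  gap_rel s0_rot28 (path_edge (s0_f8419r IH) (path_nil s0_v482))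
theorem s0_f3766r : ed sl_at s0_v123 = sq259 :=
  edge_flip (s0_f3766 IH)
theorem s0_f1143r : ed sl_cf sq73 = sq73 :=
  edge_flip (s0_f1143 IH)
theorem s0_f1145r : ed sl_df sq73 = sq138 :=
  edge_flip (s0_f1145 IH)
theorem s0_f1157r : ed sl_cf sq138 = sq259 :=
  edge_flip (s0_f1157 IH)
theorem s0_f8423 : ed sl_cf s0_v124 = s0_v482 :=
  gap_rel s0_rot55 (path_edge (s0_f3772 IH) (path_edge (s0_f1157r IH) (path_edge (s0_f1145r IH) (path_edge (s0_f1143r IH) (path_edge (s0_f1150r IH) (path_edge (s0_f1151r IH) (path_edge (s0_f3766r IH) (path_edge (s0_f8419r IH) (path_nil s0_v482)))))))))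
theorem s0_f8441 : ed sl_bt s0_v125 = s0_v486 :=
  rfl
theorem s0_f8441r : ed sl_bf s0_v486 = s0_v125 :=
  edge_flip (s0_f8441 IH)
theorem s0_f8442 : ed sl_bf s0_v125 = s0_v486 :=
  gap_rel s0_rot17 (path_edge (s0_f8441r IH) (path_nil s0_v486))
theorem s0_f8445 : ed sl_ft s0_v126 = s0_v488 :=
  rfl
theorem s0_f8445r : ed sl_ff s0_v488 = s0_v126 :=
  edge_flip (s0_f8445 IH)
theorem s0_f8447 : ed sl_ff s0_v126 = s0_v488 :=
  gap_rel s0_rot12 (path_edge (s0_f8445r IH) (path_nil s0_v488))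
theorem s0_f8447r : ed sl_ft s0_v488 = s0_v126 :=
  edge_flip (s0_f8447 IH)
theorem s0_f3832r : ed sl_ct s0_v126 = sq260 :=
  edge_flip (s0_f3832 IH)
theorem s0_f8448 : ed sl_ct s0_v127 = s0_v488 :=
  gap_rel s0_rot27 (path_edge (s0_f3866 IH) (path_edge (s0_f3832r IH) (path_edge (s0_f8447r IH) (path_nil s0_v488))))
theorem s0_f8449 : ed sl_gt s0_v126 = s0_v489 :=
  rfl
theorem s0_f8449r : ed sl_gf s0_v489 = s0_v126 :=
  edge_flip (s0_f8449 IH)
theorem s0_f8450 : ed sl_cf s0_v128 = s0_v489 :=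
  gap_rel s0_rot56 (path_edge (s0_f3890 IH) (path_edge (s0_f3830r IH) (path_edge (s0_f8449r IH) (path_nil s0_v489))))
theorem s0_f8451 : ed sl_gf s0_v126 = s0_v489 :=
  gap_rel s0_rot6 (path_edge (s0_f8449r IH) (path_nil s0_v489))
theorem s0_f8467 : ed sl_bt s0_v129 = s0_v492 :=
  rfl
theorem s0_f8469 : ed sl_dt s0_v129 = s0_v493 :=
  rfl
theorem s0_f8469r : ed sl_df s0_v493 = s0_v129 :=
  edge_flip (s0_f8469 IH)
theorem s0_f8471 : ed sl_df s0_v129 = s0_v493 :=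
  gap_rel s0_rot28 (path_edge (s0_f8469r IH) (path_nil s0_v493))
theorem s0_f3912r : ed sl_at s0_v129 = sq261 :=
  edge_flip (s0_f3912 IH)
theorem s0_f1171r : ed sl_df sq75 = sq140 :=
  edge_flip (s0_f1171 IH)
theorem s0_f1188r : ed sl_cf sq140 = sq261 :=
  edge_flip (s0_f1188 IH)
theorem s0_f8473 : ed sl_cf s0_v130 = s0_v493 :=
  gap_rel s0_rot55 (path_edge (s0_f3919 IH) (path_edge (s0_f1188r IH) (path_edge (s0_f1171r IH) (path_edge (s0_f1169r IH) (path_edge (s0_f1176r IH) (path_edge (s0_f1177r IH) (path_edge (s0_f3912r IH) (path_edge (s0_f8469r IH) (path_nil s0_v493)))))))))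
theorem s0_f8476 : ed sl_ft s0_v129 = s0_v494 :=
  rfl
theorem s0_f8476r : ed sl_ff s0_v494 = s0_v129 :=
  edge_flip (s0_f8476 IH)
theorem s0_f8479 : ed sl_ff s0_v129 = s0_v494 :=
  gap_rel s0_rot12 (path_edge (s0_f8476r IH) (path_nil s0_v494))
theorem s0_f8480 : ed sl_gf s0_v131 = s0_v494 :=
  gap_rel s0_rot22 (path_edge (s0_f3969 IH) (path_edge (s0_f3912r IH) (path_edge (s0_f3916 IH) (path_edge (s0_f8476r IH) (path_nil s0_v494)))))
theorem s0_f8479r : ed sl_ft s0_v494 = s0_v129 :=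
  edge_flip (s0_f8479 IH)
theorem s0_f8480r : ed sl_gt s0_v494 = s0_v131 :=
  edge_flip (s0_f8480 IH)
theorem s0_f3969r : ed sl_ft s0_v131 = sq261 :=
  edge_flip (s0_f3969 IH)
theorem s0_f8482 : ed sl_gt s0_v131 = s0_v494 :=
  gap_rel s0_rot57 (path_edge (s0_f3967 IH) (path_edge (s0_f3915 IH) (path_edge (s0_f3969r IH) (path_edge (s0_f8480r IH) (path_edge (s0_f8476 IH) (path_edge (s0_f3916r IH) (path_edge (s0_f8479r IH) (path_nil s0_v494))))))))
theorem s0_f8482r : ed sl_gf s0_v494 = s0_v131 :=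
  edge_flip (s0_f8482 IH)
theorem s0_f8483 : ed sl_at s0_v131 = s0_v494 :=
  gap_rel s0_rot25 (path_edge (s0_f8482r IH) (path_edge (s0_f8479 IH) (path_edge (s0_f3916 IH) (path_edge (s0_f8476r IH) (path_nil s0_v494)))))
theorem s0_f8491 : ed sl_bt s0_v131 = s0_v497 :=
  rfl
theorem s0_f8491r : ed sl_bf s0_v497 = s0_v131 :=
  edge_flip (s0_f8491 IH)
theorem s0_f8492 : ed sl_bf s0_v131 = s0_v497 :=
  gap_rel s0_rot17 (path_edge (s0_f8491r IH) (path_nil s0_v497))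
theorem s0_f8501 : ed sl_gt s0_v132 = s0_v500 :=
  rfl
theorem s0_f8539 : ed sl_bt s0_v139 = s0_v507 :=
  rfl
theorem s0_f8539r : ed sl_bf s0_v507 = s0_v139 :=
  edge_flip (s0_f8539 IH)
theorem s0_f8540 : ed sl_bf s0_v139 = s0_v507 :=
  gap_rel s0_rot17 (path_edge (s0_f8539r IH) (path_nil s0_v507))
theorem s0_f4191r : ed sl_ef s0_v139 = s0_v43 :=
  edge_flip (s0_f4191 IH)
theorem s0_f8541 : ed sl_ef s0_v178 = s0_v507 :=
  gap_rel s0_rot38 (path_edge (s0_f4637 IH) (path_edge (s0_f4191r IH) (path_edge (s0_f8539r IH) (path_nil s0_v507))))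
theorem s0_f8541r : ed sl_et s0_v507 = s0_v178 :=
  edge_flip (s0_f8541 IH)
theorem s0_f8542 : ed sl_et s0_v178 = s0_v507 :=
  gap_rel s0_rot39 (path_edge (s0_f8541r IH) (path_nil s0_v507))
theorem s0_f8551 : ed sl_bt s0_v141 = s0_v509 :=
  rfl
theorem s0_f8551r : ed sl_bf s0_v509 = s0_v141 :=
  edge_flip (s0_f8551 IH)
theorem s0_f8552 : ed sl_bf s0_v141 = s0_v509 :=
  gap_rel s0_rot17 (path_edge (s0_f8551r IH) (path_nil s0_v509))
theorem s0_f8553 : ed sl_bt s0_v142 = s0_v510 :=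
  rfl
theorem s0_f8553r : ed sl_bf s0_v510 = s0_v142 :=
  edge_flip (s0_f8553 IH)
theorem s0_f8554 : ed sl_bf s0_v142 = s0_v510 :=
  gap_rel s0_rot17 (path_edge (s0_f8553r IH) (path_nil s0_v510))
theorem s0_f1948r : ed sl_bf sq274 = sq149 :=
  edge_flip (s0_f1948 IH)
theorem s0_f8555 : ed sl_ff s0_v176 = s0_v510 :=
  gap_rel s0_rot49 (path_edge (s0_f4629 IH) (path_edge (s0_f2082 IH) (path_edge (s0_f1948r IH) (path_edge (s0_f4237r IH) (path_edge (s0_f8553r IH) (path_nil s0_v510))))))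
theorem s0_f8555r : ed sl_ft s0_v510 = s0_v176 :=
  edge_flip (s0_f8555 IH)
theorem s0_f8556 : ed sl_ft s0_v176 = s0_v510 :=
  gap_rel s0_rot20 (path_edge (s0_f8555r IH) (path_nil s0_v510))
theorem s0_f8557 : ed sl_bt s0_v143 = s0_v511 :=
  rfl
theorem s0_f8557r : ed sl_bf s0_v511 = s0_v143 :=
  edge_flip (s0_f8557 IH)
theorem s0_f8558 : ed sl_bf s0_v143 = s0_v511 :=
  gap_rel s0_rot17 (path_edge (s0_f8557r IH) (path_nil s0_v511))
theorem s0_f8567 : ed sl_bt s0_v145 = s0_v513 :=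
  rfl
theorem s0_f8567r : ed sl_bf s0_v513 = s0_v145 :=
  edge_flip (s0_f8567 IH)
theorem s0_f8568 : ed sl_bf s0_v145 = s0_v513 :=
  gap_rel s0_rot17 (path_edge (s0_f8567r IH) (path_nil s0_v513))
theorem s0_f8569 : ed sl_bt s0_v146 = s0_v514 :=
  rfl
theorem s0_f8569r : ed sl_bf s0_v514 = s0_v146 :=
  edge_flip (s0_f8569 IH)
theorem s0_f8570 : ed sl_bf s0_v146 = s0_v514 :=
  gap_rel s0_rot17 (path_edge (s0_f8569r IH) (path_nil s0_v514))
theorem s0_f1190r : ed sl_bf sq277 = sq151 :=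
  edge_flip (s0_f1190 IH)
theorem s0_f8571 : ed sl_gf s0_v178 = s0_v514 :=
  gap_rel s0_rot50 (path_edge (s0_f4637 IH) (path_edge (s0_f2144 IH) (path_edge (s0_f1190r IH) (path_edge (s0_f4272r IH) (path_edge (s0_f8569r IH) (path_nil s0_v514))))))
theorem s0_f8571r : ed sl_gt s0_v514 = s0_v178 :=
  edge_flip (s0_f8571 IH)
theorem s0_f8572 : ed sl_gt s0_v178 = s0_v514 :=
  gap_rel s0_rot23 (path_edge (s0_f8571r IH) (path_nil s0_v514))
theorem s0_f8573 : ed sl_bt s0_v147 = s0_v515 :=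
  rfl
theorem s0_f8573r : ed sl_bf s0_v515 = s0_v147 :=
  edge_flip (s0_f8573 IH)
theorem s0_f8574 : ed sl_bf s0_v147 = s0_v515 :=
  gap_rel s0_rot17 (path_edge (s0_f8573r IH) (path_nil s0_v515))
theorem s0_f8759 : ed sl_at s0_v170 = s0_v551 :=
  rfl
theorem s0_f8759r : ed sl_af s0_v551 = s0_v170 :=
  edge_flip (s0_f8759 IH)
theorem s0_f8760 : ed sl_af s0_v170 = s0_v551 :=
  gap_rel s0_rot0 (path_edge (s0_f8759r IH) (path_nil s0_v551))
theorem s0_f4599r : ed sl_df s0_v170 = s0_v61 :=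
  edge_flip (s0_f4599 IH)
theorem s0_f8761 : ed sl_df s0_v212 = s0_v551 :=
  gap_rel s0_rot4 (path_edge (s0_f4838 IH) (path_edge (s0_f4599r IH) (path_edge (s0_f8759r IH) (path_nil s0_v551))))
theorem s0_f8761r : ed sl_dt s0_v551 = s0_v212 :=
  edge_flip (s0_f8761 IH)
theorem s0_f8762 : ed sl_dt s0_v212 = s0_v551 :=
  gap_rel s0_rot37 (path_edge (s0_f8761r IH) (path_nil s0_v551))
theorem s0_f8765 : ed sl_ft s0_v170 = s0_v553 :=
  rfl
theorem s0_f8765r : ed sl_ff s0_v553 = s0_v170 :=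
  edge_flip (s0_f8765 IH)
theorem s0_f8767 : ed sl_ff s0_v170 = s0_v553 :=
  gap_rel s0_rot12 (path_edge (s0_f8765r IH) (path_nil s0_v553))
theorem s0_f8767r : ed sl_ft s0_v553 = s0_v170 :=
  edge_flip (s0_f8767 IH)
theorem s0_f4597r : ed sl_bt s0_v170 = s0_v35 :=
  edge_flip (s0_f4597 IH)
theorem s0_f8768 : ed sl_bt s0_v553 = s0_v553 :=
  gap_rel s0_rot13 (path_edge (s0_f8765 IH) (path_edge (s0_f4596 IH) (path_edge (s0_f1921r IH) (path_edge (s0_f4597r IH) (path_edge (s0_f8767r IH) (path_nil s0_v553))))))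
theorem s0_f8778 : ed sl_at s0_v172 = s0_v556 :=
  rfl
theorem s0_f8778r : ed sl_af s0_v556 = s0_v172 :=
  edge_flip (s0_f8778 IH)
theorem s0_f8779 : ed sl_af s0_v172 = s0_v556 :=
  gap_rel s0_rot0 (path_edge (s0_f8778r IH) (path_nil s0_v556))
theorem s0_f4611r : ed sl_df s0_v172 = s0_v62 :=
  edge_flip (s0_f4611 IH)
theorem s0_f8780 : ed sl_df s0_v216 = s0_v556 :=
  gap_rel s0_rot4 (path_edge (s0_f4848 IH) (path_edge (s0_f4611r IH) (path_edge (s0_f8778r IH) (path_nil s0_v556))))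
theorem s0_f8780r : ed sl_dt s0_v556 = s0_v216 :=
  edge_flip (s0_f8780 IH)
theorem s0_f8781 : ed sl_dt s0_v216 = s0_v556 :=
  gap_rel s0_rot37 (path_edge (s0_f8780r IH) (path_nil s0_v556))
theorem s0_f8782 : ed sl_ct s0_v172 = s0_v557 :=
  rfl
theorem s0_f8782r : ed sl_cf s0_v557 = s0_v172 :=
  edge_flip (s0_f8782 IH)
theorem s0_f8783 : ed sl_cf s0_v172 = s0_v557 :=
  gap_rel s0_rot31 (path_edge (s0_f8782r IH) (path_nil s0_v557))
theorem s0_f8784 : ed sl_ft s0_v172 = s0_v558 :=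
  rfl
theorem s0_f8784r : ed sl_ff s0_v558 = s0_v172 :=
  edge_flip (s0_f8784 IH)
theorem s0_f8786 : ed sl_ff s0_v172 = s0_v558 :=
  gap_rel s0_rot12 (path_edge (s0_f8784r IH) (path_nil s0_v558))
theorem s0_f8788 : ed sl_gt s0_v172 = s0_v559 :=
  rfl
theorem s0_f8788r : ed sl_gf s0_v559 = s0_v172 :=
  edge_flip (s0_f8788 IH)
theorem s0_f8790 : ed sl_gf s0_v172 = s0_v559 :=
  gap_rel s0_rot6 (path_edge (s0_f8788r IH) (path_nil s0_v559))
theorem s0_f8790r : ed sl_gt s0_v559 = s0_v172 :=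
  edge_flip (s0_f8790 IH)
theorem s0_f4609r : ed sl_bt s0_v172 = s0_v37 :=
  edge_flip (s0_f4609 IH)
theorem s0_f8791 : ed sl_bt s0_v559 = s0_v559 :=
  gap_rel s0_rot35 (path_edge (s0_f8788 IH) (path_edge (s0_f4608 IH) (path_edge (s0_f1965r IH) (path_edge (s0_f4609r IH) (path_edge (s0_f8790r IH) (path_nil s0_v559))))))
theorem s0_f8797 : ed sl_at s0_v174 = s0_v561 :=
  rfl
theorem s0_f8797r : ed sl_af s0_v561 = s0_v174 :=
  edge_flip (s0_f8797 IH)
theorem s0_f8798 : ed sl_af s0_v174 = s0_v561 :=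
  gap_rel s0_rot0 (path_edge (s0_f8797r IH) (path_nil s0_v561))
theorem s0_f4623r : ed sl_ef s0_v174 = s0_v61 :=
  edge_flip (s0_f4623 IH)
theorem s0_f8799 : ed sl_ef s0_v212 = s0_v561 :=
  gap_rel s0_rot8 (path_edge (s0_f4838 IH) (path_edge (s0_f4623r IH) (path_edge (s0_f8797r IH) (path_nil s0_v561))))
theorem s0_f8799r : ed sl_et s0_v561 = s0_v212 :=
  edge_flip (s0_f8799 IH)
theorem s0_f8800 : ed sl_et s0_v212 = s0_v561 :=
  gap_rel s0_rot39 (path_edge (s0_f8799r IH) (path_nil s0_v561))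
theorem s0_f8806 : ed sl_ft s0_v174 = s0_v563 :=
  rfl
theorem s0_f8806r : ed sl_ff s0_v563 = s0_v174 :=
  edge_flip (s0_f8806 IH)
theorem s0_f8808 : ed sl_ff s0_v174 = s0_v563 :=
  gap_rel s0_rot12 (path_edge (s0_f8806r IH) (path_nil s0_v563))
theorem s0_f8811 : ed sl_gt s0_v174 = s0_v564 :=
  rfl
theorem s0_f8838 : ed sl_gt s0_v176 = s0_v571 :=
  rfl
theorem s0_f8838r : ed sl_gf s0_v571 = s0_v176 :=
  edge_flip (s0_f8838 IH)
theorem s0_f8840 : ed sl_gf s0_v176 = s0_v571 :=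
  gap_rel s0_rot6 (path_edge (s0_f8838r IH) (path_nil s0_v571))
theorem s0_f8840r : ed sl_gt s0_v571 = s0_v176 :=
  edge_flip (s0_f8840 IH)
theorem s0_f4629r : ed sl_bt s0_v176 = s0_v41 :=
  edge_flip (s0_f4629 IH)
theorem s0_f2080r : ed sl_gt s0_v41 = s0_v13 :=
  edge_flip (s0_f2080 IH)
theorem s0_f8841 : ed sl_bt s0_v215 = s0_v571 :=
  gap_rel s0_rot35 (path_edge (s0_f4845 IH) (path_edge (s0_f2522 IH) (path_edge (s0_f2080r IH) (path_edge (s0_f4629r IH) (path_edge (s0_f8840r IH) (path_nil s0_v571))))))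
theorem s0_f8846 : ed sl_at s0_v178 = s0_v573 :=
  rfl
theorem s0_f8846r : ed sl_af s0_v573 = s0_v178 :=
  edge_flip (s0_f8846 IH)
theorem s0_f8847 : ed sl_af s0_v178 = s0_v573 :=
  gap_rel s0_rot0 (path_edge (s0_f8846r IH) (path_nil s0_v573))
theorem s0_f8848 : ed sl_ct s0_v178 = s0_v574 :=
  rfl
theorem s0_f8848r : ed sl_cf s0_v574 = s0_v178 :=
  edge_flip (s0_f8848 IH)
theorem s0_f8849 : ed sl_cf s0_v178 = s0_v574 :=
  gap_rel s0_rot31 (path_edge (s0_f8848r IH) (path_nil s0_v574))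
theorem s0_f8849r : ed sl_ct s0_v574 = s0_v178 :=
  edge_flip (s0_f8849 IH)
theorem s0_f4637r : ed sl_bt s0_v178 = s0_v43 :=
  edge_flip (s0_f4637 IH)
theorem s0_f8850 : ed sl_bt s0_v574 = s0_v574 :=
  gap_rel s0_rot34 (path_edge (s0_f8848 IH) (path_edge (s0_f4636 IH) (path_edge (s0_f2135r IH) (path_edge (s0_f4637r IH) (path_edge (s0_f8849r IH) (path_nil s0_v574))))))
theorem s0_f8851 : ed sl_ft s0_v178 = s0_v575 :=
  rfl
theorem s0_f8851r : ed sl_ff s0_v575 = s0_v178 :=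
  edge_flip (s0_f8851 IH)
theorem s0_f2141r : ed sl_ff s0_v43 = s0_v14 :=
  edge_flip (s0_f2141 IH)
theorem s0_f8852 : ed sl_bf s0_v218 = s0_v575 :=
  gap_rel s0_rot51 (path_edge (s0_f4853 IH) (path_edge (s0_f2525 IH) (path_edge (s0_f2141r IH) (path_edge (s0_f4636r IH) (path_edge (s0_f8851r IH) (path_nil s0_v575))))))
theorem s0_f8853 : ed sl_ff s0_v178 = s0_v575 :=
  gap_rel s0_rot12 (path_edge (s0_f8851r IH) (path_nil s0_v575))
theorem s0_f8853r : ed sl_ft s0_v575 = s0_v178 :=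
  edge_flip (s0_f8853 IH)
theorem s0_f8854 : ed sl_bt s0_v218 = s0_v575 :=
  gap_rel s0_rot13 (path_edge (s0_f4852 IH) (path_edge (s0_f2524 IH) (path_edge (s0_f2136r IH) (path_edge (s0_f4637r IH) (path_edge (s0_f8853r IH) (path_nil s0_v575))))))
theorem s0_f9075 : ed sl_ft s0_v212 = s0_v617 :=
  rfl
theorem s0_f9075r : ed sl_ff s0_v617 = s0_v212 :=
  edge_flip (s0_f9075 IH)
theorem s0_f9076 : ed sl_af s0_v214 = s0_v617 :=
  gap_rel s0_rot58 (path_edge (s0_f4843 IH) (path_edge (s0_f4837r IH) (path_edge (s0_f9075r IH) (path_nil s0_v617))))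
theorem s0_f9077 : ed sl_ff s0_v212 = s0_v617 :=
  gap_rel s0_rot12 (path_edge (s0_f9075r IH) (path_nil s0_v617))
theorem s0_f9077r : ed sl_ft s0_v617 = s0_v212 :=
  edge_flip (s0_f9077 IH)
theorem s0_f4838r : ed sl_at s0_v212 = s0_v61 :=
  edge_flip (s0_f4838 IH)
theorem s0_f9078 : ed sl_at s0_v214 = s0_v617 :=
  gap_rel s0_rot18 (path_edge (s0_f4842 IH) (path_edge (s0_f4838r IH) (path_edge (s0_f9077r IH) (path_nil s0_v617))))
theorem s0_f9079 : ed sl_gt s0_v212 = s0_v618 :=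
  rfl
theorem s0_f9079r : ed sl_gf s0_v618 = s0_v212 :=
  edge_flip (s0_f9079 IH)
theorem s0_f9081 : ed sl_gf s0_v212 = s0_v618 :=
  gap_rel s0_rot6 (path_edge (s0_f9079r IH) (path_nil s0_v618))
theorem s0_f9094 : ed sl_gt s0_v214 = s0_v622 :=
  rfl
theorem s0_f9094r : ed sl_gf s0_v622 = s0_v214 :=
  edge_flip (s0_f9094 IH)
theorem s0_f9095 : ed sl_gf s0_v214 = s0_v622 :=
  gap_rel s0_rot6 (path_edge (s0_f9094r IH) (path_nil s0_v622))
theorem s0_f9096 : ed sl_ff s0_v618 = s0_v622 :=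
  gap_rel s0_rot21 (path_edge (s0_f9081 IH) (path_edge (s0_f9075r IH) (path_edge (s0_f9078 IH) (path_edge (s0_f9094r IH) (path_nil s0_v622)))))
theorem s0_f9096r : ed sl_ft s0_v622 = s0_v618 :=
  edge_flip (s0_f9096 IH)
theorem s0_f9097 : ed sl_ft s0_v618 = s0_v622 :=
  gap_rel s0_rot20 (path_edge (s0_f9096r IH) (path_nil s0_v622))
theorem s0_f9098 : ed sl_ft s0_v215 = s0_v623 :=
  rfl
theorem s0_f9098r : ed sl_ff s0_v623 = s0_v215 :=
  edge_flip (s0_f9098 IH)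
theorem s0_f9100 : ed sl_ff s0_v215 = s0_v623 :=
  gap_rel s0_rot12 (path_edge (s0_f9098r IH) (path_nil s0_v623))
theorem s0_f4845r : ed sl_gf s0_v215 = s0_v61 :=
  edge_flip (s0_f4845 IH)
theorem s0_f9097r : ed sl_ff s0_v622 = s0_v618 :=
  edge_flip (s0_f9097 IH)
theorem s0_f9101 : ed sl_gf s0_v617 = s0_v623 :=
  gap_rel s0_rot24 (path_edge (s0_f9077 IH) (path_edge (s0_f9079r IH) (path_edge (s0_f9097r IH) (path_edge (s0_f9095 IH) (path_edge (s0_f4843 IH) (path_edge (s0_f4845r IH) (path_edge (s0_f9098r IH) (path_nil s0_v623))))))))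
theorem s0_f9101r : ed sl_gt s0_v623 = s0_v617 :=
  edge_flip (s0_f9101 IH)
theorem s0_f9103 : ed sl_gt s0_v617 = s0_v623 :=
  gap_rel s0_rot23 (path_edge (s0_f9101r IH) (path_nil s0_v623))
theorem s0_f9108 : ed sl_ft s0_v216 = s0_v625 :=
  rfl
theorem s0_f9108r : ed sl_ff s0_v625 = s0_v216 :=
  edge_flip (s0_f9108 IH)
theorem s0_f9109 : ed sl_af s0_v218 = s0_v625 :=
  gap_rel s0_rot58 (path_edge (s0_f4853 IH) (path_edge (s0_f4847r IH) (path_edge (s0_f9108r IH) (path_nil s0_v625))))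
theorem s0_f9110 : ed sl_ff s0_v216 = s0_v625 :=
  gap_rel s0_rot12 (path_edge (s0_f9108r IH) (path_nil s0_v625))
theorem s0_f9110r : ed sl_ft s0_v625 = s0_v216 :=
  edge_flip (s0_f9110 IH)
theorem s0_f4848r : ed sl_at s0_v216 = s0_v62 :=
  edge_flip (s0_f4848 IH)
theorem s0_f9111 : ed sl_at s0_v218 = s0_v625 :=
  gap_rel s0_rot18 (path_edge (s0_f4852 IH) (path_edge (s0_f4848r IH) (path_edge (s0_f9110r IH) (path_nil s0_v625))))
theorem s0_f9112 : ed sl_gt s0_v216 = s0_v626 :=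
  rfl
theorem s0_f9112r : ed sl_gf s0_v626 = s0_v216 :=
  edge_flip (s0_f9112 IH)
theorem s0_f9113 : ed sl_af s0_v219 = s0_v626 :=
  gap_rel s0_rot26 (path_edge (s0_f4855 IH) (path_edge (s0_f4847r IH) (path_edge (s0_f9112r IH) (path_nil s0_v626))))
theorem s0_f9114 : ed sl_gf s0_v216 = s0_v626 :=
  gap_rel s0_rot6 (path_edge (s0_f9112r IH) (path_nil s0_v626))
theorem s0_f9114r : ed sl_gt s0_v626 = s0_v216 :=
  edge_flip (s0_f9114 IH)
theorem s0_f9115 : ed sl_at s0_v219 = s0_v626 :=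
  gap_rel s0_rot19 (path_edge (s0_f4854 IH) (path_edge (s0_f4848r IH) (path_edge (s0_f9114r IH) (path_nil s0_v626))))
theorem s0_f9127 : ed sl_gt s0_v218 = s0_v630 :=
  rfl
theorem s0_f9127r : ed sl_gf s0_v630 = s0_v218 :=
  edge_flip (s0_f9127 IH)
theorem s0_f9129 : ed sl_ff s0_v626 = s0_v630 :=
  gap_rel s0_rot21 (path_edge (s0_f9114 IH) (path_edge (s0_f9108r IH) (path_edge (s0_f9111 IH) (path_edge (s0_f9127r IH) (path_nil s0_v630)))))
theorem s0_f9694 : ed sl_at sq504 = s0_v717 :=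
  rfl
theorem s0_f9697 : ed sl_ct sq504 = s0_v718 :=
  rfl
theorem s0_f9697r : ed sl_cf s0_v718 = sq504 :=
  edge_flip (s0_f9697 IH)
theorem s0_f9699 : ed sl_cf sq504 = s0_v718 :=
  gap_rel s0_rot31 (path_edge (s0_f9697r IH) (path_nil s0_v718))
theorem s0_f9699r : ed sl_ct s0_v718 = sq504 :=
  edge_flip (s0_f9699 IH)
theorem s0_f9706 : ed sl_bt s0_v436 = s0_v718 :=
  gap_rel s0_rot34 (path_edge (s0_f8227 IH) (path_edge (s0_f3112 IH) (path_edge (s0_f2729 IH) (path_edge (s0_f2757 IH) (path_edge (s0_f9699r IH) (path_nil s0_v718))))))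
theorem s0_f9707 : ed sl_ft s0_v717 = s0_v718 :=
  gap_rel s0_rot59 (path_edge (s0_f9694 IH) (path_edge (s0_f2771 IH) (path_edge (s0_f3125 IH) (path_edge (s0_f1726 IH) (path_edge (s0_f872 IH) (path_edge (s0_f490 IH) (path_edge (s0_f179 IH) (path_edge (s0_f505 IH) (path_edge (s0_f259 IH) (path_edge (s0_f260 IH) (path_edge (s0_f537 IH) (path_edge (s0_f254 IH) (path_edge (s0_f489 IH) (path_edge (s0_f164 IH) (path_edge (s0_f165 IH) (path_edge (s0_f2795 IH) (path_edge (s0_f5297 IH) (path_edge (s0_f2757 IH) (path_edge (s0_f9699r IH) (path_nil s0_v718))))))))))))))))))))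
theorem s0_f9718 : ed sl_ft sq504 = s0_v719 :=
  rfl
theorem s0_f9718r : ed sl_ff s0_v719 = sq504 :=
  edge_flip (s0_f9718 IH)
theorem s0_f9722 : ed sl_ff sq504 = s0_v719 :=
  gap_rel s0_rot12 (path_edge (s0_f9718r IH) (path_nil s0_v719))
theorem s0_f9722r : ed sl_ft s0_v719 = sq504 :=
  edge_flip (s0_f9722 IH)
theorem s0_f9723 : ed sl_at s0_v718 = s0_v719 :=
  gap_rel s0_rot18 (path_edge (s0_f9707 IH) (path_edge (s0_f9694 IH) (path_edge (s0_f9722r IH) (path_nil s0_v719))))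
theorem s0_f9726 : ed sl_gt sq504 = s0_v720 :=
  rfl
theorem s0_f9726r : ed sl_gf s0_v720 = sq504 :=
  edge_flip (s0_f9726 IH)
theorem s0_f9727 : ed sl_gf sq504 = s0_v720 :=
  gap_rel s0_rot6 (path_edge (s0_f9726r IH) (path_nil s0_v720))
theorem s0_f9752 : ed sl_ft sq505 = s0_v723 :=
  rfl
theorem s0_f9752r : ed sl_ff s0_v723 = sq505 :=
  edge_flip (s0_f9752 IH)
theorem s0_f9753 : ed sl_ff sq505 = s0_v723 :=
  gap_rel s0_rot12 (path_edge (s0_f9752r IH) (path_nil s0_v723))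
theorem s0_f9942 : ed sl_ft sq523 = s0_v732 :=
  rfl
theorem s0_f9942r : ed sl_ff s0_v732 = sq523 :=
  edge_flip (s0_f9942 IH)
theorem s0_f9944 : ed sl_ff sq523 = s0_v732 :=
  gap_rel s0_rot12 (path_edge (s0_f9942r IH) (path_nil s0_v732))
theorem s0_f9944r : ed sl_ft s0_v732 = sq523 :=
  edge_flip (s0_f9944 IH)
theorem s0_f9945 : ed sl_bt s0_v723 = s0_v732 :=
  gap_rel s0_rot13 (path_edge (s0_f9752 IH) (path_edge (s0_f2773 IH) (path_edge (s0_f3151 IH) (path_edge (s0_f3268 IH) (path_edge (s0_f9944r IH) (path_nil s0_v732))))))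
theorem s0_f9949 : ed sl_ft sq911 = sq837 :=
  real_edge rels S fwd inv o lvl plet idx 26 IH Gen.f sp911 sp837 rfl rfl
theorem s0_f9954 : ed sl_bt sq526 = s0_v734 :=
  rfl
theorem s0_f9954r : ed sl_bf s0_v734 = sq526 :=
  edge_flip (s0_f9954 IH)
theorem s0_f2678r : ed sl_ff sq526 = sq316 :=
  edge_flip (s0_f2678 IH)
theorem s0_f2798r : ed sl_bf sq316 = sq180 :=
  edge_flip (s0_f2798 IH)
theorem s0_f3266r : ed sl_ff sq180 = sq317 :=
  edge_flip (s0_f3266 IH)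
theorem s0_f2766r : ed sl_bf sq317 = sq527 :=
  edge_flip (s0_f2766 IH)
theorem s0_f9956 : ed sl_ff sq527 = s0_v734 :=
  gap_rel s0_rot49 (path_edge (s0_f2766r IH) (path_edge (s0_f3266r IH) (path_edge (s0_f2798r IH) (path_edge (s0_f2678r IH) (path_edge (s0_f9954r IH) (path_nil s0_v734))))))
theorem s0_f9956r : ed sl_ft s0_v734 = sq527 :=
  edge_flip (s0_f9956 IH)
theorem s0_f9960 : ed sl_ft sq527 = s0_v734 :=
  gap_rel s0_rot20 (path_edge (s0_f9956r IH) (path_nil s0_v734))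
theorem s0_f9961 : ed sl_bt sq840 = sq623 :=
  real_edge rels S fwd inv o lvl plet idx 26 IH Gen.b sp840 sp623 rfl rfl
theorem s0_f10480 : ed sl_gt sq837 = sq567 :=
  real_edge rels S fwd inv o lvl plet idx 26 IH Gen.g sp837 sp567 rfl rfl
theorem s0_f10487 : ed sl_ft sq567 = s0_v772 :=
  rfl
theorem s0_f10487r : ed sl_ff s0_v772 = sq567 :=
  edge_flip (s0_f10487 IH)
theorem s0_f3049r : ed sl_af sq567 = sq337 :=
  edge_flip (s0_f3049 IH)
theorem s0_f6638r : ed sl_ff sq337 = sq569 :=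
  edge_flip (s0_f6638 IH)
theorem s0_f10488 : ed sl_af sq569 = s0_v772 :=
  gap_rel s0_rot58 (path_edge (s0_f6638r IH) (path_edge (s0_f3049r IH) (path_edge (s0_f10487r IH) (path_nil s0_v772))))
theorem s0_f10491 : ed sl_gt sq569 = sq911 :=
  real_edge rels S fwd inv o lvl plet idx 26 IH Gen.g sp569 sp911 rfl rfl
theorem s0_f10480r : ed sl_gf sq567 = sq837 :=
  edge_flip (s0_f10480 IH)
theorem s0_f9949r : ed sl_ff sq837 = sq911 :=
  edge_flip (s0_f9949 IH)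
theorem s0_f10491r : ed sl_gf sq911 = sq569 :=
  edge_flip (s0_f10491 IH)
theorem s0_f5627r : ed sl_ff sq569 = sq337 :=
  edge_flip (s0_f5627 IH)
theorem s0_f6287r : ed sl_gf sq337 = sq525 :=
  edge_flip (s0_f6287 IH)
theorem s0_f6279r : ed sl_ff sq525 = sq839 :=
  edge_flip (s0_f6279 IH)
theorem s0_f10492 : ed sl_gf sq839 = s0_v772 :=
  gap_rel s0_rot24 (path_edge (s0_f6279r IH) (path_edge (s0_f6287r IH) (path_edge (s0_f5627r IH) (path_edge (s0_f10491r IH) (path_edge (s0_f9949r IH) (path_edge (s0_f10480r IH) (path_edge (s0_f10487r IH) (path_nil s0_v772))))))))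
theorem s0_f10561 : ed sl_gt sq573 = s0_v778 :=
  rfl
theorem s0_f10561r : ed sl_gf s0_v778 = sq573 :=
  edge_flip (s0_f10561 IH)
theorem s0_f2340r : ed sl_cf sq573 = sq339 :=
  edge_flip (s0_f2340 IH)
theorem s0_f10563 : ed sl_cf s0_v276 = s0_v778 :=
  gap_rel s0_rot56 (path_edge (s0_f5633 IH) (path_edge (s0_f2340r IH) (path_edge (s0_f10561r IH) (path_nil s0_v778))))
theorem s0_f10565 : ed sl_gf sq573 = s0_v778 :=
  gap_rel s0_rot6 (path_edge (s0_f10561r IH) (path_nil s0_v778))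
theorem s0_f10565r : ed sl_gt s0_v778 = sq573 :=
  edge_flip (s0_f10565 IH)
theorem s0_f10566 : ed sl_bt s0_v457 = s0_v778 :=
  gap_rel s0_rot35 (path_edge (s0_f8286 IH) (path_edge (s0_f3459 IH) (path_edge (s0_f3462 IH) (path_edge (s0_f2339 IH) (path_edge (s0_f10565r IH) (path_nil s0_v778))))))
theorem s0_f11237 : ed sl_at sq618 = s0_v815 :=
  rfl
theorem s0_f11237r : ed sl_af s0_v815 = sq618 :=
  edge_flip (s0_f11237 IH)
theorem s0_f11238 : ed sl_af sq618 = s0_v815 :=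
  gap_rel s0_rot0 (path_edge (s0_f11237r IH) (path_nil s0_v815))
theorem s0_f5940r : ed sl_bf sq618 = sq834 :=
  edge_flip (s0_f5940 IH)
theorem s0_f6227r : ed sl_af sq834 = sq1279 :=
  edge_flip (s0_f6227 IH)
theorem s0_f6226r : ed sl_bf sq1279 = sq1939 :=
  edge_flip (s0_f6226 IH)
theorem s0_f6228r : ed sl_bf sq1939 = sq1279 :=
  edge_flip (s0_f6228 IH)
theorem s0_f6229r : ed sl_af sq1279 = sq834 :=
  edge_flip (s0_f6229 IH)
theorem s0_f6230r : ed sl_bf sq834 = sq618 :=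
  edge_flip (s0_f6230 IH)
theorem s0_f11239 : ed sl_bf s0_v815 = s0_v815 :=
  gap_rel s0_rot53 (path_edge (s0_f11238 IH) (path_edge (s0_f6230r IH) (path_edge (s0_f6229r IH) (path_edge (s0_f6228r IH) (path_edge (s0_f6185 IH) (path_edge (s0_f6226r IH) (path_edge (s0_f6227r IH) (path_edge (s0_f5940r IH) (path_edge (s0_f11237r IH) (path_nil s0_v815))))))))))
theorem s0_f5921r : ed sl_df sq618 = sq374 :=
  edge_flip (s0_f5921 IH)
theorem s0_f11240 : ed sl_df s0_v299 = s0_v815 :=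
  gap_rel s0_rot4 (path_edge (s0_f6127 IH) (path_edge (s0_f5921r IH) (path_edge (s0_f11237r IH) (path_nil s0_v815))))
theorem s0_f6606r : ed sl_ff sq618 = sq402 :=
  edge_flip (s0_f6606 IH)
theorem s0_f6341r : ed sl_af sq402 = sq658 :=
  edge_flip (s0_f6341 IH)
theorem s0_f11241 : ed sl_ff sq658 = s0_v815 :=
  gap_rel s0_rot1 (path_edge (s0_f6341r IH) (path_edge (s0_f6606r IH) (path_edge (s0_f11237r IH) (path_nil s0_v815))))
theorem s0_f11241r : ed sl_ft s0_v815 = sq658 :=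
  edge_flip (s0_f11241 IH)
theorem s0_f11244 : ed sl_ft sq658 = s0_v815 :=
  gap_rel s0_rot20 (path_edge (s0_f11241r IH) (path_nil s0_v815))
theorem s0_f11300 : ed sl_ft sq619 = s0_v820 :=
  rfl
theorem s0_f11300r : ed sl_ff s0_v820 = sq619 :=
  edge_flip (s0_f11300 IH)
theorem s0_f11302 : ed sl_ff sq619 = s0_v820 :=
  gap_rel s0_rot12 (path_edge (s0_f11300r IH) (path_nil s0_v820))
theorem s0_f11302r : ed sl_ft s0_v820 = sq619 :=
  edge_flip (s0_f11302 IH)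
theorem s0_f11303 : ed sl_at s0_v301 = s0_v820 :=
  gap_rel s0_rot18 (path_edge (s0_f6250 IH) (path_edge (s0_f6251 IH) (path_edge (s0_f11302r IH) (path_nil s0_v820))))
theorem s0_f11304 : ed sl_gt sq619 = s0_v821 :=
  rfl
theorem s0_f11304r : ed sl_gf s0_v821 = sq619 :=
  edge_flip (s0_f11304 IH)
theorem s0_f6246r : ed sl_af sq619 = sq375 :=
  edge_flip (s0_f6246 IH)
theorem s0_f11305 : ed sl_af s0_v302 = s0_v821 :=
  gap_rel s0_rot26 (path_edge (s0_f6259 IH) (path_edge (s0_f6246r IH) (path_edge (s0_f11304r IH) (path_nil s0_v821))))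
theorem s0_f11306 : ed sl_gf sq619 = s0_v821 :=
  gap_rel s0_rot6 (path_edge (s0_f11304r IH) (path_nil s0_v821))
theorem s0_f11306r : ed sl_gt s0_v821 = sq619 :=
  edge_flip (s0_f11306 IH)
theorem s0_f11307 : ed sl_at s0_v302 = s0_v821 :=
  gap_rel s0_rot19 (path_edge (s0_f6257 IH) (path_edge (s0_f6251 IH) (path_edge (s0_f11306r IH) (path_nil s0_v821))))
theorem s0_f11363 : ed sl_at sq621 = s0_v825 :=
  rfl
theorem s0_f11363r : ed sl_af s0_v825 = sq621 :=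
  edge_flip (s0_f11363 IH)
theorem s0_f11364 : ed sl_af sq621 = s0_v825 :=
  gap_rel s0_rot0 (path_edge (s0_f11363r IH) (path_nil s0_v825))
theorem s0_f6662r : ed sl_gf sq621 = sq406 :=
  edge_flip (s0_f6662 IH)
theorem s0_f6427r : ed sl_af sq406 = sq664 :=
  edge_flip (s0_f6427 IH)
theorem s0_f11366 : ed sl_gf sq664 = s0_v825 :=
  gap_rel s0_rot3 (path_edge (s0_f6427r IH) (path_edge (s0_f6662r IH) (path_edge (s0_f11363r IH) (path_nil s0_v825))))
theorem s0_f11366r : ed sl_gt s0_v825 = sq664 :=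
  edge_flip (s0_f11366 IH)
theorem s0_f11369 : ed sl_gt sq664 = s0_v825 :=
  gap_rel s0_rot23 (path_edge (s0_f11366r IH) (path_nil s0_v825))
theorem s0_f11400 : ed sl_ft sq621 = s0_v827 :=
  rfl
theorem s0_f11400r : ed sl_ff s0_v827 = sq621 :=
  edge_flip (s0_f11400 IH)
theorem s0_f11402 : ed sl_ff sq621 = s0_v827 :=
  gap_rel s0_rot12 (path_edge (s0_f11400r IH) (path_nil s0_v827))
theorem s0_f11419 : ed sl_ct sq622 = s0_v829 :=
  rfl
theorem s0_f11419r : ed sl_cf s0_v829 = sq622 :=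
  edge_flip (s0_f11419 IH)
theorem s0_f6290r : ed sl_af sq622 = sq377 :=
  edge_flip (s0_f6290 IH)
theorem s0_f6297r : ed sl_cf sq377 = sq623 :=
  edge_flip (s0_f6297 IH)
theorem s0_f11420 : ed sl_af sq623 = s0_v829 :=
  gap_rel s0_rot48 (path_edge (s0_f6297r IH) (path_edge (s0_f6290r IH) (path_edge (s0_f11419r IH) (path_nil s0_v829))))
theorem s0_f11421 : ed sl_cf sq622 = s0_v829 :=
  gap_rel s0_rot31 (path_edge (s0_f11419r IH) (path_nil s0_v829))
theorem s0_f11427 : ed sl_ft sq622 = s0_v830 :=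
  rfl
theorem s0_f11427r : ed sl_ff s0_v830 = sq622 :=
  edge_flip (s0_f11427 IH)
theorem s0_f11428 : ed sl_af s0_v305 = s0_v830 :=
  gap_rel s0_rot58 (path_edge (s0_f6300 IH) (path_edge (s0_f6290r IH) (path_edge (s0_f11427r IH) (path_nil s0_v830))))
theorem s0_f11429 : ed sl_ff sq622 = s0_v830 :=
  gap_rel s0_rot12 (path_edge (s0_f11427r IH) (path_nil s0_v830))
theorem s0_f11429r : ed sl_ft s0_v830 = sq622 :=
  edge_flip (s0_f11429 IH)
theorem s0_f11430 : ed sl_at s0_v305 = s0_v830 :=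
  gap_rel s0_rot18 (path_edge (s0_f6294 IH) (path_edge (s0_f6295 IH) (path_edge (s0_f11429r IH) (path_nil s0_v830))))
theorem s0_f11431 : ed sl_gt sq622 = s0_v831 :=
  rfl
theorem s0_f11431r : ed sl_gf s0_v831 = sq622 :=
  edge_flip (s0_f11431 IH)
theorem s0_f11432 : ed sl_af s0_v306 = s0_v831 :=
  gap_rel s0_rot26 (path_edge (s0_f6304 IH) (path_edge (s0_f6290r IH) (path_edge (s0_f11431r IH) (path_nil s0_v831))))
theorem s0_f11433 : ed sl_gf sq622 = s0_v831 :=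
  gap_rel s0_rot6 (path_edge (s0_f11431r IH) (path_nil s0_v831))
theorem s0_f11481 : ed sl_ft sq623 = s0_v833 :=
  rfl
theorem s0_f11481r : ed sl_ff s0_v833 = sq623 :=
  edge_flip (s0_f11481 IH)
theorem s0_f11483 : ed sl_ff sq623 = s0_v833 :=
  gap_rel s0_rot12 (path_edge (s0_f11481r IH) (path_nil s0_v833))
theorem s0_f11483r : ed sl_ft s0_v833 = sq623 :=
  edge_flip (s0_f11483 IH)
theorem s0_f11484 : ed sl_ct s0_v305 = s0_v833 :=
  gap_rel s0_rot27 (path_edge (s0_f6294 IH) (path_edge (s0_f6297 IH) (path_edge (s0_f11483r IH) (path_nil s0_v833))))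
theorem s0_f11485 : ed sl_gt sq623 = s0_v834 :=
  rfl
theorem s0_f11485r : ed sl_gf s0_v834 = sq623 :=
  edge_flip (s0_f11485 IH)
theorem s0_f6291r : ed sl_cf sq623 = sq377 :=
  edge_flip (s0_f6291 IH)
theorem s0_f11486 : ed sl_cf s0_v306 = s0_v834 :=
  gap_rel s0_rot56 (path_edge (s0_f6304 IH) (path_edge (s0_f6291r IH) (path_edge (s0_f11485r IH) (path_nil s0_v834))))
theorem s0_f11830 : ed sl_at sq657 = s0_v855 :=
  rfl
theorem s0_f11830r : ed sl_af s0_v855 = sq657 :=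
  edge_flip (s0_f11830 IH)
theorem s0_f11831 : ed sl_af sq657 = s0_v855 :=
  gap_rel s0_rot0 (path_edge (s0_f11830r IH) (path_nil s0_v855))
theorem s0_f6146r : ed sl_ff sq657 = sq657 :=
  edge_flip (s0_f6146 IH)
theorem s0_f11832 : ed sl_ff s0_v855 = s0_v855 :=
  gap_rel s0_rot1 (path_edge (s0_f11831 IH) (path_edge (s0_f6146r IH) (path_edge (s0_f11830r IH) (path_nil s0_v855))))
theorem s0_f11839 : ed sl_dt sq657 = s0_v857 :=
  rfl
theorem s0_f11839r : ed sl_df s0_v857 = sq657 :=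
  edge_flip (s0_f11839 IH)
theorem s0_f3227r : ed sl_bf sq657 = sq400 :=
  edge_flip (s0_f3227 IH)
theorem s0_f3353r : ed sl_df sq400 = sq658 :=
  edge_flip (s0_f3353 IH)
theorem s0_f11840 : ed sl_bf sq658 = s0_v857 :=
  gap_rel s0_rot45 (path_edge (s0_f3353r IH) (path_edge (s0_f3227r IH) (path_edge (s0_f11839r IH) (path_nil s0_v857))))
theorem s0_f11841 : ed sl_df sq657 = s0_v857 :=
  gap_rel s0_rot28 (path_edge (s0_f11839r IH) (path_nil s0_v857))
theorem s0_f11842 : ed sl_ff s0_v857 = s0_v857 :=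
  gap_rel s0_rot29 (path_edge (s0_f11841 IH) (path_edge (s0_f6146r IH) (path_edge (s0_f11839r IH) (path_nil s0_v857))))
theorem s0_f11842r : ed sl_ft s0_v857 = s0_v857 :=
  edge_flip (s0_f11842 IH)
theorem s0_f11840r : ed sl_bt s0_v857 = sq658 :=
  edge_flip (s0_f11840 IH)
theorem s0_f11239r : ed sl_bt s0_v815 = s0_v815 :=
  edge_flip (s0_f11239 IH)
theorem s0_f11845 : ed sl_bt sq658 = s0_v857 :=
  gap_rel s0_rot13 (path_edge (s0_f11241r IH) (path_edge (s0_f11239r IH) (path_edge (s0_f11244 IH) (path_edge (s0_f11840r IH) (path_edge (s0_f11842r IH) (path_nil s0_v857))))))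
theorem s0_f11850 : ed sl_ct sq658 = s0_v859 :=
  rfl
theorem s0_f11850r : ed sl_cf s0_v859 = sq658 :=
  edge_flip (s0_f11850 IH)
theorem s0_f11852 : ed sl_cf sq658 = s0_v859 :=
  gap_rel s0_rot31 (path_edge (s0_f11850r IH) (path_nil s0_v859))
theorem s0_f11923 : ed sl_at sq663 = s0_v866 :=
  rfl
theorem s0_f11923r : ed sl_af s0_v866 = sq663 :=
  edge_flip (s0_f11923 IH)
theorem s0_f11924 : ed sl_af sq663 = s0_v866 :=
  gap_rel s0_rot0 (path_edge (s0_f11923r IH) (path_nil s0_v866))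
theorem s0_f11925 : ed sl_et sq1031 = sq663 :=
  real_edge rels S fwd inv o lvl plet idx 26 IH Gen.e sp1031 sp663 rfl rfl
theorem s0_f11926 : ed sl_ct sq663 = s0_v867 :=
  rfl
theorem s0_f11926r : ed sl_cf s0_v867 = sq663 :=
  edge_flip (s0_f11926 IH)
theorem s0_f11928 : ed sl_cf sq663 = s0_v867 :=
  gap_rel s0_rot31 (path_edge (s0_f11926r IH) (path_nil s0_v867))
theorem s0_f11931 : ed sl_dt sq663 = s0_v868 :=
  rfl
theorem s0_f11931r : ed sl_df s0_v868 = sq663 :=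
  edge_flip (s0_f11931 IH)
theorem s0_f11933 : ed sl_df sq663 = s0_v868 :=
  gap_rel s0_rot28 (path_edge (s0_f11931r IH) (path_nil s0_v868))
theorem s0_f11934 : ed sl_dt sq1559 = sq1031 :=
  real_edge rels S fwd inv o lvl plet idx 26 IH Gen.d sp1559 sp1031 rfl rfl
theorem s0_f11933r : ed sl_dt s0_v868 = sq663 :=
  edge_flip (s0_f11933 IH)
theorem s0_f11937 : ed sl_bt sq664 = s0_v868 :=
  gap_rel s0_rot46 (path_edge (s0_f6271 IH) (path_edge (s0_f2114 IH) (path_edge (s0_f11933r IH) (path_nil s0_v868))))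
theorem s0_f11940 : ed sl_ft sq663 = s0_v869 :=
  rfl
theorem s0_f11942 : ed sl_gt sq663 = s0_v870 :=
  rfl
theorem s0_f11944 : ed sl_ct sq664 = s0_v871 :=
  rfl
theorem s0_f11944r : ed sl_cf s0_v871 = sq664 :=
  edge_flip (s0_f11944 IH)
theorem s0_f11946 : ed sl_cf sq664 = s0_v871 :=
  gap_rel s0_rot31 (path_edge (s0_f11944r IH) (path_nil s0_v871))
theorem s0_f11948 : ed sl_ft sq664 = s0_v872 :=
  rfl
theorem s0_f11948r : ed sl_ff s0_v872 = sq664 :=
  edge_flip (s0_f11948 IH)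
theorem s0_f11364r : ed sl_at s0_v825 = sq621 :=
  edge_flip (s0_f11364 IH)
theorem s0_f11952 : ed sl_gf s0_v827 = s0_v872 :=
  gap_rel s0_rot22 (path_edge (s0_f11402 IH) (path_edge (s0_f11364r IH) (path_edge (s0_f11366 IH) (path_edge (s0_f11948r IH) (path_nil s0_v872)))))
theorem s0_f11957 : ed sl_bt sq665 = s0_v873 :=
  rfl
theorem s0_f11957r : ed sl_bf s0_v873 = sq665 :=
  edge_flip (s0_f11957 IH)
theorem s0_f11958 : ed sl_bf sq665 = s0_v873 :=
  gap_rel s0_rot17 (path_edge (s0_f11957r IH) (path_nil s0_v873))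
theorem s0_f11999 : ed sl_gt sq667 = s0_v876 :=
  rfl
theorem s0_f11999r : ed sl_gf s0_v876 = sq667 :=
  edge_flip (s0_f11999 IH)
theorem s0_f6661r : ed sl_ff sq667 = sq406 :=
  edge_flip (s0_f6661 IH)
theorem s0_f6650r : ed sl_gf sq406 = sq621 :=
  edge_flip (s0_f6650 IH)
theorem s0_f12002 : ed sl_ff s0_v825 = s0_v876 :=
  gap_rel s0_rot60 (path_edge (s0_f11366 IH) (path_edge (s0_f11948r IH) (path_edge (s0_f11952 IH) (path_edge (s0_f11402 IH) (path_edge (s0_f6650r IH) (path_edge (s0_f6661r IH) (path_edge (s0_f11999r IH) (path_nil s0_v876))))))))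
theorem s0_f12003 : ed sl_gf sq667 = s0_v876 :=
  gap_rel s0_rot6 (path_edge (s0_f11999r IH) (path_nil s0_v876))
theorem s0_f12003r : ed sl_gt s0_v876 = sq667 :=
  edge_flip (s0_f12003 IH)
theorem s0_f12006 : ed sl_dt s0_v326 = s0_v876 :=
  gap_rel s0_rot7 (path_edge (s0_f6678 IH) (path_edge (s0_f2118 IH) (path_edge (s0_f12003r IH) (path_nil s0_v876))))
theorem s0_f12172 : ed sl_bt sq784 = sq1216 :=
  real_edge rels S fwd inv o lvl plet idx 26 IH Gen.b sp784 sp1216 rfl rfl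
theorem s0_f13241 : ed sl_gt sq754 = s0_v956 :=
  rfl
theorem s0_f13241r : ed sl_gf s0_v956 = sq754 :=
  edge_flip (s0_f13241 IH)
theorem s0_f13244 : ed sl_gf sq754 = s0_v956 :=
  gap_rel s0_rot6 (path_edge (s0_f13241r IH) (path_nil s0_v956))
theorem s0_f13244r : ed sl_gt s0_v956 = sq754 :=
  edge_flip (s0_f13244 IH)
theorem s0_f13245 : ed sl_ct s0_v374 = s0_v956 :=
  gap_rel s0_rot30 (path_edge (s0_f7690 IH) (path_edge (s0_f1983 IH) (path_edge (s0_f13244r IH) (path_nil s0_v956))))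
theorem s0_f13306 : ed sl_ft sq759 = s0_v964 :=
  rfl
theorem s0_f13306r : ed sl_ff s0_v964 = sq759 :=
  edge_flip (s0_f13306 IH)
theorem s0_f7727r : ed sl_af sq759 = sq468 :=
  edge_flip (s0_f7727 IH)
theorem s0_f13307 : ed sl_af s0_v379 = s0_v964 :=
  gap_rel s0_rot58 (path_edge (s0_f7733 IH) (path_edge (s0_f7727r IH) (path_edge (s0_f13306r IH) (path_nil s0_v964))))
theorem s0_f13310 : ed sl_ff sq759 = s0_v964 :=
  gap_rel s0_rot12 (path_edge (s0_f13306r IH) (path_nil s0_v964))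
theorem s0_f13312 : ed sl_gt sq759 = s0_v965 :=
  rfl
theorem s0_f13312r : ed sl_gf s0_v965 = sq759 :=
  edge_flip (s0_f13312 IH)
theorem s0_f13313 : ed sl_af s0_v380 = s0_v965 :=
  gap_rel s0_rot26 (path_edge (s0_f7738 IH) (path_edge (s0_f7727r IH) (path_edge (s0_f13312r IH) (path_nil s0_v965))))
theorem s0_f13314 : ed sl_gf sq759 = s0_v965 :=
  gap_rel s0_rot6 (path_edge (s0_f13312r IH) (path_nil s0_v965))
theorem s0_f13314r : ed sl_gt s0_v965 = sq759 :=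
  edge_flip (s0_f13314 IH)
theorem s0_f13315 : ed sl_at s0_v380 = s0_v965 :=
  gap_rel s0_rot19 (path_edge (s0_f7737 IH) (path_edge (s0_f7731 IH) (path_edge (s0_f13314r IH) (path_nil s0_v965))))
theorem s0_f13318 : ed sl_ft sq760 = s0_v966 :=
  rfl
theorem s0_f13320 : ed sl_bt sq1187 = sq760 :=
  real_edge rels S fwd inv o lvl plet idx 26 IH Gen.b sp1187 sp760 rfl rfl
theorem s0_f13318r : ed sl_ff s0_v966 = sq760 :=
  edge_flip (s0_f13318 IH)
theorem s0_f7382r : ed sl_cf sq760 = sq468 :=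
  edge_flip (s0_f7382 IH)
theorem s0_f13321 : ed sl_cf s0_v379 = s0_v966 :=
  gap_rel s0_rot47 (path_edge (s0_f7733 IH) (path_edge (s0_f7382r IH) (path_edge (s0_f13318r IH) (path_nil s0_v966))))
theorem s0_f13323 : ed sl_ff sq760 = s0_v966 :=
  gap_rel s0_rot12 (path_edge (s0_f13318r IH) (path_nil s0_v966))
theorem s0_f13325 : ed sl_gt sq760 = s0_v967 :=
  rfl
theorem s0_f13325r : ed sl_gf s0_v967 = sq760 :=
  edge_flip (s0_f13325 IH)
theorem s0_f13327 : ed sl_gf sq760 = s0_v967 :=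
  gap_rel s0_rot6 (path_edge (s0_f13325r IH) (path_nil s0_v967))
theorem s0_f13327r : ed sl_gt s0_v967 = sq760 :=
  edge_flip (s0_f13327 IH)
theorem s0_f13328 : ed sl_ct s0_v380 = s0_v967 :=
  gap_rel s0_rot30 (path_edge (s0_f7737 IH) (path_edge (s0_f2095 IH) (path_edge (s0_f13327r IH) (path_nil s0_v967))))
theorem s0_f13329 : ed sl_ct sq761 = sq1187 :=
  real_edge rels S fwd inv o lvl plet idx 26 IH Gen.c sp761 sp1187 rfl rfl
theorem s0_f13426 : ed sl_ft sq765 = s0_v977 :=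
  rfl
theorem s0_f13426r : ed sl_ff s0_v977 = sq765 :=
  edge_flip (s0_f13426 IH)
theorem s0_f13430 : ed sl_ff sq765 = s0_v977 :=
  gap_rel s0_rot12 (path_edge (s0_f13426r IH) (path_nil s0_v977))
theorem s0_f13430r : ed sl_ft s0_v977 = sq765 :=
  edge_flip (s0_f13430 IH)
theorem s0_f13431 : ed sl_at s0_v386 = s0_v977 :=
  gap_rel s0_rot18 (path_edge (s0_f7794 IH) (path_edge (s0_f7795 IH) (path_edge (s0_f13430r IH) (path_nil s0_v977))))
theorem s0_f13432 : ed sl_gt sq765 = s0_v978 :=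
  rfl
theorem s0_f13432r : ed sl_gf s0_v978 = sq765 :=
  edge_flip (s0_f13432 IH)
theorem s0_f7780r : ed sl_af sq765 = sq472 :=
  edge_flip (s0_f7780 IH)
theorem s0_f13433 : ed sl_af s0_v387 = s0_v978 :=
  gap_rel s0_rot26 (path_edge (s0_f7802 IH) (path_edge (s0_f7780r IH) (path_edge (s0_f13432r IH) (path_nil s0_v978))))
theorem s0_f13434 : ed sl_gf sq765 = s0_v978 :=
  gap_rel s0_rot6 (path_edge (s0_f13432r IH) (path_nil s0_v978))
theorem s0_f13734 : ed sl_at sq780 = s0_v997 :=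
  rfl
theorem s0_f13734r : ed sl_af s0_v997 = sq780 :=
  edge_flip (s0_f13734 IH)
theorem s0_f13735 : ed sl_af sq780 = s0_v997 :=
  gap_rel s0_rot0 (path_edge (s0_f13734r IH) (path_nil s0_v997))
theorem s0_f13742 : ed sl_ft sq780 = s0_v999 :=
  rfl
theorem s0_f13742r : ed sl_ff s0_v999 = sq780 :=
  edge_flip (s0_f13742 IH)
theorem s0_f13744 : ed sl_ff sq780 = s0_v999 :=
  gap_rel s0_rot12 (path_edge (s0_f13742r IH) (path_nil s0_v999))
theorem s0_f13790 : ed sl_at sq783 = s0_v1006 :=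
  rfl
theorem s0_f13790r : ed sl_af s0_v1006 = sq783 :=
  edge_flip (s0_f13790 IH)
theorem s0_f13791 : ed sl_af sq783 = s0_v1006 :=
  gap_rel s0_rot0 (path_edge (s0_f13790r IH) (path_nil s0_v1006))
theorem s0_f7744r : ed sl_cf sq783 = sq780 :=
  edge_flip (s0_f7744 IH)
theorem s0_f13792 : ed sl_cf s0_v997 = s0_v1006 :=
  gap_rel s0_rot2 (path_edge (s0_f13735 IH) (path_edge (s0_f7744r IH) (path_edge (s0_f13790r IH) (path_nil s0_v1006))))
theorem s0_f14080 : ed sl_ft s0_v276 = s0_v1059 :=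
  rfl
theorem s0_f14101 : ed sl_bt s0_v280 = s0_v1063 :=
  rfl
theorem s0_f14101r : ed sl_bf s0_v1063 = s0_v280 :=
  edge_flip (s0_f14101 IH)
theorem s0_f14102 : ed sl_bf s0_v280 = s0_v1063 :=
  gap_rel s0_rot17 (path_edge (s0_f14101r IH) (path_nil s0_v1063))
theorem s0_f3074r : ed sl_bf sq352 = sq202 :=
  edge_flip (s0_f3074 IH)
theorem s0_f5737r : ed sl_ff sq202 = sq355 :=
  edge_flip (s0_f5737 IH)
theorem s0_f14104 : ed sl_ff s0_v285 = s0_v1063 :=
  gap_rel s0_rot49 (path_edge (s0_f5807 IH) (path_edge (s0_f5737r IH) (path_edge (s0_f3074r IH) (path_edge (s0_f5736r IH) (path_edge (s0_f14101r IH) (path_nil s0_v1063))))))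
theorem s0_f14104r : ed sl_ft s0_v1063 = s0_v285 :=
  edge_flip (s0_f14104 IH)
theorem s0_f14106 : ed sl_ft s0_v285 = s0_v1063 :=
  gap_rel s0_rot20 (path_edge (s0_f14104r IH) (path_nil s0_v1063))
theorem s0_f14137 : ed sl_bt s0_v283 = s0_v1069 :=
  rfl
theorem s0_f14137r : ed sl_bf s0_v1069 = s0_v283 :=
  edge_flip (s0_f14137 IH)
theorem s0_f5784r : ed sl_ff s0_v283 = sq353 :=
  edge_flip (s0_f5784 IH)
theorem s0_f3108r : ed sl_bf sq353 = sq203 :=
  edge_flip (s0_f3108 IH)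
theorem s0_f5269r : ed sl_ff sq203 = sq358 :=
  edge_flip (s0_f5269 IH)
theorem s0_f14140 : ed sl_ff s0_v287 = s0_v1069 :=
  gap_rel s0_rot49 (path_edge (s0_f5864 IH) (path_edge (s0_f5269r IH) (path_edge (s0_f3108r IH) (path_edge (s0_f5784r IH) (path_edge (s0_f14137r IH) (path_nil s0_v1069))))))
theorem s0_f14140r : ed sl_ft s0_v1069 = s0_v287 :=
  edge_flip (s0_f14140 IH)
theorem s0_f14141 : ed sl_et s0_v432 = s0_v1069 :=
  gap_rel s0_rot9 (path_edge (s0_f8215 IH) (path_edge (s0_f5866r IH) (path_edge (s0_f14140r IH) (path_nil s0_v1069))))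
theorem s0_f14142 : ed sl_ft s0_v287 = s0_v1069 :=
  gap_rel s0_rot20 (path_edge (s0_f14140r IH) (path_nil s0_v1069))
theorem s0_f14156 : ed sl_at s0_v285 = s0_v1072 :=
  rfl
theorem s0_f14156r : ed sl_af s0_v1072 = s0_v285 :=
  edge_flip (s0_f14156 IH)
theorem s0_f14157 : ed sl_af s0_v285 = s0_v1072 :=
  gap_rel s0_rot0 (path_edge (s0_f14156r IH) (path_nil s0_v1072))
theorem s0_f5812r : ed sl_df s0_v285 = s0_v98 :=
  edge_flip (s0_f5812 IH)
theorem s0_f14158 : ed sl_df s0_v435 = s0_v1072 :=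
  gap_rel s0_rot4 (path_edge (s0_f8226 IH) (path_edge (s0_f5812r IH) (path_edge (s0_f14156r IH) (path_nil s0_v1072))))
theorem s0_f14182 : ed sl_at s0_v287 = s0_v1078 :=
  rfl
theorem s0_f14182r : ed sl_af s0_v1078 = s0_v287 :=
  edge_flip (s0_f14182 IH)
theorem s0_f14183 : ed sl_af s0_v287 = s0_v1078 :=
  gap_rel s0_rot0 (path_edge (s0_f14182r IH) (path_nil s0_v1078))
theorem s0_f5872r : ed sl_ef s0_v287 = s0_v98 :=
  edge_flip (s0_f5872 IH)
theorem s0_f14184 : ed sl_ef s0_v435 = s0_v1078 :=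
  gap_rel s0_rot8 (path_edge (s0_f8226 IH) (path_edge (s0_f5872r IH) (path_edge (s0_f14182r IH) (path_nil s0_v1078))))
theorem s0_f14190 : ed sl_gt s0_v287 = s0_v1080 :=
  rfl
theorem s0_f14210 : ed sl_bt s0_v289 = s0_v1084 :=
  rfl
theorem s0_f14210r : ed sl_bf s0_v1084 = s0_v289 :=
  edge_flip (s0_f14210 IH)
theorem s0_f5922r : ed sl_df s0_v289 = s0_v100 :=
  edge_flip (s0_f5922 IH)
theorem s0_f14212 : ed sl_df s0_v441 = s0_v1084 :=
  gap_rel s0_rot36 (path_edge (s0_f8242 IH) (path_edge (s0_f5922r IH) (path_edge (s0_f14210r IH) (path_nil s0_v1084))))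
theorem s0_f14212r : ed sl_dt s0_v1084 = s0_v441 :=
  edge_flip (s0_f14212 IH)
theorem s0_f14213 : ed sl_dt s0_v441 = s0_v1084 :=
  gap_rel s0_rot37 (path_edge (s0_f14212r IH) (path_nil s0_v1084))
theorem s0_f14220 : ed sl_dt s0_v290 = s0_v1086 :=
  rfl
theorem s0_f14220r : ed sl_df s0_v1086 = s0_v290 :=
  edge_flip (s0_f14220 IH)
theorem s0_f14221 : ed sl_df s0_v290 = s0_v1086 :=
  gap_rel s0_rot28 (path_edge (s0_f14220r IH) (path_nil s0_v1086))
theorem s0_f5942r : ed sl_ff s0_v290 = sq384 :=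
  edge_flip (s0_f5942 IH)
theorem s0_f14222 : ed sl_ff s0_v309 = s0_v1086 :=
  gap_rel s0_rot29 (path_edge (s0_f6346 IH) (path_edge (s0_f5942r IH) (path_edge (s0_f14220r IH) (path_nil s0_v1086))))
theorem s0_f14222r : ed sl_ft s0_v1086 = s0_v309 :=
  edge_flip (s0_f14222 IH)
theorem s0_f14223 : ed sl_ft s0_v309 = s0_v1086 :=
  gap_rel s0_rot20 (path_edge (s0_f14222r IH) (path_nil s0_v1086))
theorem s0_f14223r : ed sl_ff s0_v1086 = s0_v309 :=
  edge_flip (s0_f14223 IH)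
theorem s0_f6378r : ed sl_bf s0_v309 = s0_v124 :=
  edge_flip (s0_f6378 IH)
theorem s0_f14224 : ed sl_bf s0_v1086 = s0_v1086 :=
  gap_rel s0_rot51 (path_edge (s0_f14222 IH) (path_edge (s0_f6345 IH) (path_edge (s0_f3773 IH) (path_edge (s0_f6378r IH) (path_edge (s0_f14223r IH) (path_nil s0_v1086))))))
theorem s0_f14241 : ed sl_dt s0_v293 = s0_v1090 :=
  rfl
theorem s0_f14241r : ed sl_df s0_v1090 = s0_v293 :=
  edge_flip (s0_f14241 IH)
theorem s0_f5997r : ed sl_gf s0_v293 = sq387 :=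
  edge_flip (s0_f5997 IH)
theorem s0_f14243 : ed sl_gf s0_v314 = s0_v1090 :=
  gap_rel s0_rot33 (path_edge (s0_f6436 IH) (path_edge (s0_f5997r IH) (path_edge (s0_f14241r IH) (path_nil s0_v1090))))
theorem s0_f14243r : ed sl_gt s0_v1090 = s0_v314 :=
  edge_flip (s0_f14243 IH)
theorem s0_f14244 : ed sl_gt s0_v314 = s0_v1090 :=
  gap_rel s0_rot23 (path_edge (s0_f14243r IH) (path_nil s0_v1090))
theorem s0_f14244r : ed sl_gf s0_v1090 = s0_v314 :=
  edge_flip (s0_f14244 IH)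
theorem s0_f6462r : ed sl_bf s0_v314 = s0_v130 :=
  edge_flip (s0_f6462 IH)
theorem s0_f14245 : ed sl_bf s0_v1090 = s0_v1090 :=
  gap_rel s0_rot32 (path_edge (s0_f14243 IH) (path_edge (s0_f6435 IH) (path_edge (s0_f3920 IH) (path_edge (s0_f6462r IH) (path_edge (s0_f14244r IH) (path_nil s0_v1090))))))
theorem s0_f14263 : ed sl_gt s0_v301 = s0_v1095 :=
  rfl
theorem s0_f14263r : ed sl_gf s0_v1095 = s0_v301 :=
  edge_flip (s0_f14263 IH)
theorem s0_f14264 : ed sl_gf s0_v301 = s0_v1095 :=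
  gap_rel s0_rot6 (path_edge (s0_f14263r IH) (path_nil s0_v1095))
theorem s0_f14265 : ed sl_ff s0_v821 = s0_v1095 :=
  gap_rel s0_rot21 (path_edge (s0_f11306 IH) (path_edge (s0_f11300r IH) (path_edge (s0_f11303 IH) (path_edge (s0_f14263r IH) (path_nil s0_v1095)))))
theorem s0_f14265r : ed sl_ft s0_v1095 = s0_v821 :=
  edge_flip (s0_f14265 IH)
theorem s0_f14266 : ed sl_ft s0_v821 = s0_v1095 :=
  gap_rel s0_rot20 (path_edge (s0_f14265r IH) (path_nil s0_v1095))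
theorem s0_f14267 : ed sl_ft s0_v302 = s0_v1096 :=
  rfl
theorem s0_f14267r : ed sl_ff s0_v1096 = s0_v302 :=
  edge_flip (s0_f14267 IH)
theorem s0_f14269 : ed sl_ff s0_v302 = s0_v1096 :=
  gap_rel s0_rot12 (path_edge (s0_f14267r IH) (path_nil s0_v1096))
theorem s0_f14266r : ed sl_ff s0_v1095 = s0_v821 :=
  edge_flip (s0_f14266 IH)
theorem s0_f14270 : ed sl_gf s0_v820 = s0_v1096 :=
  gap_rel s0_rot24 (path_edge (s0_f11302 IH) (path_edge (s0_f11304r IH) (path_edge (s0_f14266r IH) (path_edge (s0_f14264 IH) (path_edge (s0_f6255 IH) (path_edge (s0_f6257r IH) (path_edge (s0_f14267r IH) (path_nil s0_v1096))))))))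
theorem s0_f14270r : ed sl_gt s0_v1096 = s0_v820 :=
  edge_flip (s0_f14270 IH)
theorem s0_f14272 : ed sl_gt s0_v820 = s0_v1096 :=
  gap_rel s0_rot23 (path_edge (s0_f14270r IH) (path_nil s0_v1096))
theorem s0_f4278r : ed sl_ff s0_v147 = s0_v146 :=
  edge_flip (s0_f4278 IH)
theorem s0_f543r : ed sl_bf sq75 = sq34 :=
  edge_flip (s0_f543 IH)
theorem s0_f1196r : ed sl_ff sq34 = sq76 :=
  edge_flip (s0_f1196 IH)
theorem s0_f892r : ed sl_gf sq76 = sq55 :=
  edge_flip (s0_f892 IH)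
theorem s0_f14272r : ed sl_gf s0_v1096 = s0_v820 :=
  edge_flip (s0_f14272 IH)
theorem s0_f14273 : s0_v820 = s0_v515 :=
  (loop_rel s0_rot61 (path_edge (s0_f14272r IH) (path_edge (s0_f14269 IH) (path_edge (s0_f6258 IH) (path_edge (s0_f3246 IH) (path_edge (s0_f3232r IH) (path_edge (s0_f1141r IH) (path_edge (s0_f892r IH) (path_edge (s0_f1196r IH) (path_edge (s0_f543r IH) (path_edge (s0_f1174r IH) (path_edge (s0_f1178r IH) (path_edge (s0_f1190r IH) (path_edge (s0_f4272r IH) (path_edge (s0_f4278r IH) (path_edge (s0_f8573r IH) (path_nil s0_v515))))))))))))))))).symm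
theorem s0_f4264r : ed sl_bf sq472 = sq278 :=
  edge_flip (s0_f4264 IH)
theorem s0_f14274 : ed sl_bf s0_v1096 = s0_v387 :=
  gap_rel s0_rot32 (path_edge (s0_f14270 IH) (path_eq (s0_f14273 IH).symm (path_edge (s0_f8574 IH) (path_edge (s0_f4276 IH) (path_edge (s0_f4264r IH) (path_edge (s0_f7801r IH) (path_nil s0_v387)))))))
theorem s0_f14274r : ed sl_bt s0_v387 = s0_v1096 :=
  edge_flip (s0_f14274 IH)
theorem s0_f14269r : ed sl_ft s0_v1096 = s0_v302 :=
  edge_flip (s0_f14269 IH)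
theorem s0_f6258r : ed sl_bt s0_v302 = s0_v101 :=
  edge_flip (s0_f6258 IH)
theorem s0_f14276 : ed sl_ft s0_v321 = s0_v387 :=
  gap_rel s0_rot42 (path_edge (s0_f6574 IH) (path_edge (s0_f3247r IH) (path_edge (s0_f6258r IH) (path_edge (s0_f14269r IH) (path_edge (s0_f14274r IH) (path_nil s0_v387))))))
theorem s0_f13433r : ed sl_at s0_v978 = s0_v387 :=
  edge_flip (s0_f13433 IH)
theorem s0_f14276r : ed sl_ff s0_v387 = s0_v321 :=
  edge_flip (s0_f14276 IH)
theorem s0_f14280 : ed sl_gf s0_v321 = s0_v977 :=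
  gap_rel s0_rot22 (path_edge (s0_f14276r IH) (path_edge (s0_f13433r IH) (path_edge (s0_f13434 IH) (path_edge (s0_f13426r IH) (path_nil s0_v977)))))
theorem s0_f14280r : ed sl_gt s0_v977 = s0_v321 :=
  edge_flip (s0_f14280 IH)
theorem s0_f14282 : ed sl_gt s0_v321 = s0_v977 :=
  gap_rel s0_rot23 (path_edge (s0_f14280r IH) (path_nil s0_v977))
theorem s0_f14282r : ed sl_gf s0_v977 = s0_v321 :=
  edge_flip (s0_f14282 IH)
theorem s0_f6574r : ed sl_bf s0_v321 = sq401 :=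
  edge_flip (s0_f6574 IH)
theorem s0_f14283 : ed sl_bf s0_v446 = s0_v977 :=
  gap_rel s0_rot32 (path_edge (s0_f8255 IH) (path_edge (s0_f3352 IH) (path_edge (s0_f3231r IH) (path_edge (s0_f6574r IH) (path_edge (s0_f14282r IH) (path_nil s0_v977))))))
theorem s0_f7734r : ed sl_bf sq759 = sq765 :=
  edge_flip (s0_f7734 IH)
theorem s0_f1735r : ed sl_bf sq212 = sq111 :=
  edge_flip (s0_f1735 IH)
theorem s0_f875r : ed sl_ff sq111 = sq52 :=
  edge_flip (s0_f875 IH)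

end

end

end Cfsg.Agent.Helper28.S1681
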