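import Cfsg.Agent.Lib.Helper28.S1681.Seeds1

set_option autoImplicit false
set_option maxRecDepth 100000
set_option linter.all false

namespace Cfsg.Agent.Helper28.S1681

open Cfsg.Agent.Helper28
open Cfsg.Spor.Suz (Gen)

noncomputable section

section
variable (IH : ∀ y q, lvl y q < 26 → EntryOK rels S fwd inv o plet idx y q)
include IH

theorem s0_f1747r : ed sl_gf sq52 = sq112 :=
  edge_flip (s0_f1747 IH)
theorem s0_f3145r : ed sl_bf sq112 = sq214 :=
  edge_flip (s0_f3145 IH)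
theorem s0_f3286r : ed sl_gf s0_v103 = sq405 :=
  edge_flip (s0_f3286 IH)
theorem s0_f14284 : ed sl_ff s0_v324 = s0_v965 :=
  gap_rel s0_rot62 (path_edge (s0_f6637 IH) (path_edge (s0_f3286r IH) (path_edge (s0_f3281 IH) (path_edge (s0_f3145r IH) (path_edge (s0_f1747r IH) (path_edge (s0_f875r IH) (path_edge (s0_f1735r IH) (path_edge (s0_f3244r IH) (path_edge (s0_f3247 IH) (path_edge (s0_f6574r IH) (path_edge (s0_f14282r IH) (path_edge (s0_f13430 IH) (path_edge (s0_f7734r IH) (path_edge (s0_f13312r IH) (path_nil s0_v965)))))))))))))))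
theorem s0_f14284r : ed sl_ft s0_v965 = s0_v324 :=
  edge_flip (s0_f14284 IH)
theorem s0_f6637r : ed sl_bt s0_v324 = sq405 :=
  edge_flip (s0_f6637 IH)
theorem s0_f14285 : ed sl_bt s0_v450 = s0_v965 :=
  gap_rel s0_rot13 (path_edge (s0_f8264 IH) (path_edge (s0_f3374 IH) (path_edge (s0_f2124 IH) (path_edge (s0_f6637r IH) (path_edge (s0_f14284r IH) (path_nil s0_v965))))))
theorem s0_f7733r : ed sl_ft s0_v379 = sq468 :=
  edge_flip (s0_f7733 IH)
theorem s0_f7731r : ed sl_af sq468 = sq759 :=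
  edge_flip (s0_f7731 IH)
theorem s0_f14287 : ed sl_gt s0_v324 = s0_v379 :=
  gap_rel s0_rot15 (path_edge (s0_f14284r IH) (path_edge (s0_f13312 IH) (path_edge (s0_f7731r IH) (path_edge (s0_f7733r IH) (path_nil s0_v379)))))
theorem s0_f14287r : ed sl_gf s0_v379 = s0_v324 :=
  edge_flip (s0_f14287 IH)
theorem s0_f14290 : ed sl_gf s0_v324 = s0_v379 :=
  gap_rel s0_rot6 (path_edge (s0_f14287r IH) (path_nil s0_v379))
theorem s0_f14300 : ed sl_bt s0_v304 = s0_v1098 :=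
  rfl
theorem s0_f14300r : ed sl_bf s0_v1098 = s0_v304 :=
  edge_flip (s0_f14300 IH)
theorem s0_f14301 : ed sl_bf s0_v304 = s0_v1098 :=
  gap_rel s0_rot17 (path_edge (s0_f14300r IH) (path_nil s0_v1098))
theorem s0_f14302 : ed sl_gt s0_v305 = s0_v1099 :=
  rfl
theorem s0_f14302r : ed sl_gf s0_v1099 = s0_v305 :=
  edge_flip (s0_f14302 IH)
theorem s0_f14304 : ed sl_gf s0_v305 = s0_v1099 :=
  gap_rel s0_rot6 (path_edge (s0_f14302r IH) (path_nil s0_v1099))
theorem s0_f14305 : ed sl_ff s0_v831 = s0_v1099 :=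
  gap_rel s0_rot21 (path_edge (s0_f11433 IH) (path_edge (s0_f11427r IH) (path_edge (s0_f11430 IH) (path_edge (s0_f14302r IH) (path_nil s0_v1099)))))
theorem s0_f6301r : ed sl_bf s0_v305 = s0_v103 :=
  edge_flip (s0_f6301 IH)
theorem s0_f1163r : ed sl_ff sq56 = sq74 :=
  edge_flip (s0_f1163 IH)
theorem s0_f541r : ed sl_gf sq74 = sq33 :=
  edge_flip (s0_f541 IH)
theorem s0_f1149r : ed sl_gf sq73 = sq149 :=
  edge_flip (s0_f1149 IH)
theorem s0_f1937r : ed sl_bf sq149 = sq274 :=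
  edge_flip (s0_f1937 IH)
theorem s0_f14306 : s0_v511 = s0_v831 :=
  (loop_rel s0_rot63 (path_edge (s0_f8558 IH) (path_edge (s0_f4242 IH) (path_edge (s0_f4238 IH) (path_edge (s0_f1937r IH) (path_edge (s0_f1149r IH) (path_edge (s0_f1147r IH) (path_edge (s0_f1154r IH) (path_edge (s0_f541r IH) (path_edge (s0_f1163r IH) (path_edge (s0_f894r IH) (path_edge (s0_f1793r IH) (path_edge (s0_f3280r IH) (path_edge (s0_f6301r IH) (path_edge (s0_f14302r IH) (path_edge (s0_f14305 IH) (path_nil s0_v831))))))))))))))))).symm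
theorem s0_f14308 : ed sl_ff s0_v1099 = s0_v511 :=
  gap_rel s0_rot21 (path_edge (s0_f14304 IH) (path_edge (s0_f6300 IH) (path_edge (s0_f6295 IH) (path_edge (s0_f11431r IH) (path_eq (s0_f14306 IH) (path_nil s0_v511))))))
theorem s0_f4232r : ed sl_bf sq468 = sq275 :=
  edge_flip (s0_f4232 IH)
theorem s0_f14310 : ed sl_bf s0_v1099 = s0_v379 :=
  gap_rel s0_rot51 (path_edge (s0_f14305 IH) (path_eq (s0_f14306 IH) (path_edge (s0_f8558 IH) (path_edge (s0_f4241 IH) (path_edge (s0_f4232r IH) (path_edge (s0_f7730r IH) (path_nil s0_v379)))))))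
theorem s0_f14311 : ed sl_ft s0_v306 = s0_v1100 :=
  rfl
theorem s0_f14311r : ed sl_ff s0_v1100 = s0_v306 :=
  edge_flip (s0_f14311 IH)
theorem s0_f14313 : ed sl_ff s0_v306 = s0_v1100 :=
  gap_rel s0_rot12 (path_edge (s0_f14311r IH) (path_nil s0_v1100))
theorem s0_f14314 : ed sl_gf s0_v830 = s0_v1100 :=
  gap_rel s0_rot24 (path_edge (s0_f11429 IH) (path_edge (s0_f11431r IH) (path_eq (s0_f14306 IH) (path_edge (s0_f14308 IH) (path_edge (s0_f14304 IH) (path_edge (s0_f6300 IH) (path_edge (s0_f6303r IH) (path_edge (s0_f14311r IH) (path_nil s0_v1100)))))))))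
theorem s0_f14315 : ed sl_at s0_v1099 = s0_v1100 :=
  gap_rel s0_rot25 (path_edge (s0_f14304 IH) (path_edge (s0_f6300 IH) (path_edge (s0_f6303r IH) (path_edge (s0_f14311r IH) (path_nil s0_v1100)))))
theorem s0_f14314r : ed sl_gt s0_v1100 = s0_v830 :=
  edge_flip (s0_f14314 IH)
theorem s0_f14316 : ed sl_gt s0_v830 = s0_v1100 :=
  gap_rel s0_rot23 (path_edge (s0_f14314r IH) (path_nil s0_v1100))
theorem s0_f8215r : ed sl_ff s0_v432 = s0_v98 :=
  edge_flip (s0_f8215 IH)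
theorem s0_f8232r : ed sl_bf s0_v437 = s0_v306 :=
  edge_flip (s0_f8232 IH)
theorem s0_f14316r : ed sl_gf s0_v1100 = s0_v830 :=
  edge_flip (s0_f14316 IH)
theorem s0_f14317 : ed sl_bf s0_v830 = s0_v821 :=
  gap_rel s0_rot63 (path_edge (s0_f14316r IH) (path_edge (s0_f14313 IH) (path_edge (s0_f8232r IH) (path_edge (s0_f8231 IH) (path_edge (s0_f8215r IH) (path_edge (s0_f8213 IH) (path_edge (s0_f8216r IH) (path_edge (s0_f8218 IH) (path_edge (s0_f8221r IH) (path_edge (s0_f8223 IH) (path_edge (s0_f8237r IH) (path_edge (s0_f8238 IH) (path_edge (s0_f14263r IH) (path_edge (s0_f14265 IH) (path_nil s0_v821)))))))))))))))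
theorem s0_f14317r : ed sl_bt s0_v821 = s0_v830 :=
  edge_flip (s0_f14317 IH)
theorem s0_f14319 : ed sl_bt s0_v830 = s0_v821 :=
  gap_rel s0_rot54 (path_edge (s0_f14317r IH) (path_nil s0_v821))
theorem s0_f8256r : ed sl_bf s0_v447 = s0_v105 :=
  edge_flip (s0_f8256 IH)
theorem s0_f3371r : ed sl_af s0_v105 = s0_v101 :=
  edge_flip (s0_f3371 IH)
theorem s0_f14319r : ed sl_bf s0_v821 = s0_v830 :=
  edge_flip (s0_f14319 IH)
theorem s0_f11430r : ed sl_af s0_v830 = s0_v305 :=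
  edge_flip (s0_f11430 IH)
theorem s0_f14320 : ed sl_af s0_v452 = s0_v447 :=
  gap_rel s0_rot64 (path_edge (s0_f8269 IH) (path_edge (s0_f3396 IH) (path_edge (s0_f6301r IH) (path_edge (s0_f11430r IH) (path_edge (s0_f14319r IH) (path_edge (s0_f11305 IH) (path_edge (s0_f6258 IH) (path_edge (s0_f3371r IH) (path_edge (s0_f8256r IH) (path_nil s0_v447))))))))))
theorem s0_f14321 : ed sl_at s0_v307 = s0_v1101 :=
  rfl
theorem s0_f14321r : ed sl_af s0_v1101 = s0_v307 :=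
  edge_flip (s0_f14321 IH)
theorem s0_f14322 : ed sl_af s0_v307 = s0_v1101 :=
  gap_rel s0_rot0 (path_edge (s0_f14321r IH) (path_nil s0_v1101))
theorem s0_f1925r : ed sl_af sq383 = sq219 :=
  edge_flip (s0_f1925 IH)
theorem s0_f1754r : ed sl_bf sq219 = sq114 :=
  edge_flip (s0_f1754 IH)
theorem s0_f1106r : ed sl_af sq114 = sq68 :=
  edge_flip (s0_f1106 IH)
theorem s0_f14323 : ed sl_bf s0_v551 = s0_v1101 :=
  gap_rel s0_rot53 (path_edge (s0_f8760 IH) (path_edge (s0_f4597 IH) (path_edge (s0_f1915 IH) (path_edge (s0_f1922r IH) (path_edge (s0_f1106r IH) (path_edge (s0_f1754r IH) (path_edge (s0_f1925r IH) (path_edge (s0_f6328r IH) (path_edge (s0_f14321r IH) (path_nil s0_v1101))))))))))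
theorem s0_f6331r : ed sl_df s0_v307 = s0_v104 :=
  edge_flip (s0_f6331 IH)
theorem s0_f14324 : ed sl_df s0_v443 = s0_v1101 :=
  gap_rel s0_rot4 (path_edge (s0_f8247 IH) (path_edge (s0_f6331r IH) (path_edge (s0_f14321r IH) (path_nil s0_v1101))))
theorem s0_f14324r : ed sl_dt s0_v1101 = s0_v443 :=
  edge_flip (s0_f14324 IH)
theorem s0_f14326 : ed sl_dt s0_v443 = s0_v1101 :=
  gap_rel s0_rot37 (path_edge (s0_f14324r IH) (path_nil s0_v1101))
theorem s0_f14329 : ed sl_ft s0_v307 = s0_v1103 :=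
  rfl
theorem s0_f14343 : ed sl_ct s0_v309 = s0_v1107 :=
  rfl
theorem s0_f14343r : ed sl_cf s0_v1107 = s0_v309 :=
  edge_flip (s0_f14343 IH)
theorem s0_f14344 : ed sl_cf s0_v309 = s0_v1107 :=
  gap_rel s0_rot31 (path_edge (s0_f14343r IH) (path_nil s0_v1107))
theorem s0_f3233r : ed sl_cf sq226 = sq400 :=
  edge_flip (s0_f3233 IH)
theorem s0_f14345 : ed sl_df s0_v859 = s0_v1107 :=
  gap_rel s0_rot65 (path_edge (s0_f11852 IH) (path_edge (s0_f3353r IH) (path_edge (s0_f3233r IH) (path_edge (s0_f3228r IH) (path_edge (s0_f6338r IH) (path_edge (s0_f6343 IH) (path_edge (s0_f6344r IH) (path_edge (s0_f14343r IH) (path_nil s0_v1107)))))))))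
theorem s0_f14345r : ed sl_dt s0_v1107 = s0_v859 :=
  edge_flip (s0_f14345 IH)
theorem s0_f14346 : ed sl_dt s0_v859 = s0_v1107 :=
  gap_rel s0_rot37 (path_edge (s0_f14345r IH) (path_nil s0_v1107))
theorem s0_f14355 : ed sl_bt s0_v310 = s0_v1110 :=
  rfl
theorem s0_f14355r : ed sl_bf s0_v1110 = s0_v310 :=
  edge_flip (s0_f14355 IH)
theorem s0_f6392r : ed sl_gf s0_v310 = sq384 :=
  edge_flip (s0_f6392 IH)
theorem s0_f14357 : ed sl_gf s0_v486 = s0_v1110 :=
  gap_rel s0_rot50 (path_edge (s0_f8442 IH) (path_edge (s0_f3827 IH) (path_edge (s0_f1927r IH) (path_edge (s0_f6392r IH) (path_edge (s0_f14355r IH) (path_nil s0_v1110))))))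
theorem s0_f14357r : ed sl_gt s0_v1110 = s0_v486 :=
  edge_flip (s0_f14357 IH)
theorem s0_f14358 : ed sl_gt s0_v486 = s0_v1110 :=
  gap_rel s0_rot23 (path_edge (s0_f14357r IH) (path_nil s0_v1110))
theorem s0_f14371 : ed sl_at s0_v312 = s0_v1113 :=
  rfl
theorem s0_f14371r : ed sl_af s0_v1113 = s0_v312 :=
  edge_flip (s0_f14371 IH)
theorem s0_f1969r : ed sl_af sq386 = sq220 :=
  edge_flip (s0_f1969 IH)
theorem s0_f1761r : ed sl_bf sq220 = sq115 :=
  edge_flip (s0_f1761 IH)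
theorem s0_f1113r : ed sl_af sq115 = sq69 :=
  edge_flip (s0_f1113 IH)
theorem s0_f1933r : ed sl_bf sq69 = sq140 :=
  edge_flip (s0_f1933 IH)
theorem s0_f14373 : ed sl_bf s0_v556 = s0_v1113 :=
  gap_rel s0_rot53 (path_edge (s0_f8779 IH) (path_edge (s0_f4609 IH) (path_edge (s0_f1959 IH) (path_edge (s0_f1933r IH) (path_edge (s0_f1113r IH) (path_edge (s0_f1761r IH) (path_edge (s0_f1969r IH) (path_edge (s0_f6414r IH) (path_edge (s0_f14371r IH) (path_nil s0_v1113))))))))))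
theorem s0_f14377 : ed sl_ct s0_v312 = s0_v1114 :=
  rfl
theorem s0_f14377r : ed sl_cf s0_v1114 = s0_v312 :=
  edge_flip (s0_f14377 IH)
theorem s0_f14378 : ed sl_cf s0_v312 = s0_v1114 :=
  gap_rel s0_rot31 (path_edge (s0_f14377r IH) (path_nil s0_v1114))
theorem s0_f14379 : ed sl_ft s0_v312 = s0_v1115 :=
  rfl
theorem s0_f14379r : ed sl_ff s0_v1115 = s0_v312 :=
  edge_flip (s0_f14379 IH)
theorem s0_f14381 : ed sl_ff s0_v312 = s0_v1115 :=
  gap_rel s0_rot12 (path_edge (s0_f14379r IH) (path_nil s0_v1115))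
theorem s0_f14393 : ed sl_ct s0_v314 = s0_v1119 :=
  rfl
theorem s0_f14393r : ed sl_cf s0_v1119 = s0_v314 :=
  edge_flip (s0_f14393 IH)
theorem s0_f14394 : ed sl_cf s0_v314 = s0_v1119 :=
  gap_rel s0_rot31 (path_edge (s0_f14393r IH) (path_nil s0_v1119))
theorem s0_f3270r : ed sl_df sq386 = sq229 :=
  edge_flip (s0_f3270 IH)
theorem s0_f3274r : ed sl_cf sq229 = sq404 :=
  edge_flip (s0_f3274 IH)
theorem s0_f3378r : ed sl_df sq404 = sq664 :=
  edge_flip (s0_f3378 IH)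
theorem s0_f14395 : ed sl_df s0_v871 = s0_v1119 :=
  gap_rel s0_rot65 (path_edge (s0_f11946 IH) (path_edge (s0_f3378r IH) (path_edge (s0_f3274r IH) (path_edge (s0_f3270r IH) (path_edge (s0_f6424r IH) (path_edge (s0_f6429 IH) (path_edge (s0_f6434r IH) (path_edge (s0_f14393r IH) (path_nil s0_v1119)))))))))
theorem s0_f14395r : ed sl_dt s0_v1119 = s0_v871 :=
  edge_flip (s0_f14395 IH)
theorem s0_f14396 : ed sl_dt s0_v871 = s0_v1119 :=
  gap_rel s0_rot37 (path_edge (s0_f14395r IH) (path_nil s0_v1119))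
theorem s0_f14405 : ed sl_bt s0_v315 = s0_v1122 :=
  rfl
theorem s0_f14405r : ed sl_bf s0_v1122 = s0_v315 :=
  edge_flip (s0_f14405 IH)
theorem s0_f14406 : ed sl_bf s0_v315 = s0_v1122 :=
  gap_rel s0_rot17 (path_edge (s0_f14405r IH) (path_nil s0_v1122))
theorem s0_f14407 : ed sl_ff s0_v497 = s0_v1122 :=
  gap_rel s0_rot49 (path_edge (s0_f8492 IH) (path_edge (s0_f3969 IH) (path_edge (s0_f1977r IH) (path_edge (s0_f6471r IH) (path_edge (s0_f14405r IH) (path_nil s0_v1122))))))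
theorem s0_f14407r : ed sl_ft s0_v1122 = s0_v497 :=
  edge_flip (s0_f14407 IH)
theorem s0_f14408 : ed sl_ft s0_v497 = s0_v1122 :=
  gap_rel s0_rot20 (path_edge (s0_f14407r IH) (path_nil s0_v1122))
theorem s0_f14469 : ed sl_at s0_v321 = s0_v1135 :=
  rfl
theorem s0_f14469r : ed sl_af s0_v1135 = s0_v321 :=
  edge_flip (s0_f14469 IH)
theorem s0_f13431r : ed sl_af s0_v977 = s0_v386 :=
  edge_flip (s0_f13431 IH)
theorem s0_f14472 : ed sl_gf s0_v386 = s0_v1135 :=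
  gap_rel s0_rot3 (path_edge (s0_f13431r IH) (path_edge (s0_f14280 IH) (path_edge (s0_f14469r IH) (path_nil s0_v1135))))
theorem s0_f14473 : ed sl_ft s0_v978 = s0_v1135 :=
  gap_rel s0_rot10 (path_edge (s0_f13432 IH) (path_edge (s0_f13430r IH) (path_edge (s0_f14282 IH) (path_edge (s0_f14469r IH) (path_nil s0_v1135)))))
theorem s0_f14488 : ed sl_at s0_v324 = s0_v1139 :=
  rfl
theorem s0_f14488r : ed sl_af s0_v1139 = s0_v324 :=
  edge_flip (s0_f14488 IH)
theorem s0_f14489 : ed sl_af s0_v324 = s0_v1139 :=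
  gap_rel s0_rot0 (path_edge (s0_f14488r IH) (path_nil s0_v1139))
theorem s0_f13315r : ed sl_af s0_v965 = s0_v380 :=
  edge_flip (s0_f13315 IH)
theorem s0_f14490 : ed sl_ff s0_v380 = s0_v1139 :=
  gap_rel s0_rot1 (path_edge (s0_f13315r IH) (path_edge (s0_f14284 IH) (path_edge (s0_f14488r IH) (path_nil s0_v1139))))
theorem s0_f14491 : ed sl_gf s0_v964 = s0_v1139 :=
  gap_rel s0_rot3 (path_edge (s0_f13307 IH) (path_edge (s0_f14290 IH) (path_edge (s0_f14488r IH) (path_nil s0_v1139))))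
theorem s0_f14492 : ed sl_ft s0_v380 = s0_v1139 :=
  gap_rel s0_rot10 (path_edge (s0_f7737 IH) (path_edge (s0_f7733r IH) (path_edge (s0_f14287 IH) (path_edge (s0_f14488r IH) (path_nil s0_v1139)))))
theorem s0_f13328r : ed sl_cf s0_v967 = s0_v380 :=
  edge_flip (s0_f13328 IH)
theorem s0_f3287r : ed sl_cf sq405 = sq665 :=
  edge_flip (s0_f3287 IH)
theorem s0_f6273r : ed sl_ff sq665 = sq404 :=
  edge_flip (s0_f6273 IH)
theorem s0_f3389r : ed sl_af sq404 = sq230 :=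
  edge_flip (s0_f3389 IH)
theorem s0_f1825r : ed sl_bf sq230 = sq127 :=
  edge_flip (s0_f1825 IH)
theorem s0_f923r : ed sl_cf sq127 = sq60 :=
  edge_flip (s0_f923 IH)
theorem s0_f1615r : ed sl_ff sq60 = sq128 :=
  edge_flip (s0_f1615 IH)
theorem s0_f1639r : ed sl_af sq128 = sq197 :=
  edge_flip (s0_f1639 IH)
theorem s0_f1580r : ed sl_bf sq197 = sq101 :=
  edge_flip (s0_f1580 IH)
theorem s0_f683r : ed sl_cf sq101 = sq188 :=
  edge_flip (s0_f683 IH)
theorem s0_f2654r : ed sl_ff sq188 = sq171 :=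
  edge_flip (s0_f2654 IH)
theorem s0_f655r : ed sl_af sq171 = sq97 :=
  edge_flip (s0_f655 IH)
theorem s0_f2691r : ed sl_bf sq97 = sq189 :=
  edge_flip (s0_f2691 IH)
theorem s0_f2906r : ed sl_cf sq189 = sq337 :=
  edge_flip (s0_f2906 IH)
theorem s0_f14493 : ed sl_bf s0_v772 = s0_v967 :=
  gap_rel s0_rot40 (path_edge (s0_f10488 IH) (path_edge (s0_f6638r IH) (path_edge (s0_f2906r IH) (path_edge (s0_f2691r IH) (path_edge (s0_f655r IH) (path_edge (s0_f2654r IH) (path_edge (s0_f683r IH) (path_edge (s0_f1580r IH) (path_edge (s0_f1639r IH) (path_edge (s0_f1615r IH) (path_edge (s0_f923r IH) (path_edge (s0_f1825r IH) (path_edge (s0_f3389r IH) (path_edge (s0_f6273r IH) (path_edge (s0_f3287r IH) (path_edge (s0_f6636r IH) (path_edge (s0_f14488r IH) (path_edge (s0_f14490 IH) (path_edge (s0_f13328r IH) (path_nil s0_v967))))))))))))))))))))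
theorem s0_f14496 : ed sl_ct s0_v324 = s0_v1140 :=
  rfl
theorem s0_f14496r : ed sl_cf s0_v1140 = s0_v324 :=
  edge_flip (s0_f14496 IH)
theorem s0_f14497 : ed sl_cf s0_v324 = s0_v1140 :=
  gap_rel s0_rot31 (path_edge (s0_f14496r IH) (path_nil s0_v1140))
theorem s0_f14498 : ed sl_gf s0_v966 = s0_v1140 :=
  gap_rel s0_rot16 (path_edge (s0_f13321 IH) (path_edge (s0_f14290 IH) (path_edge (s0_f14496r IH) (path_nil s0_v1140))))
theorem s0_f14562 : ed sl_at s0_v331 = s0_v1154 :=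
  rfl
theorem s0_f14562r : ed sl_af s0_v1154 = s0_v331 :=
  edge_flip (s0_f14562 IH)
theorem s0_f14563 : ed sl_af s0_v331 = s0_v1154 :=
  gap_rel s0_rot0 (path_edge (s0_f14562r IH) (path_nil s0_v1154))
theorem s0_f6793r : ed sl_df s0_v331 = s0_v109 :=
  edge_flip (s0_f6793 IH)
theorem s0_f14564 : ed sl_df s0_v455 = s0_v1154 :=
  gap_rel s0_rot4 (path_edge (s0_f8281 IH) (path_edge (s0_f6793r IH) (path_edge (s0_f14562r IH) (path_nil s0_v1154))))
theorem s0_f14564r : ed sl_dt s0_v1154 = s0_v455 :=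
  edge_flip (s0_f14564 IH)
theorem s0_f14565 : ed sl_dt s0_v455 = s0_v1154 :=
  gap_rel s0_rot37 (path_edge (s0_f14564r IH) (path_nil s0_v1154))
theorem s0_f14868 : ed sl_gt s0_v360 = s0_v1213 :=
  rfl
theorem s0_f14868r : ed sl_gf s0_v1213 = s0_v360 :=
  edge_flip (s0_f14868 IH)
theorem s0_f14871 : ed sl_gf s0_v360 = s0_v1213 :=
  gap_rel s0_rot6 (path_edge (s0_f14868r IH) (path_nil s0_v1213))
theorem s0_f14871r : ed sl_gt s0_v1213 = s0_v360 :=
  edge_flip (s0_f14871 IH)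
theorem s0_f7398r : ed sl_at s0_v360 = s0_v132 :=
  edge_flip (s0_f7398 IH)
theorem s0_f14872 : ed sl_at s0_v500 = s0_v1213 :=
  gap_rel s0_rot19 (path_edge (s0_f8501 IH) (path_edge (s0_f7398r IH) (path_edge (s0_f14871r IH) (path_nil s0_v1213))))
theorem s0_f7399r : ed sl_ct s0_v360 = sq447 :=
  edge_flip (s0_f7399 IH)
theorem s0_f14873 : ed sl_ct s0_v362 = s0_v1213 :=
  gap_rel s0_rot30 (path_edge (s0_f7434 IH) (path_edge (s0_f7399r IH) (path_edge (s0_f14871r IH) (path_nil s0_v1213))))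
theorem s0_f14948 : ed sl_bt s0_v374 = s0_v1227 :=
  rfl
theorem s0_f14948r : ed sl_bf s0_v1227 = s0_v374 :=
  edge_flip (s0_f14948 IH)
theorem s0_f14949 : ed sl_bf s0_v374 = s0_v1227 :=
  gap_rel s0_rot17 (path_edge (s0_f14948r IH) (path_nil s0_v1227))
theorem s0_f7690r : ed sl_gf s0_v374 = sq464 :=
  edge_flip (s0_f7690 IH)
theorem s0_f2071r : ed sl_bf sq464 = sq272 :=
  edge_flip (s0_f2071 IH)
theorem s0_f14951 : ed sl_gf s0_v507 = s0_v1227 :=
  gap_rel s0_rot50 (path_edge (s0_f8540 IH) (path_edge (s0_f4194 IH) (path_edge (s0_f2071r IH) (path_edge (s0_f7690r IH) (path_edge (s0_f14948r IH) (path_nil s0_v1227))))))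
theorem s0_f14951r : ed sl_gt s0_v1227 = s0_v507 :=
  edge_flip (s0_f14951 IH)
theorem s0_f14953 : ed sl_gt s0_v507 = s0_v1227 :=
  gap_rel s0_rot23 (path_edge (s0_f14951r IH) (path_nil s0_v1227))
theorem s0_f14964 : ed sl_bt sq2080 = sq1368 :=
  real_edge rels S fwd inv o lvl plet idx 26 IH Gen.b sp2080 sp1368 rfl rfl
theorem s0_f14980 : ed sl_bt s0_v380 = s0_v1232 :=
  rfl
theorem s0_f14980r : ed sl_bf s0_v1232 = s0_v380 :=
  edge_flip (s0_f14980 IH)
theorem s0_f14983 : ed sl_gf s0_v509 = s0_v1232 :=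
  gap_rel s0_rot50 (path_edge (s0_f8552 IH) (path_edge (s0_f4231 IH) (path_edge (s0_f4232r IH) (path_edge (s0_f7737r IH) (path_edge (s0_f14980r IH) (path_nil s0_v1232))))))
theorem s0_f14983r : ed sl_gt s0_v1232 = s0_v509 :=
  edge_flip (s0_f14983 IH)
theorem s0_f14984 : ed sl_gt s0_v509 = s0_v1232 :=
  gap_rel s0_rot23 (path_edge (s0_f14983r IH) (path_nil s0_v1232))
theorem s0_f15016 : ed sl_bt s0_v385 = s0_v1240 :=
  rfl
theorem s0_f15016r : ed sl_bf s0_v1240 = s0_v385 :=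
  edge_flip (s0_f15016 IH)
theorem s0_f15017 : ed sl_bf s0_v385 = s0_v1240 :=
  gap_rel s0_rot17 (path_edge (s0_f15016r IH) (path_nil s0_v1240))
theorem s0_f4026r : ed sl_bf sq471 = sq471 :=
  edge_flip (s0_f4026 IH)
theorem s0_f15018 : ed sl_gf s0_v1240 = s0_v1240 :=
  gap_rel s0_rot50 (path_edge (s0_f15017 IH) (path_edge (s0_f7790 IH) (path_edge (s0_f4026r IH) (path_edge (s0_f7788r IH) (path_edge (s0_f15016r IH) (path_nil s0_v1240))))))
theorem s0_f15019 : ed sl_bt s0_v386 = s0_v1241 :=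
  rfl
theorem s0_f15019r : ed sl_bf s0_v1241 = s0_v386 :=
  edge_flip (s0_f15019 IH)
theorem s0_f15020 : ed sl_bf s0_v386 = s0_v1241 :=
  gap_rel s0_rot17 (path_edge (s0_f15019r IH) (path_nil s0_v1241))
theorem s0_f15021 : ed sl_ff s0_v513 = s0_v1241 :=
  gap_rel s0_rot49 (path_edge (s0_f8568 IH) (path_edge (s0_f4261 IH) (path_edge (s0_f4264r IH) (path_edge (s0_f7794r IH) (path_edge (s0_f15019r IH) (path_nil s0_v1241))))))
theorem s0_f15021r : ed sl_ft s0_v1241 = s0_v513 :=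
  edge_flip (s0_f15021 IH)
theorem s0_f15022 : ed sl_ft s0_v513 = s0_v1241 :=
  gap_rel s0_rot20 (path_edge (s0_f15021r IH) (path_nil s0_v1241))
theorem s0_f15376 : ed sl_at s0_v432 = s0_v1326 :=
  rfl
theorem s0_f15376r : ed sl_af s0_v1326 = s0_v432 :=
  edge_flip (s0_f15376 IH)
theorem s0_f15377 : ed sl_af s0_v432 = s0_v1326 :=
  gap_rel s0_rot0 (path_edge (s0_f15376r IH) (path_nil s0_v1326))
theorem s0_f15378 : ed sl_ff s0_v435 = s0_v1326 :=
  gap_rel s0_rot1 (path_edge (s0_f8226 IH) (path_edge (s0_f8215r IH) (path_edge (s0_f15376r IH) (path_nil s0_v1326))))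
theorem s0_f15378r : ed sl_ft s0_v1326 = s0_v435 :=
  edge_flip (s0_f15378 IH)
theorem s0_f15379 : ed sl_ft s0_v435 = s0_v1326 :=
  gap_rel s0_rot20 (path_edge (s0_f15378r IH) (path_nil s0_v1326))
theorem s0_f15384 : ed sl_gt s0_v432 = s0_v1328 :=
  rfl
theorem s0_f15384r : ed sl_gf s0_v1328 = s0_v432 :=
  edge_flip (s0_f15384 IH)
theorem s0_f15385 : ed sl_gf s0_v432 = s0_v1328 :=
  gap_rel s0_rot6 (path_edge (s0_f15384r IH) (path_nil s0_v1328))
theorem s0_f15388 : ed sl_at s0_v434 = s0_v1330 :=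
  rfl
theorem s0_f15388r : ed sl_af s0_v1330 = s0_v434 :=
  edge_flip (s0_f15388 IH)
theorem s0_f15389 : ed sl_af s0_v434 = s0_v1330 :=
  gap_rel s0_rot0 (path_edge (s0_f15388r IH) (path_nil s0_v1330))
theorem s0_f8224r : ed sl_gf s0_v434 = s0_v99 :=
  edge_flip (s0_f8224 IH)
theorem s0_f15390 : ed sl_gf s0_v438 = s0_v1330 :=
  gap_rel s0_rot3 (path_edge (s0_f8234 IH) (path_edge (s0_f8224r IH) (path_edge (s0_f15388r IH) (path_nil s0_v1330))))
theorem s0_f15396 : ed sl_ft s0_v434 = s0_v1332 :=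
  rfl
theorem s0_f15396r : ed sl_ff s0_v1332 = s0_v434 :=
  edge_flip (s0_f15396 IH)
theorem s0_f15397 : ed sl_ff s0_v434 = s0_v1332 :=
  gap_rel s0_rot12 (path_edge (s0_f15396r IH) (path_nil s0_v1332))
theorem s0_f15398 : ed sl_bt s0_v435 = s0_v1333 :=
  rfl
theorem s0_f15398r : ed sl_bf s0_v1333 = s0_v435 :=
  edge_flip (s0_f15398 IH)
theorem s0_f15399 : ed sl_bf s0_v435 = s0_v1333 :=
  gap_rel s0_rot17 (path_edge (s0_f15398r IH) (path_nil s0_v1333))
theorem s0_f15404 : ed sl_gt s0_v435 = s0_v1335 :=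
  rfl
theorem s0_f15404r : ed sl_gf s0_v1335 = s0_v435 :=
  edge_flip (s0_f15404 IH)
theorem s0_f15405 : ed sl_af s0_v437 = s0_v1335 :=
  gap_rel s0_rot26 (path_edge (s0_f8231 IH) (path_edge (s0_f8225r IH) (path_edge (s0_f15404r IH) (path_nil s0_v1335))))
theorem s0_f15406 : ed sl_gf s0_v435 = s0_v1335 :=
  gap_rel s0_rot6 (path_edge (s0_f15404r IH) (path_nil s0_v1335))
theorem s0_f8226r : ed sl_at s0_v435 = s0_v98 :=
  edge_flip (s0_f8226 IH)
theorem s0_f15407 : ed sl_ff s0_v1328 = s0_v1335 :=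
  gap_rel s0_rot21 (path_edge (s0_f15385 IH) (path_edge (s0_f8214 IH) (path_edge (s0_f8226r IH) (path_edge (s0_f15404r IH) (path_nil s0_v1335)))))
theorem s0_f15407r : ed sl_ft s0_v1335 = s0_v1328 :=
  edge_flip (s0_f15407 IH)
theorem s0_f15408 : ed sl_ft s0_v1328 = s0_v1335 :=
  gap_rel s0_rot20 (path_edge (s0_f15407r IH) (path_nil s0_v1335))
theorem s0_f15408r : ed sl_ff s0_v1335 = s0_v1328 :=
  edge_flip (s0_f15408 IH)
theorem s0_f15409 : ed sl_at s0_v437 = s0_v1335 :=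
  gap_rel s0_rot25 (path_edge (s0_f8231 IH) (path_edge (s0_f8215r IH) (path_edge (s0_f15384r IH) (path_edge (s0_f15408r IH) (path_nil s0_v1335)))))
theorem s0_f15409r : ed sl_af s0_v1335 = s0_v437 :=
  edge_flip (s0_f15409 IH)
theorem s0_f4244r : ed sl_af s0_v143 = s0_v42 :=
  edge_flip (s0_f4244 IH)
theorem s0_f2096r : ed sl_bf s0_v42 = sq231 :=
  edge_flip (s0_f2096 IH)
theorem s0_f15410 : ed sl_bf s0_v1139 = s0_v1335 :=
  gap_rel s0_rot53 (path_edge (s0_f14489 IH) (path_edge (s0_f6637 IH) (path_edge (s0_f2107r IH) (path_edge (s0_f2096r IH) (path_edge (s0_f4244r IH) (path_edge (s0_f8557r IH) (path_eq (s0_f14306 IH).symm (path_edge (s0_f11432 IH) (path_edge (s0_f8232r IH) (path_edge (s0_f15409r IH) (path_nil s0_v1335)))))))))))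
theorem s0_f15410r : ed sl_bt s0_v1335 = s0_v1139 :=
  edge_flip (s0_f15410 IH)
theorem s0_f15411 : ed sl_bt s0_v1139 = s0_v1335 :=
  gap_rel s0_rot54 (path_edge (s0_f15410r IH) (path_nil s0_v1335))
theorem s0_f15379r : ed sl_ff s0_v1326 = s0_v435 :=
  edge_flip (s0_f15379 IH)
theorem s0_f15411r : ed sl_bf s0_v1335 = s0_v1139 :=
  edge_flip (s0_f15411 IH)
theorem s0_f14492r : ed sl_ff s0_v1139 = s0_v380 :=
  edge_flip (s0_f14492 IH)
theorem s0_f4243r : ed sl_gf s0_v143 = s0_v142 :=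
  edge_flip (s0_f4243 IH)
theorem s0_f8556r : ed sl_ff s0_v510 = s0_v176 :=
  edge_flip (s0_f8556 IH)
theorem s0_f8841r : ed sl_bf s0_v571 = s0_v215 :=
  edge_flip (s0_f8841 IH)
theorem s0_f9103r : ed sl_gf s0_v623 = s0_v617 :=
  edge_flip (s0_f9103 IH)
theorem s0_f15412 : ed sl_bf s0_v617 = s0_v1326 :=
  gap_rel s0_rot63 (path_edge (s0_f9103r IH) (path_edge (s0_f9100 IH) (path_edge (s0_f8841r IH) (path_edge (s0_f8840 IH) (path_edge (s0_f8556r IH) (path_edge (s0_f8554 IH) (path_edge (s0_f4243r IH) (path_edge (s0_f4241 IH) (path_edge (s0_f4232r IH) (path_edge (s0_f7737r IH) (path_edge (s0_f14492r IH) (path_edge (s0_f15411r IH) (path_edge (s0_f15406 IH) (path_edge (s0_f15379r IH) (path_nil s0_v1326)))))))))))))))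
theorem s0_f15377r : ed sl_at s0_v1326 = s0_v432 :=
  edge_flip (s0_f15377 IH)
theorem s0_f8213r : ed sl_bt s0_v432 = s0_v96 :=
  edge_flip (s0_f8213 IH)
theorem s0_f15412r : ed sl_bt s0_v1326 = s0_v617 :=
  edge_flip (s0_f15412 IH)
theorem s0_f9076r : ed sl_at s0_v617 = s0_v214 :=
  edge_flip (s0_f9076 IH)
theorem s0_f15413 : ed sl_bt s0_v617 = s0_v1326 :=
  gap_rel s0_rot66 (path_edge (s0_f9078 IH) (path_edge (s0_f4844 IH) (path_edge (s0_f9076r IH) (path_edge (s0_f15412r IH) (path_edge (s0_f15376 IH) (path_edge (s0_f8212 IH) (path_edge (s0_f3094 IH) (path_edge (s0_f8213r IH) (path_edge (s0_f15377r IH) (path_nil s0_v1326))))))))))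
theorem s0_f15399r : ed sl_bt s0_v1333 = s0_v435 :=
  edge_flip (s0_f15399 IH)
theorem s0_f15414 : ed sl_ft s0_v443 = s0_v1333 :=
  gap_rel s0_rot42 (path_edge (s0_f8249 IH) (path_edge (s0_f9077r IH) (path_edge (s0_f15412r IH) (path_edge (s0_f15379 IH) (path_edge (s0_f15399r IH) (path_nil s0_v1333))))))
theorem s0_f15414r : ed sl_ff s0_v1333 = s0_v443 :=
  edge_flip (s0_f15414 IH)
theorem s0_f15416 : ed sl_ff s0_v443 = s0_v1333 :=
  gap_rel s0_rot12 (path_edge (s0_f15414r IH) (path_nil s0_v1333))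
theorem s0_f15416r : ed sl_ft s0_v1333 = s0_v443 :=
  edge_flip (s0_f15416 IH)
theorem s0_f8247r : ed sl_at s0_v443 = s0_v104 :=
  edge_flip (s0_f8247 IH)
theorem s0_f15417 : ed sl_at s0_v445 = s0_v1333 :=
  gap_rel s0_rot18 (path_edge (s0_f8252 IH) (path_edge (s0_f8247r IH) (path_edge (s0_f15416r IH) (path_nil s0_v1333))))
theorem s0_f15420 : ed sl_gt s0_v436 = s0_v1337 :=
  rfl
theorem s0_f15420r : ed sl_gf s0_v1337 = s0_v436 :=
  edge_flip (s0_f15420 IH)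
theorem s0_f15422 : ed sl_gf s0_v436 = s0_v1337 :=
  gap_rel s0_rot6 (path_edge (s0_f15420r IH) (path_nil s0_v1337))
theorem s0_f15422r : ed sl_gt s0_v1337 = s0_v436 :=
  edge_flip (s0_f15422 IH)
theorem s0_f8228r : ed sl_ct s0_v436 = s0_v98 :=
  edge_flip (s0_f8228 IH)
theorem s0_f15423 : ed sl_ct s0_v437 = s0_v1337 :=
  gap_rel s0_rot30 (path_edge (s0_f8229 IH) (path_edge (s0_f8228r IH) (path_edge (s0_f15422r IH) (path_nil s0_v1337))))
theorem s0_f15424 : ed sl_ft s0_v437 = s0_v1338 :=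
  rfl
theorem s0_f15424r : ed sl_ff s0_v1338 = s0_v437 :=
  edge_flip (s0_f15424 IH)
theorem s0_f15425 : ed sl_af s0_v1328 = s0_v1338 :=
  gap_rel s0_rot58 (path_edge (s0_f15408r IH) (path_edge (s0_f15405 IH) (path_edge (s0_f15424r IH) (path_nil s0_v1338))))
theorem s0_f15427 : ed sl_gf s0_v1326 = s0_v1338 :=
  gap_rel s0_rot24 (path_edge (s0_f15378 IH) (path_edge (s0_f15404r IH) (path_edge (s0_f15407 IH) (path_edge (s0_f15385 IH) (path_edge (s0_f8214 IH) (path_edge (s0_f8229r IH) (path_edge (s0_f15424r IH) (path_nil s0_v1338))))))))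
theorem s0_f15427r : ed sl_gt s0_v1338 = s0_v1326 :=
  edge_flip (s0_f15427 IH)
theorem s0_f15429 : ed sl_gt s0_v1326 = s0_v1338 :=
  gap_rel s0_rot23 (path_edge (s0_f15427r IH) (path_nil s0_v1338))
theorem s0_f15436 : ed sl_ft s0_v438 = s0_v1341 :=
  rfl
theorem s0_f15436r : ed sl_ff s0_v1341 = s0_v438 :=
  edge_flip (s0_f15436 IH)
theorem s0_f15389r : ed sl_at s0_v1330 = s0_v434 :=
  edge_flip (s0_f15389 IH)
theorem s0_f15439 : ed sl_gf s0_v1332 = s0_v1341 :=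
  gap_rel s0_rot22 (path_edge (s0_f15397 IH) (path_edge (s0_f15389r IH) (path_edge (s0_f15390 IH) (path_edge (s0_f15436r IH) (path_nil s0_v1341)))))
theorem s0_f15439r : ed sl_gt s0_v1341 = s0_v1332 :=
  edge_flip (s0_f15439 IH)
theorem s0_f15397r : ed sl_ft s0_v1332 = s0_v434 :=
  edge_flip (s0_f15397 IH)
theorem s0_f8222r : ed sl_bt s0_v434 = s0_v97 :=
  edge_flip (s0_f8222 IH)
theorem s0_f14491r : ed sl_gt s0_v1139 = s0_v964 :=
  edge_flip (s0_f14491 IH)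
theorem s0_f13310r : ed sl_ft s0_v964 = sq759 :=
  edge_flip (s0_f13310 IH)
theorem s0_f15441 : ed sl_bt s0_v1135 = s0_v1341 :=
  gap_rel s0_rot67 (path_edge (s0_f14473 IH) (path_edge (s0_f13432 IH) (path_edge (s0_f7798 IH) (path_edge (s0_f13310r IH) (path_edge (s0_f14491r IH) (path_edge (s0_f15410r IH) (path_edge (s0_f15408 IH) (path_edge (s0_f15384 IH) (path_edge (s0_f8212 IH) (path_edge (s0_f3088 IH) (path_edge (s0_f3099r IH) (path_edge (s0_f8222r IH) (path_edge (s0_f15397r IH) (path_edge (s0_f15439r IH) (path_nil s0_v1341)))))))))))))))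
theorem s0_f15441r : ed sl_bf s0_v1341 = s0_v1135 :=
  edge_flip (s0_f15441 IH)
theorem s0_f15442 : ed sl_bf s0_v1135 = s0_v1341 :=
  gap_rel s0_rot17 (path_edge (s0_f15441r IH) (path_nil s0_v1341))
theorem s0_f15390r : ed sl_gt s0_v1330 = s0_v438 :=
  edge_flip (s0_f15390 IH)
theorem s0_f15442r : ed sl_bt s0_v1341 = s0_v1135 :=
  edge_flip (s0_f15442 IH)
theorem s0_f14472r : ed sl_gt s0_v1135 = s0_v386 :=
  edge_flip (s0_f14472 IH)
theorem s0_f7797r : ed sl_ft s0_v386 = sq472 :=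
  edge_flip (s0_f7797 IH)
theorem s0_f8852r : ed sl_bt s0_v575 = s0_v218 :=
  edge_flip (s0_f8852 IH)
theorem s0_f9129r : ed sl_ft s0_v630 = s0_v626 :=
  edge_flip (s0_f9129 IH)
theorem s0_f15444 : ed sl_bt s0_v626 = s0_v1330 :=
  gap_rel s0_rot67 (path_edge (s0_f9129r IH) (path_edge (s0_f9127 IH) (path_edge (s0_f8852r IH) (path_edge (s0_f8851 IH) (path_edge (s0_f8571r IH) (path_edge (s0_f8569 IH) (path_edge (s0_f4277r IH) (path_edge (s0_f4274 IH) (path_edge (s0_f4268 IH) (path_edge (s0_f7797r IH) (path_edge (s0_f14472r IH) (path_edge (s0_f15442r IH) (path_edge (s0_f15436 IH) (path_edge (s0_f15390r IH) (path_nil s0_v1330)))))))))))))))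
theorem s0_f3102r : ed sl_af s0_v97 = s0_v97 :=
  edge_flip (s0_f3102 IH)
theorem s0_f15444r : ed sl_bf s0_v1330 = s0_v626 :=
  edge_flip (s0_f15444 IH)
theorem s0_f9115r : ed sl_af s0_v626 = s0_v219 :=
  edge_flip (s0_f9115 IH)
theorem s0_f4856r : ed sl_bf s0_v219 = s0_v219 :=
  edge_flip (s0_f4856 IH)
theorem s0_f15445 : ed sl_bf s0_v626 = s0_v1330 :=
  gap_rel s0_rot53 (path_edge (s0_f9113 IH) (path_edge (s0_f4856r IH) (path_edge (s0_f9115r IH) (path_edge (s0_f15444r IH) (path_edge (s0_f15389 IH) (path_edge (s0_f8222 IH) (path_edge (s0_f3102r IH) (path_edge (s0_f8221r IH) (path_edge (s0_f15388r IH) (path_nil s0_v1330))))))))))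
theorem s0_f15456 : ed sl_gt s0_v440 = s0_v1344 :=
  rfl
theorem s0_f15456r : ed sl_gf s0_v1344 = s0_v440 :=
  edge_flip (s0_f15456 IH)
theorem s0_f15458 : ed sl_ff s0_v1330 = s0_v1344 :=
  gap_rel s0_rot60 (path_edge (s0_f15390 IH) (path_edge (s0_f15436r IH) (path_edge (s0_f15439 IH) (path_edge (s0_f15397 IH) (path_edge (s0_f8223 IH) (path_edge (s0_f8237r IH) (path_edge (s0_f15456r IH) (path_nil s0_v1344))))))))
theorem s0_f15462 : ed sl_at s0_v441 = s0_v1345 :=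
  rfl
theorem s0_f15462r : ed sl_af s0_v1345 = s0_v441 :=
  edge_flip (s0_f15462 IH)
theorem s0_f15463 : ed sl_af s0_v441 = s0_v1345 :=
  gap_rel s0_rot0 (path_edge (s0_f15462r IH) (path_nil s0_v1345))
theorem s0_f6137r : ed sl_ff s0_v299 = sq400 :=
  edge_flip (s0_f6137 IH)
theorem s0_f3243r : ed sl_af sq400 = sq227 :=
  edge_flip (s0_f3243 IH)
theorem s0_f1814r : ed sl_bf sq227 = sq124 :=
  edge_flip (s0_f1814 IH)
theorem s0_f916r : ed sl_cf sq124 = sq59 :=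
  edge_flip (s0_f916 IH)
theorem s0_f1578r : ed sl_ff sq59 = sq100 :=
  edge_flip (s0_f1578 IH)
theorem s0_f1831r : ed sl_af sq100 = sq130 :=
  edge_flip (s0_f1831 IH)
theorem s0_f1832r : ed sl_bf sq130 = sq130 :=
  edge_flip (s0_f1832 IH)
theorem s0_f3242r : ed sl_cf sq130 = sq248 :=
  edge_flip (s0_f3242 IH)
theorem s0_f3241r : ed sl_ff sq248 = sq239 :=
  edge_flip (s0_f3241 IH)
theorem s0_f1813r : ed sl_af sq239 = sq124 :=
  edge_flip (s0_f1813 IH)
theorem s0_f388r : ed sl_bf sq124 = sq227 :=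
  edge_flip (s0_f388 IH)
theorem s0_f389r : ed sl_cf sq227 = sq119 :=
  edge_flip (s0_f389 IH)
theorem s0_f15466 : ed sl_ff s0_v441 = s0_v1345 :=
  gap_rel s0_rot68 (path_edge (s0_f8243 IH) (path_edge (s0_f8242 IH) (path_edge (s0_f3221 IH) (path_edge (s0_f3232r IH) (path_edge (s0_f389r IH) (path_edge (s0_f388r IH) (path_edge (s0_f1813r IH) (path_edge (s0_f3241r IH) (path_edge (s0_f3242r IH) (path_edge (s0_f1832r IH) (path_edge (s0_f1831r IH) (path_edge (s0_f1578r IH) (path_edge (s0_f916r IH) (path_edge (s0_f1814r IH) (path_edge (s0_f3243r IH) (path_edge (s0_f6137r IH) (path_edge (s0_f6131 IH) (path_edge (s0_f8241r IH) (path_edge (s0_f15462r IH) (path_nil s0_v1345))))))))))))))))))))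
theorem s0_f15488 : ed sl_gt s0_v443 = s0_v1351 :=
  rfl
theorem s0_f15488r : ed sl_gf s0_v1351 = s0_v443 :=
  edge_flip (s0_f15488 IH)
theorem s0_f15490 : ed sl_gf s0_v443 = s0_v1351 :=
  gap_rel s0_rot6 (path_edge (s0_f15488r IH) (path_nil s0_v1351))
theorem s0_f15490r : ed sl_gt s0_v1351 = s0_v443 :=
  edge_flip (s0_f15490 IH)
theorem s0_f15491 : ed sl_at s0_v446 = s0_v1351 :=
  gap_rel s0_rot19 (path_edge (s0_f8254 IH) (path_edge (s0_f8247r IH) (path_edge (s0_f15490r IH) (path_nil s0_v1351))))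
theorem s0_f15503 : ed sl_gt s0_v445 = s0_v1355 :=
  rfl
theorem s0_f15503r : ed sl_gf s0_v1355 = s0_v445 :=
  edge_flip (s0_f15503 IH)
theorem s0_f15504 : ed sl_gf s0_v445 = s0_v1355 :=
  gap_rel s0_rot6 (path_edge (s0_f15503r IH) (path_nil s0_v1355))
theorem s0_f15505 : ed sl_ff s0_v1351 = s0_v1355 :=
  gap_rel s0_rot21 (path_edge (s0_f15490 IH) (path_edge (s0_f15414r IH) (path_edge (s0_f15417 IH) (path_edge (s0_f15503r IH) (path_nil s0_v1355)))))
theorem s0_f15505r : ed sl_ft s0_v1355 = s0_v1351 :=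
  edge_flip (s0_f15505 IH)
theorem s0_f15506 : ed sl_ft s0_v1351 = s0_v1355 :=
  gap_rel s0_rot20 (path_edge (s0_f15505r IH) (path_nil s0_v1355))
theorem s0_f15504r : ed sl_gt s0_v1355 = s0_v445 :=
  edge_flip (s0_f15504 IH)
theorem s0_f8253r : ed sl_ft s0_v445 = s0_v104 :=
  edge_flip (s0_f8253 IH)
theorem s0_f3352r : ed sl_bt s0_v104 = sq226 :=
  edge_flip (s0_f3352 IH)
theorem s0_f15458r : ed sl_ft s0_v1344 = s0_v1330 :=
  edge_flip (s0_f15458 IH)
theorem s0_f15445r : ed sl_bt s0_v1330 = s0_v626 :=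
  edge_flip (s0_f15445 IH)
theorem s0_f15507 : ed sl_bt s0_v625 = s0_v1355 :=
  gap_rel s0_rot67 (path_edge (s0_f9108 IH) (path_edge (s0_f9114r IH) (path_edge (s0_f15445r IH) (path_edge (s0_f15458r IH) (path_edge (s0_f15456 IH) (path_edge (s0_f8240 IH) (path_edge (s0_f6250 IH) (path_edge (s0_f6259r IH) (path_edge (s0_f6260 IH) (path_edge (s0_f3251 IH) (path_edge (s0_f3231 IH) (path_edge (s0_f3352r IH) (path_edge (s0_f8253r IH) (path_edge (s0_f15504r IH) (path_nil s0_v1355)))))))))))))))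
theorem s0_f15507r : ed sl_bf s0_v1355 = s0_v625 :=
  edge_flip (s0_f15507 IH)
theorem s0_f15508 : ed sl_bf s0_v625 = s0_v1355 :=
  gap_rel s0_rot17 (path_edge (s0_f15507r IH) (path_nil s0_v1355))
theorem s0_f15509 : ed sl_ft s0_v446 = s0_v1356 :=
  rfl
theorem s0_f15509r : ed sl_ff s0_v1356 = s0_v446 :=
  edge_flip (s0_f15509 IH)
theorem s0_f7798r : ed sl_bf sq765 = sq759 :=
  edge_flip (s0_f7798 IH)
theorem s0_f15511 : ed sl_bf s0_v964 = s0_v1356 :=
  gap_rel s0_rot51 (path_edge (s0_f13310 IH) (path_edge (s0_f7798r IH) (path_edge (s0_f13426r IH) (path_edge (s0_f14283 IH) (path_edge (s0_f15509r IH) (path_nil s0_v1356))))))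
theorem s0_f15529 : ed sl_ft s0_v448 = s0_v1360 :=
  rfl
theorem s0_f15529r : ed sl_ff s0_v1360 = s0_v448 :=
  edge_flip (s0_f15529 IH)
theorem s0_f15530 : ed sl_af s0_v450 = s0_v1360 :=
  gap_rel s0_rot58 (path_edge (s0_f8265 IH) (path_edge (s0_f8258r IH) (path_edge (s0_f15529r IH) (path_nil s0_v1360))))
theorem s0_f15532 : ed sl_ff s0_v448 = s0_v1360 :=
  gap_rel s0_rot12 (path_edge (s0_f15529r IH) (path_nil s0_v1360))
theorem s0_f15532r : ed sl_ft s0_v1360 = s0_v448 :=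
  edge_flip (s0_f15532 IH)
theorem s0_f8260r : ed sl_bt s0_v448 = s0_v216 :=
  edge_flip (s0_f8260 IH)
theorem s0_f15534 : ed sl_bt s0_v1351 = s0_v1360 :=
  gap_rel s0_rot13 (path_edge (s0_f15505r IH) (path_edge (s0_f15507 IH) (path_edge (s0_f9108 IH) (path_edge (s0_f8260r IH) (path_edge (s0_f15532r IH) (path_nil s0_v1360))))))
theorem s0_f14285r : ed sl_bf s0_v965 = s0_v450 :=
  edge_flip (s0_f14285 IH)
theorem s0_f15534r : ed sl_bf s0_v1360 = s0_v1351 :=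
  edge_flip (s0_f15534 IH)
theorem s0_f15491r : ed sl_af s0_v1351 = s0_v446 :=
  edge_flip (s0_f15491 IH)
theorem s0_f15535 : ed sl_af s0_v1241 = s0_v1232 :=
  gap_rel s0_rot64 (path_edge (s0_f15020 IH) (path_edge (s0_f13431r IH) (path_edge (s0_f14283 IH) (path_edge (s0_f15491r IH) (path_edge (s0_f15534r IH) (path_edge (s0_f15530 IH) (path_edge (s0_f14285r IH) (path_edge (s0_f13313 IH) (path_edge (s0_f14980r IH) (path_nil s0_v1232))))))))))
theorem s0_f15596 : ed sl_bt s0_v455 = s0_v1373 :=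
  rfl
theorem s0_f15596r : ed sl_bf s0_v1373 = s0_v455 :=
  edge_flip (s0_f15596 IH)
theorem s0_f15597 : ed sl_bf s0_v455 = s0_v1373 :=
  gap_rel s0_rot17 (path_edge (s0_f15596r IH) (path_nil s0_v1373))
theorem s0_f15791 : ed sl_at s0_v481 = s0_v1420 :=
  rfl
theorem s0_f15793 : ed sl_ct s0_v481 = s0_v1421 :=
  rfl
theorem s0_f15793r : ed sl_cf s0_v1421 = s0_v481 :=
  edge_flip (s0_f15793 IH)
theorem s0_f15795 : ed sl_cf s0_v481 = s0_v1421 :=
  gap_rel s0_rot31 (path_edge (s0_f15793r IH) (path_nil s0_v1421))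
theorem s0_f15795r : ed sl_ct s0_v1421 = s0_v481 :=
  edge_flip (s0_f15795 IH)
theorem s0_f8418r : ed sl_bt s0_v481 = s0_v123 :=
  edge_flip (s0_f8418 IH)
theorem s0_f15797 : ed sl_ft s0_v1420 = s0_v1421 :=
  gap_rel s0_rot59 (path_edge (s0_f15791 IH) (path_edge (s0_f8417 IH) (path_edge (s0_f3770 IH) (path_edge (s0_f1921r IH) (path_edge (s0_f1914 IH) (path_edge (s0_f1107 IH) (path_edge (s0_f1755 IH) (path_edge (s0_f879 IH) (path_edge (s0_f528 IH) (path_edge (s0_f180 IH) (path_edge (s0_f162 IH) (path_edge (s0_f1758 IH) (path_edge (s0_f1106 IH) (path_edge (s0_f1922 IH) (path_edge (s0_f1157 IH) (path_edge (s0_f1923 IH) (path_edge (s0_f3766r IH) (path_edge (s0_f8418r IH) (path_edge (s0_f15795r IH) (path_nil s0_v1421))))))))))))))))))))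
theorem s0_f15799 : ed sl_dt s0_v481 = s0_v1422 :=
  rfl
theorem s0_f15799r : ed sl_df s0_v1422 = s0_v481 :=
  edge_flip (s0_f15799 IH)
theorem s0_f15800 : ed sl_bf s0_v482 = s0_v1422 :=
  gap_rel s0_rot45 (path_edge (s0_f8421 IH) (path_edge (s0_f8417r IH) (path_edge (s0_f15799r IH) (path_nil s0_v1422))))
theorem s0_f15801 : ed sl_df s0_v481 = s0_v1422 :=
  gap_rel s0_rot28 (path_edge (s0_f15799r IH) (path_nil s0_v1422))
theorem s0_f15803 : ed sl_ft s0_v481 = s0_v1423 :=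
  rfl
theorem s0_f15803r : ed sl_ff s0_v1423 = s0_v481 :=
  edge_flip (s0_f15803 IH)
theorem s0_f15797r : ed sl_ff s0_v1421 = s0_v1420 :=
  edge_flip (s0_f15797 IH)
theorem s0_f15805 : ed sl_cf s0_v1420 = s0_v1423 :=
  gap_rel s0_rot47 (path_edge (s0_f15797r IH) (path_edge (s0_f15795 IH) (path_edge (s0_f15803r IH) (path_nil s0_v1423))))
theorem s0_f15806 : ed sl_ff s0_v481 = s0_v1423 :=
  gap_rel s0_rot12 (path_edge (s0_f15803r IH) (path_nil s0_v1423))
theorem s0_f15841 : ed sl_ct s0_v486 = s0_v1431 :=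
  rfl
theorem s0_f15841r : ed sl_cf s0_v1431 = s0_v486 :=
  edge_flip (s0_f15841 IH)
theorem s0_f3828r : ed sl_cf s0_v125 = s0_v36 :=
  edge_flip (s0_f3828 IH)
theorem s0_f15842 : ed sl_bf s0_v489 = s0_v1431 :=
  gap_rel s0_rot69 (path_edge (s0_f8450 IH) (path_edge (s0_f3888 IH) (path_edge (s0_f3828r IH) (path_edge (s0_f8441r IH) (path_edge (s0_f15841r IH) (path_nil s0_v1431))))))
theorem s0_f15843 : ed sl_cf s0_v486 = s0_v1431 :=
  gap_rel s0_rot31 (path_edge (s0_f15841r IH) (path_nil s0_v1431))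
theorem s0_f15863 : ed sl_bt s0_v488 = s0_v1437 :=
  rfl
theorem s0_f15863r : ed sl_bf s0_v1437 = s0_v488 :=
  edge_flip (s0_f15863 IH)
theorem s0_f8448r : ed sl_cf s0_v488 = s0_v127 :=
  edge_flip (s0_f8448 IH)
theorem s0_f3873r : ed sl_bf s0_v127 = sq388 :=
  edge_flip (s0_f3873 IH)
theorem s0_f15865 : ed sl_cf s0_v1122 = s0_v1437 :=
  gap_rel s0_rot52 (path_edge (s0_f14406 IH) (path_edge (s0_f6472 IH) (path_edge (s0_f3873r IH) (path_edge (s0_f8448r IH) (path_edge (s0_f15863r IH) (path_nil s0_v1437))))))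
theorem s0_f15893 : ed sl_at s0_v492 = s0_v1442 :=
  rfl
theorem s0_f15893r : ed sl_af s0_v1442 = s0_v492 :=
  edge_flip (s0_f15893 IH)
theorem s0_f15894 : ed sl_af s0_v492 = s0_v1442 :=
  gap_rel s0_rot0 (path_edge (s0_f15893r IH) (path_nil s0_v1442))
theorem s0_f15895 : ed sl_ct s0_v492 = s0_v1443 :=
  rfl
theorem s0_f15895r : ed sl_cf s0_v1443 = s0_v492 :=
  edge_flip (s0_f15895 IH)
theorem s0_f8467r : ed sl_bf s0_v492 = s0_v129 :=
  edge_flip (s0_f8467 IH)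
theorem s0_f3917r : ed sl_cf s0_v129 = s0_v37 :=
  edge_flip (s0_f3917 IH)
theorem s0_f15896 : ed sl_bf s0_v557 = s0_v1443 :=
  gap_rel s0_rot69 (path_edge (s0_f8783 IH) (path_edge (s0_f4609 IH) (path_edge (s0_f3917r IH) (path_edge (s0_f8467r IH) (path_edge (s0_f15895r IH) (path_nil s0_v1443))))))
theorem s0_f15897 : ed sl_cf s0_v492 = s0_v1443 :=
  gap_rel s0_rot31 (path_edge (s0_f15895r IH) (path_nil s0_v1443))
theorem s0_f15899 : ed sl_dt s0_v492 = s0_v1444 :=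
  rfl
theorem s0_f15899r : ed sl_df s0_v1444 = s0_v492 :=
  edge_flip (s0_f15899 IH)
theorem s0_f15900 : ed sl_bf s0_v493 = s0_v1444 :=
  gap_rel s0_rot45 (path_edge (s0_f8471 IH) (path_edge (s0_f8467r IH) (path_edge (s0_f15899r IH) (path_nil s0_v1444))))
theorem s0_f15901 : ed sl_df s0_v492 = s0_v1444 :=
  gap_rel s0_rot28 (path_edge (s0_f15899r IH) (path_nil s0_v1444))
theorem s0_f15903 : ed sl_ft s0_v492 = s0_v1445 :=
  rfl
theorem s0_f15905 : ed sl_gt s0_v492 = s0_v1446 :=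
  rfl
theorem s0_f15905r : ed sl_gf s0_v1446 = s0_v492 :=
  edge_flip (s0_f15905 IH)
theorem s0_f15906 : ed sl_gf s0_v492 = s0_v1446 :=
  gap_rel s0_rot6 (path_edge (s0_f15905r IH) (path_nil s0_v1446))
theorem s0_f15925 : ed sl_bt s0_v494 = s0_v1449 :=
  rfl
theorem s0_f15925r : ed sl_bf s0_v1449 = s0_v494 :=
  edge_flip (s0_f15925 IH)
theorem s0_f15926 : ed sl_bf s0_v494 = s0_v1449 :=
  gap_rel s0_rot17 (path_edge (s0_f15925r IH) (path_nil s0_v1449))
theorem s0_f15935 : ed sl_at s0_v497 = s0_v1452 :=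
  rfl
theorem s0_f15935r : ed sl_af s0_v1452 = s0_v497 :=
  edge_flip (s0_f15935 IH)
theorem s0_f15936 : ed sl_af s0_v497 = s0_v1452 :=
  gap_rel s0_rot0 (path_edge (s0_f15935r IH) (path_nil s0_v1452))
theorem s0_f15937 : ed sl_ct s0_v497 = s0_v1453 :=
  rfl
theorem s0_f15937r : ed sl_cf s0_v1453 = s0_v497 :=
  edge_flip (s0_f15937 IH)
theorem s0_f15939 : ed sl_cf s0_v497 = s0_v1453 :=
  gap_rel s0_rot31 (path_edge (s0_f15937r IH) (path_nil s0_v1453))
theorem s0_f15940 : ed sl_ff s0_v1437 = s0_v1453 :=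
  gap_rel s0_rot11 (path_edge (s0_f15865 IH) (path_edge (s0_f14407 IH) (path_edge (s0_f15937r IH) (path_nil s0_v1453))))
theorem s0_f15943 : ed sl_gt s0_v497 = s0_v1454 :=
  rfl
theorem s0_f15969 : ed sl_bt s0_v500 = s0_v1460 :=
  rfl
theorem s0_f15969r : ed sl_bf s0_v1460 = s0_v500 :=
  edge_flip (s0_f15969 IH)
theorem s0_f15970 : ed sl_bf s0_v500 = s0_v1460 :=
  gap_rel s0_rot17 (path_edge (s0_f15969r IH) (path_nil s0_v1460))
theorem s0_f8501r : ed sl_gf s0_v500 = s0_v132 :=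
  edge_flip (s0_f8501 IH)
theorem s0_f3991r : ed sl_bf s0_v132 = s0_v126 :=
  edge_flip (s0_f3991 IH)
theorem s0_f15972 : ed sl_gf s0_v1431 = s0_v1460 :=
  gap_rel s0_rot50 (path_edge (s0_f15842 IH) (path_edge (s0_f8451 IH) (path_edge (s0_f3991r IH) (path_edge (s0_f8501r IH) (path_edge (s0_f15969r IH) (path_nil s0_v1460))))))
theorem s0_f15972r : ed sl_gt s0_v1460 = s0_v1431 :=
  edge_flip (s0_f15972 IH)
theorem s0_f15843r : ed sl_ct s0_v1431 = s0_v486 :=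
  edge_flip (s0_f15843 IH)
theorem s0_f15973 : ed sl_ct s0_v1110 = s0_v1460 :=
  gap_rel s0_rot30 (path_edge (s0_f14358 IH) (path_edge (s0_f15843r IH) (path_edge (s0_f15972r IH) (path_nil s0_v1460))))
theorem s0_f16046 : ed sl_at s0_v507 = s0_v1476 :=
  rfl
theorem s0_f16046r : ed sl_af s0_v1476 = s0_v507 :=
  edge_flip (s0_f16046 IH)
theorem s0_f16047 : ed sl_af s0_v507 = s0_v1476 :=
  gap_rel s0_rot0 (path_edge (s0_f16046r IH) (path_nil s0_v1476))
theorem s0_f8542r : ed sl_ef s0_v507 = s0_v178 :=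
  edge_flip (s0_f8542 IH)
theorem s0_f16048 : ed sl_ef s0_v573 = s0_v1476 :=
  gap_rel s0_rot8 (path_edge (s0_f8847 IH) (path_edge (s0_f8542r IH) (path_edge (s0_f16046r IH) (path_nil s0_v1476))))
theorem s0_f16050 : ed sl_ct s0_v507 = s0_v1477 :=
  rfl
theorem s0_f16050r : ed sl_cf s0_v1477 = s0_v507 :=
  edge_flip (s0_f16050 IH)
theorem s0_f16051 : ed sl_cf s0_v507 = s0_v1477 :=
  gap_rel s0_rot31 (path_edge (s0_f16050r IH) (path_nil s0_v1477))
theorem s0_f16052 : ed sl_ef s0_v574 = s0_v1477 :=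
  gap_rel s0_rot70 (path_edge (s0_f8849 IH) (path_edge (s0_f8542r IH) (path_edge (s0_f16050r IH) (path_nil s0_v1477))))
theorem s0_f16052r : ed sl_et s0_v1477 = s0_v574 :=
  edge_flip (s0_f16052 IH)
theorem s0_f16053 : ed sl_et s0_v574 = s0_v1477 :=
  gap_rel s0_rot39 (path_edge (s0_f16052r IH) (path_nil s0_v1477))
theorem s0_f16053r : ed sl_ef s0_v1477 = s0_v574 :=
  edge_flip (s0_f16053 IH)
theorem s0_f8850r : ed sl_bf s0_v574 = s0_v574 :=
  edge_flip (s0_f8850 IH)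
theorem s0_f16054 : ed sl_bf s0_v1477 = s0_v1477 :=
  gap_rel s0_rot71 (path_edge (s0_f16052 IH) (path_edge (s0_f8850r IH) (path_edge (s0_f16053r IH) (path_nil s0_v1477))))
theorem s0_f16081 : ed sl_ft s0_v509 = s0_v1482 :=
  rfl
theorem s0_f16081r : ed sl_ff s0_v1482 = s0_v509 :=
  edge_flip (s0_f16081 IH)
theorem s0_f16083 : ed sl_ff s0_v509 = s0_v1482 :=
  gap_rel s0_rot12 (path_edge (s0_f16081r IH) (path_nil s0_v1482))
theorem s0_f15535r : ed sl_at s0_v1232 = s0_v1241 :=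
  edge_flip (s0_f15535 IH)
theorem s0_f15022r : ed sl_ff s0_v1241 = s0_v513 :=
  edge_flip (s0_f15022 IH)
theorem s0_f16084 : ed sl_gf s0_v513 = s0_v1482 :=
  gap_rel s0_rot22 (path_edge (s0_f15022r IH) (path_edge (s0_f15535r IH) (path_edge (s0_f14983 IH) (path_edge (s0_f16081r IH) (path_nil s0_v1482)))))
theorem s0_f16084r : ed sl_gt s0_v1482 = s0_v513 :=
  edge_flip (s0_f16084 IH)
theorem s0_f16085 : ed sl_gt s0_v513 = s0_v1482 :=
  gap_rel s0_rot23 (path_edge (s0_f16084r IH) (path_nil s0_v1482))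
theorem s0_f16097 : ed sl_ct s0_v511 = s0_v1485 :=
  rfl
theorem s0_f16097r : ed sl_cf s0_v1485 = s0_v511 :=
  edge_flip (s0_f16097 IH)
theorem s0_f16100 : ed sl_gf s0_v829 = s0_v1485 :=
  gap_rel s0_rot16 (path_edge (s0_f11421 IH) (path_edge (s0_f11431r IH) (path_eq (s0_f14306 IH) (path_edge (s0_f16097r IH) (path_nil s0_v1485)))))
theorem s0_f16100r : ed sl_gt s0_v1485 = s0_v829 :=
  edge_flip (s0_f16100 IH)
theorem s0_f16102 : ed sl_gt s0_v829 = s0_v1485 :=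
  gap_rel s0_rot23 (path_edge (s0_f16100r IH) (path_nil s0_v1485))
theorem s0_f16105 : ed sl_at s0_v513 = s0_v1487 :=
  rfl
theorem s0_f16105r : ed sl_af s0_v1487 = s0_v513 :=
  edge_flip (s0_f16105 IH)
theorem s0_f16106 : ed sl_af s0_v513 = s0_v1487 :=
  gap_rel s0_rot0 (path_edge (s0_f16105r IH) (path_nil s0_v1487))
theorem s0_f16083r : ed sl_ft s0_v1482 = s0_v509 :=
  edge_flip (s0_f16083 IH)
theorem s0_f16109 : ed sl_ft s0_v1232 = s0_v1487 :=
  gap_rel s0_rot10 (path_edge (s0_f14984 IH) (path_edge (s0_f16083r IH) (path_edge (s0_f16085 IH) (path_edge (s0_f16105r IH) (path_nil s0_v1487)))))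
theorem s0_f16109r : ed sl_ff s0_v1487 = s0_v1232 :=
  edge_flip (s0_f16109 IH)
theorem s0_f16110 : ed sl_bf s0_v1328 = s0_v1487 :=
  gap_rel s0_rot51 (path_edge (s0_f15408r IH) (path_edge (s0_f15410 IH) (path_edge (s0_f14490 IH) (path_edge (s0_f14980r IH) (path_edge (s0_f16109r IH) (path_nil s0_v1487))))))
theorem s0_f16110r : ed sl_bt s0_v1487 = s0_v1328 :=
  edge_flip (s0_f16110 IH)
theorem s0_f16112 : ed sl_bt s0_v1328 = s0_v1487 :=
  gap_rel s0_rot54 (path_edge (s0_f16110r IH) (path_nil s0_v1487))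
theorem s0_f1978r : ed sl_bf sq151 = sq277 :=
  edge_flip (s0_f1978 IH)
theorem s0_f16112r : ed sl_bf s0_v1487 = s0_v1328 :=
  edge_flip (s0_f16112 IH)
theorem s0_f16114 : ed sl_bf s0_v1338 = s0_v573 :=
  gap_rel s0_rot53 (path_edge (s0_f15425 IH) (path_edge (s0_f16112r IH) (path_edge (s0_f16106 IH) (path_edge (s0_f8568 IH) (path_edge (s0_f4260 IH) (path_edge (s0_f1978r IH) (path_edge (s0_f2133r IH) (path_edge (s0_f4636r IH) (path_edge (s0_f8846r IH) (path_nil s0_v573))))))))))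
theorem s0_f16117 : ed sl_at s0_v514 = s0_v1489 :=
  rfl
theorem s0_f16117r : ed sl_af s0_v1489 = s0_v514 :=
  edge_flip (s0_f16117 IH)
theorem s0_f16118 : ed sl_af s0_v514 = s0_v1489 :=
  gap_rel s0_rot0 (path_edge (s0_f16117r IH) (path_nil s0_v1489))
theorem s0_f8572r : ed sl_gf s0_v514 = s0_v178 :=
  edge_flip (s0_f8572 IH)
theorem s0_f16119 : ed sl_gf s0_v573 = s0_v1489 :=
  gap_rel s0_rot3 (path_edge (s0_f8847 IH) (path_edge (s0_f8572r IH) (path_edge (s0_f16117r IH) (path_nil s0_v1489))))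
theorem s0_f16119r : ed sl_gt s0_v1489 = s0_v573 :=
  edge_flip (s0_f16119 IH)
theorem s0_f16114r : ed sl_bt s0_v573 = s0_v1338 :=
  edge_flip (s0_f16114 IH)
theorem s0_f16120 : ed sl_bt s0_v623 = s0_v1489 :=
  gap_rel s0_rot35 (path_edge (s0_f9103 IH) (path_edge (s0_f15412r IH) (path_edge (s0_f15427r IH) (path_edge (s0_f16114r IH) (path_edge (s0_f16119r IH) (path_nil s0_v1489))))))
theorem s0_f16123 : ed sl_ct s0_v514 = s0_v1490 :=
  rfl
theorem s0_f16123r : ed sl_cf s0_v1490 = s0_v514 :=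
  edge_flip (s0_f16123 IH)
theorem s0_f16124 : ed sl_cf s0_v514 = s0_v1490 :=
  gap_rel s0_rot31 (path_edge (s0_f16123r IH) (path_nil s0_v1490))
theorem s0_f16125 : ed sl_gf s0_v574 = s0_v1490 :=
  gap_rel s0_rot16 (path_edge (s0_f8849 IH) (path_edge (s0_f8572r IH) (path_edge (s0_f16123r IH) (path_nil s0_v1490))))
theorem s0_f16125r : ed sl_gt s0_v1490 = s0_v574 :=
  edge_flip (s0_f16125 IH)
theorem s0_f16126 : ed sl_gt s0_v574 = s0_v1490 :=
  gap_rel s0_rot23 (path_edge (s0_f16125r IH) (path_nil s0_v1490))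
theorem s0_f16373 : ed sl_ft s0_v551 = s0_v1542 :=
  rfl
theorem s0_f16373r : ed sl_ff s0_v1542 = s0_v551 :=
  edge_flip (s0_f16373 IH)
theorem s0_f16374 : ed sl_af s0_v553 = s0_v1542 :=
  gap_rel s0_rot58 (path_edge (s0_f8767 IH) (path_edge (s0_f8759r IH) (path_edge (s0_f16373r IH) (path_nil s0_v1542))))
theorem s0_f8762r : ed sl_df s0_v551 = s0_v212 :=
  edge_flip (s0_f8762 IH)
theorem s0_f16375 : ed sl_df s0_v617 = s0_v1542 :=
  gap_rel s0_rot72 (path_edge (s0_f9077 IH) (path_edge (s0_f8762r IH) (path_edge (s0_f16373r IH) (path_nil s0_v1542))))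
theorem s0_f16376 : ed sl_ff s0_v551 = s0_v1542 :=
  gap_rel s0_rot12 (path_edge (s0_f16373r IH) (path_nil s0_v1542))
theorem s0_f16376r : ed sl_ft s0_v1542 = s0_v551 :=
  edge_flip (s0_f16376 IH)
theorem s0_f8760r : ed sl_at s0_v551 = s0_v170 :=
  edge_flip (s0_f8760 IH)
theorem s0_f16377 : ed sl_at s0_v553 = s0_v1542 :=
  gap_rel s0_rot18 (path_edge (s0_f8765 IH) (path_edge (s0_f8760r IH) (path_edge (s0_f16376r IH) (path_nil s0_v1542))))
theorem s0_f16421 : ed sl_ct s0_v556 = s0_v1552 :=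
  rfl
theorem s0_f16421r : ed sl_cf s0_v1552 = s0_v556 :=
  edge_flip (s0_f16421 IH)
theorem s0_f16422 : ed sl_af s0_v557 = s0_v1552 :=
  gap_rel s0_rot48 (path_edge (s0_f8783 IH) (path_edge (s0_f8778r IH) (path_edge (s0_f16421r IH) (path_nil s0_v1552))))
theorem s0_f16425 : ed sl_ft s0_v556 = s0_v1553 :=
  rfl
theorem s0_f16425r : ed sl_ff s0_v1553 = s0_v556 :=
  edge_flip (s0_f16425 IH)
theorem s0_f8781r : ed sl_df s0_v556 = s0_v216 :=
  edge_flip (s0_f8781 IH)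
theorem s0_f16427 : ed sl_df s0_v625 = s0_v1553 :=
  gap_rel s0_rot72 (path_edge (s0_f9110 IH) (path_edge (s0_f8781r IH) (path_edge (s0_f16425r IH) (path_nil s0_v1553))))
theorem s0_f16428 : ed sl_ff s0_v556 = s0_v1553 :=
  gap_rel s0_rot12 (path_edge (s0_f16425r IH) (path_nil s0_v1553))
theorem s0_f16428r : ed sl_ft s0_v1553 = s0_v556 :=
  edge_flip (s0_f16428 IH)
theorem s0_f8779r : ed sl_at s0_v556 = s0_v172 :=
  edge_flip (s0_f8779 IH)
theorem s0_f16429 : ed sl_at s0_v558 = s0_v1553 :=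
  gap_rel s0_rot18 (path_edge (s0_f8784 IH) (path_edge (s0_f8779r IH) (path_edge (s0_f16428r IH) (path_nil s0_v1553))))
theorem s0_f16431 : ed sl_gt s0_v556 = s0_v1554 :=
  rfl
theorem s0_f16431r : ed sl_gf s0_v1554 = s0_v556 :=
  edge_flip (s0_f16431 IH)
theorem s0_f16434 : ed sl_gf s0_v556 = s0_v1554 :=
  gap_rel s0_rot6 (path_edge (s0_f16431r IH) (path_nil s0_v1554))
theorem s0_f16439 : ed sl_ft s0_v557 = s0_v1556 :=
  rfl
theorem s0_f16439r : ed sl_ff s0_v1556 = s0_v557 :=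
  edge_flip (s0_f16439 IH)
theorem s0_f16441 : ed sl_ff s0_v557 = s0_v1556 :=
  gap_rel s0_rot12 (path_edge (s0_f16439r IH) (path_nil s0_v1556))
theorem s0_f16443 : ed sl_gt s0_v557 = s0_v1557 :=
  rfl
theorem s0_f16453 : ed sl_gt s0_v558 = s0_v1559 :=
  rfl
theorem s0_f16453r : ed sl_gf s0_v1559 = s0_v558 :=
  edge_flip (s0_f16453 IH)
theorem s0_f16455 : ed sl_gf s0_v558 = s0_v1559 :=
  gap_rel s0_rot6 (path_edge (s0_f16453r IH) (path_nil s0_v1559))
theorem s0_f16456 : ed sl_ff s0_v1554 = s0_v1559 :=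
  gap_rel s0_rot21 (path_edge (s0_f16434 IH) (path_edge (s0_f16425r IH) (path_edge (s0_f16429 IH) (path_edge (s0_f16453r IH) (path_nil s0_v1559)))))
theorem s0_f16456r : ed sl_ft s0_v1559 = s0_v1554 :=
  edge_flip (s0_f16456 IH)
theorem s0_f16458 : ed sl_ft s0_v1554 = s0_v1559 :=
  gap_rel s0_rot20 (path_edge (s0_f16456r IH) (path_nil s0_v1559))
theorem s0_f16459 : ed sl_ft s0_v559 = s0_v1560 :=
  rfl
theorem s0_f16459r : ed sl_ff s0_v1560 = s0_v559 :=
  edge_flip (s0_f16459 IH)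
theorem s0_f16462 : ed sl_ff s0_v559 = s0_v1560 :=
  gap_rel s0_rot12 (path_edge (s0_f16459r IH) (path_nil s0_v1560))
theorem s0_f16458r : ed sl_ff s0_v1559 = s0_v1554 :=
  edge_flip (s0_f16458 IH)
theorem s0_f16463 : ed sl_gf s0_v1553 = s0_v1560 :=
  gap_rel s0_rot24 (path_edge (s0_f16428 IH) (path_edge (s0_f16431r IH) (path_edge (s0_f16458r IH) (path_edge (s0_f16455 IH) (path_edge (s0_f8786 IH) (path_edge (s0_f8788r IH) (path_edge (s0_f16459r IH) (path_nil s0_v1560))))))))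
theorem s0_f16463r : ed sl_gt s0_v1560 = s0_v1553 :=
  edge_flip (s0_f16463 IH)
theorem s0_f16466 : ed sl_gt s0_v1553 = s0_v1560 :=
  gap_rel s0_rot23 (path_edge (s0_f16463r IH) (path_nil s0_v1560))
theorem s0_f16479 : ed sl_ft s0_v561 = s0_v1564 :=
  rfl
theorem s0_f16479r : ed sl_ff s0_v1564 = s0_v561 :=
  edge_flip (s0_f16479 IH)
theorem s0_f8800r : ed sl_ef s0_v561 = s0_v212 :=
  edge_flip (s0_f8800 IH)
theorem s0_f16481 : ed sl_ef s0_v617 = s0_v1564 :=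
  gap_rel s0_rot73 (path_edge (s0_f9077 IH) (path_edge (s0_f8800r IH) (path_edge (s0_f16479r IH) (path_nil s0_v1564))))
theorem s0_f16482 : ed sl_ff s0_v561 = s0_v1564 :=
  gap_rel s0_rot12 (path_edge (s0_f16479r IH) (path_nil s0_v1564))
theorem s0_f16482r : ed sl_ft s0_v1564 = s0_v561 :=
  edge_flip (s0_f16482 IH)
theorem s0_f8798r : ed sl_at s0_v561 = s0_v174 :=
  edge_flip (s0_f8798 IH)
theorem s0_f16483 : ed sl_at s0_v563 = s0_v1564 :=
  gap_rel s0_rot18 (path_edge (s0_f8806 IH) (path_edge (s0_f8798r IH) (path_edge (s0_f16482r IH) (path_nil s0_v1564))))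
theorem s0_f16485 : ed sl_gt s0_v561 = s0_v1565 :=
  rfl
theorem s0_f16485r : ed sl_gf s0_v1565 = s0_v561 :=
  edge_flip (s0_f16485 IH)
theorem s0_f16488 : ed sl_gf s0_v561 = s0_v1565 :=
  gap_rel s0_rot6 (path_edge (s0_f16485r IH) (path_nil s0_v1565))
theorem s0_f16506 : ed sl_gt s0_v563 = s0_v1569 :=
  rfl
theorem s0_f16506r : ed sl_gf s0_v1569 = s0_v563 :=
  edge_flip (s0_f16506 IH)
theorem s0_f16508 : ed sl_gf s0_v563 = s0_v1569 :=
  gap_rel s0_rot6 (path_edge (s0_f16506r IH) (path_nil s0_v1569))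
theorem s0_f16509 : ed sl_ff s0_v1565 = s0_v1569 :=
  gap_rel s0_rot21 (path_edge (s0_f16488 IH) (path_edge (s0_f16479r IH) (path_edge (s0_f16483 IH) (path_edge (s0_f16506r IH) (path_nil s0_v1569)))))
theorem s0_f16509r : ed sl_ft s0_v1569 = s0_v1565 :=
  edge_flip (s0_f16509 IH)
theorem s0_f16511 : ed sl_ft s0_v1565 = s0_v1569 :=
  gap_rel s0_rot20 (path_edge (s0_f16509r IH) (path_nil s0_v1569))
theorem s0_f16512 : ed sl_ft s0_v564 = s0_v1570 :=
  rfl
theorem s0_f16512r : ed sl_ff s0_v1570 = s0_v564 :=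
  edge_flip (s0_f16512 IH)
theorem s0_f8811r : ed sl_gf s0_v564 = s0_v174 :=
  edge_flip (s0_f8811 IH)
theorem s0_f16511r : ed sl_ff s0_v1569 = s0_v1565 :=
  edge_flip (s0_f16511 IH)
theorem s0_f16516 : ed sl_gf s0_v1564 = s0_v1570 :=
  gap_rel s0_rot24 (path_edge (s0_f16482 IH) (path_edge (s0_f16485r IH) (path_edge (s0_f16511r IH) (path_edge (s0_f16508 IH) (path_edge (s0_f8808 IH) (path_edge (s0_f8811r IH) (path_edge (s0_f16512r IH) (path_nil s0_v1570))))))))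
theorem s0_f16516r : ed sl_gt s0_v1570 = s0_v1564 :=
  edge_flip (s0_f16516 IH)
theorem s0_f16519 : ed sl_gt s0_v1564 = s0_v1570 :=
  gap_rel s0_rot23 (path_edge (s0_f16516r IH) (path_nil s0_v1570))
theorem s0_f16614 : ed sl_dt s0_v574 = s0_v1588 :=
  rfl
theorem s0_f16614r : ed sl_df s0_v1588 = s0_v574 :=
  edge_flip (s0_f16614 IH)
theorem s0_f16615 : ed sl_df s0_v574 = s0_v1588 :=
  gap_rel s0_rot28 (path_edge (s0_f16614r IH) (path_nil s0_v1588))
theorem s0_f16615r : ed sl_dt s0_v1588 = s0_v574 :=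
  edge_flip (s0_f16615 IH)
theorem s0_f16616 : ed sl_bt s0_v1588 = s0_v1588 :=
  gap_rel s0_rot46 (path_edge (s0_f16614 IH) (path_edge (s0_f8850 IH) (path_edge (s0_f16615r IH) (path_nil s0_v1588))))
theorem s0_f16617 : ed sl_ft s0_v574 = s0_v1589 :=
  rfl
theorem s0_f16617r : ed sl_ff s0_v1589 = s0_v574 :=
  edge_flip (s0_f16617 IH)
theorem s0_f16619 : ed sl_ff s0_v574 = s0_v1589 :=
  gap_rel s0_rot12 (path_edge (s0_f16617r IH) (path_nil s0_v1589))
theorem s0_f16619r : ed sl_ft s0_v1589 = s0_v574 :=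
  edge_flip (s0_f16619 IH)
theorem s0_f16620 : ed sl_ct s0_v575 = s0_v1589 :=
  gap_rel s0_rot27 (path_edge (s0_f8851 IH) (path_edge (s0_f8849r IH) (path_edge (s0_f16619r IH) (path_nil s0_v1589))))
theorem s0_f18564 : ed sl_bt sq839 = s0_v1911 :=
  rfl
theorem s0_f18564r : ed sl_bf s0_v1911 = sq839 :=
  edge_flip (s0_f18564 IH)
theorem s0_f18565 : ed sl_bf sq839 = s0_v1911 :=
  gap_rel s0_rot17 (path_edge (s0_f18564r IH) (path_nil s0_v1911))
theorem s0_f6289r : ed sl_ff sq839 = sq525 :=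
  edge_flip (s0_f6289 IH)
theorem s0_f3290r : ed sl_bf sq525 = sq376 :=
  edge_flip (s0_f3290 IH)
theorem s0_f18566 : ed sl_ff s0_v1098 = s0_v1911 :=
  gap_rel s0_rot49 (path_edge (s0_f14301 IH) (path_edge (s0_f6281 IH) (path_edge (s0_f3290r IH) (path_edge (s0_f6289r IH) (path_edge (s0_f18564r IH) (path_nil s0_v1911))))))
theorem s0_f13320r : ed sl_bf sq760 = sq1187 :=
  edge_flip (s0_f13320 IH)
theorem s0_f18567 : ed sl_gf sq1187 = s0_v1911 :=
  gap_rel s0_rot50 (path_edge (s0_f13320r IH) (path_edge (s0_f13325r IH) (path_edge (s0_f14493 IH) (path_edge (s0_f10492 IH) (path_edge (s0_f18564r IH) (path_nil s0_v1911))))))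
theorem s0_f18567r : ed sl_gt s0_v1911 = sq1187 :=
  edge_flip (s0_f18567 IH)
theorem s0_f18568 : ed sl_ct sq1190 = s0_v1911 :=
  gap_rel s0_rot30 (path_edge (s0_f7717 IH) (path_edge (s0_f4255 IH) (path_edge (s0_f18567r IH) (path_nil s0_v1911))))
theorem s0_f18570 : ed sl_gt sq1187 = s0_v1911 :=
  gap_rel s0_rot23 (path_edge (s0_f18567r IH) (path_nil s0_v1911))
theorem s0_f18587 : ed sl_ft sq840 = s0_v1913 :=
  rfl
theorem s0_f18587r : ed sl_ff s0_v1913 = sq840 :=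
  edge_flip (s0_f18587 IH)
theorem s0_f18589 : ed sl_ff sq840 = s0_v1913 :=
  gap_rel s0_rot12 (path_edge (s0_f18587r IH) (path_nil s0_v1913))
theorem s0_f18589r : ed sl_ft s0_v1913 = sq840 :=
  edge_flip (s0_f18589 IH)
theorem s0_f18590 : ed sl_ct s0_v734 = s0_v1913 :=
  gap_rel s0_rot27 (path_edge (s0_f9960 IH) (path_edge (s0_f3153 IH) (path_edge (s0_f18589r IH) (path_nil s0_v1913))))
theorem s0_f18590r : ed sl_cf s0_v1913 = s0_v734 :=
  edge_flip (s0_f18590 IH)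
theorem s0_f5617r : ed sl_cf sq526 = sq839 :=
  edge_flip (s0_f5617 IH)
theorem s0_f18568r : ed sl_cf s0_v1911 = sq1190 :=
  edge_flip (s0_f18568 IH)
theorem s0_f18591 : ed sl_bf sq1190 = s0_v1913 :=
  gap_rel s0_rot69 (path_edge (s0_f18568r IH) (path_edge (s0_f18565 IH) (path_edge (s0_f5617r IH) (path_edge (s0_f9954r IH) (path_edge (s0_f18590r IH) (path_nil s0_v1913))))))
theorem s0_f18591r : ed sl_bt s0_v1913 = sq1190 :=
  edge_flip (s0_f18591 IH)
theorem s0_f18595 : ed sl_bt sq1190 = s0_v1913 :=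
  gap_rel s0_rot54 (path_edge (s0_f18591r IH) (path_nil s0_v1913))
theorem s0_f19702 : ed sl_bt sq911 = s0_v2002 :=
  rfl
theorem s0_f19704 : ed sl_et sq1368 = sq911 :=
  real_edge rels S fwd inv o lvl plet idx 26 IH Gen.e sp1368 sp911 rfl rfl
theorem s0_f19702r : ed sl_bf s0_v2002 = sq911 :=
  edge_flip (s0_f19702 IH)
theorem s0_f19704r : ed sl_ef sq911 = sq1368 :=
  edge_flip (s0_f19704 IH)
theorem s0_f14964r : ed sl_bf sq1368 = sq2080 :=
  edge_flip (s0_f14964 IH)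
theorem s0_f19705 : ed sl_ef sq2080 = s0_v2002 :=
  gap_rel s0_rot38 (path_edge (s0_f14964r IH) (path_edge (s0_f19704r IH) (path_edge (s0_f19702r IH) (path_nil s0_v2002))))
theorem s0_f21633 : ed sl_at sq1031 = s0_v2115 :=
  rfl
theorem s0_f21633r : ed sl_af s0_v2115 = sq1031 :=
  edge_flip (s0_f21633 IH)
theorem s0_f6430r : ed sl_ef sq1031 = sq663 :=
  edge_flip (s0_f6430 IH)
theorem s0_f21635 : ed sl_ef s0_v866 = s0_v2115 :=
  gap_rel s0_rot8 (path_edge (s0_f11924 IH) (path_edge (s0_f6430r IH) (path_edge (s0_f21633r IH) (path_nil s0_v2115))))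
theorem s0_f21635r : ed sl_et s0_v2115 = s0_v866 :=
  edge_flip (s0_f21635 IH)
theorem s0_f21636 : ed sl_et s0_v866 = s0_v2115 :=
  gap_rel s0_rot39 (path_edge (s0_f21635r IH) (path_nil s0_v2115))
theorem s0_f21640 : ed sl_ct sq2401 = sq1559 :=
  real_edge rels S fwd inv o lvl plet idx 26 IH Gen.c sp2401 sp1559 rfl rfl
theorem s0_f21641 : ed sl_dt sq3971 = sq2401 :=
  real_edge rels S fwd inv o lvl plet idx 26 IH Gen.d sp3971 sp2401 rfl rfl
theorem s0_f21664 : ed sl_gt sq1031 = s0_v2118 :=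
  rfl
theorem s0_f21664r : ed sl_gf s0_v2118 = sq1031 :=
  edge_flip (s0_f21664 IH)
theorem s0_f21666 : ed sl_gf sq1031 = s0_v2118 :=
  gap_rel s0_rot6 (path_edge (s0_f21664r IH) (path_nil s0_v2118))
theorem s0_f21666r : ed sl_gt s0_v2118 = sq1031 :=
  edge_flip (s0_f21666 IH)
theorem s0_f21667 : ed sl_et s0_v870 = s0_v2118 :=
  gap_rel s0_rot74 (path_edge (s0_f11942 IH) (path_edge (s0_f11925 IH) (path_edge (s0_f21666r IH) (path_nil s0_v2118))))
theorem s0_f22059 : ed sl_et sq1216 = sq1840 :=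
  real_edge rels S fwd inv o lvl plet idx 26 IH Gen.e sp1216 sp1840 rfl rfl
theorem s0_f23611 : ed sl_at sq1187 = s0_v2260 :=
  rfl
theorem s0_f23611r : ed sl_af s0_v2260 = sq1187 :=
  edge_flip (s0_f23611 IH)
theorem s0_f13329r : ed sl_cf sq1187 = sq761 :=
  edge_flip (s0_f13329 IH)
theorem s0_f4312r : ed sl_af sq761 = sq1189 :=
  edge_flip (s0_f4312 IH)
theorem s0_f23613 : ed sl_cf sq1189 = s0_v2260 :=
  gap_rel s0_rot2 (path_edge (s0_f4312r IH) (path_edge (s0_f13329r IH) (path_edge (s0_f23611r IH) (path_nil s0_v2260))))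
theorem s0_f23664 : ed sl_ft sq1189 = s0_v2268 :=
  rfl
theorem s0_f23677 : ed sl_ft sq1190 = s0_v2271 :=
  rfl
theorem s0_f23677r : ed sl_ff s0_v2271 = sq1190 :=
  edge_flip (s0_f23677 IH)
theorem s0_f23680 : ed sl_ff sq1190 = s0_v2271 :=
  gap_rel s0_rot12 (path_edge (s0_f23677r IH) (path_nil s0_v2271))
theorem s0_f23680r : ed sl_ft s0_v2271 = sq1190 :=
  edge_flip (s0_f23680 IH)
theorem s0_f23683 : ed sl_bt s0_v833 = s0_v2271 :=
  gap_rel s0_rot13 (path_edge (s0_f11481 IH) (path_edge (s0_f9961 IH) (path_edge (s0_f18589r IH) (path_edge (s0_f18595 IH) (path_edge (s0_f23680r IH) (path_nil s0_v2271))))))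
theorem s0_f24167 : ed sl_at sq1216 = s0_v2328 :=
  rfl
theorem s0_f24167r : ed sl_af s0_v2328 = sq1216 :=
  edge_flip (s0_f24167 IH)
theorem s0_f24168 : ed sl_af sq1216 = s0_v2328 :=
  gap_rel s0_rot0 (path_edge (s0_f24167r IH) (path_nil s0_v2328))
theorem s0_f24406 : ed sl_gt s0_v718 = s0_v2376 :=
  rfl
theorem s0_f24406r : ed sl_gf s0_v2376 = s0_v718 :=
  edge_flip (s0_f24406 IH)
theorem s0_f24409 : ed sl_ff s0_v720 = s0_v2376 :=
  gap_rel s0_rot21 (path_edge (s0_f9727 IH) (path_edge (s0_f9718r IH) (path_edge (s0_f9723 IH) (path_edge (s0_f24406r IH) (path_nil s0_v2376)))))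
theorem s0_f24409r : ed sl_ft s0_v2376 = s0_v720 :=
  edge_flip (s0_f24409 IH)
theorem s0_f24410 : ed sl_ft s0_v720 = s0_v2376 :=
  gap_rel s0_rot20 (path_edge (s0_f24409r IH) (path_nil s0_v2376))
theorem s0_f24446 : ed sl_gt s0_v723 = s0_v2385 :=
  rfl
theorem s0_f24446r : ed sl_gf s0_v2385 = s0_v723 :=
  edge_flip (s0_f24446 IH)
theorem s0_f24447 : ed sl_gf s0_v723 = s0_v2385 :=
  gap_rel s0_rot6 (path_edge (s0_f24446r IH) (path_nil s0_v2385))
theorem s0_f24512 : ed sl_gt s0_v732 = s0_v2401 :=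
  rfl
theorem s0_f24512r : ed sl_gf s0_v2401 = s0_v732 :=
  edge_flip (s0_f24512 IH)
theorem s0_f24515 : ed sl_gf s0_v732 = s0_v2401 :=
  gap_rel s0_rot6 (path_edge (s0_f24512r IH) (path_nil s0_v2401))
theorem s0_f25135 : ed sl_ct s0_v815 = s0_v2538 :=
  rfl
theorem s0_f25135r : ed sl_cf s0_v2538 = s0_v815 :=
  edge_flip (s0_f25135 IH)
theorem s0_f25137 : ed sl_cf s0_v815 = s0_v2538 :=
  gap_rel s0_rot31 (path_edge (s0_f25135r IH) (path_nil s0_v2538))
theorem s0_f11244r : ed sl_ff s0_v815 = sq658 :=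
  edge_flip (s0_f11244 IH)
theorem s0_f25138 : ed sl_ff s0_v859 = s0_v2538 :=
  gap_rel s0_rot11 (path_edge (s0_f11852 IH) (path_edge (s0_f11244r IH) (path_edge (s0_f25135r IH) (path_nil s0_v2538))))
theorem s0_f25138r : ed sl_ft s0_v2538 = s0_v859 :=
  edge_flip (s0_f25138 IH)
theorem s0_f25140 : ed sl_ft s0_v859 = s0_v2538 :=
  gap_rel s0_rot20 (path_edge (s0_f25138r IH) (path_nil s0_v2538))
theorem s0_f25206 : ed sl_bt s0_v825 = s0_v2555 :=
  rfl
theorem s0_f25210 : ed sl_ct s0_v825 = s0_v2556 :=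
  rfl
theorem s0_f25210r : ed sl_cf s0_v2556 = s0_v825 :=
  edge_flip (s0_f25210 IH)
theorem s0_f25212 : ed sl_cf s0_v825 = s0_v2556 :=
  gap_rel s0_rot31 (path_edge (s0_f25210r IH) (path_nil s0_v2556))
theorem s0_f11369r : ed sl_gf s0_v825 = sq664 :=
  edge_flip (s0_f11369 IH)
theorem s0_f25213 : ed sl_gf s0_v871 = s0_v2556 :=
  gap_rel s0_rot16 (path_edge (s0_f11946 IH) (path_edge (s0_f11369r IH) (path_edge (s0_f25210r IH) (path_nil s0_v2556))))
theorem s0_f25213r : ed sl_gt s0_v2556 = s0_v871 :=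
  edge_flip (s0_f25213 IH)
theorem s0_f25215 : ed sl_gt s0_v871 = s0_v2556 :=
  gap_rel s0_rot23 (path_edge (s0_f25213r IH) (path_nil s0_v2556))
theorem s0_f25240 : ed sl_ft s0_v829 = s0_v2564 :=
  rfl
theorem s0_f25240r : ed sl_ff s0_v2564 = s0_v829 :=
  edge_flip (s0_f25240 IH)
theorem s0_f25242 : ed sl_cf s0_v830 = s0_v2564 :=
  gap_rel s0_rot47 (path_edge (s0_f11429 IH) (path_edge (s0_f11419r IH) (path_edge (s0_f25240r IH) (path_nil s0_v2564))))
theorem s0_f25243 : ed sl_ff s0_v829 = s0_v2564 :=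
  gap_rel s0_rot12 (path_edge (s0_f25240r IH) (path_nil s0_v2564))
theorem s0_f25243r : ed sl_ft s0_v2564 = s0_v829 :=
  edge_flip (s0_f25243 IH)
theorem s0_f11420r : ed sl_at s0_v829 = sq623 :=
  edge_flip (s0_f11420 IH)
theorem s0_f25244 : ed sl_at s0_v833 = s0_v2564 :=
  gap_rel s0_rot18 (path_edge (s0_f11481 IH) (path_edge (s0_f11420r IH) (path_edge (s0_f25243r IH) (path_nil s0_v2564))))
theorem s0_f25261 : ed sl_gt s0_v833 = s0_v2569 :=
  rfl
theorem s0_f25261r : ed sl_gf s0_v2569 = s0_v833 :=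
  edge_flip (s0_f25261 IH)
theorem s0_f25263 : ed sl_gf s0_v833 = s0_v2569 :=
  gap_rel s0_rot6 (path_edge (s0_f25261r IH) (path_nil s0_v2569))
theorem s0_f25264 : ed sl_ff s0_v1485 = s0_v2569 :=
  gap_rel s0_rot21 (path_edge (s0_f16100 IH) (path_edge (s0_f25240r IH) (path_edge (s0_f25244 IH) (path_edge (s0_f25261r IH) (path_nil s0_v2569)))))
theorem s0_f25264r : ed sl_ft s0_v2569 = s0_v1485 :=
  edge_flip (s0_f25264 IH)
theorem s0_f25266 : ed sl_ft s0_v1485 = s0_v2569 :=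
  gap_rel s0_rot20 (path_edge (s0_f25264r IH) (path_nil s0_v2569))
theorem s0_f25267 : ed sl_bt s0_v834 = s0_v2570 :=
  rfl
theorem s0_f25267r : ed sl_bf s0_v2570 = s0_v834 :=
  edge_flip (s0_f25267 IH)
theorem s0_f25268 : ed sl_bf s0_v834 = s0_v2570 :=
  gap_rel s0_rot17 (path_edge (s0_f25267r IH) (path_nil s0_v2570))
theorem s0_f25269 : ed sl_ft s0_v834 = s0_v2571 :=
  rfl
theorem s0_f25269r : ed sl_ff s0_v2571 = s0_v834 :=
  edge_flip (s0_f25269 IH)
theorem s0_f25266r : ed sl_ff s0_v2569 = s0_v1485 :=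
  edge_flip (s0_f25266 IH)
theorem s0_f16102r : ed sl_gf s0_v1485 = s0_v829 :=
  edge_flip (s0_f16102 IH)
theorem s0_f25273 : ed sl_gf s0_v2564 = s0_v2571 :=
  gap_rel s0_rot24 (path_edge (s0_f25243 IH) (path_edge (s0_f16102r IH) (path_edge (s0_f25266r IH) (path_edge (s0_f25263 IH) (path_edge (s0_f11483 IH) (path_edge (s0_f11485r IH) (path_edge (s0_f25269r IH) (path_nil s0_v2571))))))))
theorem s0_f25273r : ed sl_gt s0_v2571 = s0_v2564 :=
  edge_flip (s0_f25273 IH)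
theorem s0_f25242r : ed sl_ct s0_v2564 = s0_v830 :=
  edge_flip (s0_f25242 IH)
theorem s0_f25275 : ed sl_ct s0_v1100 = s0_v2571 :=
  gap_rel s0_rot30 (path_edge (s0_f14316 IH) (path_edge (s0_f25242r IH) (path_edge (s0_f25273r IH) (path_nil s0_v2571))))
theorem s0_f25482 : ed sl_bt s0_v855 = s0_v2612 :=
  rfl
theorem s0_f25482r : ed sl_bf s0_v2612 = s0_v855 :=
  edge_flip (s0_f25482 IH)
theorem s0_f25484 : ed sl_bf s0_v855 = s0_v2612 :=
  gap_rel s0_rot17 (path_edge (s0_f25482r IH) (path_nil s0_v2612))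
theorem s0_f25484r : ed sl_bt s0_v2612 = s0_v855 :=
  edge_flip (s0_f25484 IH)
theorem s0_f11831r : ed sl_at s0_v855 = sq657 :=
  edge_flip (s0_f11831 IH)
theorem s0_f25485 : ed sl_at s0_v1373 = s0_v2612 :=
  gap_rel s0_rot41 (path_edge (s0_f15596 IH) (path_edge (s0_f8280 IH) (path_edge (s0_f3459 IH) (path_edge (s0_f1813 IH) (path_edge (s0_f388 IH) (path_edge (s0_f2763 IH) (path_edge (s0_f2764 IH) (path_edge (s0_f11831r IH) (path_edge (s0_f25484r IH) (path_nil s0_v2612))))))))))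
theorem s0_f25491 : ed sl_dt s0_v855 = s0_v2614 :=
  rfl
theorem s0_f25491r : ed sl_df s0_v2614 = s0_v855 :=
  edge_flip (s0_f25491 IH)
theorem s0_f25492 : ed sl_af s0_v857 = s0_v2614 :=
  gap_rel s0_rot43 (path_edge (s0_f11841 IH) (path_edge (s0_f11830r IH) (path_edge (s0_f25491r IH) (path_nil s0_v2614))))
theorem s0_f25493 : ed sl_df s0_v855 = s0_v2614 :=
  gap_rel s0_rot28 (path_edge (s0_f25491r IH) (path_nil s0_v2614))
theorem s0_f25494 : ed sl_ff s0_v2614 = s0_v2614 :=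
  gap_rel s0_rot29 (path_edge (s0_f25493 IH) (path_edge (s0_f11832 IH) (path_edge (s0_f25491r IH) (path_nil s0_v2614))))
theorem s0_f25494r : ed sl_ft s0_v2614 = s0_v2614 :=
  edge_flip (s0_f25494 IH)
theorem s0_f25492r : ed sl_at s0_v2614 = s0_v857 :=
  edge_flip (s0_f25492 IH)
theorem s0_f25495 : ed sl_at s0_v857 = s0_v2614 :=
  gap_rel s0_rot18 (path_edge (s0_f11842r IH) (path_edge (s0_f25492r IH) (path_edge (s0_f25494r IH) (path_nil s0_v2614))))
theorem s0_f25511 : ed sl_ct s0_v857 = s0_v2618 :=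
  rfl
theorem s0_f25511r : ed sl_cf s0_v2618 = s0_v857 :=
  edge_flip (s0_f25511 IH)
theorem s0_f25512 : ed sl_cf s0_v857 = s0_v2618 :=
  gap_rel s0_rot31 (path_edge (s0_f25511r IH) (path_nil s0_v2618))
theorem s0_f25513 : ed sl_ff s0_v2618 = s0_v2618 :=
  gap_rel s0_rot11 (path_edge (s0_f25512 IH) (path_edge (s0_f11842 IH) (path_edge (s0_f25511r IH) (path_nil s0_v2618))))
theorem s0_f25522 : ed sl_bt s0_v859 = s0_v2621 :=
  rfl
theorem s0_f25522r : ed sl_bf s0_v2621 = s0_v859 :=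
  edge_flip (s0_f25522 IH)
theorem s0_f25523 : ed sl_bf s0_v859 = s0_v2621 :=
  gap_rel s0_rot17 (path_edge (s0_f25522r IH) (path_nil s0_v2621))
theorem s0_f25575 : ed sl_ct s0_v866 = s0_v2634 :=
  rfl
theorem s0_f25575r : ed sl_cf s0_v2634 = s0_v866 :=
  edge_flip (s0_f25575 IH)
theorem s0_f25577 : ed sl_cf s0_v866 = s0_v2634 :=
  gap_rel s0_rot31 (path_edge (s0_f25575r IH) (path_nil s0_v2634))
theorem s0_f25577r : ed sl_ct s0_v2634 = s0_v866 :=
  edge_flip (s0_f25577 IH)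
theorem s0_f11924r : ed sl_at s0_v866 = sq663 :=
  edge_flip (s0_f11924 IH)
theorem s0_f25578 : ed sl_at s0_v867 = s0_v2634 :=
  gap_rel s0_rot44 (path_edge (s0_f11926 IH) (path_edge (s0_f11924r IH) (path_edge (s0_f25577r IH) (path_nil s0_v2634))))
theorem s0_f25579 : ed sl_dt s0_v866 = s0_v2635 :=
  rfl
theorem s0_f25579r : ed sl_df s0_v2635 = s0_v866 :=
  edge_flip (s0_f25579 IH)
theorem s0_f25580 : ed sl_af s0_v868 = s0_v2635 :=
  gap_rel s0_rot43 (path_edge (s0_f11933 IH) (path_edge (s0_f11923r IH) (path_edge (s0_f25579r IH) (path_nil s0_v2635))))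
theorem s0_f25581 : ed sl_df s0_v866 = s0_v2635 :=
  gap_rel s0_rot28 (path_edge (s0_f25579r IH) (path_nil s0_v2635))
theorem s0_f25595 : ed sl_ft s0_v867 = s0_v2639 :=
  rfl
theorem s0_f25595r : ed sl_ff s0_v2639 = s0_v867 :=
  edge_flip (s0_f25595 IH)
theorem s0_f25597 : ed sl_ff s0_v867 = s0_v2639 :=
  gap_rel s0_rot12 (path_edge (s0_f25595r IH) (path_nil s0_v2639))
theorem s0_f25603 : ed sl_ct s0_v868 = s0_v2641 :=
  rfl
theorem s0_f25603r : ed sl_cf s0_v2641 = s0_v868 :=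
  edge_flip (s0_f25603 IH)
theorem s0_f25604 : ed sl_cf s0_v868 = s0_v2641 :=
  gap_rel s0_rot31 (path_edge (s0_f25603r IH) (path_nil s0_v2641))
theorem s0_f25609 : ed sl_gt s0_v868 = s0_v2643 :=
  rfl
theorem s0_f25609r : ed sl_gf s0_v2643 = s0_v868 :=
  edge_flip (s0_f25609 IH)
theorem s0_f25611 : ed sl_gf s0_v868 = s0_v2643 :=
  gap_rel s0_rot6 (path_edge (s0_f25609r IH) (path_nil s0_v2643))
theorem s0_f25611r : ed sl_gt s0_v2643 = s0_v868 :=
  edge_flip (s0_f25611 IH)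
theorem s0_f25612 : ed sl_dt s0_v870 = s0_v2643 :=
  gap_rel s0_rot7 (path_edge (s0_f11942 IH) (path_edge (s0_f11933r IH) (path_edge (s0_f25611r IH) (path_nil s0_v2643))))
theorem s0_f25613 : ed sl_bt s0_v869 = s0_v2644 :=
  rfl
theorem s0_f25613r : ed sl_bf s0_v2644 = s0_v869 :=
  edge_flip (s0_f25613 IH)
theorem s0_f11940r : ed sl_ff s0_v869 = sq663 :=
  edge_flip (s0_f11940 IH)
theorem s0_f2126r : ed sl_bf sq663 = sq404 :=
  edge_flip (s0_f2126 IH)
theorem s0_f25615 : ed sl_ff s0_v873 = s0_v2644 :=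
  gap_rel s0_rot49 (path_edge (s0_f11958 IH) (path_edge (s0_f3376r IH) (path_edge (s0_f2126r IH) (path_edge (s0_f11940r IH) (path_edge (s0_f25613r IH) (path_nil s0_v2644))))))
theorem s0_f25615r : ed sl_ft s0_v2644 = s0_v873 :=
  edge_flip (s0_f25615 IH)
theorem s0_f25616 : ed sl_ft s0_v873 = s0_v2644 :=
  gap_rel s0_rot20 (path_edge (s0_f25615r IH) (path_nil s0_v2644))
theorem s0_f25625 : ed sl_ft s0_v870 = s0_v2647 :=
  rfl
theorem s0_f25625r : ed sl_ff s0_v2647 = s0_v870 :=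
  edge_flip (s0_f25625 IH)
theorem s0_f25627 : ed sl_ff s0_v870 = s0_v2647 :=
  gap_rel s0_rot12 (path_edge (s0_f25625r IH) (path_nil s0_v2647))
theorem s0_f25631 : ed sl_bt s0_v871 = s0_v2648 :=
  rfl
theorem s0_f25631r : ed sl_bf s0_v2648 = s0_v871 :=
  edge_flip (s0_f25631 IH)
theorem s0_f25632 : ed sl_bf s0_v871 = s0_v2648 :=
  gap_rel s0_rot17 (path_edge (s0_f25631r IH) (path_nil s0_v2648))
theorem s0_f25645 : ed sl_at s0_v873 = s0_v2651 :=
  rfl
theorem s0_f25645r : ed sl_af s0_v2651 = s0_v873 :=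
  edge_flip (s0_f25645 IH)
theorem s0_f25646 : ed sl_af s0_v873 = s0_v2651 :=
  gap_rel s0_rot0 (path_edge (s0_f25645r IH) (path_nil s0_v2651))
theorem s0_f25647 : ed sl_ct s0_v873 = s0_v2652 :=
  rfl
theorem s0_f25647r : ed sl_cf s0_v2652 = s0_v873 :=
  edge_flip (s0_f25647 IH)
theorem s0_f3283r : ed sl_cf sq665 = sq405 :=
  edge_flip (s0_f3283 IH)
theorem s0_f25648 : ed sl_bf s0_v1140 = s0_v2652 :=
  gap_rel s0_rot69 (path_edge (s0_f14497 IH) (path_edge (s0_f6637 IH) (path_edge (s0_f3283r IH) (path_edge (s0_f11957r IH) (path_edge (s0_f25647r IH) (path_nil s0_v2652))))))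
theorem s0_f25649 : ed sl_cf s0_v873 = s0_v2652 :=
  gap_rel s0_rot31 (path_edge (s0_f25647r IH) (path_nil s0_v2652))
theorem s0_f25651 : ed sl_gt s0_v873 = s0_v2653 :=
  rfl
theorem s0_f25651r : ed sl_gf s0_v2653 = s0_v873 :=
  edge_flip (s0_f25651 IH)
theorem s0_f25652 : ed sl_gf s0_v873 = s0_v2653 :=
  gap_rel s0_rot6 (path_edge (s0_f25651r IH) (path_nil s0_v2653))
theorem s0_f26367 : ed sl_bt s0_v956 = s0_v2785 :=
  rfl
theorem s0_f26367r : ed sl_bf s0_v2785 = s0_v956 :=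
  edge_flip (s0_f26367 IH)
theorem s0_f26368 : ed sl_bf s0_v956 = s0_v2785 :=
  gap_rel s0_rot17 (path_edge (s0_f26367r IH) (path_nil s0_v2785))
theorem s0_f7711r : ed sl_bf sq754 = sq754 :=
  edge_flip (s0_f7711 IH)
theorem s0_f26370 : ed sl_gf s0_v2785 = s0_v2785 :=
  gap_rel s0_rot50 (path_edge (s0_f26368 IH) (path_edge (s0_f13244 IH) (path_edge (s0_f7711r IH) (path_edge (s0_f13241r IH) (path_edge (s0_f26367r IH) (path_nil s0_v2785))))))
theorem s0_f26652 : ed sl_bt s0_v997 = s0_v2844 :=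
  rfl
theorem s0_f26658 : ed sl_ft s0_v997 = s0_v2846 :=
  rfl
theorem s0_f26658r : ed sl_ff s0_v2846 = s0_v997 :=
  edge_flip (s0_f26658 IH)
theorem s0_f26659 : ed sl_af s0_v999 = s0_v2846 :=
  gap_rel s0_rot58 (path_edge (s0_f13744 IH) (path_edge (s0_f13734r IH) (path_edge (s0_f26658r IH) (path_nil s0_v2846))))
theorem s0_f26660 : ed sl_ff s0_v997 = s0_v2846 :=
  gap_rel s0_rot12 (path_edge (s0_f26658r IH) (path_nil s0_v2846))
theorem s0_f26659r : ed sl_at s0_v2846 = s0_v999 :=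
  edge_flip (s0_f26659 IH)
theorem s0_f13744r : ed sl_ft s0_v999 = sq780 :=
  edge_flip (s0_f13744 IH)
theorem s0_f7741r : ed sl_ct s0_v381 = s0_v143 :=
  edge_flip (s0_f7741 IH)
theorem s0_f11432r : ed sl_at s0_v831 = s0_v306 :=
  edge_flip (s0_f11432 IH)
theorem s0_f26662 : ed sl_bt s0_v2571 = s0_v2846 :=
  gap_rel s0_rot75 (path_edge (s0_f25275 IH) (path_edge (s0_f14311 IH) (path_edge (s0_f11432r IH) (path_eq (s0_f14306 IH) (path_edge (s0_f8557 IH) (path_edge (s0_f7741r IH) (path_edge (s0_f7739 IH) (path_edge (s0_f4247 IH) (path_edge (s0_f1270 IH) (path_edge (s0_f1213 IH) (path_edge (s0_f2248 IH) (path_edge (s0_f4376 IH) (path_edge (s0_f4444 IH) (path_edge (s0_f2428 IH) (path_edge (s0_f4464 IH) (path_edge (s0_f2462 IH) (path_edge (s0_f4409 IH) (path_edge (s0_f7744 IH) (path_edge (s0_f13744r IH) (path_edge (s0_f26659r IH) (path_nil s0_v2846)))))))))))))))))))))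
theorem s0_f26652r : ed sl_bf s0_v2844 = s0_v997 :=
  edge_flip (s0_f26652 IH)
theorem s0_f26662r : ed sl_bf s0_v2846 = s0_v2571 :=
  edge_flip (s0_f26662 IH)
theorem s0_f26664 : ed sl_ff s0_v2570 = s0_v2844 :=
  gap_rel s0_rot49 (path_edge (s0_f25268 IH) (path_edge (s0_f25269r IH) (path_edge (s0_f26662r IH) (path_edge (s0_f26660 IH) (path_edge (s0_f26652r IH) (path_nil s0_v2844))))))
theorem s0_f26664r : ed sl_ft s0_v2844 = s0_v2570 :=
  edge_flip (s0_f26664 IH)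
theorem s0_f26665 : ed sl_ft s0_v2570 = s0_v2844 :=
  gap_rel s0_rot20 (path_edge (s0_f26664r IH) (path_nil s0_v2844))

end

end

end Cfsg.Agent.Helper28.S1681
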