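import Cfsg.Agent.Lib.Helper28.S1681.Seeds2

set_option autoImplicit false
set_option maxRecDepth 100000
set_option linter.all false

namespace Cfsg.Agent.Helper28.S1681

open Cfsg.Agent.Helper28
open Cfsg.Spor.Suz (Gen)

noncomputable section

section
variable (IH : ∀ y q, lvl y q < 26 → EntryOK rels S fwd inv o plet idx y q)
include IH

theorem s0_f26738 : ed sl_bt s0_v1006 = s0_v2864 :=
  rfl
theorem s0_f26738r : ed sl_bf s0_v2864 = s0_v1006 :=
  edge_flip (s0_f26738 IH)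
theorem s0_f26739 : ed sl_bf s0_v1006 = s0_v2864 :=
  gap_rel s0_rot17 (path_edge (s0_f26738r IH) (path_nil s0_v2864))
theorem s0_f27289 : ed sl_bt s0_v1059 = s0_v2973 :=
  rfl
theorem s0_f27336 : ed sl_at s0_v1063 = s0_v2984 :=
  rfl
theorem s0_f27336r : ed sl_af s0_v2984 = s0_v1063 :=
  edge_flip (s0_f27336 IH)
theorem s0_f27337 : ed sl_af s0_v1063 = s0_v2984 :=
  gap_rel s0_rot0 (path_edge (s0_f27336r IH) (path_nil s0_v2984))
theorem s0_f14106r : ed sl_ff s0_v1063 = s0_v285 :=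
  edge_flip (s0_f14106 IH)
theorem s0_f27339 : ed sl_ff s0_v1072 = s0_v2984 :=
  gap_rel s0_rot1 (path_edge (s0_f14157 IH) (path_edge (s0_f14106r IH) (path_edge (s0_f27336r IH) (path_nil s0_v2984))))
theorem s0_f27339r : ed sl_ft s0_v2984 = s0_v1072 :=
  edge_flip (s0_f27339 IH)
theorem s0_f14158r : ed sl_dt s0_v1072 = s0_v435 :=
  edge_flip (s0_f14158 IH)
theorem s0_f27340 : ed sl_dt s0_v1326 = s0_v2984 :=
  gap_rel s0_rot5 (path_edge (s0_f15379 IH) (path_edge (s0_f14158r IH) (path_edge (s0_f27339r IH) (path_nil s0_v2984))))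
theorem s0_f27340r : ed sl_df s0_v2984 = s0_v1326 :=
  edge_flip (s0_f27340 IH)
theorem s0_f15413r : ed sl_bf s0_v1326 = s0_v617 :=
  edge_flip (s0_f15413 IH)
theorem s0_f27342 : ed sl_bf s0_v1542 = s0_v2984 :=
  gap_rel s0_rot45 (path_edge (s0_f16375 IH) (path_edge (s0_f15413r IH) (path_edge (s0_f27340r IH) (path_nil s0_v2984))))
theorem s0_f27337r : ed sl_at s0_v2984 = s0_v1063 :=
  edge_flip (s0_f27337 IH)
theorem s0_f14102r : ed sl_bt s0_v1063 = s0_v280 :=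
  edge_flip (s0_f14102 IH)
theorem s0_f27342r : ed sl_bt s0_v2984 = s0_v1542 :=
  edge_flip (s0_f27342 IH)
theorem s0_f16374r : ed sl_at s0_v1542 = s0_v553 :=
  edge_flip (s0_f16374 IH)
theorem s0_f27343 : ed sl_bt s0_v1542 = s0_v2984 :=
  gap_rel s0_rot66 (path_edge (s0_f16377 IH) (path_edge (s0_f8768 IH) (path_edge (s0_f16374r IH) (path_edge (s0_f27342r IH) (path_edge (s0_f27336 IH) (path_edge (s0_f14101 IH) (path_edge (s0_f5740 IH) (path_edge (s0_f14102r IH) (path_edge (s0_f27337r IH) (path_nil s0_v2984))))))))))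
theorem s0_f27407 : ed sl_at s0_v1069 = s0_v2998 :=
  rfl
theorem s0_f27407r : ed sl_af s0_v2998 = s0_v1069 :=
  edge_flip (s0_f27407 IH)
theorem s0_f14141r : ed sl_ef s0_v1069 = s0_v432 :=
  edge_flip (s0_f14141 IH)
theorem s0_f27409 : ed sl_ef s0_v1326 = s0_v2998 :=
  gap_rel s0_rot8 (path_edge (s0_f15377 IH) (path_edge (s0_f14141r IH) (path_edge (s0_f27407r IH) (path_nil s0_v2998))))
theorem s0_f14142r : ed sl_ff s0_v1069 = s0_v287 :=
  edge_flip (s0_f14142 IH)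
theorem s0_f27410 : ed sl_ff s0_v1078 = s0_v2998 :=
  gap_rel s0_rot1 (path_edge (s0_f14183 IH) (path_edge (s0_f14142r IH) (path_edge (s0_f27407r IH) (path_nil s0_v2998))))
theorem s0_f27410r : ed sl_ft s0_v2998 = s0_v1078 :=
  edge_flip (s0_f27410 IH)
theorem s0_f14184r : ed sl_et s0_v1078 = s0_v435 :=
  edge_flip (s0_f14184 IH)
theorem s0_f27411 : ed sl_et s0_v1326 = s0_v2998 :=
  gap_rel s0_rot9 (path_edge (s0_f15379 IH) (path_edge (s0_f14184r IH) (path_edge (s0_f27410r IH) (path_nil s0_v2998))))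
theorem s0_f27411r : ed sl_ef s0_v2998 = s0_v1326 :=
  edge_flip (s0_f27411 IH)
theorem s0_f27413 : ed sl_bf s0_v1564 = s0_v2998 :=
  gap_rel s0_rot71 (path_edge (s0_f16481 IH) (path_edge (s0_f15413r IH) (path_edge (s0_f27411r IH) (path_nil s0_v2998))))
theorem s0_f27421 : ed sl_gt s0_v1069 = s0_v3000 :=
  rfl
theorem s0_f27421r : ed sl_gf s0_v3000 = s0_v1069 :=
  edge_flip (s0_f27421 IH)
theorem s0_f27423 : ed sl_gf s0_v1069 = s0_v3000 :=
  gap_rel s0_rot6 (path_edge (s0_f27421r IH) (path_nil s0_v3000))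
theorem s0_f27447 : ed sl_bt s0_v1072 = s0_v3005 :=
  rfl
theorem s0_f27447r : ed sl_bf s0_v3005 = s0_v1072 :=
  edge_flip (s0_f27447 IH)
theorem s0_f27448 : ed sl_bf s0_v1072 = s0_v3005 :=
  gap_rel s0_rot17 (path_edge (s0_f27447r IH) (path_nil s0_v3005))
theorem s0_f27343r : ed sl_bf s0_v2984 = s0_v1542 :=
  edge_flip (s0_f27343 IH)
theorem s0_f27450 : ed sl_ff s0_v1101 = s0_v3005 :=
  gap_rel s0_rot49 (path_edge (s0_f14323 IH) (path_edge (s0_f16373r IH) (path_edge (s0_f27343r IH) (path_edge (s0_f27339 IH) (path_edge (s0_f27447r IH) (path_nil s0_v3005))))))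
theorem s0_f27450r : ed sl_ft s0_v3005 = s0_v1101 :=
  edge_flip (s0_f27450 IH)
theorem s0_f14322r : ed sl_at s0_v1101 = s0_v307 :=
  edge_flip (s0_f14322 IH)
theorem s0_f27451 : ed sl_at s0_v1103 = s0_v3005 :=
  gap_rel s0_rot18 (path_edge (s0_f14329 IH) (path_edge (s0_f14322r IH) (path_edge (s0_f27450r IH) (path_nil s0_v3005))))
theorem s0_f27453 : ed sl_ft s0_v1101 = s0_v3005 :=
  gap_rel s0_rot20 (path_edge (s0_f27450r IH) (path_nil s0_v3005))
theorem s0_f27539 : ed sl_gt s0_v1078 = s0_v3019 :=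
  rfl
theorem s0_f27539r : ed sl_gf s0_v3019 = s0_v1078 :=
  edge_flip (s0_f27539 IH)
theorem s0_f14183r : ed sl_at s0_v1078 = s0_v287 :=
  edge_flip (s0_f14183 IH)
theorem s0_f27543 : ed sl_ff s0_v3000 = s0_v3019 :=
  gap_rel s0_rot21 (path_edge (s0_f27423 IH) (path_edge (s0_f14140 IH) (path_edge (s0_f14183r IH) (path_edge (s0_f27539r IH) (path_nil s0_v3019)))))
theorem s0_f27557 : ed sl_ft s0_v1080 = s0_v3022 :=
  rfl
theorem s0_f27557r : ed sl_ff s0_v3022 = s0_v1080 :=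
  edge_flip (s0_f27557 IH)
theorem s0_f14190r : ed sl_gf s0_v1080 = s0_v287 :=
  edge_flip (s0_f14190 IH)
theorem s0_f27561 : ed sl_gf s0_v2998 = s0_v3022 :=
  gap_rel s0_rot24 (path_edge (s0_f27410 IH) (path_edge (s0_f27539r IH) (path_edge (s0_f27543 IH) (path_edge (s0_f27423 IH) (path_edge (s0_f14140 IH) (path_edge (s0_f14190r IH) (path_edge (s0_f27557r IH) (path_nil s0_v3022))))))))
theorem s0_f27561r : ed sl_gt s0_v3022 = s0_v2998 :=
  edge_flip (s0_f27561 IH)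
theorem s0_f27409r : ed sl_et s0_v2998 = s0_v1326 :=
  edge_flip (s0_f27409 IH)
theorem s0_f27563 : ed sl_et s0_v1338 = s0_v3022 :=
  gap_rel s0_rot74 (path_edge (s0_f15429 IH) (path_edge (s0_f27409r IH) (path_edge (s0_f27561r IH) (path_nil s0_v3022))))
theorem s0_f27563r : ed sl_ef s0_v3022 = s0_v1338 :=
  edge_flip (s0_f27563 IH)
theorem s0_f27565 : ed sl_bf s0_v1476 = s0_v3022 :=
  gap_rel s0_rot71 (path_edge (s0_f16048 IH) (path_edge (s0_f16114 IH) (path_edge (s0_f27563r IH) (path_nil s0_v3022))))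
theorem s0_f27565r : ed sl_bt s0_v3022 = s0_v1476 :=
  edge_flip (s0_f27565 IH)
theorem s0_f27566 : ed sl_bt s0_v1476 = s0_v3022 :=
  gap_rel s0_rot54 (path_edge (s0_f27565r IH) (path_nil s0_v3022))
theorem s0_f27609 : ed sl_at s0_v1084 = s0_v3029 :=
  rfl
theorem s0_f27609r : ed sl_af s0_v3029 = s0_v1084 :=
  edge_flip (s0_f27609 IH)
theorem s0_f3189r : ed sl_bf sq363 = sq207 :=
  edge_flip (s0_f3189 IH)
theorem s0_f5805r : ed sl_af sq207 = sq355 :=
  edge_flip (s0_f5805 IH)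
theorem s0_f27451r : ed sl_af s0_v3005 = s0_v1103 :=
  edge_flip (s0_f27451 IH)
theorem s0_f27611 : ed sl_bf s0_v1103 = s0_v3029 :=
  gap_rel s0_rot53 (path_edge (s0_f27451r IH) (path_edge (s0_f27448 IH) (path_edge (s0_f14157 IH) (path_edge (s0_f5807 IH) (path_edge (s0_f5805r IH) (path_edge (s0_f3189r IH) (path_edge (s0_f5916r IH) (path_edge (s0_f14210r IH) (path_edge (s0_f27609r IH) (path_nil s0_v3029))))))))))
theorem s0_f14213r : ed sl_df s0_v1084 = s0_v441 :=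
  edge_flip (s0_f14213 IH)
theorem s0_f27612 : ed sl_df s0_v1345 = s0_v3029 :=
  gap_rel s0_rot4 (path_edge (s0_f15463 IH) (path_edge (s0_f14213r IH) (path_edge (s0_f27609r IH) (path_nil s0_v3029))))
theorem s0_f27612r : ed sl_dt s0_v3029 = s0_v1345 :=
  edge_flip (s0_f27612 IH)
theorem s0_f27614 : ed sl_dt s0_v1345 = s0_v3029 :=
  gap_rel s0_rot37 (path_edge (s0_f27612r IH) (path_nil s0_v3029))
theorem s0_f15466r : ed sl_ft s0_v1345 = s0_v441 :=
  edge_flip (s0_f15466 IH)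
theorem s0_f27615 : ed sl_ft s0_v1084 = s0_v3029 :=
  gap_rel s0_rot76 (path_edge (s0_f14213 IH) (path_edge (s0_f15466r IH) (path_edge (s0_f27612r IH) (path_nil s0_v3029))))
theorem s0_f27615r : ed sl_ff s0_v3029 = s0_v1084 :=
  edge_flip (s0_f27615 IH)
theorem s0_f27616 : ed sl_ff s0_v1084 = s0_v3029 :=
  gap_rel s0_rot12 (path_edge (s0_f27615r IH) (path_nil s0_v3029))
theorem s0_f27619 : ed sl_gt s0_v1084 = s0_v3031 :=
  rfl
theorem s0_f27619r : ed sl_gf s0_v3031 = s0_v1084 :=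
  edge_flip (s0_f27619 IH)
theorem s0_f27621 : ed sl_gf s0_v1084 = s0_v3031 :=
  gap_rel s0_rot6 (path_edge (s0_f27619r IH) (path_nil s0_v3031))
theorem s0_f27622 : ed sl_ff s0_v3031 = s0_v3031 :=
  gap_rel s0_rot21 (path_edge (s0_f27621 IH) (path_edge (s0_f27615r IH) (path_edge (s0_f27609 IH) (path_edge (s0_f27619r IH) (path_nil s0_v3031)))))
theorem s0_f27634 : ed sl_ct s0_v1086 = s0_v3034 :=
  rfl
theorem s0_f27634r : ed sl_cf s0_v3034 = s0_v1086 :=
  edge_flip (s0_f27634 IH)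
theorem s0_f27636 : ed sl_cf s0_v1086 = s0_v3034 :=
  gap_rel s0_rot31 (path_edge (s0_f27634r IH) (path_nil s0_v3034))
theorem s0_f27638 : ed sl_ff s0_v1107 = s0_v3034 :=
  gap_rel s0_rot11 (path_edge (s0_f14344 IH) (path_edge (s0_f14223r IH) (path_edge (s0_f27634r IH) (path_nil s0_v3034))))
theorem s0_f27638r : ed sl_ft s0_v3034 = s0_v1107 :=
  edge_flip (s0_f27638 IH)
theorem s0_f27640 : ed sl_dt s0_v2538 = s0_v3034 :=
  gap_rel s0_rot5 (path_edge (s0_f25140 IH) (path_edge (s0_f14345r IH) (path_edge (s0_f27638r IH) (path_nil s0_v3034))))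
theorem s0_f27681 : ed sl_ct s0_v1090 = s0_v3043 :=
  rfl
theorem s0_f27681r : ed sl_cf s0_v3043 = s0_v1090 :=
  edge_flip (s0_f27681 IH)
theorem s0_f27683 : ed sl_cf s0_v1090 = s0_v3043 :=
  gap_rel s0_rot31 (path_edge (s0_f27681r IH) (path_nil s0_v3043))
theorem s0_f27685 : ed sl_gf s0_v1119 = s0_v3043 :=
  gap_rel s0_rot16 (path_edge (s0_f14394 IH) (path_edge (s0_f14244r IH) (path_edge (s0_f27681r IH) (path_nil s0_v3043))))
theorem s0_f27685r : ed sl_gt s0_v3043 = s0_v1119 :=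
  edge_flip (s0_f27685 IH)
theorem s0_f27687 : ed sl_dt s0_v2556 = s0_v3043 :=
  gap_rel s0_rot7 (path_edge (s0_f25215 IH) (path_edge (s0_f14395r IH) (path_edge (s0_f27685r IH) (path_nil s0_v3043))))
theorem s0_f27757 : ed sl_gt s0_v1098 = s0_v3058 :=
  rfl
theorem s0_f27757r : ed sl_gf s0_v3058 = s0_v1098 :=
  edge_flip (s0_f27757 IH)
theorem s0_f6285r : ed sl_gf s0_v304 = sq665 :=
  edge_flip (s0_f6285 IH)
theorem s0_f27759 : ed sl_bf s0_v2653 = s0_v3058 :=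
  gap_rel s0_rot32 (path_edge (s0_f25652 IH) (path_edge (s0_f11958 IH) (path_edge (s0_f6285r IH) (path_edge (s0_f14300r IH) (path_edge (s0_f27757r IH) (path_nil s0_v3058))))))
theorem s0_f18570r : ed sl_gf s0_v1911 = sq1187 :=
  edge_flip (s0_f18570 IH)
theorem s0_f27762 : ed sl_ff s0_v2260 = s0_v3058 :=
  gap_rel s0_rot77 (path_edge (s0_f23611 IH) (path_edge (s0_f18570r IH) (path_edge (s0_f18566 IH) (path_edge (s0_f27757r IH) (path_nil s0_v3058)))))
theorem s0_f27762r : ed sl_ft s0_v3058 = s0_v2260 :=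
  edge_flip (s0_f27762 IH)
theorem s0_f23613r : ed sl_ct s0_v2260 = sq1189 :=
  edge_flip (s0_f23613 IH)
theorem s0_f27764 : ed sl_ct s0_v2268 = s0_v3058 :=
  gap_rel s0_rot27 (path_edge (s0_f23664 IH) (path_edge (s0_f23613r IH) (path_edge (s0_f27762r IH) (path_nil s0_v3058))))
theorem s0_f27771 : ed sl_gt s0_v1101 = s0_v3060 :=
  rfl
theorem s0_f27771r : ed sl_gf s0_v3060 = s0_v1101 :=
  edge_flip (s0_f27771 IH)
theorem s0_f14326r : ed sl_df s0_v1101 = s0_v443 :=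
  edge_flip (s0_f14326 IH)
theorem s0_f27773 : ed sl_df s0_v1351 = s0_v3060 :=
  gap_rel s0_rot78 (path_edge (s0_f15490 IH) (path_edge (s0_f14326r IH) (path_edge (s0_f27771r IH) (path_nil s0_v3060))))
theorem s0_f27774 : ed sl_gf s0_v1101 = s0_v3060 :=
  gap_rel s0_rot6 (path_edge (s0_f27771r IH) (path_nil s0_v3060))
theorem s0_f27791 : ed sl_gt s0_v1103 = s0_v3065 :=
  rfl
theorem s0_f27791r : ed sl_gf s0_v3065 = s0_v1103 :=
  edge_flip (s0_f27791 IH)
theorem s0_f27453r : ed sl_ff s0_v3005 = s0_v1101 :=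
  edge_flip (s0_f27453 IH)
theorem s0_f27794 : ed sl_ff s0_v3060 = s0_v3065 :=
  gap_rel s0_rot21 (path_edge (s0_f27774 IH) (path_edge (s0_f27453r IH) (path_edge (s0_f27451 IH) (path_edge (s0_f27791r IH) (path_nil s0_v3065)))))
theorem s0_f27794r : ed sl_ft s0_v3065 = s0_v3060 :=
  edge_flip (s0_f27794 IH)
theorem s0_f27773r : ed sl_dt s0_v3060 = s0_v1351 :=
  edge_flip (s0_f27773 IH)
theorem s0_f27795 : ed sl_dt s0_v1355 = s0_v3065 :=
  gap_rel s0_rot5 (path_edge (s0_f15506 IH) (path_edge (s0_f27773r IH) (path_edge (s0_f27794r IH) (path_nil s0_v3065))))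
theorem s0_f27795r : ed sl_df s0_v3065 = s0_v1355 :=
  edge_flip (s0_f27795 IH)
theorem s0_f27797 : ed sl_bf s0_v1553 = s0_v3065 :=
  gap_rel s0_rot45 (path_edge (s0_f16427 IH) (path_edge (s0_f15507r IH) (path_edge (s0_f27795r IH) (path_nil s0_v3065))))
theorem s0_f27797r : ed sl_bt s0_v3065 = s0_v1553 :=
  edge_flip (s0_f27797 IH)
theorem s0_f27798 : ed sl_bt s0_v1553 = s0_v3065 :=
  gap_rel s0_rot54 (path_edge (s0_f27797r IH) (path_nil s0_v3065))
theorem s0_f27823 : ed sl_bt s0_v1107 = s0_v3072 :=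
  rfl
theorem s0_f27823r : ed sl_bf s0_v3072 = s0_v1107 :=
  edge_flip (s0_f27823 IH)
theorem s0_f27825 : ed sl_cf s0_v1422 = s0_v3072 :=
  gap_rel s0_rot52 (path_edge (s0_f15800 IH) (path_edge (s0_f8423 IH) (path_edge (s0_f6378r IH) (path_edge (s0_f14343r IH) (path_edge (s0_f27823r IH) (path_nil s0_v3072))))))
theorem s0_f14346r : ed sl_df s0_v1107 = s0_v859 :=
  edge_flip (s0_f14346 IH)
theorem s0_f27826 : ed sl_df s0_v2621 = s0_v3072 :=
  gap_rel s0_rot36 (path_edge (s0_f25523 IH) (path_edge (s0_f14346r IH) (path_edge (s0_f27823r IH) (path_nil s0_v3072))))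
theorem s0_f27826r : ed sl_dt s0_v3072 = s0_v2621 :=
  edge_flip (s0_f27826 IH)
theorem s0_f27827 : ed sl_dt s0_v2621 = s0_v3072 :=
  gap_rel s0_rot37 (path_edge (s0_f27826r IH) (path_nil s0_v3072))
theorem s0_f27825r : ed sl_ct s0_v3072 = s0_v1422 :=
  edge_flip (s0_f27825 IH)
theorem s0_f27828 : ed sl_ct s0_v1422 = s0_v3072 :=
  gap_rel s0_rot79 (path_edge (s0_f27825r IH) (path_nil s0_v3072))
theorem s0_f27863 : ed sl_ft s0_v1110 = s0_v3079 :=
  rfl
theorem s0_f27863r : ed sl_ff s0_v3079 = s0_v1110 :=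
  edge_flip (s0_f27863 IH)
theorem s0_f27864 : ed sl_ff s0_v1110 = s0_v3079 :=
  gap_rel s0_rot12 (path_edge (s0_f27863r IH) (path_nil s0_v3079))
theorem s0_f27881 : ed sl_ft s0_v1113 = s0_v3084 :=
  rfl
theorem s0_f27881r : ed sl_ff s0_v3084 = s0_v1113 :=
  edge_flip (s0_f27881 IH)
theorem s0_f27882 : ed sl_af s0_v1115 = s0_v3084 :=
  gap_rel s0_rot58 (path_edge (s0_f14381 IH) (path_edge (s0_f14371r IH) (path_edge (s0_f27881r IH) (path_nil s0_v3084))))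
theorem s0_f27885 : ed sl_ff s0_v1113 = s0_v3084 :=
  gap_rel s0_rot12 (path_edge (s0_f27881r IH) (path_nil s0_v3084))
theorem s0_f27885r : ed sl_ft s0_v3084 = s0_v1113 :=
  edge_flip (s0_f27885 IH)
theorem s0_f14373r : ed sl_bt s0_v1113 = s0_v556 :=
  edge_flip (s0_f14373 IH)
theorem s0_f27887 : ed sl_bt s0_v3060 = s0_v3084 :=
  gap_rel s0_rot13 (path_edge (s0_f27794r IH) (path_edge (s0_f27798 IH) (path_edge (s0_f16425 IH) (path_edge (s0_f14373r IH) (path_edge (s0_f27885r IH) (path_nil s0_v3084))))))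
theorem s0_f27895 : ed sl_ft s0_v1114 = s0_v3087 :=
  rfl
theorem s0_f27895r : ed sl_ff s0_v3087 = s0_v1114 :=
  edge_flip (s0_f27895 IH)
theorem s0_f27897 : ed sl_ff s0_v1114 = s0_v3087 :=
  gap_rel s0_rot12 (path_edge (s0_f27895r IH) (path_nil s0_v3087))
theorem s0_f27897r : ed sl_ft s0_v3087 = s0_v1114 :=
  edge_flip (s0_f27897 IH)
theorem s0_f14378r : ed sl_ct s0_v1114 = s0_v312 :=
  edge_flip (s0_f14378 IH)
theorem s0_f27898 : ed sl_ct s0_v1115 = s0_v3087 :=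
  gap_rel s0_rot27 (path_edge (s0_f14379 IH) (path_edge (s0_f14378r IH) (path_edge (s0_f27897r IH) (path_nil s0_v3087))))
theorem s0_f27935 : ed sl_bt s0_v1119 = s0_v3096 :=
  rfl
theorem s0_f27935r : ed sl_bf s0_v3096 = s0_v1119 :=
  edge_flip (s0_f27935 IH)
theorem s0_f27937 : ed sl_cf s0_v1444 = s0_v3096 :=
  gap_rel s0_rot52 (path_edge (s0_f15900 IH) (path_edge (s0_f8473 IH) (path_edge (s0_f6462r IH) (path_edge (s0_f14393r IH) (path_edge (s0_f27935r IH) (path_nil s0_v3096))))))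
theorem s0_f14396r : ed sl_df s0_v1119 = s0_v871 :=
  edge_flip (s0_f14396 IH)
theorem s0_f27938 : ed sl_df s0_v2648 = s0_v3096 :=
  gap_rel s0_rot36 (path_edge (s0_f25632 IH) (path_edge (s0_f14396r IH) (path_edge (s0_f27935r IH) (path_nil s0_v3096))))
theorem s0_f27937r : ed sl_ct s0_v3096 = s0_v1444 :=
  edge_flip (s0_f27937 IH)
theorem s0_f27940 : ed sl_ct s0_v1444 = s0_v3096 :=
  gap_rel s0_rot79 (path_edge (s0_f27937r IH) (path_nil s0_v3096))
theorem s0_f27971 : ed sl_at s0_v1122 = s0_v3102 :=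
  rfl
theorem s0_f27971r : ed sl_af s0_v3102 = s0_v1122 :=
  edge_flip (s0_f27971 IH)
theorem s0_f14408r : ed sl_ff s0_v1122 = s0_v497 :=
  edge_flip (s0_f14408 IH)
theorem s0_f27973 : ed sl_ff s0_v1452 = s0_v3102 :=
  gap_rel s0_rot1 (path_edge (s0_f15936 IH) (path_edge (s0_f14408r IH) (path_edge (s0_f27971r IH) (path_nil s0_v3102))))
theorem s0_f27973r : ed sl_ft s0_v3102 = s0_v1452 :=
  edge_flip (s0_f27973 IH)
theorem s0_f27974 : ed sl_ft s0_v1452 = s0_v3102 :=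
  gap_rel s0_rot20 (path_edge (s0_f27973r IH) (path_nil s0_v3102))
theorem s0_f27975 : ed sl_gt s0_v1122 = s0_v3103 :=
  rfl
theorem s0_f27975r : ed sl_gf s0_v3103 = s0_v1122 :=
  edge_flip (s0_f27975 IH)
theorem s0_f27976 : ed sl_gf s0_v1122 = s0_v3103 :=
  gap_rel s0_rot6 (path_edge (s0_f27975r IH) (path_nil s0_v3103))
theorem s0_f28302 : ed sl_bt s0_v1154 = s0_v3160 :=
  rfl
theorem s0_f28302r : ed sl_bf s0_v3160 = s0_v1154 :=
  edge_flip (s0_f28302 IH)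
theorem s0_f28303 : ed sl_bf s0_v1154 = s0_v3160 :=
  gap_rel s0_rot17 (path_edge (s0_f28302r IH) (path_nil s0_v3160))
theorem s0_f14565r : ed sl_df s0_v1154 = s0_v455 :=
  edge_flip (s0_f14565 IH)
theorem s0_f28304 : ed sl_df s0_v1373 = s0_v3160 :=
  gap_rel s0_rot36 (path_edge (s0_f15597 IH) (path_edge (s0_f14565r IH) (path_edge (s0_f28302r IH) (path_nil s0_v3160))))
theorem s0_f29249 : ed sl_at s0_v1227 = s0_v3326 :=
  rfl
theorem s0_f29249r : ed sl_af s0_v3326 = s0_v1227 :=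
  edge_flip (s0_f29249 IH)
theorem s0_f29250 : ed sl_af s0_v1227 = s0_v3326 :=
  gap_rel s0_rot0 (path_edge (s0_f29249r IH) (path_nil s0_v3326))
theorem s0_f14953r : ed sl_gf s0_v1227 = s0_v507 :=
  edge_flip (s0_f14953 IH)
theorem s0_f29252 : ed sl_gf s0_v1476 = s0_v3326 :=
  gap_rel s0_rot3 (path_edge (s0_f16047 IH) (path_edge (s0_f14953r IH) (path_edge (s0_f29249r IH) (path_nil s0_v3326))))
theorem s0_f29252r : ed sl_gt s0_v3326 = s0_v1476 :=
  edge_flip (s0_f29252 IH)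
theorem s0_f27413r : ed sl_bt s0_v2998 = s0_v1564 :=
  edge_flip (s0_f27413 IH)
theorem s0_f29253 : ed sl_bt s0_v1570 = s0_v3326 :=
  gap_rel s0_rot35 (path_edge (s0_f16519 IH) (path_edge (s0_f27413r IH) (path_edge (s0_f27561r IH) (path_edge (s0_f27566 IH) (path_edge (s0_f29252r IH) (path_nil s0_v3326))))))
theorem s0_f29257 : ed sl_ct s0_v1227 = s0_v3327 :=
  rfl
theorem s0_f29257r : ed sl_cf s0_v3327 = s0_v1227 :=
  edge_flip (s0_f29257 IH)
theorem s0_f29258 : ed sl_cf s0_v1227 = s0_v3327 :=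
  gap_rel s0_rot31 (path_edge (s0_f29257r IH) (path_nil s0_v3327))
theorem s0_f29260 : ed sl_gf s0_v1477 = s0_v3327 :=
  gap_rel s0_rot16 (path_edge (s0_f16051 IH) (path_edge (s0_f14953r IH) (path_edge (s0_f29257r IH) (path_nil s0_v3327))))
theorem s0_f29260r : ed sl_gt s0_v3327 = s0_v1477 :=
  edge_flip (s0_f29260 IH)
theorem s0_f29262 : ed sl_gt s0_v1477 = s0_v3327 :=
  gap_rel s0_rot23 (path_edge (s0_f29260r IH) (path_nil s0_v3327))
theorem s0_f29378 : ed sl_ct s0_v1240 = s0_v3353 :=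
  rfl
theorem s0_f29378r : ed sl_cf s0_v3353 = s0_v1240 :=
  edge_flip (s0_f29378 IH)
theorem s0_f7791r : ed sl_cf s0_v385 = s0_v146 :=
  edge_flip (s0_f7791 IH)
theorem s0_f29379 : ed sl_bf s0_v1490 = s0_v3353 :=
  gap_rel s0_rot69 (path_edge (s0_f16124 IH) (path_edge (s0_f8570 IH) (path_edge (s0_f7791r IH) (path_edge (s0_f15016r IH) (path_edge (s0_f29378r IH) (path_nil s0_v3353))))))
theorem s0_f29380 : ed sl_cf s0_v1240 = s0_v3353 :=
  gap_rel s0_rot31 (path_edge (s0_f29378r IH) (path_nil s0_v3353))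
theorem s0_f29381 : ed sl_gf s0_v3353 = s0_v3353 :=
  gap_rel s0_rot16 (path_edge (s0_f29380 IH) (path_edge (s0_f15018 IH) (path_edge (s0_f29378r IH) (path_nil s0_v3353))))
theorem s0_f29381r : ed sl_gt s0_v3353 = s0_v3353 :=
  edge_flip (s0_f29381 IH)
theorem s0_f29379r : ed sl_bt s0_v3353 = s0_v1490 :=
  edge_flip (s0_f29379 IH)
theorem s0_f29382 : ed sl_bt s0_v1490 = s0_v3353 :=
  gap_rel s0_rot35 (path_edge (s0_f16126 IH) (path_edge (s0_f8850 IH) (path_edge (s0_f16125r IH) (path_edge (s0_f29379r IH) (path_edge (s0_f29381r IH) (path_nil s0_v3353))))))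
theorem s0_f30148 : ed sl_bt s0_v1337 = s0_v3525 :=
  rfl
theorem s0_f30148r : ed sl_bf s0_v3525 = s0_v1337 :=
  edge_flip (s0_f30148 IH)
theorem s0_f30149 : ed sl_bf s0_v1337 = s0_v3525 :=
  gap_rel s0_rot17 (path_edge (s0_f30148r IH) (path_nil s0_v3525))
theorem s0_f15423r : ed sl_cf s0_v1337 = s0_v437 :=
  edge_flip (s0_f15423 IH)
theorem s0_f30150 : ed sl_cf s0_v2570 = s0_v3525 :=
  gap_rel s0_rot52 (path_edge (s0_f25268 IH) (path_edge (s0_f11486 IH) (path_edge (s0_f8232r IH) (path_edge (s0_f15423r IH) (path_edge (s0_f30148r IH) (path_nil s0_v3525))))))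
theorem s0_f30826 : ed sl_dt s0_v1420 = s0_v3667 :=
  rfl
theorem s0_f30826r : ed sl_df s0_v3667 = s0_v1420 :=
  edge_flip (s0_f30826 IH)
theorem s0_f15791r : ed sl_af s0_v1420 = s0_v481 :=
  edge_flip (s0_f15791 IH)
theorem s0_f30827 : ed sl_af s0_v1422 = s0_v3667 :=
  gap_rel s0_rot43 (path_edge (s0_f15801 IH) (path_edge (s0_f15791r IH) (path_edge (s0_f30826r IH) (path_nil s0_v3667))))
theorem s0_f30850 : ed sl_ft s0_v1422 = s0_v3672 :=
  rfl
theorem s0_f30850r : ed sl_ff s0_v3672 = s0_v1422 :=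
  edge_flip (s0_f30850 IH)
theorem s0_f30852 : ed sl_df s0_v1423 = s0_v3672 :=
  gap_rel s0_rot72 (path_edge (s0_f15806 IH) (path_edge (s0_f15799r IH) (path_edge (s0_f30850r IH) (path_nil s0_v3672))))
theorem s0_f30853 : ed sl_ff s0_v1422 = s0_v3672 :=
  gap_rel s0_rot12 (path_edge (s0_f30850r IH) (path_nil s0_v3672))
theorem s0_f30927 : ed sl_ft s0_v1431 = s0_v3689 :=
  rfl
theorem s0_f30927r : ed sl_ff s0_v3689 = s0_v1431 :=
  edge_flip (s0_f30927 IH)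
theorem s0_f30929 : ed sl_ff s0_v1431 = s0_v3689 :=
  gap_rel s0_rot12 (path_edge (s0_f30927r IH) (path_nil s0_v3689))
theorem s0_f30993 : ed sl_gt s0_v1437 = s0_v3701 :=
  rfl
theorem s0_f31031 : ed sl_dt s0_v1442 = s0_v3710 :=
  rfl
theorem s0_f31031r : ed sl_df s0_v3710 = s0_v1442 :=
  edge_flip (s0_f31031 IH)
theorem s0_f31032 : ed sl_af s0_v1444 = s0_v3710 :=
  gap_rel s0_rot43 (path_edge (s0_f15901 IH) (path_edge (s0_f15893r IH) (path_edge (s0_f31031r IH) (path_nil s0_v3710))))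
theorem s0_f31035 : ed sl_ft s0_v1442 = s0_v3711 :=
  rfl
theorem s0_f31035r : ed sl_ff s0_v3711 = s0_v1442 :=
  edge_flip (s0_f31035 IH)
theorem s0_f31037 : ed sl_ff s0_v1442 = s0_v3711 :=
  gap_rel s0_rot12 (path_edge (s0_f31035r IH) (path_nil s0_v3711))
theorem s0_f31037r : ed sl_ft s0_v3711 = s0_v1442 :=
  edge_flip (s0_f31037 IH)
theorem s0_f15894r : ed sl_at s0_v1442 = s0_v492 :=
  edge_flip (s0_f15894 IH)
theorem s0_f31038 : ed sl_at s0_v1445 = s0_v3711 :=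
  gap_rel s0_rot18 (path_edge (s0_f15903 IH) (path_edge (s0_f15894r IH) (path_edge (s0_f31037r IH) (path_nil s0_v3711))))
theorem s0_f31039 : ed sl_gt s0_v1442 = s0_v3712 :=
  rfl
theorem s0_f31039r : ed sl_gf s0_v3712 = s0_v1442 :=
  edge_flip (s0_f31039 IH)
theorem s0_f31041 : ed sl_gf s0_v1442 = s0_v3712 :=
  gap_rel s0_rot6 (path_edge (s0_f31039r IH) (path_nil s0_v3712))
theorem s0_f31047 : ed sl_ft s0_v1443 = s0_v3714 :=
  rfl
theorem s0_f31047r : ed sl_ff s0_v3714 = s0_v1443 :=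
  edge_flip (s0_f31047 IH)
theorem s0_f31049 : ed sl_ff s0_v1443 = s0_v3714 :=
  gap_rel s0_rot12 (path_edge (s0_f31047r IH) (path_nil s0_v3714))
theorem s0_f31051 : ed sl_gt s0_v1443 = s0_v3715 :=
  rfl
theorem s0_f31051r : ed sl_gf s0_v3715 = s0_v1443 :=
  edge_flip (s0_f31051 IH)
theorem s0_f31053 : ed sl_gf s0_v1443 = s0_v3715 :=
  gap_rel s0_rot6 (path_edge (s0_f31051r IH) (path_nil s0_v3715))
theorem s0_f31053r : ed sl_gt s0_v3715 = s0_v1443 :=
  edge_flip (s0_f31053 IH)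
theorem s0_f15897r : ed sl_ct s0_v1443 = s0_v492 :=
  edge_flip (s0_f15897 IH)
theorem s0_f31054 : ed sl_ct s0_v1446 = s0_v3715 :=
  gap_rel s0_rot30 (path_edge (s0_f15905 IH) (path_edge (s0_f15897r IH) (path_edge (s0_f31053r IH) (path_nil s0_v3715))))
theorem s0_f31063 : ed sl_gt s0_v1444 = s0_v3718 :=
  rfl
theorem s0_f31063r : ed sl_gf s0_v3718 = s0_v1444 :=
  edge_flip (s0_f31063 IH)
theorem s0_f31064 : ed sl_df s0_v1446 = s0_v3718 :=
  gap_rel s0_rot78 (path_edge (s0_f15906 IH) (path_edge (s0_f15899r IH) (path_edge (s0_f31063r IH) (path_nil s0_v3718))))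
theorem s0_f31065 : ed sl_gf s0_v1444 = s0_v3718 :=
  gap_rel s0_rot6 (path_edge (s0_f31063r IH) (path_nil s0_v3718))
theorem s0_f31068 : ed sl_bt s0_v1445 = s0_v3719 :=
  rfl
theorem s0_f31068r : ed sl_bf s0_v3719 = s0_v1445 :=
  edge_flip (s0_f31068 IH)
theorem s0_f31069 : ed sl_bf s0_v1445 = s0_v3719 :=
  gap_rel s0_rot17 (path_edge (s0_f31068r IH) (path_nil s0_v3719))
theorem s0_f15903r : ed sl_ff s0_v1445 = s0_v492 :=
  edge_flip (s0_f15903 IH)
theorem s0_f31070 : ed sl_ff s0_v1449 = s0_v3719 :=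
  gap_rel s0_rot49 (path_edge (s0_f15926 IH) (path_edge (s0_f8479 IH) (path_edge (s0_f8467r IH) (path_edge (s0_f15903r IH) (path_edge (s0_f31068r IH) (path_nil s0_v3719))))))
theorem s0_f31070r : ed sl_ft s0_v3719 = s0_v1449 :=
  edge_flip (s0_f31070 IH)
theorem s0_f31071 : ed sl_ft s0_v1449 = s0_v3719 :=
  gap_rel s0_rot20 (path_edge (s0_f31070r IH) (path_nil s0_v3719))
theorem s0_f31072 : ed sl_gt s0_v1445 = s0_v3720 :=
  rfl
theorem s0_f31072r : ed sl_gf s0_v3720 = s0_v1445 :=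
  edge_flip (s0_f31072 IH)
theorem s0_f31074 : ed sl_ff s0_v3712 = s0_v3720 :=
  gap_rel s0_rot21 (path_edge (s0_f31041 IH) (path_edge (s0_f31035r IH) (path_edge (s0_f31038 IH) (path_edge (s0_f31072r IH) (path_nil s0_v3720)))))
theorem s0_f31102 : ed sl_gt s0_v1449 = s0_v3726 :=
  rfl
theorem s0_f31102r : ed sl_gf s0_v3726 = s0_v1449 :=
  edge_flip (s0_f31102 IH)
theorem s0_f31104 : ed sl_gf s0_v1449 = s0_v3726 :=
  gap_rel s0_rot6 (path_edge (s0_f31102r IH) (path_nil s0_v3726))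
theorem s0_f31104r : ed sl_gt s0_v3726 = s0_v1449 :=
  edge_flip (s0_f31104 IH)
theorem s0_f15926r : ed sl_bt s0_v1449 = s0_v494 :=
  edge_flip (s0_f15926 IH)
theorem s0_f31105 : ed sl_bt s0_v1454 = s0_v3726 :=
  gap_rel s0_rot35 (path_edge (s0_f15943 IH) (path_edge (s0_f8491 IH) (path_edge (s0_f8480r IH) (path_edge (s0_f15926r IH) (path_edge (s0_f31104r IH) (path_nil s0_v3726))))))
theorem s0_f31122 : ed sl_ct s0_v1452 = s0_v3732 :=
  rfl
theorem s0_f31122r : ed sl_cf s0_v3732 = s0_v1452 :=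
  edge_flip (s0_f31122 IH)
theorem s0_f31123 : ed sl_af s0_v1453 = s0_v3732 :=
  gap_rel s0_rot48 (path_edge (s0_f15939 IH) (path_edge (s0_f15935r IH) (path_edge (s0_f31122r IH) (path_nil s0_v3732))))
theorem s0_f31128 : ed sl_gt s0_v1452 = s0_v3733 :=
  rfl
theorem s0_f31128r : ed sl_gf s0_v3733 = s0_v1452 :=
  edge_flip (s0_f31128 IH)
theorem s0_f15936r : ed sl_at s0_v1452 = s0_v497 :=
  edge_flip (s0_f15936 IH)
theorem s0_f31131 : ed sl_ff s0_v3103 = s0_v3733 :=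
  gap_rel s0_rot21 (path_edge (s0_f27976 IH) (path_edge (s0_f14407 IH) (path_edge (s0_f15936r IH) (path_edge (s0_f31128r IH) (path_nil s0_v3733)))))
theorem s0_f31144 : ed sl_ft s0_v1454 = s0_v3736 :=
  rfl
theorem s0_f31144r : ed sl_ff s0_v3736 = s0_v1454 :=
  edge_flip (s0_f31144 IH)
theorem s0_f31146 : ed sl_ff s0_v1454 = s0_v3736 :=
  gap_rel s0_rot12 (path_edge (s0_f31144r IH) (path_nil s0_v3736))
theorem s0_f15943r : ed sl_gf s0_v1454 = s0_v497 :=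
  edge_flip (s0_f15943 IH)
theorem s0_f31147 : ed sl_gf s0_v3102 = s0_v3736 :=
  gap_rel s0_rot24 (path_edge (s0_f27973 IH) (path_edge (s0_f31128r IH) (path_edge (s0_f31131 IH) (path_edge (s0_f27976 IH) (path_edge (s0_f14407 IH) (path_edge (s0_f15943r IH) (path_edge (s0_f31144r IH) (path_nil s0_v3736))))))))
theorem s0_f31147r : ed sl_gt s0_v3736 = s0_v3102 :=
  edge_flip (s0_f31147 IH)
theorem s0_f31149 : ed sl_gt s0_v3102 = s0_v3736 :=
  gap_rel s0_rot23 (path_edge (s0_f31147r IH) (path_nil s0_v3736))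
theorem s0_f31944 : ed sl_ft s0_v1552 = s0_v3908 :=
  rfl
theorem s0_f31944r : ed sl_ff s0_v3908 = s0_v1552 :=
  edge_flip (s0_f31944 IH)
theorem s0_f31946 : ed sl_cf s0_v1553 = s0_v3908 :=
  gap_rel s0_rot47 (path_edge (s0_f16428 IH) (path_edge (s0_f16421r IH) (path_edge (s0_f31944r IH) (path_nil s0_v3908))))
theorem s0_f31947 : ed sl_ff s0_v1552 = s0_v3908 :=
  gap_rel s0_rot12 (path_edge (s0_f31944r IH) (path_nil s0_v3908))
theorem s0_f31947r : ed sl_ft s0_v3908 = s0_v1552 :=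
  edge_flip (s0_f31947 IH)
theorem s0_f16422r : ed sl_at s0_v1552 = s0_v557 :=
  edge_flip (s0_f16422 IH)
theorem s0_f31948 : ed sl_at s0_v1556 = s0_v3908 :=
  gap_rel s0_rot18 (path_edge (s0_f16439 IH) (path_edge (s0_f16422r IH) (path_edge (s0_f31947r IH) (path_nil s0_v3908))))
theorem s0_f31950 : ed sl_gt s0_v1552 = s0_v3909 :=
  rfl
theorem s0_f31950r : ed sl_gf s0_v3909 = s0_v1552 :=
  edge_flip (s0_f31950 IH)
theorem s0_f31953 : ed sl_gf s0_v1552 = s0_v3909 :=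
  gap_rel s0_rot6 (path_edge (s0_f31950r IH) (path_nil s0_v3909))
theorem s0_f31970 : ed sl_gt s0_v1556 = s0_v3915 :=
  rfl
theorem s0_f31970r : ed sl_gf s0_v3915 = s0_v1556 :=
  edge_flip (s0_f31970 IH)
theorem s0_f31972 : ed sl_gf s0_v1556 = s0_v3915 :=
  gap_rel s0_rot6 (path_edge (s0_f31970r IH) (path_nil s0_v3915))
theorem s0_f31973 : ed sl_ff s0_v3909 = s0_v3915 :=
  gap_rel s0_rot21 (path_edge (s0_f31953 IH) (path_edge (s0_f31944r IH) (path_edge (s0_f31948 IH) (path_edge (s0_f31970r IH) (path_nil s0_v3915)))))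
theorem s0_f31973r : ed sl_ft s0_v3915 = s0_v3909 :=
  edge_flip (s0_f31973 IH)
theorem s0_f31975 : ed sl_ft s0_v3909 = s0_v3915 :=
  gap_rel s0_rot20 (path_edge (s0_f31973r IH) (path_nil s0_v3915))
theorem s0_f31979 : ed sl_ft s0_v1557 = s0_v3917 :=
  rfl
theorem s0_f31979r : ed sl_ff s0_v3917 = s0_v1557 :=
  edge_flip (s0_f31979 IH)
theorem s0_f31982 : ed sl_ff s0_v1557 = s0_v3917 :=
  gap_rel s0_rot12 (path_edge (s0_f31979r IH) (path_nil s0_v3917))
theorem s0_f16443r : ed sl_gf s0_v1557 = s0_v557 :=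
  edge_flip (s0_f16443 IH)
theorem s0_f31975r : ed sl_ff s0_v3915 = s0_v3909 :=
  edge_flip (s0_f31975 IH)
theorem s0_f31983 : ed sl_gf s0_v3908 = s0_v3917 :=
  gap_rel s0_rot24 (path_edge (s0_f31947 IH) (path_edge (s0_f31950r IH) (path_edge (s0_f31975r IH) (path_edge (s0_f31972 IH) (path_edge (s0_f16441 IH) (path_edge (s0_f16443r IH) (path_edge (s0_f31979r IH) (path_nil s0_v3917))))))))
theorem s0_f31983r : ed sl_gt s0_v3917 = s0_v3908 :=
  edge_flip (s0_f31983 IH)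
theorem s0_f31946r : ed sl_ct s0_v3908 = s0_v1553 :=
  edge_flip (s0_f31946 IH)
theorem s0_f31985 : ed sl_ct s0_v1560 = s0_v3917 :=
  gap_rel s0_rot30 (path_edge (s0_f16466 IH) (path_edge (s0_f31946r IH) (path_edge (s0_f31983r IH) (path_nil s0_v3917))))
theorem s0_f32011 : ed sl_bt s0_v1560 = s0_v3921 :=
  rfl
theorem s0_f32011r : ed sl_bf s0_v3921 = s0_v1560 :=
  edge_flip (s0_f32011 IH)
theorem s0_f32013 : ed sl_bf s0_v1560 = s0_v3921 :=
  gap_rel s0_rot17 (path_edge (s0_f32011r IH) (path_nil s0_v3921))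
theorem s0_f8791r : ed sl_bf s0_v559 = s0_v559 :=
  edge_flip (s0_f8791 IH)
theorem s0_f32015 : ed sl_ff s0_v3921 = s0_v3921 :=
  gap_rel s0_rot49 (path_edge (s0_f32013 IH) (path_edge (s0_f16462 IH) (path_edge (s0_f8791r IH) (path_edge (s0_f16459r IH) (path_edge (s0_f32011r IH) (path_nil s0_v3921))))))
theorem s0_f16466r : ed sl_gf s0_v1560 = s0_v1553 :=
  edge_flip (s0_f16466 IH)
theorem s0_f32016 : ed sl_gf s0_v3029 = s0_v3921 :=
  gap_rel s0_rot50 (path_edge (s0_f27611 IH) (path_edge (s0_f27791r IH) (path_edge (s0_f27797 IH) (path_edge (s0_f16466r IH) (path_edge (s0_f32011r IH) (path_nil s0_v3921))))))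
theorem s0_f32015r : ed sl_ft s0_v3921 = s0_v3921 :=
  edge_flip (s0_f32015 IH)
theorem s0_f32016r : ed sl_gt s0_v3921 = s0_v3029 :=
  edge_flip (s0_f32016 IH)
theorem s0_f27616r : ed sl_ft s0_v3029 = s0_v1084 :=
  edge_flip (s0_f27616 IH)
theorem s0_f27622r : ed sl_ft s0_v3031 = s0_v3031 :=
  edge_flip (s0_f27622 IH)
theorem s0_f27621r : ed sl_gt s0_v3031 = s0_v1084 :=
  edge_flip (s0_f27621 IH)
theorem s0_f32019 : ed sl_gt s0_v3029 = s0_v3921 :=
  gap_rel s0_rot57 (path_edge (s0_f27615 IH) (path_edge (s0_f27621r IH) (path_edge (s0_f27622r IH) (path_edge (s0_f27619 IH) (path_edge (s0_f27616r IH) (path_edge (s0_f32016r IH) (path_edge (s0_f32015r IH) (path_nil s0_v3921))))))))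
theorem s0_f32254 : ed sl_ft s0_v1588 = s0_v3965 :=
  rfl
theorem s0_f32254r : ed sl_ff s0_v3965 = s0_v1588 :=
  edge_flip (s0_f32254 IH)
theorem s0_f32256 : ed sl_ff s0_v1588 = s0_v3965 :=
  gap_rel s0_rot12 (path_edge (s0_f32254r IH) (path_nil s0_v3965))
theorem s0_f32256r : ed sl_ft s0_v3965 = s0_v1588 :=
  edge_flip (s0_f32256 IH)
theorem s0_f32257 : ed sl_dt s0_v1589 = s0_v3965 :=
  gap_rel s0_rot5 (path_edge (s0_f16617 IH) (path_edge (s0_f16615r IH) (path_edge (s0_f32256r IH) (path_nil s0_v3965))))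
theorem s0_f43058 : ed sl_at sq1840 = s0_v5041 :=
  rfl
theorem s0_f43058r : ed sl_af s0_v5041 = sq1840 :=
  edge_flip (s0_f43058 IH)
theorem s0_f43059 : ed sl_af sq1840 = s0_v5041 :=
  gap_rel s0_rot0 (path_edge (s0_f43058r IH) (path_nil s0_v5041))
theorem s0_f22059r : ed sl_ef sq1840 = sq1216 :=
  edge_flip (s0_f22059 IH)
theorem s0_f43060 : ed sl_ef s0_v2328 = s0_v5041 :=
  gap_rel s0_rot8 (path_edge (s0_f24168 IH) (path_edge (s0_f22059r IH) (path_edge (s0_f43058r IH) (path_nil s0_v5041))))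
theorem s0_f43060r : ed sl_et s0_v5041 = s0_v2328 :=
  edge_flip (s0_f43060 IH)
theorem s0_f43061 : ed sl_et s0_v2328 = s0_v5041 :=
  gap_rel s0_rot39 (path_edge (s0_f43060r IH) (path_nil s0_v5041))
theorem s0_f45724 : ed sl_ct s0_v2115 = s0_v5550 :=
  rfl
theorem s0_f45724r : ed sl_cf s0_v5550 = s0_v2115 :=
  edge_flip (s0_f45724 IH)
theorem s0_f45726 : ed sl_cf s0_v2115 = s0_v5550 :=
  gap_rel s0_rot31 (path_edge (s0_f45724r IH) (path_nil s0_v5550))
theorem s0_f21636r : ed sl_ef s0_v2115 = s0_v866 :=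
  edge_flip (s0_f21636 IH)
theorem s0_f45727 : ed sl_ef s0_v2634 = s0_v5550 :=
  gap_rel s0_rot70 (path_edge (s0_f25577 IH) (path_edge (s0_f21636r IH) (path_edge (s0_f45724r IH) (path_nil s0_v5550))))
theorem s0_f45727r : ed sl_et s0_v5550 = s0_v2634 :=
  edge_flip (s0_f45727 IH)
theorem s0_f45729 : ed sl_et s0_v2634 = s0_v5550 :=
  gap_rel s0_rot39 (path_edge (s0_f45727r IH) (path_nil s0_v5550))
theorem s0_f47675 : ed sl_bt s0_v2328 = s0_v5919 :=
  rfl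
theorem s0_f47675r : ed sl_bf s0_v5919 = s0_v2328 :=
  edge_flip (s0_f47675 IH)
theorem s0_f12172r : ed sl_bf sq1216 = sq784 :=
  edge_flip (s0_f12172 IH)
theorem s0_f8037r : ed sl_af sq784 = sq486 :=
  edge_flip (s0_f8037 IH)
theorem s0_f2452r : ed sl_bf sq486 = sq291 :=
  edge_flip (s0_f2452 IH)
theorem s0_f2462r : ed sl_af sq291 = sq485 :=
  edge_flip (s0_f2462 IH)
theorem s0_f4409r : ed sl_bf sq485 = sq783 :=
  edge_flip (s0_f4409 IH)
theorem s0_f47676 : ed sl_af s0_v2864 = s0_v5919 :=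
  gap_rel s0_rot64 (path_edge (s0_f26739 IH) (path_edge (s0_f13791 IH) (path_edge (s0_f4409r IH) (path_edge (s0_f2462r IH) (path_edge (s0_f2452r IH) (path_edge (s0_f8037r IH) (path_edge (s0_f12172r IH) (path_edge (s0_f24167r IH) (path_edge (s0_f47675r IH) (path_nil s0_v5919))))))))))
theorem s0_f47677 : ed sl_bf s0_v2328 = s0_v5919 :=
  gap_rel s0_rot17 (path_edge (s0_f47675r IH) (path_nil s0_v5919))
theorem s0_f48123 : ed sl_bt s0_v2376 = s0_v6016 :=
  rfl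
theorem s0_f48123r : ed sl_bf s0_v6016 = s0_v2376 :=
  edge_flip (s0_f48123 IH)
theorem s0_f9706r : ed sl_bf s0_v718 = s0_v436 :=
  edge_flip (s0_f9706 IH)
theorem s0_f48126 : ed sl_gf s0_v3525 = s0_v6016 :=
  gap_rel s0_rot50 (path_edge (s0_f30149 IH) (path_edge (s0_f15422 IH) (path_edge (s0_f9706r IH) (path_edge (s0_f24406r IH) (path_edge (s0_f48123r IH) (path_nil s0_v6016))))))
theorem s0_f48205 : ed sl_bt s0_v2385 = s0_v6036 :=
  rfl
theorem s0_f48205r : ed sl_bf s0_v6036 = s0_v2385 :=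
  edge_flip (s0_f48205 IH)
theorem s0_f48206 : ed sl_bf s0_v2385 = s0_v6036 :=
  gap_rel s0_rot17 (path_edge (s0_f48205r IH) (path_nil s0_v6036))
theorem s0_f48325 : ed sl_bt s0_v2401 = s0_v6064 :=
  rfl
theorem s0_f48325r : ed sl_bf s0_v6064 = s0_v2401 :=
  edge_flip (s0_f48325 IH)
theorem s0_f48326 : ed sl_bf s0_v2401 = s0_v6064 :=
  gap_rel s0_rot17 (path_edge (s0_f48325r IH) (path_nil s0_v6064))
theorem s0_f9945r : ed sl_bf s0_v732 = s0_v723 :=
  edge_flip (s0_f9945 IH)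
theorem s0_f48327 : ed sl_gf s0_v6036 = s0_v6064 :=
  gap_rel s0_rot50 (path_edge (s0_f48206 IH) (path_edge (s0_f24447 IH) (path_edge (s0_f9945r IH) (path_edge (s0_f24512r IH) (path_edge (s0_f48325r IH) (path_nil s0_v6064))))))
theorem s0_f48327r : ed sl_gt s0_v6064 = s0_v6036 :=
  edge_flip (s0_f48327 IH)
theorem s0_f48328 : ed sl_gt s0_v6036 = s0_v6064 :=
  gap_rel s0_rot23 (path_edge (s0_f48327r IH) (path_nil s0_v6064))
theorem s0_f49556 : ed sl_bt s0_v2538 = s0_v6292 :=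
  rfl
theorem s0_f49556r : ed sl_bf s0_v6292 = s0_v2538 :=
  edge_flip (s0_f49556 IH)
theorem s0_f49557 : ed sl_bf s0_v2538 = s0_v6292 :=
  gap_rel s0_rot17 (path_edge (s0_f49556r IH) (path_nil s0_v6292))
theorem s0_f49558 : ed sl_cf s0_v6292 = s0_v6292 :=
  gap_rel s0_rot52 (path_edge (s0_f49557 IH) (path_edge (s0_f25137 IH) (path_edge (s0_f11239 IH) (path_edge (s0_f25135r IH) (path_edge (s0_f49556r IH) (path_nil s0_v6292))))))
theorem s0_f49707 : ed sl_bt s0_v2556 = s0_v6331 :=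
  rfl
theorem s0_f49707r : ed sl_bf s0_v6331 = s0_v2556 :=
  edge_flip (s0_f49707 IH)
theorem s0_f49708 : ed sl_bf s0_v2556 = s0_v6331 :=
  gap_rel s0_rot17 (path_edge (s0_f49707r IH) (path_nil s0_v6331))
theorem s0_f50219 : ed sl_dt s0_v2612 = s0_v6436 :=
  rfl
theorem s0_f50219r : ed sl_df s0_v6436 = s0_v2612 :=
  edge_flip (s0_f50219 IH)
theorem s0_f25485r : ed sl_af s0_v2612 = s0_v1373 :=
  edge_flip (s0_f25485 IH)
theorem s0_f50220 : ed sl_af s0_v3160 = s0_v6436 :=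
  gap_rel s0_rot43 (path_edge (s0_f28304 IH) (path_edge (s0_f25485r IH) (path_edge (s0_f50219r IH) (path_nil s0_v6436))))
theorem s0_f50222 : ed sl_df s0_v2612 = s0_v6436 :=
  gap_rel s0_rot28 (path_edge (s0_f50219r IH) (path_nil s0_v6436))
theorem s0_f50222r : ed sl_dt s0_v6436 = s0_v2612 :=
  edge_flip (s0_f50222 IH)
theorem s0_f50224 : ed sl_bt s0_v2614 = s0_v6436 :=
  gap_rel s0_rot46 (path_edge (s0_f25491 IH) (path_edge (s0_f25484r IH) (path_edge (s0_f50222r IH) (path_nil s0_v6436))))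
theorem s0_f50249 : ed sl_ct s0_v2614 = s0_v6442 :=
  rfl
theorem s0_f50249r : ed sl_cf s0_v6442 = s0_v2614 :=
  edge_flip (s0_f50249 IH)
theorem s0_f25495r : ed sl_af s0_v2614 = s0_v857 :=
  edge_flip (s0_f25495 IH)
theorem s0_f50250 : ed sl_af s0_v2618 = s0_v6442 :=
  gap_rel s0_rot48 (path_edge (s0_f25512 IH) (path_edge (s0_f25495r IH) (path_edge (s0_f50249r IH) (path_nil s0_v6442))))
theorem s0_f50251 : ed sl_cf s0_v2614 = s0_v6442 :=
  gap_rel s0_rot31 (path_edge (s0_f50249r IH) (path_nil s0_v6442))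
theorem s0_f50252 : ed sl_ff s0_v6442 = s0_v6442 :=
  gap_rel s0_rot11 (path_edge (s0_f50251 IH) (path_edge (s0_f25494 IH) (path_edge (s0_f50249r IH) (path_nil s0_v6442))))
theorem s0_f50252r : ed sl_ft s0_v6442 = s0_v6442 :=
  edge_flip (s0_f50252 IH)
theorem s0_f50250r : ed sl_at s0_v6442 = s0_v2618 :=
  edge_flip (s0_f50250 IH)
theorem s0_f25513r : ed sl_ft s0_v2618 = s0_v2618 :=
  edge_flip (s0_f25513 IH)
theorem s0_f50253 : ed sl_at s0_v2618 = s0_v6442 :=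
  gap_rel s0_rot18 (path_edge (s0_f25513r IH) (path_edge (s0_f50250r IH) (path_edge (s0_f50252r IH) (path_nil s0_v6442))))
theorem s0_f50280 : ed sl_bt s0_v2618 = s0_v6449 :=
  rfl
theorem s0_f50280r : ed sl_bf s0_v6449 = s0_v2618 :=
  edge_flip (s0_f50280 IH)
theorem s0_f50281 : ed sl_bf s0_v2618 = s0_v6449 :=
  gap_rel s0_rot17 (path_edge (s0_f50280r IH) (path_nil s0_v6449))
theorem s0_f11845r : ed sl_bf s0_v857 = sq658 :=
  edge_flip (s0_f11845 IH)
theorem s0_f50282 : ed sl_cf s0_v2621 = s0_v6449 :=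
  gap_rel s0_rot52 (path_edge (s0_f25523 IH) (path_edge (s0_f11852 IH) (path_edge (s0_f11845r IH) (path_edge (s0_f25511r IH) (path_edge (s0_f50280r IH) (path_nil s0_v6449))))))
theorem s0_f50282r : ed sl_ct s0_v6449 = s0_v2621 :=
  edge_flip (s0_f50282 IH)
theorem s0_f50283 : ed sl_ct s0_v2621 = s0_v6449 :=
  gap_rel s0_rot79 (path_edge (s0_f50282r IH) (path_nil s0_v6449))
theorem s0_f50309 : ed sl_ft s0_v2621 = s0_v6457 :=
  rfl
theorem s0_f50431 : ed sl_ft s0_v2634 = s0_v6487 :=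
  rfl
theorem s0_f50431r : ed sl_ff s0_v6487 = s0_v2634 :=
  edge_flip (s0_f50431 IH)
theorem s0_f25578r : ed sl_af s0_v2634 = s0_v867 :=
  edge_flip (s0_f25578 IH)
theorem s0_f50432 : ed sl_af s0_v2639 = s0_v6487 :=
  gap_rel s0_rot58 (path_edge (s0_f25597 IH) (path_edge (s0_f25578r IH) (path_edge (s0_f50431r IH) (path_nil s0_v6487))))
theorem s0_f50434 : ed sl_ff s0_v2634 = s0_v6487 :=
  gap_rel s0_rot12 (path_edge (s0_f50431r IH) (path_nil s0_v6487))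
theorem s0_f50443 : ed sl_ct s0_v2635 = s0_v6489 :=
  rfl
theorem s0_f50443r : ed sl_cf s0_v6489 = s0_v2635 :=
  edge_flip (s0_f50443 IH)
theorem s0_f50445 : ed sl_cf s0_v2635 = s0_v6489 :=
  gap_rel s0_rot31 (path_edge (s0_f50443r IH) (path_nil s0_v6489))
theorem s0_f50445r : ed sl_ct s0_v6489 = s0_v2635 :=
  edge_flip (s0_f50445 IH)
theorem s0_f25580r : ed sl_at s0_v2635 = s0_v868 :=
  edge_flip (s0_f25580 IH)
theorem s0_f50446 : ed sl_at s0_v2641 = s0_v6489 :=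
  gap_rel s0_rot44 (path_edge (s0_f25603 IH) (path_edge (s0_f25580r IH) (path_edge (s0_f50445r IH) (path_nil s0_v6489))))
theorem s0_f50499 : ed sl_bt s0_v2641 = s0_v6502 :=
  rfl
theorem s0_f50499r : ed sl_bf s0_v6502 = s0_v2641 :=
  edge_flip (s0_f50499 IH)
theorem s0_f50500 : ed sl_bf s0_v2641 = s0_v6502 :=
  gap_rel s0_rot17 (path_edge (s0_f50499r IH) (path_nil s0_v6502))
theorem s0_f11937r : ed sl_bf s0_v868 = sq664 :=
  edge_flip (s0_f11937 IH)
theorem s0_f50501 : ed sl_cf s0_v2648 = s0_v6502 :=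
  gap_rel s0_rot52 (path_edge (s0_f25632 IH) (path_edge (s0_f11946 IH) (path_edge (s0_f11937r IH) (path_edge (s0_f25603r IH) (path_edge (s0_f50499r IH) (path_nil s0_v6502))))))
theorem s0_f50501r : ed sl_ct s0_v6502 = s0_v2648 :=
  edge_flip (s0_f50501 IH)
theorem s0_f50502 : ed sl_ct s0_v2648 = s0_v6502 :=
  gap_rel s0_rot79 (path_edge (s0_f50501r IH) (path_nil s0_v6502))
theorem s0_f50509 : ed sl_gt s0_v2641 = s0_v6505 :=
  rfl
theorem s0_f50509r : ed sl_gf s0_v6505 = s0_v2641 :=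
  edge_flip (s0_f50509 IH)
theorem s0_f50511 : ed sl_gf s0_v2641 = s0_v6505 :=
  gap_rel s0_rot6 (path_edge (s0_f50509r IH) (path_nil s0_v6505))
theorem s0_f50511r : ed sl_gt s0_v6505 = s0_v2641 :=
  edge_flip (s0_f50511 IH)
theorem s0_f25604r : ed sl_ct s0_v2641 = s0_v868 :=
  edge_flip (s0_f25604 IH)
theorem s0_f50512 : ed sl_ct s0_v2643 = s0_v6505 :=
  gap_rel s0_rot30 (path_edge (s0_f25609 IH) (path_edge (s0_f25604r IH) (path_edge (s0_f50511r IH) (path_nil s0_v6505))))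
theorem s0_f50537 : ed sl_ct s0_v2644 = s0_v6510 :=
  rfl
theorem s0_f50537r : ed sl_cf s0_v6510 = s0_v2644 :=
  edge_flip (s0_f50537 IH)
theorem s0_f50538 : ed sl_cf s0_v2644 = s0_v6510 :=
  gap_rel s0_rot31 (path_edge (s0_f50537r IH) (path_nil s0_v6510))
theorem s0_f25616r : ed sl_ff s0_v2644 = s0_v873 :=
  edge_flip (s0_f25616 IH)
theorem s0_f50539 : ed sl_ff s0_v2652 = s0_v6510 :=
  gap_rel s0_rot11 (path_edge (s0_f25649 IH) (path_edge (s0_f25616r IH) (path_edge (s0_f50537r IH) (path_nil s0_v6510))))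
theorem s0_f50541 : ed sl_gt s0_v2644 = s0_v6511 :=
  rfl
theorem s0_f50541r : ed sl_gf s0_v6511 = s0_v2644 :=
  edge_flip (s0_f50541 IH)
theorem s0_f50542 : ed sl_gf s0_v2644 = s0_v6511 :=
  gap_rel s0_rot6 (path_edge (s0_f50541r IH) (path_nil s0_v6511))
theorem s0_f50555 : ed sl_bt s0_v2647 = s0_v6516 :=
  rfl
theorem s0_f50555r : ed sl_bf s0_v6516 = s0_v2647 :=
  edge_flip (s0_f50555 IH)
theorem s0_f50556 : ed sl_bf s0_v2647 = s0_v6516 :=
  gap_rel s0_rot17 (path_edge (s0_f50555r IH) (path_nil s0_v6516))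
theorem s0_f11942r : ed sl_gf s0_v870 = sq663 :=
  edge_flip (s0_f11942 IH)
theorem s0_f7736r : ed sl_bf sq1187 = sq760 :=
  edge_flip (s0_f7736 IH)
theorem s0_f50557 : ed sl_gf s0_v6510 = s0_v6516 :=
  gap_rel s0_rot61 (path_edge (s0_f50539 IH) (path_edge (s0_f25648 IH) (path_edge (s0_f14498 IH) (path_edge (s0_f13323 IH) (path_edge (s0_f7736r IH) (path_edge (s0_f18570r IH) (path_edge (s0_f18566 IH) (path_edge (s0_f14301 IH) (path_edge (s0_f6282 IH) (path_edge (s0_f3376r IH) (path_edge (s0_f2126r IH) (path_edge (s0_f11942r IH) (path_edge (s0_f25625r IH) (path_edge (s0_f50555r IH) (path_nil s0_v6516)))))))))))))))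
theorem s0_f50557r : ed sl_gt s0_v6516 = s0_v6510 :=
  edge_flip (s0_f50557 IH)
theorem s0_f50538r : ed sl_ct s0_v6510 = s0_v2644 :=
  edge_flip (s0_f50538 IH)
theorem s0_f50558 : ed sl_ct s0_v6511 = s0_v6516 :=
  gap_rel s0_rot30 (path_edge (s0_f50541 IH) (path_edge (s0_f50538r IH) (path_edge (s0_f50557r IH) (path_nil s0_v6516))))
theorem s0_f50565 : ed sl_gt s0_v2648 = s0_v6519 :=
  rfl
theorem s0_f50587 : ed sl_gt s0_v2651 = s0_v6526 :=
  rfl
theorem s0_f50587r : ed sl_gf s0_v6526 = s0_v2651 :=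
  edge_flip (s0_f50587 IH)
theorem s0_f25646r : ed sl_at s0_v2651 = s0_v873 :=
  edge_flip (s0_f25646 IH)
theorem s0_f50590 : ed sl_ff s0_v6511 = s0_v6526 :=
  gap_rel s0_rot21 (path_edge (s0_f50542 IH) (path_edge (s0_f25615 IH) (path_edge (s0_f25646r IH) (path_edge (s0_f50587r IH) (path_nil s0_v6526)))))
theorem s0_f50590r : ed sl_ft s0_v6526 = s0_v6511 :=
  edge_flip (s0_f50590 IH)
theorem s0_f50591 : ed sl_ft s0_v6511 = s0_v6526 :=
  gap_rel s0_rot20 (path_edge (s0_f50590r IH) (path_nil s0_v6526))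
theorem s0_f50591r : ed sl_ff s0_v6526 = s0_v6511 :=
  edge_flip (s0_f50591 IH)
theorem s0_f50592 : ed sl_at s0_v2653 = s0_v6526 :=
  gap_rel s0_rot25 (path_edge (s0_f25652 IH) (path_edge (s0_f25616r IH) (path_edge (s0_f50541r IH) (path_edge (s0_f50591r IH) (path_nil s0_v6526)))))
theorem s0_f50558r : ed sl_cf s0_v6516 = s0_v6511 :=
  edge_flip (s0_f50558 IH)
theorem s0_f50592r : ed sl_af s0_v6526 = s0_v2653 :=
  edge_flip (s0_f50592 IH)
theorem s0_f27764r : ed sl_cf s0_v3058 = s0_v2268 :=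
  edge_flip (s0_f27764 IH)
theorem s0_f23664r : ed sl_ff s0_v2268 = sq1189 :=
  edge_flip (s0_f23664 IH)
theorem s0_f4246r : ed sl_af sq1189 = sq761 :=
  edge_flip (s0_f4246 IH)
theorem s0_f4245r : ed sl_bf sq761 = sq469 :=
  edge_flip (s0_f4245 IH)
theorem s0_f2108r : ed sl_cf sq231 = sq407 :=
  edge_flip (s0_f2108 IH)
theorem s0_f2112r : ed sl_ff sq407 = sq230 :=
  edge_flip (s0_f2112 IH)
theorem s0_f2113r : ed sl_af sq230 = sq404 :=
  edge_flip (s0_f2113 IH)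
theorem s0_f2114r : ed sl_bf sq404 = sq663 :=
  edge_flip (s0_f2114 IH)
theorem s0_f50593 : s0_v6487 = s0_v2647 :=
  (loop_rel s0_rot80 (path_edge (s0_f50432 IH) (path_edge (s0_f25597 IH) (path_edge (s0_f11928 IH) (path_edge (s0_f2114r IH) (path_edge (s0_f2113r IH) (path_edge (s0_f2112r IH) (path_edge (s0_f2108r IH) (path_edge (s0_f2096r IH) (path_edge (s0_f4244r IH) (path_edge (s0_f4241 IH) (path_edge (s0_f3848r IH) (path_edge (s0_f4245r IH) (path_edge (s0_f4246r IH) (path_edge (s0_f23664r IH) (path_edge (s0_f27764r IH) (path_edge (s0_f27759 IH) (path_edge (s0_f50592r IH) (path_edge (s0_f50590 IH) (path_edge (s0_f50558r IH) (path_edge (s0_f50556 IH) (path_nil s0_v2647)))))))))))))))))))))).symm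
theorem s0_f50434r : ed sl_ft s0_v6487 = s0_v2634 :=
  edge_flip (s0_f50434 IH)
theorem s0_f25627r : ed sl_ft s0_v2647 = s0_v870 :=
  edge_flip (s0_f25627 IH)
theorem s0_f50596 : s0_v2634 = s0_v870 :=
  edge_fun (edge_congr (s0_f50434r IH) (s0_f50593 IH)) (s0_f25627r IH)
theorem s0_f50605 : s0_v5550 = s0_v2118 :=
  edge_fun (edge_congr (s0_f45729 IH) (s0_f50596 IH)) (s0_f21667 IH)
theorem s0_f52136 : ed sl_ct s0_v2785 = s0_v6814 :=
  rfl
theorem s0_f52136r : ed sl_cf s0_v6814 = s0_v2785 :=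
  edge_flip (s0_f52136 IH)
theorem s0_f13245r : ed sl_cf s0_v956 = s0_v374 :=
  edge_flip (s0_f13245 IH)
theorem s0_f52137 : ed sl_bf s0_v3327 = s0_v6814 :=
  gap_rel s0_rot69 (path_edge (s0_f29258 IH) (path_edge (s0_f14949 IH) (path_edge (s0_f13245r IH) (path_edge (s0_f26367r IH) (path_edge (s0_f52136r IH) (path_nil s0_v6814))))))
theorem s0_f52138 : ed sl_cf s0_v2785 = s0_v6814 :=
  gap_rel s0_rot31 (path_edge (s0_f52136r IH) (path_nil s0_v6814))
theorem s0_f52140 : ed sl_gf s0_v6814 = s0_v6814 :=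
  gap_rel s0_rot16 (path_edge (s0_f52138 IH) (path_edge (s0_f26370 IH) (path_edge (s0_f52136r IH) (path_nil s0_v6814))))
theorem s0_f52140r : ed sl_gt s0_v6814 = s0_v6814 :=
  edge_flip (s0_f52140 IH)
theorem s0_f52137r : ed sl_bt s0_v6814 = s0_v3327 :=
  edge_flip (s0_f52137 IH)
theorem s0_f16054r : ed sl_bt s0_v1477 = s0_v1477 :=
  edge_flip (s0_f16054 IH)
theorem s0_f52141 : ed sl_bt s0_v3327 = s0_v6814 :=
  gap_rel s0_rot35 (path_edge (s0_f29262 IH) (path_edge (s0_f16054r IH) (path_edge (s0_f29260r IH) (path_edge (s0_f52137r IH) (path_edge (s0_f52140r IH) (path_nil s0_v6814))))))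
theorem s0_f52705 : ed sl_ct s0_v2844 = s0_v6942 :=
  rfl
theorem s0_f52705r : ed sl_cf s0_v6942 = s0_v2844 :=
  edge_flip (s0_f52705 IH)
theorem s0_f26665r : ed sl_ff s0_v2844 = s0_v2570 :=
  edge_flip (s0_f26665 IH)
theorem s0_f52707 : ed sl_ff s0_v3525 = s0_v6942 :=
  gap_rel s0_rot11 (path_edge (s0_f30150 IH) (path_edge (s0_f26665r IH) (path_edge (s0_f52705r IH) (path_nil s0_v6942))))
theorem s0_f52707r : ed sl_ft s0_v6942 = s0_v3525 :=
  edge_flip (s0_f52707 IH)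
theorem s0_f52708 : ed sl_ft s0_v3525 = s0_v6942 :=
  gap_rel s0_rot20 (path_edge (s0_f52707r IH) (path_nil s0_v6942))
theorem s0_f52883 : ed sl_ct s0_v2864 = s0_v6982 :=
  rfl
theorem s0_f52883r : ed sl_cf s0_v6982 = s0_v2864 :=
  edge_flip (s0_f52883 IH)
theorem s0_f52885 : ed sl_cf s0_v2864 = s0_v6982 :=
  gap_rel s0_rot31 (path_edge (s0_f52883r IH) (path_nil s0_v6982))
theorem s0_f52885r : ed sl_ct s0_v6982 = s0_v2864 :=
  edge_flip (s0_f52885 IH)
theorem s0_f26739r : ed sl_bt s0_v2864 = s0_v1006 :=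
  edge_flip (s0_f26739 IH)
theorem s0_f13792r : ed sl_ct s0_v1006 = s0_v997 :=
  edge_flip (s0_f13792 IH)
theorem s0_f52886 : ed sl_bt s0_v6942 = s0_v6982 :=
  gap_rel s0_rot34 (path_edge (s0_f52705 IH) (path_edge (s0_f26652 IH) (path_edge (s0_f13792r IH) (path_edge (s0_f26739r IH) (path_edge (s0_f52885r IH) (path_nil s0_v6982))))))
theorem s0_f53976 : ed sl_at s0_v2973 = s0_v7197 :=
  rfl
theorem s0_f53978 : ed sl_ct s0_v2973 = s0_v7198 :=
  rfl
theorem s0_f53978r : ed sl_cf s0_v7198 = s0_v2973 :=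
  edge_flip (s0_f53978 IH)
theorem s0_f53979 : ed sl_cf s0_v2973 = s0_v7198 :=
  gap_rel s0_rot31 (path_edge (s0_f53978r IH) (path_nil s0_v7198))
theorem s0_f53980 : ed sl_gt s0_v2973 = s0_v7199 :=
  rfl
theorem s0_f53980r : ed sl_gf s0_v7199 = s0_v2973 :=
  edge_flip (s0_f53980 IH)
theorem s0_f27289r : ed sl_bf s0_v2973 = s0_v1059 :=
  edge_flip (s0_f27289 IH)
theorem s0_f14080r : ed sl_ff s0_v1059 = s0_v276 :=
  edge_flip (s0_f14080 IH)
theorem s0_f862r : ed sl_bf sq339 = sq190 :=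
  edge_flip (s0_f862 IH)
theorem s0_f1562r : ed sl_ff sq190 = sq97 :=
  edge_flip (s0_f1562 IH)
theorem s0_f662r : ed sl_gf sq97 = sq44 :=
  edge_flip (s0_f662 IH)
theorem s0_f1462r : ed sl_bf sq44 = sq93 :=
  edge_flip (s0_f1462 IH)
theorem s0_f2795r : ed sl_ff sq93 = sq179 :=
  edge_flip (s0_f2795 IH)
theorem s0_f5337r : ed sl_gf sq179 = sq315 :=
  edge_flip (s0_f5337 IH)
theorem s0_f3268r : ed sl_bf sq315 = sq523 :=
  edge_flip (s0_f3268 IH)
theorem s0_f53983 : ed sl_ff s0_v6064 = s0_v7199 :=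
  gap_rel s0_rot62 (path_edge (s0_f48326 IH) (path_edge (s0_f24515 IH) (path_edge (s0_f9944 IH) (path_edge (s0_f3268r IH) (path_edge (s0_f5337r IH) (path_edge (s0_f2795r IH) (path_edge (s0_f1462r IH) (path_edge (s0_f662r IH) (path_edge (s0_f1562r IH) (path_edge (s0_f862r IH) (path_edge (s0_f5630r IH) (path_edge (s0_f14080r IH) (path_edge (s0_f27289r IH) (path_edge (s0_f53980r IH) (path_nil s0_v7199)))))))))))))))
theorem s0_f53983r : ed sl_ft s0_v7199 = s0_v6064 :=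
  edge_flip (s0_f53983 IH)
theorem s0_f53984 : ed sl_ft s0_v6064 = s0_v7199 :=
  gap_rel s0_rot20 (path_edge (s0_f53983r IH) (path_nil s0_v7199))
theorem s0_f53976r : ed sl_af s0_v7197 = s0_v2973 :=
  edge_flip (s0_f53976 IH)
theorem s0_f53985 : ed sl_ft s0_v6036 = s0_v7197 :=
  gap_rel s0_rot10 (path_edge (s0_f48327r IH) (path_edge (s0_f53983r IH) (path_edge (s0_f53980 IH) (path_edge (s0_f53976r IH) (path_nil s0_v7197)))))
theorem s0_f53985r : ed sl_ff s0_v7197 = s0_v6036 :=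
  edge_flip (s0_f53985 IH)
theorem s0_f53987 : ed sl_ff s0_v6036 = s0_v7197 :=
  gap_rel s0_rot12 (path_edge (s0_f53985r IH) (path_nil s0_v7197))
theorem s0_f53987r : ed sl_ft s0_v7197 = s0_v6036 :=
  edge_flip (s0_f53987 IH)
theorem s0_f48206r : ed sl_bt s0_v6036 = s0_v2385 :=
  edge_flip (s0_f48206 IH)
theorem s0_f24447r : ed sl_gt s0_v2385 = s0_v723 :=
  edge_flip (s0_f24447 IH)
theorem s0_f9753r : ed sl_ft s0_v723 = sq505 :=
  edge_flip (s0_f9753 IH)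
theorem s0_f48126r : ed sl_gt s0_v6016 = s0_v3525 :=
  edge_flip (s0_f48126 IH)
theorem s0_f53989 : ed sl_gt s0_v6982 = s0_v7197 :=
  gap_rel s0_rot81 (path_edge (s0_f52886 IH) (path_edge (s0_f52708 IH) (path_edge (s0_f48126r IH) (path_edge (s0_f48123 IH) (path_edge (s0_f24410 IH) (path_edge (s0_f9726 IH) (path_edge (s0_f2771 IH) (path_edge (s0_f2728 IH) (path_edge (s0_f2758 IH) (path_edge (s0_f2759 IH) (path_edge (s0_f9753r IH) (path_edge (s0_f24447r IH) (path_edge (s0_f48206r IH) (path_edge (s0_f53987r IH) (path_nil s0_v7197)))))))))))))))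
theorem s0_f53984r : ed sl_ff s0_v7199 = s0_v6064 :=
  edge_flip (s0_f53984 IH)
theorem s0_f48328r : ed sl_gf s0_v6064 = s0_v6036 :=
  edge_flip (s0_f48328 IH)
theorem s0_f53989r : ed sl_gf s0_v7197 = s0_v6982 :=
  edge_flip (s0_f53989 IH)
theorem s0_f53993 : ed sl_at s0_v6982 = s0_v7199 :=
  gap_rel s0_rot25 (path_edge (s0_f53989r IH) (path_edge (s0_f53987 IH) (path_edge (s0_f48328r IH) (path_edge (s0_f53984r IH) (path_nil s0_v7199)))))
theorem s0_f53993r : ed sl_af s0_v7199 = s0_v6982 :=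
  edge_flip (s0_f53993 IH)
theorem s0_f53994 : ed sl_cf s0_v5919 = s0_v7199 :=
  gap_rel s0_rot2 (path_edge (s0_f47676 IH) (path_edge (s0_f52883r IH) (path_edge (s0_f53993r IH) (path_nil s0_v7199))))
theorem s0_f53979r : ed sl_ct s0_v7198 = s0_v2973 :=
  edge_flip (s0_f53979 IH)
theorem s0_f53994r : ed sl_ct s0_v7199 = s0_v5919 :=
  edge_flip (s0_f53994 IH)
theorem s0_f53996 : ed sl_gt s0_v5919 = s0_v7198 :=
  gap_rel s0_rot82 (path_edge (s0_f53994r IH) (path_edge (s0_f53980 IH) (path_edge (s0_f53979r IH) (path_nil s0_v7198))))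
theorem s0_f53996r : ed sl_gf s0_v7198 = s0_v5919 :=
  edge_flip (s0_f53996 IH)
theorem s0_f53998 : ed sl_gf s0_v5919 = s0_v7198 :=
  gap_rel s0_rot6 (path_edge (s0_f53996r IH) (path_nil s0_v7198))
theorem s0_f54483 : ed sl_bt s0_v3034 = s0_v7291 :=
  rfl
theorem s0_f54483r : ed sl_bf s0_v7291 = s0_v3034 :=
  edge_flip (s0_f54483 IH)
theorem s0_f54484 : ed sl_bf s0_v3034 = s0_v7291 :=
  gap_rel s0_rot17 (path_edge (s0_f54483r IH) (path_nil s0_v7291))
theorem s0_f54485 : ed sl_cf s0_v7291 = s0_v7291 :=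
  gap_rel s0_rot52 (path_edge (s0_f54484 IH) (path_edge (s0_f27636 IH) (path_edge (s0_f14224 IH) (path_edge (s0_f27634r IH) (path_edge (s0_f54483r IH) (path_nil s0_v7291))))))
theorem s0_f27640r : ed sl_df s0_v3034 = s0_v2538 :=
  edge_flip (s0_f27640 IH)
theorem s0_f54486 : ed sl_df s0_v6292 = s0_v7291 :=
  gap_rel s0_rot36 (path_edge (s0_f49557 IH) (path_edge (s0_f27640r IH) (path_edge (s0_f54483r IH) (path_nil s0_v7291))))
theorem s0_f54486r : ed sl_dt s0_v7291 = s0_v6292 :=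
  edge_flip (s0_f54486 IH)
theorem s0_f54487 : ed sl_dt s0_v6292 = s0_v7291 :=
  gap_rel s0_rot37 (path_edge (s0_f54486r IH) (path_nil s0_v7291))
theorem s0_f54485r : ed sl_ct s0_v7291 = s0_v7291 :=
  edge_flip (s0_f54485 IH)
theorem s0_f49558r : ed sl_ct s0_v6292 = s0_v6292 :=
  edge_flip (s0_f49558 IH)
theorem s0_f54488 : ed sl_af s0_v6292 = s0_v6292 :=
  gap_rel s0_rot83 (path_edge (s0_f49558r IH) (path_edge (s0_f54486r IH) (path_edge (s0_f54485r IH) (path_edge (s0_f54487 IH) (path_edge (s0_f49558r IH) (path_edge (s0_f54486r IH) (path_edge (s0_f54485r IH) (path_edge (s0_f54487 IH) (path_nil s0_v6292)))))))))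
theorem s0_f54554 : ed sl_bt s0_v3043 = s0_v7306 :=
  rfl
theorem s0_f54554r : ed sl_bf s0_v7306 = s0_v3043 :=
  edge_flip (s0_f54554 IH)
theorem s0_f54555 : ed sl_bf s0_v3043 = s0_v7306 :=
  gap_rel s0_rot17 (path_edge (s0_f54554r IH) (path_nil s0_v7306))
theorem s0_f54556 : ed sl_cf s0_v7306 = s0_v7306 :=
  gap_rel s0_rot52 (path_edge (s0_f54555 IH) (path_edge (s0_f27683 IH) (path_edge (s0_f14245 IH) (path_edge (s0_f27681r IH) (path_edge (s0_f54554r IH) (path_nil s0_v7306))))))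
theorem s0_f27687r : ed sl_df s0_v3043 = s0_v2556 :=
  edge_flip (s0_f27687 IH)
theorem s0_f54557 : ed sl_df s0_v6331 = s0_v7306 :=
  gap_rel s0_rot36 (path_edge (s0_f49708 IH) (path_edge (s0_f27687r IH) (path_edge (s0_f54554r IH) (path_nil s0_v7306))))
theorem s0_f54557r : ed sl_dt s0_v7306 = s0_v6331 :=
  edge_flip (s0_f54557 IH)
theorem s0_f54558 : ed sl_dt s0_v6331 = s0_v7306 :=
  gap_rel s0_rot37 (path_edge (s0_f54557r IH) (path_nil s0_v7306))
theorem s0_f54739 : ed sl_at s0_v3072 = s0_v7348 :=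
  rfl
theorem s0_f54739r : ed sl_af s0_v7348 = s0_v3072 :=
  edge_flip (s0_f54739 IH)
theorem s0_f27828r : ed sl_cf s0_v3072 = s0_v1422 :=
  edge_flip (s0_f27828 IH)
theorem s0_f54741 : ed sl_cf s0_v3667 = s0_v7348 :=
  gap_rel s0_rot2 (path_edge (s0_f30827 IH) (path_edge (s0_f27828r IH) (path_edge (s0_f54739r IH) (path_nil s0_v7348))))
theorem s0_f54741r : ed sl_ct s0_v7348 = s0_v3667 :=
  edge_flip (s0_f54741 IH)
theorem s0_f54744 : ed sl_ct s0_v3667 = s0_v7348 :=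
  gap_rel s0_rot79 (path_edge (s0_f54741r IH) (path_nil s0_v7348))
theorem s0_f54751 : ed sl_ft s0_v3072 = s0_v7350 :=
  rfl
theorem s0_f54751r : ed sl_ff s0_v7350 = s0_v3072 :=
  edge_flip (s0_f54751 IH)
theorem s0_f54752 : ed sl_cf s0_v3672 = s0_v7350 :=
  gap_rel s0_rot47 (path_edge (s0_f30853 IH) (path_edge (s0_f27828r IH) (path_edge (s0_f54751r IH) (path_nil s0_v7350))))
theorem s0_f54754 : ed sl_ff s0_v3072 = s0_v7350 :=
  gap_rel s0_rot12 (path_edge (s0_f54751r IH) (path_nil s0_v7350))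
theorem s0_f54754r : ed sl_ft s0_v7350 = s0_v3072 :=
  edge_flip (s0_f54754 IH)
theorem s0_f54756 : ed sl_dt s0_v6457 = s0_v7350 :=
  gap_rel s0_rot5 (path_edge (s0_f50309 IH) (path_edge (s0_f27826r IH) (path_edge (s0_f54754r IH) (path_nil s0_v7350))))
theorem s0_f50283r : ed sl_cf s0_v6449 = s0_v2621 :=
  edge_flip (s0_f50283 IH)
theorem s0_f54744r : ed sl_cf s0_v7348 = s0_v3667 :=
  edge_flip (s0_f54744 IH)
theorem s0_f54756r : ed sl_df s0_v7350 = s0_v6457 :=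
  edge_flip (s0_f54756 IH)
theorem s0_f54757 : s0_v6457 = s0_v6449 :=
  (loop_rel s0_rot65 (path_edge (s0_f54756r IH) (path_edge (s0_f54752 IH) (path_edge (s0_f30852 IH) (path_edge (s0_f15805 IH) (path_edge (s0_f30826r IH) (path_edge (s0_f54744r IH) (path_edge (s0_f54739 IH) (path_edge (s0_f27826 IH) (path_edge (s0_f50283r IH) (path_nil s0_v6449))))))))))).symm
theorem s0_f50309r : ed sl_ff s0_v6457 = s0_v2621 :=
  edge_flip (s0_f50309 IH)
theorem s0_f54758 : s0_v6292 = s0_v2618 :=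
  (loop_rel s0_rot51 (path_edge (s0_f49557 IH) (path_edge (s0_f25138 IH) (path_edge (s0_f25522r IH) (path_edge (s0_f50309r IH) (path_eq (s0_f54757 IH).symm (path_edge (s0_f50281 IH) (path_edge (s0_f25513 IH) (path_nil s0_v2618))))))))).symm
theorem s0_f54488r : ed sl_at s0_v6292 = s0_v6292 :=
  edge_flip (s0_f54488 IH)
theorem s0_f54759 : s0_v6292 = s0_v6442 :=
  edge_fun (edge_congr (s0_f54488r IH) (s0_f54758 IH)) (s0_f50253 IH)
theorem s0_f49557r : ed sl_bt s0_v6292 = s0_v2538 :=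
  edge_flip (s0_f49557 IH)
theorem s0_f54760 : s0_v2538 = s0_v6449 :=
  edge_fun (edge_congr (s0_f49557r IH) (s0_f54758 IH)) (s0_f50280 IH)
theorem s0_f25512r : ed sl_ct s0_v2618 = s0_v857 :=
  edge_flip (s0_f25512 IH)
theorem s0_f54761 : s0_v6292 = s0_v857 :=
  edge_fun (edge_congr (s0_f49558r IH) (s0_f54758 IH)) (s0_f25512r IH)
theorem s0_f50251r : ed sl_ct s0_v6442 = s0_v2614 :=
  edge_flip (s0_f50251 IH)
theorem s0_f54763 : s0_v2614 = s0_v857 :=
  edge_fun (edge_congr (s0_f50251r IH) ((s0_f54759 IH).symm.trans (s0_f54758 IH))) (s0_f25512r IH)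
theorem s0_f25137r : ed sl_ct s0_v2538 = s0_v815 :=
  edge_flip (s0_f25137 IH)
theorem s0_f54764 : s0_v2621 = s0_v815 :=
  edge_fun (edge_congr (s0_f50282r IH) (s0_f54760 IH).symm) (s0_f25137r IH)
theorem s0_f54765 : s0_v7350 = s0_v3034 :=
  edge_fun (edge_congr (s0_f54756 IH) ((s0_f54757 IH).trans (s0_f54760 IH).symm)) (s0_f27640 IH)
theorem s0_f54767 : s0_v6449 = sq658 :=
  edge_fun (edge_congr (s0_f50280 IH) ((s0_f54758 IH).symm.trans (s0_f54761 IH))) (s0_f11840r IH)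
theorem s0_f54771 : s0_v6436 = sq658 :=
  edge_fun (edge_congr (s0_f50224 IH) (s0_f54763 IH)) (s0_f11840r IH)
theorem s0_f11240r : ed sl_dt s0_v815 = s0_v299 :=
  edge_flip (s0_f11240 IH)
theorem s0_f54777 : s0_v3072 = s0_v299 :=
  edge_fun (edge_congr (s0_f27827 IH) (s0_f54764 IH)) (s0_f11240r IH)
theorem s0_f54752r : ed sl_ct s0_v7350 = s0_v3672 :=
  edge_flip (s0_f54752 IH)
theorem s0_f27636r : ed sl_ct s0_v3034 = s0_v1086 :=
  edge_flip (s0_f27636 IH)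
theorem s0_f54780 : s0_v3672 = s0_v1086 :=
  edge_fun (edge_congr (s0_f54752r IH) (s0_f54765 IH)) (s0_f27636r IH)
theorem s0_f54788 : s0_v3034 = sq400 :=
  edge_fun (edge_congr (s0_f27640 IH) ((s0_f54760 IH).trans (s0_f54767 IH))) (s0_f3353 IH)
theorem s0_f50220r : ed sl_at s0_v6436 = s0_v3160 :=
  edge_flip (s0_f50220 IH)
theorem s0_f54793 : s0_v3160 = sq402 :=
  edge_fun (edge_congr (s0_f50220r IH) (s0_f54771 IH)) (s0_f6341 IH)
theorem s0_f6131r : ed sl_ct s0_v299 = s0_v100 :=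
  edge_flip (s0_f6131 IH)
theorem s0_f54800 : s0_v1422 = s0_v100 :=
  edge_fun (edge_congr (s0_f27825r IH) (s0_f54777 IH)) (s0_f6131r IH)
theorem s0_f30852r : ed sl_dt s0_v3672 = s0_v1423 :=
  edge_flip (s0_f30852 IH)
theorem s0_f14221r : ed sl_dt s0_v1086 = s0_v290 :=
  edge_flip (s0_f14221 IH)
theorem s0_f54803 : s0_v1423 = s0_v290 :=
  edge_fun (edge_congr (s0_f30852r IH) (s0_f54780 IH)) (s0_f14221r IH)
theorem s0_f54820 : s0_v1086 = sq226 :=
  edge_fun (edge_congr (s0_f27636r IH) (s0_f54788 IH)) (s0_f3233 IH)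
theorem s0_f28303r : ed sl_bt s0_v3160 = s0_v1154 :=
  edge_flip (s0_f28303 IH)
theorem s0_f54830 : s0_v1154 = sq240 :=
  edge_fun (edge_congr (s0_f28303r IH) (s0_f54793 IH)) (s0_f6585 IH)
theorem s0_f15800r : ed sl_bt s0_v1422 = s0_v482 :=
  edge_flip (s0_f15800 IH)
theorem s0_f54846 : s0_v482 = s0_v441 :=
  edge_fun (edge_congr (s0_f15800r IH) (s0_f54800 IH)) (s0_f8241 IH)
theorem s0_f15801r : ed sl_dt s0_v1422 = s0_v481 :=
  edge_flip (s0_f15801 IH)
theorem s0_f54847 : s0_v481 = s0_v289 :=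
  edge_fun (edge_congr (s0_f15801r IH) (s0_f54800 IH)) (s0_f5922 IH)
theorem s0_f15806r : ed sl_ft s0_v1423 = s0_v481 :=
  edge_flip (s0_f15806 IH)
theorem s0_f54855 : s0_v481 = sq384 :=
  edge_fun (edge_congr (s0_f15806r IH) (s0_f54803 IH)) (s0_f5931r IH)
theorem s0_f14224r : ed sl_bt s0_v1086 = s0_v1086 :=
  edge_flip (s0_f14224 IH)
theorem s0_f54883 : s0_v1086 = s0_v104 :=
  edge_fun (edge_congr (s0_f14224r IH) (s0_f54820 IH)) (s0_f3351 IH)
theorem s0_f14563r : ed sl_at s0_v1154 = s0_v331 :=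
  edge_flip (s0_f14563 IH)
theorem s0_f54901 : s0_v331 = sq418 :=
  edge_fun (edge_congr (s0_f14563r IH) (s0_f54830 IH)) (s0_f3500 IH)
theorem s0_f8420r : ed sl_at s0_v482 = s0_v124 :=
  edge_flip (s0_f8420 IH)
theorem s0_f54912 : s0_v124 = s0_v1345 :=
  edge_fun (edge_congr (s0_f8420r IH) (s0_f54846 IH)) (s0_f15462 IH)
theorem s0_f54979 : s0_v443 = sq119 :=
  edge_fun (edge_congr (s0_f8246 IH) ((s0_f54883 IH).symm.trans (s0_f54820 IH))) (s0_f1142 IH)
theorem s0_f54980 : s0_v307 = sq383 :=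
  edge_fun (edge_congr (s0_f6331 IH) ((s0_f54883 IH).symm.trans (s0_f54820 IH))) (s0_f3228 IH)
theorem s0_f54984 : s0_v445 = s0_v100 :=
  edge_fun (edge_congr (s0_f8252 IH) ((s0_f54883 IH).symm.trans (s0_f54820 IH))) (s0_f3230 IH)
theorem s0_f54985 : s0_v446 = sq401 :=
  edge_fun (edge_congr (s0_f8254 IH) ((s0_f54883 IH).symm.trans (s0_f54820 IH))) (s0_f3231 IH)
theorem s0_f55009 : s0_v109 = sq239 :=
  edge_fun (edge_congr (s0_f6786r IH) (s0_f54901 IH)) (s0_f1385 IH)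
theorem s0_f3772r : ed sl_dt s0_v124 = sq259 :=
  edge_flip (s0_f3772 IH)
theorem s0_f55028 : s0_v3029 = sq259 :=
  edge_fun (edge_congr (s0_f27614 IH) (s0_f54912 IH).symm) (s0_f3772r IH)
theorem s0_f55093 : s0_v212 = sq55 :=
  edge_fun (edge_congr (s0_f8248r IH) (s0_f54979 IH)) (s0_f1141 IH)
theorem s0_f55094 : s0_v1101 = sq219 :=
  edge_fun (edge_congr (s0_f14326 IH) (s0_f54979 IH)) (s0_f411 IH)
theorem s0_f55101 : s0_v1103 = s0_v289 :=
  edge_fun (edge_congr (s0_f14329 IH) (s0_f54980 IH)) (s0_f5924 IH)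
theorem s0_f55107 : s0_v1355 = s0_v105 :=
  edge_fun (edge_congr (s0_f15503 IH) (s0_f54984 IH)) (s0_f3373 IH)
theorem s0_f55109 : s0_v1356 = s0_v101 :=
  edge_fun (edge_congr (s0_f15509 IH) (s0_f54985 IH)) (s0_f3251 IH)
theorem s0_f55128 : s0_v457 = sq351 :=
  edge_fun (edge_congr (s0_f8286 IH) (s0_f55009 IH)) (s0_f3468 IH)
theorem s0_f55159 : s0_v3921 = s0_v125 :=
  edge_fun (edge_congr (s0_f32019 IH) (s0_f55028 IH)) (s0_f3825 IH)
theorem s0_f55238 : s0_v561 = sq117 :=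
  edge_fun (edge_congr (s0_f8800 IH) (s0_f55093 IH)) (s0_f890 IH)
theorem s0_f55239 : s0_v617 = sq25 :=
  edge_fun (edge_congr (s0_f9075 IH) (s0_f55093 IH)) (s0_f891 IH)
theorem s0_f55244 : s0_v3060 = sq385 :=
  edge_fun (edge_congr (s0_f27771 IH) (s0_f55094 IH)) (s0_f3319 IH)
theorem s0_f55258 : s0_v3065 = s0_v310 :=
  edge_fun (edge_congr (s0_f27791 IH) (((s0_f55101 IH).trans (s0_f54847 IH).symm).trans (s0_f54855 IH))) (s0_f6392 IH)
theorem s0_f15508r : ed sl_bt s0_v1355 = s0_v625 :=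
  edge_flip (s0_f15508 IH)
theorem s0_f55267 : s0_v625 = s0_v447 :=
  edge_fun (edge_congr (s0_f15508r IH) (s0_f55107 IH)) (s0_f8256 IH)
theorem s0_f15511r : ed sl_bt s0_v1356 = s0_v964 :=
  edge_flip (s0_f15511 IH)
theorem s0_f55271 : s0_v964 = s0_v302 :=
  edge_fun (edge_congr (s0_f15511r IH) (s0_f55109 IH)) (s0_f6260 IH)
theorem s0_f55306 : s0_v778 = sq573 :=
  edge_fun (edge_congr (s0_f10566 IH) (s0_f55128 IH)) (s0_f3469 IH)
theorem s0_f32013r : ed sl_bt s0_v3921 = s0_v1560 :=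
  edge_flip (s0_f32013 IH)
theorem s0_f55352 : s0_v1560 = s0_v486 :=
  edge_fun (edge_congr (s0_f32013r IH) (s0_f55159 IH)) (s0_f8441 IH)
theorem s0_f55474 : s0_v1564 = sq54 :=
  edge_fun (edge_congr (s0_f16479 IH) (s0_f55238 IH)) (s0_f1777 IH)
theorem s0_f55477 : s0_v623 = sq56 :=
  edge_fun (edge_congr (s0_f9103 IH) (s0_f55239 IH)) (s0_f493 IH)
theorem s0_f55488 : s0_v3084 = s0_v134 :=
  edge_fun (edge_congr (s0_f27887 IH) (s0_f55244 IH)) (s0_f4035 IH)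
theorem s0_f55516 : s0_v1553 = s0_v1110 :=
  edge_fun (edge_congr (s0_f27797r IH) (s0_f55258 IH)) (s0_f14355 IH)
theorem s0_f9109r : ed sl_at s0_v625 = s0_v218 :=
  edge_flip (s0_f9109 IH)
theorem s0_f14320r : ed sl_at s0_v447 = s0_v452 :=
  edge_flip (s0_f14320 IH)
theorem s0_f55534 : s0_v218 = s0_v452 :=
  edge_fun (edge_congr (s0_f9109r IH) (s0_f55267 IH)) (s0_f14320r IH)
theorem s0_f13307r : ed sl_at s0_v964 = s0_v379 :=
  edge_flip (s0_f13307 IH)
theorem s0_f55545 : s0_v379 = s0_v821 :=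
  edge_fun (edge_congr (s0_f13307r IH) (s0_f55271 IH)) (s0_f11307 IH)
theorem s0_f10563r : ed sl_ct s0_v778 = s0_v276 :=
  edge_flip (s0_f10563 IH)
theorem s0_f55584 : s0_v276 = sq339 :=
  edge_fun (edge_congr (s0_f10563r IH) (s0_f55306 IH)) (s0_f2347 IH)
theorem s0_f55611 : s0_v3917 = s0_v1431 :=
  edge_fun (edge_congr (s0_f31985 IH) (s0_f55352 IH)) (s0_f15841 IH)
theorem s0_f55736 : s0_v1570 = sq118 :=
  edge_fun (edge_congr (s0_f16519 IH) (s0_f55474 IH)) (s0_f885 IH)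
theorem s0_f55741 : s0_v1489 = sq120 :=
  edge_fun (edge_congr (s0_f16120 IH) (s0_f55477 IH)) (s0_f894 IH)
theorem s0_f27882r : ed sl_at s0_v3084 = s0_v1115 :=
  edge_flip (s0_f27882 IH)
theorem s0_f55747 : s0_v1115 = s0_v362 :=
  edge_fun (edge_congr (s0_f27882r IH) (s0_f55488 IH)) (s0_f7438 IH)
theorem s0_f55770 : s0_v556 = s0_v3079 :=
  edge_fun (edge_congr (s0_f16428r IH) (s0_f55516 IH)) (s0_f27863 IH)
theorem s0_f8269r : ed sl_bt s0_v452 = s0_v107 :=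
  edge_flip (s0_f8269 IH)
theorem s0_f55798 : s0_v107 = s0_v575 :=
  edge_fun (edge_congr (s0_f8269r IH) (s0_f55534 IH).symm) (s0_f8854 IH)
theorem s0_f14310r : ed sl_bt s0_v379 = s0_v1099 :=
  edge_flip (s0_f14310 IH)
theorem s0_f55816 : s0_v830 = s0_v1099 :=
  edge_fun (edge_congr (s0_f14317r IH) (s0_f55545 IH).symm) (s0_f14310r IH)
theorem s0_f55863 : s0_v1059 = sq570 :=
  edge_fun (edge_congr (s0_f14080 IH) (s0_f55584 IH)) (s0_f5629 IH)
theorem s0_f31982r : ed sl_ft s0_v3917 = s0_v1557 :=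
  edge_flip (s0_f31982 IH)
theorem s0_f55897 : s0_v1557 = s0_v3689 :=
  edge_fun (edge_congr (s0_f31982r IH) (s0_f55611 IH)) (s0_f30927 IH)
theorem s0_f56055 : s0_v3326 = sq225 :=
  edge_fun (edge_congr (s0_f29253 IH) (s0_f55736 IH)) (s0_f1780 IH)
theorem s0_f16118r : ed sl_at s0_v1489 = s0_v514 :=
  edge_flip (s0_f16118 IH)
theorem s0_f56062 : s0_v514 = sq229 :=
  edge_fun (edge_congr (s0_f16118r IH) (s0_f55741 IH)) (s0_f1186 IH)
theorem s0_f56072 : s0_v3087 = s0_v1213 :=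
  edge_fun (edge_congr (s0_f27898 IH) (s0_f55747 IH)) (s0_f14873 IH)
theorem s0_f56173 : s0_v1589 = s0_v326 :=
  edge_fun (edge_congr (s0_f16620 IH) (s0_f55798 IH).symm) (s0_f6687 IH)
theorem s0_f11428r : ed sl_at s0_v830 = s0_v305 :=
  edge_flip (s0_f11428 IH)
theorem s0_f56197 : s0_v1100 = s0_v305 :=
  edge_fun (edge_congr (s0_f14315 IH) (s0_f55816 IH).symm) (s0_f11428r IH)
theorem s0_f56258 : s0_v2973 = sq338 :=
  edge_fun (edge_congr (s0_f27289 IH) (s0_f55863 IH)) (s0_f5600 IH)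
theorem s0_f29250r : ed sl_at s0_v3326 = s0_v1227 :=
  edge_flip (s0_f29250 IH)
theorem s0_f56451 : s0_v1227 = sq397 :=
  edge_fun (edge_congr (s0_f29250r IH) (s0_f56055 IH)) (s0_f2067 IH)
theorem s0_f56456 : s0_v1490 = sq404 :=
  edge_fun (edge_congr (s0_f16123 IH) (s0_f56062 IH)) (s0_f2125 IH)
theorem s0_f56550 : s0_v3965 = s0_v876 :=
  edge_fun (edge_congr (s0_f32257 IH) (s0_f56173 IH)) (s0_f12006 IH)
theorem s0_f56563 : s0_v2571 = s0_v833 :=
  edge_fun (edge_congr (s0_f25275 IH) (s0_f56197 IH)) (s0_f11484 IH)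
theorem s0_f56644 : s0_v7198 = sq569 :=
  edge_fun (edge_congr (s0_f53978 IH) (s0_f56258 IH)) (s0_f5624 IH)
theorem s0_f56840 : s0_v3327 = sq653 :=
  edge_fun (edge_congr (s0_f29257 IH) (s0_f56451 IH)) (s0_f4177 IH)
theorem s0_f56844 : s0_v3353 = sq663 :=
  edge_fun (edge_congr (s0_f29382 IH) (s0_f56456 IH)) (s0_f2126 IH)
theorem s0_f12002r : ed sl_ft s0_v876 = s0_v825 :=
  edge_flip (s0_f12002 IH)
theorem s0_f56938 : s0_v1588 = s0_v825 :=
  edge_fun (edge_congr (s0_f32256r IH) (s0_f56550 IH)) (s0_f12002r IH)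
theorem s0_f56949 : s0_v2846 = s0_v2271 :=
  edge_fun (edge_congr (s0_f26662 IH) (s0_f56563 IH)) (s0_f23683 IH)
theorem s0_f53998r : ed sl_gt s0_v7198 = s0_v5919 :=
  edge_flip (s0_f53998 IH)
theorem s0_f57034 : s0_v5919 = sq911 :=
  edge_fun (edge_congr (s0_f53998r IH) (s0_f56644 IH)) (s0_f10491 IH)
theorem s0_f57253 : s0_v6814 = sq1031 :=
  edge_fun (edge_congr (s0_f52141 IH) (s0_f56840 IH)) (s0_f4178 IH)
theorem s0_f57255 : s0_v3353 = s0_v870 :=
  edge_fun (edge_congr (s0_f29381r IH) (s0_f56844 IH)) (s0_f11942 IH)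
theorem s0_f57333 : s0_v1588 = s0_v2555 :=
  edge_fun (edge_congr (s0_f16616 IH) (s0_f56938 IH)) (s0_f25206 IH)
theorem s0_f26660r : ed sl_ft s0_v2846 = s0_v997 :=
  edge_flip (s0_f26660 IH)
theorem s0_f57348 : s0_v997 = sq1190 :=
  edge_fun (edge_congr (s0_f26660r IH) (s0_f56949 IH)) (s0_f23680r IH)
theorem s0_f47677r : ed sl_bt s0_v5919 = s0_v2328 :=
  edge_flip (s0_f47677 IH)
theorem s0_f57395 : s0_v2328 = s0_v2002 :=
  edge_fun (edge_congr (s0_f47677r IH) (s0_f57034 IH)) (s0_f19702 IH)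
theorem s0_f57576 : s0_v6814 = s0_v2118 :=
  edge_fun (edge_congr (s0_f52140r IH) (s0_f57253 IH)) (s0_f21664 IH)
theorem s0_f57580 : s0_v2643 = s0_v868 :=
  edge_fun (edge_congr (s0_f25612 IH) ((s0_f57255 IH).symm.trans (s0_f56844 IH))) (s0_f11931 IH)
theorem s0_f57673 : ed sl_at sq780 = sq1190 :=
  edge_of_path (path_eq (s0_f57348 IH) (path_edge (s0_f13734 IH) (path_nil sq780)))
theorem s0_f19705r : ed sl_et s0_v2002 = sq2080 :=
  edge_flip (s0_f19705 IH)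
theorem s0_f57727 : s0_v5041 = sq2080 :=
  edge_fun (edge_congr (s0_f43061 IH) (s0_f57395 IH)) (s0_f19705r IH)
theorem s0_f43059r : ed sl_at s0_v5041 = sq1840 :=
  edge_flip (s0_f43059 IH)
theorem s0_f57728 : ed sl_at sq2080 = sq1840 :=
  edge_of_path (path_edge (s0_f43059r IH) (path_eq (s0_f57727 IH).symm (path_nil sq2080)))
theorem s0_f57971 : s0_v6505 = s0_v2641 :=
  edge_fun (edge_congr (s0_f50512 IH) (s0_f57580 IH)) (s0_f25603 IH)
theorem s0_f25206r : ed sl_bf s0_v2555 = s0_v825 :=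
  edge_flip (s0_f25206 IH)
theorem s0_f109463 : ed sl_cf s0_v6331 = s0_v6331 :=
  gap_rel s0_rot52 (path_edge (s0_f49708 IH) (path_edge (s0_f25212 IH) (path_edge (s0_f25206r IH) (path_eq (s0_f57333 IH) (path_eq (s0_f56938 IH).symm (path_edge (s0_f25210r IH) (path_edge (s0_f49707r IH) (path_nil s0_v6331))))))))
theorem s0_f54556r : ed sl_ct s0_v7306 = s0_v7306 :=
  edge_flip (s0_f54556 IH)
theorem s0_f109463r : ed sl_ct s0_v6331 = s0_v6331 :=
  edge_flip (s0_f109463 IH)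
theorem s0_f109464 : ed sl_af s0_v6331 = s0_v6331 :=
  gap_rel s0_rot83 (path_edge (s0_f109463r IH) (path_edge (s0_f54557r IH) (path_edge (s0_f54556r IH) (path_edge (s0_f54558 IH) (path_edge (s0_f109463r IH) (path_edge (s0_f54557r IH) (path_edge (s0_f54556r IH) (path_edge (s0_f54558 IH) (path_nil s0_v6331)))))))))
theorem s0_f8492r : ed sl_bt s0_v497 = s0_v131 :=
  edge_flip (s0_f8492 IH)
theorem s0_f27864r : ed sl_ft s0_v3079 = s0_v1110 :=
  edge_flip (s0_f27864 IH)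
theorem s0_f15970r : ed sl_bt s0_v1460 = s0_v500 :=
  edge_flip (s0_f15970 IH)
theorem s0_f6415r : ed sl_bt s0_v312 = sq386 :=
  edge_flip (s0_f6415 IH)
theorem s0_f109811 : s0_v3732 = s0_v497 :=
  (loop_rel s0_rot84 (path_edge (s0_f31122 IH) (path_edge (s0_f27973r IH) (path_edge (s0_f27971 IH) (path_edge (s0_f14405 IH) (path_edge (s0_f6474 IH) (path_edge (s0_f3323 IH) (path_edge (s0_f1961 IH) (path_edge (s0_f6415r IH) (path_edge (s0_f14378r IH) (path_edge (s0_f27897r IH) (path_eq (s0_f56072 IH).symm (path_edge (s0_f14872 IH) (path_edge (s0_f15970r IH) (path_edge (s0_f15973 IH) (path_edge (s0_f27864r IH) (path_eq (s0_f55770 IH) (path_edge (s0_f8778 IH) (path_edge (s0_f4608 IH) (path_edge (s0_f3913r IH) (path_edge (s0_f8479r IH) (path_edge (s0_f8483 IH) (path_edge (s0_f8492r IH) (path_nil s0_v497)))))))))))))))))))))))).symm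
theorem s0_f31123r : ed sl_at s0_v3732 = s0_v1453 :=
  edge_flip (s0_f31123 IH)
theorem s0_f109812 : s0_v1453 = s0_v1452 :=
  edge_fun (edge_congr (s0_f31123r IH) (s0_f109811 IH)) (s0_f15935 IH)
theorem s0_f15940r : ed sl_ft s0_v1453 = s0_v1437 :=
  edge_flip (s0_f15940 IH)
theorem s0_f109817 : s0_v1437 = s0_v3102 :=
  edge_fun (edge_congr (s0_f15940r IH) (s0_f109812 IH)) (s0_f27974 IH)
theorem s0_f109820 : s0_v3736 = s0_v3701 :=
  edge_fun (edge_congr (s0_f31149 IH) (s0_f109817 IH).symm) (s0_f30993 IH)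
theorem s0_f31071r : ed sl_ff s0_v3719 = s0_v1449 :=
  edge_flip (s0_f31071 IH)
theorem s0_f31105r : ed sl_bf s0_v3726 = s0_v1454 :=
  edge_flip (s0_f31105 IH)
theorem s0_f30993r : ed sl_gf s0_v3701 = s0_v1437 :=
  edge_flip (s0_f30993 IH)
theorem s0_f109821 : s0_v3714 = s0_v3720 :=
  (loop_rel s0_rot62 (path_edge (s0_f31049 IH) (path_edge (s0_f15896 IH) (path_edge (s0_f16443r IH) (path_eq (s0_f55897 IH).symm (path_edge (s0_f30929 IH) (path_edge (s0_f15842 IH) (path_edge (s0_f8451 IH) (path_edge (s0_f8445r IH) (path_edge (s0_f15863r IH) (path_edge (s0_f30993r IH) (path_eq (s0_f109820 IH) (path_edge (s0_f31146 IH) (path_edge (s0_f31105r IH) (path_edge (s0_f31104 IH) (path_edge (s0_f31071r IH) (path_edge (s0_f31069 IH) (path_edge (s0_f31072r IH) (path_nil s0_v3720))))))))))))))))))).symm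
theorem s0_f31074r : ed sl_ft s0_v3720 = s0_v3712 :=
  edge_flip (s0_f31074 IH)
theorem s0_f31049r : ed sl_ft s0_v3714 = s0_v1443 :=
  edge_flip (s0_f31049 IH)
theorem s0_f109822 : s0_v3712 = s0_v1443 :=
  edge_fun (edge_congr (s0_f31074r IH) (s0_f109821 IH).symm) (s0_f31049r IH)
theorem s0_f31041r : ed sl_gt s0_v3712 = s0_v1442 :=
  edge_flip (s0_f31041 IH)
theorem s0_f109824 : s0_v1442 = s0_v3715 :=
  edge_fun (edge_congr (s0_f31041r IH) (s0_f109822 IH)) (s0_f31051 IH)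
theorem s0_f6433r : ed sl_df sq3971 = sq2401 :=
  edge_flip (s0_f6433 IH)
theorem s0_f6432r : ed sl_cf sq2401 = sq1559 :=
  edge_flip (s0_f6432 IH)
theorem s0_f6431r : ed sl_df sq1559 = sq1031 :=
  edge_flip (s0_f6431 IH)
theorem s0_f11934r : ed sl_df sq1031 = sq1559 :=
  edge_flip (s0_f11934 IH)
theorem s0_f21640r : ed sl_cf sq1559 = sq2401 :=
  edge_flip (s0_f21640 IH)
theorem s0_f21641r : ed sl_df sq2401 = sq3971 :=
  edge_flip (s0_f21641 IH)
theorem s0_f111004 : ed sl_cf sq3971 = sq3971 :=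
  gap_rel s0_rot85 (path_edge (s0_f21641r IH) (path_edge (s0_f21640r IH) (path_edge (s0_f11934r IH) (path_eq (s0_f57253 IH) (path_eq (s0_f57576 IH).symm (path_eq (s0_f50605 IH) (path_edge (s0_f45726 IH) (path_edge (s0_f21633 IH) (path_edge (s0_f6431r IH) (path_edge (s0_f6432r IH) (path_edge (s0_f6433r IH) (path_nil sq3971))))))))))))
theorem s0_f111004r : ed sl_ct sq3971 = sq3971 :=
  edge_flip (s0_f111004 IH)
theorem s0_f111005 : ed sl_ct sq3971 = sq3971 :=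
  edge_of_path (path_edge (s0_f111004r IH) (path_nil sq3971))
theorem s0_f113040 : ed sl_at s0_v3096 = s0_v7366 :=
  rfl
theorem s0_f113040r : ed sl_af s0_v7366 = s0_v3096 :=
  edge_flip (s0_f113040 IH)
theorem s0_f27940r : ed sl_cf s0_v3096 = s0_v1444 :=
  edge_flip (s0_f27940 IH)
theorem s0_f113042 : ed sl_cf s0_v3710 = s0_v7366 :=
  gap_rel s0_rot2 (path_edge (s0_f31032 IH) (path_edge (s0_f27940r IH) (path_edge (s0_f113040r IH) (path_nil s0_v7366))))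
theorem s0_f113042r : ed sl_ct s0_v7366 = s0_v3710 :=
  edge_flip (s0_f113042 IH)
theorem s0_f113045 : ed sl_ct s0_v3710 = s0_v7366 :=
  gap_rel s0_rot79 (path_edge (s0_f113042r IH) (path_nil s0_v7366))
theorem s0_f113058 : ed sl_gt s0_v3096 = s0_v7369 :=
  rfl
theorem s0_f113058r : ed sl_gf s0_v7369 = s0_v3096 :=
  edge_flip (s0_f113058 IH)
theorem s0_f113059 : ed sl_cf s0_v3718 = s0_v7369 :=
  gap_rel s0_rot56 (path_edge (s0_f31065 IH) (path_edge (s0_f27940r IH) (path_edge (s0_f113058r IH) (path_nil s0_v7369))))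
theorem s0_f113061 : ed sl_gf s0_v3096 = s0_v7369 :=
  gap_rel s0_rot6 (path_edge (s0_f113058r IH) (path_nil s0_v7369))
theorem s0_f113061r : ed sl_gt s0_v7369 = s0_v3096 :=
  edge_flip (s0_f113061 IH)

end

end

end Cfsg.Agent.Helper28.S1681
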