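import Cfsg.Agent.Lib.Helper28.S1681.Seeds3

set_option autoImplicit false
set_option maxRecDepth 100000
set_option linter.all false

namespace Cfsg.Agent.Helper28.S1681

open Cfsg.Agent.Helper28
open Cfsg.Spor.Suz (Gen)

noncomputable section

section
variable (IH : ∀ y q, lvl y q < 26 → EntryOK rels S fwd inv o plet idx y q)
include IH

theorem s0_f27938r : ed sl_dt s0_v3096 = s0_v2648 :=
  edge_flip (s0_f27938 IH)
theorem s0_f113063 : ed sl_dt s0_v6519 = s0_v7369 :=
  gap_rel s0_rot7 (path_edge (s0_f50565 IH) (path_edge (s0_f27938r IH) (path_edge (s0_f113061r IH) (path_nil s0_v7369))))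
theorem s0_f50502r : ed sl_cf s0_v6502 = s0_v2648 :=
  edge_flip (s0_f50502 IH)
theorem s0_f113045r : ed sl_cf s0_v7366 = s0_v3710 :=
  edge_flip (s0_f113045 IH)
theorem s0_f31054r : ed sl_cf s0_v3715 = s0_v1446 :=
  edge_flip (s0_f31054 IH)
theorem s0_f113063r : ed sl_df s0_v7369 = s0_v6519 :=
  edge_flip (s0_f113063 IH)
theorem s0_f113064 : s0_v6519 = s0_v6502 :=
  (loop_rel s0_rot65 (path_edge (s0_f113063r IH) (path_edge (s0_f113059 IH) (path_edge (s0_f31064 IH) (path_edge (s0_f31054r IH) (path_eq (s0_f109824 IH) (path_edge (s0_f31031r IH) (path_edge (s0_f113045r IH) (path_edge (s0_f113040 IH) (path_edge (s0_f27938 IH) (path_edge (s0_f50502r IH) (path_nil s0_v6502)))))))))))).symm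
theorem s0_f50565r : ed sl_gf s0_v6519 = s0_v2648 :=
  edge_flip (s0_f50565 IH)
theorem s0_f113065 : s0_v6331 = s0_v6505 :=
  (loop_rel s0_rot32 (path_edge (s0_f49708 IH) (path_edge (s0_f25213 IH) (path_edge (s0_f25631r IH) (path_edge (s0_f50565r IH) (path_eq (s0_f113064 IH).symm (path_edge (s0_f50500 IH) (path_edge (s0_f50509r IH) (path_nil s0_v6505))))))))).symm
theorem s0_f109464r : ed sl_at s0_v6331 = s0_v6331 :=
  edge_flip (s0_f109464 IH)
theorem s0_f113066 : s0_v6331 = s0_v6489 :=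
  edge_fun (edge_congr (s0_f109464r IH) ((s0_f113065 IH).trans (s0_f57971 IH))) (s0_f50446 IH)
theorem s0_f113070 : s0_v2635 = s0_v868 :=
  edge_fun (edge_congr (s0_f50445r IH) (((s0_f113066 IH).symm.trans (s0_f113065 IH)).trans (s0_f57971 IH))) (s0_f25604r IH)
theorem s0_f25581r : ed sl_dt s0_v2635 = s0_v866 :=
  edge_flip (s0_f25581 IH)
theorem s0_f113079 : s0_v866 = sq663 :=
  edge_fun (edge_congr (s0_f25581r IH) (s0_f113070 IH)) (s0_f11933r IH)
theorem s0_f113080 : ed sl_at sq663 = sq663 :=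
  edge_of_path (path_eq (s0_f113079 IH) (path_edge (s0_f11923 IH) (path_nil sq663)))

end

end

end Cfsg.Agent.Helper28.S1681
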