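import Cfsg.Agent.Lib.Helper28.S1681.Levels

set_option autoImplicit false
set_option maxRecDepth 100000
set_option linter.all false

namespace Cfsg.Agent.Helper28.S1681

open Cfsg.Agent.Helper28
open Cfsg.Spor.Suz (Gen)

noncomputable section

abbrev sl_at : Gen × Bool := (Gen.a, true)
abbrev sl_af : Gen × Bool := (Gen.a, false)
abbrev sl_bt : Gen × Bool := (Gen.b, true)
abbrev sl_bf : Gen × Bool := (Gen.b, false)
abbrev sl_ct : Gen × Bool := (Gen.c, true)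
abbrev sl_cf : Gen × Bool := (Gen.c, false)
abbrev sl_dt : Gen × Bool := (Gen.d, true)
abbrev sl_df : Gen × Bool := (Gen.d, false)
abbrev sl_et : Gen × Bool := (Gen.e, true)
abbrev sl_ef : Gen × Bool := (Gen.e, false)
abbrev sl_ft : Gen × Bool := (Gen.f, true)
abbrev sl_ff : Gen × Bool := (Gen.f, false)
abbrev sl_gt : Gen × Bool := (Gen.g, true)
abbrev sl_gf : Gen × Bool := (Gen.g, false)
theorem relone_inv (rels : Set (FreeGroup Gen)) (w : Word Gen) (h : wG rels w = 1) :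
    wG rels (FreeGroup.invRev w) = 1 := by
  rw [wG_invRev, h, inv_one]

abbrev ed (l : Gen × Bool) (c : Qt rels S) : Qt rels S := edge rels S l c
abbrev sp5 : Pt := (Pt.mk D1.c0 D2.c0 D3.c5)
abbrev sq5 : Qt rels S := P sp5
abbrev sp7 : Pt := (Pt.mk D1.c0 D2.c0 D3.c7)
abbrev sq7 : Qt rels S := P sp7
abbrev sp12 : Pt := (Pt.mk D1.c0 D2.c0 D3.c12)
abbrev sq12 : Qt rels S := P sp12
abbrev sp15 : Pt := (Pt.mk D1.c0 D2.c0 D3.c15)
abbrev sq15 : Qt rels S := P sp15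
abbrev sp17 : Pt := (Pt.mk D1.c0 D2.c0 D3.c17)
abbrev sq17 : Qt rels S := P sp17
abbrev sp25 : Pt := (Pt.mk D1.c0 D2.c0 D3.c25)
abbrev sq25 : Qt rels S := P sp25
abbrev sp27 : Pt := (Pt.mk D1.c0 D2.c0 D3.c27)
abbrev sq27 : Qt rels S := P sp27
abbrev sp31 : Pt := (Pt.mk D1.c0 D2.c0 D3.c31)
abbrev sq31 : Qt rels S := P sp31
abbrev sp33 : Pt := (Pt.mk D1.c0 D2.c0 D3.c33)
abbrev sq33 : Qt rels S := P sp33
abbrev sp34 : Pt := (Pt.mk D1.c0 D2.c0 D3.c34)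
abbrev sq34 : Qt rels S := P sp34
abbrev sp44 : Pt := (Pt.mk D1.c0 D2.c1 D3.c4)
abbrev sq44 : Qt rels S := P sp44
abbrev sp52 : Pt := (Pt.mk D1.c0 D2.c1 D3.c12)
abbrev sq52 : Qt rels S := P sp52
abbrev sp53 : Pt := (Pt.mk D1.c0 D2.c1 D3.c13)
abbrev sq53 : Qt rels S := P sp53
abbrev sp54 : Pt := (Pt.mk D1.c0 D2.c1 D3.c14)
abbrev sq54 : Qt rels S := P sp54
abbrev sp55 : Pt := (Pt.mk D1.c0 D2.c1 D3.c15)
abbrev sq55 : Qt rels S := P sp55
abbrev sp56 : Pt := (Pt.mk D1.c0 D2.c1 D3.c16)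
abbrev sq56 : Qt rels S := P sp56
abbrev sp59 : Pt := (Pt.mk D1.c0 D2.c1 D3.c19)
abbrev sq59 : Qt rels S := P sp59
abbrev sp60 : Pt := (Pt.mk D1.c0 D2.c1 D3.c20)
abbrev sq60 : Qt rels S := P sp60
abbrev sp68 : Pt := (Pt.mk D1.c0 D2.c1 D3.c28)
abbrev sq68 : Qt rels S := P sp68
abbrev sp69 : Pt := (Pt.mk D1.c0 D2.c1 D3.c29)
abbrev sq69 : Qt rels S := P sp69
abbrev sp73 : Pt := (Pt.mk D1.c0 D2.c1 D3.c33)
abbrev sq73 : Qt rels S := P sp73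
abbrev sp74 : Pt := (Pt.mk D1.c0 D2.c1 D3.c34)
abbrev sq74 : Qt rels S := P sp74
abbrev sp75 : Pt := (Pt.mk D1.c0 D2.c1 D3.c35)
abbrev sq75 : Qt rels S := P sp75
abbrev sp76 : Pt := (Pt.mk D1.c0 D2.c1 D3.c36)
abbrev sq76 : Qt rels S := P sp76
abbrev sp79 : Pt := (Pt.mk D1.c0 D2.c1 D3.c39)
abbrev sq79 : Qt rels S := P sp79
abbrev sp93 : Pt := (Pt.mk D1.c0 D2.c2 D3.c13)
abbrev sq93 : Qt rels S := P sp93
abbrev sp97 : Pt := (Pt.mk D1.c0 D2.c2 D3.c17)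
abbrev sq97 : Qt rels S := P sp97
abbrev sp100 : Pt := (Pt.mk D1.c0 D2.c2 D3.c20)
abbrev sq100 : Qt rels S := P sp100
abbrev sp101 : Pt := (Pt.mk D1.c0 D2.c2 D3.c21)
abbrev sq101 : Qt rels S := P sp101
abbrev sp108 : Pt := (Pt.mk D1.c0 D2.c2 D3.c28)
abbrev sq108 : Qt rels S := P sp108
abbrev sp111 : Pt := (Pt.mk D1.c0 D2.c2 D3.c31)
abbrev sq111 : Qt rels S := P sp111
abbrev sp112 : Pt := (Pt.mk D1.c0 D2.c2 D3.c32)
abbrev sq112 : Qt rels S := P sp112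
abbrev sp114 : Pt := (Pt.mk D1.c0 D2.c2 D3.c34)
abbrev sq114 : Qt rels S := P sp114
abbrev sp115 : Pt := (Pt.mk D1.c0 D2.c2 D3.c35)
abbrev sq115 : Qt rels S := P sp115
abbrev sp117 : Pt := (Pt.mk D1.c0 D2.c2 D3.c37)
abbrev sq117 : Qt rels S := P sp117
abbrev sp118 : Pt := (Pt.mk D1.c0 D2.c2 D3.c38)
abbrev sq118 : Qt rels S := P sp118
abbrev sp119 : Pt := (Pt.mk D1.c0 D2.c2 D3.c39)
abbrev sq119 : Qt rels S := P sp119
abbrev sp120 : Pt := (Pt.mk D1.c0 D2.c3 D3.c0)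
abbrev sq120 : Qt rels S := P sp120
abbrev sp124 : Pt := (Pt.mk D1.c0 D2.c3 D3.c4)
abbrev sq124 : Qt rels S := P sp124
abbrev sp127 : Pt := (Pt.mk D1.c0 D2.c3 D3.c7)
abbrev sq127 : Qt rels S := P sp127
abbrev sp128 : Pt := (Pt.mk D1.c0 D2.c3 D3.c8)
abbrev sq128 : Qt rels S := P sp128
abbrev sp130 : Pt := (Pt.mk D1.c0 D2.c3 D3.c10)
abbrev sq130 : Qt rels S := P sp130
abbrev sp138 : Pt := (Pt.mk D1.c0 D2.c3 D3.c18)
abbrev sq138 : Qt rels S := P sp138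
abbrev sp139 : Pt := (Pt.mk D1.c0 D2.c3 D3.c19)
abbrev sq139 : Qt rels S := P sp139
abbrev sp140 : Pt := (Pt.mk D1.c0 D2.c3 D3.c20)
abbrev sq140 : Qt rels S := P sp140
abbrev sp141 : Pt := (Pt.mk D1.c0 D2.c3 D3.c21)
abbrev sq141 : Qt rels S := P sp141
abbrev sp145 : Pt := (Pt.mk D1.c0 D2.c3 D3.c25)
abbrev sq145 : Qt rels S := P sp145
abbrev sp147 : Pt := (Pt.mk D1.c0 D2.c3 D3.c27)
abbrev sq147 : Qt rels S := P sp147
abbrev sp149 : Pt := (Pt.mk D1.c0 D2.c3 D3.c29)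
abbrev sq149 : Qt rels S := P sp149
abbrev sp150 : Pt := (Pt.mk D1.c0 D2.c3 D3.c30)
abbrev sq150 : Qt rels S := P sp150
abbrev sp151 : Pt := (Pt.mk D1.c0 D2.c3 D3.c31)
abbrev sq151 : Qt rels S := P sp151
abbrev sp152 : Pt := (Pt.mk D1.c0 D2.c3 D3.c32)
abbrev sq152 : Qt rels S := P sp152
abbrev sp156 : Pt := (Pt.mk D1.c0 D2.c3 D3.c36)
abbrev sq156 : Qt rels S := P sp156
abbrev sp157 : Pt := (Pt.mk D1.c0 D2.c3 D3.c37)
abbrev sq157 : Qt rels S := P sp157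
abbrev sp171 : Pt := (Pt.mk D1.c0 D2.c4 D3.c11)
abbrev sq171 : Qt rels S := P sp171
abbrev sp176 : Pt := (Pt.mk D1.c0 D2.c4 D3.c16)
abbrev sq176 : Qt rels S := P sp176
abbrev sp179 : Pt := (Pt.mk D1.c0 D2.c4 D3.c19)
abbrev sq179 : Qt rels S := P sp179
abbrev sp180 : Pt := (Pt.mk D1.c0 D2.c4 D3.c20)
abbrev sq180 : Qt rels S := P sp180
abbrev sp188 : Pt := (Pt.mk D1.c0 D2.c4 D3.c28)
abbrev sq188 : Qt rels S := P sp188
abbrev sp189 : Pt := (Pt.mk D1.c0 D2.c4 D3.c29)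
abbrev sq189 : Qt rels S := P sp189
abbrev sp190 : Pt := (Pt.mk D1.c0 D2.c4 D3.c30)
abbrev sq190 : Qt rels S := P sp190
abbrev sp197 : Pt := (Pt.mk D1.c0 D2.c4 D3.c37)
abbrev sq197 : Qt rels S := P sp197
abbrev sp201 : Pt := (Pt.mk D1.c0 D2.c5 D3.c1)
abbrev sq201 : Qt rels S := P sp201
abbrev sp202 : Pt := (Pt.mk D1.c0 D2.c5 D3.c2)
abbrev sq202 : Qt rels S := P sp202
abbrev sp203 : Pt := (Pt.mk D1.c0 D2.c5 D3.c3)
abbrev sq203 : Qt rels S := P sp203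
abbrev sp204 : Pt := (Pt.mk D1.c0 D2.c5 D3.c4)
abbrev sq204 : Qt rels S := P sp204
abbrev sp205 : Pt := (Pt.mk D1.c0 D2.c5 D3.c5)
abbrev sq205 : Qt rels S := P sp205
abbrev sp207 : Pt := (Pt.mk D1.c0 D2.c5 D3.c7)
abbrev sq207 : Qt rels S := P sp207
abbrev sp212 : Pt := (Pt.mk D1.c0 D2.c5 D3.c12)
abbrev sq212 : Qt rels S := P sp212
abbrev sp213 : Pt := (Pt.mk D1.c0 D2.c5 D3.c13)
abbrev sq213 : Qt rels S := P sp213
abbrev sp214 : Pt := (Pt.mk D1.c0 D2.c5 D3.c14)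
abbrev sq214 : Qt rels S := P sp214
abbrev sp215 : Pt := (Pt.mk D1.c0 D2.c5 D3.c15)
abbrev sq215 : Qt rels S := P sp215
abbrev sp219 : Pt := (Pt.mk D1.c0 D2.c5 D3.c19)
abbrev sq219 : Qt rels S := P sp219
abbrev sp220 : Pt := (Pt.mk D1.c0 D2.c5 D3.c20)
abbrev sq220 : Qt rels S := P sp220
abbrev sp225 : Pt := (Pt.mk D1.c0 D2.c5 D3.c25)
abbrev sq225 : Qt rels S := P sp225
abbrev sp226 : Pt := (Pt.mk D1.c0 D2.c5 D3.c26)
abbrev sq226 : Qt rels S := P sp226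
abbrev sp227 : Pt := (Pt.mk D1.c0 D2.c5 D3.c27)
abbrev sq227 : Qt rels S := P sp227
abbrev sp228 : Pt := (Pt.mk D1.c0 D2.c5 D3.c28)
abbrev sq228 : Qt rels S := P sp228
abbrev sp229 : Pt := (Pt.mk D1.c0 D2.c5 D3.c29)
abbrev sq229 : Qt rels S := P sp229
abbrev sp230 : Pt := (Pt.mk D1.c0 D2.c5 D3.c30)
abbrev sq230 : Qt rels S := P sp230
abbrev sp231 : Pt := (Pt.mk D1.c0 D2.c5 D3.c31)
abbrev sq231 : Qt rels S := P sp231
abbrev sp239 : Pt := (Pt.mk D1.c0 D2.c5 D3.c39)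
abbrev sq239 : Qt rels S := P sp239
abbrev sp240 : Pt := (Pt.mk D1.c0 D2.c6 D3.c0)
abbrev sq240 : Qt rels S := P sp240
abbrev sp248 : Pt := (Pt.mk D1.c0 D2.c6 D3.c8)
abbrev sq248 : Qt rels S := P sp248
abbrev sp259 : Pt := (Pt.mk D1.c0 D2.c6 D3.c19)
abbrev sq259 : Qt rels S := P sp259
abbrev sp260 : Pt := (Pt.mk D1.c0 D2.c6 D3.c20)
abbrev sq260 : Qt rels S := P sp260
abbrev sp261 : Pt := (Pt.mk D1.c0 D2.c6 D3.c21)
abbrev sq261 : Qt rels S := P sp261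
abbrev sp262 : Pt := (Pt.mk D1.c0 D2.c6 D3.c22)
abbrev sq262 : Qt rels S := P sp262
abbrev sp272 : Pt := (Pt.mk D1.c0 D2.c6 D3.c32)
abbrev sq272 : Qt rels S := P sp272
abbrev sp274 : Pt := (Pt.mk D1.c0 D2.c6 D3.c34)
abbrev sq274 : Qt rels S := P sp274
abbrev sp275 : Pt := (Pt.mk D1.c0 D2.c6 D3.c35)
abbrev sq275 : Qt rels S := P sp275
abbrev sp276 : Pt := (Pt.mk D1.c0 D2.c6 D3.c36)
abbrev sq276 : Qt rels S := P sp276
abbrev sp277 : Pt := (Pt.mk D1.c0 D2.c6 D3.c37)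
abbrev sq277 : Qt rels S := P sp277
abbrev sp278 : Pt := (Pt.mk D1.c0 D2.c6 D3.c38)
abbrev sq278 : Qt rels S := P sp278
abbrev sp287 : Pt := (Pt.mk D1.c0 D2.c7 D3.c7)
abbrev sq287 : Qt rels S := P sp287
abbrev sp290 : Pt := (Pt.mk D1.c0 D2.c7 D3.c10)
abbrev sq290 : Qt rels S := P sp290
abbrev sp291 : Pt := (Pt.mk D1.c0 D2.c7 D3.c11)
abbrev sq291 : Qt rels S := P sp291
abbrev sp306 : Pt := (Pt.mk D1.c0 D2.c7 D3.c26)
abbrev sq306 : Qt rels S := P sp306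
abbrev sp307 : Pt := (Pt.mk D1.c0 D2.c7 D3.c27)
abbrev sq307 : Qt rels S := P sp307
abbrev sp315 : Pt := (Pt.mk D1.c0 D2.c7 D3.c35)
abbrev sq315 : Qt rels S := P sp315
abbrev sp316 : Pt := (Pt.mk D1.c0 D2.c7 D3.c36)
abbrev sq316 : Qt rels S := P sp316
abbrev sp317 : Pt := (Pt.mk D1.c0 D2.c7 D3.c37)
abbrev sq317 : Qt rels S := P sp317
abbrev sp337 : Pt := (Pt.mk D1.c0 D2.c8 D3.c17)
abbrev sq337 : Qt rels S := P sp337
abbrev sp338 : Pt := (Pt.mk D1.c0 D2.c8 D3.c18)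
abbrev sq338 : Qt rels S := P sp338
abbrev sp339 : Pt := (Pt.mk D1.c0 D2.c8 D3.c19)
abbrev sq339 : Qt rels S := P sp339
abbrev sp351 : Pt := (Pt.mk D1.c0 D2.c8 D3.c31)
abbrev sq351 : Qt rels S := P sp351
abbrev sp352 : Pt := (Pt.mk D1.c0 D2.c8 D3.c32)
abbrev sq352 : Qt rels S := P sp352
abbrev sp353 : Pt := (Pt.mk D1.c0 D2.c8 D3.c33)
abbrev sq353 : Qt rels S := P sp353
abbrev sp355 : Pt := (Pt.mk D1.c0 D2.c8 D3.c35)
abbrev sq355 : Qt rels S := P sp355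
abbrev sp358 : Pt := (Pt.mk D1.c0 D2.c8 D3.c38)
abbrev sq358 : Qt rels S := P sp358
abbrev sp363 : Pt := (Pt.mk D1.c0 D2.c9 D3.c3)
abbrev sq363 : Qt rels S := P sp363
abbrev sp365 : Pt := (Pt.mk D1.c0 D2.c9 D3.c5)
abbrev sq365 : Qt rels S := P sp365
abbrev sp374 : Pt := (Pt.mk D1.c0 D2.c9 D3.c14)
abbrev sq374 : Qt rels S := P sp374
abbrev sp375 : Pt := (Pt.mk D1.c0 D2.c9 D3.c15)
abbrev sq375 : Qt rels S := P sp375
abbrev sp376 : Pt := (Pt.mk D1.c0 D2.c9 D3.c16)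
abbrev sq376 : Qt rels S := P sp376
abbrev sp377 : Pt := (Pt.mk D1.c0 D2.c9 D3.c17)
abbrev sq377 : Qt rels S := P sp377
abbrev sp383 : Pt := (Pt.mk D1.c0 D2.c9 D3.c23)
abbrev sq383 : Qt rels S := P sp383
abbrev sp384 : Pt := (Pt.mk D1.c0 D2.c9 D3.c24)
abbrev sq384 : Qt rels S := P sp384
abbrev sp385 : Pt := (Pt.mk D1.c0 D2.c9 D3.c25)
abbrev sq385 : Qt rels S := P sp385
abbrev sp386 : Pt := (Pt.mk D1.c0 D2.c9 D3.c26)
abbrev sq386 : Qt rels S := P sp386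
abbrev sp387 : Pt := (Pt.mk D1.c0 D2.c9 D3.c27)
abbrev sq387 : Qt rels S := P sp387
abbrev sp388 : Pt := (Pt.mk D1.c0 D2.c9 D3.c28)
abbrev sq388 : Qt rels S := P sp388
abbrev sp397 : Pt := (Pt.mk D1.c0 D2.c9 D3.c37)
abbrev sq397 : Qt rels S := P sp397
abbrev sp400 : Pt := (Pt.mk D1.c0 D2.c10 D3.c0)
abbrev sq400 : Qt rels S := P sp400
abbrev sp401 : Pt := (Pt.mk D1.c0 D2.c10 D3.c1)
abbrev sq401 : Qt rels S := P sp401
abbrev sp402 : Pt := (Pt.mk D1.c0 D2.c10 D3.c2)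
abbrev sq402 : Qt rels S := P sp402
abbrev sp404 : Pt := (Pt.mk D1.c0 D2.c10 D3.c4)
abbrev sq404 : Qt rels S := P sp404
abbrev sp405 : Pt := (Pt.mk D1.c0 D2.c10 D3.c5)
abbrev sq405 : Qt rels S := P sp405
abbrev sp406 : Pt := (Pt.mk D1.c0 D2.c10 D3.c6)
abbrev sq406 : Qt rels S := P sp406
abbrev sp407 : Pt := (Pt.mk D1.c0 D2.c10 D3.c7)
abbrev sq407 : Qt rels S := P sp407
abbrev sp418 : Pt := (Pt.mk D1.c0 D2.c10 D3.c18)
abbrev sq418 : Qt rels S := P sp418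
abbrev sp447 : Pt := (Pt.mk D1.c0 D2.c11 D3.c7)
abbrev sq447 : Qt rels S := P sp447
abbrev sp464 : Pt := (Pt.mk D1.c0 D2.c11 D3.c24)
abbrev sq464 : Qt rels S := P sp464
abbrev sp468 : Pt := (Pt.mk D1.c0 D2.c11 D3.c28)
abbrev sq468 : Qt rels S := P sp468
abbrev sp469 : Pt := (Pt.mk D1.c0 D2.c11 D3.c29)
abbrev sq469 : Qt rels S := P sp469
abbrev sp471 : Pt := (Pt.mk D1.c0 D2.c11 D3.c31)
abbrev sq471 : Qt rels S := P sp471
abbrev sp472 : Pt := (Pt.mk D1.c0 D2.c11 D3.c32)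
abbrev sq472 : Qt rels S := P sp472
abbrev sp485 : Pt := (Pt.mk D1.c0 D2.c12 D3.c5)
abbrev sq485 : Qt rels S := P sp485
abbrev sp486 : Pt := (Pt.mk D1.c0 D2.c12 D3.c6)
abbrev sq486 : Qt rels S := P sp486
abbrev sp504 : Pt := (Pt.mk D1.c0 D2.c12 D3.c24)
abbrev sq504 : Qt rels S := P sp504
abbrev sp505 : Pt := (Pt.mk D1.c0 D2.c12 D3.c25)
abbrev sq505 : Qt rels S := P sp505
abbrev sp521 : Pt := (Pt.mk D1.c0 D2.c13 D3.c1)
abbrev sq521 : Qt rels S := P sp521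
abbrev sp523 : Pt := (Pt.mk D1.c0 D2.c13 D3.c3)
abbrev sq523 : Qt rels S := P sp523
abbrev sp525 : Pt := (Pt.mk D1.c0 D2.c13 D3.c5)
abbrev sq525 : Qt rels S := P sp525
abbrev sp526 : Pt := (Pt.mk D1.c0 D2.c13 D3.c6)
abbrev sq526 : Qt rels S := P sp526
abbrev sp527 : Pt := (Pt.mk D1.c0 D2.c13 D3.c7)
abbrev sq527 : Qt rels S := P sp527
abbrev sp567 : Pt := (Pt.mk D1.c0 D2.c14 D3.c7)
abbrev sq567 : Qt rels S := P sp567
abbrev sp569 : Pt := (Pt.mk D1.c0 D2.c14 D3.c9)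
abbrev sq569 : Qt rels S := P sp569
abbrev sp570 : Pt := (Pt.mk D1.c0 D2.c14 D3.c10)
abbrev sq570 : Qt rels S := P sp570
abbrev sp573 : Pt := (Pt.mk D1.c0 D2.c14 D3.c13)
abbrev sq573 : Qt rels S := P sp573
abbrev sp618 : Pt := (Pt.mk D1.c0 D2.c15 D3.c18)
abbrev sq618 : Qt rels S := P sp618
abbrev sp619 : Pt := (Pt.mk D1.c0 D2.c15 D3.c19)
abbrev sq619 : Qt rels S := P sp619
abbrev sp621 : Pt := (Pt.mk D1.c0 D2.c15 D3.c21)
abbrev sq621 : Qt rels S := P sp621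
abbrev sp622 : Pt := (Pt.mk D1.c0 D2.c15 D3.c22)
abbrev sq622 : Qt rels S := P sp622
abbrev sp623 : Pt := (Pt.mk D1.c0 D2.c15 D3.c23)
abbrev sq623 : Qt rels S := P sp623
abbrev sp653 : Pt := (Pt.mk D1.c0 D2.c16 D3.c13)
abbrev sq653 : Qt rels S := P sp653
abbrev sp657 : Pt := (Pt.mk D1.c0 D2.c16 D3.c17)
abbrev sq657 : Qt rels S := P sp657
abbrev sp658 : Pt := (Pt.mk D1.c0 D2.c16 D3.c18)
abbrev sq658 : Qt rels S := P sp658
abbrev sp663 : Pt := (Pt.mk D1.c0 D2.c16 D3.c23)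
abbrev sq663 : Qt rels S := P sp663
abbrev sp664 : Pt := (Pt.mk D1.c0 D2.c16 D3.c24)
abbrev sq664 : Qt rels S := P sp664
abbrev sp665 : Pt := (Pt.mk D1.c0 D2.c16 D3.c25)
abbrev sq665 : Qt rels S := P sp665
abbrev sp667 : Pt := (Pt.mk D1.c0 D2.c16 D3.c27)
abbrev sq667 : Qt rels S := P sp667
abbrev sp754 : Pt := (Pt.mk D1.c0 D2.c18 D3.c34)
abbrev sq754 : Qt rels S := P sp754
abbrev sp759 : Pt := (Pt.mk D1.c0 D2.c18 D3.c39)
abbrev sq759 : Qt rels S := P sp759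
abbrev sp760 : Pt := (Pt.mk D1.c0 D2.c19 D3.c0)
abbrev sq760 : Qt rels S := P sp760
abbrev sp761 : Pt := (Pt.mk D1.c0 D2.c19 D3.c1)
abbrev sq761 : Qt rels S := P sp761
abbrev sp765 : Pt := (Pt.mk D1.c0 D2.c19 D3.c5)
abbrev sq765 : Qt rels S := P sp765
abbrev sp780 : Pt := (Pt.mk D1.c0 D2.c19 D3.c20)
abbrev sq780 : Qt rels S := P sp780
abbrev sp783 : Pt := (Pt.mk D1.c0 D2.c19 D3.c23)
abbrev sq783 : Qt rels S := P sp783
abbrev sp784 : Pt := (Pt.mk D1.c0 D2.c19 D3.c24)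
abbrev sq784 : Qt rels S := P sp784
abbrev sp833 : Pt := (Pt.mk D1.c0 D2.c20 D3.c33)
abbrev sq833 : Qt rels S := P sp833
abbrev sp834 : Pt := (Pt.mk D1.c0 D2.c20 D3.c34)
abbrev sq834 : Qt rels S := P sp834
abbrev sp837 : Pt := (Pt.mk D1.c0 D2.c20 D3.c37)
abbrev sq837 : Qt rels S := P sp837
abbrev sp839 : Pt := (Pt.mk D1.c0 D2.c20 D3.c39)
abbrev sq839 : Qt rels S := P sp839
abbrev sp840 : Pt := (Pt.mk D1.c0 D2.c21 D3.c0)
abbrev sq840 : Qt rels S := P sp840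
abbrev sp911 : Pt := (Pt.mk D1.c0 D2.c22 D3.c31)
abbrev sq911 : Qt rels S := P sp911
abbrev sp1031 : Pt := (Pt.mk D1.c0 D2.c25 D3.c31)
abbrev sq1031 : Qt rels S := P sp1031
abbrev sp1187 : Pt := (Pt.mk D1.c1 D2.c3 D3.c27)
abbrev sq1187 : Qt rels S := P sp1187
abbrev sp1189 : Pt := (Pt.mk D1.c1 D2.c3 D3.c29)
abbrev sq1189 : Qt rels S := P sp1189
abbrev sp1190 : Pt := (Pt.mk D1.c1 D2.c3 D3.c30)
abbrev sq1190 : Qt rels S := P sp1190
abbrev sp1216 : Pt := (Pt.mk D1.c1 D2.c4 D3.c16)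
abbrev sq1216 : Qt rels S := P sp1216
abbrev sp1278 : Pt := (Pt.mk D1.c1 D2.c5 D3.c38)
abbrev sq1278 : Qt rels S := P sp1278
abbrev sp1279 : Pt := (Pt.mk D1.c1 D2.c5 D3.c39)
abbrev sq1279 : Qt rels S := P sp1279
abbrev sp1368 : Pt := (Pt.mk D1.c1 D2.c8 D3.c8)
abbrev sq1368 : Qt rels S := P sp1368
abbrev sp1559 : Pt := (Pt.mk D1.c1 D2.c12 D3.c39)
abbrev sq1559 : Qt rels S := P sp1559
abbrev sp1840 : Pt := (Pt.mk D1.c1 D2.c20 D3.c0)
abbrev sq1840 : Qt rels S := P sp1840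
abbrev sp1939 : Pt := (Pt.mk D1.c1 D2.c22 D3.c19)
abbrev sq1939 : Qt rels S := P sp1939
abbrev sp2080 : Pt := (Pt.mk D1.c2 D2.c0 D3.c0)
abbrev sq2080 : Qt rels S := P sp2080
abbrev sp2401 : Pt := (Pt.mk D1.c2 D2.c8 D3.c1)
abbrev sq2401 : Qt rels S := P sp2401
abbrev sp3971 : Pt := (Pt.mk D1.c3 D2.c21 D3.c11)
abbrev sq3971 : Qt rels S := P sp3971
def s0_v13 : Qt rels S := ed sl_at sq73
def s0_v14 : Qt rels S := ed sl_at sq75
def s0_v35 : Qt rels S := ed sl_at sq138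
def s0_v36 : Qt rels S := ed sl_gt sq138
def s0_v37 : Qt rels S := ed sl_at sq140
def s0_v39 : Qt rels S := ed sl_at sq145
def s0_v40 : Qt rels S := ed sl_at sq147
def s0_v41 : Qt rels S := ed sl_at sq149
def s0_v42 : Qt rels S := ed sl_ft sq150
def s0_v43 : Qt rels S := ed sl_at sq151
def s0_v61 : Qt rels S := ed sl_bt s0_v13
def s0_v62 : Qt rels S := ed sl_bt s0_v14
def s0_v96 : Qt rels S := ed sl_ft sq201
def s0_v97 : Qt rels S := ed sl_gt sq201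
def s0_v98 : Qt rels S := ed sl_bt sq204
def s0_v99 : Qt rels S := ed sl_bt sq205
def s0_v100 : Qt rels S := ed sl_at sq212
def s0_v101 : Qt rels S := ed sl_gt sq212
def s0_v103 : Qt rels S := ed sl_ft sq214
def s0_v104 : Qt rels S := ed sl_bt sq226
def s0_v105 : Qt rels S := ed sl_ft sq228
def s0_v106 : Qt rels S := ed sl_bt sq229
def s0_v107 : Qt rels S := ed sl_gt sq231
def s0_v109 : Qt rels S := ed sl_bt sq239
def s0_v123 : Qt rels S := ed sl_at sq259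
def s0_v124 : Qt rels S := ed sl_dt sq259
def s0_v125 : Qt rels S := ed sl_gt sq259
def s0_v126 : Qt rels S := ed sl_ct sq260
def s0_v127 : Qt rels S := ed sl_ft sq260
def s0_v128 : Qt rels S := ed sl_gt sq260
def s0_v129 : Qt rels S := ed sl_at sq261
def s0_v130 : Qt rels S := ed sl_dt sq261
def s0_v131 : Qt rels S := ed sl_ft sq261
def s0_v132 : Qt rels S := ed sl_ct sq262
def s0_v134 : Qt rels S := ed sl_gt sq262
def s0_v139 : Qt rels S := ed sl_at sq272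
def s0_v141 : Qt rels S := ed sl_at sq274
def s0_v142 : Qt rels S := ed sl_ft sq274
def s0_v143 : Qt rels S := ed sl_ft sq275
def s0_v145 : Qt rels S := ed sl_at sq277
def s0_v146 : Qt rels S := ed sl_gt sq277
def s0_v147 : Qt rels S := ed sl_gt sq278
def s0_v170 : Qt rels S := ed sl_bt s0_v35
def s0_v172 : Qt rels S := ed sl_bt s0_v37
def s0_v174 : Qt rels S := ed sl_bt s0_v39
def s0_v176 : Qt rels S := ed sl_bt s0_v41
def s0_v178 : Qt rels S := ed sl_bt s0_v43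
def s0_v212 : Qt rels S := ed sl_at s0_v61
def s0_v214 : Qt rels S := ed sl_ft s0_v61
def s0_v215 : Qt rels S := ed sl_gt s0_v61
def s0_v216 : Qt rels S := ed sl_at s0_v62
def s0_v218 : Qt rels S := ed sl_ft s0_v62
def s0_v219 : Qt rels S := ed sl_gt s0_v62
def s0_v276 : Qt rels S := ed sl_gt sq339
def s0_v280 : Qt rels S := ed sl_ft sq352
def s0_v283 : Qt rels S := ed sl_ft sq353
def s0_v285 : Qt rels S := ed sl_bt sq355
def s0_v287 : Qt rels S := ed sl_bt sq358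
def s0_v289 : Qt rels S := ed sl_at sq363
def s0_v290 : Qt rels S := ed sl_ct sq363
def s0_v293 : Qt rels S := ed sl_ct sq365
def s0_v299 : Qt rels S := ed sl_at sq374
def s0_v301 : Qt rels S := ed sl_ft sq375
def s0_v302 : Qt rels S := ed sl_gt sq375
def s0_v304 : Qt rels S := ed sl_ft sq376
def s0_v305 : Qt rels S := ed sl_ft sq377
def s0_v306 : Qt rels S := ed sl_gt sq377
def s0_v307 : Qt rels S := ed sl_bt sq383
def s0_v308 : Qt rels S := ed sl_ct sq383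
def s0_v309 : Qt rels S := ed sl_dt sq384
def s0_v310 : Qt rels S := ed sl_gt sq384
def s0_v312 : Qt rels S := ed sl_bt sq386
def s0_v313 : Qt rels S := ed sl_ct sq386
def s0_v314 : Qt rels S := ed sl_dt sq387
def s0_v315 : Qt rels S := ed sl_ft sq387
def s0_v321 : Qt rels S := ed sl_bt sq401
def s0_v324 : Qt rels S := ed sl_bt sq405
def s0_v326 : Qt rels S := ed sl_gt sq407
def s0_v331 : Qt rels S := ed sl_bt sq418
def s0_v360 : Qt rels S := ed sl_ct sq447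
def s0_v362 : Qt rels S := ed sl_gt sq447
def s0_v374 : Qt rels S := ed sl_gt sq464
def s0_v379 : Qt rels S := ed sl_ft sq468
def s0_v380 : Qt rels S := ed sl_gt sq468
def s0_v381 : Qt rels S := ed sl_ft sq469
def s0_v385 : Qt rels S := ed sl_gt sq471
def s0_v386 : Qt rels S := ed sl_ft sq472
def s0_v387 : Qt rels S := ed sl_gt sq472
def s0_v432 : Qt rels S := ed sl_bt s0_v96
def s0_v433 : Qt rels S := ed sl_gt s0_v96
def s0_v434 : Qt rels S := ed sl_bt s0_v97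
def s0_v435 : Qt rels S := ed sl_at s0_v98
def s0_v436 : Qt rels S := ed sl_ct s0_v98
def s0_v437 : Qt rels S := ed sl_gt s0_v98
def s0_v438 : Qt rels S := ed sl_at s0_v99
def s0_v440 : Qt rels S := ed sl_ft s0_v99
def s0_v441 : Qt rels S := ed sl_bt s0_v100
def s0_v443 : Qt rels S := ed sl_at s0_v104
def s0_v445 : Qt rels S := ed sl_ft s0_v104
def s0_v446 : Qt rels S := ed sl_gt s0_v104
def s0_v447 : Qt rels S := ed sl_bt s0_v105
def s0_v448 : Qt rels S := ed sl_at s0_v106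
def s0_v450 : Qt rels S := ed sl_ft s0_v106
def s0_v452 : Qt rels S := ed sl_bt s0_v107
def s0_v455 : Qt rels S := ed sl_at s0_v109
def s0_v457 : Qt rels S := ed sl_gt s0_v109
def s0_v481 : Qt rels S := ed sl_bt s0_v123
def s0_v482 : Qt rels S := ed sl_dt s0_v123
def s0_v486 : Qt rels S := ed sl_bt s0_v125
def s0_v488 : Qt rels S := ed sl_ft s0_v126
def s0_v489 : Qt rels S := ed sl_gt s0_v126
def s0_v492 : Qt rels S := ed sl_bt s0_v129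
def s0_v493 : Qt rels S := ed sl_dt s0_v129
def s0_v494 : Qt rels S := ed sl_ft s0_v129
def s0_v497 : Qt rels S := ed sl_bt s0_v131
def s0_v500 : Qt rels S := ed sl_gt s0_v132
def s0_v507 : Qt rels S := ed sl_bt s0_v139
def s0_v509 : Qt rels S := ed sl_bt s0_v141
def s0_v510 : Qt rels S := ed sl_bt s0_v142
def s0_v511 : Qt rels S := ed sl_bt s0_v143
def s0_v513 : Qt rels S := ed sl_bt s0_v145
def s0_v514 : Qt rels S := ed sl_bt s0_v146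
def s0_v515 : Qt rels S := ed sl_bt s0_v147
def s0_v551 : Qt rels S := ed sl_at s0_v170
def s0_v553 : Qt rels S := ed sl_ft s0_v170
def s0_v556 : Qt rels S := ed sl_at s0_v172
def s0_v557 : Qt rels S := ed sl_ct s0_v172
def s0_v558 : Qt rels S := ed sl_ft s0_v172
def s0_v559 : Qt rels S := ed sl_gt s0_v172
def s0_v561 : Qt rels S := ed sl_at s0_v174
def s0_v563 : Qt rels S := ed sl_ft s0_v174
def s0_v564 : Qt rels S := ed sl_gt s0_v174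
def s0_v571 : Qt rels S := ed sl_gt s0_v176
def s0_v573 : Qt rels S := ed sl_at s0_v178
def s0_v574 : Qt rels S := ed sl_ct s0_v178
def s0_v575 : Qt rels S := ed sl_ft s0_v178
def s0_v617 : Qt rels S := ed sl_ft s0_v212
def s0_v618 : Qt rels S := ed sl_gt s0_v212
def s0_v622 : Qt rels S := ed sl_gt s0_v214
def s0_v623 : Qt rels S := ed sl_ft s0_v215
def s0_v625 : Qt rels S := ed sl_ft s0_v216
def s0_v626 : Qt rels S := ed sl_gt s0_v216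
def s0_v630 : Qt rels S := ed sl_gt s0_v218
def s0_v717 : Qt rels S := ed sl_at sq504
def s0_v718 : Qt rels S := ed sl_ct sq504
def s0_v719 : Qt rels S := ed sl_ft sq504
def s0_v720 : Qt rels S := ed sl_gt sq504
def s0_v723 : Qt rels S := ed sl_ft sq505
def s0_v732 : Qt rels S := ed sl_ft sq523
def s0_v734 : Qt rels S := ed sl_bt sq526
def s0_v772 : Qt rels S := ed sl_ft sq567
def s0_v778 : Qt rels S := ed sl_gt sq573
def s0_v815 : Qt rels S := ed sl_at sq618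
def s0_v820 : Qt rels S := ed sl_ft sq619
def s0_v821 : Qt rels S := ed sl_gt sq619
def s0_v825 : Qt rels S := ed sl_at sq621
def s0_v827 : Qt rels S := ed sl_ft sq621
def s0_v829 : Qt rels S := ed sl_ct sq622
def s0_v830 : Qt rels S := ed sl_ft sq622
def s0_v831 : Qt rels S := ed sl_gt sq622
def s0_v833 : Qt rels S := ed sl_ft sq623
def s0_v834 : Qt rels S := ed sl_gt sq623
def s0_v855 : Qt rels S := ed sl_at sq657
def s0_v857 : Qt rels S := ed sl_dt sq657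
def s0_v859 : Qt rels S := ed sl_ct sq658
def s0_v866 : Qt rels S := ed sl_at sq663
def s0_v867 : Qt rels S := ed sl_ct sq663
def s0_v868 : Qt rels S := ed sl_dt sq663
def s0_v869 : Qt rels S := ed sl_ft sq663
def s0_v870 : Qt rels S := ed sl_gt sq663
def s0_v871 : Qt rels S := ed sl_ct sq664
def s0_v872 : Qt rels S := ed sl_ft sq664
def s0_v873 : Qt rels S := ed sl_bt sq665
def s0_v876 : Qt rels S := ed sl_gt sq667
def s0_v956 : Qt rels S := ed sl_gt sq754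
def s0_v964 : Qt rels S := ed sl_ft sq759
def s0_v965 : Qt rels S := ed sl_gt sq759
def s0_v966 : Qt rels S := ed sl_ft sq760
def s0_v967 : Qt rels S := ed sl_gt sq760
def s0_v977 : Qt rels S := ed sl_ft sq765
def s0_v978 : Qt rels S := ed sl_gt sq765
def s0_v997 : Qt rels S := ed sl_at sq780
def s0_v999 : Qt rels S := ed sl_ft sq780
def s0_v1006 : Qt rels S := ed sl_at sq783
def s0_v1059 : Qt rels S := ed sl_ft s0_v276
def s0_v1063 : Qt rels S := ed sl_bt s0_v280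
def s0_v1069 : Qt rels S := ed sl_bt s0_v283
def s0_v1072 : Qt rels S := ed sl_at s0_v285
def s0_v1078 : Qt rels S := ed sl_at s0_v287
def s0_v1080 : Qt rels S := ed sl_gt s0_v287
def s0_v1084 : Qt rels S := ed sl_bt s0_v289
def s0_v1086 : Qt rels S := ed sl_dt s0_v290
def s0_v1090 : Qt rels S := ed sl_dt s0_v293
def s0_v1095 : Qt rels S := ed sl_gt s0_v301
def s0_v1096 : Qt rels S := ed sl_ft s0_v302
def s0_v1098 : Qt rels S := ed sl_bt s0_v304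
def s0_v1099 : Qt rels S := ed sl_gt s0_v305
def s0_v1100 : Qt rels S := ed sl_ft s0_v306
def s0_v1101 : Qt rels S := ed sl_at s0_v307
def s0_v1103 : Qt rels S := ed sl_ft s0_v307
def s0_v1107 : Qt rels S := ed sl_ct s0_v309
def s0_v1110 : Qt rels S := ed sl_bt s0_v310
def s0_v1113 : Qt rels S := ed sl_at s0_v312
def s0_v1114 : Qt rels S := ed sl_ct s0_v312
def s0_v1115 : Qt rels S := ed sl_ft s0_v312
def s0_v1119 : Qt rels S := ed sl_ct s0_v314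
def s0_v1122 : Qt rels S := ed sl_bt s0_v315
def s0_v1135 : Qt rels S := ed sl_at s0_v321
def s0_v1139 : Qt rels S := ed sl_at s0_v324
def s0_v1140 : Qt rels S := ed sl_ct s0_v324
def s0_v1154 : Qt rels S := ed sl_at s0_v331
def s0_v1213 : Qt rels S := ed sl_gt s0_v360
def s0_v1227 : Qt rels S := ed sl_bt s0_v374
def s0_v1232 : Qt rels S := ed sl_bt s0_v380
def s0_v1240 : Qt rels S := ed sl_bt s0_v385
def s0_v1241 : Qt rels S := ed sl_bt s0_v386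
def s0_v1326 : Qt rels S := ed sl_at s0_v432
def s0_v1328 : Qt rels S := ed sl_gt s0_v432
def s0_v1330 : Qt rels S := ed sl_at s0_v434
def s0_v1332 : Qt rels S := ed sl_ft s0_v434
def s0_v1333 : Qt rels S := ed sl_bt s0_v435
def s0_v1335 : Qt rels S := ed sl_gt s0_v435
def s0_v1337 : Qt rels S := ed sl_gt s0_v436
def s0_v1338 : Qt rels S := ed sl_ft s0_v437
def s0_v1341 : Qt rels S := ed sl_ft s0_v438
def s0_v1344 : Qt rels S := ed sl_gt s0_v440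
def s0_v1345 : Qt rels S := ed sl_at s0_v441
def s0_v1351 : Qt rels S := ed sl_gt s0_v443
def s0_v1355 : Qt rels S := ed sl_gt s0_v445
def s0_v1356 : Qt rels S := ed sl_ft s0_v446
def s0_v1360 : Qt rels S := ed sl_ft s0_v448
def s0_v1373 : Qt rels S := ed sl_bt s0_v455
def s0_v1420 : Qt rels S := ed sl_at s0_v481
def s0_v1421 : Qt rels S := ed sl_ct s0_v481
def s0_v1422 : Qt rels S := ed sl_dt s0_v481
def s0_v1423 : Qt rels S := ed sl_ft s0_v481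
def s0_v1431 : Qt rels S := ed sl_ct s0_v486
def s0_v1437 : Qt rels S := ed sl_bt s0_v488
def s0_v1442 : Qt rels S := ed sl_at s0_v492
def s0_v1443 : Qt rels S := ed sl_ct s0_v492
def s0_v1444 : Qt rels S := ed sl_dt s0_v492
def s0_v1445 : Qt rels S := ed sl_ft s0_v492
def s0_v1446 : Qt rels S := ed sl_gt s0_v492
def s0_v1449 : Qt rels S := ed sl_bt s0_v494
def s0_v1452 : Qt rels S := ed sl_at s0_v497
def s0_v1453 : Qt rels S := ed sl_ct s0_v497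
def s0_v1454 : Qt rels S := ed sl_gt s0_v497
def s0_v1460 : Qt rels S := ed sl_bt s0_v500
def s0_v1476 : Qt rels S := ed sl_at s0_v507
def s0_v1477 : Qt rels S := ed sl_ct s0_v507
def s0_v1482 : Qt rels S := ed sl_ft s0_v509
def s0_v1485 : Qt rels S := ed sl_ct s0_v511
def s0_v1487 : Qt rels S := ed sl_at s0_v513
def s0_v1489 : Qt rels S := ed sl_at s0_v514
def s0_v1490 : Qt rels S := ed sl_ct s0_v514
def s0_v1542 : Qt rels S := ed sl_ft s0_v551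
def s0_v1552 : Qt rels S := ed sl_ct s0_v556
def s0_v1553 : Qt rels S := ed sl_ft s0_v556
def s0_v1554 : Qt rels S := ed sl_gt s0_v556
def s0_v1556 : Qt rels S := ed sl_ft s0_v557
def s0_v1557 : Qt rels S := ed sl_gt s0_v557
def s0_v1559 : Qt rels S := ed sl_gt s0_v558
def s0_v1560 : Qt rels S := ed sl_ft s0_v559
def s0_v1564 : Qt rels S := ed sl_ft s0_v561
def s0_v1565 : Qt rels S := ed sl_gt s0_v561
def s0_v1569 : Qt rels S := ed sl_gt s0_v563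
def s0_v1570 : Qt rels S := ed sl_ft s0_v564
def s0_v1588 : Qt rels S := ed sl_dt s0_v574
def s0_v1589 : Qt rels S := ed sl_ft s0_v574
def s0_v1911 : Qt rels S := ed sl_bt sq839
def s0_v1913 : Qt rels S := ed sl_ft sq840
def s0_v2002 : Qt rels S := ed sl_bt sq911
def s0_v2115 : Qt rels S := ed sl_at sq1031
def s0_v2118 : Qt rels S := ed sl_gt sq1031
def s0_v2260 : Qt rels S := ed sl_at sq1187
def s0_v2268 : Qt rels S := ed sl_ft sq1189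
def s0_v2271 : Qt rels S := ed sl_ft sq1190
def s0_v2328 : Qt rels S := ed sl_at sq1216
def s0_v2376 : Qt rels S := ed sl_gt s0_v718
def s0_v2385 : Qt rels S := ed sl_gt s0_v723
def s0_v2401 : Qt rels S := ed sl_gt s0_v732
def s0_v2538 : Qt rels S := ed sl_ct s0_v815
def s0_v2555 : Qt rels S := ed sl_bt s0_v825
def s0_v2556 : Qt rels S := ed sl_ct s0_v825
def s0_v2564 : Qt rels S := ed sl_ft s0_v829
def s0_v2569 : Qt rels S := ed sl_gt s0_v833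
def s0_v2570 : Qt rels S := ed sl_bt s0_v834
def s0_v2571 : Qt rels S := ed sl_ft s0_v834
def s0_v2612 : Qt rels S := ed sl_bt s0_v855
def s0_v2614 : Qt rels S := ed sl_dt s0_v855
def s0_v2618 : Qt rels S := ed sl_ct s0_v857
def s0_v2621 : Qt rels S := ed sl_bt s0_v859
def s0_v2634 : Qt rels S := ed sl_ct s0_v866
def s0_v2635 : Qt rels S := ed sl_dt s0_v866
def s0_v2639 : Qt rels S := ed sl_ft s0_v867
def s0_v2641 : Qt rels S := ed sl_ct s0_v868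
def s0_v2643 : Qt rels S := ed sl_gt s0_v868
def s0_v2644 : Qt rels S := ed sl_bt s0_v869
def s0_v2647 : Qt rels S := ed sl_ft s0_v870
def s0_v2648 : Qt rels S := ed sl_bt s0_v871
def s0_v2651 : Qt rels S := ed sl_at s0_v873
def s0_v2652 : Qt rels S := ed sl_ct s0_v873
def s0_v2653 : Qt rels S := ed sl_gt s0_v873
def s0_v2785 : Qt rels S := ed sl_bt s0_v956
def s0_v2844 : Qt rels S := ed sl_bt s0_v997
def s0_v2846 : Qt rels S := ed sl_ft s0_v997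
def s0_v2864 : Qt rels S := ed sl_bt s0_v1006
def s0_v2973 : Qt rels S := ed sl_bt s0_v1059
def s0_v2984 : Qt rels S := ed sl_at s0_v1063
def s0_v2998 : Qt rels S := ed sl_at s0_v1069
def s0_v3000 : Qt rels S := ed sl_gt s0_v1069
def s0_v3005 : Qt rels S := ed sl_bt s0_v1072
def s0_v3019 : Qt rels S := ed sl_gt s0_v1078
def s0_v3022 : Qt rels S := ed sl_ft s0_v1080
def s0_v3029 : Qt rels S := ed sl_at s0_v1084
def s0_v3031 : Qt rels S := ed sl_gt s0_v1084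
def s0_v3034 : Qt rels S := ed sl_ct s0_v1086
def s0_v3043 : Qt rels S := ed sl_ct s0_v1090
def s0_v3058 : Qt rels S := ed sl_gt s0_v1098
def s0_v3060 : Qt rels S := ed sl_gt s0_v1101
def s0_v3065 : Qt rels S := ed sl_gt s0_v1103
def s0_v3072 : Qt rels S := ed sl_bt s0_v1107
def s0_v3079 : Qt rels S := ed sl_ft s0_v1110
def s0_v3084 : Qt rels S := ed sl_ft s0_v1113
def s0_v3087 : Qt rels S := ed sl_ft s0_v1114
def s0_v3096 : Qt rels S := ed sl_bt s0_v1119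
def s0_v3102 : Qt rels S := ed sl_at s0_v1122
def s0_v3103 : Qt rels S := ed sl_gt s0_v1122
def s0_v3160 : Qt rels S := ed sl_bt s0_v1154
def s0_v3326 : Qt rels S := ed sl_at s0_v1227
def s0_v3327 : Qt rels S := ed sl_ct s0_v1227
def s0_v3353 : Qt rels S := ed sl_ct s0_v1240
def s0_v3525 : Qt rels S := ed sl_bt s0_v1337
def s0_v3667 : Qt rels S := ed sl_dt s0_v1420
def s0_v3672 : Qt rels S := ed sl_ft s0_v1422
def s0_v3689 : Qt rels S := ed sl_ft s0_v1431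
def s0_v3701 : Qt rels S := ed sl_gt s0_v1437
def s0_v3710 : Qt rels S := ed sl_dt s0_v1442
def s0_v3711 : Qt rels S := ed sl_ft s0_v1442
def s0_v3712 : Qt rels S := ed sl_gt s0_v1442
def s0_v3714 : Qt rels S := ed sl_ft s0_v1443
def s0_v3715 : Qt rels S := ed sl_gt s0_v1443
def s0_v3718 : Qt rels S := ed sl_gt s0_v1444
def s0_v3719 : Qt rels S := ed sl_bt s0_v1445
def s0_v3720 : Qt rels S := ed sl_gt s0_v1445
def s0_v3726 : Qt rels S := ed sl_gt s0_v1449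
def s0_v3732 : Qt rels S := ed sl_ct s0_v1452
def s0_v3733 : Qt rels S := ed sl_gt s0_v1452
def s0_v3736 : Qt rels S := ed sl_ft s0_v1454
def s0_v3908 : Qt rels S := ed sl_ft s0_v1552
def s0_v3909 : Qt rels S := ed sl_gt s0_v1552
def s0_v3915 : Qt rels S := ed sl_gt s0_v1556
def s0_v3917 : Qt rels S := ed sl_ft s0_v1557
def s0_v3921 : Qt rels S := ed sl_bt s0_v1560
def s0_v3965 : Qt rels S := ed sl_ft s0_v1588
def s0_v5041 : Qt rels S := ed sl_at sq1840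
def s0_v5550 : Qt rels S := ed sl_ct s0_v2115
def s0_v5919 : Qt rels S := ed sl_bt s0_v2328
def s0_v6016 : Qt rels S := ed sl_bt s0_v2376
def s0_v6036 : Qt rels S := ed sl_bt s0_v2385
def s0_v6064 : Qt rels S := ed sl_bt s0_v2401
def s0_v6292 : Qt rels S := ed sl_bt s0_v2538
def s0_v6331 : Qt rels S := ed sl_bt s0_v2556
def s0_v6436 : Qt rels S := ed sl_dt s0_v2612
def s0_v6442 : Qt rels S := ed sl_ct s0_v2614
def s0_v6449 : Qt rels S := ed sl_bt s0_v2618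
def s0_v6457 : Qt rels S := ed sl_ft s0_v2621
def s0_v6487 : Qt rels S := ed sl_ft s0_v2634
def s0_v6489 : Qt rels S := ed sl_ct s0_v2635
def s0_v6502 : Qt rels S := ed sl_bt s0_v2641
def s0_v6505 : Qt rels S := ed sl_gt s0_v2641
def s0_v6510 : Qt rels S := ed sl_ct s0_v2644
def s0_v6511 : Qt rels S := ed sl_gt s0_v2644
def s0_v6516 : Qt rels S := ed sl_bt s0_v2647
def s0_v6519 : Qt rels S := ed sl_gt s0_v2648
def s0_v6526 : Qt rels S := ed sl_gt s0_v2651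
def s0_v6814 : Qt rels S := ed sl_ct s0_v2785
def s0_v6942 : Qt rels S := ed sl_ct s0_v2844
def s0_v6982 : Qt rels S := ed sl_ct s0_v2864
def s0_v7197 : Qt rels S := ed sl_at s0_v2973
def s0_v7198 : Qt rels S := ed sl_ct s0_v2973
def s0_v7199 : Qt rels S := ed sl_gt s0_v2973
def s0_v7291 : Qt rels S := ed sl_bt s0_v3034
def s0_v7306 : Qt rels S := ed sl_bt s0_v3043
def s0_v7348 : Qt rels S := ed sl_at s0_v3072
def s0_v7350 : Qt rels S := ed sl_ft s0_v3072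
def s0_v7366 : Qt rels S := ed sl_at s0_v3096
def s0_v7369 : Qt rels S := ed sl_gt s0_v3096
def relWi_0_s0 : Word Gen := [sl_af, sl_af]
theorem relone_inv_0_s0 : wG rels relWi_0_s0 = 1 :=
  relone_inv rels relW_0 relone_0
def relWi_1_s0 : Word Gen := [sl_bf, sl_af, sl_bf, sl_af, sl_bf, sl_af, sl_bf, sl_af, sl_bf, sl_af]
theorem relone_inv_1_s0 : wG rels relWi_1_s0 = 1 :=
  relone_inv rels relW_1 relone_1
def relWi_2_s0 : Word Gen := [sl_cf, sl_af, sl_cf, sl_af]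
theorem relone_inv_2_s0 : wG rels relWi_2_s0 = 1 :=
  relone_inv rels relW_2 relone_2
def relWi_3_s0 : Word Gen := [sl_df, sl_af, sl_df, sl_af]
theorem relone_inv_3_s0 : wG rels relWi_3_s0 = 1 :=
  relone_inv rels relW_3 relone_3
def relWi_4_s0 : Word Gen := [sl_ef, sl_af, sl_ef, sl_af]
theorem relone_inv_4_s0 : wG rels relWi_4_s0 = 1 :=
  relone_inv rels relW_4 relone_4
def relWi_5_s0 : Word Gen := [sl_ff, sl_af, sl_ff, sl_af]
theorem relone_inv_5_s0 : wG rels relWi_5_s0 = 1 :=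
  relone_inv rels relW_5 relone_5
def relWi_6_s0 : Word Gen := [sl_gf, sl_af, sl_gf, sl_af]
theorem relone_inv_6_s0 : wG rels relWi_6_s0 = 1 :=
  relone_inv rels relW_6 relone_6
def relWi_7_s0 : Word Gen := [sl_bf, sl_bf]
theorem relone_inv_7_s0 : wG rels relWi_7_s0 = 1 :=
  relone_inv rels relW_7 relone_7
def relWi_8_s0 : Word Gen := [sl_cf, sl_bf, sl_cf, sl_bf, sl_cf, sl_bf]
theorem relone_inv_8_s0 : wG rels relWi_8_s0 = 1 :=
  relone_inv rels relW_8 relone_8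
def relWi_9_s0 : Word Gen := [sl_df, sl_bf, sl_df, sl_bf]
theorem relone_inv_9_s0 : wG rels relWi_9_s0 = 1 :=
  relone_inv rels relW_9 relone_9
def relWi_10_s0 : Word Gen := [sl_ef, sl_bf, sl_ef, sl_bf]
theorem relone_inv_10_s0 : wG rels relWi_10_s0 = 1 :=
  relone_inv rels relW_10 relone_10
def relWi_11_s0 : Word Gen := [sl_ff, sl_bf, sl_ff, sl_bf, sl_ff, sl_bf]
theorem relone_inv_11_s0 : wG rels relWi_11_s0 = 1 :=
  relone_inv rels relW_11 relone_11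
def relWi_12_s0 : Word Gen := [sl_gf, sl_bf, sl_gf, sl_bf, sl_gf, sl_bf]
theorem relone_inv_12_s0 : wG rels relWi_12_s0 = 1 :=
  relone_inv rels relW_12 relone_12
def relWi_13_s0 : Word Gen := [sl_cf, sl_cf]
theorem relone_inv_13_s0 : wG rels relWi_13_s0 = 1 :=
  relone_inv rels relW_13 relone_13
def relWi_15_s0 : Word Gen := [sl_ef, sl_cf, sl_ef, sl_cf]
theorem relone_inv_15_s0 : wG rels relWi_15_s0 = 1 :=
  relone_inv rels relW_15 relone_15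
def relWi_16_s0 : Word Gen := [sl_ff, sl_cf, sl_ff, sl_cf]
theorem relone_inv_16_s0 : wG rels relWi_16_s0 = 1 :=
  relone_inv rels relW_16 relone_16
def relWi_17_s0 : Word Gen := [sl_gf, sl_cf, sl_gf, sl_cf]
theorem relone_inv_17_s0 : wG rels relWi_17_s0 = 1 :=
  relone_inv rels relW_17 relone_17
def relWi_18_s0 : Word Gen := [sl_df, sl_df]
theorem relone_inv_18_s0 : wG rels relWi_18_s0 = 1 :=
  relone_inv rels relW_18 relone_18
def relWi_20_s0 : Word Gen := [sl_ff, sl_df, sl_ff, sl_df]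
theorem relone_inv_20_s0 : wG rels relWi_20_s0 = 1 :=
  relone_inv rels relW_20 relone_20
def relWi_21_s0 : Word Gen := [sl_gf, sl_df, sl_gf, sl_df]
theorem relone_inv_21_s0 : wG rels relWi_21_s0 = 1 :=
  relone_inv rels relW_21 relone_21
def relWi_23_s0 : Word Gen := [sl_ff, sl_ef, sl_ff, sl_ef]
theorem relone_inv_23_s0 : wG rels relWi_23_s0 = 1 :=
  relone_inv rels relW_23 relone_23
def relWi_25_s0 : Word Gen := [sl_ff, sl_ff]
theorem relone_inv_25_s0 : wG rels relWi_25_s0 = 1 :=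
  relone_inv rels relW_25 relone_25
def relWi_26_s0 : Word Gen := [sl_gf, sl_ff, sl_gf, sl_ff, sl_gf, sl_ff, sl_gf, sl_ff]
theorem relone_inv_26_s0 : wG rels relWi_26_s0 = 1 :=
  relone_inv rels relW_26 relone_26
def relWi_27_s0 : Word Gen := [sl_gf, sl_gf]
theorem relone_inv_27_s0 : wG rels relWi_27_s0 = 1 :=
  relone_inv rels relW_27 relone_27
def relWi_28_s0 : Word Gen := [sl_ct, sl_dt, sl_ct, sl_dt, sl_ct, sl_dt, sl_ct, sl_dt, sl_af]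
theorem relone_inv_28_s0 : wG rels relWi_28_s0 = 1 :=
  relone_inv rels relW_28 relone_28
def relWi_29_s0 : Word Gen := [sl_ft, sl_gt, sl_ft, sl_gt, sl_af]
theorem relone_inv_29_s0 : wG rels relWi_29_s0 = 1 :=
  relone_inv rels relW_29 relone_29
def relWi_30_s0 : Word Gen := [sl_ff, sl_cf, sl_bf, sl_af, sl_ff, sl_cf, sl_bf, sl_af, sl_ff, sl_cf, sl_bf, sl_af, sl_ff, sl_cf, sl_bf, sl_af, sl_ff, sl_cf, sl_bf, sl_af]
theorem relone_inv_30_s0 : wG rels relWi_30_s0 = 1 :=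
  relone_inv rels relW_30 relone_30
def relWi_31_s0 : Word Gen := [sl_gf, sl_ff, sl_bf, sl_gf, sl_ff, sl_bf, sl_gf, sl_ff, sl_bf, sl_gf, sl_ff, sl_bf, sl_gf, sl_ff, sl_bf]
theorem relone_inv_31_s0 : wG rels relWi_31_s0 = 1 :=
  relone_inv rels relW_31 relone_31
theorem s0_rot0 : wG rels [sl_af, sl_af] = 1 :=
  wG_of_rotate rels relWi_0_s0 [sl_af, sl_af] 0 (by decide +kernel) relone_inv_0_s0
theorem s0_rot1 : wG rels [sl_ff, sl_af, sl_ff, sl_af] = 1 :=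
  wG_of_rotate rels relWi_5_s0 [sl_ff, sl_af, sl_ff, sl_af] 0 (by decide +kernel) relone_inv_5_s0
theorem s0_rot2 : wG rels [sl_cf, sl_af, sl_cf, sl_af] = 1 :=
  wG_of_rotate rels relWi_2_s0 [sl_cf, sl_af, sl_cf, sl_af] 0 (by decide +kernel) relone_inv_2_s0
theorem s0_rot3 : wG rels [sl_gf, sl_af, sl_gf, sl_af] = 1 :=
  wG_of_rotate rels relWi_6_s0 [sl_gf, sl_af, sl_gf, sl_af] 0 (by decide +kernel) relone_inv_6_s0
theorem s0_rot4 : wG rels [sl_df, sl_af, sl_df, sl_af] = 1 :=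
  wG_of_rotate rels relWi_3_s0 [sl_df, sl_af, sl_df, sl_af] 0 (by decide +kernel) relone_inv_3_s0
theorem s0_rot5 : wG rels [sl_dt, sl_ft, sl_dt, sl_ft] = 1 :=
  wG_of_rotate rels relW_20 [sl_dt, sl_ft, sl_dt, sl_ft] 0 (by decide +kernel) relone_20
theorem s0_rot6 : wG rels [sl_gf, sl_gf] = 1 :=
  wG_of_rotate rels relWi_27_s0 [sl_gf, sl_gf] 0 (by decide +kernel) relone_inv_27_s0
theorem s0_rot7 : wG rels [sl_dt, sl_gt, sl_dt, sl_gt] = 1 :=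
  wG_of_rotate rels relW_21 [sl_dt, sl_gt, sl_dt, sl_gt] 0 (by decide +kernel) relone_21
theorem s0_rot8 : wG rels [sl_ef, sl_af, sl_ef, sl_af] = 1 :=
  wG_of_rotate rels relWi_4_s0 [sl_ef, sl_af, sl_ef, sl_af] 0 (by decide +kernel) relone_inv_4_s0
theorem s0_rot9 : wG rels [sl_et, sl_ft, sl_et, sl_ft] = 1 :=
  wG_of_rotate rels relW_23 [sl_et, sl_ft, sl_et, sl_ft] 0 (by decide +kernel) relone_23
theorem s0_rot10 : wG rels [sl_ft, sl_gt, sl_ft, sl_gt, sl_af] = 1 :=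
  wG_of_rotate rels relWi_29_s0 [sl_ft, sl_gt, sl_ft, sl_gt, sl_af] 0 (by decide +kernel) relone_inv_29_s0
theorem s0_rot11 : wG rels [sl_ff, sl_cf, sl_ff, sl_cf] = 1 :=
  wG_of_rotate rels relWi_16_s0 [sl_ff, sl_cf, sl_ff, sl_cf] 0 (by decide +kernel) relone_inv_16_s0
theorem s0_rot12 : wG rels [sl_ff, sl_ff] = 1 :=
  wG_of_rotate rels relWi_25_s0 [sl_ff, sl_ff] 0 (by decide +kernel) relone_inv_25_s0
theorem s0_rot13 : wG rels [sl_bt, sl_ft, sl_bt, sl_ft, sl_bt, sl_ft] = 1 :=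
  wG_of_rotate rels relW_11 [sl_bt, sl_ft, sl_bt, sl_ft, sl_bt, sl_ft] 0 (by decide +kernel) relone_11
theorem s0_rot14 : wG rels [sl_ft, sl_ct, sl_ft, sl_ct] = 1 :=
  wG_of_rotate rels relW_16 [sl_ft, sl_ct, sl_ft, sl_ct] 1 (by decide +kernel) relone_16
theorem s0_rot15 : wG rels [sl_gt, sl_ft, sl_gt, sl_af, sl_ft] = 1 :=
  wG_of_rotate rels relWi_29_s0 [sl_gt, sl_ft, sl_gt, sl_af, sl_ft] 1 (by decide +kernel) relone_inv_29_s0
theorem s0_rot16 : wG rels [sl_gf, sl_cf, sl_gf, sl_cf] = 1 :=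
  wG_of_rotate rels relWi_17_s0 [sl_gf, sl_cf, sl_gf, sl_cf] 0 (by decide +kernel) relone_inv_17_s0
theorem s0_rot17 : wG rels [sl_bf, sl_bf] = 1 :=
  wG_of_rotate rels relWi_7_s0 [sl_bf, sl_bf] 0 (by decide +kernel) relone_inv_7_s0
theorem s0_rot18 : wG rels [sl_at, sl_ft, sl_at, sl_ft] = 1 :=
  wG_of_rotate rels relW_5 [sl_at, sl_ft, sl_at, sl_ft] 0 (by decide +kernel) relone_5
theorem s0_rot19 : wG rels [sl_at, sl_gt, sl_at, sl_gt] = 1 :=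
  wG_of_rotate rels relW_6 [sl_at, sl_gt, sl_at, sl_gt] 0 (by decide +kernel) relone_6
theorem s0_rot20 : wG rels [sl_ft, sl_ft] = 1 :=
  wG_of_rotate rels relW_25 [sl_ft, sl_ft] 0 (by decide +kernel) relone_25
theorem s0_rot21 : wG rels [sl_ff, sl_gf, sl_ff, sl_at, sl_gf] = 1 :=
  wG_of_rotate rels relW_29 [sl_ff, sl_gf, sl_ff, sl_at, sl_gf] 2 (by decide +kernel) relone_29
theorem s0_rot22 : wG rels [sl_gf, sl_ff, sl_at, sl_gf, sl_ff] = 1 :=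
  wG_of_rotate rels relW_29 [sl_gf, sl_ff, sl_at, sl_gf, sl_ff] 3 (by decide +kernel) relone_29
theorem s0_rot23 : wG rels [sl_gt, sl_gt] = 1 :=
  wG_of_rotate rels relW_27 [sl_gt, sl_gt] 0 (by decide +kernel) relone_27
theorem s0_rot24 : wG rels [sl_gf, sl_ff, sl_gf, sl_ff, sl_gf, sl_ff, sl_gf, sl_ff] = 1 :=
  wG_of_rotate rels relWi_26_s0 [sl_gf, sl_ff, sl_gf, sl_ff, sl_gf, sl_ff, sl_gf, sl_ff] 0 (by decide +kernel) relone_inv_26_s0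
theorem s0_rot25 : wG rels [sl_at, sl_gf, sl_ff, sl_gf, sl_ff] = 1 :=
  wG_of_rotate rels relW_29 [sl_at, sl_gf, sl_ff, sl_gf, sl_ff] 0 (by decide +kernel) relone_29
theorem s0_rot26 : wG rels [sl_af, sl_gf, sl_af, sl_gf] = 1 :=
  wG_of_rotate rels relWi_6_s0 [sl_af, sl_gf, sl_af, sl_gf] 1 (by decide +kernel) relone_inv_6_s0
theorem s0_rot27 : wG rels [sl_ct, sl_ft, sl_ct, sl_ft] = 1 :=
  wG_of_rotate rels relW_16 [sl_ct, sl_ft, sl_ct, sl_ft] 0 (by decide +kernel) relone_16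
theorem s0_rot28 : wG rels [sl_df, sl_df] = 1 :=
  wG_of_rotate rels relWi_18_s0 [sl_df, sl_df] 0 (by decide +kernel) relone_inv_18_s0
theorem s0_rot29 : wG rels [sl_ff, sl_df, sl_ff, sl_df] = 1 :=
  wG_of_rotate rels relWi_20_s0 [sl_ff, sl_df, sl_ff, sl_df] 0 (by decide +kernel) relone_inv_20_s0
theorem s0_rot30 : wG rels [sl_ct, sl_gt, sl_ct, sl_gt] = 1 :=
  wG_of_rotate rels relW_17 [sl_ct, sl_gt, sl_ct, sl_gt] 0 (by decide +kernel) relone_17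
theorem s0_rot31 : wG rels [sl_cf, sl_cf] = 1 :=
  wG_of_rotate rels relWi_13_s0 [sl_cf, sl_cf] 0 (by decide +kernel) relone_inv_13_s0
theorem s0_rot32 : wG rels [sl_bf, sl_gf, sl_bf, sl_gf, sl_bf, sl_gf] = 1 :=
  wG_of_rotate rels relWi_12_s0 [sl_bf, sl_gf, sl_bf, sl_gf, sl_bf, sl_gf] 1 (by decide +kernel) relone_inv_12_s0
theorem s0_rot33 : wG rels [sl_gf, sl_df, sl_gf, sl_df] = 1 :=
  wG_of_rotate rels relWi_21_s0 [sl_gf, sl_df, sl_gf, sl_df] 0 (by decide +kernel) relone_inv_21_s0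
theorem s0_rot34 : wG rels [sl_bt, sl_ct, sl_bt, sl_ct, sl_bt, sl_ct] = 1 :=
  wG_of_rotate rels relW_8 [sl_bt, sl_ct, sl_bt, sl_ct, sl_bt, sl_ct] 0 (by decide +kernel) relone_8
theorem s0_rot35 : wG rels [sl_bt, sl_gt, sl_bt, sl_gt, sl_bt, sl_gt] = 1 :=
  wG_of_rotate rels relW_12 [sl_bt, sl_gt, sl_bt, sl_gt, sl_bt, sl_gt] 0 (by decide +kernel) relone_12
theorem s0_rot36 : wG rels [sl_df, sl_bf, sl_df, sl_bf] = 1 :=
  wG_of_rotate rels relWi_9_s0 [sl_df, sl_bf, sl_df, sl_bf] 0 (by decide +kernel) relone_inv_9_s0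
theorem s0_rot37 : wG rels [sl_dt, sl_dt] = 1 :=
  wG_of_rotate rels relW_18 [sl_dt, sl_dt] 0 (by decide +kernel) relone_18
theorem s0_rot38 : wG rels [sl_ef, sl_bf, sl_ef, sl_bf] = 1 :=
  wG_of_rotate rels relWi_10_s0 [sl_ef, sl_bf, sl_ef, sl_bf] 0 (by decide +kernel) relone_inv_10_s0
theorem s0_rot39 : wG rels [sl_et, sl_et] = 1 :=
  wG_of_rotate rels relW_22 [sl_et, sl_et] 0 (by decide +kernel) relone_22
theorem s0_rot40 : wG rels [sl_bf, sl_af, sl_ff, sl_cf, sl_bf, sl_af, sl_ff, sl_cf, sl_bf, sl_af, sl_ff, sl_cf, sl_bf, sl_af, sl_ff, sl_cf, sl_bf, sl_af, sl_ff, sl_cf] = 1 :=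
  wG_of_rotate rels relWi_30_s0 [sl_bf, sl_af, sl_ff, sl_cf, sl_bf, sl_af, sl_ff, sl_cf, sl_bf, sl_af, sl_ff, sl_cf, sl_bf, sl_af, sl_ff, sl_cf, sl_bf, sl_af, sl_ff, sl_cf] 2 (by decide +kernel) relone_inv_30_s0
theorem s0_rot41 : wG rels [sl_at, sl_bt, sl_at, sl_bt, sl_at, sl_bt, sl_at, sl_bt, sl_at, sl_bt] = 1 :=
  wG_of_rotate rels relW_1 [sl_at, sl_bt, sl_at, sl_bt, sl_at, sl_bt, sl_at, sl_bt, sl_at, sl_bt] 0 (by decide +kernel) relone_1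
theorem s0_rot42 : wG rels [sl_ft, sl_bt, sl_ft, sl_bt, sl_ft, sl_bt] = 1 :=
  wG_of_rotate rels relW_11 [sl_ft, sl_bt, sl_ft, sl_bt, sl_ft, sl_bt] 1 (by decide +kernel) relone_11
theorem s0_rot43 : wG rels [sl_af, sl_df, sl_af, sl_df] = 1 :=
  wG_of_rotate rels relWi_3_s0 [sl_af, sl_df, sl_af, sl_df] 1 (by decide +kernel) relone_inv_3_s0
theorem s0_rot44 : wG rels [sl_at, sl_ct, sl_at, sl_ct] = 1 :=
  wG_of_rotate rels relW_2 [sl_at, sl_ct, sl_at, sl_ct] 0 (by decide +kernel) relone_2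
theorem s0_rot45 : wG rels [sl_bf, sl_df, sl_bf, sl_df] = 1 :=
  wG_of_rotate rels relWi_9_s0 [sl_bf, sl_df, sl_bf, sl_df] 1 (by decide +kernel) relone_inv_9_s0
theorem s0_rot46 : wG rels [sl_bt, sl_dt, sl_bt, sl_dt] = 1 :=
  wG_of_rotate rels relW_9 [sl_bt, sl_dt, sl_bt, sl_dt] 0 (by decide +kernel) relone_9
theorem s0_rot47 : wG rels [sl_cf, sl_ff, sl_cf, sl_ff] = 1 :=
  wG_of_rotate rels relWi_16_s0 [sl_cf, sl_ff, sl_cf, sl_ff] 1 (by decide +kernel) relone_inv_16_s0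
theorem s0_rot48 : wG rels [sl_af, sl_cf, sl_af, sl_cf] = 1 :=
  wG_of_rotate rels relWi_2_s0 [sl_af, sl_cf, sl_af, sl_cf] 1 (by decide +kernel) relone_inv_2_s0
theorem s0_rot49 : wG rels [sl_ff, sl_bf, sl_ff, sl_bf, sl_ff, sl_bf] = 1 :=
  wG_of_rotate rels relWi_11_s0 [sl_ff, sl_bf, sl_ff, sl_bf, sl_ff, sl_bf] 0 (by decide +kernel) relone_inv_11_s0
theorem s0_rot50 : wG rels [sl_gf, sl_bf, sl_gf, sl_bf, sl_gf, sl_bf] = 1 :=
  wG_of_rotate rels relWi_12_s0 [sl_gf, sl_bf, sl_gf, sl_bf, sl_gf, sl_bf] 0 (by decide +kernel) relone_inv_12_s0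
theorem s0_rot51 : wG rels [sl_bf, sl_ff, sl_bf, sl_ff, sl_bf, sl_ff] = 1 :=
  wG_of_rotate rels relWi_11_s0 [sl_bf, sl_ff, sl_bf, sl_ff, sl_bf, sl_ff] 1 (by decide +kernel) relone_inv_11_s0
theorem s0_rot52 : wG rels [sl_cf, sl_bf, sl_cf, sl_bf, sl_cf, sl_bf] = 1 :=
  wG_of_rotate rels relWi_8_s0 [sl_cf, sl_bf, sl_cf, sl_bf, sl_cf, sl_bf] 0 (by decide +kernel) relone_inv_8_s0
theorem s0_rot53 : wG rels [sl_bf, sl_af, sl_bf, sl_af, sl_bf, sl_af, sl_bf, sl_af, sl_bf, sl_af] = 1 :=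
  wG_of_rotate rels relWi_1_s0 [sl_bf, sl_af, sl_bf, sl_af, sl_bf, sl_af, sl_bf, sl_af, sl_bf, sl_af] 0 (by decide +kernel) relone_inv_1_s0
theorem s0_rot54 : wG rels [sl_bt, sl_bt] = 1 :=
  wG_of_rotate rels relW_7 [sl_bt, sl_bt] 0 (by decide +kernel) relone_7
theorem s0_rot55 : wG rels [sl_cf, sl_df, sl_cf, sl_df, sl_cf, sl_df, sl_cf, sl_at, sl_df] = 1 :=
  wG_of_rotate rels relW_28 [sl_cf, sl_df, sl_cf, sl_df, sl_cf, sl_df, sl_cf, sl_at, sl_df] 2 (by decide +kernel) relone_28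
theorem s0_rot56 : wG rels [sl_cf, sl_gf, sl_cf, sl_gf] = 1 :=
  wG_of_rotate rels relWi_17_s0 [sl_cf, sl_gf, sl_cf, sl_gf] 1 (by decide +kernel) relone_inv_17_s0
theorem s0_rot57 : wG rels [sl_gt, sl_ft, sl_gt, sl_ft, sl_gt, sl_ft, sl_gt, sl_ft] = 1 :=
  wG_of_rotate rels relW_26 [sl_gt, sl_ft, sl_gt, sl_ft, sl_gt, sl_ft, sl_gt, sl_ft] 1 (by decide +kernel) relone_26
theorem s0_rot58 : wG rels [sl_af, sl_ff, sl_af, sl_ff] = 1 :=
  wG_of_rotate rels relWi_5_s0 [sl_af, sl_ff, sl_af, sl_ff] 1 (by decide +kernel) relone_inv_5_s0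
theorem s0_rot59 : wG rels [sl_ft, sl_at, sl_bt, sl_ct, sl_ft, sl_at, sl_bt, sl_ct, sl_ft, sl_at, sl_bt, sl_ct, sl_ft, sl_at, sl_bt, sl_ct, sl_ft, sl_at, sl_bt, sl_ct] = 1 :=
  wG_of_rotate rels relW_30 [sl_ft, sl_at, sl_bt, sl_ct, sl_ft, sl_at, sl_bt, sl_ct, sl_ft, sl_at, sl_bt, sl_ct, sl_ft, sl_at, sl_bt, sl_ct, sl_ft, sl_at, sl_bt, sl_ct] 3 (by decide +kernel) relone_30
theorem s0_rot60 : wG rels [sl_ff, sl_gf, sl_ff, sl_gf, sl_ff, sl_gf, sl_ff, sl_gf] = 1 :=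
  wG_of_rotate rels relWi_26_s0 [sl_ff, sl_gf, sl_ff, sl_gf, sl_ff, sl_gf, sl_ff, sl_gf] 1 (by decide +kernel) relone_inv_26_s0
theorem s0_rot61 : wG rels [sl_gf, sl_ff, sl_bf, sl_gf, sl_ff, sl_bf, sl_gf, sl_ff, sl_bf, sl_gf, sl_ff, sl_bf, sl_gf, sl_ff, sl_bf] = 1 :=
  wG_of_rotate rels relWi_31_s0 [sl_gf, sl_ff, sl_bf, sl_gf, sl_ff, sl_bf, sl_gf, sl_ff, sl_bf, sl_gf, sl_ff, sl_bf, sl_gf, sl_ff, sl_bf] 0 (by decide +kernel) relone_inv_31_s0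
theorem s0_rot62 : wG rels [sl_ff, sl_bf, sl_gf, sl_ff, sl_bf, sl_gf, sl_ff, sl_bf, sl_gf, sl_ff, sl_bf, sl_gf, sl_ff, sl_bf, sl_gf] = 1 :=
  wG_of_rotate rels relWi_31_s0 [sl_ff, sl_bf, sl_gf, sl_ff, sl_bf, sl_gf, sl_ff, sl_bf, sl_gf, sl_ff, sl_bf, sl_gf, sl_ff, sl_bf, sl_gf] 1 (by decide +kernel) relone_inv_31_s0
theorem s0_rot63 : wG rels [sl_bf, sl_gf, sl_ff, sl_bf, sl_gf, sl_ff, sl_bf, sl_gf, sl_ff, sl_bf, sl_gf, sl_ff, sl_bf, sl_gf, sl_ff] = 1 :=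
  wG_of_rotate rels relWi_31_s0 [sl_bf, sl_gf, sl_ff, sl_bf, sl_gf, sl_ff, sl_bf, sl_gf, sl_ff, sl_bf, sl_gf, sl_ff, sl_bf, sl_gf, sl_ff] 2 (by decide +kernel) relone_inv_31_s0
theorem s0_rot64 : wG rels [sl_af, sl_bf, sl_af, sl_bf, sl_af, sl_bf, sl_af, sl_bf, sl_af, sl_bf] = 1 :=
  wG_of_rotate rels relWi_1_s0 [sl_af, sl_bf, sl_af, sl_bf, sl_af, sl_bf, sl_af, sl_bf, sl_af, sl_bf] 1 (by decide +kernel) relone_inv_1_s0
theorem s0_rot65 : wG rels [sl_df, sl_cf, sl_df, sl_cf, sl_df, sl_cf, sl_at, sl_df, sl_cf] = 1 :=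
  wG_of_rotate rels relW_28 [sl_df, sl_cf, sl_df, sl_cf, sl_df, sl_cf, sl_at, sl_df, sl_cf] 3 (by decide +kernel) relone_28
theorem s0_rot66 : wG rels [sl_bt, sl_at, sl_bt, sl_at, sl_bt, sl_at, sl_bt, sl_at, sl_bt, sl_at] = 1 :=
  wG_of_rotate rels relW_1 [sl_bt, sl_at, sl_bt, sl_at, sl_bt, sl_at, sl_bt, sl_at, sl_bt, sl_at] 1 (by decide +kernel) relone_1
theorem s0_rot67 : wG rels [sl_bt, sl_ft, sl_gt, sl_bt, sl_ft, sl_gt, sl_bt, sl_ft, sl_gt, sl_bt, sl_ft, sl_gt, sl_bt, sl_ft, sl_gt] = 1 :=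
  wG_of_rotate rels relW_31 [sl_bt, sl_ft, sl_gt, sl_bt, sl_ft, sl_gt, sl_bt, sl_ft, sl_gt, sl_bt, sl_ft, sl_gt, sl_bt, sl_ft, sl_gt] 0 (by decide +kernel) relone_31
theorem s0_rot68 : wG rels [sl_ff, sl_cf, sl_bf, sl_af, sl_ff, sl_cf, sl_bf, sl_af, sl_ff, sl_cf, sl_bf, sl_af, sl_ff, sl_cf, sl_bf, sl_af, sl_ff, sl_cf, sl_bf, sl_af] = 1 :=
  wG_of_rotate rels relWi_30_s0 [sl_ff, sl_cf, sl_bf, sl_af, sl_ff, sl_cf, sl_bf, sl_af, sl_ff, sl_cf, sl_bf, sl_af, sl_ff, sl_cf, sl_bf, sl_af, sl_ff, sl_cf, sl_bf, sl_af] 0 (by decide +kernel) relone_inv_30_s0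
theorem s0_rot69 : wG rels [sl_bf, sl_cf, sl_bf, sl_cf, sl_bf, sl_cf] = 1 :=
  wG_of_rotate rels relWi_8_s0 [sl_bf, sl_cf, sl_bf, sl_cf, sl_bf, sl_cf] 1 (by decide +kernel) relone_inv_8_s0
theorem s0_rot70 : wG rels [sl_ef, sl_cf, sl_ef, sl_cf] = 1 :=
  wG_of_rotate rels relWi_15_s0 [sl_ef, sl_cf, sl_ef, sl_cf] 0 (by decide +kernel) relone_inv_15_s0
theorem s0_rot71 : wG rels [sl_bf, sl_ef, sl_bf, sl_ef] = 1 :=
  wG_of_rotate rels relWi_10_s0 [sl_bf, sl_ef, sl_bf, sl_ef] 1 (by decide +kernel) relone_inv_10_s0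
theorem s0_rot72 : wG rels [sl_df, sl_ff, sl_df, sl_ff] = 1 :=
  wG_of_rotate rels relWi_20_s0 [sl_df, sl_ff, sl_df, sl_ff] 1 (by decide +kernel) relone_inv_20_s0
theorem s0_rot73 : wG rels [sl_ef, sl_ff, sl_ef, sl_ff] = 1 :=
  wG_of_rotate rels relWi_23_s0 [sl_ef, sl_ff, sl_ef, sl_ff] 1 (by decide +kernel) relone_inv_23_s0
theorem s0_rot74 : wG rels [sl_et, sl_gt, sl_et, sl_gt] = 1 :=
  wG_of_rotate rels relW_24 [sl_et, sl_gt, sl_et, sl_gt] 0 (by decide +kernel) relone_24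
theorem s0_rot75 : wG rels [sl_bt, sl_ct, sl_ft, sl_at, sl_bt, sl_ct, sl_ft, sl_at, sl_bt, sl_ct, sl_ft, sl_at, sl_bt, sl_ct, sl_ft, sl_at, sl_bt, sl_ct, sl_ft, sl_at] = 1 :=
  wG_of_rotate rels relW_30 [sl_bt, sl_ct, sl_ft, sl_at, sl_bt, sl_ct, sl_ft, sl_at, sl_bt, sl_ct, sl_ft, sl_at, sl_bt, sl_ct, sl_ft, sl_at, sl_bt, sl_ct, sl_ft, sl_at] 1 (by decide +kernel) relone_30
theorem s0_rot76 : wG rels [sl_ft, sl_dt, sl_ft, sl_dt] = 1 :=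
  wG_of_rotate rels relW_20 [sl_ft, sl_dt, sl_ft, sl_dt] 1 (by decide +kernel) relone_20
theorem s0_rot77 : wG rels [sl_ff, sl_at, sl_gf, sl_ff, sl_gf] = 1 :=
  wG_of_rotate rels relW_29 [sl_ff, sl_at, sl_gf, sl_ff, sl_gf] 4 (by decide +kernel) relone_29
theorem s0_rot78 : wG rels [sl_df, sl_gf, sl_df, sl_gf] = 1 :=
  wG_of_rotate rels relWi_21_s0 [sl_df, sl_gf, sl_df, sl_gf] 1 (by decide +kernel) relone_inv_21_s0
theorem s0_rot79 : wG rels [sl_ct, sl_ct] = 1 :=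
  wG_of_rotate rels relW_13 [sl_ct, sl_ct] 0 (by decide +kernel) relone_13
theorem s0_rot80 : wG rels [sl_af, sl_ff, sl_cf, sl_bf, sl_af, sl_ff, sl_cf, sl_bf, sl_af, sl_ff, sl_cf, sl_bf, sl_af, sl_ff, sl_cf, sl_bf, sl_af, sl_ff, sl_cf, sl_bf] = 1 :=
  wG_of_rotate rels relWi_30_s0 [sl_af, sl_ff, sl_cf, sl_bf, sl_af, sl_ff, sl_cf, sl_bf, sl_af, sl_ff, sl_cf, sl_bf, sl_af, sl_ff, sl_cf, sl_bf, sl_af, sl_ff, sl_cf, sl_bf] 3 (by decide +kernel) relone_inv_30_s0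
theorem s0_rot81 : wG rels [sl_gt, sl_bt, sl_ft, sl_gt, sl_bt, sl_ft, sl_gt, sl_bt, sl_ft, sl_gt, sl_bt, sl_ft, sl_gt, sl_bt, sl_ft] = 1 :=
  wG_of_rotate rels relW_31 [sl_gt, sl_bt, sl_ft, sl_gt, sl_bt, sl_ft, sl_gt, sl_bt, sl_ft, sl_gt, sl_bt, sl_ft, sl_gt, sl_bt, sl_ft] 2 (by decide +kernel) relone_31
theorem s0_rot82 : wG rels [sl_gt, sl_ct, sl_gt, sl_ct] = 1 :=
  wG_of_rotate rels relW_17 [sl_gt, sl_ct, sl_gt, sl_ct] 1 (by decide +kernel) relone_17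
theorem s0_rot83 : wG rels [sl_af, sl_ct, sl_dt, sl_ct, sl_dt, sl_ct, sl_dt, sl_ct, sl_dt] = 1 :=
  wG_of_rotate rels relWi_28_s0 [sl_af, sl_ct, sl_dt, sl_ct, sl_dt, sl_ct, sl_dt, sl_ct, sl_dt] 8 (by decide +kernel) relone_inv_28_s0
theorem s0_rot84 : wG rels [sl_ct, sl_ft, sl_at, sl_bt, sl_ct, sl_ft, sl_at, sl_bt, sl_ct, sl_ft, sl_at, sl_bt, sl_ct, sl_ft, sl_at, sl_bt, sl_ct, sl_ft, sl_at, sl_bt] = 1 :=
  wG_of_rotate rels relW_30 [sl_ct, sl_ft, sl_at, sl_bt, sl_ct, sl_ft, sl_at, sl_bt, sl_ct, sl_ft, sl_at, sl_bt, sl_ct, sl_ft, sl_at, sl_bt, sl_ct, sl_ft, sl_at, sl_bt] 2 (by decide +kernel) relone_30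
theorem s0_rot85 : wG rels [sl_cf, sl_df, sl_cf, sl_df, sl_cf, sl_at, sl_df, sl_cf, sl_df] = 1 :=
  wG_of_rotate rels relW_28 [sl_cf, sl_df, sl_cf, sl_df, sl_cf, sl_at, sl_df, sl_cf, sl_df] 4 (by decide +kernel) relone_28

end

end Cfsg.Agent.Helper28.S1681
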